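import Mathlib
import Cfsg.Agent.Rec.Pres
import Cfsg.Agent.Rec.B5

/-! Generated by tools/rec: the group 2^(1+6):L3(2), letters and presentation -/

set_option autoImplicit false
set_option maxRecDepth 100000
set_option linter.unusedVariables false
set_option exponentiation.threshold 100000

namespace Cfsg.Agent.Rec.L52

open Cfsg.Agent.Spor Cfsg.Agent.Rec

universe u

/-- The arithmetic of `5 × 5` matrices. -/
noncomputable abbrev A : Ar := B5.A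

noncomputable def cH : List ℕ := [(nat_lit 0x1041045), (nat_lit 0x1041049), (nat_lit 0x1041051), (nat_lit 0x10410c1), (nat_lit 0x1041141), (nat_lit 0x1041241), (nat_lit 0x1043041), (nat_lit 0x1045041), (nat_lit 0x10c1041), (nat_lit 0x1041043), (nat_lit 0x1061041), (nat_lit 0x1041841)]

def relR : List (List ℕ) :=
  [[0, 0],
   [1, 1],
   [2, 2],
   [3, 3],
   [4, 4],
   [5, 5],
   [0, 1, 0, 1],
   [0, 2, 0, 2],
   [0, 3, 0, 3],
   [0, 4, 0, 4],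
   [0, 5, 0, 5],
   [1, 2, 1, 2],
   [1, 3, 1, 3],
   [1, 4, 1, 4],
   [1, 5, 1, 5],
   [2, 3, 2, 3],
   [2, 4, 2, 4],
   [2, 5, 2, 5],
   [3, 4, 3, 4],
   [3, 5, 3, 5],
   [4, 5, 4, 5]]

def exT : List (List ℕ) :=
  [[6, 6],
   [7, 7],
   [8, 8],
   [9, 9],
   [6, 0, 6, 1, 0],
   [6, 1, 6, 1],
   [6, 2, 6, 2],
   [6, 3, 6, 4, 3],
   [6, 4, 6, 4],
   [6, 5, 6, 5],
   [7, 0, 7, 2, 0],
   [7, 1, 7, 1],
   [7, 2, 7, 2],
   [7, 3, 7, 5, 3],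
   [7, 4, 7, 4],
   [7, 5, 7, 5],
   [8, 0, 8, 0],
   [8, 1, 8, 2, 1],
   [8, 2, 8, 2],
   [8, 3, 8, 3],
   [8, 4, 8, 5, 4],
   [8, 5, 8, 5],
   [9, 0, 9, 0],
   [9, 1, 9, 1],
   [9, 2, 9, 2],
   [9, 3, 9, 3, 0],
   [9, 4, 9, 4, 1],
   [9, 5, 9, 5, 2],
   [6, 7, 6, 7],
   [7, 8, 7, 8],
   [6, 8, 6, 8, 7],
   [9, 6, 9, 6],
   [9, 7, 9, 7],
   [9, 8, 9, 8]]

def exP : List (List ℕ) :=
  [[10, 10],
   [10, 0, 10, 0],
   [10, 1, 10, 1, 0],
   [10, 2, 10, 2],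
   [10, 3, 10, 3],
   [10, 4, 10, 4, 3],
   [10, 5, 10, 5],
   [10, 6, 10, 6, 10, 6],
   [10, 7, 10, 7, 8],
   [10, 8, 10, 8],
   [10, 9, 10, 9]]

def exH : List (List ℕ) :=
  [[11, 11],
   [11, 3, 11, 3, 11, 3],
   [11, 0, 11, 0, 9],
   [11, 9, 11, 9],
   [11, 8, 11, 8],
   [11, 6, 11, 6],
   [11, 7, 11, 7],
   [11, 4, 11, 4, 6],
   [11, 5, 11, 5, 7],
   [11, 1, 11, 1],
   [11, 2, 11, 2],
   [11, 10, 11, 10, 11, 10, 11, 10]]

def relT : List (List ℕ) := relR ++ exT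

def relP : List (List ℕ) := relT ++ exP

def relH : List (List ℕ) := relP ++ exH

noncomputable def tR_rels : LT :=
(.node (.node (.node (.node (.node (.leaf [])
 (.leaf [nat_lit 2,nat_lit 3,nat_lit 2,nat_lit 3])
) (.leaf [nat_lit 0,nat_lit 2,nat_lit 0,nat_lit 2])
) (.node (.node (.leaf [nat_lit 3,nat_lit 3])
 (.leaf [nat_lit 3,nat_lit 5,nat_lit 3,nat_lit 5])
) (.leaf [nat_lit 1,nat_lit 2,nat_lit 1,nat_lit 2])
)) (.node (.node (.node (.leaf [nat_lit 1,nat_lit 1])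
 (.leaf [nat_lit 2,nat_lit 5,nat_lit 2,nat_lit 5])
) (.leaf [nat_lit 0,nat_lit 4,nat_lit 0,nat_lit 4])
) (.node (.leaf [nat_lit 5,nat_lit 5])
 (.leaf [nat_lit 1,nat_lit 4,nat_lit 1,nat_lit 4])
))) (.node (.node (.node (.node (.leaf [nat_lit 0,nat_lit 0])
 (.leaf [nat_lit 2,nat_lit 4,nat_lit 2,nat_lit 4])
) (.leaf [nat_lit 0,nat_lit 3,nat_lit 0,nat_lit 3])
) (.node (.node (.leaf [nat_lit 4,nat_lit 4])
 (.leaf [nat_lit 4,nat_lit 5,nat_lit 4,nat_lit 5])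
) (.leaf [nat_lit 1,nat_lit 3,nat_lit 1,nat_lit 3])
)) (.node (.node (.node (.leaf [nat_lit 2,nat_lit 2])
 (.leaf [nat_lit 3,nat_lit 4,nat_lit 3,nat_lit 4])
) (.leaf [nat_lit 0,nat_lit 5,nat_lit 0,nat_lit 5])
) (.node (.leaf [nat_lit 0,nat_lit 1,nat_lit 0,nat_lit 1])
 (.leaf [nat_lit 1,nat_lit 5,nat_lit 1,nat_lit 5])
))))
noncomputable def tR_hws : LT :=
(.leaf [])

noncomputable def tR_inv : ℕ → ℕ := getP (nat_lit 8) (nat_lit 255) (nat_lit 0x50403020100)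

noncomputable def tR_t : BT :=
(.node (.node (.node (.leaf (nat_lit 0x425d9f002eefd09627084ac3742539b21288d4c93a6800b1bd00565e0029eec014574009db9424294a1204a108fa4e647926423a92a11c490c8da468469223232909118480010b660081b2003ed8801e6c000eb5e0071ae0036d6801a6b000cb560061aa42200aa10f450c87426843712321a08910c441085c1e642b0e221406890943000813e003d9e001d4e800de7000693600319a00174c800ae6000512e00259642078319034148816082409030203810003e2c001b14000b890004c40001e1c000100080001))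
 (.leaf (nat_lit 0xe25f9d712e4d7896863c4af2ee25516002fefc013955c49b27e24b927124c8801737c0088a0e2438f7120c7001697a00789ae23b8c802bef000d92e00aabb00324b02270e788be29c45c12004ddc001524388a61e0097b70025c68024ed8008b18088834e220858021ecc0073120083b20019c4021e0c000ef5e002a8704361682190af88460c005fa9000f4200172a00035060854260029d280052081096460845210020cf800320410723a08331b04150c0008e54000900081e13040d088205038101814080405))
) (.node (.leaf (nat_lit 0xb25e9e592dcdec9646600bdbfb25497d9290ba893e5b649929005bdf5924896c91c49448a2300595ed92087ec8fc3d447a1d0054dd80292e8013f73646b19a2338c4918c5c013371645b15b22c0a511544c01256c008eb500455a591283e888e1d24440d004159001fac400f56164380ba21a85490c82400d7580067ab0031d5000921c00b7500058a7002ad3590741a88360b2419040025510011e84008940001082001c4e000d66c00653400088104120b00076480037220019900001400204030101010080203))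
 (.leaf (nat_lit 0x1ffc000ffe0007ff0003ff8001ffc000ffe0007ff0003ff8001ffc000ffe0007ff0003ff8001ffc000ffe0007ff0003ff8001ffc000ffe0007ff0003ff8001ffc000ffe0007ff0003ff8001ffc000ffe0007ff0003ff8001ffc000ffe0007ff0003ff8001ffc000ffe0007ff0003ff8001ffc000ffe0007ff0003ff8001ffc000ffe0007ff0003ff8001ffc000ffe0007ff0003ff8001ffc000ffe0007ff0003ff8001ffc000ffe0007ff0003ff8001ffc000ffe0007ff0003ff8001ffc000ffe0007ff0003ff80))
)) (.node (.node (.leaf (nat_lit 0x825e1ec12d8e001797f04ad338254194128cc5c93c6000b6be824a94c1244a2091a4ee489260056de002a2ec014774009eb9823b0fc11c879c8dc3b046a1c72330db118868012b6e0091b60046da80226d208a42b044f14722609c112449c88c22c44310003b57801cab800dd5a006aac0033558018aaa085e16e42c0a621484a90982000a54a004fa40026518012688008d420043a0820b833905415882608a411030017cc800b26000532e0026960003408005e3c002b1c00138d0008c60000600100c0e080102))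
 (.leaf (nat_lit 0x5d5c802d6d001616000abad00535580286a811747e0098a6004a51802428401194008b53e00424e802026c00f93408b03d003a4c001c25c11567800689604531d82284e800bb26005a91002bc802260e000a31c004e8d044a1b801223011206c088c35001fc5000f224110866003688044019021f0c4005b0e08742f043817021a0b000450a002084042e94800720c10b450085727000b410214494109c48084822000740820fc7c10783c08361c04168c800160010442a082014040e09020583c101c16080506))
) (.node (.leaf (nat_lit 0xd25f1de92e0db496665a4ae2f005f5fe9294b3094057a49a28d24b12802e2fb491e45848b21d2430f802cef748fe39847b1b00575e691cc6708de3000a5ba00505c801825b48bc2a009ab8d22c896115844012d6fa4500fc226870023ed401176800428c004359e90f82f087614007fb1003dd8000c22000e75c006fad0013c382180a800bd53a42106c20f82801669c00ad4c001883002852001368c002504084220001f4f000ee7400150208301a04138b8008650003f26000380040c080204834101412080304))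
 (.leaf (nat_lit 0x1815c80a0ad00505600282ad01415580a0aa80504540202a60101518080a8404054002022001014e8080a6c04053402021a01014c0080a5c04042e02029601010b008065803052601829100c148006084003051c01828d00c1068060a3003041801818c00c1450060a2403041201828800c104006062003050e01820700c0c3806041c02050a0102840081020040a0c020406010183008141004080802030401010200814080408040203020101010080408020a000104000081800040800020200010000000000))
)))

noncomputable def tR_rules : LT :=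
(.node (.node (.node (.node (.leaf [nat_lit 7,nat_lit 1,nat_lit 1,nat_lit 0,nat_lit 1,nat_lit 0,nat_lit 1])
 (.leaf [nat_lit 15,nat_lit 1,nat_lit 1,nat_lit 1,nat_lit 5,nat_lit 1,nat_lit 5])
) (.node (.leaf [nat_lit 11,nat_lit 1,nat_lit 1,nat_lit 0,nat_lit 5,nat_lit 0,nat_lit 5])
 (.leaf [nat_lit 19,nat_lit 1,nat_lit 1,nat_lit 3,nat_lit 4,nat_lit 3,nat_lit 4])
)) (.node (.node (.leaf [nat_lit 9,nat_lit 1,nat_lit 1,nat_lit 0,nat_lit 3,nat_lit 0,nat_lit 3])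
 (.leaf [nat_lit 17,nat_lit 1,nat_lit 1,nat_lit 2,nat_lit 4,nat_lit 2,nat_lit 4])
) (.node (.leaf [nat_lit 13,nat_lit 1,nat_lit 1,nat_lit 1,nat_lit 3,nat_lit 1,nat_lit 3])
 (.leaf [nat_lit 21,nat_lit 1,nat_lit 1,nat_lit 4,nat_lit 5,nat_lit 4,nat_lit 5])
))) (.node (.node (.node (.leaf [nat_lit 8,nat_lit 1,nat_lit 1,nat_lit 0,nat_lit 2,nat_lit 0,nat_lit 2])
 (.leaf [nat_lit 16,nat_lit 1,nat_lit 1,nat_lit 2,nat_lit 3,nat_lit 2,nat_lit 3])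
) (.node (.leaf [nat_lit 12,nat_lit 1,nat_lit 1,nat_lit 1,nat_lit 2,nat_lit 1,nat_lit 2])
 (.leaf [nat_lit 20,nat_lit 1,nat_lit 1,nat_lit 3,nat_lit 5,nat_lit 3,nat_lit 5])
)) (.node (.node (.leaf [nat_lit 10,nat_lit 1,nat_lit 1,nat_lit 0,nat_lit 4,nat_lit 0,nat_lit 4])
 (.leaf [nat_lit 18,nat_lit 1,nat_lit 1,nat_lit 2,nat_lit 5,nat_lit 2,nat_lit 5])
) (.leaf [nat_lit 14,nat_lit 1,nat_lit 1,nat_lit 1,nat_lit 4,nat_lit 1,nat_lit 4])
)))

noncomputable def tR_subs : LT :=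
(.leaf [nat_lit 0,nat_lit 0,nat_lit 0,nat_lit 6])


noncomputable def tR : TC :=
  ⟨fun x c => Nat.shiftRight (BT.get tR_t x) (Nat.mul (nat_lit 25) c),
  (nat_lit 7), (nat_lit 127), (nat_lit 262143), (nat_lit 18), (nat_lit 127), (nat_lit 262016), (nat_lit 64), (nat_lit 64), (nat_lit 6), (nat_lit 0), (nat_lit 6), (nat_lit 7), tR_inv, tR_rules, tR_subs⟩

theorem tR_c1 : tR.rules.all (ruleOK tR.m tR.inv tR_rels) = true := by decide +kernel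
theorem tR_c2 : tR.subs.all (subOK tR.m tR.inv tR_hws) = true := by decide +kernel
theorem tR_c3 : tR.base = true := by decide +kernel

theorem tR_s0 : tR.slots (nat_lit 0) (nat_lit 64) = true := by decide +kernel

theorem tR_c4 : tR.Upto tR.N := ((TC.upto_zero tR).step _ tR_s0)
theorem tR_c5 : tR.UptoE tR.N := (TC.uptoE_n tR)
theorem tR_bound {G : Type*} [Group G] {g : ℕ → G} {H : Subgroup G} (hinv : ∀ x < 6, g x * g (tR_inv x) = 1)
    (hrels : ∀ i, evalW g (tR_rels.get i) = 1) (hH : ∀ x < 0, g x ∈ H) (hhws : ∀ i, evalW g (tR_hws.get i) ∈ H) :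
    H.relIndex (genLt g 6) ≠ 0 ∧ H.relIndex (genLt g 6) ≤ 64 :=
  TC.relIndex_le (T := tR) hinv hrels hH hhws tR_c1 tR_c2 tR_c3 tR_c4 tR_c5

theorem tR_bd : Bound.{u} relR 0 6 64 := fun _ _ _ _ hs hH =>
  tR_bound (hs.hinv (by decide +kernel)) (hs.tree (by decide +kernel)) hH (leaf_nil_mem' _ _ (by decide +kernel))

noncomputable def tT_rels : LT :=
(.node (.node (.node (.node (.node (.node (.leaf [])
 (.leaf [nat_lit 7,nat_lit 0,nat_lit 7,nat_lit 2,nat_lit 0])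
) (.node (.leaf [nat_lit 1,nat_lit 2,nat_lit 1,nat_lit 2])
 (.leaf [nat_lit 9,nat_lit 4,nat_lit 9,nat_lit 4,nat_lit 1])
)) (.node (.node (.leaf [nat_lit 7,nat_lit 7])
 (.leaf [nat_lit 8,nat_lit 2,nat_lit 8,nat_lit 2])
) (.leaf [nat_lit 3,nat_lit 5,nat_lit 3,nat_lit 5])
)) (.node (.node (.node (.leaf [nat_lit 3,nat_lit 3])
 (.leaf [nat_lit 7,nat_lit 4,nat_lit 7,nat_lit 4])
) (.node (.leaf [nat_lit 2,nat_lit 3,nat_lit 2,nat_lit 3])
 (.leaf [nat_lit 6,nat_lit 8,nat_lit 6,nat_lit 8,nat_lit 7])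
)) (.node (.node (.leaf [nat_lit 0,nat_lit 2,nat_lit 0,nat_lit 2])
 (.leaf [nat_lit 9,nat_lit 0,nat_lit 9,nat_lit 0])
) (.leaf [nat_lit 6,nat_lit 2,nat_lit 6,nat_lit 2])
))) (.node (.node (.node (.node (.leaf [nat_lit 1,nat_lit 1])
 (.leaf [nat_lit 7,nat_lit 2,nat_lit 7,nat_lit 2])
) (.node (.leaf [nat_lit 1,nat_lit 4,nat_lit 1,nat_lit 4])
 (.leaf [nat_lit 6,nat_lit 7,nat_lit 6,nat_lit 7])
)) (.node (.node (.leaf [nat_lit 9,nat_lit 9])
 (.leaf [nat_lit 8,nat_lit 4,nat_lit 8,nat_lit 5,nat_lit 4])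
) (.leaf [nat_lit 6,nat_lit 0,nat_lit 6,nat_lit 1,nat_lit 0])
)) (.node (.node (.node (.leaf [nat_lit 5,nat_lit 5])
 (.leaf [nat_lit 8,nat_lit 0,nat_lit 8,nat_lit 0])
) (.node (.leaf [nat_lit 2,nat_lit 5,nat_lit 2,nat_lit 5])
 (.leaf [nat_lit 9,nat_lit 7,nat_lit 9,nat_lit 7])
)) (.node (.node (.leaf [nat_lit 0,nat_lit 4,nat_lit 0,nat_lit 4])
 (.leaf [nat_lit 9,nat_lit 2,nat_lit 9,nat_lit 2])
) (.leaf [nat_lit 6,nat_lit 4,nat_lit 6,nat_lit 4])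
)))) (.node (.node (.node (.node (.node (.leaf [nat_lit 0,nat_lit 0])
 (.leaf [nat_lit 7,nat_lit 1,nat_lit 7,nat_lit 1])
) (.node (.leaf [nat_lit 1,nat_lit 3,nat_lit 1,nat_lit 3])
 (.leaf [nat_lit 9,nat_lit 5,nat_lit 9,nat_lit 5,nat_lit 2])
)) (.node (.node (.leaf [nat_lit 8,nat_lit 8])
 (.leaf [nat_lit 8,nat_lit 3,nat_lit 8,nat_lit 3])
) (.leaf [nat_lit 4,nat_lit 5,nat_lit 4,nat_lit 5])
)) (.node (.node (.node (.leaf [nat_lit 4,nat_lit 4])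
 (.leaf [nat_lit 7,nat_lit 5,nat_lit 7,nat_lit 5])
) (.node (.leaf [nat_lit 2,nat_lit 4,nat_lit 2,nat_lit 4])
 (.leaf [nat_lit 9,nat_lit 6,nat_lit 9,nat_lit 6])
)) (.node (.node (.leaf [nat_lit 0,nat_lit 3,nat_lit 0,nat_lit 3])
 (.leaf [nat_lit 9,nat_lit 1,nat_lit 9,nat_lit 1])
) (.leaf [nat_lit 6,nat_lit 3,nat_lit 6,nat_lit 4,nat_lit 3])
))) (.node (.node (.node (.node (.leaf [nat_lit 2,nat_lit 2])
 (.leaf [nat_lit 7,nat_lit 3,nat_lit 7,nat_lit 5,nat_lit 3])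
) (.node (.leaf [nat_lit 1,nat_lit 5,nat_lit 1,nat_lit 5])
 (.leaf [nat_lit 7,nat_lit 8,nat_lit 7,nat_lit 8])
)) (.node (.node (.leaf [nat_lit 0,nat_lit 1,nat_lit 0,nat_lit 1])
 (.leaf [nat_lit 8,nat_lit 5,nat_lit 8,nat_lit 5])
) (.leaf [nat_lit 6,nat_lit 1,nat_lit 6,nat_lit 1])
)) (.node (.node (.node (.leaf [nat_lit 6,nat_lit 6])
 (.leaf [nat_lit 8,nat_lit 1,nat_lit 8,nat_lit 2,nat_lit 1])
) (.node (.leaf [nat_lit 3,nat_lit 4,nat_lit 3,nat_lit 4])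
 (.leaf [nat_lit 9,nat_lit 8,nat_lit 9,nat_lit 8])
)) (.node (.node (.leaf [nat_lit 0,nat_lit 5,nat_lit 0,nat_lit 5])
 (.leaf [nat_lit 9,nat_lit 3,nat_lit 9,nat_lit 3,nat_lit 0])
) (.leaf [nat_lit 6,nat_lit 5,nat_lit 6,nat_lit 5])
)))))
noncomputable def tT_hws : LT :=
(.leaf [])

noncomputable def tT_inv : ℕ → ℕ := getP (nat_lit 8) (nat_lit 255) (nat_lit 0x9080706050403020100)

noncomputable def tT_t : BT :=
(.node (.node (.node (.node (.leaf (nat_lit 0x91250f91218e911f0d911c0c91198b01180a911409611108910e87610c86310b85910804610603310502010301070000))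
 (.leaf (nat_lit 0xf926ccf92349f91fc700270ff91a44f1188500238e0010c200200d000c410018ca001a8b0005c0021088020c06020583))
) (.leaf (nat_lit 0xb1278fb1240eb1208db11e0cb11b0b21170ab115898112c8b11007810dc6510a85b10904810743510482210281070100))
) (.node (.node (.leaf (nat_lit 0xa1258fa1220ea11f8da11c8ca11a0b1116caa11489711148a10f07710cc6410a45a10884710643410442110241070080))
 (.leaf (nat_lit 0xffc000ffc000ffc000ffc000ffc000ffc000ffc000ffc000ffc000ffc000ffc000ffc000ffc000ffc000ffc000ffc0))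
) (.leaf (nat_lit 0xc925cbc9224d00228ec91cc900260f001643001d0cd11306c90f44001348c10b02000f8702160a000b450001c0020181))
)) (.node (.node (.node (.leaf (nat_lit 0x99254f9921ce991f4d991c4c9919cb09168a991449691288990ec7690d86390a05990844690703390402090201070040))
 (.leaf (nat_lit 0x24ca002148001ec6001bc500194302248f0013c202210e000e41021e8d021b8c0007c002190b021389020e07020784))
) (.leaf (nat_lit 0xb927cfb9244eb920cdb91e4cb91b4b29174ab915c98911c8b91047890d46590ac5b909448906c35904c22902c1070140))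
) (.node (.node (.leaf (nat_lit 0xa9274fa923cea9204da91dcca91acb19184aa91549791188a90fc7790d06490bc5a908c47906834905421903410700c0))
 (.leaf (nat_lit 0xc24a00c24800c24600c2450082430081830082420082020082410082010081c10042400042000041c0004180000000))
) (.leaf (nat_lit 0xe1264de122cb00268fe11d4700230ee91786e114c4d91203001d8c0017ca0009c10015090012480003c0020985020382))
)))

noncomputable def tT_rules : LT :=
(.node (.node (.node (.node (.node (.leaf [nat_lit 26,nat_lit 3,nat_lit 1,nat_lit 0,nat_lit 6,nat_lit 0,nat_lit 1,nat_lit 6])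
 (.leaf [nat_lit 42,nat_lit 3,nat_lit 1,nat_lit 4,nat_lit 8,nat_lit 4,nat_lit 5,nat_lit 8])
) (.node (.leaf [nat_lit 34,nat_lit 2,nat_lit 1,nat_lit 2,nat_lit 7,nat_lit 2,nat_lit 7])
 (.leaf [nat_lit 50,nat_lit 1,nat_lit 1,nat_lit 6,nat_lit 7,nat_lit 6,nat_lit 7])
)) (.node (.node (.leaf [nat_lit 30,nat_lit 2,nat_lit 1,nat_lit 4,nat_lit 6,nat_lit 4,nat_lit 6])
 (.leaf [nat_lit 46,nat_lit 2,nat_lit 1,nat_lit 2,nat_lit 9,nat_lit 2,nat_lit 9])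
) (.node (.leaf [nat_lit 38,nat_lit 2,nat_lit 1,nat_lit 0,nat_lit 8,nat_lit 0,nat_lit 8])
 (.leaf [nat_lit 54,nat_lit 2,nat_lit 1,nat_lit 7,nat_lit 9,nat_lit 7,nat_lit 9])
))) (.node (.node (.node (.leaf [nat_lit 28,nat_lit 2,nat_lit 1,nat_lit 2,nat_lit 6,nat_lit 2,nat_lit 6])
 (.leaf [nat_lit 44,nat_lit 2,nat_lit 1,nat_lit 0,nat_lit 9,nat_lit 0,nat_lit 9])
) (.node (.leaf [nat_lit 36,nat_lit 2,nat_lit 1,nat_lit 4,nat_lit 7,nat_lit 4,nat_lit 7])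
 (.leaf [nat_lit 52,nat_lit 2,nat_lit 1,nat_lit 6,nat_lit 8,nat_lit 6,nat_lit 7,nat_lit 8])
)) (.node (.node (.leaf [nat_lit 32,nat_lit 3,nat_lit 1,nat_lit 0,nat_lit 7,nat_lit 0,nat_lit 2,nat_lit 7])
 (.leaf [nat_lit 48,nat_lit 3,nat_lit 1,nat_lit 4,nat_lit 9,nat_lit 1,nat_lit 4,nat_lit 9])
) (.node (.leaf [nat_lit 40,nat_lit 2,nat_lit 1,nat_lit 2,nat_lit 8,nat_lit 2,nat_lit 8])
 (.leaf [nat_lit 52,nat_lit 3,nat_lit 1,nat_lit 8,nat_lit 6,nat_lit 7,nat_lit 8,nat_lit 6])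
)))) (.node (.node (.node (.node (.leaf [nat_lit 27,nat_lit 2,nat_lit 1,nat_lit 1,nat_lit 6,nat_lit 1,nat_lit 6])
 (.leaf [nat_lit 43,nat_lit 2,nat_lit 1,nat_lit 5,nat_lit 8,nat_lit 5,nat_lit 8])
) (.node (.leaf [nat_lit 35,nat_lit 3,nat_lit 1,nat_lit 3,nat_lit 7,nat_lit 3,nat_lit 5,nat_lit 7])
 (.leaf [nat_lit 53,nat_lit 2,nat_lit 1,nat_lit 6,nat_lit 9,nat_lit 6,nat_lit 9])
)) (.node (.node (.leaf [nat_lit 31,nat_lit 2,nat_lit 1,nat_lit 5,nat_lit 6,nat_lit 5,nat_lit 6])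
 (.leaf [nat_lit 47,nat_lit 3,nat_lit 1,nat_lit 3,nat_lit 9,nat_lit 0,nat_lit 3,nat_lit 9])
) (.node (.leaf [nat_lit 39,nat_lit 3,nat_lit 1,nat_lit 1,nat_lit 8,nat_lit 1,nat_lit 2,nat_lit 8])
 (.leaf [nat_lit 50,nat_lit 2,nat_lit 1,nat_lit 7,nat_lit 6,nat_lit 7,nat_lit 6])
))) (.node (.node (.node (.leaf [nat_lit 29,nat_lit 3,nat_lit 1,nat_lit 3,nat_lit 6,nat_lit 3,nat_lit 4,nat_lit 6])
 (.leaf [nat_lit 45,nat_lit 2,nat_lit 1,nat_lit 1,nat_lit 9,nat_lit 1,nat_lit 9])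
) (.node (.leaf [nat_lit 37,nat_lit 2,nat_lit 1,nat_lit 5,nat_lit 7,nat_lit 5,nat_lit 7])
 (.leaf [nat_lit 51,nat_lit 1,nat_lit 1,nat_lit 7,nat_lit 8,nat_lit 7,nat_lit 8])
)) (.node (.node (.leaf [nat_lit 33,nat_lit 2,nat_lit 1,nat_lit 1,nat_lit 7,nat_lit 1,nat_lit 7])
 (.leaf [nat_lit 49,nat_lit 3,nat_lit 1,nat_lit 5,nat_lit 9,nat_lit 2,nat_lit 5,nat_lit 9])
) (.node (.leaf [nat_lit 41,nat_lit 2,nat_lit 1,nat_lit 3,nat_lit 8,nat_lit 3,nat_lit 8])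
 (.leaf [nat_lit 55,nat_lit 2,nat_lit 1,nat_lit 8,nat_lit 9,nat_lit 8,nat_lit 9])
)))))

noncomputable def tT_subs : LT :=
(.leaf [nat_lit 0,nat_lit 0,nat_lit 0,nat_lit 10])


noncomputable def tT : TC :=
  ⟨fun x c => Nat.shiftRight (BT.get tT_t x) (Nat.mul (nat_lit 24) c),
  (nat_lit 6), (nat_lit 63), (nat_lit 65535), (nat_lit 16), (nat_lit 255), (nat_lit 65472), (nat_lit 16), (nat_lit 16), (nat_lit 10), (nat_lit 6), (nat_lit 10), (nat_lit 11), tT_inv, tT_rules, tT_subs⟩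

theorem tT_c1 : tT.rules.all (ruleOK tT.m tT.inv tT_rels) = true := by decide +kernel
theorem tT_c2 : tT.subs.all (subOK tT.m tT.inv tT_hws) = true := by decide +kernel
theorem tT_c3 : tT.base = true := by decide +kernel

theorem tT_s0 : tT.slots (nat_lit 0) (nat_lit 16) = true := by decide +kernel

theorem tT_c4 : tT.Upto tT.N := ((TC.upto_zero tT).step _ tT_s0)
theorem tT_c5 : tT.UptoE tT.N := (TC.uptoE_n tT)
theorem tT_bound {G : Type*} [Group G] {g : ℕ → G} {H : Subgroup G} (hinv : ∀ x < 10, g x * g (tT_inv x) = 1)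
    (hrels : ∀ i, evalW g (tT_rels.get i) = 1) (hH : ∀ x < 6, g x ∈ H) (hhws : ∀ i, evalW g (tT_hws.get i) ∈ H) :
    H.relIndex (genLt g 10) ≠ 0 ∧ H.relIndex (genLt g 10) ≤ 16 :=
  TC.relIndex_le (T := tT) hinv hrels hH hhws tT_c1 tT_c2 tT_c3 tT_c4 tT_c5

theorem tT_bd : Bound.{u} relT 6 10 16 := fun _ _ _ _ hs hH =>
  tT_bound (hs.hinv (by decide +kernel)) (hs.tree (by decide +kernel)) hH (leaf_nil_mem' _ _ (by decide +kernel))

noncomputable def tP_rels : LT :=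
(.node (.node (.node (.node (.node (.node (.node (.leaf [])
 (.leaf [nat_lit 10,nat_lit 7,nat_lit 10,nat_lit 7,nat_lit 8])
) (.leaf [nat_lit 6,nat_lit 5,nat_lit 6,nat_lit 5])
) (.node (.leaf [nat_lit 0,nat_lit 5,nat_lit 0,nat_lit 5])
 (.leaf [nat_lit 9,nat_lit 3,nat_lit 9,nat_lit 3,nat_lit 0])
)) (.node (.node (.leaf [nat_lit 7,nat_lit 7])
 (.leaf [nat_lit 8,nat_lit 1,nat_lit 8,nat_lit 2,nat_lit 1])
) (.node (.leaf [nat_lit 3,nat_lit 4,nat_lit 3,nat_lit 4])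
 (.leaf [nat_lit 9,nat_lit 8,nat_lit 9,nat_lit 8])
))) (.node (.node (.node (.leaf [nat_lit 3,nat_lit 3])
 (.leaf [nat_lit 7,nat_lit 3,nat_lit 7,nat_lit 5,nat_lit 3])
) (.node (.leaf [nat_lit 1,nat_lit 5,nat_lit 1,nat_lit 5])
 (.leaf [nat_lit 7,nat_lit 8,nat_lit 7,nat_lit 8])
)) (.node (.node (.leaf [nat_lit 0,nat_lit 1,nat_lit 0,nat_lit 1])
 (.leaf [nat_lit 8,nat_lit 5,nat_lit 8,nat_lit 5])
) (.node (.leaf [nat_lit 6,nat_lit 1,nat_lit 6,nat_lit 1])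
 (.leaf [nat_lit 10,nat_lit 3,nat_lit 10,nat_lit 3])
)))) (.node (.node (.node (.node (.node (.leaf [nat_lit 1,nat_lit 1])
 (.leaf [nat_lit 10,nat_lit 9,nat_lit 10,nat_lit 9])
) (.leaf [nat_lit 7,nat_lit 1,nat_lit 7,nat_lit 1])
) (.node (.leaf [nat_lit 1,nat_lit 3,nat_lit 1,nat_lit 3])
 (.leaf [nat_lit 9,nat_lit 5,nat_lit 9,nat_lit 5,nat_lit 2])
)) (.node (.node (.leaf [nat_lit 9,nat_lit 9])
 (.leaf [nat_lit 8,nat_lit 3,nat_lit 8,nat_lit 3])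
) (.node (.leaf [nat_lit 4,nat_lit 5,nat_lit 4,nat_lit 5])
 (.leaf [nat_lit 10,nat_lit 1,nat_lit 10,nat_lit 1,nat_lit 0])
))) (.node (.node (.node (.leaf [nat_lit 5,nat_lit 5])
 (.leaf [nat_lit 7,nat_lit 5,nat_lit 7,nat_lit 5])
) (.node (.leaf [nat_lit 2,nat_lit 4,nat_lit 2,nat_lit 4])
 (.leaf [nat_lit 9,nat_lit 6,nat_lit 9,nat_lit 6])
)) (.node (.node (.leaf [nat_lit 0,nat_lit 3,nat_lit 0,nat_lit 3])
 (.leaf [nat_lit 9,nat_lit 1,nat_lit 9,nat_lit 1])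
) (.node (.leaf [nat_lit 6,nat_lit 3,nat_lit 6,nat_lit 4,nat_lit 3])
 (.leaf [nat_lit 10,nat_lit 5,nat_lit 10,nat_lit 5])
))))) (.node (.node (.node (.node (.node (.node (.leaf [nat_lit 0,nat_lit 0])
 (.leaf [nat_lit 10,nat_lit 8,nat_lit 10,nat_lit 8])
) (.leaf [nat_lit 7,nat_lit 0,nat_lit 7,nat_lit 2,nat_lit 0])
) (.node (.leaf [nat_lit 1,nat_lit 2,nat_lit 1,nat_lit 2])
 (.leaf [nat_lit 9,nat_lit 4,nat_lit 9,nat_lit 4,nat_lit 1])
)) (.node (.node (.leaf [nat_lit 8,nat_lit 8])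
 (.leaf [nat_lit 8,nat_lit 2,nat_lit 8,nat_lit 2])
) (.node (.leaf [nat_lit 3,nat_lit 5,nat_lit 3,nat_lit 5])
 (.leaf [nat_lit 10,nat_lit 0,nat_lit 10,nat_lit 0])
))) (.node (.node (.node (.leaf [nat_lit 4,nat_lit 4])
 (.leaf [nat_lit 7,nat_lit 4,nat_lit 7,nat_lit 4])
) (.node (.leaf [nat_lit 2,nat_lit 3,nat_lit 2,nat_lit 3])
 (.leaf [nat_lit 6,nat_lit 8,nat_lit 6,nat_lit 8,nat_lit 7])
)) (.node (.node (.leaf [nat_lit 0,nat_lit 2,nat_lit 0,nat_lit 2])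
 (.leaf [nat_lit 9,nat_lit 0,nat_lit 9,nat_lit 0])
) (.node (.leaf [nat_lit 6,nat_lit 2,nat_lit 6,nat_lit 2])
 (.leaf [nat_lit 10,nat_lit 4,nat_lit 10,nat_lit 4,nat_lit 3])
)))) (.node (.node (.node (.node (.leaf [nat_lit 2,nat_lit 2])
 (.leaf [nat_lit 7,nat_lit 2,nat_lit 7,nat_lit 2])
) (.node (.leaf [nat_lit 1,nat_lit 4,nat_lit 1,nat_lit 4])
 (.leaf [nat_lit 6,nat_lit 7,nat_lit 6,nat_lit 7])
)) (.node (.node (.leaf [nat_lit 10,nat_lit 10])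
 (.leaf [nat_lit 8,nat_lit 4,nat_lit 8,nat_lit 5,nat_lit 4])
) (.node (.leaf [nat_lit 6,nat_lit 0,nat_lit 6,nat_lit 1,nat_lit 0])
 (.leaf [nat_lit 10,nat_lit 2,nat_lit 10,nat_lit 2])
))) (.node (.node (.node (.leaf [nat_lit 6,nat_lit 6])
 (.leaf [nat_lit 8,nat_lit 0,nat_lit 8,nat_lit 0])
) (.node (.leaf [nat_lit 2,nat_lit 5,nat_lit 2,nat_lit 5])
 (.leaf [nat_lit 9,nat_lit 7,nat_lit 9,nat_lit 7])
)) (.node (.node (.leaf [nat_lit 0,nat_lit 4,nat_lit 0,nat_lit 4])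
 (.leaf [nat_lit 9,nat_lit 2,nat_lit 9,nat_lit 2])
) (.node (.leaf [nat_lit 6,nat_lit 4,nat_lit 6,nat_lit 4])
 (.leaf [nat_lit 10,nat_lit 6,nat_lit 10,nat_lit 6,nat_lit 10,nat_lit 6])
))))))
noncomputable def tP_hws : LT :=
(.leaf [])

noncomputable def tP_inv : ℕ → ℕ := getP (nat_lit 8) (nat_lit 255) (nat_lit 0xa09080706050403020100)

noncomputable def tP_t : BT :=
(.node (.node (.node (.node (.leaf (nat_lit 0x920e88040c0838000))
 (.leaf (nat_lit 0x1020f88e4100838100))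
) (.node (.leaf (nat_lit 0xd20c8884130838080))
 (.leaf (nat_lit 0x10304010a0000000))
)) (.node (.node (.leaf (nat_lit 0xb20c08440d0838040))
 (.leaf (nat_lit 0x1221008000b0010141))
) (.leaf (nat_lit 0xb04081510380c0))
)) (.node (.node (.node (.leaf (nat_lit 0xa20b8824120838020))
 (.leaf (nat_lit 0x1120e0904110838120))
) (.leaf (nat_lit 0xe20d08a40f08380a0))
) (.node (.node (.leaf (nat_lit 0xc20f08640e0838060))
 (.leaf (nat_lit 0x1ff8003ff0007fe0))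
) (.leaf (nat_lit 0xf20d88c41408380e0))
)))

noncomputable def tP_rules : LT :=
(.node (.node (.node (.node (.node (.leaf [nat_lit 57,nat_lit 2,nat_lit 1,nat_lit 0,nat_lit 10,nat_lit 0,nat_lit 10])
 (.leaf [nat_lit 53,nat_lit 3,nat_lit 1,nat_lit 8,nat_lit 6,nat_lit 7,nat_lit 8,nat_lit 6])
) (.leaf [nat_lit 66,nat_lit 2,nat_lit 1,nat_lit 9,nat_lit 10,nat_lit 9,nat_lit 10])
) (.node (.leaf [nat_lit 61,nat_lit 3,nat_lit 1,nat_lit 4,nat_lit 10,nat_lit 3,nat_lit 4,nat_lit 10])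
 (.leaf [nat_lit 30,nat_lit 3,nat_lit 1,nat_lit 3,nat_lit 6,nat_lit 3,nat_lit 4,nat_lit 6])
)) (.node (.node (.node (.leaf [nat_lit 59,nat_lit 2,nat_lit 1,nat_lit 2,nat_lit 10,nat_lit 2,nat_lit 10])
 (.leaf [nat_lit 63,nat_lit 3,nat_lit 1,nat_lit 10,nat_lit 6,nat_lit 10,nat_lit 6,nat_lit 10,nat_lit 6])
) (.leaf [nat_lit 28,nat_lit 2,nat_lit 1,nat_lit 1,nat_lit 6,nat_lit 1,nat_lit 6])
) (.node (.leaf [nat_lit 64,nat_lit 3,nat_lit 1,nat_lit 7,nat_lit 10,nat_lit 8,nat_lit 7,nat_lit 10])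
 (.leaf [nat_lit 32,nat_lit 2,nat_lit 1,nat_lit 5,nat_lit 6,nat_lit 5,nat_lit 6])
))) (.node (.node (.node (.node (.leaf [nat_lit 58,nat_lit 3,nat_lit 1,nat_lit 1,nat_lit 10,nat_lit 0,nat_lit 1,nat_lit 10])
 (.leaf [nat_lit 54,nat_lit 1,nat_lit 1,nat_lit 9,nat_lit 6,nat_lit 9,nat_lit 6])
) (.leaf [nat_lit 27,nat_lit 3,nat_lit 1,nat_lit 0,nat_lit 6,nat_lit 0,nat_lit 1,nat_lit 6])
) (.node (.leaf [nat_lit 62,nat_lit 2,nat_lit 1,nat_lit 5,nat_lit 10,nat_lit 5,nat_lit 10])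
 (.leaf [nat_lit 31,nat_lit 2,nat_lit 1,nat_lit 4,nat_lit 6,nat_lit 4,nat_lit 6])
)) (.node (.node (.leaf [nat_lit 60,nat_lit 2,nat_lit 1,nat_lit 3,nat_lit 10,nat_lit 3,nat_lit 10])
 (.leaf [nat_lit 29,nat_lit 2,nat_lit 1,nat_lit 2,nat_lit 6,nat_lit 2,nat_lit 6])
) (.node (.leaf [nat_lit 65,nat_lit 2,nat_lit 1,nat_lit 8,nat_lit 10,nat_lit 8,nat_lit 10])
 (.leaf [nat_lit 51,nat_lit 2,nat_lit 1,nat_lit 7,nat_lit 6,nat_lit 7,nat_lit 6])
))))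

noncomputable def tP_subs : LT :=
(.leaf [nat_lit 0,nat_lit 0,nat_lit 0,nat_lit 11])


noncomputable def tP : TC :=
  ⟨fun x c => Nat.shiftRight (BT.get tP_t x) (Nat.mul (nat_lit 23) c),
  (nat_lit 5), (nat_lit 31), (nat_lit 32767), (nat_lit 15), (nat_lit 255), (nat_lit 32736), (nat_lit 3), (nat_lit 3), (nat_lit 11), (nat_lit 10), (nat_lit 11), (nat_lit 12), tP_inv, tP_rules, tP_subs⟩

theorem tP_c1 : tP.rules.all (ruleOK tP.m tP.inv tP_rels) = true := by decide +kernel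
theorem tP_c2 : tP.subs.all (subOK tP.m tP.inv tP_hws) = true := by decide +kernel
theorem tP_c3 : tP.base = true := by decide +kernel

theorem tP_s0 : tP.slots (nat_lit 0) (nat_lit 3) = true := by decide +kernel

theorem tP_c4 : tP.Upto tP.N := ((TC.upto_zero tP).step _ tP_s0)
theorem tP_c5 : tP.UptoE tP.N := (TC.uptoE_n tP)
theorem tP_bound {G : Type*} [Group G] {g : ℕ → G} {H : Subgroup G} (hinv : ∀ x < 11, g x * g (tP_inv x) = 1)
    (hrels : ∀ i, evalW g (tP_rels.get i) = 1) (hH : ∀ x < 10, g x ∈ H) (hhws : ∀ i, evalW g (tP_hws.get i) ∈ H) :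
    H.relIndex (genLt g 11) ≠ 0 ∧ H.relIndex (genLt g 11) ≤ 3 :=
  TC.relIndex_le (T := tP) hinv hrels hH hhws tP_c1 tP_c2 tP_c3 tP_c4 tP_c5

theorem tP_bd : Bound.{u} relP 10 11 3 := fun _ _ _ _ hs hH =>
  tP_bound (hs.hinv (by decide +kernel)) (hs.tree (by decide +kernel)) hH (leaf_nil_mem' _ _ (by decide +kernel))

noncomputable def tH_rels : LT :=
(.node (.node (.node (.node (.node (.node (.node (.leaf [])
 (.leaf [nat_lit 10,nat_lit 6,nat_lit 10,nat_lit 6,nat_lit 10,nat_lit 6])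
) (.leaf [nat_lit 6,nat_lit 4,nat_lit 6,nat_lit 4])
) (.node (.leaf [nat_lit 0,nat_lit 4,nat_lit 0,nat_lit 4])
 (.leaf [nat_lit 9,nat_lit 2,nat_lit 9,nat_lit 2])
)) (.node (.node (.node (.leaf [nat_lit 7,nat_lit 7])
 (.leaf [nat_lit 11,nat_lit 6,nat_lit 11,nat_lit 6])
) (.leaf [nat_lit 8,nat_lit 0,nat_lit 8,nat_lit 0])
) (.node (.leaf [nat_lit 2,nat_lit 5,nat_lit 2,nat_lit 5])
 (.leaf [nat_lit 9,nat_lit 7,nat_lit 9,nat_lit 7])
))) (.node (.node (.node (.node (.leaf [nat_lit 3,nat_lit 3])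
 (.leaf [nat_lit 11,nat_lit 3,nat_lit 11,nat_lit 3,nat_lit 11,nat_lit 3])
) (.leaf [nat_lit 7,nat_lit 2,nat_lit 7,nat_lit 2])
) (.node (.leaf [nat_lit 1,nat_lit 4,nat_lit 1,nat_lit 4])
 (.leaf [nat_lit 6,nat_lit 7,nat_lit 6,nat_lit 7])
)) (.node (.node (.node (.leaf [nat_lit 11,nat_lit 11])
 (.leaf [nat_lit 11,nat_lit 1,nat_lit 11,nat_lit 1])
) (.leaf [nat_lit 8,nat_lit 4,nat_lit 8,nat_lit 5,nat_lit 4])
) (.node (.leaf [nat_lit 6,nat_lit 0,nat_lit 6,nat_lit 1,nat_lit 0])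
 (.leaf [nat_lit 10,nat_lit 2,nat_lit 10,nat_lit 2])
)))) (.node (.node (.node (.node (.node (.leaf [nat_lit 1,nat_lit 1])
 (.leaf [nat_lit 10,nat_lit 8,nat_lit 10,nat_lit 8])
) (.leaf [nat_lit 7,nat_lit 0,nat_lit 7,nat_lit 2,nat_lit 0])
) (.node (.leaf [nat_lit 1,nat_lit 2,nat_lit 1,nat_lit 2])
 (.leaf [nat_lit 9,nat_lit 4,nat_lit 9,nat_lit 4,nat_lit 1])
)) (.node (.node (.node (.leaf [nat_lit 9,nat_lit 9])
 (.leaf [nat_lit 11,nat_lit 4,nat_lit 11,nat_lit 4,nat_lit 6])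
) (.leaf [nat_lit 8,nat_lit 2,nat_lit 8,nat_lit 2])
) (.node (.leaf [nat_lit 3,nat_lit 5,nat_lit 3,nat_lit 5])
 (.leaf [nat_lit 10,nat_lit 0,nat_lit 10,nat_lit 0])
))) (.node (.node (.node (.node (.leaf [nat_lit 5,nat_lit 5])
 (.leaf [nat_lit 11,nat_lit 9,nat_lit 11,nat_lit 9])
) (.leaf [nat_lit 7,nat_lit 4,nat_lit 7,nat_lit 4])
) (.node (.leaf [nat_lit 2,nat_lit 3,nat_lit 2,nat_lit 3])
 (.leaf [nat_lit 6,nat_lit 8,nat_lit 6,nat_lit 8,nat_lit 7])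
)) (.node (.node (.node (.leaf [nat_lit 0,nat_lit 2,nat_lit 0,nat_lit 2])
 (.leaf [nat_lit 11,nat_lit 10,nat_lit 11,nat_lit 10,nat_lit 11,nat_lit 10,nat_lit 11,nat_lit 10])
) (.leaf [nat_lit 9,nat_lit 0,nat_lit 9,nat_lit 0])
) (.node (.leaf [nat_lit 6,nat_lit 2,nat_lit 6,nat_lit 2])
 (.leaf [nat_lit 10,nat_lit 4,nat_lit 10,nat_lit 4,nat_lit 3])
))))) (.node (.node (.node (.node (.node (.node (.leaf [nat_lit 0,nat_lit 0])
 (.leaf [nat_lit 10,nat_lit 7,nat_lit 10,nat_lit 7,nat_lit 8])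
) (.leaf [nat_lit 6,nat_lit 5,nat_lit 6,nat_lit 5])
) (.node (.leaf [nat_lit 0,nat_lit 5,nat_lit 0,nat_lit 5])
 (.leaf [nat_lit 9,nat_lit 3,nat_lit 9,nat_lit 3,nat_lit 0])
)) (.node (.node (.node (.leaf [nat_lit 8,nat_lit 8])
 (.leaf [nat_lit 11,nat_lit 7,nat_lit 11,nat_lit 7])
) (.leaf [nat_lit 8,nat_lit 1,nat_lit 8,nat_lit 2,nat_lit 1])
) (.node (.leaf [nat_lit 3,nat_lit 4,nat_lit 3,nat_lit 4])
 (.leaf [nat_lit 9,nat_lit 8,nat_lit 9,nat_lit 8])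
))) (.node (.node (.node (.node (.leaf [nat_lit 4,nat_lit 4])
 (.leaf [nat_lit 11,nat_lit 0,nat_lit 11,nat_lit 0,nat_lit 9])
) (.leaf [nat_lit 7,nat_lit 3,nat_lit 7,nat_lit 5,nat_lit 3])
) (.node (.leaf [nat_lit 1,nat_lit 5,nat_lit 1,nat_lit 5])
 (.leaf [nat_lit 7,nat_lit 8,nat_lit 7,nat_lit 8])
)) (.node (.node (.node (.leaf [nat_lit 0,nat_lit 1,nat_lit 0,nat_lit 1])
 (.leaf [nat_lit 11,nat_lit 2,nat_lit 11,nat_lit 2])
) (.leaf [nat_lit 8,nat_lit 5,nat_lit 8,nat_lit 5])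
) (.node (.leaf [nat_lit 6,nat_lit 1,nat_lit 6,nat_lit 1])
 (.leaf [nat_lit 10,nat_lit 3,nat_lit 10,nat_lit 3])
)))) (.node (.node (.node (.node (.node (.leaf [nat_lit 2,nat_lit 2])
 (.leaf [nat_lit 10,nat_lit 9,nat_lit 10,nat_lit 9])
) (.leaf [nat_lit 7,nat_lit 1,nat_lit 7,nat_lit 1])
) (.node (.leaf [nat_lit 1,nat_lit 3,nat_lit 1,nat_lit 3])
 (.leaf [nat_lit 9,nat_lit 5,nat_lit 9,nat_lit 5,nat_lit 2])
)) (.node (.node (.node (.leaf [nat_lit 10,nat_lit 10])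
 (.leaf [nat_lit 11,nat_lit 5,nat_lit 11,nat_lit 5,nat_lit 7])
) (.leaf [nat_lit 8,nat_lit 3,nat_lit 8,nat_lit 3])
) (.node (.leaf [nat_lit 4,nat_lit 5,nat_lit 4,nat_lit 5])
 (.leaf [nat_lit 10,nat_lit 1,nat_lit 10,nat_lit 1,nat_lit 0])
))) (.node (.node (.node (.node (.leaf [nat_lit 6,nat_lit 6])
 (.leaf [nat_lit 11,nat_lit 8,nat_lit 11,nat_lit 8])
) (.leaf [nat_lit 7,nat_lit 5,nat_lit 7,nat_lit 5])
) (.node (.leaf [nat_lit 2,nat_lit 4,nat_lit 2,nat_lit 4])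
 (.leaf [nat_lit 9,nat_lit 6,nat_lit 9,nat_lit 6])
)) (.node (.node (.leaf [nat_lit 0,nat_lit 3,nat_lit 0,nat_lit 3])
 (.leaf [nat_lit 9,nat_lit 1,nat_lit 9,nat_lit 1])
) (.node (.leaf [nat_lit 6,nat_lit 3,nat_lit 6,nat_lit 4,nat_lit 3])
 (.leaf [nat_lit 10,nat_lit 5,nat_lit 10,nat_lit 5])
))))))
noncomputable def tH_hws : LT :=
(.leaf [])

noncomputable def tH_inv : ℕ → ℕ := getP (nat_lit 8) (nat_lit 255) (nat_lit 0xb0a09080706050403020100)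

noncomputable def tH_t : BT :=
(.node (.node (.node (.node (.leaf (nat_lit 0x1ffc00007ff00001ffc00007ff00001ffc00948242c2520b4a07483f24001ffc00007ff001421b060008631400216040008490c09206020008130400e0000))
 (.leaf (nat_lit 0x1ffc00007ff00001ffc00007ff00001ffc00b08272c2c20c8a08c84124001ffc00007ff001a21cc601c85d14072150401c8450c102074201c80e0400e0200))
) (.node (.leaf (nat_lit 0x214f001084400c2200c0bc84e24000204e000036282920d4b00004f34001ffc00007ff000001ac300c86410000194500106a180c206c200c8140400e0100))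
 (.leaf (nat_lit 0x334a230644288d0d90a2384b4288f198fa2405b3e89116cea24844368930e8ba2501a2a89508001ffc00007ff00001ffc00007ff00001ffc00007ff00001ffc0))
)) (.node (.node (.leaf (nat_lit 0x1ffc00007ff00001ffc00007ff00001ffc009c8252c2720b8a07c83b24001ffc00007ff001621b860088621402215c40088480c0b206820088120400e0080))
 (.leaf (nat_lit 0x33222460c48693c001ffc00c085034001ffc0000023040000b020007ff00001ffc00007ff000002290001083200041f4704c84b0c0040aca0010222c00e0280))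
) (.leaf (nat_lit 0x182220e00007a30001ffc000004d282e21e4f00103824004130d0000392c001ffc00007ff001821c0401485e0c0001c4600005f140e2078201480f0400e0180))
)) (.node (.node (.node (.leaf (nat_lit 0x1ffc00007ff00001ffc00007ff00001ffc00988292c2620d0a07883a24001ffc00007ff001521b460048611401215840048470c0a206420048110400e0040))
 (.leaf (nat_lit 0x1ffc00007ff00001ffc00007ff00001ffc00b48282c2d20cca09083e24001ffc00007ff001b21d0602085c1408214c40208440c112080202080d0400e0240))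
) (.node (.leaf (nat_lit 0x1ffc00007ff00001ffc00007ff00001ffc00a88262c2a20c4a08483c24001ffc00007ff001721bc601086614042164401084a0c0d207020108150400e0140))
 (.leaf (nat_lit 0x1410f0004030c00140c50004062800140c400020a04000c2820003062c001428500050a10001010300040b2400102ca00030b2c00080c100010b000000000))
)) (.node (.node (.leaf (nat_lit 0x32221860000680c0001fc50007ff000001e04000030282820bcb08084024001ffc00007ff0000021d000107e380041dcc0010673c00005c10010160800e00c0))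
 (.leaf (nat_lit 0x1c222d000007c30122208e000076181221ecf0010420c004144400105a14001ffc00007ff001c21d4d00005b24000148a0000432c122084200000c0000402c1))
) (.leaf (nat_lit 0x1ffc00007ff00001ffc00007ff00001ffc00ac82a2c2b20dca08883d24001ffc00007ff001921c860188601406215440188460c0f207c20188100400e01c0))
)))

noncomputable def tH_rules : LT :=
(.node (.node (.node (.node (.node (.node (.leaf [nat_lit 69,nat_lit 3,nat_lit 1,nat_lit 0,nat_lit 11,nat_lit 9,nat_lit 0,nat_lit 11])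
 (.leaf [nat_lit 31,nat_lit 3,nat_lit 1,nat_lit 3,nat_lit 6,nat_lit 3,nat_lit 4,nat_lit 6])
) (.node (.leaf [nat_lit 43,nat_lit 1,nat_lit 1,nat_lit 8,nat_lit 3,nat_lit 8,nat_lit 3])
 (.leaf [nat_lit 64,nat_lit 3,nat_lit 1,nat_lit 10,nat_lit 6,nat_lit 10,nat_lit 6,nat_lit 10,nat_lit 6])
)) (.node (.node (.leaf [nat_lit 70,nat_lit 2,nat_lit 1,nat_lit 9,nat_lit 11,nat_lit 9,nat_lit 11])
 (.leaf [nat_lit 61,nat_lit 2,nat_lit 1,nat_lit 3,nat_lit 10,nat_lit 3,nat_lit 10])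
) (.leaf [nat_lit 32,nat_lit 1,nat_lit 1,nat_lit 6,nat_lit 4,nat_lit 6,nat_lit 4])
)) (.node (.node (.node (.leaf [nat_lit 75,nat_lit 3,nat_lit 1,nat_lit 5,nat_lit 11,nat_lit 7,nat_lit 5,nat_lit 11])
 (.leaf [nat_lit 55,nat_lit 1,nat_lit 1,nat_lit 9,nat_lit 6,nat_lit 9,nat_lit 6])
) (.node (.leaf [nat_lit 16,nat_lit 1,nat_lit 1,nat_lit 0,nat_lit 4,nat_lit 0,nat_lit 4])
 (.leaf [nat_lit 78,nat_lit 0,nat_lit 1,nat_lit 12,nat_lit 10,nat_lit 11,nat_lit 10,nat_lit 11,nat_lit 10,nat_lit 11,nat_lit 10,nat_lit 11])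
)) (.node (.node (.leaf [nat_lit 25,nat_lit 2,nat_lit 1,nat_lit 4,nat_lit 3,nat_lit 4,nat_lit 3])
 (.leaf [nat_lit 66,nat_lit 2,nat_lit 1,nat_lit 8,nat_lit 10,nat_lit 8,nat_lit 10])
) (.leaf [nat_lit 74,nat_lit 2,nat_lit 1,nat_lit 11,nat_lit 4,nat_lit 11,nat_lit 6,nat_lit 4])
))) (.node (.node (.node (.node (.leaf [nat_lit 77,nat_lit 2,nat_lit 1,nat_lit 2,nat_lit 11,nat_lit 2,nat_lit 11])
 (.leaf [nat_lit 52,nat_lit 2,nat_lit 1,nat_lit 7,nat_lit 6,nat_lit 7,nat_lit 6])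
) (.node (.leaf [nat_lit 68,nat_lit 3,nat_lit 1,nat_lit 11,nat_lit 3,nat_lit 11,nat_lit 3,nat_lit 11,nat_lit 3])
 (.leaf [nat_lit 25,nat_lit 1,nat_lit 1,nat_lit 3,nat_lit 4,nat_lit 3,nat_lit 4])
)) (.node (.node (.leaf [nat_lit 19,nat_lit 1,nat_lit 1,nat_lit 1,nat_lit 3,nat_lit 1,nat_lit 3])
 (.leaf [nat_lit 63,nat_lit 2,nat_lit 1,nat_lit 5,nat_lit 10,nat_lit 5,nat_lit 10])
) (.leaf [nat_lit 44,nat_lit 2,nat_lit 1,nat_lit 8,nat_lit 4,nat_lit 8,nat_lit 4,nat_lit 5])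
)) (.node (.node (.node (.leaf [nat_lit 73,nat_lit 2,nat_lit 1,nat_lit 7,nat_lit 11,nat_lit 7,nat_lit 11])
 (.leaf [nat_lit 59,nat_lit 3,nat_lit 1,nat_lit 1,nat_lit 10,nat_lit 0,nat_lit 1,nat_lit 10])
) (.leaf [nat_lit 23,nat_lit 1,nat_lit 1,nat_lit 2,nat_lit 4,nat_lit 2,nat_lit 4])
) (.node (.node (.leaf [nat_lit 31,nat_lit 2,nat_lit 1,nat_lit 6,nat_lit 3,nat_lit 6,nat_lit 3,nat_lit 4])
 (.leaf [nat_lit 31,nat_lit 4,nat_lit 1,nat_lit 6,nat_lit 3,nat_lit 4,nat_lit 6,nat_lit 3])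
) (.leaf [nat_lit 29,nat_lit 2,nat_lit 1,nat_lit 1,nat_lit 6,nat_lit 1,nat_lit 6])
)))) (.node (.node (.node (.node (.node (.leaf [nat_lit 76,nat_lit 2,nat_lit 1,nat_lit 1,nat_lit 11,nat_lit 1,nat_lit 11])
 (.leaf [nat_lit 33,nat_lit 2,nat_lit 1,nat_lit 5,nat_lit 6,nat_lit 5,nat_lit 6])
) (.node (.leaf [nat_lit 49,nat_lit 2,nat_lit 1,nat_lit 9,nat_lit 3,nat_lit 9,nat_lit 0,nat_lit 3])
 (.leaf [nat_lit 61,nat_lit 1,nat_lit 1,nat_lit 10,nat_lit 3,nat_lit 10,nat_lit 3])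
)) (.node (.node (.leaf [nat_lit 15,nat_lit 1,nat_lit 1,nat_lit 0,nat_lit 3,nat_lit 0,nat_lit 3])
 (.leaf [nat_lit 62,nat_lit 3,nat_lit 1,nat_lit 4,nat_lit 10,nat_lit 3,nat_lit 4,nat_lit 10])
) (.leaf [nat_lit 38,nat_lit 1,nat_lit 1,nat_lit 7,nat_lit 4,nat_lit 7,nat_lit 4])
)) (.node (.node (.node (.leaf [nat_lit 72,nat_lit 2,nat_lit 1,nat_lit 6,nat_lit 11,nat_lit 6,nat_lit 11])
 (.leaf [nat_lit 58,nat_lit 2,nat_lit 1,nat_lit 0,nat_lit 10,nat_lit 0,nat_lit 10])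
) (.leaf [nat_lit 20,nat_lit 1,nat_lit 1,nat_lit 1,nat_lit 4,nat_lit 1,nat_lit 4])
) (.node (.node (.leaf [nat_lit 26,nat_lit 2,nat_lit 1,nat_lit 5,nat_lit 3,nat_lit 5,nat_lit 3])
 (.leaf [nat_lit 67,nat_lit 2,nat_lit 1,nat_lit 9,nat_lit 10,nat_lit 9,nat_lit 10])
) (.leaf [nat_lit 28,nat_lit 3,nat_lit 1,nat_lit 0,nat_lit 6,nat_lit 0,nat_lit 1,nat_lit 6])
))) (.node (.node (.node (.node (.leaf [nat_lit 74,nat_lit 3,nat_lit 1,nat_lit 4,nat_lit 11,nat_lit 6,nat_lit 4,nat_lit 11])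
 (.leaf [nat_lit 54,nat_lit 3,nat_lit 1,nat_lit 8,nat_lit 6,nat_lit 7,nat_lit 8,nat_lit 6])
) (.node (.leaf [nat_lit 78,nat_lit 6,nat_lit 1,nat_lit 10,nat_lit 11,nat_lit 10,nat_lit 11,nat_lit 10,nat_lit 11,nat_lit 10,nat_lit 11])
 (.leaf [nat_lit 62,nat_lit 2,nat_lit 1,nat_lit 10,nat_lit 4,nat_lit 10,nat_lit 3,nat_lit 4])
)) (.node (.node (.leaf [nat_lit 22,nat_lit 1,nat_lit 1,nat_lit 2,nat_lit 3,nat_lit 2,nat_lit 3])
 (.leaf [nat_lit 65,nat_lit 3,nat_lit 1,nat_lit 7,nat_lit 10,nat_lit 8,nat_lit 7,nat_lit 10])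
) (.leaf [nat_lit 50,nat_lit 2,nat_lit 1,nat_lit 9,nat_lit 4,nat_lit 9,nat_lit 1,nat_lit 4])
)) (.node (.node (.node (.leaf [nat_lit 71,nat_lit 2,nat_lit 1,nat_lit 8,nat_lit 11,nat_lit 8,nat_lit 11])
 (.leaf [nat_lit 60,nat_lit 2,nat_lit 1,nat_lit 2,nat_lit 10,nat_lit 2,nat_lit 10])
) (.leaf [nat_lit 27,nat_lit 2,nat_lit 1,nat_lit 5,nat_lit 4,nat_lit 5,nat_lit 4])
) (.node (.node (.leaf [nat_lit 37,nat_lit 2,nat_lit 1,nat_lit 7,nat_lit 3,nat_lit 7,nat_lit 3,nat_lit 5])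
 (.leaf [nat_lit 32,nat_lit 2,nat_lit 1,nat_lit 4,nat_lit 6,nat_lit 4,nat_lit 6])
) (.leaf [nat_lit 30,nat_lit 2,nat_lit 1,nat_lit 2,nat_lit 6,nat_lit 2,nat_lit 6])
)))))

noncomputable def tH_subs : LT :=
(.leaf [nat_lit 0,nat_lit 0,nat_lit 0,nat_lit 12])


noncomputable def tH : TC :=
  ⟨fun x c => Nat.shiftRight (BT.get tH_t x) (Nat.mul (nat_lit 30) c),
  (nat_lit 6), (nat_lit 63), (nat_lit 131071), (nat_lit 17), (nat_lit 8191), (nat_lit 131008), (nat_lit 7), (nat_lit 17), (nat_lit 12), (nat_lit 11), (nat_lit 12), (nat_lit 13), tH_inv, tH_rules, tH_subs⟩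

theorem tH_c1 : tH.rules.all (ruleOK tH.m tH.inv tH_rels) = true := by decide +kernel
theorem tH_c2 : tH.subs.all (subOK tH.m tH.inv tH_hws) = true := by decide +kernel
theorem tH_c3 : tH.base = true := by decide +kernel

theorem tH_s0 : tH.slots (nat_lit 0) (nat_lit 17) = true := by decide +kernel

theorem tH_e0 : allRange (nat_lit 7) (nat_lit 10) tH.slotE = true := by decide +kernel

theorem tH_c4 : tH.Upto tH.N := ((TC.upto_zero tH).step _ tH_s0)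
theorem tH_c5 : tH.UptoE tH.N := ((TC.uptoE_n tH).step _ tH_e0)
theorem tH_bound {G : Type*} [Group G] {g : ℕ → G} {H : Subgroup G} (hinv : ∀ x < 12, g x * g (tH_inv x) = 1)
    (hrels : ∀ i, evalW g (tH_rels.get i) = 1) (hH : ∀ x < 11, g x ∈ H) (hhws : ∀ i, evalW g (tH_hws.get i) ∈ H) :
    H.relIndex (genLt g 12) ≠ 0 ∧ H.relIndex (genLt g 12) ≤ 7 :=
  TC.relIndex_le (T := tH) hinv hrels hH hhws tH_c1 tH_c2 tH_c3 tH_c4 tH_c5

theorem tH_bd : Bound.{u} relH 11 12 7 := fun _ _ _ _ hs hH =>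
  tH_bound (hs.hinv (by decide +kernel)) (hs.tree (by decide +kernel)) hH (leaf_nil_mem' _ _ (by decide +kernel))

theorem presR : Pres.{u} relR 6 64 := pres_nil.step tR_bd (by decide +kernel)

theorem presT : Pres.{u} relT 10 1024 := presR.step tT_bd (by decide +kernel)

theorem presP : Pres.{u} relP 11 3072 := presT.step tP_bd (by decide +kernel)

theorem presH : Pres.{u} relH 12 21504 := presP.step tH_bd (by decide +kernel)

theorem cH_ok : allL cH B5.v = true := by decide +kernel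

end Cfsg.Agent.Rec.L52
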