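import Mathlib
import Cfsg.Agent.Rec.L52.Data
import Cfsg.Agent.Rec.Orb

/-! Generated by tools/rec: listed subgroups and classes of 2^(1+6):L3(2) -/

set_option autoImplicit false
set_option maxRecDepth 100000
set_option linter.unusedVariables false
set_option exponentiation.threshold 100000

namespace Cfsg.Agent.Rec.L52

open Cfsg.Agent.Spor Cfsg.Agent.Rec

universe u

noncomputable def H_t : ST :=
(.node (nat_lit 0x1091101) (.node (nat_lit 0x1044881) (.node (nat_lit 0x1026841) (.node (nat_lit 0x1017281) (.node (nat_lit 0x1013901) (.node (nat_lit 0x10122c1) (.node (nat_lit 0x1011991) (.node (nat_lit 0x1011349) (.node (nat_lit 0x1011195) (.node (nat_lit 0x101114b) (.node (nat_lit 0x1011115) (.node (nat_lit 0x101110b) (.node (nat_lit 0x1011105) (.node (nat_lit 0x1011103) (.leaf (nat_lit 0x1011101) (nat_lit 2049))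
 (.leaf (nat_lit 0x1011103) (nat_lit 2305))
) (.node (nat_lit 0x1011107) (.leaf (nat_lit 0x1011105) (nat_lit 2309))
 (.node (nat_lit 0x1011109) (.leaf (nat_lit 0x1011107) (nat_lit 2305))
 (.leaf (nat_lit 0x1011109) (nat_lit 2304))
))) (.node (nat_lit 0x101110f) (.node (nat_lit 0x101110d) (.leaf (nat_lit 0x101110b) (nat_lit 2560))
 (.leaf (nat_lit 0x101110d) (nat_lit 2305))
) (.node (nat_lit 0x1011111) (.leaf (nat_lit 0x101110f) (nat_lit 2306))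
 (.node (nat_lit 0x1011113) (.leaf (nat_lit 0x1011111) (nat_lit 4097))
 (.leaf (nat_lit 0x1011113) (nat_lit 3841))
)))) (.node (nat_lit 0x101111f) (.node (nat_lit 0x1011119) (.node (nat_lit 0x1011117) (.leaf (nat_lit 0x1011115) (nat_lit 3841))
 (.leaf (nat_lit 0x1011117) (nat_lit 3585))
) (.node (nat_lit 0x101111b) (.leaf (nat_lit 0x1011119) (nat_lit 3842))
 (.node (nat_lit 0x101111d) (.leaf (nat_lit 0x101111b) (nat_lit 3586))
 (.leaf (nat_lit 0x101111d) (nat_lit 3587))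
))) (.node (nat_lit 0x1011145) (.node (nat_lit 0x1011141) (.leaf (nat_lit 0x101111f) (nat_lit 3331))
 (.node (nat_lit 0x1011143) (.leaf (nat_lit 0x1011141) (nat_lit 1794))
 (.leaf (nat_lit 0x1011143) (nat_lit 2050))
)) (.node (nat_lit 0x1011147) (.leaf (nat_lit 0x1011145) (nat_lit 2052))
 (.node (nat_lit 0x1011149) (.leaf (nat_lit 0x1011147) (nat_lit 2050))
 (.leaf (nat_lit 0x1011149) (nat_lit 2306))
))))) (.node (nat_lit 0x101115f) (.node (nat_lit 0x1011155) (.node (nat_lit 0x101114f) (.node (nat_lit 0x101114d) (.leaf (nat_lit 0x101114b) (nat_lit 2050))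
 (.leaf (nat_lit 0x101114d) (nat_lit 2305))
) (.node (nat_lit 0x1011151) (.leaf (nat_lit 0x101114f) (nat_lit 2049))
 (.node (nat_lit 0x1011153) (.leaf (nat_lit 0x1011151) (nat_lit 3842))
 (.leaf (nat_lit 0x1011153) (nat_lit 3586))
))) (.node (nat_lit 0x1011159) (.node (nat_lit 0x1011157) (.leaf (nat_lit 0x1011155) (nat_lit 3585))
 (.leaf (nat_lit 0x1011157) (nat_lit 3587))
) (.node (nat_lit 0x101115b) (.leaf (nat_lit 0x1011159) (nat_lit 3586))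
 (.node (nat_lit 0x101115d) (.leaf (nat_lit 0x101115b) (nat_lit 3586))
 (.leaf (nat_lit 0x101115d) (nat_lit 3587))
)))) (.node (nat_lit 0x1011189) (.node (nat_lit 0x1011183) (.node (nat_lit 0x1011181) (.leaf (nat_lit 0x101115f) (nat_lit 3586))
 (.leaf (nat_lit 0x1011181) (nat_lit 1797))
) (.node (nat_lit 0x1011185) (.leaf (nat_lit 0x1011183) (nat_lit 2053))
 (.node (nat_lit 0x1011187) (.leaf (nat_lit 0x1011185) (nat_lit 2309))
 (.leaf (nat_lit 0x1011187) (nat_lit 2053))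
))) (.node (nat_lit 0x101118f) (.node (nat_lit 0x101118b) (.leaf (nat_lit 0x1011189) (nat_lit 2565))
 (.node (nat_lit 0x101118d) (.leaf (nat_lit 0x101118b) (nat_lit 2309))
 (.leaf (nat_lit 0x101118d) (nat_lit 2053))
)) (.node (nat_lit 0x1011191) (.leaf (nat_lit 0x101118f) (nat_lit 2309))
 (.node (nat_lit 0x1011193) (.leaf (nat_lit 0x1011191) (nat_lit 3845))
 (.leaf (nat_lit 0x1011193) (nat_lit 3589))
)))))) (.node (nat_lit 0x10111df) (.node (nat_lit 0x10111c9) (.node (nat_lit 0x101119f) (.node (nat_lit 0x1011199) (.node (nat_lit 0x1011197) (.leaf (nat_lit 0x1011195) (nat_lit 3589))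
 (.leaf (nat_lit 0x1011197) (nat_lit 3333))
) (.node (nat_lit 0x101119b) (.leaf (nat_lit 0x1011199) (nat_lit 3587))
 (.node (nat_lit 0x101119d) (.leaf (nat_lit 0x101119b) (nat_lit 3331))
 (.leaf (nat_lit 0x101119d) (nat_lit 3589))
))) (.node (nat_lit 0x10111c3) (.node (nat_lit 0x10111c1) (.leaf (nat_lit 0x101119f) (nat_lit 3333))
 (.leaf (nat_lit 0x10111c1) (nat_lit 1541))
) (.node (nat_lit 0x10111c5) (.leaf (nat_lit 0x10111c3) (nat_lit 1797))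
 (.node (nat_lit 0x10111c7) (.leaf (nat_lit 0x10111c5) (nat_lit 2053))
 (.leaf (nat_lit 0x10111c7) (nat_lit 2053))
)))) (.node (nat_lit 0x10111d3) (.node (nat_lit 0x10111cd) (.node (nat_lit 0x10111cb) (.leaf (nat_lit 0x10111c9) (nat_lit 2309))
 (.leaf (nat_lit 0x10111cb) (nat_lit 2309))
) (.node (nat_lit 0x10111cf) (.leaf (nat_lit 0x10111cd) (nat_lit 2053))
 (.node (nat_lit 0x10111d1) (.leaf (nat_lit 0x10111cf) (nat_lit 1797))
 (.leaf (nat_lit 0x10111d1) (nat_lit 3589))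
))) (.node (nat_lit 0x10111d9) (.node (nat_lit 0x10111d5) (.leaf (nat_lit 0x10111d3) (nat_lit 3333))
 (.node (nat_lit 0x10111d7) (.leaf (nat_lit 0x10111d5) (nat_lit 3333))
 (.leaf (nat_lit 0x10111d7) (nat_lit 3333))
)) (.node (nat_lit 0x10111db) (.leaf (nat_lit 0x10111d9) (nat_lit 3331))
 (.node (nat_lit 0x10111dd) (.leaf (nat_lit 0x10111db) (nat_lit 3333))
 (.leaf (nat_lit 0x10111dd) (nat_lit 3333))
))))) (.node (nat_lit 0x1011313) (.node (nat_lit 0x1011309) (.node (nat_lit 0x1011303) (.node (nat_lit 0x1011301) (.leaf (nat_lit 0x10111df) (nat_lit 3333))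
 (.leaf (nat_lit 0x1011301) (nat_lit 2305))
) (.node (nat_lit 0x1011305) (.leaf (nat_lit 0x1011303) (nat_lit 2561))
 (.node (nat_lit 0x1011307) (.leaf (nat_lit 0x1011305) (nat_lit 2565))
 (.leaf (nat_lit 0x1011307) (nat_lit 2561))
))) (.node (nat_lit 0x101130d) (.node (nat_lit 0x101130b) (.leaf (nat_lit 0x1011309) (nat_lit 3586))
 (.leaf (nat_lit 0x101130b) (nat_lit 3330))
) (.node (nat_lit 0x101130f) (.leaf (nat_lit 0x101130d) (nat_lit 3331))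
 (.node (nat_lit 0x1011311) (.leaf (nat_lit 0x101130f) (nat_lit 3075))
 (.leaf (nat_lit 0x1011311) (nat_lit 3842))
)))) (.node (nat_lit 0x101131d) (.node (nat_lit 0x1011317) (.node (nat_lit 0x1011315) (.leaf (nat_lit 0x1011313) (nat_lit 3586))
 (.leaf (nat_lit 0x1011315) (nat_lit 3587))
) (.node (nat_lit 0x1011319) (.leaf (nat_lit 0x1011317) (nat_lit 3331))
 (.node (nat_lit 0x101131b) (.leaf (nat_lit 0x1011319) (nat_lit 2560))
 (.leaf (nat_lit 0x101131b) (nat_lit 2816))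
))) (.node (nat_lit 0x1011343) (.node (nat_lit 0x101131f) (.leaf (nat_lit 0x101131d) (nat_lit 2561))
 (.node (nat_lit 0x1011341) (.leaf (nat_lit 0x101131f) (nat_lit 2562))
 (.leaf (nat_lit 0x1011341) (nat_lit 2050))
)) (.node (nat_lit 0x1011345) (.leaf (nat_lit 0x1011343) (nat_lit 2306))
 (.node (nat_lit 0x1011347) (.leaf (nat_lit 0x1011345) (nat_lit 2308))
 (.leaf (nat_lit 0x1011347) (nat_lit 2306))
))))))) (.node (nat_lit 0x10113dd) (.node (nat_lit 0x1011393) (.node (nat_lit 0x101135d) (.node (nat_lit 0x1011353) (.node (nat_lit 0x101134d) (.node (nat_lit 0x101134b) (.leaf (nat_lit 0x1011349) (nat_lit 3586))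
 (.leaf (nat_lit 0x101134b) (nat_lit 3330))
) (.node (nat_lit 0x101134f) (.leaf (nat_lit 0x101134d) (nat_lit 3331))
 (.node (nat_lit 0x1011351) (.leaf (nat_lit 0x101134f) (nat_lit 3330))
 (.leaf (nat_lit 0x1011351) (nat_lit 3586))
))) (.node (nat_lit 0x1011357) (.node (nat_lit 0x1011355) (.leaf (nat_lit 0x1011353) (nat_lit 3842))
 (.leaf (nat_lit 0x1011355) (nat_lit 3587))
) (.node (nat_lit 0x1011359) (.leaf (nat_lit 0x1011357) (nat_lit 3331))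
 (.node (nat_lit 0x101135b) (.leaf (nat_lit 0x1011359) (nat_lit 2562))
 (.leaf (nat_lit 0x101135b) (nat_lit 2306))
)))) (.node (nat_lit 0x1011387) (.node (nat_lit 0x1011381) (.node (nat_lit 0x101135f) (.leaf (nat_lit 0x101135d) (nat_lit 2561))
 (.leaf (nat_lit 0x101135f) (nat_lit 2305))
) (.node (nat_lit 0x1011383) (.leaf (nat_lit 0x1011381) (nat_lit 2053))
 (.node (nat_lit 0x1011385) (.leaf (nat_lit 0x1011383) (nat_lit 2309))
 (.leaf (nat_lit 0x1011385) (nat_lit 2565))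
))) (.node (nat_lit 0x101138d) (.node (nat_lit 0x1011389) (.leaf (nat_lit 0x1011387) (nat_lit 2309))
 (.node (nat_lit 0x101138b) (.leaf (nat_lit 0x1011389) (nat_lit 3589))
 (.leaf (nat_lit 0x101138b) (nat_lit 3333))
)) (.node (nat_lit 0x101138f) (.leaf (nat_lit 0x101138d) (nat_lit 3333))
 (.node (nat_lit 0x1011391) (.leaf (nat_lit 0x101138f) (nat_lit 3077))
 (.leaf (nat_lit 0x1011391) (nat_lit 3589))
))))) (.node (nat_lit 0x10113c7) (.node (nat_lit 0x101139d) (.node (nat_lit 0x1011397) (.node (nat_lit 0x1011395) (.leaf (nat_lit 0x1011393) (nat_lit 3333))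
 (.leaf (nat_lit 0x1011395) (nat_lit 3845))
) (.node (nat_lit 0x1011399) (.leaf (nat_lit 0x1011397) (nat_lit 3589))
 (.node (nat_lit 0x101139b) (.leaf (nat_lit 0x1011399) (nat_lit 2821))
 (.leaf (nat_lit 0x101139b) (nat_lit 2565))
))) (.node (nat_lit 0x10113c1) (.node (nat_lit 0x101139f) (.leaf (nat_lit 0x101139d) (nat_lit 2309))
 (.leaf (nat_lit 0x101139f) (nat_lit 2565))
) (.node (nat_lit 0x10113c3) (.leaf (nat_lit 0x10113c1) (nat_lit 1797))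
 (.node (nat_lit 0x10113c5) (.leaf (nat_lit 0x10113c3) (nat_lit 2053))
 (.leaf (nat_lit 0x10113c5) (nat_lit 2309))
)))) (.node (nat_lit 0x10113d1) (.node (nat_lit 0x10113cb) (.node (nat_lit 0x10113c9) (.leaf (nat_lit 0x10113c7) (nat_lit 2309))
 (.leaf (nat_lit 0x10113c9) (nat_lit 3589))
) (.node (nat_lit 0x10113cd) (.leaf (nat_lit 0x10113cb) (nat_lit 3333))
 (.node (nat_lit 0x10113cf) (.leaf (nat_lit 0x10113cd) (nat_lit 3333))
 (.leaf (nat_lit 0x10113cf) (nat_lit 3077))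
))) (.node (nat_lit 0x10113d7) (.node (nat_lit 0x10113d3) (.leaf (nat_lit 0x10113d1) (nat_lit 3333))
 (.node (nat_lit 0x10113d5) (.leaf (nat_lit 0x10113d3) (nat_lit 3589))
 (.leaf (nat_lit 0x10113d5) (nat_lit 3589))
)) (.node (nat_lit 0x10113d9) (.leaf (nat_lit 0x10113d7) (nat_lit 3589))
 (.node (nat_lit 0x10113db) (.leaf (nat_lit 0x10113d9) (nat_lit 2565))
 (.leaf (nat_lit 0x10113db) (nat_lit 2565))
)))))) (.node (nat_lit 0x1011947) (.node (nat_lit 0x1011911) (.node (nat_lit 0x1011907) (.node (nat_lit 0x1011901) (.node (nat_lit 0x10113df) (.leaf (nat_lit 0x10113dd) (nat_lit 2309))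
 (.leaf (nat_lit 0x10113df) (nat_lit 2053))
) (.node (nat_lit 0x1011903) (.leaf (nat_lit 0x1011901) (nat_lit 1797))
 (.node (nat_lit 0x1011905) (.leaf (nat_lit 0x1011903) (nat_lit 2053))
 (.leaf (nat_lit 0x1011905) (nat_lit 2309))
))) (.node (nat_lit 0x101190b) (.node (nat_lit 0x1011909) (.leaf (nat_lit 0x1011907) (nat_lit 2053))
 (.leaf (nat_lit 0x1011909) (nat_lit 2053))
) (.node (nat_lit 0x101190d) (.leaf (nat_lit 0x101190b) (nat_lit 2309))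
 (.node (nat_lit 0x101190f) (.leaf (nat_lit 0x101190d) (nat_lit 2308))
 (.leaf (nat_lit 0x101190f) (nat_lit 2052))
)))) (.node (nat_lit 0x101191b) (.node (nat_lit 0x1011915) (.node (nat_lit 0x1011913) (.leaf (nat_lit 0x1011911) (nat_lit 3844))
 (.leaf (nat_lit 0x1011913) (nat_lit 3588))
) (.node (nat_lit 0x1011917) (.leaf (nat_lit 0x1011915) (nat_lit 3587))
 (.node (nat_lit 0x1011919) (.leaf (nat_lit 0x1011917) (nat_lit 3588))
 (.leaf (nat_lit 0x1011919) (nat_lit 3588))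
))) (.node (nat_lit 0x1011941) (.node (nat_lit 0x101191d) (.leaf (nat_lit 0x101191b) (nat_lit 3332))
 (.node (nat_lit 0x101191f) (.leaf (nat_lit 0x101191d) (nat_lit 3331))
 (.leaf (nat_lit 0x101191f) (nat_lit 3332))
)) (.node (nat_lit 0x1011943) (.leaf (nat_lit 0x1011941) (nat_lit 1540))
 (.node (nat_lit 0x1011945) (.leaf (nat_lit 0x1011943) (nat_lit 1796))
 (.leaf (nat_lit 0x1011945) (nat_lit 2052))
))))) (.node (nat_lit 0x101195b) (.node (nat_lit 0x1011951) (.node (nat_lit 0x101194b) (.node (nat_lit 0x1011949) (.leaf (nat_lit 0x1011947) (nat_lit 1796))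
 (.leaf (nat_lit 0x1011949) (nat_lit 2052))
) (.node (nat_lit 0x101194d) (.leaf (nat_lit 0x101194b) (nat_lit 1796))
 (.node (nat_lit 0x101194f) (.leaf (nat_lit 0x101194d) (nat_lit 2052))
 (.leaf (nat_lit 0x101194f) (nat_lit 2308))
))) (.node (nat_lit 0x1011955) (.node (nat_lit 0x1011953) (.leaf (nat_lit 0x1011951) (nat_lit 3588))
 (.leaf (nat_lit 0x1011953) (nat_lit 3332))
) (.node (nat_lit 0x1011957) (.leaf (nat_lit 0x1011955) (nat_lit 3588))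
 (.node (nat_lit 0x1011959) (.leaf (nat_lit 0x1011957) (nat_lit 3588))
 (.leaf (nat_lit 0x1011959) (nat_lit 3332))
)))) (.node (nat_lit 0x1011985) (.node (nat_lit 0x101195f) (.node (nat_lit 0x101195d) (.leaf (nat_lit 0x101195b) (nat_lit 3332))
 (.leaf (nat_lit 0x101195d) (nat_lit 3588))
) (.node (nat_lit 0x1011981) (.leaf (nat_lit 0x101195f) (nat_lit 3332))
 (.node (nat_lit 0x1011983) (.leaf (nat_lit 0x1011981) (nat_lit 1541))
 (.leaf (nat_lit 0x1011983) (nat_lit 1797))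
))) (.node (nat_lit 0x101198b) (.node (nat_lit 0x1011987) (.leaf (nat_lit 0x1011985) (nat_lit 2053))
 (.node (nat_lit 0x1011989) (.leaf (nat_lit 0x1011987) (nat_lit 1797))
 (.leaf (nat_lit 0x1011989) (nat_lit 2309))
)) (.node (nat_lit 0x101198d) (.leaf (nat_lit 0x101198b) (nat_lit 2053))
 (.node (nat_lit 0x101198f) (.leaf (nat_lit 0x101198d) (nat_lit 1797))
 (.leaf (nat_lit 0x101198f) (nat_lit 2053))
)))))))) (.node (nat_lit 0x1011bd9) (.node (nat_lit 0x1011b45) (.node (nat_lit 0x10119db) (.node (nat_lit 0x10119c5) (.node (nat_lit 0x101199b) (.node (nat_lit 0x1011995) (.node (nat_lit 0x1011993) (.leaf (nat_lit 0x1011991) (nat_lit 3589))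
 (.leaf (nat_lit 0x1011993) (nat_lit 3333))
) (.node (nat_lit 0x1011997) (.leaf (nat_lit 0x1011995) (nat_lit 3333))
 (.node (nat_lit 0x1011999) (.leaf (nat_lit 0x1011997) (nat_lit 3333))
 (.leaf (nat_lit 0x1011999) (nat_lit 3331))
))) (.node (nat_lit 0x101199f) (.node (nat_lit 0x101199d) (.leaf (nat_lit 0x101199b) (nat_lit 3333))
 (.leaf (nat_lit 0x101199d) (nat_lit 3333))
) (.node (nat_lit 0x10119c1) (.leaf (nat_lit 0x101199f) (nat_lit 3332))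
 (.node (nat_lit 0x10119c3) (.leaf (nat_lit 0x10119c1) (nat_lit 1540))
 (.leaf (nat_lit 0x10119c3) (nat_lit 1796))
)))) (.node (nat_lit 0x10119cf) (.node (nat_lit 0x10119c9) (.node (nat_lit 0x10119c7) (.leaf (nat_lit 0x10119c5) (nat_lit 2308))
 (.leaf (nat_lit 0x10119c7) (nat_lit 2052))
) (.node (nat_lit 0x10119cb) (.leaf (nat_lit 0x10119c9) (nat_lit 2308))
 (.node (nat_lit 0x10119cd) (.leaf (nat_lit 0x10119cb) (nat_lit 2564))
 (.leaf (nat_lit 0x10119cd) (nat_lit 2052))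
))) (.node (nat_lit 0x10119d5) (.node (nat_lit 0x10119d1) (.leaf (nat_lit 0x10119cf) (nat_lit 1796))
 (.node (nat_lit 0x10119d3) (.leaf (nat_lit 0x10119d1) (nat_lit 3588))
 (.leaf (nat_lit 0x10119d3) (nat_lit 3332))
)) (.node (nat_lit 0x10119d7) (.leaf (nat_lit 0x10119d5) (nat_lit 3333))
 (.node (nat_lit 0x10119d9) (.leaf (nat_lit 0x10119d7) (nat_lit 3332))
 (.leaf (nat_lit 0x10119d9) (nat_lit 3332))
))))) (.node (nat_lit 0x1011b0f) (.node (nat_lit 0x1011b05) (.node (nat_lit 0x10119df) (.node (nat_lit 0x10119dd) (.leaf (nat_lit 0x10119db) (nat_lit 3332))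
 (.leaf (nat_lit 0x10119dd) (nat_lit 3333))
) (.node (nat_lit 0x1011b01) (.leaf (nat_lit 0x10119df) (nat_lit 3332))
 (.node (nat_lit 0x1011b03) (.leaf (nat_lit 0x1011b01) (nat_lit 2053))
 (.leaf (nat_lit 0x1011b03) (nat_lit 2309))
))) (.node (nat_lit 0x1011b09) (.node (nat_lit 0x1011b07) (.leaf (nat_lit 0x1011b05) (nat_lit 2565))
 (.leaf (nat_lit 0x1011b07) (nat_lit 2309))
) (.node (nat_lit 0x1011b0b) (.leaf (nat_lit 0x1011b09) (nat_lit 3332))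
 (.node (nat_lit 0x1011b0d) (.leaf (nat_lit 0x1011b0b) (nat_lit 3076))
 (.leaf (nat_lit 0x1011b0d) (nat_lit 3075))
)))) (.node (nat_lit 0x1011b19) (.node (nat_lit 0x1011b13) (.node (nat_lit 0x1011b11) (.leaf (nat_lit 0x1011b0f) (nat_lit 3076))
 (.leaf (nat_lit 0x1011b11) (nat_lit 3588))
) (.node (nat_lit 0x1011b15) (.leaf (nat_lit 0x1011b13) (nat_lit 3332))
 (.node (nat_lit 0x1011b17) (.leaf (nat_lit 0x1011b15) (nat_lit 3331))
 (.leaf (nat_lit 0x1011b17) (nat_lit 3332))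
))) (.node (nat_lit 0x1011b1f) (.node (nat_lit 0x1011b1b) (.leaf (nat_lit 0x1011b19) (nat_lit 2309))
 (.node (nat_lit 0x1011b1d) (.leaf (nat_lit 0x1011b1b) (nat_lit 2565))
 (.leaf (nat_lit 0x1011b1d) (nat_lit 2564))
)) (.node (nat_lit 0x1011b41) (.leaf (nat_lit 0x1011b1f) (nat_lit 2308))
 (.node (nat_lit 0x1011b43) (.leaf (nat_lit 0x1011b41) (nat_lit 1796))
 (.leaf (nat_lit 0x1011b43) (nat_lit 2052))
)))))) (.node (nat_lit 0x1011b8f) (.node (nat_lit 0x1011b59) (.node (nat_lit 0x1011b4f) (.node (nat_lit 0x1011b49) (.node (nat_lit 0x1011b47) (.leaf (nat_lit 0x1011b45) (nat_lit 2308))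
 (.leaf (nat_lit 0x1011b47) (nat_lit 2052))
) (.node (nat_lit 0x1011b4b) (.leaf (nat_lit 0x1011b49) (nat_lit 3332))
 (.node (nat_lit 0x1011b4d) (.leaf (nat_lit 0x1011b4b) (nat_lit 3076))
 (.leaf (nat_lit 0x1011b4d) (nat_lit 3332))
))) (.node (nat_lit 0x1011b53) (.node (nat_lit 0x1011b51) (.leaf (nat_lit 0x1011b4f) (nat_lit 3076))
 (.leaf (nat_lit 0x1011b51) (nat_lit 3332))
) (.node (nat_lit 0x1011b55) (.leaf (nat_lit 0x1011b53) (nat_lit 3588))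
 (.node (nat_lit 0x1011b57) (.leaf (nat_lit 0x1011b55) (nat_lit 3332))
 (.leaf (nat_lit 0x1011b57) (nat_lit 3332))
)))) (.node (nat_lit 0x1011b83) (.node (nat_lit 0x1011b5d) (.node (nat_lit 0x1011b5b) (.leaf (nat_lit 0x1011b59) (nat_lit 2308))
 (.leaf (nat_lit 0x1011b5b) (nat_lit 2052))
) (.node (nat_lit 0x1011b5f) (.leaf (nat_lit 0x1011b5d) (nat_lit 2308))
 (.node (nat_lit 0x1011b81) (.leaf (nat_lit 0x1011b5f) (nat_lit 2564))
 (.leaf (nat_lit 0x1011b81) (nat_lit 1797))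
))) (.node (nat_lit 0x1011b89) (.node (nat_lit 0x1011b85) (.leaf (nat_lit 0x1011b83) (nat_lit 2053))
 (.node (nat_lit 0x1011b87) (.leaf (nat_lit 0x1011b85) (nat_lit 2309))
 (.leaf (nat_lit 0x1011b87) (nat_lit 2053))
)) (.node (nat_lit 0x1011b8b) (.leaf (nat_lit 0x1011b89) (nat_lit 3333))
 (.node (nat_lit 0x1011b8d) (.leaf (nat_lit 0x1011b8b) (nat_lit 3077))
 (.leaf (nat_lit 0x1011b8d) (nat_lit 3077))
))))) (.node (nat_lit 0x1011bc3) (.node (nat_lit 0x1011b99) (.node (nat_lit 0x1011b93) (.node (nat_lit 0x1011b91) (.leaf (nat_lit 0x1011b8f) (nat_lit 3077))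
 (.leaf (nat_lit 0x1011b91) (nat_lit 3333))
) (.node (nat_lit 0x1011b95) (.leaf (nat_lit 0x1011b93) (nat_lit 3333))
 (.node (nat_lit 0x1011b97) (.leaf (nat_lit 0x1011b95) (nat_lit 3589))
 (.leaf (nat_lit 0x1011b97) (nat_lit 3333))
))) (.node (nat_lit 0x1011b9d) (.node (nat_lit 0x1011b9b) (.leaf (nat_lit 0x1011b99) (nat_lit 2565))
 (.leaf (nat_lit 0x1011b9b) (nat_lit 2309))
) (.node (nat_lit 0x1011b9f) (.leaf (nat_lit 0x1011b9d) (nat_lit 2053))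
 (.node (nat_lit 0x1011bc1) (.leaf (nat_lit 0x1011b9f) (nat_lit 2309))
 (.leaf (nat_lit 0x1011bc1) (nat_lit 1796))
)))) (.node (nat_lit 0x1011bcd) (.node (nat_lit 0x1011bc7) (.node (nat_lit 0x1011bc5) (.leaf (nat_lit 0x1011bc3) (nat_lit 2052))
 (.leaf (nat_lit 0x1011bc5) (nat_lit 2564))
) (.node (nat_lit 0x1011bc9) (.leaf (nat_lit 0x1011bc7) (nat_lit 2308))
 (.node (nat_lit 0x1011bcb) (.leaf (nat_lit 0x1011bc9) (nat_lit 3332))
 (.leaf (nat_lit 0x1011bcb) (nat_lit 3076))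
))) (.node (nat_lit 0x1011bd3) (.node (nat_lit 0x1011bcf) (.leaf (nat_lit 0x1011bcd) (nat_lit 3077))
 (.node (nat_lit 0x1011bd1) (.leaf (nat_lit 0x1011bcf) (nat_lit 3076))
 (.leaf (nat_lit 0x1011bd1) (nat_lit 3332))
)) (.node (nat_lit 0x1011bd5) (.leaf (nat_lit 0x1011bd3) (nat_lit 3332))
 (.node (nat_lit 0x1011bd7) (.leaf (nat_lit 0x1011bd5) (nat_lit 3332))
 (.leaf (nat_lit 0x1011bd7) (nat_lit 3588))
))))))) (.node (nat_lit 0x101218d) (.node (nat_lit 0x10120c3) (.node (nat_lit 0x101208d) (.node (nat_lit 0x1012083) (.node (nat_lit 0x1011bdd) (.node (nat_lit 0x1011bdb) (.leaf (nat_lit 0x1011bd9) (nat_lit 2564))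
 (.leaf (nat_lit 0x1011bdb) (nat_lit 2820))
) (.node (nat_lit 0x1011bdf) (.leaf (nat_lit 0x1011bdd) (nat_lit 2308))
 (.node (nat_lit 0x1012081) (.leaf (nat_lit 0x1011bdf) (nat_lit 2052))
 (.leaf (nat_lit 0x1012081) (nat_lit 1538))
))) (.node (nat_lit 0x1012087) (.node (nat_lit 0x1012085) (.leaf (nat_lit 0x1012083) (nat_lit 1794))
 (.leaf (nat_lit 0x1012085) (nat_lit 1794))
) (.node (nat_lit 0x1012089) (.leaf (nat_lit 0x1012087) (nat_lit 1794))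
 (.node (nat_lit 0x101208b) (.leaf (nat_lit 0x1012089) (nat_lit 2304))
 (.leaf (nat_lit 0x101208b) (nat_lit 2305))
)))) (.node (nat_lit 0x1012097) (.node (nat_lit 0x1012091) (.node (nat_lit 0x101208f) (.leaf (nat_lit 0x101208d) (nat_lit 2049))
 (.leaf (nat_lit 0x101208f) (nat_lit 2050))
) (.node (nat_lit 0x1012093) (.leaf (nat_lit 0x1012091) (nat_lit 3586))
 (.node (nat_lit 0x1012095) (.leaf (nat_lit 0x1012093) (nat_lit 3330))
 (.leaf (nat_lit 0x1012095) (nat_lit 3586))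
))) (.node (nat_lit 0x101209d) (.node (nat_lit 0x1012099) (.leaf (nat_lit 0x1012097) (nat_lit 3330))
 (.node (nat_lit 0x101209b) (.leaf (nat_lit 0x1012099) (nat_lit 3331))
 (.leaf (nat_lit 0x101209b) (nat_lit 3075))
)) (.node (nat_lit 0x101209f) (.leaf (nat_lit 0x101209d) (nat_lit 3075))
 (.node (nat_lit 0x10120c1) (.leaf (nat_lit 0x101209f) (nat_lit 2819))
 (.leaf (nat_lit 0x10120c1) (nat_lit 1282))
))))) (.node (nat_lit 0x10120d7) (.node (nat_lit 0x10120cd) (.node (nat_lit 0x10120c7) (.node (nat_lit 0x10120c5) (.leaf (nat_lit 0x10120c3) (nat_lit 1538))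
 (.leaf (nat_lit 0x10120c5) (nat_lit 1794))
) (.node (nat_lit 0x10120c9) (.leaf (nat_lit 0x10120c7) (nat_lit 1538))
 (.node (nat_lit 0x10120cb) (.leaf (nat_lit 0x10120c9) (nat_lit 2306))
 (.leaf (nat_lit 0x10120cb) (nat_lit 2050))
))) (.node (nat_lit 0x10120d1) (.node (nat_lit 0x10120cf) (.leaf (nat_lit 0x10120cd) (nat_lit 2050))
 (.leaf (nat_lit 0x10120cf) (nat_lit 2049))
) (.node (nat_lit 0x10120d3) (.leaf (nat_lit 0x10120d1) (nat_lit 3330))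
 (.node (nat_lit 0x10120d5) (.leaf (nat_lit 0x10120d3) (nat_lit 3074))
 (.leaf (nat_lit 0x10120d5) (nat_lit 3074))
)))) (.node (nat_lit 0x1012181) (.node (nat_lit 0x10120db) (.node (nat_lit 0x10120d9) (.leaf (nat_lit 0x10120d7) (nat_lit 3330))
 (.leaf (nat_lit 0x10120d9) (nat_lit 3075))
) (.node (nat_lit 0x10120dd) (.leaf (nat_lit 0x10120db) (nat_lit 2819))
 (.node (nat_lit 0x10120df) (.leaf (nat_lit 0x10120dd) (nat_lit 2819))
 (.leaf (nat_lit 0x10120df) (nat_lit 3075))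
))) (.node (nat_lit 0x1012187) (.node (nat_lit 0x1012183) (.leaf (nat_lit 0x1012181) (nat_lit 1538))
 (.node (nat_lit 0x1012185) (.leaf (nat_lit 0x1012183) (nat_lit 1794))
 (.leaf (nat_lit 0x1012185) (nat_lit 2050))
)) (.node (nat_lit 0x1012189) (.leaf (nat_lit 0x1012187) (nat_lit 1794))
 (.node (nat_lit 0x101218b) (.leaf (nat_lit 0x1012189) (nat_lit 2306))
 (.leaf (nat_lit 0x101218b) (nat_lit 2050))
)))))) (.node (nat_lit 0x10121d7) (.node (nat_lit 0x10121c1) (.node (nat_lit 0x1012197) (.node (nat_lit 0x1012191) (.node (nat_lit 0x101218f) (.leaf (nat_lit 0x101218d) (nat_lit 1794))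
 (.leaf (nat_lit 0x101218f) (nat_lit 2050))
) (.node (nat_lit 0x1012193) (.leaf (nat_lit 0x1012191) (nat_lit 3586))
 (.node (nat_lit 0x1012195) (.leaf (nat_lit 0x1012193) (nat_lit 3330))
 (.leaf (nat_lit 0x1012195) (nat_lit 3331))
))) (.node (nat_lit 0x101219b) (.node (nat_lit 0x1012199) (.leaf (nat_lit 0x1012197) (nat_lit 3075))
 (.leaf (nat_lit 0x1012199) (nat_lit 3586))
) (.node (nat_lit 0x101219d) (.leaf (nat_lit 0x101219b) (nat_lit 3330))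
 (.node (nat_lit 0x101219f) (.leaf (nat_lit 0x101219d) (nat_lit 3331))
 (.leaf (nat_lit 0x101219f) (nat_lit 3075))
)))) (.node (nat_lit 0x10121cb) (.node (nat_lit 0x10121c5) (.node (nat_lit 0x10121c3) (.leaf (nat_lit 0x10121c1) (nat_lit 1537))
 (.leaf (nat_lit 0x10121c3) (nat_lit 1793))
) (.node (nat_lit 0x10121c7) (.leaf (nat_lit 0x10121c5) (nat_lit 2049))
 (.node (nat_lit 0x10121c9) (.leaf (nat_lit 0x10121c7) (nat_lit 1793))
 (.leaf (nat_lit 0x10121c9) (nat_lit 2048))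
))) (.node (nat_lit 0x10121d1) (.node (nat_lit 0x10121cd) (.leaf (nat_lit 0x10121cb) (nat_lit 2304))
 (.node (nat_lit 0x10121cf) (.leaf (nat_lit 0x10121cd) (nat_lit 2048))
 (.leaf (nat_lit 0x10121cf) (nat_lit 1792))
)) (.node (nat_lit 0x10121d3) (.leaf (nat_lit 0x10121d1) (nat_lit 3585))
 (.node (nat_lit 0x10121d5) (.leaf (nat_lit 0x10121d3) (nat_lit 3329))
 (.leaf (nat_lit 0x10121d5) (nat_lit 3075))
))))) (.node (nat_lit 0x101228b) (.node (nat_lit 0x1012281) (.node (nat_lit 0x10121db) (.node (nat_lit 0x10121d9) (.leaf (nat_lit 0x10121d7) (nat_lit 3331))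
 (.leaf (nat_lit 0x10121d9) (nat_lit 3331))
) (.node (nat_lit 0x10121dd) (.leaf (nat_lit 0x10121db) (nat_lit 3075))
 (.node (nat_lit 0x10121df) (.leaf (nat_lit 0x10121dd) (nat_lit 3075))
 (.leaf (nat_lit 0x10121df) (nat_lit 3331))
))) (.node (nat_lit 0x1012285) (.node (nat_lit 0x1012283) (.leaf (nat_lit 0x1012281) (nat_lit 2306))
 (.leaf (nat_lit 0x1012283) (nat_lit 2562))
) (.node (nat_lit 0x1012287) (.leaf (nat_lit 0x1012285) (nat_lit 3074))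
 (.node (nat_lit 0x1012289) (.leaf (nat_lit 0x1012287) (nat_lit 2818))
 (.leaf (nat_lit 0x1012289) (nat_lit 3074))
)))) (.node (nat_lit 0x1012295) (.node (nat_lit 0x101228f) (.node (nat_lit 0x101228d) (.leaf (nat_lit 0x101228b) (nat_lit 2818))
 (.leaf (nat_lit 0x101228d) (nat_lit 3075))
) (.node (nat_lit 0x1012291) (.leaf (nat_lit 0x101228f) (nat_lit 2819))
 (.node (nat_lit 0x1012293) (.leaf (nat_lit 0x1012291) (nat_lit 3330))
 (.leaf (nat_lit 0x1012293) (nat_lit 3074))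
))) (.node (nat_lit 0x101229b) (.node (nat_lit 0x1012297) (.leaf (nat_lit 0x1012295) (nat_lit 2562))
 (.node (nat_lit 0x1012299) (.leaf (nat_lit 0x1012297) (nat_lit 2818))
 (.leaf (nat_lit 0x1012299) (nat_lit 3331))
)) (.node (nat_lit 0x101229d) (.leaf (nat_lit 0x101229b) (nat_lit 3075))
 (.node (nat_lit 0x101229f) (.leaf (nat_lit 0x101229d) (nat_lit 2818))
 (.leaf (nat_lit 0x101229f) (nat_lit 2562))
))))))))) (.node (nat_lit 0x1012bd1) (.node (nat_lit 0x1012989) (.node (nat_lit 0x10123d5) (.node (nat_lit 0x101238b) (.node (nat_lit 0x10122d5) (.node (nat_lit 0x10122cb) (.node (nat_lit 0x10122c5) (.node (nat_lit 0x10122c3) (.leaf (nat_lit 0x10122c1) (nat_lit 2306))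
 (.leaf (nat_lit 0x10122c3) (nat_lit 2562))
) (.node (nat_lit 0x10122c7) (.leaf (nat_lit 0x10122c5) (nat_lit 3075))
 (.node (nat_lit 0x10122c9) (.leaf (nat_lit 0x10122c7) (nat_lit 3074))
 (.leaf (nat_lit 0x10122c9) (nat_lit 2816))
))) (.node (nat_lit 0x10122cf) (.node (nat_lit 0x10122cd) (.leaf (nat_lit 0x10122cb) (nat_lit 2821))
 (.leaf (nat_lit 0x10122cd) (nat_lit 3075))
) (.node (nat_lit 0x10122d1) (.leaf (nat_lit 0x10122cf) (nat_lit 3074))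
 (.node (nat_lit 0x10122d3) (.leaf (nat_lit 0x10122d1) (nat_lit 3330))
 (.leaf (nat_lit 0x10122d3) (nat_lit 3331))
)))) (.node (nat_lit 0x10122df) (.node (nat_lit 0x10122d9) (.node (nat_lit 0x10122d7) (.leaf (nat_lit 0x10122d5) (nat_lit 2818))
 (.leaf (nat_lit 0x10122d7) (nat_lit 2562))
) (.node (nat_lit 0x10122db) (.leaf (nat_lit 0x10122d9) (nat_lit 3329))
 (.node (nat_lit 0x10122dd) (.leaf (nat_lit 0x10122db) (nat_lit 3330))
 (.leaf (nat_lit 0x10122dd) (nat_lit 2817))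
))) (.node (nat_lit 0x1012385) (.node (nat_lit 0x1012381) (.leaf (nat_lit 0x10122df) (nat_lit 2561))
 (.node (nat_lit 0x1012383) (.leaf (nat_lit 0x1012381) (nat_lit 2307))
 (.leaf (nat_lit 0x1012383) (nat_lit 2563))
)) (.node (nat_lit 0x1012387) (.leaf (nat_lit 0x1012385) (nat_lit 2819))
 (.node (nat_lit 0x1012389) (.leaf (nat_lit 0x1012387) (nat_lit 2563))
 (.leaf (nat_lit 0x1012389) (nat_lit 3072))
))))) (.node (nat_lit 0x101239f) (.node (nat_lit 0x1012395) (.node (nat_lit 0x101238f) (.node (nat_lit 0x101238d) (.leaf (nat_lit 0x101238b) (nat_lit 3074))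
 (.leaf (nat_lit 0x101238d) (nat_lit 3332))
) (.node (nat_lit 0x1012391) (.leaf (nat_lit 0x101238f) (nat_lit 3076))
 (.node (nat_lit 0x1012393) (.leaf (nat_lit 0x1012391) (nat_lit 3585))
 (.leaf (nat_lit 0x1012393) (nat_lit 3329))
))) (.node (nat_lit 0x1012399) (.node (nat_lit 0x1012397) (.leaf (nat_lit 0x1012395) (nat_lit 2817))
 (.leaf (nat_lit 0x1012397) (nat_lit 2818))
) (.node (nat_lit 0x101239b) (.leaf (nat_lit 0x1012399) (nat_lit 3075))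
 (.node (nat_lit 0x101239d) (.leaf (nat_lit 0x101239b) (nat_lit 2819))
 (.leaf (nat_lit 0x101239d) (nat_lit 2563))
)))) (.node (nat_lit 0x10123c9) (.node (nat_lit 0x10123c3) (.node (nat_lit 0x10123c1) (.leaf (nat_lit 0x101239f) (nat_lit 2562))
 (.leaf (nat_lit 0x10123c1) (nat_lit 2050))
) (.node (nat_lit 0x10123c5) (.leaf (nat_lit 0x10123c3) (nat_lit 2306))
 (.node (nat_lit 0x10123c7) (.leaf (nat_lit 0x10123c5) (nat_lit 2819))
 (.leaf (nat_lit 0x10123c7) (nat_lit 2818))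
))) (.node (nat_lit 0x10123cf) (.node (nat_lit 0x10123cb) (.leaf (nat_lit 0x10123c9) (nat_lit 2820))
 (.node (nat_lit 0x10123cd) (.leaf (nat_lit 0x10123cb) (nat_lit 2818))
 (.leaf (nat_lit 0x10123cd) (nat_lit 3074))
)) (.node (nat_lit 0x10123d1) (.leaf (nat_lit 0x10123cf) (nat_lit 3330))
 (.node (nat_lit 0x10123d3) (.leaf (nat_lit 0x10123d1) (nat_lit 3586))
 (.leaf (nat_lit 0x10123d3) (nat_lit 3330))
)))))) (.node (nat_lit 0x101289f) (.node (nat_lit 0x1012889) (.node (nat_lit 0x10123df) (.node (nat_lit 0x10123d9) (.node (nat_lit 0x10123d7) (.leaf (nat_lit 0x10123d5) (nat_lit 2818))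
 (.leaf (nat_lit 0x10123d7) (nat_lit 2817))
) (.node (nat_lit 0x10123db) (.leaf (nat_lit 0x10123d9) (nat_lit 3074))
 (.node (nat_lit 0x10123dd) (.leaf (nat_lit 0x10123db) (nat_lit 3075))
 (.leaf (nat_lit 0x10123dd) (nat_lit 2562))
))) (.node (nat_lit 0x1012883) (.node (nat_lit 0x1012881) (.leaf (nat_lit 0x10123df) (nat_lit 2306))
 (.leaf (nat_lit 0x1012881) (nat_lit 1284))
) (.node (nat_lit 0x1012885) (.leaf (nat_lit 0x1012883) (nat_lit 1540))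
 (.node (nat_lit 0x1012887) (.leaf (nat_lit 0x1012885) (nat_lit 1540))
 (.leaf (nat_lit 0x1012887) (nat_lit 1540))
)))) (.node (nat_lit 0x1012893) (.node (nat_lit 0x101288d) (.node (nat_lit 0x101288b) (.leaf (nat_lit 0x1012889) (nat_lit 2308))
 (.leaf (nat_lit 0x101288b) (nat_lit 2052))
) (.node (nat_lit 0x101288f) (.leaf (nat_lit 0x101288d) (nat_lit 2052))
 (.node (nat_lit 0x1012891) (.leaf (nat_lit 0x101288f) (nat_lit 1796))
 (.leaf (nat_lit 0x1012891) (nat_lit 3332))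
))) (.node (nat_lit 0x1012899) (.node (nat_lit 0x1012895) (.leaf (nat_lit 0x1012893) (nat_lit 3076))
 (.node (nat_lit 0x1012897) (.leaf (nat_lit 0x1012895) (nat_lit 3332))
 (.leaf (nat_lit 0x1012897) (nat_lit 3076))
)) (.node (nat_lit 0x101289b) (.leaf (nat_lit 0x1012899) (nat_lit 3332))
 (.node (nat_lit 0x101289d) (.leaf (nat_lit 0x101289b) (nat_lit 3076))
 (.leaf (nat_lit 0x101289d) (nat_lit 3076))
))))) (.node (nat_lit 0x10128d3) (.node (nat_lit 0x10128c9) (.node (nat_lit 0x10128c3) (.node (nat_lit 0x10128c1) (.leaf (nat_lit 0x101289f) (nat_lit 2820))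
 (.leaf (nat_lit 0x10128c1) (nat_lit 1028))
) (.node (nat_lit 0x10128c5) (.leaf (nat_lit 0x10128c3) (nat_lit 1284))
 (.node (nat_lit 0x10128c7) (.leaf (nat_lit 0x10128c5) (nat_lit 1540))
 (.leaf (nat_lit 0x10128c7) (nat_lit 1284))
))) (.node (nat_lit 0x10128cd) (.node (nat_lit 0x10128cb) (.leaf (nat_lit 0x10128c9) (nat_lit 2052))
 (.leaf (nat_lit 0x10128cb) (nat_lit 1796))
) (.node (nat_lit 0x10128cf) (.leaf (nat_lit 0x10128cd) (nat_lit 1796))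
 (.node (nat_lit 0x10128d1) (.leaf (nat_lit 0x10128cf) (nat_lit 2052))
 (.leaf (nat_lit 0x10128d1) (nat_lit 3076))
)))) (.node (nat_lit 0x10128dd) (.node (nat_lit 0x10128d7) (.node (nat_lit 0x10128d5) (.leaf (nat_lit 0x10128d3) (nat_lit 2820))
 (.leaf (nat_lit 0x10128d5) (nat_lit 2820))
) (.node (nat_lit 0x10128d9) (.leaf (nat_lit 0x10128d7) (nat_lit 3076))
 (.node (nat_lit 0x10128db) (.leaf (nat_lit 0x10128d9) (nat_lit 3076))
 (.leaf (nat_lit 0x10128db) (nat_lit 2820))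
))) (.node (nat_lit 0x1012983) (.node (nat_lit 0x10128df) (.leaf (nat_lit 0x10128dd) (nat_lit 2820))
 (.node (nat_lit 0x1012981) (.leaf (nat_lit 0x10128df) (nat_lit 2819))
 (.leaf (nat_lit 0x1012981) (nat_lit 1284))
)) (.node (nat_lit 0x1012985) (.leaf (nat_lit 0x1012983) (nat_lit 1540))
 (.node (nat_lit 0x1012987) (.leaf (nat_lit 0x1012985) (nat_lit 1796))
 (.leaf (nat_lit 0x1012987) (nat_lit 1540))
))))))) (.node (nat_lit 0x1012a9d) (.node (nat_lit 0x10129d3) (.node (nat_lit 0x101299d) (.node (nat_lit 0x1012993) (.node (nat_lit 0x101298d) (.node (nat_lit 0x101298b) (.leaf (nat_lit 0x1012989) (nat_lit 2052))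
 (.leaf (nat_lit 0x101298b) (nat_lit 1796))
) (.node (nat_lit 0x101298f) (.leaf (nat_lit 0x101298d) (nat_lit 1540))
 (.node (nat_lit 0x1012991) (.leaf (nat_lit 0x101298f) (nat_lit 1796))
 (.leaf (nat_lit 0x1012991) (nat_lit 3332))
))) (.node (nat_lit 0x1012997) (.node (nat_lit 0x1012995) (.leaf (nat_lit 0x1012993) (nat_lit 3076))
 (.leaf (nat_lit 0x1012995) (nat_lit 3076))
) (.node (nat_lit 0x1012999) (.leaf (nat_lit 0x1012997) (nat_lit 3076))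
 (.node (nat_lit 0x101299b) (.leaf (nat_lit 0x1012999) (nat_lit 3332))
 (.leaf (nat_lit 0x101299b) (nat_lit 3076))
)))) (.node (nat_lit 0x10129c7) (.node (nat_lit 0x10129c1) (.node (nat_lit 0x101299f) (.leaf (nat_lit 0x101299d) (nat_lit 3076))
 (.leaf (nat_lit 0x101299f) (nat_lit 3076))
) (.node (nat_lit 0x10129c3) (.leaf (nat_lit 0x10129c1) (nat_lit 1284))
 (.node (nat_lit 0x10129c5) (.leaf (nat_lit 0x10129c3) (nat_lit 1540))
 (.leaf (nat_lit 0x10129c5) (nat_lit 1796))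
))) (.node (nat_lit 0x10129cd) (.node (nat_lit 0x10129c9) (.leaf (nat_lit 0x10129c7) (nat_lit 1796))
 (.node (nat_lit 0x10129cb) (.leaf (nat_lit 0x10129c9) (nat_lit 2052))
 (.leaf (nat_lit 0x10129cb) (nat_lit 2052))
)) (.node (nat_lit 0x10129cf) (.leaf (nat_lit 0x10129cd) (nat_lit 1796))
 (.node (nat_lit 0x10129d1) (.leaf (nat_lit 0x10129cf) (nat_lit 1540))
 (.leaf (nat_lit 0x10129d1) (nat_lit 3332))
))))) (.node (nat_lit 0x1012a87) (.node (nat_lit 0x10129dd) (.node (nat_lit 0x10129d7) (.node (nat_lit 0x10129d5) (.leaf (nat_lit 0x10129d3) (nat_lit 3076))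
 (.leaf (nat_lit 0x10129d5) (nat_lit 3076))
) (.node (nat_lit 0x10129d9) (.leaf (nat_lit 0x10129d7) (nat_lit 3075))
 (.node (nat_lit 0x10129db) (.leaf (nat_lit 0x10129d9) (nat_lit 3332))
 (.leaf (nat_lit 0x10129db) (nat_lit 3076))
))) (.node (nat_lit 0x1012a81) (.node (nat_lit 0x10129df) (.leaf (nat_lit 0x10129dd) (nat_lit 3076))
 (.leaf (nat_lit 0x10129df) (nat_lit 3076))
) (.node (nat_lit 0x1012a83) (.leaf (nat_lit 0x1012a81) (nat_lit 2052))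
 (.node (nat_lit 0x1012a85) (.leaf (nat_lit 0x1012a83) (nat_lit 2308))
 (.leaf (nat_lit 0x1012a85) (nat_lit 2820))
)))) (.node (nat_lit 0x1012a91) (.node (nat_lit 0x1012a8b) (.node (nat_lit 0x1012a89) (.leaf (nat_lit 0x1012a87) (nat_lit 2564))
 (.leaf (nat_lit 0x1012a89) (nat_lit 2820))
) (.node (nat_lit 0x1012a8d) (.leaf (nat_lit 0x1012a8b) (nat_lit 2564))
 (.node (nat_lit 0x1012a8f) (.leaf (nat_lit 0x1012a8d) (nat_lit 2819))
 (.leaf (nat_lit 0x1012a8f) (nat_lit 2820))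
))) (.node (nat_lit 0x1012a97) (.node (nat_lit 0x1012a93) (.leaf (nat_lit 0x1012a91) (nat_lit 3076))
 (.node (nat_lit 0x1012a95) (.leaf (nat_lit 0x1012a93) (nat_lit 2820))
 (.leaf (nat_lit 0x1012a95) (nat_lit 2308))
)) (.node (nat_lit 0x1012a99) (.leaf (nat_lit 0x1012a97) (nat_lit 2564))
 (.node (nat_lit 0x1012a9b) (.leaf (nat_lit 0x1012a99) (nat_lit 3076))
 (.leaf (nat_lit 0x1012a9b) (nat_lit 3076))
)))))) (.node (nat_lit 0x1012b87) (.node (nat_lit 0x1012ad1) (.node (nat_lit 0x1012ac7) (.node (nat_lit 0x1012ac1) (.node (nat_lit 0x1012a9f) (.leaf (nat_lit 0x1012a9d) (nat_lit 2564))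
 (.leaf (nat_lit 0x1012a9f) (nat_lit 2308))
) (.node (nat_lit 0x1012ac3) (.leaf (nat_lit 0x1012ac1) (nat_lit 2052))
 (.node (nat_lit 0x1012ac5) (.leaf (nat_lit 0x1012ac3) (nat_lit 2308))
 (.leaf (nat_lit 0x1012ac5) (nat_lit 2820))
))) (.node (nat_lit 0x1012acb) (.node (nat_lit 0x1012ac9) (.leaf (nat_lit 0x1012ac7) (nat_lit 2820))
 (.leaf (nat_lit 0x1012ac9) (nat_lit 2820))
) (.node (nat_lit 0x1012acd) (.leaf (nat_lit 0x1012acb) (nat_lit 2820))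
 (.node (nat_lit 0x1012acf) (.leaf (nat_lit 0x1012acd) (nat_lit 3076))
 (.leaf (nat_lit 0x1012acf) (nat_lit 2820))
)))) (.node (nat_lit 0x1012adb) (.node (nat_lit 0x1012ad5) (.node (nat_lit 0x1012ad3) (.leaf (nat_lit 0x1012ad1) (nat_lit 3076))
 (.leaf (nat_lit 0x1012ad3) (nat_lit 3076))
) (.node (nat_lit 0x1012ad7) (.leaf (nat_lit 0x1012ad5) (nat_lit 2564))
 (.node (nat_lit 0x1012ad9) (.leaf (nat_lit 0x1012ad7) (nat_lit 2308))
 (.leaf (nat_lit 0x1012ad9) (nat_lit 3076))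
))) (.node (nat_lit 0x1012b81) (.node (nat_lit 0x1012add) (.leaf (nat_lit 0x1012adb) (nat_lit 3076))
 (.node (nat_lit 0x1012adf) (.leaf (nat_lit 0x1012add) (nat_lit 2564))
 (.leaf (nat_lit 0x1012adf) (nat_lit 2564))
)) (.node (nat_lit 0x1012b83) (.leaf (nat_lit 0x1012b81) (nat_lit 2052))
 (.node (nat_lit 0x1012b85) (.leaf (nat_lit 0x1012b83) (nat_lit 2308))
 (.leaf (nat_lit 0x1012b85) (nat_lit 2820))
))))) (.node (nat_lit 0x1012b9b) (.node (nat_lit 0x1012b91) (.node (nat_lit 0x1012b8b) (.node (nat_lit 0x1012b89) (.leaf (nat_lit 0x1012b87) (nat_lit 2564))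
 (.leaf (nat_lit 0x1012b89) (nat_lit 3076))
) (.node (nat_lit 0x1012b8d) (.leaf (nat_lit 0x1012b8b) (nat_lit 2820))
 (.node (nat_lit 0x1012b8f) (.leaf (nat_lit 0x1012b8d) (nat_lit 3076))
 (.leaf (nat_lit 0x1012b8f) (nat_lit 2820))
))) (.node (nat_lit 0x1012b95) (.node (nat_lit 0x1012b93) (.leaf (nat_lit 0x1012b91) (nat_lit 3332))
 (.leaf (nat_lit 0x1012b93) (nat_lit 3076))
) (.node (nat_lit 0x1012b97) (.leaf (nat_lit 0x1012b95) (nat_lit 2820))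
 (.node (nat_lit 0x1012b99) (.leaf (nat_lit 0x1012b97) (nat_lit 2564))
 (.leaf (nat_lit 0x1012b99) (nat_lit 3076))
)))) (.node (nat_lit 0x1012bc5) (.node (nat_lit 0x1012b9f) (.node (nat_lit 0x1012b9d) (.leaf (nat_lit 0x1012b9b) (nat_lit 2820))
 (.leaf (nat_lit 0x1012b9d) (nat_lit 2308))
) (.node (nat_lit 0x1012bc1) (.leaf (nat_lit 0x1012b9f) (nat_lit 2308))
 (.node (nat_lit 0x1012bc3) (.leaf (nat_lit 0x1012bc1) (nat_lit 1796))
 (.leaf (nat_lit 0x1012bc3) (nat_lit 2052))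
))) (.node (nat_lit 0x1012bcb) (.node (nat_lit 0x1012bc7) (.leaf (nat_lit 0x1012bc5) (nat_lit 2820))
 (.node (nat_lit 0x1012bc9) (.leaf (nat_lit 0x1012bc7) (nat_lit 2564))
 (.leaf (nat_lit 0x1012bc9) (nat_lit 2820))
)) (.node (nat_lit 0x1012bcd) (.leaf (nat_lit 0x1012bcb) (nat_lit 2564))
 (.node (nat_lit 0x1012bcf) (.leaf (nat_lit 0x1012bcd) (nat_lit 2820))
 (.leaf (nat_lit 0x1012bcf) (nat_lit 3076))
)))))))) (.node (nat_lit 0x1013299) (.node (nat_lit 0x1013105) (.node (nat_lit 0x101309b) (.node (nat_lit 0x1013085) (.node (nat_lit 0x1012bdb) (.node (nat_lit 0x1012bd5) (.node (nat_lit 0x1012bd3) (.leaf (nat_lit 0x1012bd1) (nat_lit 3332))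
 (.leaf (nat_lit 0x1012bd3) (nat_lit 3076))
) (.node (nat_lit 0x1012bd7) (.leaf (nat_lit 0x1012bd5) (nat_lit 2564))
 (.node (nat_lit 0x1012bd9) (.leaf (nat_lit 0x1012bd7) (nat_lit 2820))
 (.leaf (nat_lit 0x1012bd9) (nat_lit 2820))
))) (.node (nat_lit 0x1012bdf) (.node (nat_lit 0x1012bdd) (.leaf (nat_lit 0x1012bdb) (nat_lit 3076))
 (.leaf (nat_lit 0x1012bdd) (nat_lit 2308))
) (.node (nat_lit 0x1013081) (.leaf (nat_lit 0x1012bdf) (nat_lit 2052))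
 (.node (nat_lit 0x1013083) (.leaf (nat_lit 0x1013081) (nat_lit 1540))
 (.leaf (nat_lit 0x1013083) (nat_lit 1796))
)))) (.node (nat_lit 0x101308f) (.node (nat_lit 0x1013089) (.node (nat_lit 0x1013087) (.leaf (nat_lit 0x1013085) (nat_lit 1796))
 (.leaf (nat_lit 0x1013087) (nat_lit 2052))
) (.node (nat_lit 0x101308b) (.leaf (nat_lit 0x1013089) (nat_lit 2305))
 (.node (nat_lit 0x101308d) (.leaf (nat_lit 0x101308b) (nat_lit 2306))
 (.leaf (nat_lit 0x101308d) (nat_lit 2309))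
))) (.node (nat_lit 0x1013095) (.node (nat_lit 0x1013091) (.leaf (nat_lit 0x101308f) (nat_lit 2309))
 (.node (nat_lit 0x1013093) (.leaf (nat_lit 0x1013091) (nat_lit 3588))
 (.leaf (nat_lit 0x1013093) (nat_lit 3332))
)) (.node (nat_lit 0x1013097) (.leaf (nat_lit 0x1013095) (nat_lit 3588))
 (.node (nat_lit 0x1013099) (.leaf (nat_lit 0x1013097) (nat_lit 3332))
 (.leaf (nat_lit 0x1013099) (nat_lit 3331))
))))) (.node (nat_lit 0x10130cf) (.node (nat_lit 0x10130c5) (.node (nat_lit 0x101309f) (.node (nat_lit 0x101309d) (.leaf (nat_lit 0x101309b) (nat_lit 3075))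
 (.leaf (nat_lit 0x101309d) (nat_lit 3333))
) (.node (nat_lit 0x10130c1) (.leaf (nat_lit 0x101309f) (nat_lit 3077))
 (.node (nat_lit 0x10130c3) (.leaf (nat_lit 0x10130c1) (nat_lit 1285))
 (.leaf (nat_lit 0x10130c3) (nat_lit 1541))
))) (.node (nat_lit 0x10130c9) (.node (nat_lit 0x10130c7) (.leaf (nat_lit 0x10130c5) (nat_lit 1797))
 (.leaf (nat_lit 0x10130c7) (nat_lit 1541))
) (.node (nat_lit 0x10130cb) (.leaf (nat_lit 0x10130c9) (nat_lit 2309))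
 (.node (nat_lit 0x10130cd) (.leaf (nat_lit 0x10130cb) (nat_lit 2053))
 (.leaf (nat_lit 0x10130cd) (nat_lit 2053))
)))) (.node (nat_lit 0x10130d9) (.node (nat_lit 0x10130d3) (.node (nat_lit 0x10130d1) (.leaf (nat_lit 0x10130cf) (nat_lit 2309))
 (.leaf (nat_lit 0x10130d1) (nat_lit 3333))
) (.node (nat_lit 0x10130d5) (.leaf (nat_lit 0x10130d3) (nat_lit 3077))
 (.node (nat_lit 0x10130d7) (.leaf (nat_lit 0x10130d5) (nat_lit 3077))
 (.leaf (nat_lit 0x10130d7) (nat_lit 3333))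
))) (.node (nat_lit 0x10130df) (.node (nat_lit 0x10130db) (.leaf (nat_lit 0x10130d9) (nat_lit 3075))
 (.node (nat_lit 0x10130dd) (.leaf (nat_lit 0x10130db) (nat_lit 3077))
 (.leaf (nat_lit 0x10130dd) (nat_lit 3077))
)) (.node (nat_lit 0x1013101) (.leaf (nat_lit 0x10130df) (nat_lit 3077))
 (.node (nat_lit 0x1013103) (.leaf (nat_lit 0x1013101) (nat_lit 1794))
 (.leaf (nat_lit 0x1013103) (nat_lit 2050))
)))))) (.node (nat_lit 0x101314f) (.node (nat_lit 0x1013119) (.node (nat_lit 0x101310f) (.node (nat_lit 0x1013109) (.node (nat_lit 0x1013107) (.leaf (nat_lit 0x1013105) (nat_lit 2052))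
 (.leaf (nat_lit 0x1013107) (nat_lit 2050))
) (.node (nat_lit 0x101310b) (.leaf (nat_lit 0x1013109) (nat_lit 2050))
 (.node (nat_lit 0x101310d) (.leaf (nat_lit 0x101310b) (nat_lit 2306))
 (.leaf (nat_lit 0x101310d) (nat_lit 2308))
))) (.node (nat_lit 0x1013113) (.node (nat_lit 0x1013111) (.leaf (nat_lit 0x101310f) (nat_lit 2306))
 (.leaf (nat_lit 0x1013111) (nat_lit 3842))
) (.node (nat_lit 0x1013115) (.leaf (nat_lit 0x1013113) (nat_lit 3586))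
 (.node (nat_lit 0x1013117) (.leaf (nat_lit 0x1013115) (nat_lit 3587))
 (.leaf (nat_lit 0x1013117) (nat_lit 3331))
)))) (.node (nat_lit 0x1013143) (.node (nat_lit 0x101311d) (.node (nat_lit 0x101311b) (.leaf (nat_lit 0x1013119) (nat_lit 3587))
 (.leaf (nat_lit 0x101311b) (nat_lit 3331))
) (.node (nat_lit 0x101311f) (.leaf (nat_lit 0x101311d) (nat_lit 3585))
 (.node (nat_lit 0x1013141) (.leaf (nat_lit 0x101311f) (nat_lit 3329))
 (.leaf (nat_lit 0x1013141) (nat_lit 1537))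
))) (.node (nat_lit 0x1013149) (.node (nat_lit 0x1013145) (.leaf (nat_lit 0x1013143) (nat_lit 1793))
 (.node (nat_lit 0x1013147) (.leaf (nat_lit 0x1013145) (nat_lit 2049))
 (.leaf (nat_lit 0x1013147) (nat_lit 1793))
)) (.node (nat_lit 0x101314b) (.leaf (nat_lit 0x1013149) (nat_lit 2048))
 (.node (nat_lit 0x101314d) (.leaf (nat_lit 0x101314b) (nat_lit 1792))
 (.leaf (nat_lit 0x101314d) (nat_lit 2048))
))))) (.node (nat_lit 0x1013283) (.node (nat_lit 0x1013159) (.node (nat_lit 0x1013153) (.node (nat_lit 0x1013151) (.leaf (nat_lit 0x101314f) (nat_lit 2304))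
 (.leaf (nat_lit 0x1013151) (nat_lit 3585))
) (.node (nat_lit 0x1013155) (.leaf (nat_lit 0x1013153) (nat_lit 3329))
 (.node (nat_lit 0x1013157) (.leaf (nat_lit 0x1013155) (nat_lit 3331))
 (.leaf (nat_lit 0x1013157) (nat_lit 3587))
))) (.node (nat_lit 0x101315d) (.node (nat_lit 0x101315b) (.leaf (nat_lit 0x1013159) (nat_lit 3331))
 (.leaf (nat_lit 0x101315b) (nat_lit 3329))
) (.node (nat_lit 0x101315f) (.leaf (nat_lit 0x101315d) (nat_lit 3329))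
 (.node (nat_lit 0x1013281) (.leaf (nat_lit 0x101315f) (nat_lit 3331))
 (.leaf (nat_lit 0x1013281) (nat_lit 2309))
)))) (.node (nat_lit 0x101328d) (.node (nat_lit 0x1013287) (.node (nat_lit 0x1013285) (.leaf (nat_lit 0x1013283) (nat_lit 2565))
 (.leaf (nat_lit 0x1013285) (nat_lit 3077))
) (.node (nat_lit 0x1013289) (.leaf (nat_lit 0x1013287) (nat_lit 2821))
 (.node (nat_lit 0x101328b) (.leaf (nat_lit 0x1013289) (nat_lit 3333))
 (.leaf (nat_lit 0x101328b) (nat_lit 3077))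
))) (.node (nat_lit 0x1013293) (.node (nat_lit 0x101328f) (.leaf (nat_lit 0x101328d) (nat_lit 2821))
 (.node (nat_lit 0x1013291) (.leaf (nat_lit 0x101328f) (nat_lit 2565))
 (.leaf (nat_lit 0x1013291) (nat_lit 3333))
)) (.node (nat_lit 0x1013295) (.leaf (nat_lit 0x1013293) (nat_lit 3077))
 (.node (nat_lit 0x1013297) (.leaf (nat_lit 0x1013295) (nat_lit 2565))
 (.leaf (nat_lit 0x1013297) (nat_lit 2821))
))))))) (.node (nat_lit 0x101334d) (.node (nat_lit 0x1013303) (.node (nat_lit 0x10132cd) (.node (nat_lit 0x10132c3) (.node (nat_lit 0x101329d) (.node (nat_lit 0x101329b) (.leaf (nat_lit 0x1013299) (nat_lit 3077))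
 (.leaf (nat_lit 0x101329b) (nat_lit 2821))
) (.node (nat_lit 0x101329f) (.leaf (nat_lit 0x101329d) (nat_lit 3589))
 (.node (nat_lit 0x10132c1) (.leaf (nat_lit 0x101329f) (nat_lit 3333))
 (.leaf (nat_lit 0x10132c1) (nat_lit 2053))
))) (.node (nat_lit 0x10132c7) (.node (nat_lit 0x10132c5) (.leaf (nat_lit 0x10132c3) (nat_lit 2309))
 (.leaf (nat_lit 0x10132c5) (nat_lit 3077))
) (.node (nat_lit 0x10132c9) (.leaf (nat_lit 0x10132c7) (nat_lit 2821))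
 (.node (nat_lit 0x10132cb) (.leaf (nat_lit 0x10132c9) (nat_lit 3333))
 (.leaf (nat_lit 0x10132cb) (nat_lit 3077))
)))) (.node (nat_lit 0x10132d7) (.node (nat_lit 0x10132d1) (.node (nat_lit 0x10132cf) (.leaf (nat_lit 0x10132cd) (nat_lit 2565))
 (.leaf (nat_lit 0x10132cf) (nat_lit 2565))
) (.node (nat_lit 0x10132d3) (.leaf (nat_lit 0x10132d1) (nat_lit 3077))
 (.node (nat_lit 0x10132d5) (.leaf (nat_lit 0x10132d3) (nat_lit 3333))
 (.leaf (nat_lit 0x10132d5) (nat_lit 2565))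
))) (.node (nat_lit 0x10132dd) (.node (nat_lit 0x10132d9) (.leaf (nat_lit 0x10132d7) (nat_lit 2309))
 (.node (nat_lit 0x10132db) (.leaf (nat_lit 0x10132d9) (nat_lit 2821))
 (.leaf (nat_lit 0x10132db) (nat_lit 2821))
)) (.node (nat_lit 0x10132df) (.leaf (nat_lit 0x10132dd) (nat_lit 3333))
 (.node (nat_lit 0x1013301) (.leaf (nat_lit 0x10132df) (nat_lit 3333))
 (.leaf (nat_lit 0x1013301) (nat_lit 2563))
))))) (.node (nat_lit 0x1013317) (.node (nat_lit 0x101330d) (.node (nat_lit 0x1013307) (.node (nat_lit 0x1013305) (.leaf (nat_lit 0x1013303) (nat_lit 2819))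
 (.leaf (nat_lit 0x1013305) (nat_lit 3075))
) (.node (nat_lit 0x1013309) (.leaf (nat_lit 0x1013307) (nat_lit 2819))
 (.node (nat_lit 0x101330b) (.leaf (nat_lit 0x1013309) (nat_lit 3585))
 (.leaf (nat_lit 0x101330b) (nat_lit 3329))
))) (.node (nat_lit 0x1013311) (.node (nat_lit 0x101330f) (.leaf (nat_lit 0x101330d) (nat_lit 2821))
 (.leaf (nat_lit 0x101330f) (nat_lit 2817))
) (.node (nat_lit 0x1013313) (.leaf (nat_lit 0x1013311) (nat_lit 3585))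
 (.node (nat_lit 0x1013315) (.leaf (nat_lit 0x1013313) (nat_lit 3329))
 (.leaf (nat_lit 0x1013315) (nat_lit 2817))
)))) (.node (nat_lit 0x1013341) (.node (nat_lit 0x101331b) (.node (nat_lit 0x1013319) (.leaf (nat_lit 0x1013317) (nat_lit 2818))
 (.leaf (nat_lit 0x1013319) (nat_lit 2819))
) (.node (nat_lit 0x101331d) (.leaf (nat_lit 0x101331b) (nat_lit 2818))
 (.node (nat_lit 0x101331f) (.leaf (nat_lit 0x101331d) (nat_lit 3331))
 (.leaf (nat_lit 0x101331f) (nat_lit 3075))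
))) (.node (nat_lit 0x1013347) (.node (nat_lit 0x1013343) (.leaf (nat_lit 0x1013341) (nat_lit 2306))
 (.node (nat_lit 0x1013345) (.leaf (nat_lit 0x1013343) (nat_lit 2562))
 (.leaf (nat_lit 0x1013345) (nat_lit 3075))
)) (.node (nat_lit 0x1013349) (.leaf (nat_lit 0x1013347) (nat_lit 3074))
 (.node (nat_lit 0x101334b) (.leaf (nat_lit 0x1013349) (nat_lit 3330))
 (.leaf (nat_lit 0x101334b) (nat_lit 3332))
)))))) (.node (nat_lit 0x1013897) (.node (nat_lit 0x1013881) (.node (nat_lit 0x1013357) (.node (nat_lit 0x1013351) (.node (nat_lit 0x101334f) (.leaf (nat_lit 0x101334d) (nat_lit 2564))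
 (.leaf (nat_lit 0x101334f) (nat_lit 2562))
) (.node (nat_lit 0x1013353) (.leaf (nat_lit 0x1013351) (nat_lit 3329))
 (.node (nat_lit 0x1013355) (.leaf (nat_lit 0x1013353) (nat_lit 3585))
 (.leaf (nat_lit 0x1013355) (nat_lit 2817))
))) (.node (nat_lit 0x101335b) (.node (nat_lit 0x1013359) (.leaf (nat_lit 0x1013357) (nat_lit 2561))
 (.leaf (nat_lit 0x1013359) (nat_lit 2818))
) (.node (nat_lit 0x101335d) (.leaf (nat_lit 0x101335b) (nat_lit 2562))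
 (.node (nat_lit 0x101335f) (.leaf (nat_lit 0x101335d) (nat_lit 3331))
 (.leaf (nat_lit 0x101335f) (nat_lit 3075))
)))) (.node (nat_lit 0x101388b) (.node (nat_lit 0x1013885) (.node (nat_lit 0x1013883) (.leaf (nat_lit 0x1013881) (nat_lit 1540))
 (.leaf (nat_lit 0x1013883) (nat_lit 1796))
) (.node (nat_lit 0x1013887) (.leaf (nat_lit 0x1013885) (nat_lit 1796))
 (.node (nat_lit 0x1013889) (.leaf (nat_lit 0x1013887) (nat_lit 1796))
 (.leaf (nat_lit 0x1013889) (nat_lit 2308))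
))) (.node (nat_lit 0x1013891) (.node (nat_lit 0x101388d) (.leaf (nat_lit 0x101388b) (nat_lit 2052))
 (.node (nat_lit 0x101388f) (.leaf (nat_lit 0x101388d) (nat_lit 2309))
 (.leaf (nat_lit 0x101388f) (nat_lit 2053))
)) (.node (nat_lit 0x1013893) (.leaf (nat_lit 0x1013891) (nat_lit 3588))
 (.node (nat_lit 0x1013895) (.leaf (nat_lit 0x1013893) (nat_lit 3332))
 (.leaf (nat_lit 0x1013895) (nat_lit 3588))
))))) (.node (nat_lit 0x10138cb) (.node (nat_lit 0x10138c1) (.node (nat_lit 0x101389b) (.node (nat_lit 0x1013899) (.leaf (nat_lit 0x1013897) (nat_lit 3332))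
 (.leaf (nat_lit 0x1013899) (nat_lit 3332))
) (.node (nat_lit 0x101389d) (.leaf (nat_lit 0x101389b) (nat_lit 3076))
 (.node (nat_lit 0x101389f) (.leaf (nat_lit 0x101389d) (nat_lit 3333))
 (.leaf (nat_lit 0x101389f) (nat_lit 3077))
))) (.node (nat_lit 0x10138c5) (.node (nat_lit 0x10138c3) (.leaf (nat_lit 0x10138c1) (nat_lit 1284))
 (.leaf (nat_lit 0x10138c3) (nat_lit 1540))
) (.node (nat_lit 0x10138c7) (.leaf (nat_lit 0x10138c5) (nat_lit 1796))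
 (.node (nat_lit 0x10138c9) (.leaf (nat_lit 0x10138c7) (nat_lit 1540))
 (.leaf (nat_lit 0x10138c9) (nat_lit 2052))
)))) (.node (nat_lit 0x10138d5) (.node (nat_lit 0x10138cf) (.node (nat_lit 0x10138cd) (.leaf (nat_lit 0x10138cb) (nat_lit 2308))
 (.leaf (nat_lit 0x10138cd) (nat_lit 2308))
) (.node (nat_lit 0x10138d1) (.leaf (nat_lit 0x10138cf) (nat_lit 2052))
 (.node (nat_lit 0x10138d3) (.leaf (nat_lit 0x10138d1) (nat_lit 3332))
 (.leaf (nat_lit 0x10138d3) (nat_lit 3076))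
))) (.node (nat_lit 0x10138db) (.node (nat_lit 0x10138d7) (.leaf (nat_lit 0x10138d5) (nat_lit 3076))
 (.node (nat_lit 0x10138d9) (.leaf (nat_lit 0x10138d7) (nat_lit 3332))
 (.leaf (nat_lit 0x10138d9) (nat_lit 3076))
)) (.node (nat_lit 0x10138dd) (.leaf (nat_lit 0x10138db) (nat_lit 3076))
 (.node (nat_lit 0x10138df) (.leaf (nat_lit 0x10138dd) (nat_lit 3077))
 (.leaf (nat_lit 0x10138df) (nat_lit 3076))
)))))))))) (.node (nat_lit 0x1015bc1) (.node (nat_lit 0x1015311) (.node (nat_lit 0x1013b49) (.node (nat_lit 0x1013a95) (.node (nat_lit 0x101394b) (.node (nat_lit 0x1013915) (.node (nat_lit 0x101390b) (.node (nat_lit 0x1013905) (.node (nat_lit 0x1013903) (.leaf (nat_lit 0x1013901) (nat_lit 1540))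
 (.leaf (nat_lit 0x1013903) (nat_lit 1796))
) (.node (nat_lit 0x1013907) (.leaf (nat_lit 0x1013905) (nat_lit 2052))
 (.node (nat_lit 0x1013909) (.leaf (nat_lit 0x1013907) (nat_lit 1796))
 (.leaf (nat_lit 0x1013909) (nat_lit 1796))
))) (.node (nat_lit 0x101390f) (.node (nat_lit 0x101390d) (.leaf (nat_lit 0x101390b) (nat_lit 2052))
 (.leaf (nat_lit 0x101390d) (nat_lit 2308))
) (.node (nat_lit 0x1013911) (.leaf (nat_lit 0x101390f) (nat_lit 2052))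
 (.node (nat_lit 0x1013913) (.leaf (nat_lit 0x1013911) (nat_lit 3588))
 (.leaf (nat_lit 0x1013913) (nat_lit 3332))
)))) (.node (nat_lit 0x101391f) (.node (nat_lit 0x1013919) (.node (nat_lit 0x1013917) (.leaf (nat_lit 0x1013915) (nat_lit 3332))
 (.leaf (nat_lit 0x1013917) (nat_lit 3332))
) (.node (nat_lit 0x101391b) (.leaf (nat_lit 0x1013919) (nat_lit 3332))
 (.node (nat_lit 0x101391d) (.leaf (nat_lit 0x101391b) (nat_lit 3332))
 (.leaf (nat_lit 0x101391d) (nat_lit 3329))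
))) (.node (nat_lit 0x1013945) (.node (nat_lit 0x1013941) (.leaf (nat_lit 0x101391f) (nat_lit 3332))
 (.node (nat_lit 0x1013943) (.leaf (nat_lit 0x1013941) (nat_lit 1540))
 (.leaf (nat_lit 0x1013943) (nat_lit 1796))
)) (.node (nat_lit 0x1013947) (.leaf (nat_lit 0x1013945) (nat_lit 2052))
 (.node (nat_lit 0x1013949) (.leaf (nat_lit 0x1013947) (nat_lit 2052))
 (.leaf (nat_lit 0x1013949) (nat_lit 2052))
))))) (.node (nat_lit 0x101395f) (.node (nat_lit 0x1013955) (.node (nat_lit 0x101394f) (.node (nat_lit 0x101394d) (.leaf (nat_lit 0x101394b) (nat_lit 1796))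
 (.leaf (nat_lit 0x101394d) (nat_lit 2308))
) (.node (nat_lit 0x1013951) (.leaf (nat_lit 0x101394f) (nat_lit 2052))
 (.node (nat_lit 0x1013953) (.leaf (nat_lit 0x1013951) (nat_lit 3588))
 (.leaf (nat_lit 0x1013953) (nat_lit 3332))
))) (.node (nat_lit 0x1013959) (.node (nat_lit 0x1013957) (.leaf (nat_lit 0x1013955) (nat_lit 3332))
 (.leaf (nat_lit 0x1013957) (nat_lit 3331))
) (.node (nat_lit 0x101395b) (.leaf (nat_lit 0x1013959) (nat_lit 3332))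
 (.node (nat_lit 0x101395d) (.leaf (nat_lit 0x101395b) (nat_lit 3332))
 (.leaf (nat_lit 0x101395d) (nat_lit 3588))
)))) (.node (nat_lit 0x1013a89) (.node (nat_lit 0x1013a83) (.node (nat_lit 0x1013a81) (.leaf (nat_lit 0x101395f) (nat_lit 3332))
 (.leaf (nat_lit 0x1013a81) (nat_lit 2053))
) (.node (nat_lit 0x1013a85) (.leaf (nat_lit 0x1013a83) (nat_lit 2309))
 (.node (nat_lit 0x1013a87) (.leaf (nat_lit 0x1013a85) (nat_lit 3077))
 (.leaf (nat_lit 0x1013a87) (nat_lit 2821))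
))) (.node (nat_lit 0x1013a8f) (.node (nat_lit 0x1013a8b) (.leaf (nat_lit 0x1013a89) (nat_lit 3077))
 (.node (nat_lit 0x1013a8d) (.leaf (nat_lit 0x1013a8b) (nat_lit 3076))
 (.leaf (nat_lit 0x1013a8d) (nat_lit 2565))
)) (.node (nat_lit 0x1013a91) (.leaf (nat_lit 0x1013a8f) (nat_lit 2309))
 (.node (nat_lit 0x1013a93) (.leaf (nat_lit 0x1013a91) (nat_lit 3333))
 (.leaf (nat_lit 0x1013a93) (nat_lit 3077))
)))))) (.node (nat_lit 0x1013adf) (.node (nat_lit 0x1013ac9) (.node (nat_lit 0x1013a9f) (.node (nat_lit 0x1013a99) (.node (nat_lit 0x1013a97) (.leaf (nat_lit 0x1013a95) (nat_lit 2309))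
 (.leaf (nat_lit 0x1013a97) (nat_lit 2565))
) (.node (nat_lit 0x1013a9b) (.leaf (nat_lit 0x1013a99) (nat_lit 2821))
 (.node (nat_lit 0x1013a9d) (.leaf (nat_lit 0x1013a9b) (nat_lit 2565))
 (.leaf (nat_lit 0x1013a9d) (nat_lit 3333))
))) (.node (nat_lit 0x1013ac3) (.node (nat_lit 0x1013ac1) (.leaf (nat_lit 0x1013a9f) (nat_lit 3332))
 (.leaf (nat_lit 0x1013ac1) (nat_lit 2052))
) (.node (nat_lit 0x1013ac5) (.leaf (nat_lit 0x1013ac3) (nat_lit 2308))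
 (.node (nat_lit 0x1013ac7) (.leaf (nat_lit 0x1013ac5) (nat_lit 3076))
 (.leaf (nat_lit 0x1013ac7) (nat_lit 2820))
)))) (.node (nat_lit 0x1013ad3) (.node (nat_lit 0x1013acd) (.node (nat_lit 0x1013acb) (.leaf (nat_lit 0x1013ac9) (nat_lit 3332))
 (.leaf (nat_lit 0x1013acb) (nat_lit 3076))
) (.node (nat_lit 0x1013acf) (.leaf (nat_lit 0x1013acd) (nat_lit 2820))
 (.node (nat_lit 0x1013ad1) (.leaf (nat_lit 0x1013acf) (nat_lit 2564))
 (.leaf (nat_lit 0x1013ad1) (nat_lit 3076))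
))) (.node (nat_lit 0x1013ad9) (.node (nat_lit 0x1013ad5) (.leaf (nat_lit 0x1013ad3) (nat_lit 3332))
 (.node (nat_lit 0x1013ad7) (.leaf (nat_lit 0x1013ad5) (nat_lit 2564))
 (.leaf (nat_lit 0x1013ad7) (nat_lit 2308))
)) (.node (nat_lit 0x1013adb) (.leaf (nat_lit 0x1013ad9) (nat_lit 2820))
 (.node (nat_lit 0x1013add) (.leaf (nat_lit 0x1013adb) (nat_lit 2820))
 (.leaf (nat_lit 0x1013add) (nat_lit 3332))
))))) (.node (nat_lit 0x1013b13) (.node (nat_lit 0x1013b09) (.node (nat_lit 0x1013b03) (.node (nat_lit 0x1013b01) (.leaf (nat_lit 0x1013adf) (nat_lit 3332))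
 (.leaf (nat_lit 0x1013b01) (nat_lit 2309))
) (.node (nat_lit 0x1013b05) (.leaf (nat_lit 0x1013b03) (nat_lit 2565))
 (.node (nat_lit 0x1013b07) (.leaf (nat_lit 0x1013b05) (nat_lit 3076))
 (.leaf (nat_lit 0x1013b07) (nat_lit 2820))
))) (.node (nat_lit 0x1013b0d) (.node (nat_lit 0x1013b0b) (.leaf (nat_lit 0x1013b09) (nat_lit 3332))
 (.leaf (nat_lit 0x1013b0b) (nat_lit 3076))
) (.node (nat_lit 0x1013b0f) (.leaf (nat_lit 0x1013b0d) (nat_lit 2821))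
 (.node (nat_lit 0x1013b11) (.leaf (nat_lit 0x1013b0f) (nat_lit 2565))
 (.leaf (nat_lit 0x1013b11) (nat_lit 3332))
)))) (.node (nat_lit 0x1013b1d) (.node (nat_lit 0x1013b17) (.node (nat_lit 0x1013b15) (.leaf (nat_lit 0x1013b13) (nat_lit 3332))
 (.leaf (nat_lit 0x1013b15) (nat_lit 2820))
) (.node (nat_lit 0x1013b19) (.leaf (nat_lit 0x1013b17) (nat_lit 2564))
 (.node (nat_lit 0x1013b1b) (.leaf (nat_lit 0x1013b19) (nat_lit 2565))
 (.leaf (nat_lit 0x1013b1b) (nat_lit 2564))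
))) (.node (nat_lit 0x1013b43) (.node (nat_lit 0x1013b1f) (.leaf (nat_lit 0x1013b1d) (nat_lit 3332))
 (.node (nat_lit 0x1013b41) (.leaf (nat_lit 0x1013b1f) (nat_lit 3076))
 (.leaf (nat_lit 0x1013b41) (nat_lit 2052))
)) (.node (nat_lit 0x1013b45) (.leaf (nat_lit 0x1013b43) (nat_lit 2308))
 (.node (nat_lit 0x1013b47) (.leaf (nat_lit 0x1013b45) (nat_lit 3076))
 (.leaf (nat_lit 0x1013b47) (nat_lit 2820))
))))))) (.node (nat_lit 0x101515d) (.node (nat_lit 0x1015113) (.node (nat_lit 0x1013b5d) (.node (nat_lit 0x1013b53) (.node (nat_lit 0x1013b4d) (.node (nat_lit 0x1013b4b) (.leaf (nat_lit 0x1013b49) (nat_lit 3076))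
 (.leaf (nat_lit 0x1013b4b) (nat_lit 3332))
) (.node (nat_lit 0x1013b4f) (.leaf (nat_lit 0x1013b4d) (nat_lit 2564))
 (.node (nat_lit 0x1013b51) (.leaf (nat_lit 0x1013b4f) (nat_lit 2308))
 (.leaf (nat_lit 0x1013b51) (nat_lit 3588))
))) (.node (nat_lit 0x1013b57) (.node (nat_lit 0x1013b55) (.leaf (nat_lit 0x1013b53) (nat_lit 3332))
 (.leaf (nat_lit 0x1013b55) (nat_lit 2564))
) (.node (nat_lit 0x1013b59) (.leaf (nat_lit 0x1013b57) (nat_lit 2820))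
 (.node (nat_lit 0x1013b5b) (.leaf (nat_lit 0x1013b59) (nat_lit 2564))
 (.leaf (nat_lit 0x1013b5b) (nat_lit 2308))
)))) (.node (nat_lit 0x1015107) (.node (nat_lit 0x1015101) (.node (nat_lit 0x1013b5f) (.leaf (nat_lit 0x1013b5d) (nat_lit 3076))
 (.leaf (nat_lit 0x1013b5f) (nat_lit 3076))
) (.node (nat_lit 0x1015103) (.leaf (nat_lit 0x1015101) (nat_lit 2308))
 (.node (nat_lit 0x1015105) (.leaf (nat_lit 0x1015103) (nat_lit 2564))
 (.leaf (nat_lit 0x1015105) (nat_lit 3077))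
))) (.node (nat_lit 0x101510d) (.node (nat_lit 0x1015109) (.leaf (nat_lit 0x1015107) (nat_lit 2821))
 (.node (nat_lit 0x101510b) (.leaf (nat_lit 0x1015109) (nat_lit 2564))
 (.leaf (nat_lit 0x101510b) (nat_lit 2820))
)) (.node (nat_lit 0x101510f) (.leaf (nat_lit 0x101510d) (nat_lit 3075))
 (.node (nat_lit 0x1015111) (.leaf (nat_lit 0x101510f) (nat_lit 2819))
 (.leaf (nat_lit 0x1015111) (nat_lit 3840))
))))) (.node (nat_lit 0x1015147) (.node (nat_lit 0x101511d) (.node (nat_lit 0x1015117) (.node (nat_lit 0x1015115) (.leaf (nat_lit 0x1015113) (nat_lit 3584))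
 (.leaf (nat_lit 0x1015115) (nat_lit 3076))
) (.node (nat_lit 0x1015119) (.leaf (nat_lit 0x1015117) (nat_lit 3074))
 (.node (nat_lit 0x101511b) (.leaf (nat_lit 0x1015119) (nat_lit 3585))
 (.leaf (nat_lit 0x101511b) (nat_lit 3329))
))) (.node (nat_lit 0x1015141) (.node (nat_lit 0x101511f) (.leaf (nat_lit 0x101511d) (nat_lit 2820))
 (.leaf (nat_lit 0x101511f) (nat_lit 2818))
) (.node (nat_lit 0x1015143) (.leaf (nat_lit 0x1015141) (nat_lit 2053))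
 (.node (nat_lit 0x1015145) (.leaf (nat_lit 0x1015143) (nat_lit 2309))
 (.leaf (nat_lit 0x1015145) (nat_lit 2819))
)))) (.node (nat_lit 0x1015151) (.node (nat_lit 0x101514b) (.node (nat_lit 0x1015149) (.leaf (nat_lit 0x1015147) (nat_lit 2563))
 (.leaf (nat_lit 0x1015149) (nat_lit 2565))
) (.node (nat_lit 0x101514d) (.leaf (nat_lit 0x101514b) (nat_lit 2309))
 (.node (nat_lit 0x101514f) (.leaf (nat_lit 0x101514d) (nat_lit 2819))
 (.leaf (nat_lit 0x101514f) (nat_lit 3075))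
))) (.node (nat_lit 0x1015157) (.node (nat_lit 0x1015153) (.leaf (nat_lit 0x1015151) (nat_lit 3586))
 (.node (nat_lit 0x1015155) (.leaf (nat_lit 0x1015153) (nat_lit 3584))
 (.leaf (nat_lit 0x1015155) (nat_lit 2816))
)) (.node (nat_lit 0x1015159) (.leaf (nat_lit 0x1015157) (nat_lit 3072))
 (.node (nat_lit 0x101515b) (.leaf (nat_lit 0x1015159) (nat_lit 3329))
 (.leaf (nat_lit 0x101515b) (nat_lit 3585))
)))))) (.node (nat_lit 0x10151c7) (.node (nat_lit 0x1015191) (.node (nat_lit 0x1015187) (.node (nat_lit 0x1015181) (.node (nat_lit 0x101515f) (.leaf (nat_lit 0x101515d) (nat_lit 2817))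
 (.leaf (nat_lit 0x101515f) (nat_lit 2561))
) (.node (nat_lit 0x1015183) (.leaf (nat_lit 0x1015181) (nat_lit 2052))
 (.node (nat_lit 0x1015185) (.leaf (nat_lit 0x1015183) (nat_lit 2308))
 (.leaf (nat_lit 0x1015185) (nat_lit 2821))
))) (.node (nat_lit 0x101518b) (.node (nat_lit 0x1015189) (.leaf (nat_lit 0x1015187) (nat_lit 2565))
 (.leaf (nat_lit 0x1015189) (nat_lit 3077))
) (.node (nat_lit 0x101518d) (.leaf (nat_lit 0x101518b) (nat_lit 2821))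
 (.node (nat_lit 0x101518f) (.leaf (nat_lit 0x101518d) (nat_lit 2308))
 (.leaf (nat_lit 0x101518f) (nat_lit 2564))
)))) (.node (nat_lit 0x101519b) (.node (nat_lit 0x1015195) (.node (nat_lit 0x1015193) (.leaf (nat_lit 0x1015191) (nat_lit 3589))
 (.leaf (nat_lit 0x1015193) (nat_lit 3333))
) (.node (nat_lit 0x1015197) (.leaf (nat_lit 0x1015195) (nat_lit 2821))
 (.node (nat_lit 0x1015199) (.leaf (nat_lit 0x1015197) (nat_lit 2821))
 (.leaf (nat_lit 0x1015199) (nat_lit 2817))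
))) (.node (nat_lit 0x10151c1) (.node (nat_lit 0x101519d) (.leaf (nat_lit 0x101519b) (nat_lit 2818))
 (.node (nat_lit 0x101519f) (.leaf (nat_lit 0x101519d) (nat_lit 3585))
 (.leaf (nat_lit 0x101519f) (nat_lit 3329))
)) (.node (nat_lit 0x10151c3) (.leaf (nat_lit 0x10151c1) (nat_lit 1797))
 (.node (nat_lit 0x10151c5) (.leaf (nat_lit 0x10151c3) (nat_lit 2053))
 (.leaf (nat_lit 0x10151c5) (nat_lit 2821))
))))) (.node (nat_lit 0x10151db) (.node (nat_lit 0x10151d1) (.node (nat_lit 0x10151cb) (.node (nat_lit 0x10151c9) (.leaf (nat_lit 0x10151c7) (nat_lit 2565))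
 (.leaf (nat_lit 0x10151c9) (nat_lit 2821))
) (.node (nat_lit 0x10151cd) (.leaf (nat_lit 0x10151cb) (nat_lit 3077))
 (.node (nat_lit 0x10151cf) (.leaf (nat_lit 0x10151cd) (nat_lit 2309))
 (.leaf (nat_lit 0x10151cf) (nat_lit 2053))
))) (.node (nat_lit 0x10151d5) (.node (nat_lit 0x10151d3) (.leaf (nat_lit 0x10151d1) (nat_lit 3589))
 (.leaf (nat_lit 0x10151d3) (nat_lit 3333))
) (.node (nat_lit 0x10151d7) (.leaf (nat_lit 0x10151d5) (nat_lit 2565))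
 (.node (nat_lit 0x10151d9) (.leaf (nat_lit 0x10151d7) (nat_lit 2821))
 (.leaf (nat_lit 0x10151d9) (nat_lit 2821))
)))) (.node (nat_lit 0x1015305) (.node (nat_lit 0x10151df) (.node (nat_lit 0x10151dd) (.leaf (nat_lit 0x10151db) (nat_lit 2565))
 (.leaf (nat_lit 0x10151dd) (nat_lit 3333))
) (.node (nat_lit 0x1015301) (.leaf (nat_lit 0x10151df) (nat_lit 3589))
 (.node (nat_lit 0x1015303) (.leaf (nat_lit 0x1015301) (nat_lit 2306))
 (.leaf (nat_lit 0x1015303) (nat_lit 2562))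
))) (.node (nat_lit 0x101530b) (.node (nat_lit 0x1015307) (.leaf (nat_lit 0x1015305) (nat_lit 3073))
 (.node (nat_lit 0x1015309) (.leaf (nat_lit 0x1015307) (nat_lit 2817))
 (.leaf (nat_lit 0x1015309) (nat_lit 3329))
)) (.node (nat_lit 0x101530d) (.leaf (nat_lit 0x101530b) (nat_lit 3073))
 (.node (nat_lit 0x101530f) (.leaf (nat_lit 0x101530d) (nat_lit 2564))
 (.leaf (nat_lit 0x101530f) (nat_lit 2562))
)))))))) (.node (nat_lit 0x1015959) (.node (nat_lit 0x10153c5) (.node (nat_lit 0x101535b) (.node (nat_lit 0x1015345) (.node (nat_lit 0x101531b) (.node (nat_lit 0x1015315) (.node (nat_lit 0x1015313) (.leaf (nat_lit 0x1015311) (nat_lit 3584))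
 (.leaf (nat_lit 0x1015313) (nat_lit 3328))
) (.node (nat_lit 0x1015317) (.leaf (nat_lit 0x1015315) (nat_lit 2820))
 (.node (nat_lit 0x1015319) (.leaf (nat_lit 0x1015317) (nat_lit 2818))
 (.leaf (nat_lit 0x1015319) (nat_lit 2562))
))) (.node (nat_lit 0x101531f) (.node (nat_lit 0x101531d) (.leaf (nat_lit 0x101531b) (nat_lit 2818))
 (.leaf (nat_lit 0x101531d) (nat_lit 3328))
) (.node (nat_lit 0x1015341) (.leaf (nat_lit 0x101531f) (nat_lit 3072))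
 (.node (nat_lit 0x1015343) (.leaf (nat_lit 0x1015341) (nat_lit 2049))
 (.leaf (nat_lit 0x1015343) (nat_lit 2305))
)))) (.node (nat_lit 0x101534f) (.node (nat_lit 0x1015349) (.node (nat_lit 0x1015347) (.leaf (nat_lit 0x1015345) (nat_lit 3073))
 (.leaf (nat_lit 0x1015347) (nat_lit 2817))
) (.node (nat_lit 0x101534b) (.leaf (nat_lit 0x1015349) (nat_lit 3073))
 (.node (nat_lit 0x101534d) (.leaf (nat_lit 0x101534b) (nat_lit 3329))
 (.leaf (nat_lit 0x101534d) (nat_lit 2561))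
))) (.node (nat_lit 0x1015355) (.node (nat_lit 0x1015351) (.leaf (nat_lit 0x101534f) (nat_lit 2305))
 (.node (nat_lit 0x1015353) (.leaf (nat_lit 0x1015351) (nat_lit 3584))
 (.leaf (nat_lit 0x1015353) (nat_lit 3328))
)) (.node (nat_lit 0x1015357) (.leaf (nat_lit 0x1015355) (nat_lit 2560))
 (.node (nat_lit 0x1015359) (.leaf (nat_lit 0x1015357) (nat_lit 2816))
 (.leaf (nat_lit 0x1015359) (nat_lit 2560))
))))) (.node (nat_lit 0x101538f) (.node (nat_lit 0x1015385) (.node (nat_lit 0x101535f) (.node (nat_lit 0x101535d) (.leaf (nat_lit 0x101535b) (nat_lit 2304))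
 (.leaf (nat_lit 0x101535d) (nat_lit 3072))
) (.node (nat_lit 0x1015381) (.leaf (nat_lit 0x101535f) (nat_lit 3328))
 (.node (nat_lit 0x1015383) (.leaf (nat_lit 0x1015381) (nat_lit 2308))
 (.leaf (nat_lit 0x1015383) (nat_lit 2564))
))) (.node (nat_lit 0x1015389) (.node (nat_lit 0x1015387) (.leaf (nat_lit 0x1015385) (nat_lit 3077))
 (.leaf (nat_lit 0x1015387) (nat_lit 2821))
) (.node (nat_lit 0x101538b) (.leaf (nat_lit 0x1015389) (nat_lit 2820))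
 (.node (nat_lit 0x101538d) (.leaf (nat_lit 0x101538b) (nat_lit 2818))
 (.leaf (nat_lit 0x101538d) (nat_lit 3331))
)))) (.node (nat_lit 0x1015399) (.node (nat_lit 0x1015393) (.node (nat_lit 0x1015391) (.leaf (nat_lit 0x101538f) (nat_lit 3075))
 (.leaf (nat_lit 0x1015391) (nat_lit 3587))
) (.node (nat_lit 0x1015395) (.leaf (nat_lit 0x1015393) (nat_lit 3331))
 (.node (nat_lit 0x1015397) (.leaf (nat_lit 0x1015395) (nat_lit 3077))
 (.leaf (nat_lit 0x1015397) (nat_lit 3077))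
))) (.node (nat_lit 0x101539f) (.node (nat_lit 0x101539b) (.leaf (nat_lit 0x1015399) (nat_lit 3333))
 (.node (nat_lit 0x101539d) (.leaf (nat_lit 0x101539b) (nat_lit 3077))
 (.leaf (nat_lit 0x101539d) (nat_lit 2564))
)) (.node (nat_lit 0x10153c1) (.leaf (nat_lit 0x101539f) (nat_lit 2820))
 (.node (nat_lit 0x10153c3) (.leaf (nat_lit 0x10153c1) (nat_lit 2053))
 (.leaf (nat_lit 0x10153c3) (nat_lit 2309))
)))))) (.node (nat_lit 0x101590f) (.node (nat_lit 0x10153d9) (.node (nat_lit 0x10153cf) (.node (nat_lit 0x10153c9) (.node (nat_lit 0x10153c7) (.leaf (nat_lit 0x10153c5) (nat_lit 3077))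
 (.leaf (nat_lit 0x10153c7) (nat_lit 2821))
) (.node (nat_lit 0x10153cb) (.leaf (nat_lit 0x10153c9) (nat_lit 2817))
 (.node (nat_lit 0x10153cd) (.leaf (nat_lit 0x10153cb) (nat_lit 2561))
 (.leaf (nat_lit 0x10153cd) (nat_lit 3077))
))) (.node (nat_lit 0x10153d3) (.node (nat_lit 0x10153d1) (.leaf (nat_lit 0x10153cf) (nat_lit 3333))
 (.leaf (nat_lit 0x10153d1) (nat_lit 3589))
) (.node (nat_lit 0x10153d5) (.leaf (nat_lit 0x10153d3) (nat_lit 3333))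
 (.node (nat_lit 0x10153d7) (.leaf (nat_lit 0x10153d5) (nat_lit 2821))
 (.leaf (nat_lit 0x10153d7) (nat_lit 3077))
)))) (.node (nat_lit 0x1015903) (.node (nat_lit 0x10153dd) (.node (nat_lit 0x10153db) (.leaf (nat_lit 0x10153d9) (nat_lit 3077))
 (.leaf (nat_lit 0x10153db) (nat_lit 3333))
) (.node (nat_lit 0x10153df) (.leaf (nat_lit 0x10153dd) (nat_lit 2565))
 (.node (nat_lit 0x1015901) (.leaf (nat_lit 0x10153df) (nat_lit 2309))
 (.leaf (nat_lit 0x1015901) (nat_lit 2308))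
))) (.node (nat_lit 0x1015909) (.node (nat_lit 0x1015905) (.leaf (nat_lit 0x1015903) (nat_lit 2564))
 (.node (nat_lit 0x1015907) (.leaf (nat_lit 0x1015905) (nat_lit 3076))
 (.leaf (nat_lit 0x1015907) (nat_lit 2820))
)) (.node (nat_lit 0x101590b) (.leaf (nat_lit 0x1015909) (nat_lit 2564))
 (.node (nat_lit 0x101590d) (.leaf (nat_lit 0x101590b) (nat_lit 2564))
 (.leaf (nat_lit 0x101590d) (nat_lit 3076))
))))) (.node (nat_lit 0x1015943) (.node (nat_lit 0x1015919) (.node (nat_lit 0x1015913) (.node (nat_lit 0x1015911) (.leaf (nat_lit 0x101590f) (nat_lit 2820))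
 (.leaf (nat_lit 0x1015911) (nat_lit 3588))
) (.node (nat_lit 0x1015915) (.leaf (nat_lit 0x1015913) (nat_lit 3844))
 (.node (nat_lit 0x1015917) (.leaf (nat_lit 0x1015915) (nat_lit 3076))
 (.leaf (nat_lit 0x1015917) (nat_lit 2820))
))) (.node (nat_lit 0x101591d) (.node (nat_lit 0x101591b) (.leaf (nat_lit 0x1015919) (nat_lit 3332))
 (.leaf (nat_lit 0x101591b) (nat_lit 3588))
) (.node (nat_lit 0x101591f) (.leaf (nat_lit 0x101591d) (nat_lit 2820))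
 (.node (nat_lit 0x1015941) (.leaf (nat_lit 0x101591f) (nat_lit 2564))
 (.leaf (nat_lit 0x1015941) (nat_lit 2052))
)))) (.node (nat_lit 0x101594d) (.node (nat_lit 0x1015947) (.node (nat_lit 0x1015945) (.leaf (nat_lit 0x1015943) (nat_lit 2308))
 (.leaf (nat_lit 0x1015945) (nat_lit 2820))
) (.node (nat_lit 0x1015949) (.leaf (nat_lit 0x1015947) (nat_lit 2564))
 (.node (nat_lit 0x101594b) (.leaf (nat_lit 0x1015949) (nat_lit 2564))
 (.leaf (nat_lit 0x101594b) (nat_lit 2308))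
))) (.node (nat_lit 0x1015953) (.node (nat_lit 0x101594f) (.leaf (nat_lit 0x101594d) (nat_lit 2820))
 (.node (nat_lit 0x1015951) (.leaf (nat_lit 0x101594f) (nat_lit 2820))
 (.leaf (nat_lit 0x1015951) (nat_lit 3332))
)) (.node (nat_lit 0x1015955) (.leaf (nat_lit 0x1015953) (nat_lit 3588))
 (.node (nat_lit 0x1015957) (.leaf (nat_lit 0x1015955) (nat_lit 3076))
 (.leaf (nat_lit 0x1015957) (nat_lit 2820))
))))))) (.node (nat_lit 0x1015b0d) (.node (nat_lit 0x10159c3) (.node (nat_lit 0x101598d) (.node (nat_lit 0x1015983) (.node (nat_lit 0x101595d) (.node (nat_lit 0x101595b) (.leaf (nat_lit 0x1015959) (nat_lit 3588))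
 (.leaf (nat_lit 0x101595b) (nat_lit 3332))
) (.node (nat_lit 0x101595f) (.leaf (nat_lit 0x101595d) (nat_lit 2820))
 (.node (nat_lit 0x1015981) (.leaf (nat_lit 0x101595f) (nat_lit 2820))
 (.leaf (nat_lit 0x1015981) (nat_lit 2052))
))) (.node (nat_lit 0x1015987) (.node (nat_lit 0x1015985) (.leaf (nat_lit 0x1015983) (nat_lit 2308))
 (.leaf (nat_lit 0x1015985) (nat_lit 2821))
) (.node (nat_lit 0x1015989) (.leaf (nat_lit 0x1015987) (nat_lit 2565))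
 (.node (nat_lit 0x101598b) (.leaf (nat_lit 0x1015989) (nat_lit 3077))
 (.leaf (nat_lit 0x101598b) (nat_lit 2821))
)))) (.node (nat_lit 0x1015997) (.node (nat_lit 0x1015991) (.node (nat_lit 0x101598f) (.leaf (nat_lit 0x101598d) (nat_lit 2308))
 (.leaf (nat_lit 0x101598f) (nat_lit 2308))
) (.node (nat_lit 0x1015993) (.leaf (nat_lit 0x1015991) (nat_lit 3333))
 (.node (nat_lit 0x1015995) (.leaf (nat_lit 0x1015993) (nat_lit 3589))
 (.leaf (nat_lit 0x1015995) (nat_lit 2821))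
))) (.node (nat_lit 0x101599d) (.node (nat_lit 0x1015999) (.leaf (nat_lit 0x1015997) (nat_lit 2565))
 (.node (nat_lit 0x101599b) (.leaf (nat_lit 0x1015999) (nat_lit 2820))
 (.leaf (nat_lit 0x101599b) (nat_lit 2564))
)) (.node (nat_lit 0x101599f) (.leaf (nat_lit 0x101599d) (nat_lit 3332))
 (.node (nat_lit 0x10159c1) (.leaf (nat_lit 0x101599f) (nat_lit 3332))
 (.leaf (nat_lit 0x10159c1) (nat_lit 1796))
))))) (.node (nat_lit 0x10159d7) (.node (nat_lit 0x10159cd) (.node (nat_lit 0x10159c7) (.node (nat_lit 0x10159c5) (.leaf (nat_lit 0x10159c3) (nat_lit 2052))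
 (.leaf (nat_lit 0x10159c5) (nat_lit 2820))
) (.node (nat_lit 0x10159c9) (.leaf (nat_lit 0x10159c7) (nat_lit 2564))
 (.node (nat_lit 0x10159cb) (.leaf (nat_lit 0x10159c9) (nat_lit 2820))
 (.leaf (nat_lit 0x10159cb) (nat_lit 3076))
))) (.node (nat_lit 0x10159d1) (.node (nat_lit 0x10159cf) (.leaf (nat_lit 0x10159cd) (nat_lit 2308))
 (.leaf (nat_lit 0x10159cf) (nat_lit 2052))
) (.node (nat_lit 0x10159d3) (.leaf (nat_lit 0x10159d1) (nat_lit 3332))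
 (.node (nat_lit 0x10159d5) (.leaf (nat_lit 0x10159d3) (nat_lit 3332))
 (.leaf (nat_lit 0x10159d5) (nat_lit 2820))
)))) (.node (nat_lit 0x1015b01) (.node (nat_lit 0x10159db) (.node (nat_lit 0x10159d9) (.leaf (nat_lit 0x10159d7) (nat_lit 2564))
 (.leaf (nat_lit 0x10159d9) (nat_lit 2564))
) (.node (nat_lit 0x10159dd) (.leaf (nat_lit 0x10159db) (nat_lit 2820))
 (.node (nat_lit 0x10159df) (.leaf (nat_lit 0x10159dd) (nat_lit 3332))
 (.leaf (nat_lit 0x10159df) (nat_lit 3332))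
))) (.node (nat_lit 0x1015b07) (.node (nat_lit 0x1015b03) (.leaf (nat_lit 0x1015b01) (nat_lit 2052))
 (.node (nat_lit 0x1015b05) (.leaf (nat_lit 0x1015b03) (nat_lit 2308))
 (.leaf (nat_lit 0x1015b05) (nat_lit 3076))
)) (.node (nat_lit 0x1015b09) (.leaf (nat_lit 0x1015b07) (nat_lit 2820))
 (.node (nat_lit 0x1015b0b) (.leaf (nat_lit 0x1015b09) (nat_lit 3076))
 (.leaf (nat_lit 0x1015b0b) (nat_lit 3332))
)))))) (.node (nat_lit 0x1015b57) (.node (nat_lit 0x1015b41) (.node (nat_lit 0x1015b17) (.node (nat_lit 0x1015b11) (.node (nat_lit 0x1015b0f) (.leaf (nat_lit 0x1015b0d) (nat_lit 2564))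
 (.leaf (nat_lit 0x1015b0f) (nat_lit 2308))
) (.node (nat_lit 0x1015b13) (.leaf (nat_lit 0x1015b11) (nat_lit 3332))
 (.node (nat_lit 0x1015b15) (.leaf (nat_lit 0x1015b13) (nat_lit 3588))
 (.leaf (nat_lit 0x1015b15) (nat_lit 2820))
))) (.node (nat_lit 0x1015b1b) (.node (nat_lit 0x1015b19) (.leaf (nat_lit 0x1015b17) (nat_lit 2564))
 (.leaf (nat_lit 0x1015b19) (nat_lit 2308))
) (.node (nat_lit 0x1015b1d) (.leaf (nat_lit 0x1015b1b) (nat_lit 2564))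
 (.node (nat_lit 0x1015b1f) (.leaf (nat_lit 0x1015b1d) (nat_lit 3332))
 (.leaf (nat_lit 0x1015b1f) (nat_lit 3076))
)))) (.node (nat_lit 0x1015b4b) (.node (nat_lit 0x1015b45) (.node (nat_lit 0x1015b43) (.leaf (nat_lit 0x1015b41) (nat_lit 2052))
 (.leaf (nat_lit 0x1015b43) (nat_lit 2308))
) (.node (nat_lit 0x1015b47) (.leaf (nat_lit 0x1015b45) (nat_lit 3076))
 (.node (nat_lit 0x1015b49) (.leaf (nat_lit 0x1015b47) (nat_lit 2820))
 (.leaf (nat_lit 0x1015b49) (nat_lit 3329))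
))) (.node (nat_lit 0x1015b51) (.node (nat_lit 0x1015b4d) (.leaf (nat_lit 0x1015b4b) (nat_lit 3073))
 (.node (nat_lit 0x1015b4f) (.leaf (nat_lit 0x1015b4d) (nat_lit 2564))
 (.leaf (nat_lit 0x1015b4f) (nat_lit 2564))
)) (.node (nat_lit 0x1015b53) (.leaf (nat_lit 0x1015b51) (nat_lit 3332))
 (.node (nat_lit 0x1015b55) (.leaf (nat_lit 0x1015b53) (nat_lit 3588))
 (.leaf (nat_lit 0x1015b55) (nat_lit 2820))
))))) (.node (nat_lit 0x1015b8b) (.node (nat_lit 0x1015b81) (.node (nat_lit 0x1015b5b) (.node (nat_lit 0x1015b59) (.leaf (nat_lit 0x1015b57) (nat_lit 2564))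
 (.leaf (nat_lit 0x1015b59) (nat_lit 2564))
) (.node (nat_lit 0x1015b5d) (.leaf (nat_lit 0x1015b5b) (nat_lit 2308))
 (.node (nat_lit 0x1015b5f) (.leaf (nat_lit 0x1015b5d) (nat_lit 3076))
 (.leaf (nat_lit 0x1015b5f) (nat_lit 3076))
))) (.node (nat_lit 0x1015b85) (.node (nat_lit 0x1015b83) (.leaf (nat_lit 0x1015b81) (nat_lit 2308))
 (.leaf (nat_lit 0x1015b83) (nat_lit 2564))
) (.node (nat_lit 0x1015b87) (.leaf (nat_lit 0x1015b85) (nat_lit 3076))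
 (.node (nat_lit 0x1015b89) (.leaf (nat_lit 0x1015b87) (nat_lit 2820))
 (.leaf (nat_lit 0x1015b89) (nat_lit 2820))
)))) (.node (nat_lit 0x1015b95) (.node (nat_lit 0x1015b8f) (.node (nat_lit 0x1015b8d) (.leaf (nat_lit 0x1015b8b) (nat_lit 2564))
 (.leaf (nat_lit 0x1015b8d) (nat_lit 3076))
) (.node (nat_lit 0x1015b91) (.leaf (nat_lit 0x1015b8f) (nat_lit 3076))
 (.node (nat_lit 0x1015b93) (.leaf (nat_lit 0x1015b91) (nat_lit 3332))
 (.leaf (nat_lit 0x1015b93) (nat_lit 3332))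
))) (.node (nat_lit 0x1015b9b) (.node (nat_lit 0x1015b97) (.leaf (nat_lit 0x1015b95) (nat_lit 3077))
 (.node (nat_lit 0x1015b99) (.leaf (nat_lit 0x1015b97) (nat_lit 2821))
 (.leaf (nat_lit 0x1015b99) (nat_lit 3332))
)) (.node (nat_lit 0x1015b9d) (.leaf (nat_lit 0x1015b9b) (nat_lit 3076))
 (.node (nat_lit 0x1015b9f) (.leaf (nat_lit 0x1015b9d) (nat_lit 2564))
 (.leaf (nat_lit 0x1015b9f) (nat_lit 2564))
))))))))) (.node (nat_lit 0x10168d1) (.node (nat_lit 0x1016289) (.node (nat_lit 0x10160d5) (.node (nat_lit 0x101608b) (.node (nat_lit 0x1015bd5) (.node (nat_lit 0x1015bcb) (.node (nat_lit 0x1015bc5) (.node (nat_lit 0x1015bc3) (.leaf (nat_lit 0x1015bc1) (nat_lit 2052))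
 (.leaf (nat_lit 0x1015bc3) (nat_lit 2308))
) (.node (nat_lit 0x1015bc7) (.leaf (nat_lit 0x1015bc5) (nat_lit 3076))
 (.node (nat_lit 0x1015bc9) (.leaf (nat_lit 0x1015bc7) (nat_lit 2820))
 (.leaf (nat_lit 0x1015bc9) (nat_lit 2820))
))) (.node (nat_lit 0x1015bcf) (.node (nat_lit 0x1015bcd) (.leaf (nat_lit 0x1015bcb) (nat_lit 2820))
 (.leaf (nat_lit 0x1015bcd) (nat_lit 3332))
) (.node (nat_lit 0x1015bd1) (.leaf (nat_lit 0x1015bcf) (nat_lit 3076))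
 (.node (nat_lit 0x1015bd3) (.leaf (nat_lit 0x1015bd1) (nat_lit 3332))
 (.leaf (nat_lit 0x1015bd3) (nat_lit 3588))
)))) (.node (nat_lit 0x1015bdf) (.node (nat_lit 0x1015bd9) (.node (nat_lit 0x1015bd7) (.leaf (nat_lit 0x1015bd5) (nat_lit 3076))
 (.leaf (nat_lit 0x1015bd7) (nat_lit 2820))
) (.node (nat_lit 0x1015bdb) (.leaf (nat_lit 0x1015bd9) (nat_lit 3076))
 (.node (nat_lit 0x1015bdd) (.leaf (nat_lit 0x1015bdb) (nat_lit 3332))
 (.leaf (nat_lit 0x1015bdd) (nat_lit 2564))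
))) (.node (nat_lit 0x1016085) (.node (nat_lit 0x1016081) (.leaf (nat_lit 0x1015bdf) (nat_lit 2308))
 (.node (nat_lit 0x1016083) (.leaf (nat_lit 0x1016081) (nat_lit 1794))
 (.leaf (nat_lit 0x1016083) (nat_lit 2050))
)) (.node (nat_lit 0x1016087) (.leaf (nat_lit 0x1016085) (nat_lit 2050))
 (.node (nat_lit 0x1016089) (.leaf (nat_lit 0x1016087) (nat_lit 2050))
 (.leaf (nat_lit 0x1016089) (nat_lit 3075))
))))) (.node (nat_lit 0x101609f) (.node (nat_lit 0x1016095) (.node (nat_lit 0x101608f) (.node (nat_lit 0x101608d) (.leaf (nat_lit 0x101608b) (nat_lit 2819))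
 (.leaf (nat_lit 0x101608d) (nat_lit 2819))
) (.node (nat_lit 0x1016091) (.leaf (nat_lit 0x101608f) (nat_lit 2563))
 (.node (nat_lit 0x1016093) (.leaf (nat_lit 0x1016091) (nat_lit 3587))
 (.leaf (nat_lit 0x1016093) (nat_lit 3331))
))) (.node (nat_lit 0x1016099) (.node (nat_lit 0x1016097) (.leaf (nat_lit 0x1016095) (nat_lit 3587))
 (.leaf (nat_lit 0x1016097) (nat_lit 3331))
) (.node (nat_lit 0x101609b) (.leaf (nat_lit 0x1016099) (nat_lit 2560))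
 (.node (nat_lit 0x101609d) (.leaf (nat_lit 0x101609b) (nat_lit 2561))
 (.leaf (nat_lit 0x101609d) (nat_lit 2305))
)))) (.node (nat_lit 0x10160c9) (.node (nat_lit 0x10160c3) (.node (nat_lit 0x10160c1) (.leaf (nat_lit 0x101609f) (nat_lit 2306))
 (.leaf (nat_lit 0x10160c1) (nat_lit 1538))
) (.node (nat_lit 0x10160c5) (.leaf (nat_lit 0x10160c3) (nat_lit 1794))
 (.node (nat_lit 0x10160c7) (.leaf (nat_lit 0x10160c5) (nat_lit 2050))
 (.leaf (nat_lit 0x10160c7) (nat_lit 1794))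
))) (.node (nat_lit 0x10160cf) (.node (nat_lit 0x10160cb) (.leaf (nat_lit 0x10160c9) (nat_lit 2819))
 (.node (nat_lit 0x10160cd) (.leaf (nat_lit 0x10160cb) (nat_lit 2563))
 (.leaf (nat_lit 0x10160cd) (nat_lit 2563))
)) (.node (nat_lit 0x10160d1) (.leaf (nat_lit 0x10160cf) (nat_lit 2819))
 (.node (nat_lit 0x10160d3) (.leaf (nat_lit 0x10160d1) (nat_lit 3331))
 (.leaf (nat_lit 0x10160d3) (nat_lit 3075))
)))))) (.node (nat_lit 0x101619f) (.node (nat_lit 0x1016189) (.node (nat_lit 0x10160df) (.node (nat_lit 0x10160d9) (.node (nat_lit 0x10160d7) (.leaf (nat_lit 0x10160d5) (nat_lit 3075))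
 (.leaf (nat_lit 0x10160d7) (nat_lit 3331))
) (.node (nat_lit 0x10160db) (.leaf (nat_lit 0x10160d9) (nat_lit 2562))
 (.node (nat_lit 0x10160dd) (.leaf (nat_lit 0x10160db) (nat_lit 2306))
 (.leaf (nat_lit 0x10160dd) (nat_lit 2306))
))) (.node (nat_lit 0x1016183) (.node (nat_lit 0x1016181) (.leaf (nat_lit 0x10160df) (nat_lit 2305))
 (.leaf (nat_lit 0x1016181) (nat_lit 2051))
) (.node (nat_lit 0x1016185) (.leaf (nat_lit 0x1016183) (nat_lit 2307))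
 (.node (nat_lit 0x1016187) (.leaf (nat_lit 0x1016185) (nat_lit 2563))
 (.leaf (nat_lit 0x1016187) (nat_lit 2307))
)))) (.node (nat_lit 0x1016193) (.node (nat_lit 0x101618d) (.node (nat_lit 0x101618b) (.leaf (nat_lit 0x1016189) (nat_lit 2819))
 (.leaf (nat_lit 0x101618b) (nat_lit 2563))
) (.node (nat_lit 0x101618f) (.leaf (nat_lit 0x101618d) (nat_lit 2307))
 (.node (nat_lit 0x1016191) (.leaf (nat_lit 0x101618f) (nat_lit 2306))
 (.leaf (nat_lit 0x1016191) (nat_lit 3331))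
))) (.node (nat_lit 0x1016199) (.node (nat_lit 0x1016195) (.leaf (nat_lit 0x1016193) (nat_lit 3075))
 (.node (nat_lit 0x1016197) (.leaf (nat_lit 0x1016195) (nat_lit 2561))
 (.leaf (nat_lit 0x1016197) (nat_lit 2562))
)) (.node (nat_lit 0x101619b) (.leaf (nat_lit 0x1016199) (nat_lit 2816))
 (.node (nat_lit 0x101619d) (.leaf (nat_lit 0x101619b) (nat_lit 2817))
 (.leaf (nat_lit 0x101619d) (nat_lit 3587))
))))) (.node (nat_lit 0x10161d3) (.node (nat_lit 0x10161c9) (.node (nat_lit 0x10161c3) (.node (nat_lit 0x10161c1) (.leaf (nat_lit 0x101619f) (nat_lit 3331))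
 (.leaf (nat_lit 0x10161c1) (nat_lit 1794))
) (.node (nat_lit 0x10161c5) (.leaf (nat_lit 0x10161c3) (nat_lit 2050))
 (.node (nat_lit 0x10161c7) (.leaf (nat_lit 0x10161c5) (nat_lit 2563))
 (.leaf (nat_lit 0x10161c7) (nat_lit 2562))
))) (.node (nat_lit 0x10161cd) (.node (nat_lit 0x10161cb) (.leaf (nat_lit 0x10161c9) (nat_lit 2818))
 (.leaf (nat_lit 0x10161cb) (nat_lit 2819))
) (.node (nat_lit 0x10161cf) (.leaf (nat_lit 0x10161cd) (nat_lit 2306))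
 (.node (nat_lit 0x10161d1) (.leaf (nat_lit 0x10161cf) (nat_lit 2050))
 (.leaf (nat_lit 0x10161d1) (nat_lit 3329))
)))) (.node (nat_lit 0x10161dd) (.node (nat_lit 0x10161d7) (.node (nat_lit 0x10161d5) (.leaf (nat_lit 0x10161d3) (nat_lit 3330))
 (.leaf (nat_lit 0x10161d5) (nat_lit 2562))
) (.node (nat_lit 0x10161d9) (.leaf (nat_lit 0x10161d7) (nat_lit 2561))
 (.node (nat_lit 0x10161db) (.leaf (nat_lit 0x10161d9) (nat_lit 2818))
 (.leaf (nat_lit 0x10161db) (nat_lit 2562))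
))) (.node (nat_lit 0x1016283) (.node (nat_lit 0x10161df) (.leaf (nat_lit 0x10161dd) (nat_lit 3330))
 (.node (nat_lit 0x1016281) (.leaf (nat_lit 0x10161df) (nat_lit 3586))
 (.leaf (nat_lit 0x1016281) (nat_lit 2050))
)) (.node (nat_lit 0x1016285) (.leaf (nat_lit 0x1016283) (nat_lit 2306))
 (.node (nat_lit 0x1016287) (.leaf (nat_lit 0x1016285) (nat_lit 2819))
 (.leaf (nat_lit 0x1016287) (nat_lit 2563))
))))))) (.node (nat_lit 0x101639d) (.node (nat_lit 0x10162d3) (.node (nat_lit 0x101629d) (.node (nat_lit 0x1016293) (.node (nat_lit 0x101628d) (.node (nat_lit 0x101628b) (.leaf (nat_lit 0x1016289) (nat_lit 3075))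
 (.leaf (nat_lit 0x101628b) (nat_lit 2819))
) (.node (nat_lit 0x101628f) (.leaf (nat_lit 0x101628d) (nat_lit 2562))
 (.node (nat_lit 0x1016291) (.leaf (nat_lit 0x101628f) (nat_lit 2306))
 (.leaf (nat_lit 0x1016291) (nat_lit 3075))
))) (.node (nat_lit 0x1016297) (.node (nat_lit 0x1016295) (.leaf (nat_lit 0x1016293) (nat_lit 2819))
 (.leaf (nat_lit 0x1016295) (nat_lit 2306))
) (.node (nat_lit 0x1016299) (.leaf (nat_lit 0x1016297) (nat_lit 2562))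
 (.node (nat_lit 0x101629b) (.leaf (nat_lit 0x1016299) (nat_lit 2818))
 (.leaf (nat_lit 0x101629b) (nat_lit 2562))
)))) (.node (nat_lit 0x10162c7) (.node (nat_lit 0x10162c1) (.node (nat_lit 0x101629f) (.leaf (nat_lit 0x101629d) (nat_lit 3331))
 (.leaf (nat_lit 0x101629f) (nat_lit 3075))
) (.node (nat_lit 0x10162c3) (.leaf (nat_lit 0x10162c1) (nat_lit 2049))
 (.node (nat_lit 0x10162c5) (.leaf (nat_lit 0x10162c3) (nat_lit 2305))
 (.leaf (nat_lit 0x10162c5) (nat_lit 2819))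
))) (.node (nat_lit 0x10162cd) (.node (nat_lit 0x10162c9) (.leaf (nat_lit 0x10162c7) (nat_lit 2817))
 (.node (nat_lit 0x10162cb) (.leaf (nat_lit 0x10162c9) (nat_lit 3073))
 (.leaf (nat_lit 0x10162cb) (nat_lit 3074))
)) (.node (nat_lit 0x10162cf) (.leaf (nat_lit 0x10162cd) (nat_lit 2561))
 (.node (nat_lit 0x10162d1) (.leaf (nat_lit 0x10162cf) (nat_lit 2305))
 (.leaf (nat_lit 0x10162d1) (nat_lit 3072))
))))) (.node (nat_lit 0x1016387) (.node (nat_lit 0x10162dd) (.node (nat_lit 0x10162d7) (.node (nat_lit 0x10162d5) (.leaf (nat_lit 0x10162d3) (nat_lit 3075))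
 (.leaf (nat_lit 0x10162d5) (nat_lit 2560))
) (.node (nat_lit 0x10162d9) (.leaf (nat_lit 0x10162d7) (nat_lit 2304))
 (.node (nat_lit 0x10162db) (.leaf (nat_lit 0x10162d9) (nat_lit 2560))
 (.leaf (nat_lit 0x10162db) (nat_lit 2816))
))) (.node (nat_lit 0x1016381) (.node (nat_lit 0x10162df) (.leaf (nat_lit 0x10162dd) (nat_lit 3330))
 (.leaf (nat_lit 0x10162df) (nat_lit 3328))
) (.node (nat_lit 0x1016383) (.leaf (nat_lit 0x1016381) (nat_lit 1794))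
 (.node (nat_lit 0x1016385) (.leaf (nat_lit 0x1016383) (nat_lit 2050))
 (.leaf (nat_lit 0x1016385) (nat_lit 2306))
)))) (.node (nat_lit 0x1016391) (.node (nat_lit 0x101638b) (.node (nat_lit 0x1016389) (.leaf (nat_lit 0x1016387) (nat_lit 2050))
 (.leaf (nat_lit 0x1016389) (nat_lit 3330))
) (.node (nat_lit 0x101638d) (.leaf (nat_lit 0x101638b) (nat_lit 3074))
 (.node (nat_lit 0x101638f) (.leaf (nat_lit 0x101638d) (nat_lit 3075))
 (.leaf (nat_lit 0x101638f) (nat_lit 2819))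
))) (.node (nat_lit 0x1016397) (.node (nat_lit 0x1016393) (.leaf (nat_lit 0x1016391) (nat_lit 3331))
 (.node (nat_lit 0x1016395) (.leaf (nat_lit 0x1016393) (nat_lit 3075))
 (.leaf (nat_lit 0x1016395) (nat_lit 3586))
)) (.node (nat_lit 0x1016399) (.leaf (nat_lit 0x1016397) (nat_lit 3330))
 (.node (nat_lit 0x101639b) (.leaf (nat_lit 0x1016399) (nat_lit 2562))
 (.leaf (nat_lit 0x101639b) (nat_lit 2306))
)))))) (.node (nat_lit 0x1016887) (.node (nat_lit 0x10163d1) (.node (nat_lit 0x10163c7) (.node (nat_lit 0x10163c1) (.node (nat_lit 0x101639f) (.leaf (nat_lit 0x101639d) (nat_lit 2050))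
 (.leaf (nat_lit 0x101639f) (nat_lit 2306))
) (.node (nat_lit 0x10163c3) (.leaf (nat_lit 0x10163c1) (nat_lit 1793))
 (.node (nat_lit 0x10163c5) (.leaf (nat_lit 0x10163c3) (nat_lit 2049))
 (.leaf (nat_lit 0x10163c5) (nat_lit 2305))
))) (.node (nat_lit 0x10163cb) (.node (nat_lit 0x10163c9) (.leaf (nat_lit 0x10163c7) (nat_lit 2049))
 (.leaf (nat_lit 0x10163c9) (nat_lit 3075))
) (.node (nat_lit 0x10163cd) (.leaf (nat_lit 0x10163cb) (nat_lit 2819))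
 (.node (nat_lit 0x10163cf) (.leaf (nat_lit 0x10163cd) (nat_lit 2819))
 (.leaf (nat_lit 0x10163cf) (nat_lit 3075))
)))) (.node (nat_lit 0x10163db) (.node (nat_lit 0x10163d5) (.node (nat_lit 0x10163d3) (.leaf (nat_lit 0x10163d1) (nat_lit 3331))
 (.leaf (nat_lit 0x10163d3) (nat_lit 3075))
) (.node (nat_lit 0x10163d7) (.leaf (nat_lit 0x10163d5) (nat_lit 3075))
 (.node (nat_lit 0x10163d9) (.leaf (nat_lit 0x10163d7) (nat_lit 3331))
 (.leaf (nat_lit 0x10163d9) (nat_lit 2304))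
))) (.node (nat_lit 0x1016881) (.node (nat_lit 0x10163dd) (.leaf (nat_lit 0x10163db) (nat_lit 2560))
 (.node (nat_lit 0x10163df) (.leaf (nat_lit 0x10163dd) (nat_lit 2304))
 (.leaf (nat_lit 0x10163df) (nat_lit 2048))
)) (.node (nat_lit 0x1016883) (.leaf (nat_lit 0x1016881) (nat_lit 1540))
 (.node (nat_lit 0x1016885) (.leaf (nat_lit 0x1016883) (nat_lit 1796))
 (.leaf (nat_lit 0x1016885) (nat_lit 1796))
))))) (.node (nat_lit 0x101689b) (.node (nat_lit 0x1016891) (.node (nat_lit 0x101688b) (.node (nat_lit 0x1016889) (.leaf (nat_lit 0x1016887) (nat_lit 1796))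
 (.leaf (nat_lit 0x1016889) (nat_lit 3076))
) (.node (nat_lit 0x101688d) (.leaf (nat_lit 0x101688b) (nat_lit 2820))
 (.node (nat_lit 0x101688f) (.leaf (nat_lit 0x101688d) (nat_lit 2820))
 (.leaf (nat_lit 0x101688f) (nat_lit 2564))
))) (.node (nat_lit 0x1016895) (.node (nat_lit 0x1016893) (.leaf (nat_lit 0x1016891) (nat_lit 3332))
 (.leaf (nat_lit 0x1016893) (nat_lit 3332))
) (.node (nat_lit 0x1016897) (.leaf (nat_lit 0x1016895) (nat_lit 3588))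
 (.node (nat_lit 0x1016899) (.leaf (nat_lit 0x1016897) (nat_lit 3332))
 (.leaf (nat_lit 0x1016899) (nat_lit 2564))
)))) (.node (nat_lit 0x10168c5) (.node (nat_lit 0x101689f) (.node (nat_lit 0x101689d) (.leaf (nat_lit 0x101689b) (nat_lit 2308))
 (.leaf (nat_lit 0x101689d) (nat_lit 2308))
) (.node (nat_lit 0x10168c1) (.leaf (nat_lit 0x101689f) (nat_lit 2052))
 (.node (nat_lit 0x10168c3) (.leaf (nat_lit 0x10168c1) (nat_lit 1284))
 (.leaf (nat_lit 0x10168c3) (nat_lit 1540))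
))) (.node (nat_lit 0x10168cb) (.node (nat_lit 0x10168c7) (.leaf (nat_lit 0x10168c5) (nat_lit 1796))
 (.node (nat_lit 0x10168c9) (.leaf (nat_lit 0x10168c7) (nat_lit 1540))
 (.leaf (nat_lit 0x10168c9) (nat_lit 2820))
)) (.node (nat_lit 0x10168cd) (.leaf (nat_lit 0x10168cb) (nat_lit 2564))
 (.node (nat_lit 0x10168cf) (.leaf (nat_lit 0x10168cd) (nat_lit 2564))
 (.leaf (nat_lit 0x10168cf) (nat_lit 2564))
)))))))) (.node (nat_lit 0x1016b99) (.node (nat_lit 0x1016a85) (.node (nat_lit 0x101699b) (.node (nat_lit 0x1016985) (.node (nat_lit 0x10168db) (.node (nat_lit 0x10168d5) (.node (nat_lit 0x10168d3) (.leaf (nat_lit 0x10168d1) (nat_lit 3332))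
 (.leaf (nat_lit 0x10168d3) (nat_lit 3076))
) (.node (nat_lit 0x10168d7) (.leaf (nat_lit 0x10168d5) (nat_lit 3076))
 (.node (nat_lit 0x10168d9) (.leaf (nat_lit 0x10168d7) (nat_lit 3332))
 (.leaf (nat_lit 0x10168d9) (nat_lit 2308))
))) (.node (nat_lit 0x10168df) (.node (nat_lit 0x10168dd) (.leaf (nat_lit 0x10168db) (nat_lit 2052))
 (.leaf (nat_lit 0x10168dd) (nat_lit 2052))
) (.node (nat_lit 0x1016981) (.leaf (nat_lit 0x10168df) (nat_lit 2308))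
 (.node (nat_lit 0x1016983) (.leaf (nat_lit 0x1016981) (nat_lit 1796))
 (.leaf (nat_lit 0x1016983) (nat_lit 2052))
)))) (.node (nat_lit 0x101698f) (.node (nat_lit 0x1016989) (.node (nat_lit 0x1016987) (.leaf (nat_lit 0x1016985) (nat_lit 2564))
 (.leaf (nat_lit 0x1016987) (nat_lit 2308))
) (.node (nat_lit 0x101698b) (.leaf (nat_lit 0x1016989) (nat_lit 2820))
 (.node (nat_lit 0x101698d) (.leaf (nat_lit 0x101698b) (nat_lit 2564))
 (.leaf (nat_lit 0x101698d) (nat_lit 2052))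
))) (.node (nat_lit 0x1016995) (.node (nat_lit 0x1016991) (.leaf (nat_lit 0x101698f) (nat_lit 2052))
 (.node (nat_lit 0x1016993) (.leaf (nat_lit 0x1016991) (nat_lit 3076))
 (.leaf (nat_lit 0x1016993) (nat_lit 3332))
)) (.node (nat_lit 0x1016997) (.leaf (nat_lit 0x1016995) (nat_lit 2564))
 (.node (nat_lit 0x1016999) (.leaf (nat_lit 0x1016997) (nat_lit 2308))
 (.leaf (nat_lit 0x1016999) (nat_lit 2820))
))))) (.node (nat_lit 0x10169cf) (.node (nat_lit 0x10169c5) (.node (nat_lit 0x101699f) (.node (nat_lit 0x101699d) (.leaf (nat_lit 0x101699b) (nat_lit 2564))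
 (.leaf (nat_lit 0x101699d) (nat_lit 3332))
) (.node (nat_lit 0x10169c1) (.leaf (nat_lit 0x101699f) (nat_lit 3076))
 (.node (nat_lit 0x10169c3) (.leaf (nat_lit 0x10169c1) (nat_lit 1540))
 (.leaf (nat_lit 0x10169c3) (nat_lit 1796))
))) (.node (nat_lit 0x10169c9) (.node (nat_lit 0x10169c7) (.leaf (nat_lit 0x10169c5) (nat_lit 2564))
 (.leaf (nat_lit 0x10169c7) (nat_lit 2308))
) (.node (nat_lit 0x10169cb) (.leaf (nat_lit 0x10169c9) (nat_lit 2564))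
 (.node (nat_lit 0x10169cd) (.leaf (nat_lit 0x10169cb) (nat_lit 2820))
 (.leaf (nat_lit 0x10169cd) (nat_lit 2052))
)))) (.node (nat_lit 0x10169d9) (.node (nat_lit 0x10169d3) (.node (nat_lit 0x10169d1) (.leaf (nat_lit 0x10169cf) (nat_lit 1796))
 (.leaf (nat_lit 0x10169d1) (nat_lit 3332))
) (.node (nat_lit 0x10169d5) (.leaf (nat_lit 0x10169d3) (nat_lit 3076))
 (.node (nat_lit 0x10169d7) (.leaf (nat_lit 0x10169d5) (nat_lit 2308))
 (.leaf (nat_lit 0x10169d7) (nat_lit 2564))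
))) (.node (nat_lit 0x10169df) (.node (nat_lit 0x10169db) (.leaf (nat_lit 0x10169d9) (nat_lit 2564))
 (.node (nat_lit 0x10169dd) (.leaf (nat_lit 0x10169db) (nat_lit 2308))
 (.leaf (nat_lit 0x10169dd) (nat_lit 3076))
)) (.node (nat_lit 0x1016a81) (.leaf (nat_lit 0x10169df) (nat_lit 3332))
 (.node (nat_lit 0x1016a83) (.leaf (nat_lit 0x1016a81) (nat_lit 1796))
 (.leaf (nat_lit 0x1016a83) (nat_lit 2052))
)))))) (.node (nat_lit 0x1016acf) (.node (nat_lit 0x1016a99) (.node (nat_lit 0x1016a8f) (.node (nat_lit 0x1016a89) (.node (nat_lit 0x1016a87) (.leaf (nat_lit 0x1016a85) (nat_lit 2820))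
 (.leaf (nat_lit 0x1016a87) (nat_lit 2564))
) (.node (nat_lit 0x1016a8b) (.leaf (nat_lit 0x1016a89) (nat_lit 2820))
 (.node (nat_lit 0x1016a8d) (.leaf (nat_lit 0x1016a8b) (nat_lit 3076))
 (.leaf (nat_lit 0x1016a8d) (nat_lit 2308))
))) (.node (nat_lit 0x1016a93) (.node (nat_lit 0x1016a91) (.leaf (nat_lit 0x1016a8f) (nat_lit 2052))
 (.leaf (nat_lit 0x1016a91) (nat_lit 3076))
) (.node (nat_lit 0x1016a95) (.leaf (nat_lit 0x1016a93) (nat_lit 2820))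
 (.node (nat_lit 0x1016a97) (.leaf (nat_lit 0x1016a95) (nat_lit 2052))
 (.leaf (nat_lit 0x1016a97) (nat_lit 2308))
)))) (.node (nat_lit 0x1016ac3) (.node (nat_lit 0x1016a9d) (.node (nat_lit 0x1016a9b) (.leaf (nat_lit 0x1016a99) (nat_lit 2564))
 (.leaf (nat_lit 0x1016a9b) (nat_lit 2308))
) (.node (nat_lit 0x1016a9f) (.leaf (nat_lit 0x1016a9d) (nat_lit 3076))
 (.node (nat_lit 0x1016ac1) (.leaf (nat_lit 0x1016a9f) (nat_lit 3076))
 (.leaf (nat_lit 0x1016ac1) (nat_lit 1796))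
))) (.node (nat_lit 0x1016ac9) (.node (nat_lit 0x1016ac5) (.leaf (nat_lit 0x1016ac3) (nat_lit 2052))
 (.node (nat_lit 0x1016ac7) (.leaf (nat_lit 0x1016ac5) (nat_lit 2820))
 (.leaf (nat_lit 0x1016ac7) (nat_lit 2564))
)) (.node (nat_lit 0x1016acb) (.leaf (nat_lit 0x1016ac9) (nat_lit 3076))
 (.node (nat_lit 0x1016acd) (.leaf (nat_lit 0x1016acb) (nat_lit 2820))
 (.leaf (nat_lit 0x1016acd) (nat_lit 2308))
))))) (.node (nat_lit 0x1016b83) (.node (nat_lit 0x1016ad9) (.node (nat_lit 0x1016ad3) (.node (nat_lit 0x1016ad1) (.leaf (nat_lit 0x1016acf) (nat_lit 2308))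
 (.leaf (nat_lit 0x1016ad1) (nat_lit 2820))
) (.node (nat_lit 0x1016ad5) (.leaf (nat_lit 0x1016ad3) (nat_lit 3076))
 (.node (nat_lit 0x1016ad7) (.leaf (nat_lit 0x1016ad5) (nat_lit 2308))
 (.leaf (nat_lit 0x1016ad7) (nat_lit 2052))
))) (.node (nat_lit 0x1016add) (.node (nat_lit 0x1016adb) (.leaf (nat_lit 0x1016ad9) (nat_lit 2564))
 (.leaf (nat_lit 0x1016adb) (nat_lit 2564))
) (.node (nat_lit 0x1016adf) (.leaf (nat_lit 0x1016add) (nat_lit 3076))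
 (.node (nat_lit 0x1016b81) (.leaf (nat_lit 0x1016adf) (nat_lit 3076))
 (.leaf (nat_lit 0x1016b81) (nat_lit 1540))
)))) (.node (nat_lit 0x1016b8d) (.node (nat_lit 0x1016b87) (.node (nat_lit 0x1016b85) (.leaf (nat_lit 0x1016b83) (nat_lit 1796))
 (.leaf (nat_lit 0x1016b85) (nat_lit 2052))
) (.node (nat_lit 0x1016b89) (.leaf (nat_lit 0x1016b87) (nat_lit 1796))
 (.node (nat_lit 0x1016b8b) (.leaf (nat_lit 0x1016b89) (nat_lit 3076))
 (.leaf (nat_lit 0x1016b8b) (nat_lit 2820))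
))) (.node (nat_lit 0x1016b93) (.node (nat_lit 0x1016b8f) (.leaf (nat_lit 0x1016b8d) (nat_lit 2820))
 (.node (nat_lit 0x1016b91) (.leaf (nat_lit 0x1016b8f) (nat_lit 2820))
 (.leaf (nat_lit 0x1016b91) (nat_lit 3076))
)) (.node (nat_lit 0x1016b95) (.leaf (nat_lit 0x1016b93) (nat_lit 3076))
 (.node (nat_lit 0x1016b97) (.leaf (nat_lit 0x1016b95) (nat_lit 3332))
 (.leaf (nat_lit 0x1016b97) (nat_lit 3076))
))))))) (.node (nat_lit 0x10170cd) (.node (nat_lit 0x1017083) (.node (nat_lit 0x1016bcd) (.node (nat_lit 0x1016bc3) (.node (nat_lit 0x1016b9d) (.node (nat_lit 0x1016b9b) (.leaf (nat_lit 0x1016b99) (nat_lit 2308))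
 (.leaf (nat_lit 0x1016b9b) (nat_lit 2052))
) (.node (nat_lit 0x1016b9f) (.leaf (nat_lit 0x1016b9d) (nat_lit 1796))
 (.node (nat_lit 0x1016bc1) (.leaf (nat_lit 0x1016b9f) (nat_lit 2052))
 (.leaf (nat_lit 0x1016bc1) (nat_lit 1540))
))) (.node (nat_lit 0x1016bc7) (.node (nat_lit 0x1016bc5) (.leaf (nat_lit 0x1016bc3) (nat_lit 1796))
 (.leaf (nat_lit 0x1016bc5) (nat_lit 2052))
) (.node (nat_lit 0x1016bc9) (.leaf (nat_lit 0x1016bc7) (nat_lit 2052))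
 (.node (nat_lit 0x1016bcb) (.leaf (nat_lit 0x1016bc9) (nat_lit 3332))
 (.leaf (nat_lit 0x1016bcb) (nat_lit 3076))
)))) (.node (nat_lit 0x1016bd7) (.node (nat_lit 0x1016bd1) (.node (nat_lit 0x1016bcf) (.leaf (nat_lit 0x1016bcd) (nat_lit 3076))
 (.leaf (nat_lit 0x1016bcf) (nat_lit 2820))
) (.node (nat_lit 0x1016bd3) (.leaf (nat_lit 0x1016bd1) (nat_lit 3076))
 (.node (nat_lit 0x1016bd5) (.leaf (nat_lit 0x1016bd3) (nat_lit 3332))
 (.leaf (nat_lit 0x1016bd5) (nat_lit 3332))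
))) (.node (nat_lit 0x1016bdd) (.node (nat_lit 0x1016bd9) (.leaf (nat_lit 0x1016bd7) (nat_lit 3332))
 (.node (nat_lit 0x1016bdb) (.leaf (nat_lit 0x1016bd9) (nat_lit 2308))
 (.leaf (nat_lit 0x1016bdb) (nat_lit 2308))
)) (.node (nat_lit 0x1016bdf) (.leaf (nat_lit 0x1016bdd) (nat_lit 2052))
 (.node (nat_lit 0x1017081) (.leaf (nat_lit 0x1016bdf) (nat_lit 1796))
 (.leaf (nat_lit 0x1017081) (nat_lit 1796))
))))) (.node (nat_lit 0x1017097) (.node (nat_lit 0x101708d) (.node (nat_lit 0x1017087) (.node (nat_lit 0x1017085) (.leaf (nat_lit 0x1017083) (nat_lit 2052))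
 (.leaf (nat_lit 0x1017085) (nat_lit 2052))
) (.node (nat_lit 0x1017089) (.leaf (nat_lit 0x1017087) (nat_lit 2308))
 (.node (nat_lit 0x101708b) (.leaf (nat_lit 0x1017089) (nat_lit 3075))
 (.leaf (nat_lit 0x101708b) (nat_lit 2819))
))) (.node (nat_lit 0x1017091) (.node (nat_lit 0x101708f) (.leaf (nat_lit 0x101708d) (nat_lit 3077))
 (.leaf (nat_lit 0x101708f) (nat_lit 2821))
) (.node (nat_lit 0x1017093) (.leaf (nat_lit 0x1017091) (nat_lit 3588))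
 (.node (nat_lit 0x1017095) (.leaf (nat_lit 0x1017093) (nat_lit 3332))
 (.leaf (nat_lit 0x1017095) (nat_lit 3588))
)))) (.node (nat_lit 0x10170c1) (.node (nat_lit 0x101709b) (.node (nat_lit 0x1017099) (.leaf (nat_lit 0x1017097) (nat_lit 3332))
 (.leaf (nat_lit 0x1017099) (nat_lit 2561))
) (.node (nat_lit 0x101709d) (.leaf (nat_lit 0x101709b) (nat_lit 2562))
 (.node (nat_lit 0x101709f) (.leaf (nat_lit 0x101709d) (nat_lit 2565))
 (.leaf (nat_lit 0x101709f) (nat_lit 2565))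
))) (.node (nat_lit 0x10170c7) (.node (nat_lit 0x10170c3) (.leaf (nat_lit 0x10170c1) (nat_lit 1541))
 (.node (nat_lit 0x10170c5) (.leaf (nat_lit 0x10170c3) (nat_lit 1797))
 (.leaf (nat_lit 0x10170c5) (nat_lit 2053))
)) (.node (nat_lit 0x10170c9) (.leaf (nat_lit 0x10170c7) (nat_lit 1797))
 (.node (nat_lit 0x10170cb) (.leaf (nat_lit 0x10170c9) (nat_lit 2819))
 (.leaf (nat_lit 0x10170cb) (nat_lit 2821))
)))))) (.node (nat_lit 0x1017117) (.node (nat_lit 0x1017101) (.node (nat_lit 0x10170d7) (.node (nat_lit 0x10170d1) (.node (nat_lit 0x10170cf) (.leaf (nat_lit 0x10170cd) (nat_lit 2821))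
 (.leaf (nat_lit 0x10170cf) (nat_lit 2819))
) (.node (nat_lit 0x10170d3) (.leaf (nat_lit 0x10170d1) (nat_lit 3589))
 (.node (nat_lit 0x10170d5) (.leaf (nat_lit 0x10170d3) (nat_lit 3333))
 (.leaf (nat_lit 0x10170d5) (nat_lit 3333))
))) (.node (nat_lit 0x10170db) (.node (nat_lit 0x10170d9) (.leaf (nat_lit 0x10170d7) (nat_lit 3589))
 (.leaf (nat_lit 0x10170d9) (nat_lit 2565))
) (.node (nat_lit 0x10170dd) (.leaf (nat_lit 0x10170db) (nat_lit 2309))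
 (.node (nat_lit 0x10170df) (.leaf (nat_lit 0x10170dd) (nat_lit 2309))
 (.leaf (nat_lit 0x10170df) (nat_lit 2565))
)))) (.node (nat_lit 0x101710b) (.node (nat_lit 0x1017105) (.node (nat_lit 0x1017103) (.leaf (nat_lit 0x1017101) (nat_lit 2307))
 (.leaf (nat_lit 0x1017103) (nat_lit 2563))
) (.node (nat_lit 0x1017107) (.leaf (nat_lit 0x1017105) (nat_lit 2819))
 (.node (nat_lit 0x1017109) (.leaf (nat_lit 0x1017107) (nat_lit 2563))
 (.leaf (nat_lit 0x1017109) (nat_lit 2563))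
))) (.node (nat_lit 0x1017111) (.node (nat_lit 0x101710d) (.leaf (nat_lit 0x101710b) (nat_lit 2562))
 (.node (nat_lit 0x101710f) (.leaf (nat_lit 0x101710d) (nat_lit 3075))
 (.leaf (nat_lit 0x101710f) (nat_lit 2819))
)) (.node (nat_lit 0x1017113) (.leaf (nat_lit 0x1017111) (nat_lit 3587))
 (.node (nat_lit 0x1017115) (.leaf (nat_lit 0x1017113) (nat_lit 3331))
 (.leaf (nat_lit 0x1017115) (nat_lit 2817))
))))) (.node (nat_lit 0x101714b) (.node (nat_lit 0x1017141) (.node (nat_lit 0x101711b) (.node (nat_lit 0x1017119) (.leaf (nat_lit 0x1017117) (nat_lit 2818))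
 (.leaf (nat_lit 0x1017119) (nat_lit 3841))
) (.node (nat_lit 0x101711d) (.leaf (nat_lit 0x101711b) (nat_lit 3585))
 (.node (nat_lit 0x101711f) (.leaf (nat_lit 0x101711d) (nat_lit 3077))
 (.leaf (nat_lit 0x101711f) (nat_lit 3073))
))) (.node (nat_lit 0x1017145) (.node (nat_lit 0x1017143) (.leaf (nat_lit 0x1017141) (nat_lit 2050))
 (.leaf (nat_lit 0x1017143) (nat_lit 2306))
) (.node (nat_lit 0x1017147) (.leaf (nat_lit 0x1017145) (nat_lit 2819))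
 (.node (nat_lit 0x1017149) (.leaf (nat_lit 0x1017147) (nat_lit 2818))
 (.leaf (nat_lit 0x1017149) (nat_lit 2562))
)))) (.node (nat_lit 0x1017155) (.node (nat_lit 0x101714f) (.node (nat_lit 0x101714d) (.leaf (nat_lit 0x101714b) (nat_lit 2306))
 (.leaf (nat_lit 0x101714d) (nat_lit 3075))
) (.node (nat_lit 0x1017151) (.leaf (nat_lit 0x101714f) (nat_lit 2819))
 (.node (nat_lit 0x1017153) (.leaf (nat_lit 0x1017151) (nat_lit 3585))
 (.leaf (nat_lit 0x1017153) (nat_lit 3586))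
))) (.node (nat_lit 0x101715b) (.node (nat_lit 0x1017157) (.leaf (nat_lit 0x1017155) (nat_lit 2818))
 (.node (nat_lit 0x1017159) (.leaf (nat_lit 0x1017157) (nat_lit 2817))
 (.leaf (nat_lit 0x1017159) (nat_lit 3586))
)) (.node (nat_lit 0x101715d) (.leaf (nat_lit 0x101715b) (nat_lit 3588))
 (.node (nat_lit 0x101715f) (.leaf (nat_lit 0x101715d) (nat_lit 2820))
 (.leaf (nat_lit 0x101715f) (nat_lit 2818))
))))))))))) (.node (nat_lit 0x1022b01) (.node (nat_lit 0x1021941) (.node (nat_lit 0x1017b11) (.node (nat_lit 0x10178c9) (.node (nat_lit 0x1017315) (.node (nat_lit 0x10172cb) (.node (nat_lit 0x1017295) (.node (nat_lit 0x101728b) (.node (nat_lit 0x1017285) (.node (nat_lit 0x1017283) (.leaf (nat_lit 0x1017281) (nat_lit 2306))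
 (.leaf (nat_lit 0x1017283) (nat_lit 2562))
) (.node (nat_lit 0x1017287) (.leaf (nat_lit 0x1017285) (nat_lit 3075))
 (.node (nat_lit 0x1017289) (.leaf (nat_lit 0x1017287) (nat_lit 2819))
 (.leaf (nat_lit 0x1017289) (nat_lit 2818))
))) (.node (nat_lit 0x101728f) (.node (nat_lit 0x101728d) (.leaf (nat_lit 0x101728b) (nat_lit 2562))
 (.leaf (nat_lit 0x101728d) (nat_lit 3331))
) (.node (nat_lit 0x1017291) (.leaf (nat_lit 0x101728f) (nat_lit 3075))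
 (.node (nat_lit 0x1017293) (.leaf (nat_lit 0x1017291) (nat_lit 3331))
 (.leaf (nat_lit 0x1017293) (nat_lit 3075))
)))) (.node (nat_lit 0x101729f) (.node (nat_lit 0x1017299) (.node (nat_lit 0x1017297) (.leaf (nat_lit 0x1017295) (nat_lit 2562))
 (.leaf (nat_lit 0x1017297) (nat_lit 2818))
) (.node (nat_lit 0x101729b) (.leaf (nat_lit 0x1017299) (nat_lit 3589))
 (.node (nat_lit 0x101729d) (.leaf (nat_lit 0x101729b) (nat_lit 3333))
 (.leaf (nat_lit 0x101729d) (nat_lit 3077))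
))) (.node (nat_lit 0x10172c5) (.node (nat_lit 0x10172c1) (.leaf (nat_lit 0x101729f) (nat_lit 2821))
 (.node (nat_lit 0x10172c3) (.leaf (nat_lit 0x10172c1) (nat_lit 2309))
 (.leaf (nat_lit 0x10172c3) (nat_lit 2565))
)) (.node (nat_lit 0x10172c7) (.leaf (nat_lit 0x10172c5) (nat_lit 3075))
 (.node (nat_lit 0x10172c9) (.leaf (nat_lit 0x10172c7) (nat_lit 3077))
 (.leaf (nat_lit 0x10172c9) (nat_lit 2817))
))))) (.node (nat_lit 0x10172df) (.node (nat_lit 0x10172d5) (.node (nat_lit 0x10172cf) (.node (nat_lit 0x10172cd) (.leaf (nat_lit 0x10172cb) (nat_lit 2561))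
 (.leaf (nat_lit 0x10172cd) (nat_lit 3333))
) (.node (nat_lit 0x10172d1) (.leaf (nat_lit 0x10172cf) (nat_lit 3077))
 (.node (nat_lit 0x10172d3) (.leaf (nat_lit 0x10172d1) (nat_lit 3333))
 (.leaf (nat_lit 0x10172d3) (nat_lit 3331))
))) (.node (nat_lit 0x10172d9) (.node (nat_lit 0x10172d7) (.leaf (nat_lit 0x10172d5) (nat_lit 2821))
 (.leaf (nat_lit 0x10172d7) (nat_lit 2565))
) (.node (nat_lit 0x10172db) (.leaf (nat_lit 0x10172d9) (nat_lit 3333))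
 (.node (nat_lit 0x10172dd) (.leaf (nat_lit 0x10172db) (nat_lit 3333))
 (.leaf (nat_lit 0x10172dd) (nat_lit 2821))
)))) (.node (nat_lit 0x1017309) (.node (nat_lit 0x1017303) (.node (nat_lit 0x1017301) (.leaf (nat_lit 0x10172df) (nat_lit 2821))
 (.leaf (nat_lit 0x1017301) (nat_lit 2050))
) (.node (nat_lit 0x1017305) (.leaf (nat_lit 0x1017303) (nat_lit 2306))
 (.node (nat_lit 0x1017307) (.leaf (nat_lit 0x1017305) (nat_lit 2308))
 (.leaf (nat_lit 0x1017307) (nat_lit 2306))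
))) (.node (nat_lit 0x101730f) (.node (nat_lit 0x101730b) (.leaf (nat_lit 0x1017309) (nat_lit 3331))
 (.node (nat_lit 0x101730d) (.leaf (nat_lit 0x101730b) (nat_lit 3075))
 (.leaf (nat_lit 0x101730d) (nat_lit 3329))
)) (.node (nat_lit 0x1017311) (.leaf (nat_lit 0x101730f) (nat_lit 3073))
 (.node (nat_lit 0x1017313) (.leaf (nat_lit 0x1017311) (nat_lit 3587))
 (.leaf (nat_lit 0x1017313) (nat_lit 3331))
)))))) (.node (nat_lit 0x101735f) (.node (nat_lit 0x1017349) (.node (nat_lit 0x101731f) (.node (nat_lit 0x1017319) (.node (nat_lit 0x1017317) (.leaf (nat_lit 0x1017315) (nat_lit 3584))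
 (.leaf (nat_lit 0x1017317) (nat_lit 3328))
) (.node (nat_lit 0x101731b) (.leaf (nat_lit 0x1017319) (nat_lit 2306))
 (.node (nat_lit 0x101731d) (.leaf (nat_lit 0x101731b) (nat_lit 2562))
 (.leaf (nat_lit 0x101731d) (nat_lit 2564))
))) (.node (nat_lit 0x1017343) (.node (nat_lit 0x1017341) (.leaf (nat_lit 0x101731f) (nat_lit 2562))
 (.leaf (nat_lit 0x1017341) (nat_lit 1793))
) (.node (nat_lit 0x1017345) (.leaf (nat_lit 0x1017343) (nat_lit 2049))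
 (.node (nat_lit 0x1017347) (.leaf (nat_lit 0x1017345) (nat_lit 2305))
 (.leaf (nat_lit 0x1017347) (nat_lit 2049))
)))) (.node (nat_lit 0x1017353) (.node (nat_lit 0x101734d) (.node (nat_lit 0x101734b) (.leaf (nat_lit 0x1017349) (nat_lit 3075))
 (.leaf (nat_lit 0x101734b) (nat_lit 3073))
) (.node (nat_lit 0x101734f) (.leaf (nat_lit 0x101734d) (nat_lit 3073))
 (.node (nat_lit 0x1017351) (.leaf (nat_lit 0x101734f) (nat_lit 3075))
 (.leaf (nat_lit 0x1017351) (nat_lit 3328))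
))) (.node (nat_lit 0x1017359) (.node (nat_lit 0x1017355) (.leaf (nat_lit 0x1017353) (nat_lit 3331))
 (.node (nat_lit 0x1017357) (.leaf (nat_lit 0x1017355) (nat_lit 3331))
 (.leaf (nat_lit 0x1017357) (nat_lit 3328))
)) (.node (nat_lit 0x101735b) (.leaf (nat_lit 0x1017359) (nat_lit 2304))
 (.node (nat_lit 0x101735d) (.leaf (nat_lit 0x101735b) (nat_lit 2048))
 (.leaf (nat_lit 0x101735d) (nat_lit 2304))
))))) (.node (nat_lit 0x1017893) (.node (nat_lit 0x1017889) (.node (nat_lit 0x1017883) (.node (nat_lit 0x1017881) (.leaf (nat_lit 0x101735f) (nat_lit 2560))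
 (.leaf (nat_lit 0x1017881) (nat_lit 1796))
) (.node (nat_lit 0x1017885) (.leaf (nat_lit 0x1017883) (nat_lit 2052))
 (.node (nat_lit 0x1017887) (.leaf (nat_lit 0x1017885) (nat_lit 2052))
 (.leaf (nat_lit 0x1017887) (nat_lit 2052))
))) (.node (nat_lit 0x101788d) (.node (nat_lit 0x101788b) (.leaf (nat_lit 0x1017889) (nat_lit 3076))
 (.leaf (nat_lit 0x101788b) (nat_lit 2820))
) (.node (nat_lit 0x101788f) (.leaf (nat_lit 0x101788d) (nat_lit 3077))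
 (.node (nat_lit 0x1017891) (.leaf (nat_lit 0x101788f) (nat_lit 2821))
 (.leaf (nat_lit 0x1017891) (nat_lit 3589))
)))) (.node (nat_lit 0x101789d) (.node (nat_lit 0x1017897) (.node (nat_lit 0x1017895) (.leaf (nat_lit 0x1017893) (nat_lit 3588))
 (.leaf (nat_lit 0x1017895) (nat_lit 3588))
) (.node (nat_lit 0x1017899) (.leaf (nat_lit 0x1017897) (nat_lit 3588))
 (.node (nat_lit 0x101789b) (.leaf (nat_lit 0x1017899) (nat_lit 2564))
 (.leaf (nat_lit 0x101789b) (nat_lit 2308))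
))) (.node (nat_lit 0x10178c3) (.node (nat_lit 0x101789f) (.leaf (nat_lit 0x101789d) (nat_lit 2565))
 (.node (nat_lit 0x10178c1) (.leaf (nat_lit 0x101789f) (nat_lit 2309))
 (.leaf (nat_lit 0x10178c1) (nat_lit 1540))
)) (.node (nat_lit 0x10178c5) (.leaf (nat_lit 0x10178c3) (nat_lit 1796))
 (.node (nat_lit 0x10178c7) (.leaf (nat_lit 0x10178c5) (nat_lit 2052))
 (.leaf (nat_lit 0x10178c7) (nat_lit 1796))
))))))) (.node (nat_lit 0x101795d) (.node (nat_lit 0x1017913) (.node (nat_lit 0x10178dd) (.node (nat_lit 0x10178d3) (.node (nat_lit 0x10178cd) (.node (nat_lit 0x10178cb) (.leaf (nat_lit 0x10178c9) (nat_lit 2820))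
 (.leaf (nat_lit 0x10178cb) (nat_lit 2820))
) (.node (nat_lit 0x10178cf) (.leaf (nat_lit 0x10178cd) (nat_lit 2821))
 (.node (nat_lit 0x10178d1) (.leaf (nat_lit 0x10178cf) (nat_lit 2820))
 (.leaf (nat_lit 0x10178d1) (nat_lit 3332))
))) (.node (nat_lit 0x10178d7) (.node (nat_lit 0x10178d5) (.leaf (nat_lit 0x10178d3) (nat_lit 3076))
 (.leaf (nat_lit 0x10178d5) (nat_lit 3076))
) (.node (nat_lit 0x10178d9) (.leaf (nat_lit 0x10178d7) (nat_lit 3332))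
 (.node (nat_lit 0x10178db) (.leaf (nat_lit 0x10178d9) (nat_lit 2308))
 (.leaf (nat_lit 0x10178db) (nat_lit 2564))
)))) (.node (nat_lit 0x1017907) (.node (nat_lit 0x1017901) (.node (nat_lit 0x10178df) (.leaf (nat_lit 0x10178dd) (nat_lit 2564))
 (.leaf (nat_lit 0x10178df) (nat_lit 2308))
) (.node (nat_lit 0x1017903) (.leaf (nat_lit 0x1017901) (nat_lit 2052))
 (.node (nat_lit 0x1017905) (.leaf (nat_lit 0x1017903) (nat_lit 2308))
 (.leaf (nat_lit 0x1017905) (nat_lit 2820))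
))) (.node (nat_lit 0x101790d) (.node (nat_lit 0x1017909) (.leaf (nat_lit 0x1017907) (nat_lit 2564))
 (.node (nat_lit 0x101790b) (.leaf (nat_lit 0x1017909) (nat_lit 2308))
 (.leaf (nat_lit 0x101790b) (nat_lit 2308))
)) (.node (nat_lit 0x101790f) (.leaf (nat_lit 0x101790d) (nat_lit 3076))
 (.node (nat_lit 0x1017911) (.leaf (nat_lit 0x101790f) (nat_lit 2820))
 (.leaf (nat_lit 0x1017911) (nat_lit 3332))
))))) (.node (nat_lit 0x1017947) (.node (nat_lit 0x101791d) (.node (nat_lit 0x1017917) (.node (nat_lit 0x1017915) (.leaf (nat_lit 0x1017913) (nat_lit 3588))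
 (.leaf (nat_lit 0x1017915) (nat_lit 2820))
) (.node (nat_lit 0x1017919) (.leaf (nat_lit 0x1017917) (nat_lit 2564))
 (.node (nat_lit 0x101791b) (.leaf (nat_lit 0x1017919) (nat_lit 3588))
 (.leaf (nat_lit 0x101791b) (nat_lit 3332))
))) (.node (nat_lit 0x1017941) (.node (nat_lit 0x101791f) (.leaf (nat_lit 0x101791d) (nat_lit 3077))
 (.leaf (nat_lit 0x101791f) (nat_lit 2821))
) (.node (nat_lit 0x1017943) (.leaf (nat_lit 0x1017941) (nat_lit 1796))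
 (.node (nat_lit 0x1017945) (.leaf (nat_lit 0x1017943) (nat_lit 2052))
 (.leaf (nat_lit 0x1017945) (nat_lit 2820))
)))) (.node (nat_lit 0x1017951) (.node (nat_lit 0x101794b) (.node (nat_lit 0x1017949) (.leaf (nat_lit 0x1017947) (nat_lit 2564))
 (.leaf (nat_lit 0x1017949) (nat_lit 2308))
) (.node (nat_lit 0x101794d) (.leaf (nat_lit 0x101794b) (nat_lit 2052))
 (.node (nat_lit 0x101794f) (.leaf (nat_lit 0x101794d) (nat_lit 2820))
 (.leaf (nat_lit 0x101794f) (nat_lit 2820))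
))) (.node (nat_lit 0x1017957) (.node (nat_lit 0x1017953) (.leaf (nat_lit 0x1017951) (nat_lit 3588))
 (.node (nat_lit 0x1017955) (.leaf (nat_lit 0x1017953) (nat_lit 3332))
 (.leaf (nat_lit 0x1017955) (nat_lit 2564))
)) (.node (nat_lit 0x1017959) (.leaf (nat_lit 0x1017957) (nat_lit 2820))
 (.node (nat_lit 0x101795b) (.leaf (nat_lit 0x1017959) (nat_lit 3332))
 (.leaf (nat_lit 0x101795b) (nat_lit 3588))
)))))) (.node (nat_lit 0x1017ac7) (.node (nat_lit 0x1017a91) (.node (nat_lit 0x1017a87) (.node (nat_lit 0x1017a81) (.node (nat_lit 0x101795f) (.leaf (nat_lit 0x101795d) (nat_lit 2820))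
 (.leaf (nat_lit 0x101795f) (nat_lit 2564))
) (.node (nat_lit 0x1017a83) (.leaf (nat_lit 0x1017a81) (nat_lit 2052))
 (.node (nat_lit 0x1017a85) (.leaf (nat_lit 0x1017a83) (nat_lit 2308))
 (.leaf (nat_lit 0x1017a85) (nat_lit 3076))
))) (.node (nat_lit 0x1017a8b) (.node (nat_lit 0x1017a89) (.leaf (nat_lit 0x1017a87) (nat_lit 2820))
 (.leaf (nat_lit 0x1017a89) (nat_lit 2564))
) (.node (nat_lit 0x1017a8d) (.leaf (nat_lit 0x1017a8b) (nat_lit 2308))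
 (.node (nat_lit 0x1017a8f) (.leaf (nat_lit 0x1017a8d) (nat_lit 3076))
 (.leaf (nat_lit 0x1017a8f) (nat_lit 3076))
)))) (.node (nat_lit 0x1017a9b) (.node (nat_lit 0x1017a95) (.node (nat_lit 0x1017a93) (.leaf (nat_lit 0x1017a91) (nat_lit 3332))
 (.leaf (nat_lit 0x1017a93) (nat_lit 3076))
) (.node (nat_lit 0x1017a97) (.leaf (nat_lit 0x1017a95) (nat_lit 2308))
 (.node (nat_lit 0x1017a99) (.leaf (nat_lit 0x1017a97) (nat_lit 2564))
 (.leaf (nat_lit 0x1017a99) (nat_lit 3333))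
))) (.node (nat_lit 0x1017ac1) (.node (nat_lit 0x1017a9d) (.leaf (nat_lit 0x1017a9b) (nat_lit 3332))
 (.node (nat_lit 0x1017a9f) (.leaf (nat_lit 0x1017a9d) (nat_lit 2821))
 (.leaf (nat_lit 0x1017a9f) (nat_lit 2565))
)) (.node (nat_lit 0x1017ac3) (.leaf (nat_lit 0x1017ac1) (nat_lit 2052))
 (.node (nat_lit 0x1017ac5) (.leaf (nat_lit 0x1017ac3) (nat_lit 2308))
 (.leaf (nat_lit 0x1017ac5) (nat_lit 3076))
))))) (.node (nat_lit 0x1017adb) (.node (nat_lit 0x1017ad1) (.node (nat_lit 0x1017acb) (.node (nat_lit 0x1017ac9) (.leaf (nat_lit 0x1017ac7) (nat_lit 2820))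
 (.leaf (nat_lit 0x1017ac9) (nat_lit 2564))
) (.node (nat_lit 0x1017acd) (.leaf (nat_lit 0x1017acb) (nat_lit 2564))
 (.node (nat_lit 0x1017acf) (.leaf (nat_lit 0x1017acd) (nat_lit 3332))
 (.leaf (nat_lit 0x1017acf) (nat_lit 3076))
))) (.node (nat_lit 0x1017ad5) (.node (nat_lit 0x1017ad3) (.leaf (nat_lit 0x1017ad1) (nat_lit 3076))
 (.leaf (nat_lit 0x1017ad3) (nat_lit 3332))
) (.node (nat_lit 0x1017ad7) (.leaf (nat_lit 0x1017ad5) (nat_lit 2564))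
 (.node (nat_lit 0x1017ad9) (.leaf (nat_lit 0x1017ad7) (nat_lit 2308))
 (.leaf (nat_lit 0x1017ad9) (nat_lit 3332))
)))) (.node (nat_lit 0x1017b05) (.node (nat_lit 0x1017adf) (.node (nat_lit 0x1017add) (.leaf (nat_lit 0x1017adb) (nat_lit 3332))
 (.leaf (nat_lit 0x1017add) (nat_lit 2820))
) (.node (nat_lit 0x1017b01) (.leaf (nat_lit 0x1017adf) (nat_lit 2820))
 (.node (nat_lit 0x1017b03) (.leaf (nat_lit 0x1017b01) (nat_lit 1796))
 (.leaf (nat_lit 0x1017b03) (nat_lit 2052))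
))) (.node (nat_lit 0x1017b0b) (.node (nat_lit 0x1017b07) (.leaf (nat_lit 0x1017b05) (nat_lit 2308))
 (.node (nat_lit 0x1017b09) (.leaf (nat_lit 0x1017b07) (nat_lit 2052))
 (.leaf (nat_lit 0x1017b09) (nat_lit 3076))
)) (.node (nat_lit 0x1017b0d) (.leaf (nat_lit 0x1017b0b) (nat_lit 3076))
 (.node (nat_lit 0x1017b0f) (.leaf (nat_lit 0x1017b0d) (nat_lit 3073))
 (.leaf (nat_lit 0x1017b0f) (nat_lit 3076))
)))))))) (.node (nat_lit 0x10209d9) (.node (nat_lit 0x1020945) (.node (nat_lit 0x1017b5b) (.node (nat_lit 0x1017b45) (.node (nat_lit 0x1017b1b) (.node (nat_lit 0x1017b15) (.node (nat_lit 0x1017b13) (.leaf (nat_lit 0x1017b11) (nat_lit 3332))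
 (.leaf (nat_lit 0x1017b13) (nat_lit 3332))
) (.node (nat_lit 0x1017b17) (.leaf (nat_lit 0x1017b15) (nat_lit 3332))
 (.node (nat_lit 0x1017b19) (.leaf (nat_lit 0x1017b17) (nat_lit 3332))
 (.leaf (nat_lit 0x1017b19) (nat_lit 2052))
))) (.node (nat_lit 0x1017b1f) (.node (nat_lit 0x1017b1d) (.leaf (nat_lit 0x1017b1b) (nat_lit 2308))
 (.leaf (nat_lit 0x1017b1d) (nat_lit 2564))
) (.node (nat_lit 0x1017b41) (.leaf (nat_lit 0x1017b1f) (nat_lit 2308))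
 (.node (nat_lit 0x1017b43) (.leaf (nat_lit 0x1017b41) (nat_lit 1796))
 (.leaf (nat_lit 0x1017b43) (nat_lit 2052))
)))) (.node (nat_lit 0x1017b4f) (.node (nat_lit 0x1017b49) (.node (nat_lit 0x1017b47) (.leaf (nat_lit 0x1017b45) (nat_lit 2308))
 (.leaf (nat_lit 0x1017b47) (nat_lit 2308))
) (.node (nat_lit 0x1017b4b) (.leaf (nat_lit 0x1017b49) (nat_lit 3332))
 (.node (nat_lit 0x1017b4d) (.leaf (nat_lit 0x1017b4b) (nat_lit 3076))
 (.leaf (nat_lit 0x1017b4d) (nat_lit 3332))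
))) (.node (nat_lit 0x1017b55) (.node (nat_lit 0x1017b51) (.leaf (nat_lit 0x1017b4f) (nat_lit 3076))
 (.node (nat_lit 0x1017b53) (.leaf (nat_lit 0x1017b51) (nat_lit 3332))
 (.leaf (nat_lit 0x1017b53) (nat_lit 3588))
)) (.node (nat_lit 0x1017b57) (.leaf (nat_lit 0x1017b55) (nat_lit 3332))
 (.node (nat_lit 0x1017b59) (.leaf (nat_lit 0x1017b57) (nat_lit 3332))
 (.leaf (nat_lit 0x1017b59) (nat_lit 2308))
))))) (.node (nat_lit 0x102090f) (.node (nat_lit 0x1020905) (.node (nat_lit 0x1017b5f) (.node (nat_lit 0x1017b5d) (.leaf (nat_lit 0x1017b5b) (nat_lit 2052))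
 (.leaf (nat_lit 0x1017b5d) (nat_lit 2564))
) (.node (nat_lit 0x1020901) (.leaf (nat_lit 0x1017b5f) (nat_lit 2308))
 (.node (nat_lit 0x1020903) (.leaf (nat_lit 0x1020901) (nat_lit 1537))
 (.leaf (nat_lit 0x1020903) (nat_lit 1793))
))) (.node (nat_lit 0x1020909) (.node (nat_lit 0x1020907) (.leaf (nat_lit 0x1020905) (nat_lit 2305))
 (.leaf (nat_lit 0x1020907) (nat_lit 2049))
) (.node (nat_lit 0x102090b) (.leaf (nat_lit 0x1020909) (nat_lit 1792))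
 (.node (nat_lit 0x102090d) (.leaf (nat_lit 0x102090b) (nat_lit 1793))
 (.leaf (nat_lit 0x102090d) (nat_lit 2306))
)))) (.node (nat_lit 0x1020919) (.node (nat_lit 0x1020913) (.node (nat_lit 0x1020911) (.leaf (nat_lit 0x102090f) (nat_lit 2050))
 (.leaf (nat_lit 0x1020911) (nat_lit 3585))
) (.node (nat_lit 0x1020915) (.leaf (nat_lit 0x1020913) (nat_lit 3585))
 (.node (nat_lit 0x1020917) (.leaf (nat_lit 0x1020915) (nat_lit 3331))
 (.leaf (nat_lit 0x1020917) (nat_lit 3075))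
))) (.node (nat_lit 0x102091f) (.node (nat_lit 0x102091b) (.leaf (nat_lit 0x1020919) (nat_lit 3333))
 (.node (nat_lit 0x102091d) (.leaf (nat_lit 0x102091b) (nat_lit 3330))
 (.leaf (nat_lit 0x102091d) (nat_lit 3075))
)) (.node (nat_lit 0x1020941) (.leaf (nat_lit 0x102091f) (nat_lit 2819))
 (.node (nat_lit 0x1020943) (.leaf (nat_lit 0x1020941) (nat_lit 1285))
 (.leaf (nat_lit 0x1020943) (nat_lit 1541))
)))))) (.node (nat_lit 0x102098f) (.node (nat_lit 0x1020959) (.node (nat_lit 0x102094f) (.node (nat_lit 0x1020949) (.node (nat_lit 0x1020947) (.leaf (nat_lit 0x1020945) (nat_lit 2053))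
 (.leaf (nat_lit 0x1020947) (nat_lit 1797))
) (.node (nat_lit 0x102094b) (.leaf (nat_lit 0x1020949) (nat_lit 1797))
 (.node (nat_lit 0x102094d) (.leaf (nat_lit 0x102094b) (nat_lit 1541))
 (.leaf (nat_lit 0x102094d) (nat_lit 2053))
))) (.node (nat_lit 0x1020953) (.node (nat_lit 0x1020951) (.leaf (nat_lit 0x102094f) (nat_lit 2053))
 (.leaf (nat_lit 0x1020951) (nat_lit 3333))
) (.node (nat_lit 0x1020955) (.leaf (nat_lit 0x1020953) (nat_lit 3333))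
 (.node (nat_lit 0x1020957) (.leaf (nat_lit 0x1020955) (nat_lit 3077))
 (.leaf (nat_lit 0x1020957) (nat_lit 3077))
)))) (.node (nat_lit 0x1020983) (.node (nat_lit 0x102095d) (.node (nat_lit 0x102095b) (.leaf (nat_lit 0x1020959) (nat_lit 3333))
 (.leaf (nat_lit 0x102095b) (nat_lit 3077))
) (.node (nat_lit 0x102095f) (.leaf (nat_lit 0x102095d) (nat_lit 3077))
 (.node (nat_lit 0x1020981) (.leaf (nat_lit 0x102095f) (nat_lit 2821))
 (.leaf (nat_lit 0x1020981) (nat_lit 1281))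
))) (.node (nat_lit 0x1020989) (.node (nat_lit 0x1020985) (.leaf (nat_lit 0x1020983) (nat_lit 1537))
 (.node (nat_lit 0x1020987) (.leaf (nat_lit 0x1020985) (nat_lit 2305))
 (.leaf (nat_lit 0x1020987) (nat_lit 2049))
)) (.node (nat_lit 0x102098b) (.leaf (nat_lit 0x1020989) (nat_lit 2306))
 (.node (nat_lit 0x102098d) (.leaf (nat_lit 0x102098b) (nat_lit 2050))
 (.leaf (nat_lit 0x102098d) (nat_lit 1536))
))))) (.node (nat_lit 0x10209c3) (.node (nat_lit 0x1020999) (.node (nat_lit 0x1020993) (.node (nat_lit 0x1020991) (.leaf (nat_lit 0x102098f) (nat_lit 1537))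
 (.leaf (nat_lit 0x1020991) (nat_lit 3329))
) (.node (nat_lit 0x1020995) (.leaf (nat_lit 0x1020993) (nat_lit 3328))
 (.node (nat_lit 0x1020997) (.leaf (nat_lit 0x1020995) (nat_lit 3329))
 (.leaf (nat_lit 0x1020997) (nat_lit 3073))
))) (.node (nat_lit 0x102099d) (.node (nat_lit 0x102099b) (.leaf (nat_lit 0x1020999) (nat_lit 3075))
 (.leaf (nat_lit 0x102099b) (nat_lit 2819))
) (.node (nat_lit 0x102099f) (.leaf (nat_lit 0x102099d) (nat_lit 3329))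
 (.node (nat_lit 0x10209c1) (.leaf (nat_lit 0x102099f) (nat_lit 3073))
 (.leaf (nat_lit 0x10209c1) (nat_lit 1029))
)))) (.node (nat_lit 0x10209cd) (.node (nat_lit 0x10209c7) (.node (nat_lit 0x10209c5) (.leaf (nat_lit 0x10209c3) (nat_lit 1285))
 (.leaf (nat_lit 0x10209c5) (nat_lit 2053))
) (.node (nat_lit 0x10209c9) (.leaf (nat_lit 0x10209c7) (nat_lit 1797))
 (.node (nat_lit 0x10209cb) (.leaf (nat_lit 0x10209c9) (nat_lit 2053))
 (.leaf (nat_lit 0x10209cb) (nat_lit 2309))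
))) (.node (nat_lit 0x10209d3) (.node (nat_lit 0x10209cf) (.leaf (nat_lit 0x10209cd) (nat_lit 1541))
 (.node (nat_lit 0x10209d1) (.leaf (nat_lit 0x10209cf) (nat_lit 1285))
 (.leaf (nat_lit 0x10209d1) (nat_lit 3077))
)) (.node (nat_lit 0x10209d5) (.leaf (nat_lit 0x10209d3) (nat_lit 3333))
 (.node (nat_lit 0x10209d7) (.leaf (nat_lit 0x10209d5) (nat_lit 3077))
 (.leaf (nat_lit 0x10209d7) (nat_lit 2821))
))))))) (.node (nat_lit 0x1020b8d) (.node (nat_lit 0x1020b43) (.node (nat_lit 0x1020b0d) (.node (nat_lit 0x1020b03) (.node (nat_lit 0x10209dd) (.node (nat_lit 0x10209db) (.leaf (nat_lit 0x10209d9) (nat_lit 2819))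
 (.leaf (nat_lit 0x10209db) (nat_lit 2821))
) (.node (nat_lit 0x10209df) (.leaf (nat_lit 0x10209dd) (nat_lit 3077))
 (.node (nat_lit 0x1020b01) (.leaf (nat_lit 0x10209df) (nat_lit 2821))
 (.leaf (nat_lit 0x1020b01) (nat_lit 1793))
))) (.node (nat_lit 0x1020b07) (.node (nat_lit 0x1020b05) (.leaf (nat_lit 0x1020b03) (nat_lit 2049))
 (.leaf (nat_lit 0x1020b05) (nat_lit 2561))
) (.node (nat_lit 0x1020b09) (.leaf (nat_lit 0x1020b07) (nat_lit 2305))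
 (.node (nat_lit 0x1020b0b) (.leaf (nat_lit 0x1020b09) (nat_lit 3330))
 (.leaf (nat_lit 0x1020b0b) (nat_lit 3074))
)))) (.node (nat_lit 0x1020b17) (.node (nat_lit 0x1020b11) (.node (nat_lit 0x1020b0f) (.leaf (nat_lit 0x1020b0d) (nat_lit 2819))
 (.leaf (nat_lit 0x1020b0f) (nat_lit 2563))
) (.node (nat_lit 0x1020b13) (.leaf (nat_lit 0x1020b11) (nat_lit 3329))
 (.node (nat_lit 0x1020b15) (.leaf (nat_lit 0x1020b13) (nat_lit 3330))
 (.leaf (nat_lit 0x1020b15) (nat_lit 3075))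
))) (.node (nat_lit 0x1020b1d) (.node (nat_lit 0x1020b19) (.leaf (nat_lit 0x1020b17) (nat_lit 2819))
 (.node (nat_lit 0x1020b1b) (.leaf (nat_lit 0x1020b19) (nat_lit 2048))
 (.leaf (nat_lit 0x1020b1b) (nat_lit 2049))
)) (.node (nat_lit 0x1020b1f) (.leaf (nat_lit 0x1020b1d) (nat_lit 2562))
 (.node (nat_lit 0x1020b41) (.leaf (nat_lit 0x1020b1f) (nat_lit 2306))
 (.leaf (nat_lit 0x1020b41) (nat_lit 1541))
))))) (.node (nat_lit 0x1020b57) (.node (nat_lit 0x1020b4d) (.node (nat_lit 0x1020b47) (.node (nat_lit 0x1020b45) (.leaf (nat_lit 0x1020b43) (nat_lit 1797))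
 (.leaf (nat_lit 0x1020b45) (nat_lit 2309))
) (.node (nat_lit 0x1020b49) (.leaf (nat_lit 0x1020b47) (nat_lit 2053))
 (.node (nat_lit 0x1020b4b) (.leaf (nat_lit 0x1020b49) (nat_lit 3077))
 (.leaf (nat_lit 0x1020b4b) (nat_lit 2821))
))) (.node (nat_lit 0x1020b51) (.node (nat_lit 0x1020b4f) (.leaf (nat_lit 0x1020b4d) (nat_lit 2821))
 (.leaf (nat_lit 0x1020b4f) (nat_lit 2565))
) (.node (nat_lit 0x1020b53) (.leaf (nat_lit 0x1020b51) (nat_lit 3077))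
 (.node (nat_lit 0x1020b55) (.leaf (nat_lit 0x1020b53) (nat_lit 3333))
 (.leaf (nat_lit 0x1020b55) (nat_lit 2821))
)))) (.node (nat_lit 0x1020b81) (.node (nat_lit 0x1020b5b) (.node (nat_lit 0x1020b59) (.leaf (nat_lit 0x1020b57) (nat_lit 2821))
 (.leaf (nat_lit 0x1020b59) (nat_lit 2053))
) (.node (nat_lit 0x1020b5d) (.leaf (nat_lit 0x1020b5b) (nat_lit 1797))
 (.node (nat_lit 0x1020b5f) (.leaf (nat_lit 0x1020b5d) (nat_lit 2309))
 (.leaf (nat_lit 0x1020b5f) (nat_lit 2309))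
))) (.node (nat_lit 0x1020b87) (.node (nat_lit 0x1020b83) (.leaf (nat_lit 0x1020b81) (nat_lit 1537))
 (.node (nat_lit 0x1020b85) (.leaf (nat_lit 0x1020b83) (nat_lit 1793))
 (.leaf (nat_lit 0x1020b85) (nat_lit 2561))
)) (.node (nat_lit 0x1020b89) (.leaf (nat_lit 0x1020b87) (nat_lit 2305))
 (.node (nat_lit 0x1020b8b) (.leaf (nat_lit 0x1020b89) (nat_lit 3075))
 (.leaf (nat_lit 0x1020b8b) (nat_lit 2819))
)))))) (.node (nat_lit 0x1020bd7) (.node (nat_lit 0x1020bc1) (.node (nat_lit 0x1020b97) (.node (nat_lit 0x1020b91) (.node (nat_lit 0x1020b8f) (.leaf (nat_lit 0x1020b8d) (nat_lit 3073))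
 (.leaf (nat_lit 0x1020b8f) (nat_lit 2817))
) (.node (nat_lit 0x1020b93) (.leaf (nat_lit 0x1020b91) (nat_lit 3073))
 (.node (nat_lit 0x1020b95) (.leaf (nat_lit 0x1020b93) (nat_lit 3072))
 (.leaf (nat_lit 0x1020b95) (nat_lit 3331))
))) (.node (nat_lit 0x1020b9b) (.node (nat_lit 0x1020b99) (.leaf (nat_lit 0x1020b97) (nat_lit 3075))
 (.leaf (nat_lit 0x1020b99) (nat_lit 2562))
) (.node (nat_lit 0x1020b9d) (.leaf (nat_lit 0x1020b9b) (nat_lit 2306))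
 (.node (nat_lit 0x1020b9f) (.leaf (nat_lit 0x1020b9d) (nat_lit 1792))
 (.leaf (nat_lit 0x1020b9f) (nat_lit 1793))
)))) (.node (nat_lit 0x1020bcb) (.node (nat_lit 0x1020bc5) (.node (nat_lit 0x1020bc3) (.leaf (nat_lit 0x1020bc1) (nat_lit 1285))
 (.leaf (nat_lit 0x1020bc3) (nat_lit 1541))
) (.node (nat_lit 0x1020bc7) (.leaf (nat_lit 0x1020bc5) (nat_lit 2309))
 (.node (nat_lit 0x1020bc9) (.leaf (nat_lit 0x1020bc7) (nat_lit 2053))
 (.leaf (nat_lit 0x1020bc9) (nat_lit 3077))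
))) (.node (nat_lit 0x1020bd1) (.node (nat_lit 0x1020bcd) (.leaf (nat_lit 0x1020bcb) (nat_lit 2821))
 (.node (nat_lit 0x1020bcf) (.leaf (nat_lit 0x1020bcd) (nat_lit 2821))
 (.leaf (nat_lit 0x1020bcf) (nat_lit 2565))
)) (.node (nat_lit 0x1020bd3) (.leaf (nat_lit 0x1020bd1) (nat_lit 2821))
 (.node (nat_lit 0x1020bd5) (.leaf (nat_lit 0x1020bd3) (nat_lit 3077))
 (.leaf (nat_lit 0x1020bd5) (nat_lit 3077))
))))) (.node (nat_lit 0x102190b) (.node (nat_lit 0x1021901) (.node (nat_lit 0x1020bdb) (.node (nat_lit 0x1020bd9) (.leaf (nat_lit 0x1020bd7) (nat_lit 3077))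
 (.leaf (nat_lit 0x1020bd9) (nat_lit 2309))
) (.node (nat_lit 0x1020bdd) (.leaf (nat_lit 0x1020bdb) (nat_lit 2565))
 (.node (nat_lit 0x1020bdf) (.leaf (nat_lit 0x1020bdd) (nat_lit 1797))
 (.leaf (nat_lit 0x1020bdf) (nat_lit 1541))
))) (.node (nat_lit 0x1021905) (.node (nat_lit 0x1021903) (.leaf (nat_lit 0x1021901) (nat_lit 1537))
 (.leaf (nat_lit 0x1021903) (nat_lit 1793))
) (.node (nat_lit 0x1021907) (.leaf (nat_lit 0x1021905) (nat_lit 2305))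
 (.node (nat_lit 0x1021909) (.leaf (nat_lit 0x1021907) (nat_lit 2049))
 (.leaf (nat_lit 0x1021909) (nat_lit 1792))
)))) (.node (nat_lit 0x1021915) (.node (nat_lit 0x102190f) (.node (nat_lit 0x102190d) (.leaf (nat_lit 0x102190b) (nat_lit 2048))
 (.leaf (nat_lit 0x102190d) (nat_lit 2049))
) (.node (nat_lit 0x1021911) (.leaf (nat_lit 0x102190f) (nat_lit 1793))
 (.node (nat_lit 0x1021913) (.leaf (nat_lit 0x1021911) (nat_lit 3587))
 (.leaf (nat_lit 0x1021913) (nat_lit 3331))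
))) (.node (nat_lit 0x102191b) (.node (nat_lit 0x1021917) (.leaf (nat_lit 0x1021915) (nat_lit 3585))
 (.node (nat_lit 0x1021919) (.leaf (nat_lit 0x1021917) (nat_lit 3329))
 (.leaf (nat_lit 0x1021919) (nat_lit 3331))
)) (.node (nat_lit 0x102191d) (.leaf (nat_lit 0x102191b) (nat_lit 3075))
 (.node (nat_lit 0x102191f) (.leaf (nat_lit 0x102191d) (nat_lit 3330))
 (.leaf (nat_lit 0x102191f) (nat_lit 3074))
))))))))) (.node (nat_lit 0x10221d1) (.node (nat_lit 0x1021b89) (.node (nat_lit 0x10219d5) (.node (nat_lit 0x102198b) (.node (nat_lit 0x1021955) (.node (nat_lit 0x102194b) (.node (nat_lit 0x1021945) (.node (nat_lit 0x1021943) (.leaf (nat_lit 0x1021941) (nat_lit 1285))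
 (.leaf (nat_lit 0x1021943) (nat_lit 1541))
) (.node (nat_lit 0x1021947) (.leaf (nat_lit 0x1021945) (nat_lit 1797))
 (.node (nat_lit 0x1021949) (.leaf (nat_lit 0x1021947) (nat_lit 1541))
 (.leaf (nat_lit 0x1021949) (nat_lit 1797))
))) (.node (nat_lit 0x102194f) (.node (nat_lit 0x102194d) (.leaf (nat_lit 0x102194b) (nat_lit 1541))
 (.leaf (nat_lit 0x102194d) (nat_lit 1797))
) (.node (nat_lit 0x1021951) (.leaf (nat_lit 0x102194f) (nat_lit 2053))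
 (.node (nat_lit 0x1021953) (.leaf (nat_lit 0x1021951) (nat_lit 3333))
 (.leaf (nat_lit 0x1021953) (nat_lit 3077))
)))) (.node (nat_lit 0x102195f) (.node (nat_lit 0x1021959) (.node (nat_lit 0x1021957) (.leaf (nat_lit 0x1021955) (nat_lit 3333))
 (.leaf (nat_lit 0x1021957) (nat_lit 3333))
) (.node (nat_lit 0x102195b) (.leaf (nat_lit 0x1021959) (nat_lit 3075))
 (.node (nat_lit 0x102195d) (.leaf (nat_lit 0x102195b) (nat_lit 3077))
 (.leaf (nat_lit 0x102195d) (nat_lit 3333))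
))) (.node (nat_lit 0x1021985) (.node (nat_lit 0x1021981) (.leaf (nat_lit 0x102195f) (nat_lit 3077))
 (.node (nat_lit 0x1021983) (.leaf (nat_lit 0x1021981) (nat_lit 1537))
 (.leaf (nat_lit 0x1021983) (nat_lit 1793))
)) (.node (nat_lit 0x1021987) (.leaf (nat_lit 0x1021985) (nat_lit 2049))
 (.node (nat_lit 0x1021989) (.leaf (nat_lit 0x1021987) (nat_lit 1793))
 (.leaf (nat_lit 0x1021989) (nat_lit 2049))
))))) (.node (nat_lit 0x102199f) (.node (nat_lit 0x1021995) (.node (nat_lit 0x102198f) (.node (nat_lit 0x102198d) (.leaf (nat_lit 0x102198b) (nat_lit 1793))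
 (.leaf (nat_lit 0x102198d) (nat_lit 1792))
) (.node (nat_lit 0x1021991) (.leaf (nat_lit 0x102198f) (nat_lit 1794))
 (.node (nat_lit 0x1021993) (.leaf (nat_lit 0x1021991) (nat_lit 3585))
 (.leaf (nat_lit 0x1021993) (nat_lit 3329))
))) (.node (nat_lit 0x1021999) (.node (nat_lit 0x1021997) (.leaf (nat_lit 0x1021995) (nat_lit 3586))
 (.leaf (nat_lit 0x1021997) (nat_lit 3330))
) (.node (nat_lit 0x102199b) (.leaf (nat_lit 0x1021999) (nat_lit 3330))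
 (.node (nat_lit 0x102199d) (.leaf (nat_lit 0x102199b) (nat_lit 3074))
 (.leaf (nat_lit 0x102199d) (nat_lit 3331))
)))) (.node (nat_lit 0x10219c9) (.node (nat_lit 0x10219c3) (.node (nat_lit 0x10219c1) (.leaf (nat_lit 0x102199f) (nat_lit 3075))
 (.leaf (nat_lit 0x10219c1) (nat_lit 1285))
) (.node (nat_lit 0x10219c5) (.leaf (nat_lit 0x10219c3) (nat_lit 1541))
 (.node (nat_lit 0x10219c7) (.leaf (nat_lit 0x10219c5) (nat_lit 2053))
 (.leaf (nat_lit 0x10219c7) (nat_lit 1797))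
))) (.node (nat_lit 0x10219cf) (.node (nat_lit 0x10219cb) (.leaf (nat_lit 0x10219c9) (nat_lit 2053))
 (.node (nat_lit 0x10219cd) (.leaf (nat_lit 0x10219cb) (nat_lit 2309))
 (.leaf (nat_lit 0x10219cd) (nat_lit 1797))
)) (.node (nat_lit 0x10219d1) (.leaf (nat_lit 0x10219cf) (nat_lit 1541))
 (.node (nat_lit 0x10219d3) (.leaf (nat_lit 0x10219d1) (nat_lit 3333))
 (.leaf (nat_lit 0x10219d3) (nat_lit 3077))
)))))) (.node (nat_lit 0x1021b1f) (.node (nat_lit 0x1021b09) (.node (nat_lit 0x10219df) (.node (nat_lit 0x10219d9) (.node (nat_lit 0x10219d7) (.leaf (nat_lit 0x10219d5) (nat_lit 3333))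
 (.leaf (nat_lit 0x10219d7) (nat_lit 3077))
) (.node (nat_lit 0x10219db) (.leaf (nat_lit 0x10219d9) (nat_lit 3074))
 (.node (nat_lit 0x10219dd) (.leaf (nat_lit 0x10219db) (nat_lit 3077))
 (.leaf (nat_lit 0x10219dd) (nat_lit 3075))
))) (.node (nat_lit 0x1021b03) (.node (nat_lit 0x1021b01) (.leaf (nat_lit 0x10219df) (nat_lit 3077))
 (.leaf (nat_lit 0x1021b01) (nat_lit 1793))
) (.node (nat_lit 0x1021b05) (.leaf (nat_lit 0x1021b03) (nat_lit 2049))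
 (.node (nat_lit 0x1021b07) (.leaf (nat_lit 0x1021b05) (nat_lit 2561))
 (.leaf (nat_lit 0x1021b07) (nat_lit 2305))
)))) (.node (nat_lit 0x1021b13) (.node (nat_lit 0x1021b0d) (.node (nat_lit 0x1021b0b) (.leaf (nat_lit 0x1021b09) (nat_lit 3075))
 (.leaf (nat_lit 0x1021b0b) (nat_lit 2819))
) (.node (nat_lit 0x1021b0f) (.leaf (nat_lit 0x1021b0d) (nat_lit 3074))
 (.node (nat_lit 0x1021b11) (.leaf (nat_lit 0x1021b0f) (nat_lit 2818))
 (.leaf (nat_lit 0x1021b11) (nat_lit 3331))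
))) (.node (nat_lit 0x1021b19) (.node (nat_lit 0x1021b15) (.leaf (nat_lit 0x1021b13) (nat_lit 3075))
 (.node (nat_lit 0x1021b17) (.leaf (nat_lit 0x1021b15) (nat_lit 3330))
 (.leaf (nat_lit 0x1021b17) (nat_lit 3074))
)) (.node (nat_lit 0x1021b1b) (.leaf (nat_lit 0x1021b19) (nat_lit 2048))
 (.node (nat_lit 0x1021b1d) (.leaf (nat_lit 0x1021b1b) (nat_lit 2304))
 (.leaf (nat_lit 0x1021b1d) (nat_lit 2305))
))))) (.node (nat_lit 0x1021b53) (.node (nat_lit 0x1021b49) (.node (nat_lit 0x1021b43) (.node (nat_lit 0x1021b41) (.leaf (nat_lit 0x1021b1f) (nat_lit 2049))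
 (.leaf (nat_lit 0x1021b41) (nat_lit 1541))
) (.node (nat_lit 0x1021b45) (.leaf (nat_lit 0x1021b43) (nat_lit 1797))
 (.node (nat_lit 0x1021b47) (.leaf (nat_lit 0x1021b45) (nat_lit 2053))
 (.leaf (nat_lit 0x1021b47) (nat_lit 1797))
))) (.node (nat_lit 0x1021b4d) (.node (nat_lit 0x1021b4b) (.leaf (nat_lit 0x1021b49) (nat_lit 3077))
 (.leaf (nat_lit 0x1021b4b) (nat_lit 2821))
) (.node (nat_lit 0x1021b4f) (.leaf (nat_lit 0x1021b4d) (nat_lit 3077))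
 (.node (nat_lit 0x1021b51) (.leaf (nat_lit 0x1021b4f) (nat_lit 2821))
 (.leaf (nat_lit 0x1021b51) (nat_lit 3077))
)))) (.node (nat_lit 0x1021b5d) (.node (nat_lit 0x1021b57) (.node (nat_lit 0x1021b55) (.leaf (nat_lit 0x1021b53) (nat_lit 3333))
 (.leaf (nat_lit 0x1021b55) (nat_lit 3077))
) (.node (nat_lit 0x1021b59) (.leaf (nat_lit 0x1021b57) (nat_lit 3077))
 (.node (nat_lit 0x1021b5b) (.leaf (nat_lit 0x1021b59) (nat_lit 2053))
 (.leaf (nat_lit 0x1021b5b) (nat_lit 1797))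
))) (.node (nat_lit 0x1021b83) (.node (nat_lit 0x1021b5f) (.leaf (nat_lit 0x1021b5d) (nat_lit 2053))
 (.node (nat_lit 0x1021b81) (.leaf (nat_lit 0x1021b5f) (nat_lit 2309))
 (.leaf (nat_lit 0x1021b81) (nat_lit 1793))
)) (.node (nat_lit 0x1021b85) (.leaf (nat_lit 0x1021b83) (nat_lit 2049))
 (.node (nat_lit 0x1021b87) (.leaf (nat_lit 0x1021b85) (nat_lit 2305))
 (.leaf (nat_lit 0x1021b87) (nat_lit 2049))
))))))) (.node (nat_lit 0x102205d) (.node (nat_lit 0x1021bd3) (.node (nat_lit 0x1021b9d) (.node (nat_lit 0x1021b93) (.node (nat_lit 0x1021b8d) (.node (nat_lit 0x1021b8b) (.leaf (nat_lit 0x1021b89) (nat_lit 3329))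
 (.leaf (nat_lit 0x1021b8b) (nat_lit 3073))
) (.node (nat_lit 0x1021b8f) (.leaf (nat_lit 0x1021b8d) (nat_lit 3075))
 (.node (nat_lit 0x1021b91) (.leaf (nat_lit 0x1021b8f) (nat_lit 2819))
 (.leaf (nat_lit 0x1021b91) (nat_lit 3331))
))) (.node (nat_lit 0x1021b97) (.node (nat_lit 0x1021b95) (.leaf (nat_lit 0x1021b93) (nat_lit 3075))
 (.leaf (nat_lit 0x1021b95) (nat_lit 3329))
) (.node (nat_lit 0x1021b99) (.leaf (nat_lit 0x1021b97) (nat_lit 3328))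
 (.node (nat_lit 0x1021b9b) (.leaf (nat_lit 0x1021b99) (nat_lit 2305))
 (.leaf (nat_lit 0x1021b9b) (nat_lit 2049))
)))) (.node (nat_lit 0x1021bc7) (.node (nat_lit 0x1021bc1) (.node (nat_lit 0x1021b9f) (.leaf (nat_lit 0x1021b9d) (nat_lit 2048))
 (.leaf (nat_lit 0x1021b9f) (nat_lit 2050))
) (.node (nat_lit 0x1021bc3) (.leaf (nat_lit 0x1021bc1) (nat_lit 1541))
 (.node (nat_lit 0x1021bc5) (.leaf (nat_lit 0x1021bc3) (nat_lit 1797))
 (.leaf (nat_lit 0x1021bc5) (nat_lit 2309))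
))) (.node (nat_lit 0x1021bcd) (.node (nat_lit 0x1021bc9) (.leaf (nat_lit 0x1021bc7) (nat_lit 2053))
 (.node (nat_lit 0x1021bcb) (.leaf (nat_lit 0x1021bc9) (nat_lit 3077))
 (.leaf (nat_lit 0x1021bcb) (nat_lit 2821))
)) (.node (nat_lit 0x1021bcf) (.leaf (nat_lit 0x1021bcd) (nat_lit 3077))
 (.node (nat_lit 0x1021bd1) (.leaf (nat_lit 0x1021bcf) (nat_lit 2821))
 (.leaf (nat_lit 0x1021bd1) (nat_lit 3077))
))))) (.node (nat_lit 0x1022047) (.node (nat_lit 0x1021bdd) (.node (nat_lit 0x1021bd7) (.node (nat_lit 0x1021bd5) (.leaf (nat_lit 0x1021bd3) (nat_lit 3077))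
 (.leaf (nat_lit 0x1021bd5) (nat_lit 3077))
) (.node (nat_lit 0x1021bd9) (.leaf (nat_lit 0x1021bd7) (nat_lit 3333))
 (.node (nat_lit 0x1021bdb) (.leaf (nat_lit 0x1021bd9) (nat_lit 2309))
 (.leaf (nat_lit 0x1021bdb) (nat_lit 2565))
))) (.node (nat_lit 0x1022041) (.node (nat_lit 0x1021bdf) (.leaf (nat_lit 0x1021bdd) (nat_lit 2053))
 (.leaf (nat_lit 0x1021bdf) (nat_lit 1797))
) (.node (nat_lit 0x1022043) (.leaf (nat_lit 0x1022041) (nat_lit 770))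
 (.node (nat_lit 0x1022045) (.leaf (nat_lit 0x1022043) (nat_lit 1026))
 (.leaf (nat_lit 0x1022045) (nat_lit 1794))
)))) (.node (nat_lit 0x1022051) (.node (nat_lit 0x102204b) (.node (nat_lit 0x1022049) (.leaf (nat_lit 0x1022047) (nat_lit 1538))
 (.leaf (nat_lit 0x1022049) (nat_lit 1793))
) (.node (nat_lit 0x102204d) (.leaf (nat_lit 0x102204b) (nat_lit 1537))
 (.node (nat_lit 0x102204f) (.leaf (nat_lit 0x102204d) (nat_lit 1794))
 (.leaf (nat_lit 0x102204f) (nat_lit 1538))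
))) (.node (nat_lit 0x1022057) (.node (nat_lit 0x1022053) (.leaf (nat_lit 0x1022051) (nat_lit 3330))
 (.node (nat_lit 0x1022055) (.leaf (nat_lit 0x1022053) (nat_lit 3329))
 (.leaf (nat_lit 0x1022055) (nat_lit 2818))
)) (.node (nat_lit 0x1022059) (.leaf (nat_lit 0x1022057) (nat_lit 2562))
 (.node (nat_lit 0x102205b) (.leaf (nat_lit 0x1022059) (nat_lit 2818))
 (.leaf (nat_lit 0x102205b) (nat_lit 2562))
)))))) (.node (nat_lit 0x1022147) (.node (nat_lit 0x10220d1) (.node (nat_lit 0x10220c7) (.node (nat_lit 0x10220c1) (.node (nat_lit 0x102205f) (.leaf (nat_lit 0x102205d) (nat_lit 2563))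
 (.leaf (nat_lit 0x102205f) (nat_lit 2307))
) (.node (nat_lit 0x10220c3) (.leaf (nat_lit 0x10220c1) (nat_lit 1026))
 (.node (nat_lit 0x10220c5) (.leaf (nat_lit 0x10220c3) (nat_lit 1282))
 (.leaf (nat_lit 0x10220c5) (nat_lit 1538))
))) (.node (nat_lit 0x10220cb) (.node (nat_lit 0x10220c9) (.leaf (nat_lit 0x10220c7) (nat_lit 1282))
 (.leaf (nat_lit 0x10220c9) (nat_lit 1792))
) (.node (nat_lit 0x10220cd) (.leaf (nat_lit 0x10220cb) (nat_lit 1794))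
 (.node (nat_lit 0x10220cf) (.leaf (nat_lit 0x10220cd) (nat_lit 1793))
 (.leaf (nat_lit 0x10220cf) (nat_lit 1537))
)))) (.node (nat_lit 0x10220db) (.node (nat_lit 0x10220d5) (.node (nat_lit 0x10220d3) (.leaf (nat_lit 0x10220d1) (nat_lit 3074))
 (.leaf (nat_lit 0x10220d3) (nat_lit 2818))
) (.node (nat_lit 0x10220d7) (.leaf (nat_lit 0x10220d5) (nat_lit 3074))
 (.node (nat_lit 0x10220d9) (.leaf (nat_lit 0x10220d7) (nat_lit 3073))
 (.leaf (nat_lit 0x10220d9) (nat_lit 2819))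
))) (.node (nat_lit 0x1022141) (.node (nat_lit 0x10220dd) (.leaf (nat_lit 0x10220db) (nat_lit 2563))
 (.node (nat_lit 0x10220df) (.leaf (nat_lit 0x10220dd) (nat_lit 2819))
 (.leaf (nat_lit 0x10220df) (nat_lit 2818))
)) (.node (nat_lit 0x1022143) (.leaf (nat_lit 0x1022141) (nat_lit 1025))
 (.node (nat_lit 0x1022145) (.leaf (nat_lit 0x1022143) (nat_lit 1281))
 (.leaf (nat_lit 0x1022145) (nat_lit 1794))
))))) (.node (nat_lit 0x102215b) (.node (nat_lit 0x1022151) (.node (nat_lit 0x102214b) (.node (nat_lit 0x1022149) (.leaf (nat_lit 0x1022147) (nat_lit 1538))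
 (.leaf (nat_lit 0x1022149) (nat_lit 1536))
) (.node (nat_lit 0x102214d) (.leaf (nat_lit 0x102214b) (nat_lit 1280))
 (.node (nat_lit 0x102214f) (.leaf (nat_lit 0x102214d) (nat_lit 1794))
 (.leaf (nat_lit 0x102214f) (nat_lit 1793))
))) (.node (nat_lit 0x1022155) (.node (nat_lit 0x1022153) (.leaf (nat_lit 0x1022151) (nat_lit 3072))
 (.leaf (nat_lit 0x1022153) (nat_lit 3074))
) (.node (nat_lit 0x1022157) (.leaf (nat_lit 0x1022155) (nat_lit 2819))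
 (.node (nat_lit 0x1022159) (.leaf (nat_lit 0x1022157) (nat_lit 2817))
 (.leaf (nat_lit 0x1022159) (nat_lit 3073))
)))) (.node (nat_lit 0x10221c5) (.node (nat_lit 0x102215f) (.node (nat_lit 0x102215d) (.leaf (nat_lit 0x102215b) (nat_lit 2817))
 (.leaf (nat_lit 0x102215d) (nat_lit 2819))
) (.node (nat_lit 0x10221c1) (.leaf (nat_lit 0x102215f) (nat_lit 2563))
 (.node (nat_lit 0x10221c3) (.leaf (nat_lit 0x10221c1) (nat_lit 1026))
 (.leaf (nat_lit 0x10221c3) (nat_lit 1282))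
))) (.node (nat_lit 0x10221cb) (.node (nat_lit 0x10221c7) (.leaf (nat_lit 0x10221c5) (nat_lit 1793))
 (.node (nat_lit 0x10221c9) (.leaf (nat_lit 0x10221c7) (nat_lit 1537))
 (.leaf (nat_lit 0x10221c9) (nat_lit 1792))
)) (.node (nat_lit 0x10221cd) (.leaf (nat_lit 0x10221cb) (nat_lit 2048))
 (.node (nat_lit 0x10221cf) (.leaf (nat_lit 0x10221cd) (nat_lit 1538))
 (.leaf (nat_lit 0x10221cf) (nat_lit 1282))
)))))))) (.node (nat_lit 0x1022859) (.node (nat_lit 0x1022345) (.node (nat_lit 0x102225b) (.node (nat_lit 0x1022245) (.node (nat_lit 0x10221db) (.node (nat_lit 0x10221d5) (.node (nat_lit 0x10221d3) (.leaf (nat_lit 0x10221d1) (nat_lit 3075))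
 (.leaf (nat_lit 0x10221d3) (nat_lit 2819))
) (.node (nat_lit 0x10221d7) (.leaf (nat_lit 0x10221d5) (nat_lit 3074))
 (.node (nat_lit 0x10221d9) (.leaf (nat_lit 0x10221d7) (nat_lit 2818))
 (.leaf (nat_lit 0x10221d9) (nat_lit 3075))
))) (.node (nat_lit 0x10221df) (.node (nat_lit 0x10221dd) (.leaf (nat_lit 0x10221db) (nat_lit 2819))
 (.leaf (nat_lit 0x10221dd) (nat_lit 3074))
) (.node (nat_lit 0x1022241) (.leaf (nat_lit 0x10221df) (nat_lit 2818))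
 (.node (nat_lit 0x1022243) (.leaf (nat_lit 0x1022241) (nat_lit 2306))
 (.leaf (nat_lit 0x1022243) (nat_lit 2562))
)))) (.node (nat_lit 0x102224f) (.node (nat_lit 0x1022249) (.node (nat_lit 0x1022247) (.leaf (nat_lit 0x1022245) (nat_lit 2818))
 (.leaf (nat_lit 0x1022247) (nat_lit 2562))
) (.node (nat_lit 0x102224b) (.leaf (nat_lit 0x1022249) (nat_lit 2819))
 (.node (nat_lit 0x102224d) (.leaf (nat_lit 0x102224b) (nat_lit 2818))
 (.leaf (nat_lit 0x102224d) (nat_lit 2819))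
))) (.node (nat_lit 0x1022255) (.node (nat_lit 0x1022251) (.leaf (nat_lit 0x102224f) (nat_lit 2563))
 (.node (nat_lit 0x1022253) (.leaf (nat_lit 0x1022251) (nat_lit 2818))
 (.leaf (nat_lit 0x1022253) (nat_lit 2562))
)) (.node (nat_lit 0x1022257) (.leaf (nat_lit 0x1022255) (nat_lit 2818))
 (.node (nat_lit 0x1022259) (.leaf (nat_lit 0x1022257) (nat_lit 2817))
 (.leaf (nat_lit 0x1022259) (nat_lit 2819))
))))) (.node (nat_lit 0x10222cf) (.node (nat_lit 0x10222c5) (.node (nat_lit 0x102225f) (.node (nat_lit 0x102225d) (.leaf (nat_lit 0x102225b) (nat_lit 2563))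
 (.leaf (nat_lit 0x102225d) (nat_lit 2818))
) (.node (nat_lit 0x10222c1) (.leaf (nat_lit 0x102225f) (nat_lit 2562))
 (.node (nat_lit 0x10222c3) (.leaf (nat_lit 0x10222c1) (nat_lit 2050))
 (.leaf (nat_lit 0x10222c3) (nat_lit 2306))
))) (.node (nat_lit 0x10222c9) (.node (nat_lit 0x10222c7) (.leaf (nat_lit 0x10222c5) (nat_lit 3074))
 (.leaf (nat_lit 0x10222c7) (nat_lit 2818))
) (.node (nat_lit 0x10222cb) (.leaf (nat_lit 0x10222c9) (nat_lit 2563))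
 (.node (nat_lit 0x10222cd) (.leaf (nat_lit 0x10222cb) (nat_lit 2563))
 (.leaf (nat_lit 0x10222cd) (nat_lit 2818))
)))) (.node (nat_lit 0x10222d9) (.node (nat_lit 0x10222d3) (.node (nat_lit 0x10222d1) (.leaf (nat_lit 0x10222cf) (nat_lit 2562))
 (.leaf (nat_lit 0x10222d1) (nat_lit 3074))
) (.node (nat_lit 0x10222d5) (.leaf (nat_lit 0x10222d3) (nat_lit 3073))
 (.node (nat_lit 0x10222d7) (.leaf (nat_lit 0x10222d5) (nat_lit 2562))
 (.leaf (nat_lit 0x10222d7) (nat_lit 2306))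
))) (.node (nat_lit 0x10222df) (.node (nat_lit 0x10222db) (.leaf (nat_lit 0x10222d9) (nat_lit 2818))
 (.node (nat_lit 0x10222dd) (.leaf (nat_lit 0x10222db) (nat_lit 2562))
 (.leaf (nat_lit 0x10222dd) (nat_lit 2563))
)) (.node (nat_lit 0x1022341) (.leaf (nat_lit 0x10222df) (nat_lit 2307))
 (.node (nat_lit 0x1022343) (.leaf (nat_lit 0x1022341) (nat_lit 2051))
 (.leaf (nat_lit 0x1022343) (nat_lit 2307))
)))))) (.node (nat_lit 0x10223cf) (.node (nat_lit 0x1022359) (.node (nat_lit 0x102234f) (.node (nat_lit 0x1022349) (.node (nat_lit 0x1022347) (.leaf (nat_lit 0x1022345) (nat_lit 2563))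
 (.leaf (nat_lit 0x1022347) (nat_lit 2307))
) (.node (nat_lit 0x102234b) (.leaf (nat_lit 0x1022349) (nat_lit 3076))
 (.node (nat_lit 0x102234d) (.leaf (nat_lit 0x102234b) (nat_lit 3075))
 (.leaf (nat_lit 0x102234d) (nat_lit 2818))
))) (.node (nat_lit 0x1022353) (.node (nat_lit 0x1022351) (.leaf (nat_lit 0x102234f) (nat_lit 2562))
 (.leaf (nat_lit 0x1022351) (nat_lit 3073))
) (.node (nat_lit 0x1022355) (.leaf (nat_lit 0x1022353) (nat_lit 2817))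
 (.node (nat_lit 0x1022357) (.leaf (nat_lit 0x1022355) (nat_lit 2818))
 (.leaf (nat_lit 0x1022357) (nat_lit 2562))
)))) (.node (nat_lit 0x10223c3) (.node (nat_lit 0x102235d) (.node (nat_lit 0x102235b) (.leaf (nat_lit 0x1022359) (nat_lit 2563))
 (.leaf (nat_lit 0x102235b) (nat_lit 2307))
) (.node (nat_lit 0x102235f) (.leaf (nat_lit 0x102235d) (nat_lit 2563))
 (.node (nat_lit 0x10223c1) (.leaf (nat_lit 0x102235f) (nat_lit 2562))
 (.leaf (nat_lit 0x10223c1) (nat_lit 1795))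
))) (.node (nat_lit 0x10223c9) (.node (nat_lit 0x10223c5) (.leaf (nat_lit 0x10223c3) (nat_lit 2051))
 (.node (nat_lit 0x10223c7) (.leaf (nat_lit 0x10223c5) (nat_lit 2819))
 (.leaf (nat_lit 0x10223c7) (nat_lit 2563))
)) (.node (nat_lit 0x10223cb) (.leaf (nat_lit 0x10223c9) (nat_lit 2820))
 (.node (nat_lit 0x10223cd) (.leaf (nat_lit 0x10223cb) (nat_lit 2564))
 (.leaf (nat_lit 0x10223cd) (nat_lit 3075))
))))) (.node (nat_lit 0x1022843) (.node (nat_lit 0x10223d9) (.node (nat_lit 0x10223d3) (.node (nat_lit 0x10223d1) (.leaf (nat_lit 0x10223cf) (nat_lit 2819))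
 (.leaf (nat_lit 0x10223d1) (nat_lit 3074))
) (.node (nat_lit 0x10223d5) (.leaf (nat_lit 0x10223d3) (nat_lit 2818))
 (.node (nat_lit 0x10223d7) (.leaf (nat_lit 0x10223d5) (nat_lit 2817))
 (.leaf (nat_lit 0x10223d7) (nat_lit 2561))
))) (.node (nat_lit 0x10223dd) (.node (nat_lit 0x10223db) (.leaf (nat_lit 0x10223d9) (nat_lit 2820))
 (.leaf (nat_lit 0x10223db) (nat_lit 2564))
) (.node (nat_lit 0x10223df) (.leaf (nat_lit 0x10223dd) (nat_lit 2307))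
 (.node (nat_lit 0x1022841) (.leaf (nat_lit 0x10223df) (nat_lit 2051))
 (.leaf (nat_lit 0x1022841) (nat_lit 1029))
)))) (.node (nat_lit 0x102284d) (.node (nat_lit 0x1022847) (.node (nat_lit 0x1022845) (.leaf (nat_lit 0x1022843) (nat_lit 1285))
 (.leaf (nat_lit 0x1022845) (nat_lit 2053))
) (.node (nat_lit 0x1022849) (.leaf (nat_lit 0x1022847) (nat_lit 1797))
 (.node (nat_lit 0x102284b) (.leaf (nat_lit 0x1022849) (nat_lit 1793))
 (.leaf (nat_lit 0x102284b) (nat_lit 1797))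
))) (.node (nat_lit 0x1022853) (.node (nat_lit 0x102284f) (.leaf (nat_lit 0x102284d) (nat_lit 1794))
 (.node (nat_lit 0x1022851) (.leaf (nat_lit 0x102284f) (nat_lit 1797))
 (.leaf (nat_lit 0x1022851) (nat_lit 3589))
)) (.node (nat_lit 0x1022855) (.leaf (nat_lit 0x1022853) (nat_lit 3589))
 (.node (nat_lit 0x1022857) (.leaf (nat_lit 0x1022855) (nat_lit 3077))
 (.leaf (nat_lit 0x1022857) (nat_lit 2821))
))))))) (.node (nat_lit 0x102298d) (.node (nat_lit 0x1022903) (.node (nat_lit 0x10228cd) (.node (nat_lit 0x10228c3) (.node (nat_lit 0x102285d) (.node (nat_lit 0x102285b) (.leaf (nat_lit 0x1022859) (nat_lit 2818))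
 (.leaf (nat_lit 0x102285b) (nat_lit 2821))
) (.node (nat_lit 0x102285f) (.leaf (nat_lit 0x102285d) (nat_lit 2563))
 (.node (nat_lit 0x10228c1) (.leaf (nat_lit 0x102285f) (nat_lit 2565))
 (.leaf (nat_lit 0x10228c1) (nat_lit 1029))
))) (.node (nat_lit 0x10228c7) (.node (nat_lit 0x10228c5) (.leaf (nat_lit 0x10228c3) (nat_lit 1285))
 (.leaf (nat_lit 0x10228c5) (nat_lit 1541))
) (.node (nat_lit 0x10228c9) (.leaf (nat_lit 0x10228c7) (nat_lit 1285))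
 (.node (nat_lit 0x10228cb) (.leaf (nat_lit 0x10228c9) (nat_lit 2053))
 (.leaf (nat_lit 0x10228cb) (nat_lit 1797))
)))) (.node (nat_lit 0x10228d7) (.node (nat_lit 0x10228d1) (.node (nat_lit 0x10228cf) (.leaf (nat_lit 0x10228cd) (nat_lit 1793))
 (.leaf (nat_lit 0x10228cf) (nat_lit 2049))
) (.node (nat_lit 0x10228d3) (.leaf (nat_lit 0x10228d1) (nat_lit 3077))
 (.node (nat_lit 0x10228d5) (.leaf (nat_lit 0x10228d3) (nat_lit 2821))
 (.leaf (nat_lit 0x10228d5) (nat_lit 3077))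
))) (.node (nat_lit 0x10228dd) (.node (nat_lit 0x10228d9) (.leaf (nat_lit 0x10228d7) (nat_lit 3333))
 (.node (nat_lit 0x10228db) (.leaf (nat_lit 0x10228d9) (nat_lit 2819))
 (.leaf (nat_lit 0x10228db) (nat_lit 2821))
)) (.node (nat_lit 0x10228df) (.leaf (nat_lit 0x10228dd) (nat_lit 3077))
 (.node (nat_lit 0x1022901) (.leaf (nat_lit 0x10228df) (nat_lit 2821))
 (.leaf (nat_lit 0x1022901) (nat_lit 1281))
))))) (.node (nat_lit 0x1022917) (.node (nat_lit 0x102290d) (.node (nat_lit 0x1022907) (.node (nat_lit 0x1022905) (.leaf (nat_lit 0x1022903) (nat_lit 1537))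
 (.leaf (nat_lit 0x1022905) (nat_lit 2305))
) (.node (nat_lit 0x1022909) (.leaf (nat_lit 0x1022907) (nat_lit 2049))
 (.node (nat_lit 0x102290b) (.leaf (nat_lit 0x1022909) (nat_lit 1536))
 (.leaf (nat_lit 0x102290b) (nat_lit 1792))
))) (.node (nat_lit 0x1022911) (.node (nat_lit 0x102290f) (.leaf (nat_lit 0x102290d) (nat_lit 2049))
 (.leaf (nat_lit 0x102290f) (nat_lit 2049))
) (.node (nat_lit 0x1022913) (.leaf (nat_lit 0x1022911) (nat_lit 3328))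
 (.node (nat_lit 0x1022915) (.leaf (nat_lit 0x1022913) (nat_lit 3328))
 (.leaf (nat_lit 0x1022915) (nat_lit 3075))
)))) (.node (nat_lit 0x1022981) (.node (nat_lit 0x102291b) (.node (nat_lit 0x1022919) (.leaf (nat_lit 0x1022917) (nat_lit 3073))
 (.leaf (nat_lit 0x1022919) (nat_lit 3073))
) (.node (nat_lit 0x102291d) (.leaf (nat_lit 0x102291b) (nat_lit 3073))
 (.node (nat_lit 0x102291f) (.leaf (nat_lit 0x102291d) (nat_lit 2819))
 (.leaf (nat_lit 0x102291f) (nat_lit 2817))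
))) (.node (nat_lit 0x1022987) (.node (nat_lit 0x1022983) (.leaf (nat_lit 0x1022981) (nat_lit 1281))
 (.node (nat_lit 0x1022985) (.leaf (nat_lit 0x1022983) (nat_lit 1537))
 (.leaf (nat_lit 0x1022985) (nat_lit 1793))
)) (.node (nat_lit 0x1022989) (.leaf (nat_lit 0x1022987) (nat_lit 1537))
 (.node (nat_lit 0x102298b) (.leaf (nat_lit 0x1022989) (nat_lit 2048))
 (.leaf (nat_lit 0x102298b) (nat_lit 1792))
)))))) (.node (nat_lit 0x1022a57) (.node (nat_lit 0x1022a41) (.node (nat_lit 0x1022997) (.node (nat_lit 0x1022991) (.node (nat_lit 0x102298f) (.leaf (nat_lit 0x102298d) (nat_lit 1536))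
 (.leaf (nat_lit 0x102298f) (nat_lit 1792))
) (.node (nat_lit 0x1022993) (.leaf (nat_lit 0x1022991) (nat_lit 3329))
 (.node (nat_lit 0x1022995) (.leaf (nat_lit 0x1022993) (nat_lit 3073))
 (.leaf (nat_lit 0x1022995) (nat_lit 3330))
))) (.node (nat_lit 0x102299b) (.node (nat_lit 0x1022999) (.leaf (nat_lit 0x1022997) (nat_lit 3074))
 (.leaf (nat_lit 0x1022999) (nat_lit 3075))
) (.node (nat_lit 0x102299d) (.leaf (nat_lit 0x102299b) (nat_lit 3073))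
 (.node (nat_lit 0x102299f) (.leaf (nat_lit 0x102299d) (nat_lit 3329))
 (.leaf (nat_lit 0x102299f) (nat_lit 3073))
)))) (.node (nat_lit 0x1022a4b) (.node (nat_lit 0x1022a45) (.node (nat_lit 0x1022a43) (.leaf (nat_lit 0x1022a41) (nat_lit 2309))
 (.leaf (nat_lit 0x1022a43) (nat_lit 2565))
) (.node (nat_lit 0x1022a47) (.leaf (nat_lit 0x1022a45) (nat_lit 2821))
 (.node (nat_lit 0x1022a49) (.leaf (nat_lit 0x1022a47) (nat_lit 2565))
 (.leaf (nat_lit 0x1022a49) (nat_lit 2821))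
))) (.node (nat_lit 0x1022a51) (.node (nat_lit 0x1022a4d) (.leaf (nat_lit 0x1022a4b) (nat_lit 2565))
 (.node (nat_lit 0x1022a4f) (.leaf (nat_lit 0x1022a4d) (nat_lit 2821))
 (.leaf (nat_lit 0x1022a4f) (nat_lit 2565))
)) (.node (nat_lit 0x1022a53) (.leaf (nat_lit 0x1022a51) (nat_lit 2821))
 (.node (nat_lit 0x1022a55) (.leaf (nat_lit 0x1022a53) (nat_lit 2565))
 (.leaf (nat_lit 0x1022a55) (nat_lit 2821))
))))) (.node (nat_lit 0x1022acb) (.node (nat_lit 0x1022ac1) (.node (nat_lit 0x1022a5b) (.node (nat_lit 0x1022a59) (.leaf (nat_lit 0x1022a57) (nat_lit 3077))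
 (.leaf (nat_lit 0x1022a59) (nat_lit 2821))
) (.node (nat_lit 0x1022a5d) (.leaf (nat_lit 0x1022a5b) (nat_lit 3077))
 (.node (nat_lit 0x1022a5f) (.leaf (nat_lit 0x1022a5d) (nat_lit 2821))
 (.leaf (nat_lit 0x1022a5f) (nat_lit 3077))
))) (.node (nat_lit 0x1022ac5) (.node (nat_lit 0x1022ac3) (.leaf (nat_lit 0x1022ac1) (nat_lit 2309))
 (.leaf (nat_lit 0x1022ac3) (nat_lit 2565))
) (.node (nat_lit 0x1022ac7) (.leaf (nat_lit 0x1022ac5) (nat_lit 2821))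
 (.node (nat_lit 0x1022ac9) (.leaf (nat_lit 0x1022ac7) (nat_lit 2565))
 (.leaf (nat_lit 0x1022ac9) (nat_lit 2821))
)))) (.node (nat_lit 0x1022ad5) (.node (nat_lit 0x1022acf) (.node (nat_lit 0x1022acd) (.leaf (nat_lit 0x1022acb) (nat_lit 2565))
 (.leaf (nat_lit 0x1022acd) (nat_lit 2821))
) (.node (nat_lit 0x1022ad1) (.leaf (nat_lit 0x1022acf) (nat_lit 2565))
 (.node (nat_lit 0x1022ad3) (.leaf (nat_lit 0x1022ad1) (nat_lit 2821))
 (.leaf (nat_lit 0x1022ad3) (nat_lit 3077))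
))) (.node (nat_lit 0x1022adb) (.node (nat_lit 0x1022ad7) (.leaf (nat_lit 0x1022ad5) (nat_lit 2821))
 (.node (nat_lit 0x1022ad9) (.leaf (nat_lit 0x1022ad7) (nat_lit 2565))
 (.leaf (nat_lit 0x1022ad9) (nat_lit 2821))
)) (.node (nat_lit 0x1022add) (.leaf (nat_lit 0x1022adb) (nat_lit 3077))
 (.node (nat_lit 0x1022adf) (.leaf (nat_lit 0x1022add) (nat_lit 2563))
 (.leaf (nat_lit 0x1022adf) (nat_lit 2819))
)))))))))) (.node (nat_lit 0x10249c1) (.node (nat_lit 0x1023851) (.node (nat_lit 0x10231c9) (.node (nat_lit 0x1023055) (.node (nat_lit 0x1022b8b) (.node (nat_lit 0x1022b15) (.node (nat_lit 0x1022b0b) (.node (nat_lit 0x1022b05) (.node (nat_lit 0x1022b03) (.leaf (nat_lit 0x1022b01) (nat_lit 2307))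
 (.leaf (nat_lit 0x1022b03) (nat_lit 2563))
) (.node (nat_lit 0x1022b07) (.leaf (nat_lit 0x1022b05) (nat_lit 2819))
 (.node (nat_lit 0x1022b09) (.leaf (nat_lit 0x1022b07) (nat_lit 2563))
 (.leaf (nat_lit 0x1022b09) (nat_lit 3073))
))) (.node (nat_lit 0x1022b0f) (.node (nat_lit 0x1022b0d) (.leaf (nat_lit 0x1022b0b) (nat_lit 2817))
 (.leaf (nat_lit 0x1022b0d) (nat_lit 3073))
) (.node (nat_lit 0x1022b11) (.leaf (nat_lit 0x1022b0f) (nat_lit 2817))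
 (.node (nat_lit 0x1022b13) (.leaf (nat_lit 0x1022b11) (nat_lit 3073))
 (.leaf (nat_lit 0x1022b13) (nat_lit 2817))
)))) (.node (nat_lit 0x1022b1f) (.node (nat_lit 0x1022b19) (.node (nat_lit 0x1022b17) (.leaf (nat_lit 0x1022b15) (nat_lit 3074))
 (.leaf (nat_lit 0x1022b17) (nat_lit 2818))
) (.node (nat_lit 0x1022b1b) (.leaf (nat_lit 0x1022b19) (nat_lit 2563))
 (.node (nat_lit 0x1022b1d) (.leaf (nat_lit 0x1022b1b) (nat_lit 2819))
 (.leaf (nat_lit 0x1022b1d) (nat_lit 3075))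
))) (.node (nat_lit 0x1022b85) (.node (nat_lit 0x1022b81) (.leaf (nat_lit 0x1022b1f) (nat_lit 2819))
 (.node (nat_lit 0x1022b83) (.leaf (nat_lit 0x1022b81) (nat_lit 2051))
 (.leaf (nat_lit 0x1022b83) (nat_lit 2307))
)) (.node (nat_lit 0x1022b87) (.leaf (nat_lit 0x1022b85) (nat_lit 2820))
 (.node (nat_lit 0x1022b89) (.leaf (nat_lit 0x1022b87) (nat_lit 2819))
 (.leaf (nat_lit 0x1022b89) (nat_lit 3073))
))))) (.node (nat_lit 0x1022b9f) (.node (nat_lit 0x1022b95) (.node (nat_lit 0x1022b8f) (.node (nat_lit 0x1022b8d) (.leaf (nat_lit 0x1022b8b) (nat_lit 2817))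
 (.leaf (nat_lit 0x1022b8d) (nat_lit 3073))
) (.node (nat_lit 0x1022b91) (.leaf (nat_lit 0x1022b8f) (nat_lit 2817))
 (.node (nat_lit 0x1022b93) (.leaf (nat_lit 0x1022b91) (nat_lit 3074))
 (.leaf (nat_lit 0x1022b93) (nat_lit 2818))
))) (.node (nat_lit 0x1022b99) (.node (nat_lit 0x1022b97) (.leaf (nat_lit 0x1022b95) (nat_lit 3073))
 (.leaf (nat_lit 0x1022b97) (nat_lit 2817))
) (.node (nat_lit 0x1022b9b) (.leaf (nat_lit 0x1022b99) (nat_lit 3073))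
 (.node (nat_lit 0x1022b9d) (.leaf (nat_lit 0x1022b9b) (nat_lit 3075))
 (.leaf (nat_lit 0x1022b9d) (nat_lit 2307))
)))) (.node (nat_lit 0x1023049) (.node (nat_lit 0x1023043) (.node (nat_lit 0x1023041) (.leaf (nat_lit 0x1022b9f) (nat_lit 2563))
 (.leaf (nat_lit 0x1023041) (nat_lit 516))
) (.node (nat_lit 0x1023045) (.leaf (nat_lit 0x1023043) (nat_lit 772))
 (.node (nat_lit 0x1023047) (.leaf (nat_lit 0x1023045) (nat_lit 1540))
 (.leaf (nat_lit 0x1023047) (nat_lit 1284))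
))) (.node (nat_lit 0x102304f) (.node (nat_lit 0x102304b) (.leaf (nat_lit 0x1023049) (nat_lit 2050))
 (.node (nat_lit 0x102304d) (.leaf (nat_lit 0x102304b) (nat_lit 1794))
 (.leaf (nat_lit 0x102304d) (nat_lit 1540))
)) (.node (nat_lit 0x1023051) (.leaf (nat_lit 0x102304f) (nat_lit 1284))
 (.node (nat_lit 0x1023053) (.leaf (nat_lit 0x1023051) (nat_lit 3076))
 (.leaf (nat_lit 0x1023053) (nat_lit 3332))
)))))) (.node (nat_lit 0x10230df) (.node (nat_lit 0x10230c9) (.node (nat_lit 0x102305f) (.node (nat_lit 0x1023059) (.node (nat_lit 0x1023057) (.leaf (nat_lit 0x1023055) (nat_lit 2564))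
 (.leaf (nat_lit 0x1023057) (nat_lit 2308))
) (.node (nat_lit 0x102305b) (.leaf (nat_lit 0x1023059) (nat_lit 2563))
 (.node (nat_lit 0x102305d) (.leaf (nat_lit 0x102305b) (nat_lit 2307))
 (.leaf (nat_lit 0x102305d) (nat_lit 2564))
))) (.node (nat_lit 0x10230c3) (.node (nat_lit 0x10230c1) (.leaf (nat_lit 0x102305f) (nat_lit 2308))
 (.leaf (nat_lit 0x10230c1) (nat_lit 772))
) (.node (nat_lit 0x10230c5) (.leaf (nat_lit 0x10230c3) (nat_lit 1028))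
 (.node (nat_lit 0x10230c7) (.leaf (nat_lit 0x10230c5) (nat_lit 1284))
 (.leaf (nat_lit 0x10230c7) (nat_lit 1028))
)))) (.node (nat_lit 0x10230d3) (.node (nat_lit 0x10230cd) (.node (nat_lit 0x10230cb) (.leaf (nat_lit 0x10230c9) (nat_lit 1796))
 (.leaf (nat_lit 0x10230cb) (nat_lit 1540))
) (.node (nat_lit 0x10230cf) (.leaf (nat_lit 0x10230cd) (nat_lit 1796))
 (.node (nat_lit 0x10230d1) (.leaf (nat_lit 0x10230cf) (nat_lit 1794))
 (.leaf (nat_lit 0x10230d1) (nat_lit 2820))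
))) (.node (nat_lit 0x10230d9) (.node (nat_lit 0x10230d5) (.leaf (nat_lit 0x10230d3) (nat_lit 2564))
 (.node (nat_lit 0x10230d7) (.leaf (nat_lit 0x10230d5) (nat_lit 2820))
 (.leaf (nat_lit 0x10230d7) (nat_lit 3076))
)) (.node (nat_lit 0x10230db) (.leaf (nat_lit 0x10230d9) (nat_lit 2820))
 (.node (nat_lit 0x10230dd) (.leaf (nat_lit 0x10230db) (nat_lit 2564))
 (.leaf (nat_lit 0x10230dd) (nat_lit 2819))
))))) (.node (nat_lit 0x1023153) (.node (nat_lit 0x1023149) (.node (nat_lit 0x1023143) (.node (nat_lit 0x1023141) (.leaf (nat_lit 0x10230df) (nat_lit 2563))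
 (.leaf (nat_lit 0x1023141) (nat_lit 1028))
) (.node (nat_lit 0x1023145) (.leaf (nat_lit 0x1023143) (nat_lit 1284))
 (.node (nat_lit 0x1023147) (.leaf (nat_lit 0x1023145) (nat_lit 1540))
 (.leaf (nat_lit 0x1023147) (nat_lit 1284))
))) (.node (nat_lit 0x102314d) (.node (nat_lit 0x102314b) (.leaf (nat_lit 0x1023149) (nat_lit 1540))
 (.leaf (nat_lit 0x102314b) (nat_lit 1284))
) (.node (nat_lit 0x102314f) (.leaf (nat_lit 0x102314d) (nat_lit 1540))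
 (.node (nat_lit 0x1023151) (.leaf (nat_lit 0x102314f) (nat_lit 1796))
 (.leaf (nat_lit 0x1023151) (nat_lit 3075))
)))) (.node (nat_lit 0x102315d) (.node (nat_lit 0x1023157) (.node (nat_lit 0x1023155) (.leaf (nat_lit 0x1023153) (nat_lit 2819))
 (.leaf (nat_lit 0x1023155) (nat_lit 3075))
) (.node (nat_lit 0x1023159) (.leaf (nat_lit 0x1023157) (nat_lit 3074))
 (.node (nat_lit 0x102315b) (.leaf (nat_lit 0x1023159) (nat_lit 3076))
 (.leaf (nat_lit 0x102315b) (nat_lit 2820))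
))) (.node (nat_lit 0x10231c3) (.node (nat_lit 0x102315f) (.leaf (nat_lit 0x102315d) (nat_lit 3076))
 (.node (nat_lit 0x10231c1) (.leaf (nat_lit 0x102315f) (nat_lit 2820))
 (.leaf (nat_lit 0x10231c1) (nat_lit 772))
)) (.node (nat_lit 0x10231c5) (.leaf (nat_lit 0x10231c3) (nat_lit 1028))
 (.node (nat_lit 0x10231c7) (.leaf (nat_lit 0x10231c5) (nat_lit 1796))
 (.leaf (nat_lit 0x10231c7) (nat_lit 1540))
))))))) (.node (nat_lit 0x10232dd) (.node (nat_lit 0x1023253) (.node (nat_lit 0x10231dd) (.node (nat_lit 0x10231d3) (.node (nat_lit 0x10231cd) (.node (nat_lit 0x10231cb) (.leaf (nat_lit 0x10231c9) (nat_lit 1796))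
 (.leaf (nat_lit 0x10231cb) (nat_lit 2052))
) (.node (nat_lit 0x10231cf) (.leaf (nat_lit 0x10231cd) (nat_lit 1284))
 (.node (nat_lit 0x10231d1) (.leaf (nat_lit 0x10231cf) (nat_lit 1028))
 (.leaf (nat_lit 0x10231d1) (nat_lit 2820))
))) (.node (nat_lit 0x10231d7) (.node (nat_lit 0x10231d5) (.leaf (nat_lit 0x10231d3) (nat_lit 3076))
 (.leaf (nat_lit 0x10231d5) (nat_lit 2819))
) (.node (nat_lit 0x10231d9) (.leaf (nat_lit 0x10231d7) (nat_lit 2563))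
 (.node (nat_lit 0x10231db) (.leaf (nat_lit 0x10231d9) (nat_lit 2820))
 (.leaf (nat_lit 0x10231db) (nat_lit 2564))
)))) (.node (nat_lit 0x1023247) (.node (nat_lit 0x1023241) (.node (nat_lit 0x10231df) (.leaf (nat_lit 0x10231dd) (nat_lit 2820))
 (.leaf (nat_lit 0x10231df) (nat_lit 2564))
) (.node (nat_lit 0x1023243) (.leaf (nat_lit 0x1023241) (nat_lit 2052))
 (.node (nat_lit 0x1023245) (.leaf (nat_lit 0x1023243) (nat_lit 2308))
 (.leaf (nat_lit 0x1023245) (nat_lit 2564))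
))) (.node (nat_lit 0x102324d) (.node (nat_lit 0x1023249) (.leaf (nat_lit 0x1023247) (nat_lit 2308))
 (.node (nat_lit 0x102324b) (.leaf (nat_lit 0x1023249) (nat_lit 2819))
 (.leaf (nat_lit 0x102324b) (nat_lit 2563))
)) (.node (nat_lit 0x102324f) (.leaf (nat_lit 0x102324d) (nat_lit 2564))
 (.node (nat_lit 0x1023251) (.leaf (nat_lit 0x102324f) (nat_lit 2820))
 (.leaf (nat_lit 0x1023251) (nat_lit 2564))
))))) (.node (nat_lit 0x10232c7) (.node (nat_lit 0x102325d) (.node (nat_lit 0x1023257) (.node (nat_lit 0x1023255) (.leaf (nat_lit 0x1023253) (nat_lit 2308))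
 (.leaf (nat_lit 0x1023255) (nat_lit 2564))
) (.node (nat_lit 0x1023259) (.leaf (nat_lit 0x1023257) (nat_lit 2820))
 (.node (nat_lit 0x102325b) (.leaf (nat_lit 0x1023259) (nat_lit 2819))
 (.leaf (nat_lit 0x102325b) (nat_lit 2820))
))) (.node (nat_lit 0x10232c1) (.node (nat_lit 0x102325f) (.leaf (nat_lit 0x102325d) (nat_lit 2564))
 (.leaf (nat_lit 0x102325f) (nat_lit 2308))
) (.node (nat_lit 0x10232c3) (.leaf (nat_lit 0x10232c1) (nat_lit 1796))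
 (.node (nat_lit 0x10232c5) (.leaf (nat_lit 0x10232c3) (nat_lit 2052))
 (.leaf (nat_lit 0x10232c5) (nat_lit 2820))
)))) (.node (nat_lit 0x10232d1) (.node (nat_lit 0x10232cb) (.node (nat_lit 0x10232c9) (.leaf (nat_lit 0x10232c7) (nat_lit 2564))
 (.leaf (nat_lit 0x10232c9) (nat_lit 2820))
) (.node (nat_lit 0x10232cd) (.leaf (nat_lit 0x10232cb) (nat_lit 2818))
 (.node (nat_lit 0x10232cf) (.leaf (nat_lit 0x10232cd) (nat_lit 2563))
 (.leaf (nat_lit 0x10232cf) (nat_lit 2307))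
))) (.node (nat_lit 0x10232d7) (.node (nat_lit 0x10232d3) (.leaf (nat_lit 0x10232d1) (nat_lit 2820))
 (.node (nat_lit 0x10232d5) (.leaf (nat_lit 0x10232d3) (nat_lit 3076))
 (.leaf (nat_lit 0x10232d5) (nat_lit 2308))
)) (.node (nat_lit 0x10232d9) (.leaf (nat_lit 0x10232d7) (nat_lit 2052))
 (.node (nat_lit 0x10232db) (.leaf (nat_lit 0x10232d9) (nat_lit 2563))
 (.leaf (nat_lit 0x10232db) (nat_lit 2307))
)))))) (.node (nat_lit 0x10233c7) (.node (nat_lit 0x1023351) (.node (nat_lit 0x1023347) (.node (nat_lit 0x1023341) (.node (nat_lit 0x10232df) (.leaf (nat_lit 0x10232dd) (nat_lit 2820))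
 (.leaf (nat_lit 0x10232df) (nat_lit 2564))
) (.node (nat_lit 0x1023343) (.leaf (nat_lit 0x1023341) (nat_lit 1795))
 (.node (nat_lit 0x1023345) (.leaf (nat_lit 0x1023343) (nat_lit 2051))
 (.leaf (nat_lit 0x1023345) (nat_lit 2564))
))) (.node (nat_lit 0x102334b) (.node (nat_lit 0x1023349) (.leaf (nat_lit 0x1023347) (nat_lit 2308))
 (.leaf (nat_lit 0x1023349) (nat_lit 3076))
) (.node (nat_lit 0x102334d) (.leaf (nat_lit 0x102334b) (nat_lit 3075))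
 (.node (nat_lit 0x102334f) (.leaf (nat_lit 0x102334d) (nat_lit 2564))
 (.leaf (nat_lit 0x102334f) (nat_lit 2308))
)))) (.node (nat_lit 0x102335b) (.node (nat_lit 0x1023355) (.node (nat_lit 0x1023353) (.leaf (nat_lit 0x1023351) (nat_lit 3076))
 (.leaf (nat_lit 0x1023353) (nat_lit 3074))
) (.node (nat_lit 0x1023357) (.leaf (nat_lit 0x1023355) (nat_lit 2564))
 (.node (nat_lit 0x1023359) (.leaf (nat_lit 0x1023357) (nat_lit 2308))
 (.leaf (nat_lit 0x1023359) (nat_lit 2307))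
))) (.node (nat_lit 0x10233c1) (.node (nat_lit 0x102335d) (.leaf (nat_lit 0x102335b) (nat_lit 2051))
 (.node (nat_lit 0x102335f) (.leaf (nat_lit 0x102335d) (nat_lit 2564))
 (.leaf (nat_lit 0x102335f) (nat_lit 2308))
)) (.node (nat_lit 0x10233c3) (.leaf (nat_lit 0x10233c1) (nat_lit 1796))
 (.node (nat_lit 0x10233c5) (.leaf (nat_lit 0x10233c3) (nat_lit 2052))
 (.leaf (nat_lit 0x10233c5) (nat_lit 2563))
))))) (.node (nat_lit 0x10233db) (.node (nat_lit 0x10233d1) (.node (nat_lit 0x10233cb) (.node (nat_lit 0x10233c9) (.leaf (nat_lit 0x10233c7) (nat_lit 2307))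
 (.leaf (nat_lit 0x10233c9) (nat_lit 2820))
) (.node (nat_lit 0x10233cd) (.leaf (nat_lit 0x10233cb) (nat_lit 2564))
 (.node (nat_lit 0x10233cf) (.leaf (nat_lit 0x10233cd) (nat_lit 2820))
 (.leaf (nat_lit 0x10233cf) (nat_lit 3076))
))) (.node (nat_lit 0x10233d5) (.node (nat_lit 0x10233d3) (.leaf (nat_lit 0x10233d1) (nat_lit 2820))
 (.leaf (nat_lit 0x10233d3) (nat_lit 2564))
) (.node (nat_lit 0x10233d7) (.leaf (nat_lit 0x10233d5) (nat_lit 2820))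
 (.node (nat_lit 0x10233d9) (.leaf (nat_lit 0x10233d7) (nat_lit 2818))
 (.leaf (nat_lit 0x10233d9) (nat_lit 2563))
)))) (.node (nat_lit 0x1023845) (.node (nat_lit 0x10233df) (.node (nat_lit 0x10233dd) (.leaf (nat_lit 0x10233db) (nat_lit 2564))
 (.leaf (nat_lit 0x10233dd) (nat_lit 2308))
) (.node (nat_lit 0x1023841) (.leaf (nat_lit 0x10233df) (nat_lit 2052))
 (.node (nat_lit 0x1023843) (.leaf (nat_lit 0x1023841) (nat_lit 773))
 (.leaf (nat_lit 0x1023843) (nat_lit 1029))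
))) (.node (nat_lit 0x102384b) (.node (nat_lit 0x1023847) (.leaf (nat_lit 0x1023845) (nat_lit 1797))
 (.node (nat_lit 0x1023849) (.leaf (nat_lit 0x1023847) (nat_lit 1541))
 (.leaf (nat_lit 0x1023849) (nat_lit 2050))
)) (.node (nat_lit 0x102384d) (.leaf (nat_lit 0x102384b) (nat_lit 2053))
 (.node (nat_lit 0x102384f) (.leaf (nat_lit 0x102384d) (nat_lit 1537))
 (.leaf (nat_lit 0x102384f) (nat_lit 1541))
)))))))) (.node (nat_lit 0x1023ad9) (.node (nat_lit 0x1023985) (.node (nat_lit 0x10238db) (.node (nat_lit 0x10238c5) (.node (nat_lit 0x102385b) (.node (nat_lit 0x1023855) (.node (nat_lit 0x1023853) (.leaf (nat_lit 0x1023851) (nat_lit 3333))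
 (.leaf (nat_lit 0x1023853) (nat_lit 3329))
) (.node (nat_lit 0x1023857) (.leaf (nat_lit 0x1023855) (nat_lit 2821))
 (.node (nat_lit 0x1023859) (.leaf (nat_lit 0x1023857) (nat_lit 2565))
 (.leaf (nat_lit 0x1023859) (nat_lit 2563))
))) (.node (nat_lit 0x102385f) (.node (nat_lit 0x102385d) (.leaf (nat_lit 0x102385b) (nat_lit 2565))
 (.leaf (nat_lit 0x102385d) (nat_lit 2821))
) (.node (nat_lit 0x10238c1) (.leaf (nat_lit 0x102385f) (nat_lit 2565))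
 (.node (nat_lit 0x10238c3) (.leaf (nat_lit 0x10238c1) (nat_lit 1285))
 (.leaf (nat_lit 0x10238c3) (nat_lit 1541))
)))) (.node (nat_lit 0x10238cf) (.node (nat_lit 0x10238c9) (.node (nat_lit 0x10238c7) (.leaf (nat_lit 0x10238c5) (nat_lit 1797))
 (.leaf (nat_lit 0x10238c7) (nat_lit 1541))
) (.node (nat_lit 0x10238cb) (.leaf (nat_lit 0x10238c9) (nat_lit 2049))
 (.node (nat_lit 0x10238cd) (.leaf (nat_lit 0x10238cb) (nat_lit 2053))
 (.leaf (nat_lit 0x10238cd) (nat_lit 2053))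
))) (.node (nat_lit 0x10238d5) (.node (nat_lit 0x10238d1) (.leaf (nat_lit 0x10238cf) (nat_lit 1797))
 (.node (nat_lit 0x10238d3) (.leaf (nat_lit 0x10238d1) (nat_lit 3333))
 (.leaf (nat_lit 0x10238d3) (nat_lit 3077))
)) (.node (nat_lit 0x10238d7) (.leaf (nat_lit 0x10238d5) (nat_lit 3333))
 (.node (nat_lit 0x10238d9) (.leaf (nat_lit 0x10238d7) (nat_lit 3333))
 (.leaf (nat_lit 0x10238d9) (nat_lit 3077))
))))) (.node (nat_lit 0x102390f) (.node (nat_lit 0x1023905) (.node (nat_lit 0x10238df) (.node (nat_lit 0x10238dd) (.leaf (nat_lit 0x10238db) (nat_lit 2821))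
 (.leaf (nat_lit 0x10238dd) (nat_lit 2819))
) (.node (nat_lit 0x1023901) (.leaf (nat_lit 0x10238df) (nat_lit 3075))
 (.node (nat_lit 0x1023903) (.leaf (nat_lit 0x1023901) (nat_lit 1537))
 (.leaf (nat_lit 0x1023903) (nat_lit 1793))
))) (.node (nat_lit 0x1023909) (.node (nat_lit 0x1023907) (.leaf (nat_lit 0x1023905) (nat_lit 2049))
 (.leaf (nat_lit 0x1023907) (nat_lit 1793))
) (.node (nat_lit 0x102390b) (.leaf (nat_lit 0x1023909) (nat_lit 1792))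
 (.node (nat_lit 0x102390d) (.leaf (nat_lit 0x102390b) (nat_lit 2048))
 (.leaf (nat_lit 0x102390d) (nat_lit 2304))
)))) (.node (nat_lit 0x1023919) (.node (nat_lit 0x1023913) (.node (nat_lit 0x1023911) (.leaf (nat_lit 0x102390f) (nat_lit 2048))
 (.leaf (nat_lit 0x1023911) (nat_lit 3585))
) (.node (nat_lit 0x1023915) (.leaf (nat_lit 0x1023913) (nat_lit 3329))
 (.node (nat_lit 0x1023917) (.leaf (nat_lit 0x1023915) (nat_lit 3331))
 (.leaf (nat_lit 0x1023917) (nat_lit 3330))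
))) (.node (nat_lit 0x102391f) (.node (nat_lit 0x102391b) (.leaf (nat_lit 0x1023919) (nat_lit 3329))
 (.node (nat_lit 0x102391d) (.leaf (nat_lit 0x102391b) (nat_lit 3073))
 (.leaf (nat_lit 0x102391d) (nat_lit 3075))
)) (.node (nat_lit 0x1023981) (.leaf (nat_lit 0x102391f) (nat_lit 3074))
 (.node (nat_lit 0x1023983) (.leaf (nat_lit 0x1023981) (nat_lit 1025))
 (.leaf (nat_lit 0x1023983) (nat_lit 1281))
)))))) (.node (nat_lit 0x1023a4f) (.node (nat_lit 0x1023999) (.node (nat_lit 0x102398f) (.node (nat_lit 0x1023989) (.node (nat_lit 0x1023987) (.leaf (nat_lit 0x1023985) (nat_lit 2049))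
 (.leaf (nat_lit 0x1023987) (nat_lit 1793))
) (.node (nat_lit 0x102398b) (.leaf (nat_lit 0x1023989) (nat_lit 2304))
 (.node (nat_lit 0x102398d) (.leaf (nat_lit 0x102398b) (nat_lit 2048))
 (.leaf (nat_lit 0x102398d) (nat_lit 1280))
))) (.node (nat_lit 0x1023993) (.node (nat_lit 0x1023991) (.leaf (nat_lit 0x102398f) (nat_lit 1536))
 (.leaf (nat_lit 0x1023991) (nat_lit 3328))
) (.node (nat_lit 0x1023995) (.leaf (nat_lit 0x1023993) (nat_lit 3072))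
 (.node (nat_lit 0x1023997) (.leaf (nat_lit 0x1023995) (nat_lit 3073))
 (.leaf (nat_lit 0x1023997) (nat_lit 2817))
)))) (.node (nat_lit 0x1023a43) (.node (nat_lit 0x102399d) (.node (nat_lit 0x102399b) (.leaf (nat_lit 0x1023999) (nat_lit 2819))
 (.leaf (nat_lit 0x102399b) (nat_lit 2817))
) (.node (nat_lit 0x102399f) (.leaf (nat_lit 0x102399d) (nat_lit 3073))
 (.node (nat_lit 0x1023a41) (.leaf (nat_lit 0x102399f) (nat_lit 2817))
 (.leaf (nat_lit 0x1023a41) (nat_lit 2053))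
))) (.node (nat_lit 0x1023a49) (.node (nat_lit 0x1023a45) (.leaf (nat_lit 0x1023a43) (nat_lit 2309))
 (.node (nat_lit 0x1023a47) (.leaf (nat_lit 0x1023a45) (nat_lit 2821))
 (.leaf (nat_lit 0x1023a47) (nat_lit 2821))
)) (.node (nat_lit 0x1023a4b) (.leaf (nat_lit 0x1023a49) (nat_lit 3077))
 (.node (nat_lit 0x1023a4d) (.leaf (nat_lit 0x1023a4b) (nat_lit 2821))
 (.leaf (nat_lit 0x1023a4d) (nat_lit 2565))
))))) (.node (nat_lit 0x1023ac3) (.node (nat_lit 0x1023a59) (.node (nat_lit 0x1023a53) (.node (nat_lit 0x1023a51) (.leaf (nat_lit 0x1023a4f) (nat_lit 2309))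
 (.leaf (nat_lit 0x1023a51) (nat_lit 2565))
) (.node (nat_lit 0x1023a55) (.leaf (nat_lit 0x1023a53) (nat_lit 2309))
 (.node (nat_lit 0x1023a57) (.leaf (nat_lit 0x1023a55) (nat_lit 3077))
 (.leaf (nat_lit 0x1023a57) (nat_lit 3077))
))) (.node (nat_lit 0x1023a5d) (.node (nat_lit 0x1023a5b) (.leaf (nat_lit 0x1023a59) (nat_lit 3077))
 (.leaf (nat_lit 0x1023a5b) (nat_lit 3075))
) (.node (nat_lit 0x1023a5f) (.leaf (nat_lit 0x1023a5d) (nat_lit 2565))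
 (.node (nat_lit 0x1023ac1) (.leaf (nat_lit 0x1023a5f) (nat_lit 2821))
 (.leaf (nat_lit 0x1023ac1) (nat_lit 2053))
)))) (.node (nat_lit 0x1023acd) (.node (nat_lit 0x1023ac7) (.node (nat_lit 0x1023ac5) (.leaf (nat_lit 0x1023ac3) (nat_lit 2309))
 (.leaf (nat_lit 0x1023ac5) (nat_lit 3077))
) (.node (nat_lit 0x1023ac9) (.leaf (nat_lit 0x1023ac7) (nat_lit 2821))
 (.node (nat_lit 0x1023acb) (.leaf (nat_lit 0x1023ac9) (nat_lit 3077))
 (.leaf (nat_lit 0x1023acb) (nat_lit 2821))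
))) (.node (nat_lit 0x1023ad3) (.node (nat_lit 0x1023acf) (.leaf (nat_lit 0x1023acd) (nat_lit 2565))
 (.node (nat_lit 0x1023ad1) (.leaf (nat_lit 0x1023acf) (nat_lit 2309))
 (.leaf (nat_lit 0x1023ad1) (nat_lit 3077))
)) (.node (nat_lit 0x1023ad5) (.leaf (nat_lit 0x1023ad3) (nat_lit 3077))
 (.node (nat_lit 0x1023ad7) (.leaf (nat_lit 0x1023ad5) (nat_lit 2565))
 (.leaf (nat_lit 0x1023ad7) (nat_lit 2309))
))))))) (.node (nat_lit 0x102490d) (.node (nat_lit 0x1023b83) (.node (nat_lit 0x1023b0d) (.node (nat_lit 0x1023b03) (.node (nat_lit 0x1023add) (.node (nat_lit 0x1023adb) (.leaf (nat_lit 0x1023ad9) (nat_lit 2565))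
 (.leaf (nat_lit 0x1023adb) (nat_lit 2821))
) (.node (nat_lit 0x1023adf) (.leaf (nat_lit 0x1023add) (nat_lit 2818))
 (.node (nat_lit 0x1023b01) (.leaf (nat_lit 0x1023adf) (nat_lit 3074))
 (.leaf (nat_lit 0x1023b01) (nat_lit 2051))
))) (.node (nat_lit 0x1023b07) (.node (nat_lit 0x1023b05) (.leaf (nat_lit 0x1023b03) (nat_lit 2307))
 (.leaf (nat_lit 0x1023b05) (nat_lit 3075))
) (.node (nat_lit 0x1023b09) (.leaf (nat_lit 0x1023b07) (nat_lit 2819))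
 (.node (nat_lit 0x1023b0b) (.leaf (nat_lit 0x1023b09) (nat_lit 3329))
 (.leaf (nat_lit 0x1023b0b) (nat_lit 3073))
)))) (.node (nat_lit 0x1023b17) (.node (nat_lit 0x1023b11) (.node (nat_lit 0x1023b0f) (.leaf (nat_lit 0x1023b0d) (nat_lit 2817))
 (.leaf (nat_lit 0x1023b0f) (nat_lit 2561))
) (.node (nat_lit 0x1023b13) (.leaf (nat_lit 0x1023b11) (nat_lit 3330))
 (.node (nat_lit 0x1023b15) (.leaf (nat_lit 0x1023b13) (nat_lit 3074))
 (.leaf (nat_lit 0x1023b15) (nat_lit 2817))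
))) (.node (nat_lit 0x1023b1d) (.node (nat_lit 0x1023b19) (.leaf (nat_lit 0x1023b17) (nat_lit 2561))
 (.node (nat_lit 0x1023b1b) (.leaf (nat_lit 0x1023b19) (nat_lit 2307))
 (.leaf (nat_lit 0x1023b1b) (nat_lit 2563))
)) (.node (nat_lit 0x1023b1f) (.leaf (nat_lit 0x1023b1d) (nat_lit 3073))
 (.node (nat_lit 0x1023b81) (.leaf (nat_lit 0x1023b1f) (nat_lit 3075))
 (.leaf (nat_lit 0x1023b81) (nat_lit 2307))
))))) (.node (nat_lit 0x1023b97) (.node (nat_lit 0x1023b8d) (.node (nat_lit 0x1023b87) (.node (nat_lit 0x1023b85) (.leaf (nat_lit 0x1023b83) (nat_lit 2563))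
 (.leaf (nat_lit 0x1023b85) (nat_lit 2819))
) (.node (nat_lit 0x1023b89) (.leaf (nat_lit 0x1023b87) (nat_lit 2563))
 (.node (nat_lit 0x1023b8b) (.leaf (nat_lit 0x1023b89) (nat_lit 3329))
 (.leaf (nat_lit 0x1023b8b) (nat_lit 3073))
))) (.node (nat_lit 0x1023b91) (.node (nat_lit 0x1023b8f) (.leaf (nat_lit 0x1023b8d) (nat_lit 2817))
 (.leaf (nat_lit 0x1023b8f) (nat_lit 2561))
) (.node (nat_lit 0x1023b93) (.leaf (nat_lit 0x1023b91) (nat_lit 2817))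
 (.node (nat_lit 0x1023b95) (.leaf (nat_lit 0x1023b93) (nat_lit 2561))
 (.leaf (nat_lit 0x1023b95) (nat_lit 3330))
)))) (.node (nat_lit 0x1024901) (.node (nat_lit 0x1023b9b) (.node (nat_lit 0x1023b99) (.leaf (nat_lit 0x1023b97) (nat_lit 3074))
 (.leaf (nat_lit 0x1023b99) (nat_lit 3075))
) (.node (nat_lit 0x1023b9d) (.leaf (nat_lit 0x1023b9b) (nat_lit 2819))
 (.node (nat_lit 0x1023b9f) (.leaf (nat_lit 0x1023b9d) (nat_lit 2563))
 (.leaf (nat_lit 0x1023b9f) (nat_lit 2819))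
))) (.node (nat_lit 0x1024907) (.node (nat_lit 0x1024903) (.leaf (nat_lit 0x1024901) (nat_lit 2307))
 (.node (nat_lit 0x1024905) (.leaf (nat_lit 0x1024903) (nat_lit 2563))
 (.leaf (nat_lit 0x1024905) (nat_lit 3075))
)) (.node (nat_lit 0x1024909) (.leaf (nat_lit 0x1024907) (nat_lit 2819))
 (.node (nat_lit 0x102490b) (.leaf (nat_lit 0x1024909) (nat_lit 2563))
 (.leaf (nat_lit 0x102490b) (nat_lit 2819))
)))))) (.node (nat_lit 0x1024957) (.node (nat_lit 0x1024941) (.node (nat_lit 0x1024917) (.node (nat_lit 0x1024911) (.node (nat_lit 0x102490f) (.leaf (nat_lit 0x102490d) (nat_lit 2819))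
 (.leaf (nat_lit 0x102490f) (nat_lit 2563))
) (.node (nat_lit 0x1024913) (.leaf (nat_lit 0x1024911) (nat_lit 3328))
 (.node (nat_lit 0x1024915) (.leaf (nat_lit 0x1024913) (nat_lit 3072))
 (.leaf (nat_lit 0x1024915) (nat_lit 3329))
))) (.node (nat_lit 0x102491b) (.node (nat_lit 0x1024919) (.leaf (nat_lit 0x1024917) (nat_lit 3073))
 (.leaf (nat_lit 0x1024919) (nat_lit 3073))
) (.node (nat_lit 0x102491d) (.leaf (nat_lit 0x102491b) (nat_lit 2817))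
 (.node (nat_lit 0x102491f) (.leaf (nat_lit 0x102491d) (nat_lit 3074))
 (.leaf (nat_lit 0x102491f) (nat_lit 2818))
)))) (.node (nat_lit 0x102494b) (.node (nat_lit 0x1024945) (.node (nat_lit 0x1024943) (.leaf (nat_lit 0x1024941) (nat_lit 2053))
 (.leaf (nat_lit 0x1024943) (nat_lit 2309))
) (.node (nat_lit 0x1024947) (.leaf (nat_lit 0x1024945) (nat_lit 2565))
 (.node (nat_lit 0x1024949) (.leaf (nat_lit 0x1024947) (nat_lit 2309))
 (.leaf (nat_lit 0x1024949) (nat_lit 2565))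
))) (.node (nat_lit 0x1024951) (.node (nat_lit 0x102494d) (.leaf (nat_lit 0x102494b) (nat_lit 2309))
 (.node (nat_lit 0x102494f) (.leaf (nat_lit 0x102494d) (nat_lit 2565))
 (.leaf (nat_lit 0x102494f) (nat_lit 2565))
)) (.node (nat_lit 0x1024953) (.leaf (nat_lit 0x1024951) (nat_lit 3077))
 (.node (nat_lit 0x1024955) (.leaf (nat_lit 0x1024953) (nat_lit 2821))
 (.leaf (nat_lit 0x1024955) (nat_lit 3077))
))))) (.node (nat_lit 0x102498b) (.node (nat_lit 0x1024981) (.node (nat_lit 0x102495b) (.node (nat_lit 0x1024959) (.leaf (nat_lit 0x1024957) (nat_lit 3077))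
 (.leaf (nat_lit 0x1024959) (nat_lit 2817))
) (.node (nat_lit 0x102495d) (.leaf (nat_lit 0x102495b) (nat_lit 3073))
 (.node (nat_lit 0x102495f) (.leaf (nat_lit 0x102495d) (nat_lit 3074))
 (.leaf (nat_lit 0x102495f) (nat_lit 3073))
))) (.node (nat_lit 0x1024985) (.node (nat_lit 0x1024983) (.leaf (nat_lit 0x1024981) (nat_lit 2307))
 (.leaf (nat_lit 0x1024983) (nat_lit 2563))
) (.node (nat_lit 0x1024987) (.leaf (nat_lit 0x1024985) (nat_lit 2819))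
 (.node (nat_lit 0x1024989) (.leaf (nat_lit 0x1024987) (nat_lit 2563))
 (.leaf (nat_lit 0x1024989) (nat_lit 2819))
)))) (.node (nat_lit 0x1024995) (.node (nat_lit 0x102498f) (.node (nat_lit 0x102498d) (.leaf (nat_lit 0x102498b) (nat_lit 2563))
 (.leaf (nat_lit 0x102498d) (nat_lit 2563))
) (.node (nat_lit 0x1024991) (.leaf (nat_lit 0x102498f) (nat_lit 2562))
 (.node (nat_lit 0x1024993) (.leaf (nat_lit 0x1024991) (nat_lit 3072))
 (.leaf (nat_lit 0x1024993) (nat_lit 2816))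
))) (.node (nat_lit 0x102499b) (.node (nat_lit 0x1024997) (.leaf (nat_lit 0x1024995) (nat_lit 3330))
 (.node (nat_lit 0x1024999) (.leaf (nat_lit 0x1024997) (nat_lit 3074))
 (.leaf (nat_lit 0x1024999) (nat_lit 3074))
)) (.node (nat_lit 0x102499d) (.leaf (nat_lit 0x102499b) (nat_lit 2818))
 (.node (nat_lit 0x102499f) (.leaf (nat_lit 0x102499d) (nat_lit 2817))
 (.leaf (nat_lit 0x102499f) (nat_lit 2561))
))))))))) (.node (nat_lit 0x1025b51) (.node (nat_lit 0x1025909) (.node (nat_lit 0x1024b55) (.node (nat_lit 0x1024b0b) (.node (nat_lit 0x10249d5) (.node (nat_lit 0x10249cb) (.node (nat_lit 0x10249c5) (.node (nat_lit 0x10249c3) (.leaf (nat_lit 0x10249c1) (nat_lit 1797))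
 (.leaf (nat_lit 0x10249c3) (nat_lit 2053))
) (.node (nat_lit 0x10249c7) (.leaf (nat_lit 0x10249c5) (nat_lit 2821))
 (.node (nat_lit 0x10249c9) (.leaf (nat_lit 0x10249c7) (nat_lit 2565))
 (.leaf (nat_lit 0x10249c9) (nat_lit 2821))
))) (.node (nat_lit 0x10249cf) (.node (nat_lit 0x10249cd) (.leaf (nat_lit 0x10249cb) (nat_lit 2565))
 (.leaf (nat_lit 0x10249cd) (nat_lit 2309))
) (.node (nat_lit 0x10249d1) (.leaf (nat_lit 0x10249cf) (nat_lit 2053))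
 (.node (nat_lit 0x10249d3) (.leaf (nat_lit 0x10249d1) (nat_lit 2821))
 (.leaf (nat_lit 0x10249d3) (nat_lit 2565))
)))) (.node (nat_lit 0x10249df) (.node (nat_lit 0x10249d9) (.node (nat_lit 0x10249d7) (.leaf (nat_lit 0x10249d5) (nat_lit 3077))
 (.leaf (nat_lit 0x10249d7) (nat_lit 2821))
) (.node (nat_lit 0x10249db) (.leaf (nat_lit 0x10249d9) (nat_lit 2818))
 (.node (nat_lit 0x10249dd) (.leaf (nat_lit 0x10249db) (nat_lit 3074))
 (.leaf (nat_lit 0x10249dd) (nat_lit 2561))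
))) (.node (nat_lit 0x1024b05) (.node (nat_lit 0x1024b01) (.leaf (nat_lit 0x10249df) (nat_lit 2817))
 (.node (nat_lit 0x1024b03) (.leaf (nat_lit 0x1024b01) (nat_lit 2305))
 (.leaf (nat_lit 0x1024b03) (nat_lit 2561))
)) (.node (nat_lit 0x1024b07) (.leaf (nat_lit 0x1024b05) (nat_lit 2817))
 (.node (nat_lit 0x1024b09) (.leaf (nat_lit 0x1024b07) (nat_lit 2561))
 (.leaf (nat_lit 0x1024b09) (nat_lit 2817))
))))) (.node (nat_lit 0x1024b1f) (.node (nat_lit 0x1024b15) (.node (nat_lit 0x1024b0f) (.node (nat_lit 0x1024b0d) (.leaf (nat_lit 0x1024b0b) (nat_lit 2561))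
 (.leaf (nat_lit 0x1024b0d) (nat_lit 2818))
) (.node (nat_lit 0x1024b11) (.leaf (nat_lit 0x1024b0f) (nat_lit 2562))
 (.node (nat_lit 0x1024b13) (.leaf (nat_lit 0x1024b11) (nat_lit 3072))
 (.leaf (nat_lit 0x1024b13) (nat_lit 2816))
))) (.node (nat_lit 0x1024b19) (.node (nat_lit 0x1024b17) (.leaf (nat_lit 0x1024b15) (nat_lit 3074))
 (.leaf (nat_lit 0x1024b17) (nat_lit 2818))
) (.node (nat_lit 0x1024b1b) (.leaf (nat_lit 0x1024b19) (nat_lit 2560))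
 (.node (nat_lit 0x1024b1d) (.leaf (nat_lit 0x1024b1b) (nat_lit 2816))
 (.leaf (nat_lit 0x1024b1d) (nat_lit 3072))
)))) (.node (nat_lit 0x1024b49) (.node (nat_lit 0x1024b43) (.node (nat_lit 0x1024b41) (.leaf (nat_lit 0x1024b1f) (nat_lit 2816))
 (.leaf (nat_lit 0x1024b41) (nat_lit 2309))
) (.node (nat_lit 0x1024b45) (.leaf (nat_lit 0x1024b43) (nat_lit 2565))
 (.node (nat_lit 0x1024b47) (.leaf (nat_lit 0x1024b45) (nat_lit 2821))
 (.leaf (nat_lit 0x1024b47) (nat_lit 2565))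
))) (.node (nat_lit 0x1024b4f) (.node (nat_lit 0x1024b4b) (.leaf (nat_lit 0x1024b49) (nat_lit 2819))
 (.node (nat_lit 0x1024b4d) (.leaf (nat_lit 0x1024b4b) (nat_lit 3075))
 (.leaf (nat_lit 0x1024b4d) (nat_lit 2818))
)) (.node (nat_lit 0x1024b51) (.leaf (nat_lit 0x1024b4f) (nat_lit 2821))
 (.node (nat_lit 0x1024b53) (.leaf (nat_lit 0x1024b51) (nat_lit 3333))
 (.leaf (nat_lit 0x1024b53) (nat_lit 3077))
)))))) (.node (nat_lit 0x1024b9f) (.node (nat_lit 0x1024b89) (.node (nat_lit 0x1024b5f) (.node (nat_lit 0x1024b59) (.node (nat_lit 0x1024b57) (.leaf (nat_lit 0x1024b55) (nat_lit 3077))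
 (.leaf (nat_lit 0x1024b57) (nat_lit 2821))
) (.node (nat_lit 0x1024b5b) (.leaf (nat_lit 0x1024b59) (nat_lit 2821))
 (.node (nat_lit 0x1024b5d) (.leaf (nat_lit 0x1024b5b) (nat_lit 2565))
 (.leaf (nat_lit 0x1024b5d) (nat_lit 2821))
))) (.node (nat_lit 0x1024b83) (.node (nat_lit 0x1024b81) (.leaf (nat_lit 0x1024b5f) (nat_lit 2821))
 (.leaf (nat_lit 0x1024b81) (nat_lit 2049))
) (.node (nat_lit 0x1024b85) (.leaf (nat_lit 0x1024b83) (nat_lit 2305))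
 (.node (nat_lit 0x1024b87) (.leaf (nat_lit 0x1024b85) (nat_lit 2820))
 (.leaf (nat_lit 0x1024b87) (nat_lit 2817))
)))) (.node (nat_lit 0x1024b93) (.node (nat_lit 0x1024b8d) (.node (nat_lit 0x1024b8b) (.leaf (nat_lit 0x1024b89) (nat_lit 3073))
 (.leaf (nat_lit 0x1024b8b) (nat_lit 2817))
) (.node (nat_lit 0x1024b8f) (.leaf (nat_lit 0x1024b8d) (nat_lit 2561))
 (.node (nat_lit 0x1024b91) (.leaf (nat_lit 0x1024b8f) (nat_lit 2305))
 (.leaf (nat_lit 0x1024b91) (nat_lit 2816))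
))) (.node (nat_lit 0x1024b99) (.node (nat_lit 0x1024b95) (.leaf (nat_lit 0x1024b93) (nat_lit 2560))
 (.node (nat_lit 0x1024b97) (.leaf (nat_lit 0x1024b95) (nat_lit 3328))
 (.leaf (nat_lit 0x1024b97) (nat_lit 3072))
)) (.node (nat_lit 0x1024b9b) (.leaf (nat_lit 0x1024b99) (nat_lit 3075))
 (.node (nat_lit 0x1024b9d) (.leaf (nat_lit 0x1024b9b) (nat_lit 2819))
 (.leaf (nat_lit 0x1024b9d) (nat_lit 2304))
))))) (.node (nat_lit 0x1024bd3) (.node (nat_lit 0x1024bc9) (.node (nat_lit 0x1024bc3) (.node (nat_lit 0x1024bc1) (.leaf (nat_lit 0x1024b9f) (nat_lit 2560))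
 (.leaf (nat_lit 0x1024bc1) (nat_lit 2053))
) (.node (nat_lit 0x1024bc5) (.leaf (nat_lit 0x1024bc3) (nat_lit 2309))
 (.node (nat_lit 0x1024bc7) (.leaf (nat_lit 0x1024bc5) (nat_lit 2821))
 (.leaf (nat_lit 0x1024bc7) (nat_lit 2565))
))) (.node (nat_lit 0x1024bcd) (.node (nat_lit 0x1024bcb) (.leaf (nat_lit 0x1024bc9) (nat_lit 3077))
 (.leaf (nat_lit 0x1024bcb) (nat_lit 2821))
) (.node (nat_lit 0x1024bcf) (.leaf (nat_lit 0x1024bcd) (nat_lit 2819))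
 (.node (nat_lit 0x1024bd1) (.leaf (nat_lit 0x1024bcf) (nat_lit 2817))
 (.leaf (nat_lit 0x1024bd1) (nat_lit 3077))
)))) (.node (nat_lit 0x1024bdd) (.node (nat_lit 0x1024bd7) (.node (nat_lit 0x1024bd5) (.leaf (nat_lit 0x1024bd3) (nat_lit 2821))
 (.leaf (nat_lit 0x1024bd5) (nat_lit 3077))
) (.node (nat_lit 0x1024bd9) (.leaf (nat_lit 0x1024bd7) (nat_lit 3077))
 (.node (nat_lit 0x1024bdb) (.leaf (nat_lit 0x1024bd9) (nat_lit 2821))
 (.leaf (nat_lit 0x1024bdb) (nat_lit 2821))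
))) (.node (nat_lit 0x1025903) (.node (nat_lit 0x1024bdf) (.leaf (nat_lit 0x1024bdd) (nat_lit 2565))
 (.node (nat_lit 0x1025901) (.leaf (nat_lit 0x1024bdf) (nat_lit 2309))
 (.leaf (nat_lit 0x1025901) (nat_lit 2307))
)) (.node (nat_lit 0x1025905) (.leaf (nat_lit 0x1025903) (nat_lit 2563))
 (.node (nat_lit 0x1025907) (.leaf (nat_lit 0x1025905) (nat_lit 3075))
 (.leaf (nat_lit 0x1025907) (nat_lit 2819))
))))))) (.node (nat_lit 0x102599d) (.node (nat_lit 0x1025953) (.node (nat_lit 0x102591d) (.node (nat_lit 0x1025913) (.node (nat_lit 0x102590d) (.node (nat_lit 0x102590b) (.leaf (nat_lit 0x1025909) (nat_lit 2563))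
 (.leaf (nat_lit 0x102590b) (nat_lit 2563))
) (.node (nat_lit 0x102590f) (.leaf (nat_lit 0x102590d) (nat_lit 3074))
 (.node (nat_lit 0x1025911) (.leaf (nat_lit 0x102590f) (nat_lit 2818))
 (.leaf (nat_lit 0x1025911) (nat_lit 3585))
))) (.node (nat_lit 0x1025917) (.node (nat_lit 0x1025915) (.leaf (nat_lit 0x1025913) (nat_lit 3329))
 (.leaf (nat_lit 0x1025915) (nat_lit 3072))
) (.node (nat_lit 0x1025919) (.leaf (nat_lit 0x1025917) (nat_lit 2816))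
 (.node (nat_lit 0x102591b) (.leaf (nat_lit 0x1025919) (nat_lit 3330))
 (.leaf (nat_lit 0x102591b) (nat_lit 3074))
)))) (.node (nat_lit 0x1025947) (.node (nat_lit 0x1025941) (.node (nat_lit 0x102591f) (.leaf (nat_lit 0x102591d) (nat_lit 2817))
 (.leaf (nat_lit 0x102591f) (nat_lit 2561))
) (.node (nat_lit 0x1025943) (.leaf (nat_lit 0x1025941) (nat_lit 2053))
 (.node (nat_lit 0x1025945) (.leaf (nat_lit 0x1025943) (nat_lit 2309))
 (.leaf (nat_lit 0x1025945) (nat_lit 2565))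
))) (.node (nat_lit 0x102594d) (.node (nat_lit 0x1025949) (.leaf (nat_lit 0x1025947) (nat_lit 2309))
 (.node (nat_lit 0x102594b) (.leaf (nat_lit 0x1025949) (nat_lit 2565))
 (.leaf (nat_lit 0x102594b) (nat_lit 2309))
)) (.node (nat_lit 0x102594f) (.leaf (nat_lit 0x102594d) (nat_lit 2565))
 (.node (nat_lit 0x1025951) (.leaf (nat_lit 0x102594f) (nat_lit 2309))
 (.leaf (nat_lit 0x1025951) (nat_lit 3077))
))))) (.node (nat_lit 0x1025987) (.node (nat_lit 0x102595d) (.node (nat_lit 0x1025957) (.node (nat_lit 0x1025955) (.leaf (nat_lit 0x1025953) (nat_lit 3077))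
 (.leaf (nat_lit 0x1025955) (nat_lit 3077))
) (.node (nat_lit 0x1025959) (.leaf (nat_lit 0x1025957) (nat_lit 2821))
 (.node (nat_lit 0x102595b) (.leaf (nat_lit 0x1025959) (nat_lit 3074))
 (.leaf (nat_lit 0x102595b) (nat_lit 3073))
))) (.node (nat_lit 0x1025981) (.node (nat_lit 0x102595f) (.leaf (nat_lit 0x102595d) (nat_lit 2817))
 (.leaf (nat_lit 0x102595f) (nat_lit 2821))
) (.node (nat_lit 0x1025983) (.leaf (nat_lit 0x1025981) (nat_lit 2051))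
 (.node (nat_lit 0x1025985) (.leaf (nat_lit 0x1025983) (nat_lit 2307))
 (.leaf (nat_lit 0x1025985) (nat_lit 2821))
)))) (.node (nat_lit 0x1025991) (.node (nat_lit 0x102598b) (.node (nat_lit 0x1025989) (.leaf (nat_lit 0x1025987) (nat_lit 2819))
 (.leaf (nat_lit 0x1025989) (nat_lit 3074))
) (.node (nat_lit 0x102598d) (.leaf (nat_lit 0x102598b) (nat_lit 2818))
 (.node (nat_lit 0x102598f) (.leaf (nat_lit 0x102598d) (nat_lit 2307))
 (.leaf (nat_lit 0x102598f) (nat_lit 2307))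
))) (.node (nat_lit 0x1025997) (.node (nat_lit 0x1025993) (.leaf (nat_lit 0x1025991) (nat_lit 3328))
 (.node (nat_lit 0x1025995) (.leaf (nat_lit 0x1025993) (nat_lit 3072))
 (.leaf (nat_lit 0x1025995) (nat_lit 3073))
)) (.node (nat_lit 0x1025999) (.leaf (nat_lit 0x1025997) (nat_lit 2817))
 (.node (nat_lit 0x102599b) (.leaf (nat_lit 0x1025999) (nat_lit 2817))
 (.leaf (nat_lit 0x102599b) (nat_lit 2561))
)))))) (.node (nat_lit 0x1025b07) (.node (nat_lit 0x10259d1) (.node (nat_lit 0x10259c7) (.node (nat_lit 0x10259c1) (.node (nat_lit 0x102599f) (.leaf (nat_lit 0x102599d) (nat_lit 3073))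
 (.leaf (nat_lit 0x102599f) (nat_lit 2817))
) (.node (nat_lit 0x10259c3) (.leaf (nat_lit 0x10259c1) (nat_lit 1797))
 (.node (nat_lit 0x10259c5) (.leaf (nat_lit 0x10259c3) (nat_lit 2053))
 (.leaf (nat_lit 0x10259c5) (nat_lit 2821))
))) (.node (nat_lit 0x10259cb) (.node (nat_lit 0x10259c9) (.leaf (nat_lit 0x10259c7) (nat_lit 2565))
 (.leaf (nat_lit 0x10259c9) (nat_lit 2821))
) (.node (nat_lit 0x10259cd) (.leaf (nat_lit 0x10259cb) (nat_lit 2565))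
 (.node (nat_lit 0x10259cf) (.leaf (nat_lit 0x10259cd) (nat_lit 2309))
 (.leaf (nat_lit 0x10259cf) (nat_lit 2053))
)))) (.node (nat_lit 0x10259db) (.node (nat_lit 0x10259d5) (.node (nat_lit 0x10259d3) (.leaf (nat_lit 0x10259d1) (nat_lit 3077))
 (.leaf (nat_lit 0x10259d3) (nat_lit 2821))
) (.node (nat_lit 0x10259d7) (.leaf (nat_lit 0x10259d5) (nat_lit 2821))
 (.node (nat_lit 0x10259d9) (.leaf (nat_lit 0x10259d7) (nat_lit 2565))
 (.leaf (nat_lit 0x10259d9) (nat_lit 2561))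
))) (.node (nat_lit 0x1025b01) (.node (nat_lit 0x10259dd) (.leaf (nat_lit 0x10259db) (nat_lit 2817))
 (.node (nat_lit 0x10259df) (.leaf (nat_lit 0x10259dd) (nat_lit 2818))
 (.leaf (nat_lit 0x10259df) (nat_lit 3074))
)) (.node (nat_lit 0x1025b03) (.leaf (nat_lit 0x1025b01) (nat_lit 2049))
 (.node (nat_lit 0x1025b05) (.leaf (nat_lit 0x1025b03) (nat_lit 2305))
 (.leaf (nat_lit 0x1025b05) (nat_lit 3073))
))))) (.node (nat_lit 0x1025b1b) (.node (nat_lit 0x1025b11) (.node (nat_lit 0x1025b0b) (.node (nat_lit 0x1025b09) (.leaf (nat_lit 0x1025b07) (nat_lit 2817))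
 (.leaf (nat_lit 0x1025b09) (nat_lit 3074))
) (.node (nat_lit 0x1025b0d) (.leaf (nat_lit 0x1025b0b) (nat_lit 2818))
 (.node (nat_lit 0x1025b0f) (.leaf (nat_lit 0x1025b0d) (nat_lit 2561))
 (.leaf (nat_lit 0x1025b0f) (nat_lit 2305))
))) (.node (nat_lit 0x1025b15) (.node (nat_lit 0x1025b13) (.leaf (nat_lit 0x1025b11) (nat_lit 3330))
 (.leaf (nat_lit 0x1025b13) (nat_lit 3074))
) (.node (nat_lit 0x1025b17) (.leaf (nat_lit 0x1025b15) (nat_lit 2816))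
 (.node (nat_lit 0x1025b19) (.leaf (nat_lit 0x1025b17) (nat_lit 2560))
 (.leaf (nat_lit 0x1025b19) (nat_lit 2304))
)))) (.node (nat_lit 0x1025b45) (.node (nat_lit 0x1025b1f) (.node (nat_lit 0x1025b1d) (.leaf (nat_lit 0x1025b1b) (nat_lit 2560))
 (.leaf (nat_lit 0x1025b1d) (nat_lit 3073))
) (.node (nat_lit 0x1025b41) (.leaf (nat_lit 0x1025b1f) (nat_lit 3072))
 (.node (nat_lit 0x1025b43) (.leaf (nat_lit 0x1025b41) (nat_lit 2053))
 (.leaf (nat_lit 0x1025b43) (nat_lit 2309))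
))) (.node (nat_lit 0x1025b4b) (.node (nat_lit 0x1025b47) (.leaf (nat_lit 0x1025b45) (nat_lit 2821))
 (.node (nat_lit 0x1025b49) (.leaf (nat_lit 0x1025b47) (nat_lit 2565))
 (.leaf (nat_lit 0x1025b49) (nat_lit 3074))
)) (.node (nat_lit 0x1025b4d) (.leaf (nat_lit 0x1025b4b) (nat_lit 3073))
 (.node (nat_lit 0x1025b4f) (.leaf (nat_lit 0x1025b4d) (nat_lit 2563))
 (.leaf (nat_lit 0x1025b4f) (nat_lit 2565))
)))))))) (.node (nat_lit 0x1026159) (.node (nat_lit 0x1026045) (.node (nat_lit 0x1025b9b) (.node (nat_lit 0x1025b85) (.node (nat_lit 0x1025b5b) (.node (nat_lit 0x1025b55) (.node (nat_lit 0x1025b53) (.leaf (nat_lit 0x1025b51) (nat_lit 3333))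
 (.leaf (nat_lit 0x1025b53) (nat_lit 3333))
) (.node (nat_lit 0x1025b57) (.leaf (nat_lit 0x1025b55) (nat_lit 2821))
 (.node (nat_lit 0x1025b59) (.leaf (nat_lit 0x1025b57) (nat_lit 2565))
 (.leaf (nat_lit 0x1025b59) (nat_lit 2565))
))) (.node (nat_lit 0x1025b5f) (.node (nat_lit 0x1025b5d) (.leaf (nat_lit 0x1025b5b) (nat_lit 2309))
 (.leaf (nat_lit 0x1025b5d) (nat_lit 2821))
) (.node (nat_lit 0x1025b81) (.leaf (nat_lit 0x1025b5f) (nat_lit 2565))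
 (.node (nat_lit 0x1025b83) (.leaf (nat_lit 0x1025b81) (nat_lit 2305))
 (.leaf (nat_lit 0x1025b83) (nat_lit 2561))
)))) (.node (nat_lit 0x1025b8f) (.node (nat_lit 0x1025b89) (.node (nat_lit 0x1025b87) (.leaf (nat_lit 0x1025b85) (nat_lit 2817))
 (.leaf (nat_lit 0x1025b87) (nat_lit 2561))
) (.node (nat_lit 0x1025b8b) (.leaf (nat_lit 0x1025b89) (nat_lit 2817))
 (.node (nat_lit 0x1025b8d) (.leaf (nat_lit 0x1025b8b) (nat_lit 2561))
 (.leaf (nat_lit 0x1025b8d) (nat_lit 2817))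
))) (.node (nat_lit 0x1025b95) (.node (nat_lit 0x1025b91) (.leaf (nat_lit 0x1025b8f) (nat_lit 2561))
 (.node (nat_lit 0x1025b93) (.leaf (nat_lit 0x1025b91) (nat_lit 3072))
 (.leaf (nat_lit 0x1025b93) (nat_lit 2816))
)) (.node (nat_lit 0x1025b97) (.leaf (nat_lit 0x1025b95) (nat_lit 3072))
 (.node (nat_lit 0x1025b99) (.leaf (nat_lit 0x1025b97) (nat_lit 2816))
 (.leaf (nat_lit 0x1025b99) (nat_lit 3072))
))))) (.node (nat_lit 0x1025bcf) (.node (nat_lit 0x1025bc5) (.node (nat_lit 0x1025b9f) (.node (nat_lit 0x1025b9d) (.leaf (nat_lit 0x1025b9b) (nat_lit 2816))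
 (.leaf (nat_lit 0x1025b9d) (nat_lit 2560))
) (.node (nat_lit 0x1025bc1) (.leaf (nat_lit 0x1025b9f) (nat_lit 2563))
 (.node (nat_lit 0x1025bc3) (.leaf (nat_lit 0x1025bc1) (nat_lit 2053))
 (.leaf (nat_lit 0x1025bc3) (nat_lit 2309))
))) (.node (nat_lit 0x1025bc9) (.node (nat_lit 0x1025bc7) (.leaf (nat_lit 0x1025bc5) (nat_lit 3077))
 (.leaf (nat_lit 0x1025bc7) (nat_lit 2821))
) (.node (nat_lit 0x1025bcb) (.leaf (nat_lit 0x1025bc9) (nat_lit 2819))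
 (.node (nat_lit 0x1025bcd) (.leaf (nat_lit 0x1025bcb) (nat_lit 2819))
 (.leaf (nat_lit 0x1025bcd) (nat_lit 3074))
)))) (.node (nat_lit 0x1025bd9) (.node (nat_lit 0x1025bd3) (.node (nat_lit 0x1025bd1) (.leaf (nat_lit 0x1025bcf) (nat_lit 3077))
 (.leaf (nat_lit 0x1025bd1) (nat_lit 3333))
) (.node (nat_lit 0x1025bd5) (.leaf (nat_lit 0x1025bd3) (nat_lit 3077))
 (.node (nat_lit 0x1025bd7) (.leaf (nat_lit 0x1025bd5) (nat_lit 3077))
 (.leaf (nat_lit 0x1025bd7) (nat_lit 2821))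
))) (.node (nat_lit 0x1025bdf) (.node (nat_lit 0x1025bdb) (.leaf (nat_lit 0x1025bd9) (nat_lit 3077))
 (.node (nat_lit 0x1025bdd) (.leaf (nat_lit 0x1025bdb) (nat_lit 2821))
 (.leaf (nat_lit 0x1025bdd) (nat_lit 2565))
)) (.node (nat_lit 0x1026041) (.leaf (nat_lit 0x1025bdf) (nat_lit 2309))
 (.node (nat_lit 0x1026043) (.leaf (nat_lit 0x1026041) (nat_lit 1026))
 (.leaf (nat_lit 0x1026043) (nat_lit 1282))
)))))) (.node (nat_lit 0x10260cf) (.node (nat_lit 0x1026059) (.node (nat_lit 0x102604f) (.node (nat_lit 0x1026049) (.node (nat_lit 0x1026047) (.leaf (nat_lit 0x1026045) (nat_lit 2050))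
 (.leaf (nat_lit 0x1026047) (nat_lit 1794))
) (.node (nat_lit 0x102604b) (.leaf (nat_lit 0x1026049) (nat_lit 2564))
 (.node (nat_lit 0x102604d) (.leaf (nat_lit 0x102604b) (nat_lit 2308))
 (.leaf (nat_lit 0x102604d) (nat_lit 2307))
))) (.node (nat_lit 0x1026053) (.node (nat_lit 0x1026051) (.leaf (nat_lit 0x102604f) (nat_lit 2051))
 (.leaf (nat_lit 0x1026051) (nat_lit 3074))
) (.node (nat_lit 0x1026055) (.leaf (nat_lit 0x1026053) (nat_lit 3330))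
 (.node (nat_lit 0x1026057) (.leaf (nat_lit 0x1026055) (nat_lit 2819))
 (.leaf (nat_lit 0x1026057) (nat_lit 2563))
)))) (.node (nat_lit 0x10260c3) (.node (nat_lit 0x102605d) (.node (nat_lit 0x102605b) (.leaf (nat_lit 0x1026059) (nat_lit 2049))
 (.leaf (nat_lit 0x102605b) (nat_lit 1793))
) (.node (nat_lit 0x102605f) (.leaf (nat_lit 0x102605d) (nat_lit 2050))
 (.node (nat_lit 0x10260c1) (.leaf (nat_lit 0x102605f) (nat_lit 1794))
 (.leaf (nat_lit 0x10260c1) (nat_lit 1282))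
))) (.node (nat_lit 0x10260c9) (.node (nat_lit 0x10260c5) (.leaf (nat_lit 0x10260c3) (nat_lit 1538))
 (.node (nat_lit 0x10260c7) (.leaf (nat_lit 0x10260c5) (nat_lit 1794))
 (.leaf (nat_lit 0x10260c7) (nat_lit 1538))
)) (.node (nat_lit 0x10260cb) (.leaf (nat_lit 0x10260c9) (nat_lit 2563))
 (.node (nat_lit 0x10260cd) (.leaf (nat_lit 0x10260cb) (nat_lit 2307))
 (.leaf (nat_lit 0x10260cd) (nat_lit 2563))
))))) (.node (nat_lit 0x1026143) (.node (nat_lit 0x10260d9) (.node (nat_lit 0x10260d3) (.node (nat_lit 0x10260d1) (.leaf (nat_lit 0x10260cf) (nat_lit 2564))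
 (.leaf (nat_lit 0x10260d1) (nat_lit 3075))
) (.node (nat_lit 0x10260d5) (.leaf (nat_lit 0x10260d3) (nat_lit 2819))
 (.node (nat_lit 0x10260d7) (.leaf (nat_lit 0x10260d5) (nat_lit 3075))
 (.leaf (nat_lit 0x10260d7) (nat_lit 3331))
))) (.node (nat_lit 0x10260dd) (.node (nat_lit 0x10260db) (.leaf (nat_lit 0x10260d9) (nat_lit 2048))
 (.leaf (nat_lit 0x10260db) (nat_lit 2050))
) (.node (nat_lit 0x10260df) (.leaf (nat_lit 0x10260dd) (nat_lit 2049))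
 (.node (nat_lit 0x1026141) (.leaf (nat_lit 0x10260df) (nat_lit 1793))
 (.leaf (nat_lit 0x1026141) (nat_lit 1795))
)))) (.node (nat_lit 0x102614d) (.node (nat_lit 0x1026147) (.node (nat_lit 0x1026145) (.leaf (nat_lit 0x1026143) (nat_lit 2051))
 (.leaf (nat_lit 0x1026145) (nat_lit 2307))
) (.node (nat_lit 0x1026149) (.leaf (nat_lit 0x1026147) (nat_lit 2051))
 (.node (nat_lit 0x102614b) (.leaf (nat_lit 0x1026149) (nat_lit 2307))
 (.leaf (nat_lit 0x102614b) (nat_lit 2051))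
))) (.node (nat_lit 0x1026153) (.node (nat_lit 0x102614f) (.leaf (nat_lit 0x102614d) (nat_lit 2307))
 (.node (nat_lit 0x1026151) (.leaf (nat_lit 0x102614f) (nat_lit 2306))
 (.leaf (nat_lit 0x1026151) (nat_lit 2819))
)) (.node (nat_lit 0x1026155) (.leaf (nat_lit 0x1026153) (nat_lit 2563))
 (.node (nat_lit 0x1026157) (.leaf (nat_lit 0x1026155) (nat_lit 2819))
 (.leaf (nat_lit 0x1026157) (nat_lit 2818))
))))))) (.node (nat_lit 0x10262cd) (.node (nat_lit 0x1026243) (.node (nat_lit 0x10261cd) (.node (nat_lit 0x10261c3) (.node (nat_lit 0x102615d) (.node (nat_lit 0x102615b) (.leaf (nat_lit 0x1026159) (nat_lit 2819))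
 (.leaf (nat_lit 0x102615b) (nat_lit 3075))
) (.node (nat_lit 0x102615f) (.leaf (nat_lit 0x102615d) (nat_lit 2817))
 (.node (nat_lit 0x10261c1) (.leaf (nat_lit 0x102615f) (nat_lit 2818))
 (.leaf (nat_lit 0x10261c1) (nat_lit 1539))
))) (.node (nat_lit 0x10261c7) (.node (nat_lit 0x10261c5) (.leaf (nat_lit 0x10261c3) (nat_lit 1795))
 (.leaf (nat_lit 0x10261c5) (nat_lit 2563))
) (.node (nat_lit 0x10261c9) (.leaf (nat_lit 0x10261c7) (nat_lit 2307))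
 (.node (nat_lit 0x10261cb) (.leaf (nat_lit 0x10261c9) (nat_lit 2564))
 (.leaf (nat_lit 0x10261cb) (nat_lit 2308))
)))) (.node (nat_lit 0x10261d7) (.node (nat_lit 0x10261d1) (.node (nat_lit 0x10261cf) (.leaf (nat_lit 0x10261cd) (nat_lit 2051))
 (.leaf (nat_lit 0x10261cf) (nat_lit 1795))
) (.node (nat_lit 0x10261d3) (.leaf (nat_lit 0x10261d1) (nat_lit 2818))
 (.node (nat_lit 0x10261d5) (.leaf (nat_lit 0x10261d3) (nat_lit 2562))
 (.leaf (nat_lit 0x10261d5) (nat_lit 2563))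
))) (.node (nat_lit 0x10261dd) (.node (nat_lit 0x10261d9) (.leaf (nat_lit 0x10261d7) (nat_lit 2307))
 (.node (nat_lit 0x10261db) (.leaf (nat_lit 0x10261d9) (nat_lit 2563))
 (.leaf (nat_lit 0x10261db) (nat_lit 2819))
)) (.node (nat_lit 0x10261df) (.leaf (nat_lit 0x10261dd) (nat_lit 2818))
 (.node (nat_lit 0x1026241) (.leaf (nat_lit 0x10261df) (nat_lit 3074))
 (.leaf (nat_lit 0x1026241) (nat_lit 2051))
))))) (.node (nat_lit 0x1026257) (.node (nat_lit 0x102624d) (.node (nat_lit 0x1026247) (.node (nat_lit 0x1026245) (.leaf (nat_lit 0x1026243) (nat_lit 2307))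
 (.leaf (nat_lit 0x1026245) (nat_lit 2563))
) (.node (nat_lit 0x1026249) (.leaf (nat_lit 0x1026247) (nat_lit 2307))
 (.node (nat_lit 0x102624b) (.leaf (nat_lit 0x1026249) (nat_lit 2563))
 (.leaf (nat_lit 0x102624b) (nat_lit 2307))
))) (.node (nat_lit 0x1026251) (.node (nat_lit 0x102624f) (.leaf (nat_lit 0x102624d) (nat_lit 2562))
 (.leaf (nat_lit 0x102624f) (nat_lit 2306))
) (.node (nat_lit 0x1026253) (.leaf (nat_lit 0x1026251) (nat_lit 2563))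
 (.node (nat_lit 0x1026255) (.leaf (nat_lit 0x1026253) (nat_lit 2307))
 (.leaf (nat_lit 0x1026255) (nat_lit 2563))
)))) (.node (nat_lit 0x10262c1) (.node (nat_lit 0x102625b) (.node (nat_lit 0x1026259) (.leaf (nat_lit 0x1026257) (nat_lit 2819))
 (.leaf (nat_lit 0x1026259) (nat_lit 2563))
) (.node (nat_lit 0x102625d) (.leaf (nat_lit 0x102625b) (nat_lit 2819))
 (.node (nat_lit 0x102625f) (.leaf (nat_lit 0x102625d) (nat_lit 2562))
 (.leaf (nat_lit 0x102625f) (nat_lit 2818))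
))) (.node (nat_lit 0x10262c7) (.node (nat_lit 0x10262c3) (.leaf (nat_lit 0x10262c1) (nat_lit 1795))
 (.node (nat_lit 0x10262c5) (.leaf (nat_lit 0x10262c3) (nat_lit 2051))
 (.leaf (nat_lit 0x10262c5) (nat_lit 2819))
)) (.node (nat_lit 0x10262c9) (.leaf (nat_lit 0x10262c7) (nat_lit 2563))
 (.node (nat_lit 0x10262cb) (.leaf (nat_lit 0x10262c9) (nat_lit 2818))
 (.leaf (nat_lit 0x10262cb) (nat_lit 2562))
)))))) (.node (nat_lit 0x1026357) (.node (nat_lit 0x1026341) (.node (nat_lit 0x10262d7) (.node (nat_lit 0x10262d1) (.node (nat_lit 0x10262cf) (.leaf (nat_lit 0x10262cd) (nat_lit 2307))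
 (.leaf (nat_lit 0x10262cf) (nat_lit 2051))
) (.node (nat_lit 0x10262d3) (.leaf (nat_lit 0x10262d1) (nat_lit 2819))
 (.node (nat_lit 0x10262d5) (.leaf (nat_lit 0x10262d3) (nat_lit 2817))
 (.leaf (nat_lit 0x10262d5) (nat_lit 2307))
))) (.node (nat_lit 0x10262db) (.node (nat_lit 0x10262d9) (.leaf (nat_lit 0x10262d7) (nat_lit 2051))
 (.leaf (nat_lit 0x10262d9) (nat_lit 2307))
) (.node (nat_lit 0x10262dd) (.leaf (nat_lit 0x10262db) (nat_lit 2563))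
 (.node (nat_lit 0x10262df) (.leaf (nat_lit 0x10262dd) (nat_lit 2818))
 (.leaf (nat_lit 0x10262df) (nat_lit 2818))
)))) (.node (nat_lit 0x102634b) (.node (nat_lit 0x1026345) (.node (nat_lit 0x1026343) (.leaf (nat_lit 0x1026341) (nat_lit 1281))
 (.leaf (nat_lit 0x1026343) (nat_lit 1537))
) (.node (nat_lit 0x1026347) (.leaf (nat_lit 0x1026345) (nat_lit 2050))
 (.node (nat_lit 0x1026349) (.leaf (nat_lit 0x1026347) (nat_lit 1794))
 (.leaf (nat_lit 0x1026349) (nat_lit 2820))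
))) (.node (nat_lit 0x1026351) (.node (nat_lit 0x102634d) (.leaf (nat_lit 0x102634b) (nat_lit 2564))
 (.node (nat_lit 0x102634f) (.leaf (nat_lit 0x102634d) (nat_lit 2563))
 (.leaf (nat_lit 0x102634f) (nat_lit 2307))
)) (.node (nat_lit 0x1026353) (.leaf (nat_lit 0x1026351) (nat_lit 2820))
 (.node (nat_lit 0x1026355) (.leaf (nat_lit 0x1026353) (nat_lit 3076))
 (.leaf (nat_lit 0x1026355) (nat_lit 2563))
))))) (.node (nat_lit 0x10263cb) (.node (nat_lit 0x10263c1) (.node (nat_lit 0x102635b) (.node (nat_lit 0x1026359) (.leaf (nat_lit 0x1026357) (nat_lit 2563))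
 (.leaf (nat_lit 0x1026359) (nat_lit 1792))
) (.node (nat_lit 0x102635d) (.leaf (nat_lit 0x102635b) (nat_lit 1536))
 (.node (nat_lit 0x102635f) (.leaf (nat_lit 0x102635d) (nat_lit 2050))
 (.leaf (nat_lit 0x102635f) (nat_lit 2049))
))) (.node (nat_lit 0x10263c5) (.node (nat_lit 0x10263c3) (.leaf (nat_lit 0x10263c1) (nat_lit 1282))
 (.leaf (nat_lit 0x10263c3) (nat_lit 1538))
) (.node (nat_lit 0x10263c7) (.leaf (nat_lit 0x10263c5) (nat_lit 2049))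
 (.node (nat_lit 0x10263c9) (.leaf (nat_lit 0x10263c7) (nat_lit 1793))
 (.leaf (nat_lit 0x10263c9) (nat_lit 2819))
)))) (.node (nat_lit 0x10263d5) (.node (nat_lit 0x10263cf) (.node (nat_lit 0x10263cd) (.leaf (nat_lit 0x10263cb) (nat_lit 2563))
 (.leaf (nat_lit 0x10263cd) (nat_lit 2818))
) (.node (nat_lit 0x10263d1) (.leaf (nat_lit 0x10263cf) (nat_lit 2562))
 (.node (nat_lit 0x10263d3) (.leaf (nat_lit 0x10263d1) (nat_lit 2818))
 (.leaf (nat_lit 0x10263d3) (nat_lit 2819))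
))) (.node (nat_lit 0x10263db) (.node (nat_lit 0x10263d7) (.leaf (nat_lit 0x10263d5) (nat_lit 2819))
 (.node (nat_lit 0x10263d9) (.leaf (nat_lit 0x10263d7) (nat_lit 3075))
 (.leaf (nat_lit 0x10263d9) (nat_lit 2048))
)) (.node (nat_lit 0x10263dd) (.leaf (nat_lit 0x10263db) (nat_lit 2304))
 (.node (nat_lit 0x10263df) (.leaf (nat_lit 0x10263dd) (nat_lit 1794))
 (.leaf (nat_lit 0x10263df) (nat_lit 1538))
)))))))))))) (.node (nat_lit 0x1035301) (.node (nat_lit 0x1032141) (.node (nat_lit 0x1027ac1) (.node (nat_lit 0x1027151) (.node (nat_lit 0x1026ac9) (.node (nat_lit 0x1026915) (.node (nat_lit 0x10268cb) (.node (nat_lit 0x1026855) (.node (nat_lit 0x102684b) (.node (nat_lit 0x1026845) (.node (nat_lit 0x1026843) (.leaf (nat_lit 0x1026841) (nat_lit 1285))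
 (.leaf (nat_lit 0x1026843) (nat_lit 1541))
) (.node (nat_lit 0x1026847) (.leaf (nat_lit 0x1026845) (nat_lit 2309))
 (.node (nat_lit 0x1026849) (.leaf (nat_lit 0x1026847) (nat_lit 2053))
 (.leaf (nat_lit 0x1026849) (nat_lit 2821))
))) (.node (nat_lit 0x102684f) (.node (nat_lit 0x102684d) (.leaf (nat_lit 0x102684b) (nat_lit 2565))
 (.leaf (nat_lit 0x102684d) (nat_lit 2307))
) (.node (nat_lit 0x1026851) (.leaf (nat_lit 0x102684f) (nat_lit 2309))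
 (.node (nat_lit 0x1026853) (.leaf (nat_lit 0x1026851) (nat_lit 3333))
 (.leaf (nat_lit 0x1026853) (nat_lit 3330))
)))) (.node (nat_lit 0x102685f) (.node (nat_lit 0x1026859) (.node (nat_lit 0x1026857) (.leaf (nat_lit 0x1026855) (nat_lit 3077))
 (.leaf (nat_lit 0x1026857) (nat_lit 2821))
) (.node (nat_lit 0x102685b) (.leaf (nat_lit 0x1026859) (nat_lit 2049))
 (.node (nat_lit 0x102685d) (.leaf (nat_lit 0x102685b) (nat_lit 2053))
 (.leaf (nat_lit 0x102685d) (nat_lit 2050))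
))) (.node (nat_lit 0x10268c5) (.node (nat_lit 0x10268c1) (.leaf (nat_lit 0x102685f) (nat_lit 2053))
 (.node (nat_lit 0x10268c3) (.leaf (nat_lit 0x10268c1) (nat_lit 1285))
 (.leaf (nat_lit 0x10268c3) (nat_lit 1541))
)) (.node (nat_lit 0x10268c7) (.leaf (nat_lit 0x10268c5) (nat_lit 1797))
 (.node (nat_lit 0x10268c9) (.leaf (nat_lit 0x10268c7) (nat_lit 1541))
 (.leaf (nat_lit 0x10268c9) (nat_lit 2821))
))))) (.node (nat_lit 0x10268df) (.node (nat_lit 0x10268d5) (.node (nat_lit 0x10268cf) (.node (nat_lit 0x10268cd) (.leaf (nat_lit 0x10268cb) (nat_lit 2565))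
 (.leaf (nat_lit 0x10268cd) (nat_lit 2821))
) (.node (nat_lit 0x10268d1) (.leaf (nat_lit 0x10268cf) (nat_lit 2565))
 (.node (nat_lit 0x10268d3) (.leaf (nat_lit 0x10268d1) (nat_lit 3333))
 (.leaf (nat_lit 0x10268d3) (nat_lit 3077))
))) (.node (nat_lit 0x10268d9) (.node (nat_lit 0x10268d7) (.leaf (nat_lit 0x10268d5) (nat_lit 3333))
 (.leaf (nat_lit 0x10268d7) (nat_lit 3329))
) (.node (nat_lit 0x10268db) (.leaf (nat_lit 0x10268d9) (nat_lit 2309))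
 (.node (nat_lit 0x10268dd) (.leaf (nat_lit 0x10268db) (nat_lit 2053))
 (.leaf (nat_lit 0x10268dd) (nat_lit 2049))
)))) (.node (nat_lit 0x1026909) (.node (nat_lit 0x1026903) (.node (nat_lit 0x1026901) (.leaf (nat_lit 0x10268df) (nat_lit 2305))
 (.leaf (nat_lit 0x1026901) (nat_lit 2307))
) (.node (nat_lit 0x1026905) (.leaf (nat_lit 0x1026903) (nat_lit 2563))
 (.node (nat_lit 0x1026907) (.leaf (nat_lit 0x1026905) (nat_lit 2819))
 (.leaf (nat_lit 0x1026907) (nat_lit 2563))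
))) (.node (nat_lit 0x102690f) (.node (nat_lit 0x102690b) (.leaf (nat_lit 0x1026909) (nat_lit 2563))
 (.node (nat_lit 0x102690d) (.leaf (nat_lit 0x102690b) (nat_lit 2819))
 (.leaf (nat_lit 0x102690d) (nat_lit 2820))
)) (.node (nat_lit 0x1026911) (.leaf (nat_lit 0x102690f) (nat_lit 2819))
 (.node (nat_lit 0x1026913) (.leaf (nat_lit 0x1026911) (nat_lit 3329))
 (.leaf (nat_lit 0x1026913) (nat_lit 3073))
)))))) (.node (nat_lit 0x102699f) (.node (nat_lit 0x1026989) (.node (nat_lit 0x102691f) (.node (nat_lit 0x1026919) (.node (nat_lit 0x1026917) (.leaf (nat_lit 0x1026915) (nat_lit 3330))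
 (.leaf (nat_lit 0x1026917) (nat_lit 3074))
) (.node (nat_lit 0x102691b) (.leaf (nat_lit 0x1026919) (nat_lit 3329))
 (.node (nat_lit 0x102691d) (.leaf (nat_lit 0x102691b) (nat_lit 3073))
 (.leaf (nat_lit 0x102691d) (nat_lit 3329))
))) (.node (nat_lit 0x1026983) (.node (nat_lit 0x1026981) (.leaf (nat_lit 0x102691f) (nat_lit 3073))
 (.leaf (nat_lit 0x1026981) (nat_lit 1795))
) (.node (nat_lit 0x1026985) (.leaf (nat_lit 0x1026983) (nat_lit 2051))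
 (.node (nat_lit 0x1026987) (.leaf (nat_lit 0x1026985) (nat_lit 2564))
 (.leaf (nat_lit 0x1026987) (nat_lit 2563))
)))) (.node (nat_lit 0x1026993) (.node (nat_lit 0x102698d) (.node (nat_lit 0x102698b) (.leaf (nat_lit 0x1026989) (nat_lit 2820))
 (.leaf (nat_lit 0x102698b) (nat_lit 2819))
) (.node (nat_lit 0x102698f) (.leaf (nat_lit 0x102698d) (nat_lit 2051))
 (.node (nat_lit 0x1026991) (.leaf (nat_lit 0x102698f) (nat_lit 2307))
 (.leaf (nat_lit 0x1026991) (nat_lit 3330))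
))) (.node (nat_lit 0x1026999) (.node (nat_lit 0x1026995) (.leaf (nat_lit 0x1026993) (nat_lit 3074))
 (.node (nat_lit 0x1026997) (.leaf (nat_lit 0x1026995) (nat_lit 2817))
 (.leaf (nat_lit 0x1026997) (nat_lit 2561))
)) (.node (nat_lit 0x102699b) (.leaf (nat_lit 0x1026999) (nat_lit 3072))
 (.node (nat_lit 0x102699d) (.leaf (nat_lit 0x102699b) (nat_lit 2816))
 (.leaf (nat_lit 0x102699d) (nat_lit 3329))
))))) (.node (nat_lit 0x1026a53) (.node (nat_lit 0x1026a49) (.node (nat_lit 0x1026a43) (.node (nat_lit 0x1026a41) (.leaf (nat_lit 0x102699f) (nat_lit 3073))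
 (.leaf (nat_lit 0x1026a41) (nat_lit 2565))
) (.node (nat_lit 0x1026a45) (.leaf (nat_lit 0x1026a43) (nat_lit 2821))
 (.node (nat_lit 0x1026a47) (.leaf (nat_lit 0x1026a45) (nat_lit 2820))
 (.leaf (nat_lit 0x1026a47) (nat_lit 2821))
))) (.node (nat_lit 0x1026a4d) (.node (nat_lit 0x1026a4b) (.leaf (nat_lit 0x1026a49) (nat_lit 2819))
 (.leaf (nat_lit 0x1026a4b) (nat_lit 3075))
) (.node (nat_lit 0x1026a4f) (.leaf (nat_lit 0x1026a4d) (nat_lit 2818))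
 (.node (nat_lit 0x1026a51) (.leaf (nat_lit 0x1026a4f) (nat_lit 2821))
 (.leaf (nat_lit 0x1026a51) (nat_lit 3077))
)))) (.node (nat_lit 0x1026a5d) (.node (nat_lit 0x1026a57) (.node (nat_lit 0x1026a55) (.leaf (nat_lit 0x1026a53) (nat_lit 2821))
 (.leaf (nat_lit 0x1026a55) (nat_lit 3077))
) (.node (nat_lit 0x1026a59) (.leaf (nat_lit 0x1026a57) (nat_lit 3077))
 (.node (nat_lit 0x1026a5b) (.leaf (nat_lit 0x1026a59) (nat_lit 3077))
 (.leaf (nat_lit 0x1026a5b) (nat_lit 2821))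
))) (.node (nat_lit 0x1026ac3) (.node (nat_lit 0x1026a5f) (.leaf (nat_lit 0x1026a5d) (nat_lit 3077))
 (.node (nat_lit 0x1026ac1) (.leaf (nat_lit 0x1026a5f) (nat_lit 2821))
 (.leaf (nat_lit 0x1026ac1) (nat_lit 2053))
)) (.node (nat_lit 0x1026ac5) (.leaf (nat_lit 0x1026ac3) (nat_lit 2309))
 (.node (nat_lit 0x1026ac7) (.leaf (nat_lit 0x1026ac5) (nat_lit 2820))
 (.leaf (nat_lit 0x1026ac7) (nat_lit 2821))
))))))) (.node (nat_lit 0x1026b9d) (.node (nat_lit 0x1026b13) (.node (nat_lit 0x1026add) (.node (nat_lit 0x1026ad3) (.node (nat_lit 0x1026acd) (.node (nat_lit 0x1026acb) (.leaf (nat_lit 0x1026ac9) (nat_lit 2818))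
 (.leaf (nat_lit 0x1026acb) (nat_lit 3074))
) (.node (nat_lit 0x1026acf) (.leaf (nat_lit 0x1026acd) (nat_lit 2307))
 (.node (nat_lit 0x1026ad1) (.leaf (nat_lit 0x1026acf) (nat_lit 2563))
 (.leaf (nat_lit 0x1026ad1) (nat_lit 3077))
))) (.node (nat_lit 0x1026ad7) (.node (nat_lit 0x1026ad5) (.leaf (nat_lit 0x1026ad3) (nat_lit 3076))
 (.leaf (nat_lit 0x1026ad5) (nat_lit 2565))
) (.node (nat_lit 0x1026ad9) (.leaf (nat_lit 0x1026ad7) (nat_lit 2309))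
 (.node (nat_lit 0x1026adb) (.leaf (nat_lit 0x1026ad9) (nat_lit 2821))
 (.leaf (nat_lit 0x1026adb) (nat_lit 2565))
)))) (.node (nat_lit 0x1026b07) (.node (nat_lit 0x1026b01) (.node (nat_lit 0x1026adf) (.leaf (nat_lit 0x1026add) (nat_lit 3077))
 (.leaf (nat_lit 0x1026adf) (nat_lit 2821))
) (.node (nat_lit 0x1026b03) (.leaf (nat_lit 0x1026b01) (nat_lit 1537))
 (.node (nat_lit 0x1026b05) (.leaf (nat_lit 0x1026b03) (nat_lit 1793))
 (.leaf (nat_lit 0x1026b05) (nat_lit 2561))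
))) (.node (nat_lit 0x1026b0d) (.node (nat_lit 0x1026b09) (.leaf (nat_lit 0x1026b07) (nat_lit 2305))
 (.node (nat_lit 0x1026b0b) (.leaf (nat_lit 0x1026b09) (nat_lit 3073))
 (.leaf (nat_lit 0x1026b0b) (nat_lit 2817))
)) (.node (nat_lit 0x1026b0f) (.leaf (nat_lit 0x1026b0d) (nat_lit 2563))
 (.node (nat_lit 0x1026b11) (.leaf (nat_lit 0x1026b0f) (nat_lit 2561))
 (.leaf (nat_lit 0x1026b11) (nat_lit 3328))
))))) (.node (nat_lit 0x1026b87) (.node (nat_lit 0x1026b1d) (.node (nat_lit 0x1026b17) (.node (nat_lit 0x1026b15) (.leaf (nat_lit 0x1026b13) (nat_lit 3072))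
 (.leaf (nat_lit 0x1026b15) (nat_lit 2819))
) (.node (nat_lit 0x1026b19) (.leaf (nat_lit 0x1026b17) (nat_lit 2816))
 (.node (nat_lit 0x1026b1b) (.leaf (nat_lit 0x1026b19) (nat_lit 1792))
 (.leaf (nat_lit 0x1026b1b) (nat_lit 2048))
))) (.node (nat_lit 0x1026b81) (.node (nat_lit 0x1026b1f) (.leaf (nat_lit 0x1026b1d) (nat_lit 2305))
 (.leaf (nat_lit 0x1026b1f) (nat_lit 2305))
) (.node (nat_lit 0x1026b83) (.leaf (nat_lit 0x1026b81) (nat_lit 1537))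
 (.node (nat_lit 0x1026b85) (.leaf (nat_lit 0x1026b83) (nat_lit 1793))
 (.leaf (nat_lit 0x1026b85) (nat_lit 2049))
)))) (.node (nat_lit 0x1026b91) (.node (nat_lit 0x1026b8b) (.node (nat_lit 0x1026b89) (.leaf (nat_lit 0x1026b87) (nat_lit 1793))
 (.leaf (nat_lit 0x1026b89) (nat_lit 3073))
) (.node (nat_lit 0x1026b8d) (.leaf (nat_lit 0x1026b8b) (nat_lit 2817))
 (.node (nat_lit 0x1026b8f) (.leaf (nat_lit 0x1026b8d) (nat_lit 3073))
 (.leaf (nat_lit 0x1026b8f) (nat_lit 2817))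
))) (.node (nat_lit 0x1026b97) (.node (nat_lit 0x1026b93) (.leaf (nat_lit 0x1026b91) (nat_lit 3328))
 (.node (nat_lit 0x1026b95) (.leaf (nat_lit 0x1026b93) (nat_lit 3072))
 (.leaf (nat_lit 0x1026b95) (nat_lit 3328))
)) (.node (nat_lit 0x1026b99) (.leaf (nat_lit 0x1026b97) (nat_lit 3072))
 (.node (nat_lit 0x1026b9b) (.leaf (nat_lit 0x1026b99) (nat_lit 2304))
 (.leaf (nat_lit 0x1026b9b) (nat_lit 2048))
)))))) (.node (nat_lit 0x10270c7) (.node (nat_lit 0x1027051) (.node (nat_lit 0x1027047) (.node (nat_lit 0x1027041) (.node (nat_lit 0x1026b9f) (.leaf (nat_lit 0x1026b9d) (nat_lit 1792))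
 (.leaf (nat_lit 0x1026b9f) (nat_lit 2048))
) (.node (nat_lit 0x1027043) (.leaf (nat_lit 0x1027041) (nat_lit 772))
 (.node (nat_lit 0x1027045) (.leaf (nat_lit 0x1027043) (nat_lit 1028))
 (.leaf (nat_lit 0x1027045) (nat_lit 1796))
))) (.node (nat_lit 0x102704b) (.node (nat_lit 0x1027049) (.leaf (nat_lit 0x1027047) (nat_lit 1540))
 (.leaf (nat_lit 0x1027049) (nat_lit 2563))
) (.node (nat_lit 0x102704d) (.leaf (nat_lit 0x102704b) (nat_lit 2307))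
 (.node (nat_lit 0x102704f) (.leaf (nat_lit 0x102704d) (nat_lit 2308))
 (.leaf (nat_lit 0x102704f) (nat_lit 2052))
)))) (.node (nat_lit 0x102705b) (.node (nat_lit 0x1027055) (.node (nat_lit 0x1027053) (.leaf (nat_lit 0x1027051) (nat_lit 2820))
 (.leaf (nat_lit 0x1027053) (nat_lit 3076))
) (.node (nat_lit 0x1027057) (.leaf (nat_lit 0x1027055) (nat_lit 2820))
 (.node (nat_lit 0x1027059) (.leaf (nat_lit 0x1027057) (nat_lit 2564))
 (.leaf (nat_lit 0x1027059) (nat_lit 2306))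
))) (.node (nat_lit 0x10270c1) (.node (nat_lit 0x102705d) (.leaf (nat_lit 0x102705b) (nat_lit 2050))
 (.node (nat_lit 0x102705f) (.leaf (nat_lit 0x102705d) (nat_lit 1796))
 (.leaf (nat_lit 0x102705f) (nat_lit 1540))
)) (.node (nat_lit 0x10270c3) (.leaf (nat_lit 0x10270c1) (nat_lit 1028))
 (.node (nat_lit 0x10270c5) (.leaf (nat_lit 0x10270c3) (nat_lit 1284))
 (.leaf (nat_lit 0x10270c5) (nat_lit 1540))
))))) (.node (nat_lit 0x10270db) (.node (nat_lit 0x10270d1) (.node (nat_lit 0x10270cb) (.node (nat_lit 0x10270c9) (.leaf (nat_lit 0x10270c7) (nat_lit 1284))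
 (.leaf (nat_lit 0x10270c9) (nat_lit 2564))
) (.node (nat_lit 0x10270cd) (.leaf (nat_lit 0x10270cb) (nat_lit 2308))
 (.node (nat_lit 0x10270cf) (.leaf (nat_lit 0x10270cd) (nat_lit 2564))
 (.leaf (nat_lit 0x10270cf) (nat_lit 2308))
))) (.node (nat_lit 0x10270d5) (.node (nat_lit 0x10270d3) (.leaf (nat_lit 0x10270d1) (nat_lit 3076))
 (.leaf (nat_lit 0x10270d3) (nat_lit 2820))
) (.node (nat_lit 0x10270d7) (.leaf (nat_lit 0x10270d5) (nat_lit 3076))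
 (.node (nat_lit 0x10270d9) (.leaf (nat_lit 0x10270d7) (nat_lit 3073))
 (.leaf (nat_lit 0x10270d9) (nat_lit 2052))
)))) (.node (nat_lit 0x1027145) (.node (nat_lit 0x10270df) (.node (nat_lit 0x10270dd) (.leaf (nat_lit 0x10270db) (nat_lit 1796))
 (.leaf (nat_lit 0x10270dd) (nat_lit 2052))
) (.node (nat_lit 0x1027141) (.leaf (nat_lit 0x10270df) (nat_lit 2050))
 (.node (nat_lit 0x1027143) (.leaf (nat_lit 0x1027141) (nat_lit 1796))
 (.leaf (nat_lit 0x1027143) (nat_lit 2052))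
))) (.node (nat_lit 0x102714b) (.node (nat_lit 0x1027147) (.leaf (nat_lit 0x1027145) (nat_lit 2308))
 (.node (nat_lit 0x1027149) (.leaf (nat_lit 0x1027147) (nat_lit 2052))
 (.leaf (nat_lit 0x1027149) (nat_lit 2308))
)) (.node (nat_lit 0x102714d) (.leaf (nat_lit 0x102714b) (nat_lit 2052))
 (.node (nat_lit 0x102714f) (.leaf (nat_lit 0x102714d) (nat_lit 2308))
 (.leaf (nat_lit 0x102714f) (nat_lit 2052))
)))))))) (.node (nat_lit 0x10273d9) (.node (nat_lit 0x10272c5) (.node (nat_lit 0x10271db) (.node (nat_lit 0x10271c5) (.node (nat_lit 0x102715b) (.node (nat_lit 0x1027155) (.node (nat_lit 0x1027153) (.leaf (nat_lit 0x1027151) (nat_lit 2820))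
 (.leaf (nat_lit 0x1027153) (nat_lit 2818))
) (.node (nat_lit 0x1027157) (.leaf (nat_lit 0x1027155) (nat_lit 2820))
 (.node (nat_lit 0x1027159) (.leaf (nat_lit 0x1027157) (nat_lit 2564))
 (.leaf (nat_lit 0x1027159) (nat_lit 2820))
))) (.node (nat_lit 0x102715f) (.node (nat_lit 0x102715d) (.leaf (nat_lit 0x102715b) (nat_lit 3076))
 (.leaf (nat_lit 0x102715d) (nat_lit 2820))
) (.node (nat_lit 0x10271c1) (.leaf (nat_lit 0x102715f) (nat_lit 2564))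
 (.node (nat_lit 0x10271c3) (.leaf (nat_lit 0x10271c1) (nat_lit 1540))
 (.leaf (nat_lit 0x10271c3) (nat_lit 1796))
)))) (.node (nat_lit 0x10271cf) (.node (nat_lit 0x10271c9) (.node (nat_lit 0x10271c7) (.leaf (nat_lit 0x10271c5) (nat_lit 2564))
 (.leaf (nat_lit 0x10271c7) (nat_lit 2308))
) (.node (nat_lit 0x10271cb) (.leaf (nat_lit 0x10271c9) (nat_lit 2564))
 (.node (nat_lit 0x10271cd) (.leaf (nat_lit 0x10271cb) (nat_lit 2308))
 (.leaf (nat_lit 0x10271cd) (nat_lit 2052))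
))) (.node (nat_lit 0x10271d5) (.node (nat_lit 0x10271d1) (.leaf (nat_lit 0x10271cf) (nat_lit 1796))
 (.node (nat_lit 0x10271d3) (.leaf (nat_lit 0x10271d1) (nat_lit 2564))
 (.leaf (nat_lit 0x10271d3) (nat_lit 2308))
)) (.node (nat_lit 0x10271d7) (.leaf (nat_lit 0x10271d5) (nat_lit 2818))
 (.node (nat_lit 0x10271d9) (.leaf (nat_lit 0x10271d7) (nat_lit 2562))
 (.leaf (nat_lit 0x10271d9) (nat_lit 2818))
))))) (.node (nat_lit 0x102724f) (.node (nat_lit 0x1027245) (.node (nat_lit 0x10271df) (.node (nat_lit 0x10271dd) (.leaf (nat_lit 0x10271db) (nat_lit 2820))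
 (.leaf (nat_lit 0x10271dd) (nat_lit 2564))
) (.node (nat_lit 0x1027241) (.leaf (nat_lit 0x10271df) (nat_lit 2820))
 (.node (nat_lit 0x1027243) (.leaf (nat_lit 0x1027241) (nat_lit 1796))
 (.leaf (nat_lit 0x1027243) (nat_lit 2052))
))) (.node (nat_lit 0x1027249) (.node (nat_lit 0x1027247) (.leaf (nat_lit 0x1027245) (nat_lit 2564))
 (.leaf (nat_lit 0x1027247) (nat_lit 2564))
) (.node (nat_lit 0x102724b) (.leaf (nat_lit 0x1027249) (nat_lit 2820))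
 (.node (nat_lit 0x102724d) (.leaf (nat_lit 0x102724b) (nat_lit 2564))
 (.leaf (nat_lit 0x102724d) (nat_lit 2308))
)))) (.node (nat_lit 0x1027259) (.node (nat_lit 0x1027253) (.node (nat_lit 0x1027251) (.leaf (nat_lit 0x102724f) (nat_lit 2052))
 (.leaf (nat_lit 0x1027251) (nat_lit 2308))
) (.node (nat_lit 0x1027255) (.leaf (nat_lit 0x1027253) (nat_lit 2052))
 (.node (nat_lit 0x1027257) (.leaf (nat_lit 0x1027255) (nat_lit 2820))
 (.leaf (nat_lit 0x1027257) (nat_lit 2817))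
))) (.node (nat_lit 0x102725f) (.node (nat_lit 0x102725b) (.leaf (nat_lit 0x1027259) (nat_lit 2820))
 (.node (nat_lit 0x102725d) (.leaf (nat_lit 0x102725b) (nat_lit 2819))
 (.leaf (nat_lit 0x102725d) (nat_lit 2308))
)) (.node (nat_lit 0x10272c1) (.leaf (nat_lit 0x102725f) (nat_lit 2564))
 (.node (nat_lit 0x10272c3) (.leaf (nat_lit 0x10272c1) (nat_lit 2052))
 (.leaf (nat_lit 0x10272c3) (nat_lit 2308))
)))))) (.node (nat_lit 0x102734f) (.node (nat_lit 0x10272d9) (.node (nat_lit 0x10272cf) (.node (nat_lit 0x10272c9) (.node (nat_lit 0x10272c7) (.leaf (nat_lit 0x10272c5) (nat_lit 2564))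
 (.leaf (nat_lit 0x10272c7) (nat_lit 2308))
) (.node (nat_lit 0x10272cb) (.leaf (nat_lit 0x10272c9) (nat_lit 2564))
 (.node (nat_lit 0x10272cd) (.leaf (nat_lit 0x10272cb) (nat_lit 2308))
 (.leaf (nat_lit 0x10272cd) (nat_lit 2564))
))) (.node (nat_lit 0x10272d3) (.node (nat_lit 0x10272d1) (.leaf (nat_lit 0x10272cf) (nat_lit 2308))
 (.leaf (nat_lit 0x10272d1) (nat_lit 2564))
) (.node (nat_lit 0x10272d5) (.leaf (nat_lit 0x10272d3) (nat_lit 2820))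
 (.node (nat_lit 0x10272d7) (.leaf (nat_lit 0x10272d5) (nat_lit 2564))
 (.leaf (nat_lit 0x10272d7) (nat_lit 2308))
)))) (.node (nat_lit 0x1027343) (.node (nat_lit 0x10272dd) (.node (nat_lit 0x10272db) (.leaf (nat_lit 0x10272d9) (nat_lit 2564))
 (.leaf (nat_lit 0x10272db) (nat_lit 2820))
) (.node (nat_lit 0x10272df) (.leaf (nat_lit 0x10272dd) (nat_lit 2564))
 (.node (nat_lit 0x1027341) (.leaf (nat_lit 0x10272df) (nat_lit 2563))
 (.leaf (nat_lit 0x1027341) (nat_lit 1284))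
))) (.node (nat_lit 0x1027349) (.node (nat_lit 0x1027345) (.leaf (nat_lit 0x1027343) (nat_lit 1540))
 (.node (nat_lit 0x1027347) (.leaf (nat_lit 0x1027345) (nat_lit 1796))
 (.leaf (nat_lit 0x1027347) (nat_lit 1540))
)) (.node (nat_lit 0x102734b) (.leaf (nat_lit 0x1027349) (nat_lit 2820))
 (.node (nat_lit 0x102734d) (.leaf (nat_lit 0x102734b) (nat_lit 2564))
 (.leaf (nat_lit 0x102734d) (nat_lit 2820))
))))) (.node (nat_lit 0x10273c3) (.node (nat_lit 0x1027359) (.node (nat_lit 0x1027353) (.node (nat_lit 0x1027351) (.leaf (nat_lit 0x102734f) (nat_lit 2564))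
 (.leaf (nat_lit 0x1027351) (nat_lit 2820))
) (.node (nat_lit 0x1027355) (.leaf (nat_lit 0x1027353) (nat_lit 3076))
 (.node (nat_lit 0x1027357) (.leaf (nat_lit 0x1027355) (nat_lit 2820))
 (.leaf (nat_lit 0x1027357) (nat_lit 2818))
))) (.node (nat_lit 0x102735d) (.node (nat_lit 0x102735b) (.leaf (nat_lit 0x1027359) (nat_lit 1796))
 (.leaf (nat_lit 0x102735b) (nat_lit 1540))
) (.node (nat_lit 0x102735f) (.leaf (nat_lit 0x102735d) (nat_lit 1796))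
 (.node (nat_lit 0x10273c1) (.leaf (nat_lit 0x102735f) (nat_lit 2052))
 (.leaf (nat_lit 0x10273c1) (nat_lit 1028))
)))) (.node (nat_lit 0x10273cd) (.node (nat_lit 0x10273c7) (.node (nat_lit 0x10273c5) (.leaf (nat_lit 0x10273c3) (nat_lit 1284))
 (.leaf (nat_lit 0x10273c5) (nat_lit 2052))
) (.node (nat_lit 0x10273c9) (.leaf (nat_lit 0x10273c7) (nat_lit 1796))
 (.node (nat_lit 0x10273cb) (.leaf (nat_lit 0x10273c9) (nat_lit 2819))
 (.leaf (nat_lit 0x10273cb) (nat_lit 2563))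
))) (.node (nat_lit 0x10273d3) (.node (nat_lit 0x10273cf) (.leaf (nat_lit 0x10273cd) (nat_lit 2564))
 (.node (nat_lit 0x10273d1) (.leaf (nat_lit 0x10273cf) (nat_lit 2308))
 (.leaf (nat_lit 0x10273d1) (nat_lit 2564))
)) (.node (nat_lit 0x10273d5) (.leaf (nat_lit 0x10273d3) (nat_lit 2820))
 (.node (nat_lit 0x10273d7) (.leaf (nat_lit 0x10273d5) (nat_lit 2819))
 (.leaf (nat_lit 0x10273d7) (nat_lit 2820))
))))))) (.node (nat_lit 0x102790d) (.node (nat_lit 0x10278c3) (.node (nat_lit 0x102784d) (.node (nat_lit 0x1027843) (.node (nat_lit 0x10273dd) (.node (nat_lit 0x10273db) (.leaf (nat_lit 0x10273d9) (nat_lit 2052))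
 (.leaf (nat_lit 0x10273db) (nat_lit 2308))
) (.node (nat_lit 0x10273df) (.leaf (nat_lit 0x10273dd) (nat_lit 1540))
 (.node (nat_lit 0x1027841) (.leaf (nat_lit 0x10273df) (nat_lit 1284))
 (.leaf (nat_lit 0x1027841) (nat_lit 1029))
))) (.node (nat_lit 0x1027847) (.node (nat_lit 0x1027845) (.leaf (nat_lit 0x1027843) (nat_lit 1285))
 (.leaf (nat_lit 0x1027845) (nat_lit 2053))
) (.node (nat_lit 0x1027849) (.leaf (nat_lit 0x1027847) (nat_lit 1797))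
 (.node (nat_lit 0x102784b) (.leaf (nat_lit 0x1027849) (nat_lit 2563))
 (.leaf (nat_lit 0x102784b) (nat_lit 2565))
)))) (.node (nat_lit 0x1027857) (.node (nat_lit 0x1027851) (.node (nat_lit 0x102784f) (.leaf (nat_lit 0x102784d) (nat_lit 2565))
 (.leaf (nat_lit 0x102784f) (nat_lit 2309))
) (.node (nat_lit 0x1027853) (.leaf (nat_lit 0x1027851) (nat_lit 3077))
 (.node (nat_lit 0x1027855) (.leaf (nat_lit 0x1027853) (nat_lit 3073))
 (.leaf (nat_lit 0x1027855) (nat_lit 3077))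
))) (.node (nat_lit 0x102785d) (.node (nat_lit 0x1027859) (.leaf (nat_lit 0x1027857) (nat_lit 2821))
 (.node (nat_lit 0x102785b) (.leaf (nat_lit 0x1027859) (nat_lit 2306))
 (.leaf (nat_lit 0x102785b) (nat_lit 2309))
)) (.node (nat_lit 0x102785f) (.leaf (nat_lit 0x102785d) (nat_lit 1793))
 (.node (nat_lit 0x10278c1) (.leaf (nat_lit 0x102785f) (nat_lit 1797))
 (.leaf (nat_lit 0x10278c1) (nat_lit 1541))
))))) (.node (nat_lit 0x10278d7) (.node (nat_lit 0x10278cd) (.node (nat_lit 0x10278c7) (.node (nat_lit 0x10278c5) (.leaf (nat_lit 0x10278c3) (nat_lit 1797))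
 (.leaf (nat_lit 0x10278c5) (nat_lit 2053))
) (.node (nat_lit 0x10278c9) (.leaf (nat_lit 0x10278c7) (nat_lit 1797))
 (.node (nat_lit 0x10278cb) (.leaf (nat_lit 0x10278c9) (nat_lit 2821))
 (.leaf (nat_lit 0x10278cb) (nat_lit 2565))
))) (.node (nat_lit 0x10278d1) (.node (nat_lit 0x10278cf) (.leaf (nat_lit 0x10278cd) (nat_lit 2563))
 (.leaf (nat_lit 0x10278cf) (nat_lit 2819))
) (.node (nat_lit 0x10278d3) (.leaf (nat_lit 0x10278d1) (nat_lit 3333))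
 (.node (nat_lit 0x10278d5) (.leaf (nat_lit 0x10278d3) (nat_lit 3077))
 (.leaf (nat_lit 0x10278d5) (nat_lit 3333))
)))) (.node (nat_lit 0x1027901) (.node (nat_lit 0x10278db) (.node (nat_lit 0x10278d9) (.leaf (nat_lit 0x10278d7) (nat_lit 3329))
 (.leaf (nat_lit 0x10278d9) (nat_lit 2305))
) (.node (nat_lit 0x10278dd) (.leaf (nat_lit 0x10278db) (nat_lit 2309))
 (.node (nat_lit 0x10278df) (.leaf (nat_lit 0x10278dd) (nat_lit 2309))
 (.leaf (nat_lit 0x10278df) (nat_lit 2053))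
))) (.node (nat_lit 0x1027907) (.node (nat_lit 0x1027903) (.leaf (nat_lit 0x1027901) (nat_lit 2051))
 (.node (nat_lit 0x1027905) (.leaf (nat_lit 0x1027903) (nat_lit 2307))
 (.leaf (nat_lit 0x1027905) (nat_lit 2820))
)) (.node (nat_lit 0x1027909) (.leaf (nat_lit 0x1027907) (nat_lit 2819))
 (.node (nat_lit 0x102790b) (.leaf (nat_lit 0x1027909) (nat_lit 2307))
 (.leaf (nat_lit 0x102790b) (nat_lit 2563))
)))))) (.node (nat_lit 0x1027997) (.node (nat_lit 0x1027981) (.node (nat_lit 0x1027917) (.node (nat_lit 0x1027911) (.node (nat_lit 0x102790f) (.leaf (nat_lit 0x102790d) (nat_lit 2817))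
 (.leaf (nat_lit 0x102790f) (nat_lit 2819))
) (.node (nat_lit 0x1027913) (.leaf (nat_lit 0x1027911) (nat_lit 3586))
 (.node (nat_lit 0x1027915) (.leaf (nat_lit 0x1027913) (nat_lit 3330))
 (.leaf (nat_lit 0x1027915) (nat_lit 3073))
))) (.node (nat_lit 0x102791b) (.node (nat_lit 0x1027919) (.leaf (nat_lit 0x1027917) (nat_lit 2817))
 (.leaf (nat_lit 0x1027919) (nat_lit 3329))
) (.node (nat_lit 0x102791d) (.leaf (nat_lit 0x102791b) (nat_lit 3073))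
 (.node (nat_lit 0x102791f) (.leaf (nat_lit 0x102791d) (nat_lit 3073))
 (.leaf (nat_lit 0x102791f) (nat_lit 2817))
)))) (.node (nat_lit 0x102798b) (.node (nat_lit 0x1027985) (.node (nat_lit 0x1027983) (.leaf (nat_lit 0x1027981) (nat_lit 2051))
 (.leaf (nat_lit 0x1027983) (nat_lit 2307))
) (.node (nat_lit 0x1027987) (.leaf (nat_lit 0x1027985) (nat_lit 2563))
 (.node (nat_lit 0x1027989) (.leaf (nat_lit 0x1027987) (nat_lit 2307))
 (.leaf (nat_lit 0x1027989) (nat_lit 2819))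
))) (.node (nat_lit 0x1027991) (.node (nat_lit 0x102798d) (.leaf (nat_lit 0x102798b) (nat_lit 2563))
 (.node (nat_lit 0x102798f) (.leaf (nat_lit 0x102798d) (nat_lit 2307))
 (.leaf (nat_lit 0x102798f) (nat_lit 2563))
)) (.node (nat_lit 0x1027993) (.leaf (nat_lit 0x1027991) (nat_lit 3073))
 (.node (nat_lit 0x1027995) (.leaf (nat_lit 0x1027993) (nat_lit 2817))
 (.leaf (nat_lit 0x1027995) (nat_lit 3074))
))))) (.node (nat_lit 0x1027a4b) (.node (nat_lit 0x1027a41) (.node (nat_lit 0x102799b) (.node (nat_lit 0x1027999) (.leaf (nat_lit 0x1027997) (nat_lit 2818))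
 (.leaf (nat_lit 0x1027999) (nat_lit 3330))
) (.node (nat_lit 0x102799d) (.leaf (nat_lit 0x102799b) (nat_lit 3074))
 (.node (nat_lit 0x102799f) (.leaf (nat_lit 0x102799d) (nat_lit 3073))
 (.leaf (nat_lit 0x102799f) (nat_lit 2817))
))) (.node (nat_lit 0x1027a45) (.node (nat_lit 0x1027a43) (.leaf (nat_lit 0x1027a41) (nat_lit 2309))
 (.leaf (nat_lit 0x1027a43) (nat_lit 2565))
) (.node (nat_lit 0x1027a47) (.leaf (nat_lit 0x1027a45) (nat_lit 2821))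
 (.node (nat_lit 0x1027a49) (.leaf (nat_lit 0x1027a47) (nat_lit 2565))
 (.leaf (nat_lit 0x1027a49) (nat_lit 3075))
)))) (.node (nat_lit 0x1027a55) (.node (nat_lit 0x1027a4f) (.node (nat_lit 0x1027a4d) (.leaf (nat_lit 0x1027a4b) (nat_lit 2819))
 (.leaf (nat_lit 0x1027a4d) (nat_lit 2563))
) (.node (nat_lit 0x1027a51) (.leaf (nat_lit 0x1027a4f) (nat_lit 2819))
 (.node (nat_lit 0x1027a53) (.leaf (nat_lit 0x1027a51) (nat_lit 2821))
 (.leaf (nat_lit 0x1027a53) (nat_lit 2565))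
))) (.node (nat_lit 0x1027a5b) (.node (nat_lit 0x1027a57) (.leaf (nat_lit 0x1027a55) (nat_lit 2821))
 (.node (nat_lit 0x1027a59) (.leaf (nat_lit 0x1027a57) (nat_lit 3077))
 (.leaf (nat_lit 0x1027a59) (nat_lit 3077))
)) (.node (nat_lit 0x1027a5d) (.leaf (nat_lit 0x1027a5b) (nat_lit 3077))
 (.node (nat_lit 0x1027a5f) (.leaf (nat_lit 0x1027a5d) (nat_lit 2821))
 (.leaf (nat_lit 0x1027a5f) (nat_lit 2565))
))))))))) (.node (nat_lit 0x1030bd1) (.node (nat_lit 0x1030989) (.node (nat_lit 0x1027b95) (.node (nat_lit 0x1027b0b) (.node (nat_lit 0x1027ad5) (.node (nat_lit 0x1027acb) (.node (nat_lit 0x1027ac5) (.node (nat_lit 0x1027ac3) (.leaf (nat_lit 0x1027ac1) (nat_lit 2309))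
 (.leaf (nat_lit 0x1027ac3) (nat_lit 2565))
) (.node (nat_lit 0x1027ac7) (.leaf (nat_lit 0x1027ac5) (nat_lit 3076))
 (.node (nat_lit 0x1027ac9) (.leaf (nat_lit 0x1027ac7) (nat_lit 3077))
 (.leaf (nat_lit 0x1027ac9) (nat_lit 2563))
))) (.node (nat_lit 0x1027acf) (.node (nat_lit 0x1027acd) (.leaf (nat_lit 0x1027acb) (nat_lit 2819))
 (.leaf (nat_lit 0x1027acd) (nat_lit 2562))
) (.node (nat_lit 0x1027ad1) (.leaf (nat_lit 0x1027acf) (nat_lit 2818))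
 (.node (nat_lit 0x1027ad3) (.leaf (nat_lit 0x1027ad1) (nat_lit 3333))
 (.leaf (nat_lit 0x1027ad3) (nat_lit 3333))
)))) (.node (nat_lit 0x1027adf) (.node (nat_lit 0x1027ad9) (.node (nat_lit 0x1027ad7) (.leaf (nat_lit 0x1027ad5) (nat_lit 2821))
 (.leaf (nat_lit 0x1027ad7) (nat_lit 2565))
) (.node (nat_lit 0x1027adb) (.leaf (nat_lit 0x1027ad9) (nat_lit 3077))
 (.node (nat_lit 0x1027add) (.leaf (nat_lit 0x1027adb) (nat_lit 2821))
 (.leaf (nat_lit 0x1027add) (nat_lit 2821))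
))) (.node (nat_lit 0x1027b05) (.node (nat_lit 0x1027b01) (.leaf (nat_lit 0x1027adf) (nat_lit 2565))
 (.node (nat_lit 0x1027b03) (.leaf (nat_lit 0x1027b01) (nat_lit 1793))
 (.leaf (nat_lit 0x1027b03) (nat_lit 2049))
)) (.node (nat_lit 0x1027b07) (.leaf (nat_lit 0x1027b05) (nat_lit 2305))
 (.node (nat_lit 0x1027b09) (.leaf (nat_lit 0x1027b07) (nat_lit 2049))
 (.leaf (nat_lit 0x1027b09) (nat_lit 3073))
))))) (.node (nat_lit 0x1027b1f) (.node (nat_lit 0x1027b15) (.node (nat_lit 0x1027b0f) (.node (nat_lit 0x1027b0d) (.leaf (nat_lit 0x1027b0b) (nat_lit 2817))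
 (.leaf (nat_lit 0x1027b0d) (nat_lit 2819))
) (.node (nat_lit 0x1027b11) (.leaf (nat_lit 0x1027b0f) (nat_lit 2818))
 (.node (nat_lit 0x1027b13) (.leaf (nat_lit 0x1027b11) (nat_lit 3328))
 (.leaf (nat_lit 0x1027b13) (nat_lit 3072))
))) (.node (nat_lit 0x1027b19) (.node (nat_lit 0x1027b17) (.leaf (nat_lit 0x1027b15) (nat_lit 3075))
 (.leaf (nat_lit 0x1027b17) (nat_lit 3074))
) (.node (nat_lit 0x1027b1b) (.leaf (nat_lit 0x1027b19) (nat_lit 2048))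
 (.node (nat_lit 0x1027b1d) (.leaf (nat_lit 0x1027b1b) (nat_lit 2304))
 (.leaf (nat_lit 0x1027b1d) (nat_lit 2560))
)))) (.node (nat_lit 0x1027b89) (.node (nat_lit 0x1027b83) (.node (nat_lit 0x1027b81) (.leaf (nat_lit 0x1027b1f) (nat_lit 2304))
 (.leaf (nat_lit 0x1027b81) (nat_lit 1281))
) (.node (nat_lit 0x1027b85) (.leaf (nat_lit 0x1027b83) (nat_lit 1537))
 (.node (nat_lit 0x1027b87) (.leaf (nat_lit 0x1027b85) (nat_lit 2305))
 (.leaf (nat_lit 0x1027b87) (nat_lit 2049))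
))) (.node (nat_lit 0x1027b8f) (.node (nat_lit 0x1027b8b) (.leaf (nat_lit 0x1027b89) (nat_lit 2819))
 (.node (nat_lit 0x1027b8d) (.leaf (nat_lit 0x1027b8b) (nat_lit 2817))
 (.leaf (nat_lit 0x1027b8d) (nat_lit 2817))
)) (.node (nat_lit 0x1027b91) (.leaf (nat_lit 0x1027b8f) (nat_lit 2561))
 (.node (nat_lit 0x1027b93) (.leaf (nat_lit 0x1027b91) (nat_lit 3072))
 (.leaf (nat_lit 0x1027b93) (nat_lit 2816))
)))))) (.node (nat_lit 0x103091f) (.node (nat_lit 0x1030909) (.node (nat_lit 0x1027b9f) (.node (nat_lit 0x1027b99) (.node (nat_lit 0x1027b97) (.leaf (nat_lit 0x1027b95) (nat_lit 3075))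
 (.leaf (nat_lit 0x1027b97) (nat_lit 3073))
) (.node (nat_lit 0x1027b9b) (.leaf (nat_lit 0x1027b99) (nat_lit 2560))
 (.node (nat_lit 0x1027b9d) (.leaf (nat_lit 0x1027b9b) (nat_lit 2304))
 (.leaf (nat_lit 0x1027b9d) (nat_lit 1536))
))) (.node (nat_lit 0x1030903) (.node (nat_lit 0x1030901) (.leaf (nat_lit 0x1027b9f) (nat_lit 1792))
 (.leaf (nat_lit 0x1030901) (nat_lit 1541))
) (.node (nat_lit 0x1030905) (.leaf (nat_lit 0x1030903) (nat_lit 1797))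
 (.node (nat_lit 0x1030907) (.leaf (nat_lit 0x1030905) (nat_lit 2309))
 (.leaf (nat_lit 0x1030907) (nat_lit 2309))
)))) (.node (nat_lit 0x1030913) (.node (nat_lit 0x103090d) (.node (nat_lit 0x103090b) (.leaf (nat_lit 0x1030909) (nat_lit 1797))
 (.leaf (nat_lit 0x103090b) (nat_lit 2053))
) (.node (nat_lit 0x103090f) (.leaf (nat_lit 0x103090d) (nat_lit 2306))
 (.node (nat_lit 0x1030911) (.leaf (nat_lit 0x103090f) (nat_lit 2308))
 (.leaf (nat_lit 0x1030911) (nat_lit 3589))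
))) (.node (nat_lit 0x1030919) (.node (nat_lit 0x1030915) (.leaf (nat_lit 0x1030913) (nat_lit 3589))
 (.node (nat_lit 0x1030917) (.leaf (nat_lit 0x1030915) (nat_lit 3331))
 (.leaf (nat_lit 0x1030917) (nat_lit 3332))
)) (.node (nat_lit 0x103091b) (.leaf (nat_lit 0x1030919) (nat_lit 3333))
 (.node (nat_lit 0x103091d) (.leaf (nat_lit 0x103091b) (nat_lit 3333))
 (.leaf (nat_lit 0x103091d) (nat_lit 3075))
))))) (.node (nat_lit 0x1030953) (.node (nat_lit 0x1030949) (.node (nat_lit 0x1030943) (.node (nat_lit 0x1030941) (.leaf (nat_lit 0x103091f) (nat_lit 3076))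
 (.leaf (nat_lit 0x1030941) (nat_lit 1540))
) (.node (nat_lit 0x1030945) (.leaf (nat_lit 0x1030943) (nat_lit 1796))
 (.node (nat_lit 0x1030947) (.leaf (nat_lit 0x1030945) (nat_lit 2053))
 (.leaf (nat_lit 0x1030947) (nat_lit 2052))
))) (.node (nat_lit 0x103094d) (.node (nat_lit 0x103094b) (.leaf (nat_lit 0x1030949) (nat_lit 2052))
 (.leaf (nat_lit 0x103094b) (nat_lit 1796))
) (.node (nat_lit 0x103094f) (.leaf (nat_lit 0x103094d) (nat_lit 2308))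
 (.node (nat_lit 0x1030951) (.leaf (nat_lit 0x103094f) (nat_lit 2308))
 (.leaf (nat_lit 0x1030951) (nat_lit 3588))
)))) (.node (nat_lit 0x103095d) (.node (nat_lit 0x1030957) (.node (nat_lit 0x1030955) (.leaf (nat_lit 0x1030953) (nat_lit 3588))
 (.leaf (nat_lit 0x1030955) (nat_lit 3333))
) (.node (nat_lit 0x1030959) (.leaf (nat_lit 0x1030957) (nat_lit 3332))
 (.node (nat_lit 0x103095b) (.leaf (nat_lit 0x1030959) (nat_lit 3588))
 (.leaf (nat_lit 0x103095b) (nat_lit 3332))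
))) (.node (nat_lit 0x1030983) (.node (nat_lit 0x103095f) (.leaf (nat_lit 0x103095d) (nat_lit 3077))
 (.node (nat_lit 0x1030981) (.leaf (nat_lit 0x103095f) (nat_lit 3076))
 (.leaf (nat_lit 0x1030981) (nat_lit 1285))
)) (.node (nat_lit 0x1030985) (.leaf (nat_lit 0x1030983) (nat_lit 1541))
 (.node (nat_lit 0x1030987) (.leaf (nat_lit 0x1030985) (nat_lit 2053))
 (.leaf (nat_lit 0x1030987) (nat_lit 2053))
))))))) (.node (nat_lit 0x1030b1d) (.node (nat_lit 0x10309d3) (.node (nat_lit 0x103099d) (.node (nat_lit 0x1030993) (.node (nat_lit 0x103098d) (.node (nat_lit 0x103098b) (.leaf (nat_lit 0x1030989) (nat_lit 2309))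
 (.leaf (nat_lit 0x103098b) (nat_lit 2309))
) (.node (nat_lit 0x103098f) (.leaf (nat_lit 0x103098d) (nat_lit 1541))
 (.node (nat_lit 0x1030991) (.leaf (nat_lit 0x103098f) (nat_lit 1797))
 (.leaf (nat_lit 0x1030991) (nat_lit 3333))
))) (.node (nat_lit 0x1030997) (.node (nat_lit 0x1030995) (.leaf (nat_lit 0x1030993) (nat_lit 3333))
 (.leaf (nat_lit 0x1030995) (nat_lit 3077))
) (.node (nat_lit 0x1030999) (.leaf (nat_lit 0x1030997) (nat_lit 3077))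
 (.node (nat_lit 0x103099b) (.leaf (nat_lit 0x1030999) (nat_lit 3075))
 (.leaf (nat_lit 0x103099b) (nat_lit 3076))
)))) (.node (nat_lit 0x10309c7) (.node (nat_lit 0x10309c1) (.node (nat_lit 0x103099f) (.leaf (nat_lit 0x103099d) (nat_lit 3077))
 (.leaf (nat_lit 0x103099f) (nat_lit 3077))
) (.node (nat_lit 0x10309c3) (.leaf (nat_lit 0x10309c1) (nat_lit 1284))
 (.node (nat_lit 0x10309c5) (.leaf (nat_lit 0x10309c3) (nat_lit 1540))
 (.leaf (nat_lit 0x10309c5) (nat_lit 2308))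
))) (.node (nat_lit 0x10309cd) (.node (nat_lit 0x10309c9) (.leaf (nat_lit 0x10309c7) (nat_lit 2052))
 (.node (nat_lit 0x10309cb) (.leaf (nat_lit 0x10309c9) (nat_lit 2308))
 (.leaf (nat_lit 0x10309cb) (nat_lit 2306))
)) (.node (nat_lit 0x10309cf) (.leaf (nat_lit 0x10309cd) (nat_lit 1796))
 (.node (nat_lit 0x10309d1) (.leaf (nat_lit 0x10309cf) (nat_lit 1540))
 (.leaf (nat_lit 0x10309d1) (nat_lit 3332))
))))) (.node (nat_lit 0x1030b07) (.node (nat_lit 0x10309dd) (.node (nat_lit 0x10309d7) (.node (nat_lit 0x10309d5) (.leaf (nat_lit 0x10309d3) (nat_lit 3588))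
 (.leaf (nat_lit 0x10309d5) (nat_lit 3332))
) (.node (nat_lit 0x10309d9) (.leaf (nat_lit 0x10309d7) (nat_lit 3076))
 (.node (nat_lit 0x10309db) (.leaf (nat_lit 0x10309d9) (nat_lit 3076))
 (.leaf (nat_lit 0x10309db) (nat_lit 3076))
))) (.node (nat_lit 0x1030b01) (.node (nat_lit 0x10309df) (.leaf (nat_lit 0x10309dd) (nat_lit 3332))
 (.leaf (nat_lit 0x10309df) (nat_lit 3076))
) (.node (nat_lit 0x1030b03) (.leaf (nat_lit 0x1030b01) (nat_lit 1797))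
 (.node (nat_lit 0x1030b05) (.leaf (nat_lit 0x1030b03) (nat_lit 2053))
 (.leaf (nat_lit 0x1030b05) (nat_lit 2565))
)))) (.node (nat_lit 0x1030b11) (.node (nat_lit 0x1030b0b) (.node (nat_lit 0x1030b09) (.leaf (nat_lit 0x1030b07) (nat_lit 2565))
 (.leaf (nat_lit 0x1030b09) (nat_lit 3077))
) (.node (nat_lit 0x1030b0d) (.leaf (nat_lit 0x1030b0b) (nat_lit 3077))
 (.node (nat_lit 0x1030b0f) (.leaf (nat_lit 0x1030b0d) (nat_lit 2819))
 (.leaf (nat_lit 0x1030b0f) (nat_lit 2820))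
))) (.node (nat_lit 0x1030b17) (.node (nat_lit 0x1030b13) (.leaf (nat_lit 0x1030b11) (nat_lit 3333))
 (.node (nat_lit 0x1030b15) (.leaf (nat_lit 0x1030b13) (nat_lit 3333))
 (.leaf (nat_lit 0x1030b15) (nat_lit 3075))
)) (.node (nat_lit 0x1030b19) (.leaf (nat_lit 0x1030b17) (nat_lit 3076))
 (.node (nat_lit 0x1030b1b) (.leaf (nat_lit 0x1030b19) (nat_lit 2053))
 (.leaf (nat_lit 0x1030b1b) (nat_lit 2309))
)))))) (.node (nat_lit 0x1030b87) (.node (nat_lit 0x1030b51) (.node (nat_lit 0x1030b47) (.node (nat_lit 0x1030b41) (.node (nat_lit 0x1030b1f) (.leaf (nat_lit 0x1030b1d) (nat_lit 2562))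
 (.leaf (nat_lit 0x1030b1f) (nat_lit 2564))
) (.node (nat_lit 0x1030b43) (.leaf (nat_lit 0x1030b41) (nat_lit 1796))
 (.node (nat_lit 0x1030b45) (.leaf (nat_lit 0x1030b43) (nat_lit 2052))
 (.leaf (nat_lit 0x1030b45) (nat_lit 2309))
))) (.node (nat_lit 0x1030b4b) (.node (nat_lit 0x1030b49) (.leaf (nat_lit 0x1030b47) (nat_lit 2308))
 (.leaf (nat_lit 0x1030b49) (nat_lit 3332))
) (.node (nat_lit 0x1030b4d) (.leaf (nat_lit 0x1030b4b) (nat_lit 3076))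
 (.node (nat_lit 0x1030b4f) (.leaf (nat_lit 0x1030b4d) (nat_lit 2821))
 (.leaf (nat_lit 0x1030b4f) (nat_lit 2820))
)))) (.node (nat_lit 0x1030b5b) (.node (nat_lit 0x1030b55) (.node (nat_lit 0x1030b53) (.leaf (nat_lit 0x1030b51) (nat_lit 3332))
 (.leaf (nat_lit 0x1030b53) (nat_lit 3588))
) (.node (nat_lit 0x1030b57) (.leaf (nat_lit 0x1030b55) (nat_lit 3076))
 (.node (nat_lit 0x1030b59) (.leaf (nat_lit 0x1030b57) (nat_lit 3076))
 (.leaf (nat_lit 0x1030b59) (nat_lit 2308))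
))) (.node (nat_lit 0x1030b81) (.node (nat_lit 0x1030b5d) (.leaf (nat_lit 0x1030b5b) (nat_lit 2052))
 (.node (nat_lit 0x1030b5f) (.leaf (nat_lit 0x1030b5d) (nat_lit 2564))
 (.leaf (nat_lit 0x1030b5f) (nat_lit 2564))
)) (.node (nat_lit 0x1030b83) (.leaf (nat_lit 0x1030b81) (nat_lit 1541))
 (.node (nat_lit 0x1030b85) (.leaf (nat_lit 0x1030b83) (nat_lit 1797))
 (.leaf (nat_lit 0x1030b85) (nat_lit 2309))
))))) (.node (nat_lit 0x1030b9b) (.node (nat_lit 0x1030b91) (.node (nat_lit 0x1030b8b) (.node (nat_lit 0x1030b89) (.leaf (nat_lit 0x1030b87) (nat_lit 2309))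
 (.leaf (nat_lit 0x1030b89) (nat_lit 3075))
) (.node (nat_lit 0x1030b8d) (.leaf (nat_lit 0x1030b8b) (nat_lit 3076))
 (.node (nat_lit 0x1030b8f) (.leaf (nat_lit 0x1030b8d) (nat_lit 2821))
 (.leaf (nat_lit 0x1030b8f) (nat_lit 2821))
))) (.node (nat_lit 0x1030b95) (.node (nat_lit 0x1030b93) (.leaf (nat_lit 0x1030b91) (nat_lit 3077))
 (.leaf (nat_lit 0x1030b93) (nat_lit 3077))
) (.node (nat_lit 0x1030b97) (.leaf (nat_lit 0x1030b95) (nat_lit 3333))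
 (.node (nat_lit 0x1030b99) (.leaf (nat_lit 0x1030b97) (nat_lit 3333))
 (.leaf (nat_lit 0x1030b99) (nat_lit 2565))
)))) (.node (nat_lit 0x1030bc5) (.node (nat_lit 0x1030b9f) (.node (nat_lit 0x1030b9d) (.leaf (nat_lit 0x1030b9b) (nat_lit 2565))
 (.leaf (nat_lit 0x1030b9d) (nat_lit 1797))
) (.node (nat_lit 0x1030bc1) (.leaf (nat_lit 0x1030b9f) (nat_lit 2053))
 (.node (nat_lit 0x1030bc3) (.leaf (nat_lit 0x1030bc1) (nat_lit 1540))
 (.leaf (nat_lit 0x1030bc3) (nat_lit 1796))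
))) (.node (nat_lit 0x1030bcb) (.node (nat_lit 0x1030bc7) (.leaf (nat_lit 0x1030bc5) (nat_lit 2564))
 (.node (nat_lit 0x1030bc9) (.leaf (nat_lit 0x1030bc7) (nat_lit 2308))
 (.leaf (nat_lit 0x1030bc9) (nat_lit 3077))
)) (.node (nat_lit 0x1030bcd) (.leaf (nat_lit 0x1030bcb) (nat_lit 3076))
 (.node (nat_lit 0x1030bcf) (.leaf (nat_lit 0x1030bcd) (nat_lit 3076))
 (.leaf (nat_lit 0x1030bcf) (nat_lit 2820))
)))))))) (.node (nat_lit 0x1031319) (.node (nat_lit 0x1031185) (.node (nat_lit 0x103111b) (.node (nat_lit 0x1031105) (.node (nat_lit 0x1030bdb) (.node (nat_lit 0x1030bd5) (.node (nat_lit 0x1030bd3) (.leaf (nat_lit 0x1030bd1) (nat_lit 3076))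
 (.leaf (nat_lit 0x1030bd3) (nat_lit 3332))
) (.node (nat_lit 0x1030bd7) (.leaf (nat_lit 0x1030bd5) (nat_lit 3332))
 (.node (nat_lit 0x1030bd9) (.leaf (nat_lit 0x1030bd7) (nat_lit 3332))
 (.leaf (nat_lit 0x1030bd9) (nat_lit 2564))
))) (.node (nat_lit 0x1030bdf) (.node (nat_lit 0x1030bdd) (.leaf (nat_lit 0x1030bdb) (nat_lit 2562))
 (.leaf (nat_lit 0x1030bdd) (nat_lit 2052))
) (.node (nat_lit 0x1031101) (.leaf (nat_lit 0x1030bdf) (nat_lit 1796))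
 (.node (nat_lit 0x1031103) (.leaf (nat_lit 0x1031101) (nat_lit 1793))
 (.leaf (nat_lit 0x1031103) (nat_lit 2049))
)))) (.node (nat_lit 0x103110f) (.node (nat_lit 0x1031109) (.node (nat_lit 0x1031107) (.leaf (nat_lit 0x1031105) (nat_lit 2304))
 (.leaf (nat_lit 0x1031107) (nat_lit 2560))
) (.node (nat_lit 0x103110b) (.leaf (nat_lit 0x1031109) (nat_lit 2048))
 (.node (nat_lit 0x103110d) (.leaf (nat_lit 0x103110b) (nat_lit 2304))
 (.leaf (nat_lit 0x103110d) (nat_lit 2049))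
))) (.node (nat_lit 0x1031115) (.node (nat_lit 0x1031111) (.leaf (nat_lit 0x103110f) (nat_lit 2305))
 (.node (nat_lit 0x1031113) (.leaf (nat_lit 0x1031111) (nat_lit 3841))
 (.leaf (nat_lit 0x1031113) (nat_lit 3585))
)) (.node (nat_lit 0x1031117) (.leaf (nat_lit 0x1031115) (nat_lit 3585))
 (.node (nat_lit 0x1031119) (.leaf (nat_lit 0x1031117) (nat_lit 3585))
 (.leaf (nat_lit 0x1031119) (nat_lit 3587))
))))) (.node (nat_lit 0x103114f) (.node (nat_lit 0x1031145) (.node (nat_lit 0x103111f) (.node (nat_lit 0x103111d) (.leaf (nat_lit 0x103111b) (nat_lit 3331))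
 (.leaf (nat_lit 0x103111d) (nat_lit 3330))
) (.node (nat_lit 0x1031141) (.leaf (nat_lit 0x103111f) (nat_lit 3330))
 (.node (nat_lit 0x1031143) (.leaf (nat_lit 0x1031141) (nat_lit 1541))
 (.leaf (nat_lit 0x1031143) (nat_lit 1797))
))) (.node (nat_lit 0x1031149) (.node (nat_lit 0x1031147) (.leaf (nat_lit 0x1031145) (nat_lit 1797))
 (.leaf (nat_lit 0x1031147) (nat_lit 2053))
) (.node (nat_lit 0x103114b) (.leaf (nat_lit 0x1031149) (nat_lit 2053))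
 (.node (nat_lit 0x103114d) (.leaf (nat_lit 0x103114b) (nat_lit 1797))
 (.leaf (nat_lit 0x103114d) (nat_lit 2309))
)))) (.node (nat_lit 0x1031159) (.node (nat_lit 0x1031153) (.node (nat_lit 0x1031151) (.leaf (nat_lit 0x103114f) (nat_lit 2053))
 (.leaf (nat_lit 0x1031151) (nat_lit 3589))
) (.node (nat_lit 0x1031155) (.leaf (nat_lit 0x1031153) (nat_lit 3333))
 (.node (nat_lit 0x1031157) (.leaf (nat_lit 0x1031155) (nat_lit 3589))
 (.leaf (nat_lit 0x1031157) (nat_lit 3589))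
))) (.node (nat_lit 0x103115f) (.node (nat_lit 0x103115b) (.leaf (nat_lit 0x1031159) (nat_lit 3331))
 (.node (nat_lit 0x103115d) (.leaf (nat_lit 0x103115b) (nat_lit 3333))
 (.leaf (nat_lit 0x103115d) (nat_lit 3333))
)) (.node (nat_lit 0x1031181) (.leaf (nat_lit 0x103115f) (nat_lit 3333))
 (.node (nat_lit 0x1031183) (.leaf (nat_lit 0x1031181) (nat_lit 1541))
 (.leaf (nat_lit 0x1031183) (nat_lit 1797))
)))))) (.node (nat_lit 0x10311cf) (.node (nat_lit 0x1031199) (.node (nat_lit 0x103118f) (.node (nat_lit 0x1031189) (.node (nat_lit 0x1031187) (.leaf (nat_lit 0x1031185) (nat_lit 2053))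
 (.leaf (nat_lit 0x1031187) (nat_lit 2309))
) (.node (nat_lit 0x103118b) (.leaf (nat_lit 0x1031189) (nat_lit 2305))
 (.node (nat_lit 0x103118d) (.leaf (nat_lit 0x103118b) (nat_lit 2561))
 (.leaf (nat_lit 0x103118d) (nat_lit 1797))
))) (.node (nat_lit 0x1031193) (.node (nat_lit 0x1031191) (.leaf (nat_lit 0x103118f) (nat_lit 2053))
 (.leaf (nat_lit 0x1031191) (nat_lit 3589))
) (.node (nat_lit 0x1031195) (.leaf (nat_lit 0x1031193) (nat_lit 3333))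
 (.node (nat_lit 0x1031197) (.leaf (nat_lit 0x1031195) (nat_lit 3333))
 (.leaf (nat_lit 0x1031197) (nat_lit 3333))
)))) (.node (nat_lit 0x10311c3) (.node (nat_lit 0x103119d) (.node (nat_lit 0x103119b) (.leaf (nat_lit 0x1031199) (nat_lit 3330))
 (.leaf (nat_lit 0x103119b) (nat_lit 3330))
) (.node (nat_lit 0x103119f) (.leaf (nat_lit 0x103119d) (nat_lit 3333))
 (.node (nat_lit 0x10311c1) (.leaf (nat_lit 0x103119f) (nat_lit 3331))
 (.leaf (nat_lit 0x10311c1) (nat_lit 1538))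
))) (.node (nat_lit 0x10311c9) (.node (nat_lit 0x10311c5) (.leaf (nat_lit 0x10311c3) (nat_lit 1794))
 (.node (nat_lit 0x10311c7) (.leaf (nat_lit 0x10311c5) (nat_lit 2053))
 (.leaf (nat_lit 0x10311c7) (nat_lit 2309))
)) (.node (nat_lit 0x10311cb) (.leaf (nat_lit 0x10311c9) (nat_lit 2305))
 (.node (nat_lit 0x10311cd) (.leaf (nat_lit 0x10311cb) (nat_lit 2049))
 (.leaf (nat_lit 0x10311cd) (nat_lit 2050))
))))) (.node (nat_lit 0x1031303) (.node (nat_lit 0x10311d9) (.node (nat_lit 0x10311d3) (.node (nat_lit 0x10311d1) (.leaf (nat_lit 0x10311cf) (nat_lit 1794))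
 (.leaf (nat_lit 0x10311d1) (nat_lit 3587))
) (.node (nat_lit 0x10311d5) (.leaf (nat_lit 0x10311d3) (nat_lit 3331))
 (.node (nat_lit 0x10311d7) (.leaf (nat_lit 0x10311d5) (nat_lit 3586))
 (.leaf (nat_lit 0x10311d7) (nat_lit 3330))
))) (.node (nat_lit 0x10311dd) (.node (nat_lit 0x10311db) (.leaf (nat_lit 0x10311d9) (nat_lit 3330))
 (.leaf (nat_lit 0x10311db) (nat_lit 3330))
) (.node (nat_lit 0x10311df) (.leaf (nat_lit 0x10311dd) (nat_lit 3331))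
 (.node (nat_lit 0x1031301) (.leaf (nat_lit 0x10311df) (nat_lit 3330))
 (.leaf (nat_lit 0x1031301) (nat_lit 2049))
)))) (.node (nat_lit 0x103130d) (.node (nat_lit 0x1031307) (.node (nat_lit 0x1031305) (.leaf (nat_lit 0x1031303) (nat_lit 2305))
 (.leaf (nat_lit 0x1031305) (nat_lit 2560))
) (.node (nat_lit 0x1031309) (.leaf (nat_lit 0x1031307) (nat_lit 2816))
 (.node (nat_lit 0x103130b) (.leaf (nat_lit 0x1031309) (nat_lit 3331))
 (.leaf (nat_lit 0x103130b) (nat_lit 3075))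
))) (.node (nat_lit 0x1031313) (.node (nat_lit 0x103130f) (.leaf (nat_lit 0x103130d) (nat_lit 3074))
 (.node (nat_lit 0x1031311) (.leaf (nat_lit 0x103130f) (nat_lit 3074))
 (.leaf (nat_lit 0x1031311) (nat_lit 3587))
)) (.node (nat_lit 0x1031315) (.leaf (nat_lit 0x1031313) (nat_lit 3331))
 (.node (nat_lit 0x1031317) (.leaf (nat_lit 0x1031315) (nat_lit 3330))
 (.leaf (nat_lit 0x1031317) (nat_lit 3330))
))))))) (.node (nat_lit 0x10313cd) (.node (nat_lit 0x1031383) (.node (nat_lit 0x103134d) (.node (nat_lit 0x1031343) (.node (nat_lit 0x103131d) (.node (nat_lit 0x103131b) (.leaf (nat_lit 0x1031319) (nat_lit 2304))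
 (.leaf (nat_lit 0x103131b) (nat_lit 2560))
) (.node (nat_lit 0x103131f) (.leaf (nat_lit 0x103131d) (nat_lit 2305))
 (.node (nat_lit 0x1031341) (.leaf (nat_lit 0x103131f) (nat_lit 2561))
 (.leaf (nat_lit 0x1031341) (nat_lit 1797))
))) (.node (nat_lit 0x1031347) (.node (nat_lit 0x1031345) (.leaf (nat_lit 0x1031343) (nat_lit 2053))
 (.leaf (nat_lit 0x1031345) (nat_lit 2053))
) (.node (nat_lit 0x1031349) (.leaf (nat_lit 0x1031347) (nat_lit 2309))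
 (.node (nat_lit 0x103134b) (.leaf (nat_lit 0x1031349) (nat_lit 3333))
 (.leaf (nat_lit 0x103134b) (nat_lit 3077))
)))) (.node (nat_lit 0x1031357) (.node (nat_lit 0x1031351) (.node (nat_lit 0x103134f) (.leaf (nat_lit 0x103134d) (nat_lit 3077))
 (.leaf (nat_lit 0x103134f) (nat_lit 3077))
) (.node (nat_lit 0x1031353) (.leaf (nat_lit 0x1031351) (nat_lit 3333))
 (.node (nat_lit 0x1031355) (.leaf (nat_lit 0x1031353) (nat_lit 3589))
 (.leaf (nat_lit 0x1031355) (nat_lit 3333))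
))) (.node (nat_lit 0x103135d) (.node (nat_lit 0x1031359) (.leaf (nat_lit 0x1031357) (nat_lit 3333))
 (.node (nat_lit 0x103135b) (.leaf (nat_lit 0x1031359) (nat_lit 2309))
 (.leaf (nat_lit 0x103135b) (nat_lit 2053))
)) (.node (nat_lit 0x103135f) (.leaf (nat_lit 0x103135d) (nat_lit 2565))
 (.node (nat_lit 0x1031381) (.leaf (nat_lit 0x103135f) (nat_lit 2309))
 (.leaf (nat_lit 0x1031381) (nat_lit 1797))
))))) (.node (nat_lit 0x1031397) (.node (nat_lit 0x103138d) (.node (nat_lit 0x1031387) (.node (nat_lit 0x1031385) (.leaf (nat_lit 0x1031383) (nat_lit 2053))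
 (.leaf (nat_lit 0x1031385) (nat_lit 2309))
) (.node (nat_lit 0x1031389) (.leaf (nat_lit 0x1031387) (nat_lit 2565))
 (.node (nat_lit 0x103138b) (.leaf (nat_lit 0x1031389) (nat_lit 3333))
 (.leaf (nat_lit 0x103138b) (nat_lit 3077))
))) (.node (nat_lit 0x1031391) (.node (nat_lit 0x103138f) (.leaf (nat_lit 0x103138d) (nat_lit 3077))
 (.leaf (nat_lit 0x103138f) (nat_lit 3077))
) (.node (nat_lit 0x1031393) (.leaf (nat_lit 0x1031391) (nat_lit 3333))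
 (.node (nat_lit 0x1031395) (.leaf (nat_lit 0x1031393) (nat_lit 3333))
 (.leaf (nat_lit 0x1031395) (nat_lit 3589))
)))) (.node (nat_lit 0x10313c1) (.node (nat_lit 0x103139b) (.node (nat_lit 0x1031399) (.leaf (nat_lit 0x1031397) (nat_lit 3333))
 (.leaf (nat_lit 0x1031399) (nat_lit 2561))
) (.node (nat_lit 0x103139d) (.leaf (nat_lit 0x103139b) (nat_lit 2817))
 (.node (nat_lit 0x103139f) (.leaf (nat_lit 0x103139d) (nat_lit 2053))
 (.leaf (nat_lit 0x103139f) (nat_lit 2309))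
))) (.node (nat_lit 0x10313c7) (.node (nat_lit 0x10313c3) (.leaf (nat_lit 0x10313c1) (nat_lit 1794))
 (.node (nat_lit 0x10313c5) (.leaf (nat_lit 0x10313c3) (nat_lit 2050))
 (.leaf (nat_lit 0x10313c5) (nat_lit 2309))
)) (.node (nat_lit 0x10313c9) (.leaf (nat_lit 0x10313c7) (nat_lit 2565))
 (.node (nat_lit 0x10313cb) (.leaf (nat_lit 0x10313c9) (nat_lit 3333))
 (.leaf (nat_lit 0x10313cb) (nat_lit 3330))
)))))) (.node (nat_lit 0x1032057) (.node (nat_lit 0x1032041) (.node (nat_lit 0x10313d7) (.node (nat_lit 0x10313d1) (.node (nat_lit 0x10313cf) (.leaf (nat_lit 0x10313cd) (nat_lit 3075))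
 (.leaf (nat_lit 0x10313cf) (nat_lit 3074))
) (.node (nat_lit 0x10313d3) (.leaf (nat_lit 0x10313d1) (nat_lit 3330))
 (.node (nat_lit 0x10313d5) (.leaf (nat_lit 0x10313d3) (nat_lit 3331))
 (.leaf (nat_lit 0x10313d5) (nat_lit 3585))
))) (.node (nat_lit 0x10313db) (.node (nat_lit 0x10313d9) (.leaf (nat_lit 0x10313d7) (nat_lit 3586))
 (.leaf (nat_lit 0x10313d9) (nat_lit 2561))
) (.node (nat_lit 0x10313dd) (.leaf (nat_lit 0x10313db) (nat_lit 2305))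
 (.node (nat_lit 0x10313df) (.leaf (nat_lit 0x10313dd) (nat_lit 2306))
 (.leaf (nat_lit 0x10313df) (nat_lit 2050))
)))) (.node (nat_lit 0x103204b) (.node (nat_lit 0x1032045) (.node (nat_lit 0x1032043) (.leaf (nat_lit 0x1032041) (nat_lit 1026))
 (.leaf (nat_lit 0x1032043) (nat_lit 1282))
) (.node (nat_lit 0x1032047) (.leaf (nat_lit 0x1032045) (nat_lit 1794))
 (.node (nat_lit 0x1032049) (.leaf (nat_lit 0x1032047) (nat_lit 1794))
 (.leaf (nat_lit 0x1032049) (nat_lit 2049))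
))) (.node (nat_lit 0x1032051) (.node (nat_lit 0x103204d) (.leaf (nat_lit 0x103204b) (nat_lit 1793))
 (.node (nat_lit 0x103204f) (.leaf (nat_lit 0x103204d) (nat_lit 1794))
 (.leaf (nat_lit 0x103204f) (nat_lit 1794))
)) (.node (nat_lit 0x1032053) (.leaf (nat_lit 0x1032051) (nat_lit 3586))
 (.node (nat_lit 0x1032055) (.leaf (nat_lit 0x1032053) (nat_lit 3586))
 (.leaf (nat_lit 0x1032055) (nat_lit 2818))
))))) (.node (nat_lit 0x103208b) (.node (nat_lit 0x1032081) (.node (nat_lit 0x103205b) (.node (nat_lit 0x1032059) (.leaf (nat_lit 0x1032057) (nat_lit 2818))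
 (.leaf (nat_lit 0x1032059) (nat_lit 3074))
) (.node (nat_lit 0x103205d) (.leaf (nat_lit 0x103205b) (nat_lit 2818))
 (.node (nat_lit 0x103205f) (.leaf (nat_lit 0x103205d) (nat_lit 2563))
 (.leaf (nat_lit 0x103205f) (nat_lit 2563))
))) (.node (nat_lit 0x1032085) (.node (nat_lit 0x1032083) (.leaf (nat_lit 0x1032081) (nat_lit 1282))
 (.leaf (nat_lit 0x1032083) (nat_lit 1538))
) (.node (nat_lit 0x1032087) (.leaf (nat_lit 0x1032085) (nat_lit 1538))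
 (.node (nat_lit 0x1032089) (.leaf (nat_lit 0x1032087) (nat_lit 1794))
 (.leaf (nat_lit 0x1032089) (nat_lit 2048))
)))) (.node (nat_lit 0x1032095) (.node (nat_lit 0x103208f) (.node (nat_lit 0x103208d) (.leaf (nat_lit 0x103208b) (nat_lit 2050))
 (.leaf (nat_lit 0x103208d) (nat_lit 1793))
) (.node (nat_lit 0x1032091) (.leaf (nat_lit 0x103208f) (nat_lit 2049))
 (.node (nat_lit 0x1032093) (.leaf (nat_lit 0x1032091) (nat_lit 3330))
 (.leaf (nat_lit 0x1032093) (nat_lit 3074))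
))) (.node (nat_lit 0x103209b) (.node (nat_lit 0x1032097) (.leaf (nat_lit 0x1032095) (nat_lit 3329))
 (.node (nat_lit 0x1032099) (.leaf (nat_lit 0x1032097) (nat_lit 3329))
 (.leaf (nat_lit 0x1032099) (nat_lit 3075))
)) (.node (nat_lit 0x103209d) (.leaf (nat_lit 0x103209b) (nat_lit 2819))
 (.node (nat_lit 0x103209f) (.leaf (nat_lit 0x103209d) (nat_lit 3074))
 (.leaf (nat_lit 0x103209f) (nat_lit 3074))
)))))))))) (.node (nat_lit 0x10333c1) (.node (nat_lit 0x1032a51) (.node (nat_lit 0x1032389) (.node (nat_lit 0x1032255) (.node (nat_lit 0x103218b) (.node (nat_lit 0x1032155) (.node (nat_lit 0x103214b) (.node (nat_lit 0x1032145) (.node (nat_lit 0x1032143) (.leaf (nat_lit 0x1032141) (nat_lit 1281))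
 (.leaf (nat_lit 0x1032143) (nat_lit 1537))
) (.node (nat_lit 0x1032147) (.leaf (nat_lit 0x1032145) (nat_lit 1794))
 (.node (nat_lit 0x1032149) (.leaf (nat_lit 0x1032147) (nat_lit 2050))
 (.leaf (nat_lit 0x1032149) (nat_lit 1792))
))) (.node (nat_lit 0x103214f) (.node (nat_lit 0x103214d) (.leaf (nat_lit 0x103214b) (nat_lit 1536))
 (.leaf (nat_lit 0x103214d) (nat_lit 2049))
) (.node (nat_lit 0x1032151) (.leaf (nat_lit 0x103214f) (nat_lit 2049))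
 (.node (nat_lit 0x1032153) (.leaf (nat_lit 0x1032151) (nat_lit 3328))
 (.leaf (nat_lit 0x1032153) (nat_lit 3330))
)))) (.node (nat_lit 0x103215f) (.node (nat_lit 0x1032159) (.node (nat_lit 0x1032157) (.leaf (nat_lit 0x1032155) (nat_lit 3075))
 (.leaf (nat_lit 0x1032157) (nat_lit 3073))
) (.node (nat_lit 0x103215b) (.leaf (nat_lit 0x1032159) (nat_lit 3329))
 (.node (nat_lit 0x103215d) (.leaf (nat_lit 0x103215b) (nat_lit 3073))
 (.leaf (nat_lit 0x103215d) (nat_lit 2819))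
))) (.node (nat_lit 0x1032185) (.node (nat_lit 0x1032181) (.leaf (nat_lit 0x103215f) (nat_lit 2819))
 (.node (nat_lit 0x1032183) (.leaf (nat_lit 0x1032181) (nat_lit 1282))
 (.leaf (nat_lit 0x1032183) (nat_lit 1538))
)) (.node (nat_lit 0x1032187) (.leaf (nat_lit 0x1032185) (nat_lit 1793))
 (.node (nat_lit 0x1032189) (.leaf (nat_lit 0x1032187) (nat_lit 2049))
 (.leaf (nat_lit 0x1032189) (nat_lit 2048))
))))) (.node (nat_lit 0x103219f) (.node (nat_lit 0x1032195) (.node (nat_lit 0x103218f) (.node (nat_lit 0x103218d) (.leaf (nat_lit 0x103218b) (nat_lit 2304))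
 (.leaf (nat_lit 0x103218d) (nat_lit 1538))
) (.node (nat_lit 0x1032191) (.leaf (nat_lit 0x103218f) (nat_lit 1794))
 (.node (nat_lit 0x1032193) (.leaf (nat_lit 0x1032191) (nat_lit 3331))
 (.leaf (nat_lit 0x1032193) (nat_lit 3075))
))) (.node (nat_lit 0x1032199) (.node (nat_lit 0x1032197) (.leaf (nat_lit 0x1032195) (nat_lit 3074))
 (.leaf (nat_lit 0x1032197) (nat_lit 3074))
) (.node (nat_lit 0x103219b) (.leaf (nat_lit 0x1032199) (nat_lit 3330))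
 (.node (nat_lit 0x103219d) (.leaf (nat_lit 0x103219b) (nat_lit 3074))
 (.leaf (nat_lit 0x103219d) (nat_lit 3074))
)))) (.node (nat_lit 0x1032249) (.node (nat_lit 0x1032243) (.node (nat_lit 0x1032241) (.leaf (nat_lit 0x103219f) (nat_lit 3074))
 (.leaf (nat_lit 0x1032241) (nat_lit 2562))
) (.node (nat_lit 0x1032245) (.leaf (nat_lit 0x1032243) (nat_lit 2818))
 (.node (nat_lit 0x1032247) (.leaf (nat_lit 0x1032245) (nat_lit 2819))
 (.leaf (nat_lit 0x1032247) (nat_lit 2818))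
))) (.node (nat_lit 0x103224f) (.node (nat_lit 0x103224b) (.leaf (nat_lit 0x1032249) (nat_lit 2821))
 (.node (nat_lit 0x103224d) (.leaf (nat_lit 0x103224b) (nat_lit 3077))
 (.leaf (nat_lit 0x103224d) (nat_lit 2819))
)) (.node (nat_lit 0x1032251) (.leaf (nat_lit 0x103224f) (nat_lit 2818))
 (.node (nat_lit 0x1032253) (.leaf (nat_lit 0x1032251) (nat_lit 3074))
 (.leaf (nat_lit 0x1032253) (nat_lit 2818))
)))))) (.node (nat_lit 0x103229f) (.node (nat_lit 0x1032289) (.node (nat_lit 0x103225f) (.node (nat_lit 0x1032259) (.node (nat_lit 0x1032257) (.leaf (nat_lit 0x1032255) (nat_lit 3074))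
 (.leaf (nat_lit 0x1032257) (nat_lit 3075))
) (.node (nat_lit 0x103225b) (.leaf (nat_lit 0x1032259) (nat_lit 3073))
 (.node (nat_lit 0x103225d) (.leaf (nat_lit 0x103225b) (nat_lit 2817))
 (.leaf (nat_lit 0x103225d) (nat_lit 2818))
))) (.node (nat_lit 0x1032283) (.node (nat_lit 0x1032281) (.leaf (nat_lit 0x103225f) (nat_lit 3074))
 (.leaf (nat_lit 0x1032281) (nat_lit 2306))
) (.node (nat_lit 0x1032285) (.leaf (nat_lit 0x1032283) (nat_lit 2562))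
 (.node (nat_lit 0x1032287) (.leaf (nat_lit 0x1032285) (nat_lit 3074))
 (.leaf (nat_lit 0x1032287) (nat_lit 2818))
)))) (.node (nat_lit 0x1032293) (.node (nat_lit 0x103228d) (.node (nat_lit 0x103228b) (.leaf (nat_lit 0x1032289) (nat_lit 2819))
 (.leaf (nat_lit 0x103228b) (nat_lit 2819))
) (.node (nat_lit 0x103228f) (.leaf (nat_lit 0x103228d) (nat_lit 2818))
 (.node (nat_lit 0x1032291) (.leaf (nat_lit 0x103228f) (nat_lit 2818))
 (.leaf (nat_lit 0x1032291) (nat_lit 3330))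
))) (.node (nat_lit 0x1032299) (.node (nat_lit 0x1032295) (.leaf (nat_lit 0x1032293) (nat_lit 3074))
 (.node (nat_lit 0x1032297) (.leaf (nat_lit 0x1032295) (nat_lit 2562))
 (.leaf (nat_lit 0x1032297) (nat_lit 2818))
)) (.node (nat_lit 0x103229b) (.leaf (nat_lit 0x1032299) (nat_lit 3074))
 (.node (nat_lit 0x103229d) (.leaf (nat_lit 0x103229b) (nat_lit 2818))
 (.leaf (nat_lit 0x103229d) (nat_lit 2563))
))))) (.node (nat_lit 0x1032353) (.node (nat_lit 0x1032349) (.node (nat_lit 0x1032343) (.node (nat_lit 0x1032341) (.leaf (nat_lit 0x103229f) (nat_lit 2819))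
 (.leaf (nat_lit 0x1032341) (nat_lit 2306))
) (.node (nat_lit 0x1032345) (.leaf (nat_lit 0x1032343) (nat_lit 2562))
 (.node (nat_lit 0x1032347) (.leaf (nat_lit 0x1032345) (nat_lit 2563))
 (.leaf (nat_lit 0x1032347) (nat_lit 2562))
))) (.node (nat_lit 0x103234d) (.node (nat_lit 0x103234b) (.leaf (nat_lit 0x1032349) (nat_lit 3076))
 (.leaf (nat_lit 0x103234b) (nat_lit 3332))
) (.node (nat_lit 0x103234f) (.leaf (nat_lit 0x103234d) (nat_lit 2818))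
 (.node (nat_lit 0x1032351) (.leaf (nat_lit 0x103234f) (nat_lit 2562))
 (.leaf (nat_lit 0x1032351) (nat_lit 3329))
)))) (.node (nat_lit 0x103235d) (.node (nat_lit 0x1032357) (.node (nat_lit 0x1032355) (.leaf (nat_lit 0x1032353) (nat_lit 3073))
 (.leaf (nat_lit 0x1032355) (nat_lit 2818))
) (.node (nat_lit 0x1032359) (.leaf (nat_lit 0x1032357) (nat_lit 3074))
 (.node (nat_lit 0x103235b) (.leaf (nat_lit 0x1032359) (nat_lit 2818))
 (.leaf (nat_lit 0x103235b) (nat_lit 2562))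
))) (.node (nat_lit 0x1032383) (.node (nat_lit 0x103235f) (.leaf (nat_lit 0x103235d) (nat_lit 2818))
 (.node (nat_lit 0x1032381) (.leaf (nat_lit 0x103235f) (nat_lit 2819))
 (.leaf (nat_lit 0x1032381) (nat_lit 2051))
)) (.node (nat_lit 0x1032385) (.leaf (nat_lit 0x1032383) (nat_lit 2307))
 (.node (nat_lit 0x1032387) (.leaf (nat_lit 0x1032385) (nat_lit 2819))
 (.leaf (nat_lit 0x1032387) (nat_lit 2819))
))))))) (.node (nat_lit 0x103289d) (.node (nat_lit 0x1032853) (.node (nat_lit 0x103239d) (.node (nat_lit 0x1032393) (.node (nat_lit 0x103238d) (.node (nat_lit 0x103238b) (.leaf (nat_lit 0x1032389) (nat_lit 3076))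
 (.leaf (nat_lit 0x103238b) (nat_lit 2820))
) (.node (nat_lit 0x103238f) (.leaf (nat_lit 0x103238d) (nat_lit 3073))
 (.node (nat_lit 0x1032391) (.leaf (nat_lit 0x103238f) (nat_lit 3075))
 (.leaf (nat_lit 0x1032391) (nat_lit 3330))
))) (.node (nat_lit 0x1032397) (.node (nat_lit 0x1032395) (.leaf (nat_lit 0x1032393) (nat_lit 3074))
 (.leaf (nat_lit 0x1032395) (nat_lit 2817))
) (.node (nat_lit 0x1032399) (.leaf (nat_lit 0x1032397) (nat_lit 3073))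
 (.node (nat_lit 0x103239b) (.leaf (nat_lit 0x1032399) (nat_lit 3074))
 (.leaf (nat_lit 0x103239b) (nat_lit 2818))
)))) (.node (nat_lit 0x1032847) (.node (nat_lit 0x1032841) (.node (nat_lit 0x103239f) (.leaf (nat_lit 0x103239d) (nat_lit 2307))
 (.leaf (nat_lit 0x103239f) (nat_lit 2563))
) (.node (nat_lit 0x1032843) (.leaf (nat_lit 0x1032841) (nat_lit 1028))
 (.node (nat_lit 0x1032845) (.leaf (nat_lit 0x1032843) (nat_lit 1284))
 (.leaf (nat_lit 0x1032845) (nat_lit 1796))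
))) (.node (nat_lit 0x103284d) (.node (nat_lit 0x1032849) (.leaf (nat_lit 0x1032847) (nat_lit 1796))
 (.node (nat_lit 0x103284b) (.leaf (nat_lit 0x1032849) (nat_lit 1796))
 (.leaf (nat_lit 0x103284b) (nat_lit 1796))
)) (.node (nat_lit 0x103284f) (.leaf (nat_lit 0x103284d) (nat_lit 2053))
 (.node (nat_lit 0x1032851) (.leaf (nat_lit 0x103284f) (nat_lit 2053))
 (.leaf (nat_lit 0x1032851) (nat_lit 3588))
))))) (.node (nat_lit 0x1032887) (.node (nat_lit 0x103285d) (.node (nat_lit 0x1032857) (.node (nat_lit 0x1032855) (.leaf (nat_lit 0x1032853) (nat_lit 3588))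
 (.leaf (nat_lit 0x1032855) (nat_lit 2820))
) (.node (nat_lit 0x1032859) (.leaf (nat_lit 0x1032857) (nat_lit 2820))
 (.node (nat_lit 0x103285b) (.leaf (nat_lit 0x1032859) (nat_lit 2820))
 (.leaf (nat_lit 0x103285b) (nat_lit 2820))
))) (.node (nat_lit 0x1032881) (.node (nat_lit 0x103285f) (.leaf (nat_lit 0x103285d) (nat_lit 2821))
 (.leaf (nat_lit 0x103285f) (nat_lit 2820))
) (.node (nat_lit 0x1032883) (.leaf (nat_lit 0x1032881) (nat_lit 1284))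
 (.node (nat_lit 0x1032885) (.leaf (nat_lit 0x1032883) (nat_lit 1540))
 (.leaf (nat_lit 0x1032885) (nat_lit 1540))
)))) (.node (nat_lit 0x1032891) (.node (nat_lit 0x103288b) (.node (nat_lit 0x1032889) (.leaf (nat_lit 0x1032887) (nat_lit 1796))
 (.leaf (nat_lit 0x1032889) (nat_lit 2309))
) (.node (nat_lit 0x103288d) (.leaf (nat_lit 0x103288b) (nat_lit 2053))
 (.node (nat_lit 0x103288f) (.leaf (nat_lit 0x103288d) (nat_lit 2308))
 (.leaf (nat_lit 0x103288f) (nat_lit 2052))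
))) (.node (nat_lit 0x1032897) (.node (nat_lit 0x1032893) (.leaf (nat_lit 0x1032891) (nat_lit 3332))
 (.node (nat_lit 0x1032895) (.leaf (nat_lit 0x1032893) (nat_lit 3076))
 (.leaf (nat_lit 0x1032895) (nat_lit 3588))
)) (.node (nat_lit 0x1032899) (.leaf (nat_lit 0x1032897) (nat_lit 3332))
 (.node (nat_lit 0x103289b) (.leaf (nat_lit 0x1032899) (nat_lit 3076))
 (.leaf (nat_lit 0x103289b) (nat_lit 3076))
)))))) (.node (nat_lit 0x10329c7) (.node (nat_lit 0x1032911) (.node (nat_lit 0x1032907) (.node (nat_lit 0x1032901) (.node (nat_lit 0x103289f) (.leaf (nat_lit 0x103289d) (nat_lit 3077))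
 (.leaf (nat_lit 0x103289f) (nat_lit 3076))
) (.node (nat_lit 0x1032903) (.leaf (nat_lit 0x1032901) (nat_lit 1284))
 (.node (nat_lit 0x1032905) (.leaf (nat_lit 0x1032903) (nat_lit 1540))
 (.leaf (nat_lit 0x1032905) (nat_lit 2052))
))) (.node (nat_lit 0x103290b) (.node (nat_lit 0x1032909) (.leaf (nat_lit 0x1032907) (nat_lit 2052))
 (.leaf (nat_lit 0x1032909) (nat_lit 1540))
) (.node (nat_lit 0x103290d) (.leaf (nat_lit 0x103290b) (nat_lit 1796))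
 (.node (nat_lit 0x103290f) (.leaf (nat_lit 0x103290d) (nat_lit 2305))
 (.leaf (nat_lit 0x103290f) (nat_lit 2308))
)))) (.node (nat_lit 0x103291b) (.node (nat_lit 0x1032915) (.node (nat_lit 0x1032913) (.leaf (nat_lit 0x1032911) (nat_lit 3332))
 (.leaf (nat_lit 0x1032913) (nat_lit 3332))
) (.node (nat_lit 0x1032917) (.leaf (nat_lit 0x1032915) (nat_lit 3076))
 (.node (nat_lit 0x1032919) (.leaf (nat_lit 0x1032917) (nat_lit 3076))
 (.leaf (nat_lit 0x1032919) (nat_lit 3076))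
))) (.node (nat_lit 0x10329c1) (.node (nat_lit 0x103291d) (.leaf (nat_lit 0x103291b) (nat_lit 3076))
 (.node (nat_lit 0x103291f) (.leaf (nat_lit 0x103291d) (nat_lit 3073))
 (.leaf (nat_lit 0x103291f) (nat_lit 3076))
)) (.node (nat_lit 0x10329c3) (.leaf (nat_lit 0x10329c1) (nat_lit 1540))
 (.node (nat_lit 0x10329c5) (.leaf (nat_lit 0x10329c3) (nat_lit 1796))
 (.leaf (nat_lit 0x10329c5) (nat_lit 1796))
))))) (.node (nat_lit 0x10329db) (.node (nat_lit 0x10329d1) (.node (nat_lit 0x10329cb) (.node (nat_lit 0x10329c9) (.leaf (nat_lit 0x10329c7) (nat_lit 2052))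
 (.leaf (nat_lit 0x10329c9) (nat_lit 2308))
) (.node (nat_lit 0x10329cd) (.leaf (nat_lit 0x10329cb) (nat_lit 2052))
 (.node (nat_lit 0x10329cf) (.leaf (nat_lit 0x10329cd) (nat_lit 2052))
 (.leaf (nat_lit 0x10329cf) (nat_lit 1796))
))) (.node (nat_lit 0x10329d5) (.node (nat_lit 0x10329d3) (.leaf (nat_lit 0x10329d1) (nat_lit 3588))
 (.leaf (nat_lit 0x10329d3) (nat_lit 3332))
) (.node (nat_lit 0x10329d7) (.leaf (nat_lit 0x10329d5) (nat_lit 3330))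
 (.node (nat_lit 0x10329d9) (.leaf (nat_lit 0x10329d7) (nat_lit 3332))
 (.leaf (nat_lit 0x10329d9) (nat_lit 3332))
)))) (.node (nat_lit 0x1032a45) (.node (nat_lit 0x10329df) (.node (nat_lit 0x10329dd) (.leaf (nat_lit 0x10329db) (nat_lit 3332))
 (.leaf (nat_lit 0x10329dd) (nat_lit 3329))
) (.node (nat_lit 0x1032a41) (.leaf (nat_lit 0x10329df) (nat_lit 3332))
 (.node (nat_lit 0x1032a43) (.leaf (nat_lit 0x1032a41) (nat_lit 2308))
 (.leaf (nat_lit 0x1032a43) (nat_lit 2564))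
))) (.node (nat_lit 0x1032a4b) (.node (nat_lit 0x1032a47) (.leaf (nat_lit 0x1032a45) (nat_lit 2820))
 (.node (nat_lit 0x1032a49) (.leaf (nat_lit 0x1032a47) (nat_lit 2564))
 (.leaf (nat_lit 0x1032a49) (nat_lit 3076))
)) (.node (nat_lit 0x1032a4d) (.leaf (nat_lit 0x1032a4b) (nat_lit 2820))
 (.node (nat_lit 0x1032a4f) (.leaf (nat_lit 0x1032a4d) (nat_lit 2821))
 (.leaf (nat_lit 0x1032a4f) (nat_lit 3077))
)))))))) (.node (nat_lit 0x1033099) (.node (nat_lit 0x1032bc5) (.node (nat_lit 0x1032a9b) (.node (nat_lit 0x1032a85) (.node (nat_lit 0x1032a5b) (.node (nat_lit 0x1032a55) (.node (nat_lit 0x1032a53) (.leaf (nat_lit 0x1032a51) (nat_lit 2820))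
 (.leaf (nat_lit 0x1032a53) (nat_lit 2564))
) (.node (nat_lit 0x1032a57) (.leaf (nat_lit 0x1032a55) (nat_lit 2820))
 (.node (nat_lit 0x1032a59) (.leaf (nat_lit 0x1032a57) (nat_lit 3076))
 (.leaf (nat_lit 0x1032a59) (nat_lit 2820))
))) (.node (nat_lit 0x1032a5f) (.node (nat_lit 0x1032a5d) (.leaf (nat_lit 0x1032a5b) (nat_lit 3076))
 (.leaf (nat_lit 0x1032a5d) (nat_lit 3332))
) (.node (nat_lit 0x1032a81) (.leaf (nat_lit 0x1032a5f) (nat_lit 3076))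
 (.node (nat_lit 0x1032a83) (.leaf (nat_lit 0x1032a81) (nat_lit 2309))
 (.leaf (nat_lit 0x1032a83) (nat_lit 2565))
)))) (.node (nat_lit 0x1032a8f) (.node (nat_lit 0x1032a89) (.node (nat_lit 0x1032a87) (.leaf (nat_lit 0x1032a85) (nat_lit 2821))
 (.leaf (nat_lit 0x1032a87) (nat_lit 2565))
) (.node (nat_lit 0x1032a8b) (.leaf (nat_lit 0x1032a89) (nat_lit 2821))
 (.node (nat_lit 0x1032a8d) (.leaf (nat_lit 0x1032a8b) (nat_lit 2565))
 (.leaf (nat_lit 0x1032a8d) (nat_lit 2821))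
))) (.node (nat_lit 0x1032a95) (.node (nat_lit 0x1032a91) (.leaf (nat_lit 0x1032a8f) (nat_lit 3077))
 (.node (nat_lit 0x1032a93) (.leaf (nat_lit 0x1032a91) (nat_lit 3077))
 (.leaf (nat_lit 0x1032a93) (nat_lit 2821))
)) (.node (nat_lit 0x1032a97) (.leaf (nat_lit 0x1032a95) (nat_lit 2565))
 (.node (nat_lit 0x1032a99) (.leaf (nat_lit 0x1032a97) (nat_lit 2821))
 (.leaf (nat_lit 0x1032a99) (nat_lit 3077))
))))) (.node (nat_lit 0x1032b0f) (.node (nat_lit 0x1032b05) (.node (nat_lit 0x1032a9f) (.node (nat_lit 0x1032a9d) (.leaf (nat_lit 0x1032a9b) (nat_lit 3333))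
 (.leaf (nat_lit 0x1032a9d) (nat_lit 3077))
) (.node (nat_lit 0x1032b01) (.leaf (nat_lit 0x1032a9f) (nat_lit 2821))
 (.node (nat_lit 0x1032b03) (.leaf (nat_lit 0x1032b01) (nat_lit 2308))
 (.leaf (nat_lit 0x1032b03) (nat_lit 2564))
))) (.node (nat_lit 0x1032b09) (.node (nat_lit 0x1032b07) (.leaf (nat_lit 0x1032b05) (nat_lit 2819))
 (.leaf (nat_lit 0x1032b07) (nat_lit 2821))
) (.node (nat_lit 0x1032b0b) (.leaf (nat_lit 0x1032b09) (nat_lit 3077))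
 (.node (nat_lit 0x1032b0d) (.leaf (nat_lit 0x1032b0b) (nat_lit 2821))
 (.leaf (nat_lit 0x1032b0d) (nat_lit 3077))
)))) (.node (nat_lit 0x1032b19) (.node (nat_lit 0x1032b13) (.node (nat_lit 0x1032b11) (.leaf (nat_lit 0x1032b0f) (nat_lit 3076))
 (.leaf (nat_lit 0x1032b11) (nat_lit 3076))
) (.node (nat_lit 0x1032b15) (.leaf (nat_lit 0x1032b13) (nat_lit 2820))
 (.node (nat_lit 0x1032b17) (.leaf (nat_lit 0x1032b15) (nat_lit 3076))
 (.leaf (nat_lit 0x1032b17) (nat_lit 3332))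
))) (.node (nat_lit 0x1032b1f) (.node (nat_lit 0x1032b1b) (.leaf (nat_lit 0x1032b19) (nat_lit 2564))
 (.node (nat_lit 0x1032b1d) (.leaf (nat_lit 0x1032b1b) (nat_lit 2820))
 (.leaf (nat_lit 0x1032b1d) (nat_lit 3076))
)) (.node (nat_lit 0x1032bc1) (.leaf (nat_lit 0x1032b1f) (nat_lit 2820))
 (.node (nat_lit 0x1032bc3) (.leaf (nat_lit 0x1032bc1) (nat_lit 2308))
 (.leaf (nat_lit 0x1032bc3) (nat_lit 2564))
)))))) (.node (nat_lit 0x103304f) (.node (nat_lit 0x1032bd9) (.node (nat_lit 0x1032bcf) (.node (nat_lit 0x1032bc9) (.node (nat_lit 0x1032bc7) (.leaf (nat_lit 0x1032bc5) (nat_lit 2820))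
 (.leaf (nat_lit 0x1032bc7) (nat_lit 2564))
) (.node (nat_lit 0x1032bcb) (.leaf (nat_lit 0x1032bc9) (nat_lit 2820))
 (.node (nat_lit 0x1032bcd) (.leaf (nat_lit 0x1032bcb) (nat_lit 2564))
 (.leaf (nat_lit 0x1032bcd) (nat_lit 2820))
))) (.node (nat_lit 0x1032bd3) (.node (nat_lit 0x1032bd1) (.leaf (nat_lit 0x1032bcf) (nat_lit 3076))
 (.leaf (nat_lit 0x1032bd1) (nat_lit 3332))
) (.node (nat_lit 0x1032bd5) (.leaf (nat_lit 0x1032bd3) (nat_lit 3076))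
 (.node (nat_lit 0x1032bd7) (.leaf (nat_lit 0x1032bd5) (nat_lit 2820))
 (.leaf (nat_lit 0x1032bd7) (nat_lit 3076))
)))) (.node (nat_lit 0x1033043) (.node (nat_lit 0x1032bdd) (.node (nat_lit 0x1032bdb) (.leaf (nat_lit 0x1032bd9) (nat_lit 2820))
 (.leaf (nat_lit 0x1032bdb) (nat_lit 3076))
) (.node (nat_lit 0x1032bdf) (.leaf (nat_lit 0x1032bdd) (nat_lit 2820))
 (.node (nat_lit 0x1033041) (.leaf (nat_lit 0x1032bdf) (nat_lit 2564))
 (.leaf (nat_lit 0x1033041) (nat_lit 1029))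
))) (.node (nat_lit 0x1033049) (.node (nat_lit 0x1033045) (.leaf (nat_lit 0x1033043) (nat_lit 1285))
 (.node (nat_lit 0x1033047) (.leaf (nat_lit 0x1033045) (nat_lit 1797))
 (.leaf (nat_lit 0x1033047) (nat_lit 1797))
)) (.node (nat_lit 0x103304b) (.leaf (nat_lit 0x1033049) (nat_lit 2050))
 (.node (nat_lit 0x103304d) (.leaf (nat_lit 0x103304b) (nat_lit 2050))
 (.leaf (nat_lit 0x103304d) (nat_lit 1797))
))))) (.node (nat_lit 0x1033083) (.node (nat_lit 0x1033059) (.node (nat_lit 0x1033053) (.node (nat_lit 0x1033051) (.leaf (nat_lit 0x103304f) (nat_lit 1797))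
 (.leaf (nat_lit 0x1033051) (nat_lit 3589))
) (.node (nat_lit 0x1033055) (.leaf (nat_lit 0x1033053) (nat_lit 3589))
 (.node (nat_lit 0x1033057) (.leaf (nat_lit 0x1033055) (nat_lit 2821))
 (.leaf (nat_lit 0x1033057) (nat_lit 2821))
))) (.node (nat_lit 0x103305d) (.node (nat_lit 0x103305b) (.leaf (nat_lit 0x1033059) (nat_lit 2819))
 (.leaf (nat_lit 0x103305b) (nat_lit 2821))
) (.node (nat_lit 0x103305f) (.leaf (nat_lit 0x103305d) (nat_lit 2821))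
 (.node (nat_lit 0x1033081) (.leaf (nat_lit 0x103305f) (nat_lit 2821))
 (.leaf (nat_lit 0x1033081) (nat_lit 1538))
)))) (.node (nat_lit 0x103308d) (.node (nat_lit 0x1033087) (.node (nat_lit 0x1033085) (.leaf (nat_lit 0x1033083) (nat_lit 1794))
 (.leaf (nat_lit 0x1033085) (nat_lit 1794))
) (.node (nat_lit 0x1033089) (.leaf (nat_lit 0x1033087) (nat_lit 2050))
 (.node (nat_lit 0x103308b) (.leaf (nat_lit 0x1033089) (nat_lit 2049))
 (.leaf (nat_lit 0x103308b) (nat_lit 2305))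
))) (.node (nat_lit 0x1033093) (.node (nat_lit 0x103308f) (.leaf (nat_lit 0x103308d) (nat_lit 2053))
 (.node (nat_lit 0x1033091) (.leaf (nat_lit 0x103308f) (nat_lit 2309))
 (.leaf (nat_lit 0x1033091) (nat_lit 3586))
)) (.node (nat_lit 0x1033095) (.leaf (nat_lit 0x1033093) (nat_lit 3330))
 (.node (nat_lit 0x1033097) (.leaf (nat_lit 0x1033095) (nat_lit 3589))
 (.leaf (nat_lit 0x1033097) (nat_lit 3588))
))))))) (.node (nat_lit 0x103324d) (.node (nat_lit 0x10331c3) (.node (nat_lit 0x103310d) (.node (nat_lit 0x1033103) (.node (nat_lit 0x103309d) (.node (nat_lit 0x103309b) (.leaf (nat_lit 0x1033099) (nat_lit 3333))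
 (.leaf (nat_lit 0x103309b) (nat_lit 3077))
) (.node (nat_lit 0x103309f) (.leaf (nat_lit 0x103309d) (nat_lit 3331))
 (.node (nat_lit 0x1033101) (.leaf (nat_lit 0x103309f) (nat_lit 3075))
 (.leaf (nat_lit 0x1033101) (nat_lit 1538))
))) (.node (nat_lit 0x1033107) (.node (nat_lit 0x1033105) (.leaf (nat_lit 0x1033103) (nat_lit 1794))
 (.leaf (nat_lit 0x1033105) (nat_lit 2049))
) (.node (nat_lit 0x1033109) (.leaf (nat_lit 0x1033107) (nat_lit 2305))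
 (.node (nat_lit 0x103310b) (.leaf (nat_lit 0x1033109) (nat_lit 1794))
 (.leaf (nat_lit 0x103310b) (nat_lit 2050))
)))) (.node (nat_lit 0x1033117) (.node (nat_lit 0x1033111) (.node (nat_lit 0x103310f) (.leaf (nat_lit 0x103310d) (nat_lit 2305))
 (.leaf (nat_lit 0x103310f) (nat_lit 2561))
) (.node (nat_lit 0x1033113) (.leaf (nat_lit 0x1033111) (nat_lit 3587))
 (.node (nat_lit 0x1033115) (.leaf (nat_lit 0x1033113) (nat_lit 3331))
 (.leaf (nat_lit 0x1033115) (nat_lit 3330))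
))) (.node (nat_lit 0x103311d) (.node (nat_lit 0x1033119) (.leaf (nat_lit 0x1033117) (nat_lit 3330))
 (.node (nat_lit 0x103311b) (.leaf (nat_lit 0x1033119) (nat_lit 3330))
 (.leaf (nat_lit 0x103311b) (nat_lit 3330))
)) (.node (nat_lit 0x103311f) (.leaf (nat_lit 0x103311d) (nat_lit 3330))
 (.node (nat_lit 0x10331c1) (.leaf (nat_lit 0x103311f) (nat_lit 3330))
 (.leaf (nat_lit 0x10331c1) (nat_lit 1281))
))))) (.node (nat_lit 0x10331d7) (.node (nat_lit 0x10331cd) (.node (nat_lit 0x10331c7) (.node (nat_lit 0x10331c5) (.leaf (nat_lit 0x10331c3) (nat_lit 1537))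
 (.leaf (nat_lit 0x10331c5) (nat_lit 2050))
) (.node (nat_lit 0x10331c9) (.leaf (nat_lit 0x10331c7) (nat_lit 2049))
 (.node (nat_lit 0x10331cb) (.leaf (nat_lit 0x10331c9) (nat_lit 2304))
 (.leaf (nat_lit 0x10331cb) (nat_lit 2305))
))) (.node (nat_lit 0x10331d1) (.node (nat_lit 0x10331cf) (.leaf (nat_lit 0x10331cd) (nat_lit 1792))
 (.leaf (nat_lit 0x10331cf) (nat_lit 1536))
) (.node (nat_lit 0x10331d3) (.leaf (nat_lit 0x10331d1) (nat_lit 3328))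
 (.node (nat_lit 0x10331d5) (.leaf (nat_lit 0x10331d3) (nat_lit 3328))
 (.leaf (nat_lit 0x10331d5) (nat_lit 3075))
)))) (.node (nat_lit 0x1033241) (.node (nat_lit 0x10331db) (.node (nat_lit 0x10331d9) (.leaf (nat_lit 0x10331d7) (nat_lit 3073))
 (.leaf (nat_lit 0x10331d9) (nat_lit 3075))
) (.node (nat_lit 0x10331dd) (.leaf (nat_lit 0x10331db) (nat_lit 3075))
 (.node (nat_lit 0x10331df) (.leaf (nat_lit 0x10331dd) (nat_lit 3073))
 (.leaf (nat_lit 0x10331df) (nat_lit 3073))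
))) (.node (nat_lit 0x1033247) (.node (nat_lit 0x1033243) (.leaf (nat_lit 0x1033241) (nat_lit 2309))
 (.node (nat_lit 0x1033245) (.leaf (nat_lit 0x1033243) (nat_lit 2565))
 (.leaf (nat_lit 0x1033245) (nat_lit 2821))
)) (.node (nat_lit 0x1033249) (.leaf (nat_lit 0x1033247) (nat_lit 2565))
 (.node (nat_lit 0x103324b) (.leaf (nat_lit 0x1033249) (nat_lit 3077))
 (.leaf (nat_lit 0x103324b) (nat_lit 2821))
)))))) (.node (nat_lit 0x1033297) (.node (nat_lit 0x1033281) (.node (nat_lit 0x1033257) (.node (nat_lit 0x1033251) (.node (nat_lit 0x103324f) (.leaf (nat_lit 0x103324d) (nat_lit 2565))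
 (.leaf (nat_lit 0x103324f) (nat_lit 2821))
) (.node (nat_lit 0x1033253) (.leaf (nat_lit 0x1033251) (nat_lit 2821))
 (.node (nat_lit 0x1033255) (.leaf (nat_lit 0x1033253) (nat_lit 2565))
 (.leaf (nat_lit 0x1033255) (nat_lit 2821))
))) (.node (nat_lit 0x103325b) (.node (nat_lit 0x1033259) (.leaf (nat_lit 0x1033257) (nat_lit 3077))
 (.leaf (nat_lit 0x1033259) (nat_lit 3077))
) (.node (nat_lit 0x103325d) (.leaf (nat_lit 0x103325b) (nat_lit 3333))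
 (.node (nat_lit 0x103325f) (.leaf (nat_lit 0x103325d) (nat_lit 3077))
 (.leaf (nat_lit 0x103325f) (nat_lit 2821))
)))) (.node (nat_lit 0x103328b) (.node (nat_lit 0x1033285) (.node (nat_lit 0x1033283) (.leaf (nat_lit 0x1033281) (nat_lit 2309))
 (.leaf (nat_lit 0x1033283) (nat_lit 2565))
) (.node (nat_lit 0x1033287) (.leaf (nat_lit 0x1033285) (nat_lit 3077))
 (.node (nat_lit 0x1033289) (.leaf (nat_lit 0x1033287) (nat_lit 2821))
 (.leaf (nat_lit 0x1033289) (nat_lit 3077))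
))) (.node (nat_lit 0x1033291) (.node (nat_lit 0x103328d) (.leaf (nat_lit 0x103328b) (nat_lit 2821))
 (.node (nat_lit 0x103328f) (.leaf (nat_lit 0x103328d) (nat_lit 2565))
 (.leaf (nat_lit 0x103328f) (nat_lit 2821))
)) (.node (nat_lit 0x1033293) (.leaf (nat_lit 0x1033291) (nat_lit 3333))
 (.node (nat_lit 0x1033295) (.leaf (nat_lit 0x1033293) (nat_lit 3077))
 (.leaf (nat_lit 0x1033295) (nat_lit 2565))
))))) (.node (nat_lit 0x103330b) (.node (nat_lit 0x1033301) (.node (nat_lit 0x103329b) (.node (nat_lit 0x1033299) (.leaf (nat_lit 0x1033297) (nat_lit 2821))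
 (.leaf (nat_lit 0x1033299) (nat_lit 2821))
) (.node (nat_lit 0x103329d) (.leaf (nat_lit 0x103329b) (nat_lit 3077))
 (.node (nat_lit 0x103329f) (.leaf (nat_lit 0x103329d) (nat_lit 3333))
 (.leaf (nat_lit 0x103329f) (nat_lit 3077))
))) (.node (nat_lit 0x1033305) (.node (nat_lit 0x1033303) (.leaf (nat_lit 0x1033301) (nat_lit 2307))
 (.leaf (nat_lit 0x1033303) (nat_lit 2563))
) (.node (nat_lit 0x1033307) (.leaf (nat_lit 0x1033305) (nat_lit 3075))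
 (.node (nat_lit 0x1033309) (.leaf (nat_lit 0x1033307) (nat_lit 3075))
 (.leaf (nat_lit 0x1033309) (nat_lit 3329))
)))) (.node (nat_lit 0x1033315) (.node (nat_lit 0x103330f) (.node (nat_lit 0x103330d) (.leaf (nat_lit 0x103330b) (nat_lit 3073))
 (.leaf (nat_lit 0x103330d) (nat_lit 2817))
) (.node (nat_lit 0x1033311) (.leaf (nat_lit 0x103330f) (nat_lit 3073))
 (.node (nat_lit 0x1033313) (.leaf (nat_lit 0x1033311) (nat_lit 3330))
 (.leaf (nat_lit 0x1033313) (nat_lit 3074))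
))) (.node (nat_lit 0x103331b) (.node (nat_lit 0x1033317) (.leaf (nat_lit 0x1033315) (nat_lit 2817))
 (.node (nat_lit 0x1033319) (.leaf (nat_lit 0x1033317) (nat_lit 3073))
 (.leaf (nat_lit 0x1033319) (nat_lit 2563))
)) (.node (nat_lit 0x103331d) (.leaf (nat_lit 0x103331b) (nat_lit 2819))
 (.node (nat_lit 0x103331f) (.leaf (nat_lit 0x103331d) (nat_lit 3330))
 (.leaf (nat_lit 0x103331f) (nat_lit 3074))
))))))))) (.node (nat_lit 0x1034951) (.node (nat_lit 0x1033a49) (.node (nat_lit 0x1033895) (.node (nat_lit 0x103384b) (.node (nat_lit 0x10333d5) (.node (nat_lit 0x10333cb) (.node (nat_lit 0x10333c5) (.node (nat_lit 0x10333c3) (.leaf (nat_lit 0x10333c1) (nat_lit 2562))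
 (.leaf (nat_lit 0x10333c3) (nat_lit 2818))
) (.node (nat_lit 0x10333c7) (.leaf (nat_lit 0x10333c5) (nat_lit 2819))
 (.node (nat_lit 0x10333c9) (.leaf (nat_lit 0x10333c7) (nat_lit 2818))
 (.leaf (nat_lit 0x10333c9) (nat_lit 3074))
))) (.node (nat_lit 0x10333cf) (.node (nat_lit 0x10333cd) (.leaf (nat_lit 0x10333cb) (nat_lit 2818))
 (.leaf (nat_lit 0x10333cd) (nat_lit 2820))
) (.node (nat_lit 0x10333d1) (.leaf (nat_lit 0x10333cf) (nat_lit 3076))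
 (.node (nat_lit 0x10333d3) (.leaf (nat_lit 0x10333d1) (nat_lit 3073))
 (.leaf (nat_lit 0x10333d3) (nat_lit 2817))
)))) (.node (nat_lit 0x10333df) (.node (nat_lit 0x10333d9) (.node (nat_lit 0x10333d7) (.leaf (nat_lit 0x10333d5) (nat_lit 3073))
 (.leaf (nat_lit 0x10333d7) (nat_lit 3329))
) (.node (nat_lit 0x10333db) (.leaf (nat_lit 0x10333d9) (nat_lit 3074))
 (.node (nat_lit 0x10333dd) (.leaf (nat_lit 0x10333db) (nat_lit 3075))
 (.leaf (nat_lit 0x10333dd) (nat_lit 3074))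
))) (.node (nat_lit 0x1033845) (.node (nat_lit 0x1033841) (.leaf (nat_lit 0x10333df) (nat_lit 2818))
 (.node (nat_lit 0x1033843) (.leaf (nat_lit 0x1033841) (nat_lit 772))
 (.leaf (nat_lit 0x1033843) (nat_lit 1028))
)) (.node (nat_lit 0x1033847) (.leaf (nat_lit 0x1033845) (nat_lit 1540))
 (.node (nat_lit 0x1033849) (.leaf (nat_lit 0x1033847) (nat_lit 1540))
 (.leaf (nat_lit 0x1033849) (nat_lit 2306))
))))) (.node (nat_lit 0x103385f) (.node (nat_lit 0x1033855) (.node (nat_lit 0x103384f) (.node (nat_lit 0x103384d) (.leaf (nat_lit 0x103384b) (nat_lit 2050))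
 (.leaf (nat_lit 0x103384d) (nat_lit 1540))
) (.node (nat_lit 0x1033851) (.leaf (nat_lit 0x103384f) (nat_lit 1540))
 (.node (nat_lit 0x1033853) (.leaf (nat_lit 0x1033851) (nat_lit 3332))
 (.leaf (nat_lit 0x1033853) (nat_lit 3332))
))) (.node (nat_lit 0x1033859) (.node (nat_lit 0x1033857) (.leaf (nat_lit 0x1033855) (nat_lit 2564))
 (.leaf (nat_lit 0x1033857) (nat_lit 2564))
) (.node (nat_lit 0x103385b) (.leaf (nat_lit 0x1033859) (nat_lit 2819))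
 (.node (nat_lit 0x103385d) (.leaf (nat_lit 0x103385b) (nat_lit 2563))
 (.leaf (nat_lit 0x103385d) (nat_lit 2564))
)))) (.node (nat_lit 0x1033889) (.node (nat_lit 0x1033883) (.node (nat_lit 0x1033881) (.leaf (nat_lit 0x103385f) (nat_lit 2564))
 (.leaf (nat_lit 0x1033881) (nat_lit 1028))
) (.node (nat_lit 0x1033885) (.leaf (nat_lit 0x1033883) (nat_lit 1284))
 (.node (nat_lit 0x1033887) (.leaf (nat_lit 0x1033885) (nat_lit 1284))
 (.leaf (nat_lit 0x1033887) (nat_lit 1540))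
))) (.node (nat_lit 0x103388f) (.node (nat_lit 0x103388b) (.leaf (nat_lit 0x1033889) (nat_lit 2052))
 (.node (nat_lit 0x103388d) (.leaf (nat_lit 0x103388b) (nat_lit 1796))
 (.leaf (nat_lit 0x103388d) (nat_lit 2050))
)) (.node (nat_lit 0x1033891) (.leaf (nat_lit 0x103388f) (nat_lit 2052))
 (.node (nat_lit 0x1033893) (.leaf (nat_lit 0x1033891) (nat_lit 3076))
 (.leaf (nat_lit 0x1033893) (nat_lit 2820))
)))))) (.node (nat_lit 0x103395f) (.node (nat_lit 0x1033949) (.node (nat_lit 0x103389f) (.node (nat_lit 0x1033899) (.node (nat_lit 0x1033897) (.leaf (nat_lit 0x1033895) (nat_lit 3332))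
 (.leaf (nat_lit 0x1033897) (nat_lit 3076))
) (.node (nat_lit 0x103389b) (.leaf (nat_lit 0x1033899) (nat_lit 3076))
 (.node (nat_lit 0x103389d) (.leaf (nat_lit 0x103389b) (nat_lit 2820))
 (.leaf (nat_lit 0x103389d) (nat_lit 2820))
))) (.node (nat_lit 0x1033943) (.node (nat_lit 0x1033941) (.leaf (nat_lit 0x103389f) (nat_lit 2820))
 (.leaf (nat_lit 0x1033941) (nat_lit 1284))
) (.node (nat_lit 0x1033945) (.leaf (nat_lit 0x1033943) (nat_lit 1540))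
 (.node (nat_lit 0x1033947) (.leaf (nat_lit 0x1033945) (nat_lit 1540))
 (.leaf (nat_lit 0x1033947) (nat_lit 1796))
)))) (.node (nat_lit 0x1033953) (.node (nat_lit 0x103394d) (.node (nat_lit 0x103394b) (.leaf (nat_lit 0x1033949) (nat_lit 1796))
 (.leaf (nat_lit 0x103394b) (nat_lit 1540))
) (.node (nat_lit 0x103394f) (.leaf (nat_lit 0x103394d) (nat_lit 2052))
 (.node (nat_lit 0x1033951) (.leaf (nat_lit 0x103394f) (nat_lit 1796))
 (.leaf (nat_lit 0x1033951) (nat_lit 3331))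
))) (.node (nat_lit 0x1033959) (.node (nat_lit 0x1033955) (.leaf (nat_lit 0x1033953) (nat_lit 3075))
 (.node (nat_lit 0x1033957) (.leaf (nat_lit 0x1033955) (nat_lit 3332))
 (.leaf (nat_lit 0x1033957) (nat_lit 3332))
)) (.node (nat_lit 0x103395b) (.leaf (nat_lit 0x1033959) (nat_lit 3332))
 (.node (nat_lit 0x103395d) (.leaf (nat_lit 0x103395b) (nat_lit 3076))
 (.leaf (nat_lit 0x103395d) (nat_lit 3074))
))))) (.node (nat_lit 0x1033993) (.node (nat_lit 0x1033989) (.node (nat_lit 0x1033983) (.node (nat_lit 0x1033981) (.leaf (nat_lit 0x103395f) (nat_lit 3076))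
 (.leaf (nat_lit 0x1033981) (nat_lit 1028))
) (.node (nat_lit 0x1033985) (.leaf (nat_lit 0x1033983) (nat_lit 1284))
 (.node (nat_lit 0x1033987) (.leaf (nat_lit 0x1033985) (nat_lit 1796))
 (.leaf (nat_lit 0x1033987) (nat_lit 1796))
))) (.node (nat_lit 0x103398d) (.node (nat_lit 0x103398b) (.leaf (nat_lit 0x1033989) (nat_lit 2052))
 (.leaf (nat_lit 0x103398b) (nat_lit 2052))
) (.node (nat_lit 0x103398f) (.leaf (nat_lit 0x103398d) (nat_lit 1284))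
 (.node (nat_lit 0x1033991) (.leaf (nat_lit 0x103398f) (nat_lit 1540))
 (.leaf (nat_lit 0x1033991) (nat_lit 3076))
)))) (.node (nat_lit 0x103399d) (.node (nat_lit 0x1033997) (.node (nat_lit 0x1033995) (.leaf (nat_lit 0x1033993) (nat_lit 3076))
 (.leaf (nat_lit 0x1033995) (nat_lit 2820))
) (.node (nat_lit 0x1033999) (.leaf (nat_lit 0x1033997) (nat_lit 2820))
 (.node (nat_lit 0x103399b) (.leaf (nat_lit 0x1033999) (nat_lit 3076))
 (.leaf (nat_lit 0x103399b) (nat_lit 2820))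
))) (.node (nat_lit 0x1033a43) (.node (nat_lit 0x103399f) (.leaf (nat_lit 0x103399d) (nat_lit 2820))
 (.node (nat_lit 0x1033a41) (.leaf (nat_lit 0x103399f) (nat_lit 2820))
 (.leaf (nat_lit 0x1033a41) (nat_lit 2308))
)) (.node (nat_lit 0x1033a45) (.leaf (nat_lit 0x1033a43) (nat_lit 2564))
 (.node (nat_lit 0x1033a47) (.leaf (nat_lit 0x1033a45) (nat_lit 2564))
 (.leaf (nat_lit 0x1033a47) (nat_lit 2564))
))))))) (.node (nat_lit 0x1033b5d) (.node (nat_lit 0x1033a93) (.node (nat_lit 0x1033a5d) (.node (nat_lit 0x1033a53) (.node (nat_lit 0x1033a4d) (.node (nat_lit 0x1033a4b) (.leaf (nat_lit 0x1033a49) (nat_lit 3075))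
 (.leaf (nat_lit 0x1033a4b) (nat_lit 2819))
) (.node (nat_lit 0x1033a4f) (.leaf (nat_lit 0x1033a4d) (nat_lit 2820))
 (.node (nat_lit 0x1033a51) (.leaf (nat_lit 0x1033a4f) (nat_lit 2564))
 (.leaf (nat_lit 0x1033a51) (nat_lit 2820))
))) (.node (nat_lit 0x1033a57) (.node (nat_lit 0x1033a55) (.leaf (nat_lit 0x1033a53) (nat_lit 2564))
 (.leaf (nat_lit 0x1033a55) (nat_lit 2820))
) (.node (nat_lit 0x1033a59) (.leaf (nat_lit 0x1033a57) (nat_lit 2820))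
 (.node (nat_lit 0x1033a5b) (.leaf (nat_lit 0x1033a59) (nat_lit 3076))
 (.leaf (nat_lit 0x1033a5b) (nat_lit 2820))
)))) (.node (nat_lit 0x1033a87) (.node (nat_lit 0x1033a81) (.node (nat_lit 0x1033a5f) (.leaf (nat_lit 0x1033a5d) (nat_lit 2564))
 (.leaf (nat_lit 0x1033a5f) (nat_lit 2820))
) (.node (nat_lit 0x1033a83) (.leaf (nat_lit 0x1033a81) (nat_lit 2052))
 (.node (nat_lit 0x1033a85) (.leaf (nat_lit 0x1033a83) (nat_lit 2308))
 (.leaf (nat_lit 0x1033a85) (nat_lit 2820))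
))) (.node (nat_lit 0x1033a8d) (.node (nat_lit 0x1033a89) (.leaf (nat_lit 0x1033a87) (nat_lit 2564))
 (.node (nat_lit 0x1033a8b) (.leaf (nat_lit 0x1033a89) (nat_lit 3076))
 (.leaf (nat_lit 0x1033a8b) (nat_lit 3076))
)) (.node (nat_lit 0x1033a8f) (.leaf (nat_lit 0x1033a8d) (nat_lit 2563))
 (.node (nat_lit 0x1033a91) (.leaf (nat_lit 0x1033a8f) (nat_lit 2564))
 (.leaf (nat_lit 0x1033a91) (nat_lit 3076))
))))) (.node (nat_lit 0x1033b47) (.node (nat_lit 0x1033a9d) (.node (nat_lit 0x1033a97) (.node (nat_lit 0x1033a95) (.leaf (nat_lit 0x1033a93) (nat_lit 2820))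
 (.leaf (nat_lit 0x1033a95) (nat_lit 2308))
) (.node (nat_lit 0x1033a99) (.leaf (nat_lit 0x1033a97) (nat_lit 2564))
 (.node (nat_lit 0x1033a9b) (.leaf (nat_lit 0x1033a99) (nat_lit 2820))
 (.leaf (nat_lit 0x1033a9b) (nat_lit 2564))
))) (.node (nat_lit 0x1033b41) (.node (nat_lit 0x1033a9f) (.leaf (nat_lit 0x1033a9d) (nat_lit 2820))
 (.leaf (nat_lit 0x1033a9f) (nat_lit 3076))
) (.node (nat_lit 0x1033b43) (.leaf (nat_lit 0x1033b41) (nat_lit 2052))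
 (.node (nat_lit 0x1033b45) (.leaf (nat_lit 0x1033b43) (nat_lit 2308))
 (.leaf (nat_lit 0x1033b45) (nat_lit 2564))
)))) (.node (nat_lit 0x1033b51) (.node (nat_lit 0x1033b4b) (.node (nat_lit 0x1033b49) (.leaf (nat_lit 0x1033b47) (nat_lit 2308))
 (.leaf (nat_lit 0x1033b49) (nat_lit 3076))
) (.node (nat_lit 0x1033b4d) (.leaf (nat_lit 0x1033b4b) (nat_lit 3332))
 (.node (nat_lit 0x1033b4f) (.leaf (nat_lit 0x1033b4d) (nat_lit 2564))
 (.leaf (nat_lit 0x1033b4f) (nat_lit 2308))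
))) (.node (nat_lit 0x1033b57) (.node (nat_lit 0x1033b53) (.leaf (nat_lit 0x1033b51) (nat_lit 3332))
 (.node (nat_lit 0x1033b55) (.leaf (nat_lit 0x1033b53) (nat_lit 3076))
 (.leaf (nat_lit 0x1033b55) (nat_lit 2564))
)) (.node (nat_lit 0x1033b59) (.leaf (nat_lit 0x1033b57) (nat_lit 2820))
 (.node (nat_lit 0x1033b5b) (.leaf (nat_lit 0x1033b59) (nat_lit 2564))
 (.leaf (nat_lit 0x1033b5b) (nat_lit 2308))
)))))) (.node (nat_lit 0x1034907) (.node (nat_lit 0x1033b91) (.node (nat_lit 0x1033b87) (.node (nat_lit 0x1033b81) (.node (nat_lit 0x1033b5f) (.leaf (nat_lit 0x1033b5d) (nat_lit 2564))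
 (.leaf (nat_lit 0x1033b5f) (nat_lit 2820))
) (.node (nat_lit 0x1033b83) (.leaf (nat_lit 0x1033b81) (nat_lit 2052))
 (.node (nat_lit 0x1033b85) (.leaf (nat_lit 0x1033b83) (nat_lit 2308))
 (.leaf (nat_lit 0x1033b85) (nat_lit 2563))
))) (.node (nat_lit 0x1033b8b) (.node (nat_lit 0x1033b89) (.leaf (nat_lit 0x1033b87) (nat_lit 2564))
 (.leaf (nat_lit 0x1033b89) (nat_lit 3076))
) (.node (nat_lit 0x1033b8d) (.leaf (nat_lit 0x1033b8b) (nat_lit 2820))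
 (.node (nat_lit 0x1033b8f) (.leaf (nat_lit 0x1033b8d) (nat_lit 3076))
 (.leaf (nat_lit 0x1033b8f) (nat_lit 2820))
)))) (.node (nat_lit 0x1033b9b) (.node (nat_lit 0x1033b95) (.node (nat_lit 0x1033b93) (.leaf (nat_lit 0x1033b91) (nat_lit 3076))
 (.leaf (nat_lit 0x1033b93) (nat_lit 2820))
) (.node (nat_lit 0x1033b97) (.leaf (nat_lit 0x1033b95) (nat_lit 3076))
 (.node (nat_lit 0x1033b99) (.leaf (nat_lit 0x1033b97) (nat_lit 3076))
 (.leaf (nat_lit 0x1033b99) (nat_lit 2820))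
))) (.node (nat_lit 0x1034901) (.node (nat_lit 0x1033b9d) (.leaf (nat_lit 0x1033b9b) (nat_lit 2564))
 (.node (nat_lit 0x1033b9f) (.leaf (nat_lit 0x1033b9d) (nat_lit 2308))
 (.leaf (nat_lit 0x1033b9f) (nat_lit 2564))
)) (.node (nat_lit 0x1034903) (.leaf (nat_lit 0x1034901) (nat_lit 2308))
 (.node (nat_lit 0x1034905) (.leaf (nat_lit 0x1034903) (nat_lit 2564))
 (.leaf (nat_lit 0x1034905) (nat_lit 3076))
))))) (.node (nat_lit 0x103491b) (.node (nat_lit 0x1034911) (.node (nat_lit 0x103490b) (.node (nat_lit 0x1034909) (.leaf (nat_lit 0x1034907) (nat_lit 2820))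
 (.leaf (nat_lit 0x1034909) (nat_lit 2564))
) (.node (nat_lit 0x103490d) (.leaf (nat_lit 0x103490b) (nat_lit 2820))
 (.node (nat_lit 0x103490f) (.leaf (nat_lit 0x103490d) (nat_lit 2820))
 (.leaf (nat_lit 0x103490f) (nat_lit 2564))
))) (.node (nat_lit 0x1034915) (.node (nat_lit 0x1034913) (.leaf (nat_lit 0x1034911) (nat_lit 3332))
 (.leaf (nat_lit 0x1034913) (nat_lit 3076))
) (.node (nat_lit 0x1034917) (.leaf (nat_lit 0x1034915) (nat_lit 3332))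
 (.node (nat_lit 0x1034919) (.leaf (nat_lit 0x1034917) (nat_lit 3588))
 (.leaf (nat_lit 0x1034919) (nat_lit 3076))
)))) (.node (nat_lit 0x1034945) (.node (nat_lit 0x103491f) (.node (nat_lit 0x103491d) (.leaf (nat_lit 0x103491b) (nat_lit 2820))
 (.leaf (nat_lit 0x103491d) (nat_lit 3076))
) (.node (nat_lit 0x1034941) (.leaf (nat_lit 0x103491f) (nat_lit 3332))
 (.node (nat_lit 0x1034943) (.leaf (nat_lit 0x1034941) (nat_lit 2052))
 (.leaf (nat_lit 0x1034943) (nat_lit 2308))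
))) (.node (nat_lit 0x103494b) (.node (nat_lit 0x1034947) (.leaf (nat_lit 0x1034945) (nat_lit 2564))
 (.node (nat_lit 0x1034949) (.leaf (nat_lit 0x1034947) (nat_lit 2308))
 (.leaf (nat_lit 0x1034949) (nat_lit 2564))
)) (.node (nat_lit 0x103494d) (.leaf (nat_lit 0x103494b) (nat_lit 2308))
 (.node (nat_lit 0x103494f) (.leaf (nat_lit 0x103494d) (nat_lit 2564))
 (.leaf (nat_lit 0x103494f) (nat_lit 2820))
)))))))) (.node (nat_lit 0x1034b99) (.node (nat_lit 0x1034b05) (.node (nat_lit 0x103499b) (.node (nat_lit 0x1034985) (.node (nat_lit 0x103495b) (.node (nat_lit 0x1034955) (.node (nat_lit 0x1034953) (.leaf (nat_lit 0x1034951) (nat_lit 3076))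
 (.leaf (nat_lit 0x1034953) (nat_lit 2820))
) (.node (nat_lit 0x1034957) (.leaf (nat_lit 0x1034955) (nat_lit 3076))
 (.node (nat_lit 0x1034959) (.leaf (nat_lit 0x1034957) (nat_lit 3332))
 (.leaf (nat_lit 0x1034959) (nat_lit 2820))
))) (.node (nat_lit 0x103495f) (.node (nat_lit 0x103495d) (.leaf (nat_lit 0x103495b) (nat_lit 3076))
 (.leaf (nat_lit 0x103495d) (nat_lit 3332))
) (.node (nat_lit 0x1034981) (.leaf (nat_lit 0x103495f) (nat_lit 3076))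
 (.node (nat_lit 0x1034983) (.leaf (nat_lit 0x1034981) (nat_lit 2053))
 (.leaf (nat_lit 0x1034983) (nat_lit 2309))
)))) (.node (nat_lit 0x103498f) (.node (nat_lit 0x1034989) (.node (nat_lit 0x1034987) (.leaf (nat_lit 0x1034985) (nat_lit 2820))
 (.leaf (nat_lit 0x1034987) (nat_lit 2564))
) (.node (nat_lit 0x103498b) (.leaf (nat_lit 0x1034989) (nat_lit 2820))
 (.node (nat_lit 0x103498d) (.leaf (nat_lit 0x103498b) (nat_lit 2564))
 (.leaf (nat_lit 0x103498d) (nat_lit 2309))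
))) (.node (nat_lit 0x1034995) (.node (nat_lit 0x1034991) (.leaf (nat_lit 0x103498f) (nat_lit 2565))
 (.node (nat_lit 0x1034993) (.leaf (nat_lit 0x1034991) (nat_lit 3077))
 (.leaf (nat_lit 0x1034993) (nat_lit 2821))
)) (.node (nat_lit 0x1034997) (.leaf (nat_lit 0x1034995) (nat_lit 3077))
 (.node (nat_lit 0x1034999) (.leaf (nat_lit 0x1034997) (nat_lit 3333))
 (.leaf (nat_lit 0x1034999) (nat_lit 3076))
))))) (.node (nat_lit 0x10349cf) (.node (nat_lit 0x10349c5) (.node (nat_lit 0x103499f) (.node (nat_lit 0x103499d) (.leaf (nat_lit 0x103499b) (nat_lit 3332))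
 (.leaf (nat_lit 0x103499d) (nat_lit 3076))
) (.node (nat_lit 0x10349c1) (.leaf (nat_lit 0x103499f) (nat_lit 2820))
 (.node (nat_lit 0x10349c3) (.leaf (nat_lit 0x10349c1) (nat_lit 2052))
 (.leaf (nat_lit 0x10349c3) (nat_lit 2308))
))) (.node (nat_lit 0x10349c9) (.node (nat_lit 0x10349c7) (.leaf (nat_lit 0x10349c5) (nat_lit 2820))
 (.leaf (nat_lit 0x10349c7) (nat_lit 2564))
) (.node (nat_lit 0x10349cb) (.leaf (nat_lit 0x10349c9) (nat_lit 2820))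
 (.node (nat_lit 0x10349cd) (.leaf (nat_lit 0x10349cb) (nat_lit 2819))
 (.leaf (nat_lit 0x10349cd) (nat_lit 2564))
)))) (.node (nat_lit 0x10349d9) (.node (nat_lit 0x10349d3) (.node (nat_lit 0x10349d1) (.leaf (nat_lit 0x10349cf) (nat_lit 2308))
 (.leaf (nat_lit 0x10349d1) (nat_lit 3076))
) (.node (nat_lit 0x10349d5) (.leaf (nat_lit 0x10349d3) (nat_lit 2820))
 (.node (nat_lit 0x10349d7) (.leaf (nat_lit 0x10349d5) (nat_lit 3332))
 (.leaf (nat_lit 0x10349d7) (nat_lit 3332))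
))) (.node (nat_lit 0x10349df) (.node (nat_lit 0x10349db) (.leaf (nat_lit 0x10349d9) (nat_lit 3332))
 (.node (nat_lit 0x10349dd) (.leaf (nat_lit 0x10349db) (nat_lit 3076))
 (.leaf (nat_lit 0x10349dd) (nat_lit 2820))
)) (.node (nat_lit 0x1034b01) (.leaf (nat_lit 0x10349df) (nat_lit 3076))
 (.node (nat_lit 0x1034b03) (.leaf (nat_lit 0x1034b01) (nat_lit 2308))
 (.leaf (nat_lit 0x1034b03) (nat_lit 2564))
)))))) (.node (nat_lit 0x1034b4f) (.node (nat_lit 0x1034b19) (.node (nat_lit 0x1034b0f) (.node (nat_lit 0x1034b09) (.node (nat_lit 0x1034b07) (.leaf (nat_lit 0x1034b05) (nat_lit 2820))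
 (.leaf (nat_lit 0x1034b07) (nat_lit 2564))
) (.node (nat_lit 0x1034b0b) (.leaf (nat_lit 0x1034b09) (nat_lit 2820))
 (.node (nat_lit 0x1034b0d) (.leaf (nat_lit 0x1034b0b) (nat_lit 2564))
 (.leaf (nat_lit 0x1034b0d) (nat_lit 2820))
))) (.node (nat_lit 0x1034b13) (.node (nat_lit 0x1034b11) (.leaf (nat_lit 0x1034b0f) (nat_lit 3076))
 (.leaf (nat_lit 0x1034b11) (nat_lit 3076))
) (.node (nat_lit 0x1034b15) (.leaf (nat_lit 0x1034b13) (nat_lit 2820))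
 (.node (nat_lit 0x1034b17) (.leaf (nat_lit 0x1034b15) (nat_lit 3076))
 (.leaf (nat_lit 0x1034b17) (nat_lit 3332))
)))) (.node (nat_lit 0x1034b43) (.node (nat_lit 0x1034b1d) (.node (nat_lit 0x1034b1b) (.leaf (nat_lit 0x1034b19) (nat_lit 2564))
 (.leaf (nat_lit 0x1034b1b) (nat_lit 2820))
) (.node (nat_lit 0x1034b1f) (.leaf (nat_lit 0x1034b1d) (nat_lit 3076))
 (.node (nat_lit 0x1034b41) (.leaf (nat_lit 0x1034b1f) (nat_lit 2820))
 (.leaf (nat_lit 0x1034b41) (nat_lit 2308))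
))) (.node (nat_lit 0x1034b49) (.node (nat_lit 0x1034b45) (.leaf (nat_lit 0x1034b43) (nat_lit 2564))
 (.node (nat_lit 0x1034b47) (.leaf (nat_lit 0x1034b45) (nat_lit 2820))
 (.leaf (nat_lit 0x1034b47) (nat_lit 2564))
)) (.node (nat_lit 0x1034b4b) (.leaf (nat_lit 0x1034b49) (nat_lit 2820))
 (.node (nat_lit 0x1034b4d) (.leaf (nat_lit 0x1034b4b) (nat_lit 3076))
 (.leaf (nat_lit 0x1034b4d) (nat_lit 3077))
))))) (.node (nat_lit 0x1034b83) (.node (nat_lit 0x1034b59) (.node (nat_lit 0x1034b53) (.node (nat_lit 0x1034b51) (.leaf (nat_lit 0x1034b4f) (nat_lit 2821))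
 (.leaf (nat_lit 0x1034b51) (nat_lit 3332))
) (.node (nat_lit 0x1034b55) (.leaf (nat_lit 0x1034b53) (nat_lit 3076))
 (.node (nat_lit 0x1034b57) (.leaf (nat_lit 0x1034b55) (nat_lit 3077))
 (.leaf (nat_lit 0x1034b57) (nat_lit 3333))
))) (.node (nat_lit 0x1034b5d) (.node (nat_lit 0x1034b5b) (.leaf (nat_lit 0x1034b59) (nat_lit 2820))
 (.leaf (nat_lit 0x1034b5b) (nat_lit 2564))
) (.node (nat_lit 0x1034b5f) (.leaf (nat_lit 0x1034b5d) (nat_lit 2820))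
 (.node (nat_lit 0x1034b81) (.leaf (nat_lit 0x1034b5f) (nat_lit 3076))
 (.leaf (nat_lit 0x1034b81) (nat_lit 2308))
)))) (.node (nat_lit 0x1034b8d) (.node (nat_lit 0x1034b87) (.node (nat_lit 0x1034b85) (.leaf (nat_lit 0x1034b83) (nat_lit 2564))
 (.leaf (nat_lit 0x1034b85) (nat_lit 2821))
) (.node (nat_lit 0x1034b89) (.leaf (nat_lit 0x1034b87) (nat_lit 2820))
 (.node (nat_lit 0x1034b8b) (.leaf (nat_lit 0x1034b89) (nat_lit 3076))
 (.leaf (nat_lit 0x1034b8b) (nat_lit 3077))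
))) (.node (nat_lit 0x1034b93) (.node (nat_lit 0x1034b8f) (.leaf (nat_lit 0x1034b8d) (nat_lit 2820))
 (.node (nat_lit 0x1034b91) (.leaf (nat_lit 0x1034b8f) (nat_lit 2564))
 (.leaf (nat_lit 0x1034b91) (nat_lit 3076))
)) (.node (nat_lit 0x1034b95) (.leaf (nat_lit 0x1034b93) (nat_lit 2820))
 (.node (nat_lit 0x1034b97) (.leaf (nat_lit 0x1034b95) (nat_lit 3333))
 (.leaf (nat_lit 0x1034b97) (nat_lit 3333))
))))))) (.node (nat_lit 0x103514d) (.node (nat_lit 0x1035103) (.node (nat_lit 0x1034bcd) (.node (nat_lit 0x1034bc3) (.node (nat_lit 0x1034b9d) (.node (nat_lit 0x1034b9b) (.leaf (nat_lit 0x1034b99) (nat_lit 3076))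
 (.leaf (nat_lit 0x1034b9b) (nat_lit 2820))
) (.node (nat_lit 0x1034b9f) (.leaf (nat_lit 0x1034b9d) (nat_lit 2564))
 (.node (nat_lit 0x1034bc1) (.leaf (nat_lit 0x1034b9f) (nat_lit 2820))
 (.leaf (nat_lit 0x1034bc1) (nat_lit 2308))
))) (.node (nat_lit 0x1034bc7) (.node (nat_lit 0x1034bc5) (.leaf (nat_lit 0x1034bc3) (nat_lit 2564))
 (.leaf (nat_lit 0x1034bc5) (nat_lit 2820))
) (.node (nat_lit 0x1034bc9) (.leaf (nat_lit 0x1034bc7) (nat_lit 2564))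
 (.node (nat_lit 0x1034bcb) (.leaf (nat_lit 0x1034bc9) (nat_lit 3076))
 (.leaf (nat_lit 0x1034bcb) (nat_lit 2820))
)))) (.node (nat_lit 0x1034bd7) (.node (nat_lit 0x1034bd1) (.node (nat_lit 0x1034bcf) (.leaf (nat_lit 0x1034bcd) (nat_lit 2561))
 (.leaf (nat_lit 0x1034bcf) (nat_lit 2817))
) (.node (nat_lit 0x1034bd3) (.leaf (nat_lit 0x1034bd1) (nat_lit 3076))
 (.node (nat_lit 0x1034bd5) (.leaf (nat_lit 0x1034bd3) (nat_lit 2820))
 (.leaf (nat_lit 0x1034bd5) (nat_lit 3076))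
))) (.node (nat_lit 0x1034bdd) (.node (nat_lit 0x1034bd9) (.leaf (nat_lit 0x1034bd7) (nat_lit 3332))
 (.node (nat_lit 0x1034bdb) (.leaf (nat_lit 0x1034bd9) (nat_lit 2820))
 (.leaf (nat_lit 0x1034bdb) (nat_lit 3076))
)) (.node (nat_lit 0x1034bdf) (.leaf (nat_lit 0x1034bdd) (nat_lit 2820))
 (.node (nat_lit 0x1035101) (.leaf (nat_lit 0x1034bdf) (nat_lit 2564))
 (.leaf (nat_lit 0x1035101) (nat_lit 2309))
))))) (.node (nat_lit 0x1035117) (.node (nat_lit 0x103510d) (.node (nat_lit 0x1035107) (.node (nat_lit 0x1035105) (.leaf (nat_lit 0x1035103) (nat_lit 2565))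
 (.leaf (nat_lit 0x1035105) (nat_lit 3076))
) (.node (nat_lit 0x1035109) (.leaf (nat_lit 0x1035107) (nat_lit 2820))
 (.node (nat_lit 0x103510b) (.leaf (nat_lit 0x1035109) (nat_lit 2565))
 (.leaf (nat_lit 0x103510b) (nat_lit 2821))
))) (.node (nat_lit 0x1035111) (.node (nat_lit 0x103510f) (.leaf (nat_lit 0x103510d) (nat_lit 3074))
 (.leaf (nat_lit 0x103510f) (nat_lit 2818))
) (.node (nat_lit 0x1035113) (.leaf (nat_lit 0x1035111) (nat_lit 3586))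
 (.node (nat_lit 0x1035115) (.leaf (nat_lit 0x1035113) (nat_lit 3330))
 (.leaf (nat_lit 0x1035115) (nat_lit 3072))
)))) (.node (nat_lit 0x1035141) (.node (nat_lit 0x103511b) (.node (nat_lit 0x1035119) (.leaf (nat_lit 0x1035117) (nat_lit 3328))
 (.leaf (nat_lit 0x1035119) (nat_lit 3330))
) (.node (nat_lit 0x103511d) (.leaf (nat_lit 0x103511b) (nat_lit 3074))
 (.node (nat_lit 0x103511f) (.leaf (nat_lit 0x103511d) (nat_lit 2817))
 (.leaf (nat_lit 0x103511f) (nat_lit 3073))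
))) (.node (nat_lit 0x1035147) (.node (nat_lit 0x1035143) (.leaf (nat_lit 0x1035141) (nat_lit 2053))
 (.node (nat_lit 0x1035145) (.leaf (nat_lit 0x1035143) (nat_lit 2309))
 (.leaf (nat_lit 0x1035145) (nat_lit 2565))
)) (.node (nat_lit 0x1035149) (.leaf (nat_lit 0x1035147) (nat_lit 2309))
 (.node (nat_lit 0x103514b) (.leaf (nat_lit 0x1035149) (nat_lit 2565))
 (.leaf (nat_lit 0x103514b) (nat_lit 2309))
)))))) (.node (nat_lit 0x1035197) (.node (nat_lit 0x1035181) (.node (nat_lit 0x1035157) (.node (nat_lit 0x1035151) (.node (nat_lit 0x103514f) (.leaf (nat_lit 0x103514d) (nat_lit 2565))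
 (.leaf (nat_lit 0x103514f) (nat_lit 2821))
) (.node (nat_lit 0x1035153) (.leaf (nat_lit 0x1035151) (nat_lit 3333))
 (.node (nat_lit 0x1035155) (.leaf (nat_lit 0x1035153) (nat_lit 3077))
 (.leaf (nat_lit 0x1035155) (nat_lit 2821))
))) (.node (nat_lit 0x103515b) (.node (nat_lit 0x1035159) (.leaf (nat_lit 0x1035157) (nat_lit 3077))
 (.leaf (nat_lit 0x1035159) (nat_lit 3077))
) (.node (nat_lit 0x103515d) (.leaf (nat_lit 0x103515b) (nat_lit 3333))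
 (.node (nat_lit 0x103515f) (.leaf (nat_lit 0x103515d) (nat_lit 3077))
 (.leaf (nat_lit 0x103515f) (nat_lit 2821))
)))) (.node (nat_lit 0x103518b) (.node (nat_lit 0x1035185) (.node (nat_lit 0x1035183) (.leaf (nat_lit 0x1035181) (nat_lit 2053))
 (.leaf (nat_lit 0x1035183) (nat_lit 2309))
) (.node (nat_lit 0x1035187) (.leaf (nat_lit 0x1035185) (nat_lit 2820))
 (.node (nat_lit 0x1035189) (.leaf (nat_lit 0x1035187) (nat_lit 2564))
 (.leaf (nat_lit 0x1035189) (nat_lit 3076))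
))) (.node (nat_lit 0x1035191) (.node (nat_lit 0x103518d) (.leaf (nat_lit 0x103518b) (nat_lit 2820))
 (.node (nat_lit 0x103518f) (.leaf (nat_lit 0x103518d) (nat_lit 2309))
 (.leaf (nat_lit 0x103518f) (nat_lit 2565))
)) (.node (nat_lit 0x1035193) (.leaf (nat_lit 0x1035191) (nat_lit 3333))
 (.node (nat_lit 0x1035195) (.leaf (nat_lit 0x1035193) (nat_lit 3077))
 (.leaf (nat_lit 0x1035195) (nat_lit 2821))
))))) (.node (nat_lit 0x10351cb) (.node (nat_lit 0x10351c1) (.node (nat_lit 0x103519b) (.node (nat_lit 0x1035199) (.leaf (nat_lit 0x1035197) (nat_lit 3077))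
 (.leaf (nat_lit 0x1035199) (nat_lit 2817))
) (.node (nat_lit 0x103519d) (.leaf (nat_lit 0x103519b) (nat_lit 3073))
 (.node (nat_lit 0x103519f) (.leaf (nat_lit 0x103519d) (nat_lit 3330))
 (.leaf (nat_lit 0x103519f) (nat_lit 3074))
))) (.node (nat_lit 0x10351c5) (.node (nat_lit 0x10351c3) (.leaf (nat_lit 0x10351c1) (nat_lit 2051))
 (.leaf (nat_lit 0x10351c3) (nat_lit 2307))
) (.node (nat_lit 0x10351c7) (.leaf (nat_lit 0x10351c5) (nat_lit 2821))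
 (.node (nat_lit 0x10351c9) (.leaf (nat_lit 0x10351c7) (nat_lit 2565))
 (.leaf (nat_lit 0x10351c9) (nat_lit 2821))
)))) (.node (nat_lit 0x10351d5) (.node (nat_lit 0x10351cf) (.node (nat_lit 0x10351cd) (.leaf (nat_lit 0x10351cb) (nat_lit 3077))
 (.leaf (nat_lit 0x10351cd) (nat_lit 2563))
) (.node (nat_lit 0x10351d1) (.leaf (nat_lit 0x10351cf) (nat_lit 2307))
 (.node (nat_lit 0x10351d3) (.leaf (nat_lit 0x10351d1) (nat_lit 3330))
 (.leaf (nat_lit 0x10351d3) (nat_lit 3074))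
))) (.node (nat_lit 0x10351db) (.node (nat_lit 0x10351d7) (.leaf (nat_lit 0x10351d5) (nat_lit 3072))
 (.node (nat_lit 0x10351d9) (.leaf (nat_lit 0x10351d7) (nat_lit 3328))
 (.leaf (nat_lit 0x10351d9) (nat_lit 3073))
)) (.node (nat_lit 0x10351dd) (.leaf (nat_lit 0x10351db) (nat_lit 2817))
 (.node (nat_lit 0x10351df) (.leaf (nat_lit 0x10351dd) (nat_lit 3073))
 (.leaf (nat_lit 0x10351df) (nat_lit 3329))
))))))))))) (.node (nat_lit 0x1040b81) (.node (nat_lit 0x1037081) (.node (nat_lit 0x1036351) (.node (nat_lit 0x1036089) (.node (nat_lit 0x1035395) (.node (nat_lit 0x103534b) (.node (nat_lit 0x1035315) (.node (nat_lit 0x103530b) (.node (nat_lit 0x1035305) (.node (nat_lit 0x1035303) (.leaf (nat_lit 0x1035301) (nat_lit 2305))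
 (.leaf (nat_lit 0x1035303) (nat_lit 2561))
) (.node (nat_lit 0x1035307) (.leaf (nat_lit 0x1035305) (nat_lit 3074))
 (.node (nat_lit 0x1035309) (.leaf (nat_lit 0x1035307) (nat_lit 2818))
 (.leaf (nat_lit 0x1035309) (nat_lit 3074))
))) (.node (nat_lit 0x103530f) (.node (nat_lit 0x103530d) (.leaf (nat_lit 0x103530b) (nat_lit 2818))
 (.leaf (nat_lit 0x103530d) (nat_lit 2561))
) (.node (nat_lit 0x1035311) (.leaf (nat_lit 0x103530f) (nat_lit 2817))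
 (.node (nat_lit 0x1035313) (.leaf (nat_lit 0x1035311) (nat_lit 3330))
 (.leaf (nat_lit 0x1035313) (nat_lit 3074))
)))) (.node (nat_lit 0x103531f) (.node (nat_lit 0x1035319) (.node (nat_lit 0x1035317) (.leaf (nat_lit 0x1035315) (nat_lit 2816))
 (.leaf (nat_lit 0x1035317) (nat_lit 3072))
) (.node (nat_lit 0x103531b) (.leaf (nat_lit 0x1035319) (nat_lit 2560))
 (.node (nat_lit 0x103531d) (.leaf (nat_lit 0x103531b) (nat_lit 2816))
 (.leaf (nat_lit 0x103531d) (nat_lit 3330))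
))) (.node (nat_lit 0x1035345) (.node (nat_lit 0x1035341) (.leaf (nat_lit 0x103531f) (nat_lit 3074))
 (.node (nat_lit 0x1035343) (.leaf (nat_lit 0x1035341) (nat_lit 2309))
 (.leaf (nat_lit 0x1035343) (nat_lit 2565))
)) (.node (nat_lit 0x1035347) (.leaf (nat_lit 0x1035345) (nat_lit 2821))
 (.node (nat_lit 0x1035349) (.leaf (nat_lit 0x1035347) (nat_lit 2565))
 (.leaf (nat_lit 0x1035349) (nat_lit 3073))
))))) (.node (nat_lit 0x103535f) (.node (nat_lit 0x1035355) (.node (nat_lit 0x103534f) (.node (nat_lit 0x103534d) (.leaf (nat_lit 0x103534b) (nat_lit 3329))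
 (.leaf (nat_lit 0x103534d) (nat_lit 2821))
) (.node (nat_lit 0x1035351) (.leaf (nat_lit 0x103534f) (nat_lit 2565))
 (.node (nat_lit 0x1035353) (.leaf (nat_lit 0x1035351) (nat_lit 3589))
 (.leaf (nat_lit 0x1035353) (nat_lit 3333))
))) (.node (nat_lit 0x1035359) (.node (nat_lit 0x1035357) (.leaf (nat_lit 0x1035355) (nat_lit 2821))
 (.leaf (nat_lit 0x1035357) (nat_lit 3077))
) (.node (nat_lit 0x103535b) (.leaf (nat_lit 0x1035359) (nat_lit 2821))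
 (.node (nat_lit 0x103535d) (.leaf (nat_lit 0x103535b) (nat_lit 2565))
 (.leaf (nat_lit 0x103535d) (nat_lit 2821))
)))) (.node (nat_lit 0x1035389) (.node (nat_lit 0x1035383) (.node (nat_lit 0x1035381) (.leaf (nat_lit 0x103535f) (nat_lit 3077))
 (.leaf (nat_lit 0x1035381) (nat_lit 2309))
) (.node (nat_lit 0x1035385) (.leaf (nat_lit 0x1035383) (nat_lit 2565))
 (.node (nat_lit 0x1035387) (.leaf (nat_lit 0x1035385) (nat_lit 3076))
 (.leaf (nat_lit 0x1035387) (nat_lit 2820))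
))) (.node (nat_lit 0x103538f) (.node (nat_lit 0x103538b) (.leaf (nat_lit 0x1035389) (nat_lit 2817))
 (.node (nat_lit 0x103538d) (.leaf (nat_lit 0x103538b) (nat_lit 3073))
 (.leaf (nat_lit 0x103538d) (nat_lit 3074))
)) (.node (nat_lit 0x1035391) (.leaf (nat_lit 0x103538f) (nat_lit 2818))
 (.node (nat_lit 0x1035393) (.leaf (nat_lit 0x1035391) (nat_lit 3330))
 (.leaf (nat_lit 0x1035393) (nat_lit 3074))
)))))) (.node (nat_lit 0x10353df) (.node (nat_lit 0x10353c9) (.node (nat_lit 0x103539f) (.node (nat_lit 0x1035399) (.node (nat_lit 0x1035397) (.leaf (nat_lit 0x1035395) (nat_lit 3077))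
 (.leaf (nat_lit 0x1035397) (nat_lit 3333))
) (.node (nat_lit 0x103539b) (.leaf (nat_lit 0x1035399) (nat_lit 3332))
 (.node (nat_lit 0x103539d) (.leaf (nat_lit 0x103539b) (nat_lit 3076))
 (.leaf (nat_lit 0x103539d) (nat_lit 2565))
))) (.node (nat_lit 0x10353c3) (.node (nat_lit 0x10353c1) (.leaf (nat_lit 0x103539f) (nat_lit 2821))
 (.leaf (nat_lit 0x10353c1) (nat_lit 2305))
) (.node (nat_lit 0x10353c5) (.leaf (nat_lit 0x10353c3) (nat_lit 2561))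
 (.node (nat_lit 0x10353c7) (.leaf (nat_lit 0x10353c5) (nat_lit 2817))
 (.leaf (nat_lit 0x10353c7) (nat_lit 2561))
)))) (.node (nat_lit 0x10353d3) (.node (nat_lit 0x10353cd) (.node (nat_lit 0x10353cb) (.leaf (nat_lit 0x10353c9) (nat_lit 2817))
 (.leaf (nat_lit 0x10353cb) (nat_lit 2561))
) (.node (nat_lit 0x10353cf) (.leaf (nat_lit 0x10353cd) (nat_lit 2817))
 (.node (nat_lit 0x10353d1) (.leaf (nat_lit 0x10353cf) (nat_lit 3073))
 (.leaf (nat_lit 0x10353d1) (nat_lit 3328))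
))) (.node (nat_lit 0x10353d9) (.node (nat_lit 0x10353d5) (.leaf (nat_lit 0x10353d3) (nat_lit 3072))
 (.node (nat_lit 0x10353d7) (.leaf (nat_lit 0x10353d5) (nat_lit 2816))
 (.leaf (nat_lit 0x10353d7) (nat_lit 3072))
)) (.node (nat_lit 0x10353db) (.leaf (nat_lit 0x10353d9) (nat_lit 2816))
 (.node (nat_lit 0x10353dd) (.leaf (nat_lit 0x10353db) (nat_lit 3072))
 (.leaf (nat_lit 0x10353dd) (nat_lit 2816))
))))) (.node (nat_lit 0x1036053) (.node (nat_lit 0x1036049) (.node (nat_lit 0x1036043) (.node (nat_lit 0x1036041) (.leaf (nat_lit 0x10353df) (nat_lit 2560))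
 (.leaf (nat_lit 0x1036041) (nat_lit 1282))
) (.node (nat_lit 0x1036045) (.leaf (nat_lit 0x1036043) (nat_lit 1538))
 (.node (nat_lit 0x1036047) (.leaf (nat_lit 0x1036045) (nat_lit 2050))
 (.leaf (nat_lit 0x1036047) (nat_lit 2050))
))) (.node (nat_lit 0x103604d) (.node (nat_lit 0x103604b) (.leaf (nat_lit 0x1036049) (nat_lit 2820))
 (.leaf (nat_lit 0x103604b) (nat_lit 2564))
) (.node (nat_lit 0x103604f) (.leaf (nat_lit 0x103604d) (nat_lit 2307))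
 (.node (nat_lit 0x1036051) (.leaf (nat_lit 0x103604f) (nat_lit 2307))
 (.leaf (nat_lit 0x1036051) (nat_lit 3330))
)))) (.node (nat_lit 0x103605d) (.node (nat_lit 0x1036057) (.node (nat_lit 0x1036055) (.leaf (nat_lit 0x1036053) (nat_lit 3330))
 (.leaf (nat_lit 0x1036055) (nat_lit 2819))
) (.node (nat_lit 0x1036059) (.leaf (nat_lit 0x1036057) (nat_lit 2819))
 (.node (nat_lit 0x103605b) (.leaf (nat_lit 0x1036059) (nat_lit 2305))
 (.leaf (nat_lit 0x103605b) (nat_lit 2049))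
))) (.node (nat_lit 0x1036083) (.node (nat_lit 0x103605f) (.leaf (nat_lit 0x103605d) (nat_lit 2050))
 (.node (nat_lit 0x1036081) (.leaf (nat_lit 0x103605f) (nat_lit 2050))
 (.leaf (nat_lit 0x1036081) (nat_lit 1538))
)) (.node (nat_lit 0x1036085) (.leaf (nat_lit 0x1036083) (nat_lit 1794))
 (.node (nat_lit 0x1036087) (.leaf (nat_lit 0x1036085) (nat_lit 1794))
 (.leaf (nat_lit 0x1036087) (nat_lit 2050))
))))))) (.node (nat_lit 0x103619d) (.node (nat_lit 0x1036153) (.node (nat_lit 0x103609d) (.node (nat_lit 0x1036093) (.node (nat_lit 0x103608d) (.node (nat_lit 0x103608b) (.leaf (nat_lit 0x1036089) (nat_lit 2819))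
 (.leaf (nat_lit 0x103608b) (nat_lit 2563))
) (.node (nat_lit 0x103608f) (.leaf (nat_lit 0x103608d) (nat_lit 2818))
 (.node (nat_lit 0x1036091) (.leaf (nat_lit 0x103608f) (nat_lit 2818))
 (.leaf (nat_lit 0x1036091) (nat_lit 3331))
))) (.node (nat_lit 0x1036097) (.node (nat_lit 0x1036095) (.leaf (nat_lit 0x1036093) (nat_lit 3075))
 (.leaf (nat_lit 0x1036095) (nat_lit 3587))
) (.node (nat_lit 0x1036099) (.leaf (nat_lit 0x1036097) (nat_lit 3331))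
 (.node (nat_lit 0x103609b) (.leaf (nat_lit 0x1036099) (nat_lit 2304))
 (.leaf (nat_lit 0x103609b) (nat_lit 2306))
)))) (.node (nat_lit 0x1036147) (.node (nat_lit 0x1036141) (.node (nat_lit 0x103609f) (.leaf (nat_lit 0x103609d) (nat_lit 2049))
 (.leaf (nat_lit 0x103609f) (nat_lit 2305))
) (.node (nat_lit 0x1036143) (.leaf (nat_lit 0x1036141) (nat_lit 2050))
 (.node (nat_lit 0x1036145) (.leaf (nat_lit 0x1036143) (nat_lit 2306))
 (.leaf (nat_lit 0x1036145) (nat_lit 2307))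
))) (.node (nat_lit 0x103614d) (.node (nat_lit 0x1036149) (.leaf (nat_lit 0x1036147) (nat_lit 2306))
 (.node (nat_lit 0x103614b) (.leaf (nat_lit 0x1036149) (nat_lit 2562))
 (.leaf (nat_lit 0x103614b) (nat_lit 2306))
)) (.node (nat_lit 0x103614f) (.leaf (nat_lit 0x103614d) (nat_lit 2562))
 (.node (nat_lit 0x1036151) (.leaf (nat_lit 0x103614f) (nat_lit 2563))
 (.leaf (nat_lit 0x1036151) (nat_lit 3073))
))))) (.node (nat_lit 0x1036187) (.node (nat_lit 0x103615d) (.node (nat_lit 0x1036157) (.node (nat_lit 0x1036155) (.leaf (nat_lit 0x1036153) (nat_lit 2817))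
 (.leaf (nat_lit 0x1036155) (nat_lit 2818))
) (.node (nat_lit 0x1036159) (.leaf (nat_lit 0x1036157) (nat_lit 3074))
 (.node (nat_lit 0x103615b) (.leaf (nat_lit 0x1036159) (nat_lit 3074))
 (.leaf (nat_lit 0x103615b) (nat_lit 3330))
))) (.node (nat_lit 0x1036181) (.node (nat_lit 0x103615f) (.leaf (nat_lit 0x103615d) (nat_lit 3074))
 (.leaf (nat_lit 0x103615f) (nat_lit 2818))
) (.node (nat_lit 0x1036183) (.leaf (nat_lit 0x1036181) (nat_lit 1795))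
 (.node (nat_lit 0x1036185) (.leaf (nat_lit 0x1036183) (nat_lit 2051))
 (.leaf (nat_lit 0x1036185) (nat_lit 2563))
)))) (.node (nat_lit 0x1036191) (.node (nat_lit 0x103618b) (.node (nat_lit 0x1036189) (.leaf (nat_lit 0x1036187) (nat_lit 2563))
 (.leaf (nat_lit 0x1036189) (nat_lit 2818))
) (.node (nat_lit 0x103618d) (.leaf (nat_lit 0x103618b) (nat_lit 2562))
 (.node (nat_lit 0x103618f) (.leaf (nat_lit 0x103618d) (nat_lit 2051))
 (.leaf (nat_lit 0x103618f) (nat_lit 2307))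
))) (.node (nat_lit 0x1036197) (.node (nat_lit 0x1036193) (.leaf (nat_lit 0x1036191) (nat_lit 3074))
 (.node (nat_lit 0x1036195) (.leaf (nat_lit 0x1036193) (nat_lit 2818))
 (.leaf (nat_lit 0x1036195) (nat_lit 2563))
)) (.node (nat_lit 0x1036199) (.leaf (nat_lit 0x1036197) (nat_lit 2819))
 (.node (nat_lit 0x103619b) (.leaf (nat_lit 0x1036199) (nat_lit 2819))
 (.leaf (nat_lit 0x103619b) (nat_lit 3075))
)))))) (.node (nat_lit 0x1036287) (.node (nat_lit 0x1036251) (.node (nat_lit 0x1036247) (.node (nat_lit 0x1036241) (.node (nat_lit 0x103619f) (.leaf (nat_lit 0x103619d) (nat_lit 3329))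
 (.leaf (nat_lit 0x103619f) (nat_lit 3073))
) (.node (nat_lit 0x1036243) (.leaf (nat_lit 0x1036241) (nat_lit 2305))
 (.node (nat_lit 0x1036245) (.leaf (nat_lit 0x1036243) (nat_lit 2561))
 (.leaf (nat_lit 0x1036245) (nat_lit 2563))
))) (.node (nat_lit 0x103624b) (.node (nat_lit 0x1036249) (.leaf (nat_lit 0x1036247) (nat_lit 2561))
 (.leaf (nat_lit 0x1036249) (nat_lit 2817))
) (.node (nat_lit 0x103624d) (.leaf (nat_lit 0x103624b) (nat_lit 2561))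
 (.node (nat_lit 0x103624f) (.leaf (nat_lit 0x103624d) (nat_lit 2562))
 (.leaf (nat_lit 0x103624f) (nat_lit 2818))
)))) (.node (nat_lit 0x103625b) (.node (nat_lit 0x1036255) (.node (nat_lit 0x1036253) (.leaf (nat_lit 0x1036251) (nat_lit 2816))
 (.leaf (nat_lit 0x1036253) (nat_lit 2560))
) (.node (nat_lit 0x1036257) (.leaf (nat_lit 0x1036255) (nat_lit 2816))
 (.node (nat_lit 0x1036259) (.leaf (nat_lit 0x1036257) (nat_lit 2819))
 (.leaf (nat_lit 0x1036259) (nat_lit 2816))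
))) (.node (nat_lit 0x1036281) (.node (nat_lit 0x103625d) (.leaf (nat_lit 0x103625b) (nat_lit 3072))
 (.node (nat_lit 0x103625f) (.leaf (nat_lit 0x103625d) (nat_lit 3074))
 (.leaf (nat_lit 0x103625f) (nat_lit 2818))
)) (.node (nat_lit 0x1036283) (.leaf (nat_lit 0x1036281) (nat_lit 2051))
 (.node (nat_lit 0x1036285) (.leaf (nat_lit 0x1036283) (nat_lit 2307))
 (.leaf (nat_lit 0x1036285) (nat_lit 2818))
))))) (.node (nat_lit 0x103629b) (.node (nat_lit 0x1036291) (.node (nat_lit 0x103628b) (.node (nat_lit 0x1036289) (.leaf (nat_lit 0x1036287) (nat_lit 2562))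
 (.leaf (nat_lit 0x1036289) (nat_lit 2818))
) (.node (nat_lit 0x103628d) (.leaf (nat_lit 0x103628b) (nat_lit 2562))
 (.node (nat_lit 0x103628f) (.leaf (nat_lit 0x103628d) (nat_lit 2307))
 (.leaf (nat_lit 0x103628f) (nat_lit 2563))
))) (.node (nat_lit 0x1036295) (.node (nat_lit 0x1036293) (.leaf (nat_lit 0x1036291) (nat_lit 3074))
 (.leaf (nat_lit 0x1036293) (nat_lit 2818))
) (.node (nat_lit 0x1036297) (.leaf (nat_lit 0x1036295) (nat_lit 2307))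
 (.node (nat_lit 0x1036299) (.leaf (nat_lit 0x1036297) (nat_lit 2563))
 (.leaf (nat_lit 0x1036299) (nat_lit 2563))
)))) (.node (nat_lit 0x1036345) (.node (nat_lit 0x103629f) (.node (nat_lit 0x103629d) (.leaf (nat_lit 0x103629b) (nat_lit 2819))
 (.leaf (nat_lit 0x103629d) (nat_lit 3074))
) (.node (nat_lit 0x1036341) (.leaf (nat_lit 0x103629f) (nat_lit 2818))
 (.node (nat_lit 0x1036343) (.leaf (nat_lit 0x1036341) (nat_lit 1537))
 (.leaf (nat_lit 0x1036343) (nat_lit 1793))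
))) (.node (nat_lit 0x103634b) (.node (nat_lit 0x1036347) (.leaf (nat_lit 0x1036345) (nat_lit 2050))
 (.node (nat_lit 0x1036349) (.leaf (nat_lit 0x1036347) (nat_lit 2306))
 (.leaf (nat_lit 0x1036349) (nat_lit 3076))
)) (.node (nat_lit 0x103634d) (.leaf (nat_lit 0x103634b) (nat_lit 2820))
 (.node (nat_lit 0x103634f) (.leaf (nat_lit 0x103634d) (nat_lit 2563))
 (.leaf (nat_lit 0x103634f) (nat_lit 2563))
)))))))) (.node (nat_lit 0x10369d9) (.node (nat_lit 0x1036885) (.node (nat_lit 0x103639b) (.node (nat_lit 0x1036385) (.node (nat_lit 0x103635b) (.node (nat_lit 0x1036355) (.node (nat_lit 0x1036353) (.leaf (nat_lit 0x1036351) (nat_lit 3076))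
 (.leaf (nat_lit 0x1036353) (nat_lit 3332))
) (.node (nat_lit 0x1036357) (.leaf (nat_lit 0x1036355) (nat_lit 2819))
 (.node (nat_lit 0x1036359) (.leaf (nat_lit 0x1036357) (nat_lit 2819))
 (.leaf (nat_lit 0x1036359) (nat_lit 2048))
))) (.node (nat_lit 0x103635f) (.node (nat_lit 0x103635d) (.leaf (nat_lit 0x103635b) (nat_lit 1792))
 (.leaf (nat_lit 0x103635d) (nat_lit 2305))
) (.node (nat_lit 0x1036381) (.leaf (nat_lit 0x103635f) (nat_lit 2305))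
 (.node (nat_lit 0x1036383) (.leaf (nat_lit 0x1036381) (nat_lit 1538))
 (.leaf (nat_lit 0x1036383) (nat_lit 1794))
)))) (.node (nat_lit 0x103638f) (.node (nat_lit 0x1036389) (.node (nat_lit 0x1036387) (.leaf (nat_lit 0x1036385) (nat_lit 2049))
 (.leaf (nat_lit 0x1036387) (nat_lit 2305))
) (.node (nat_lit 0x103638b) (.leaf (nat_lit 0x1036389) (nat_lit 3075))
 (.node (nat_lit 0x103638d) (.leaf (nat_lit 0x103638b) (nat_lit 2819))
 (.leaf (nat_lit 0x103638d) (nat_lit 2818))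
))) (.node (nat_lit 0x1036395) (.node (nat_lit 0x1036391) (.leaf (nat_lit 0x103638f) (nat_lit 2818))
 (.node (nat_lit 0x1036393) (.leaf (nat_lit 0x1036391) (nat_lit 3074))
 (.leaf (nat_lit 0x1036393) (nat_lit 3074))
)) (.node (nat_lit 0x1036397) (.leaf (nat_lit 0x1036395) (nat_lit 3331))
 (.node (nat_lit 0x1036399) (.leaf (nat_lit 0x1036397) (nat_lit 3075))
 (.leaf (nat_lit 0x1036399) (nat_lit 2304))
))))) (.node (nat_lit 0x103684f) (.node (nat_lit 0x1036845) (.node (nat_lit 0x103639f) (.node (nat_lit 0x103639d) (.leaf (nat_lit 0x103639b) (nat_lit 2560))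
 (.leaf (nat_lit 0x103639d) (nat_lit 1794))
) (.node (nat_lit 0x1036841) (.leaf (nat_lit 0x103639f) (nat_lit 2050))
 (.node (nat_lit 0x1036843) (.leaf (nat_lit 0x1036841) (nat_lit 1284))
 (.leaf (nat_lit 0x1036843) (nat_lit 1540))
))) (.node (nat_lit 0x1036849) (.node (nat_lit 0x1036847) (.leaf (nat_lit 0x1036845) (nat_lit 2052))
 (.leaf (nat_lit 0x1036847) (nat_lit 2052))
) (.node (nat_lit 0x103684b) (.leaf (nat_lit 0x1036849) (nat_lit 2564))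
 (.node (nat_lit 0x103684d) (.leaf (nat_lit 0x103684b) (nat_lit 2564))
 (.leaf (nat_lit 0x103684d) (nat_lit 2565))
)))) (.node (nat_lit 0x1036859) (.node (nat_lit 0x1036853) (.node (nat_lit 0x1036851) (.leaf (nat_lit 0x103684f) (nat_lit 2564))
 (.leaf (nat_lit 0x1036851) (nat_lit 3332))
) (.node (nat_lit 0x1036855) (.leaf (nat_lit 0x1036853) (nat_lit 3332))
 (.node (nat_lit 0x1036857) (.leaf (nat_lit 0x1036855) (nat_lit 2820))
 (.leaf (nat_lit 0x1036857) (nat_lit 2820))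
))) (.node (nat_lit 0x103685f) (.node (nat_lit 0x103685b) (.leaf (nat_lit 0x1036859) (nat_lit 2052))
 (.node (nat_lit 0x103685d) (.leaf (nat_lit 0x103685b) (nat_lit 2052))
 (.leaf (nat_lit 0x103685d) (nat_lit 2309))
)) (.node (nat_lit 0x1036881) (.leaf (nat_lit 0x103685f) (nat_lit 2309))
 (.node (nat_lit 0x1036883) (.leaf (nat_lit 0x1036881) (nat_lit 1540))
 (.leaf (nat_lit 0x1036883) (nat_lit 1796))
)))))) (.node (nat_lit 0x103690f) (.node (nat_lit 0x1036899) (.node (nat_lit 0x103688f) (.node (nat_lit 0x1036889) (.node (nat_lit 0x1036887) (.leaf (nat_lit 0x1036885) (nat_lit 1796))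
 (.leaf (nat_lit 0x1036887) (nat_lit 2052))
) (.node (nat_lit 0x103688b) (.leaf (nat_lit 0x1036889) (nat_lit 2820))
 (.node (nat_lit 0x103688d) (.leaf (nat_lit 0x103688b) (nat_lit 2820))
 (.leaf (nat_lit 0x103688d) (nat_lit 2821))
))) (.node (nat_lit 0x1036893) (.node (nat_lit 0x1036891) (.leaf (nat_lit 0x103688f) (nat_lit 2820))
 (.leaf (nat_lit 0x1036891) (nat_lit 3588))
) (.node (nat_lit 0x1036895) (.leaf (nat_lit 0x1036893) (nat_lit 3332))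
 (.node (nat_lit 0x1036897) (.leaf (nat_lit 0x1036895) (nat_lit 3589))
 (.leaf (nat_lit 0x1036897) (nat_lit 3588))
)))) (.node (nat_lit 0x1036903) (.node (nat_lit 0x103689d) (.node (nat_lit 0x103689b) (.leaf (nat_lit 0x1036899) (nat_lit 2565))
 (.leaf (nat_lit 0x103689b) (nat_lit 2309))
) (.node (nat_lit 0x103689f) (.leaf (nat_lit 0x103689d) (nat_lit 2564))
 (.node (nat_lit 0x1036901) (.leaf (nat_lit 0x103689f) (nat_lit 2308))
 (.leaf (nat_lit 0x1036901) (nat_lit 2052))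
))) (.node (nat_lit 0x1036909) (.node (nat_lit 0x1036905) (.leaf (nat_lit 0x1036903) (nat_lit 2308))
 (.node (nat_lit 0x1036907) (.leaf (nat_lit 0x1036905) (nat_lit 2820))
 (.leaf (nat_lit 0x1036907) (nat_lit 2564))
)) (.node (nat_lit 0x103690b) (.leaf (nat_lit 0x1036909) (nat_lit 2308))
 (.node (nat_lit 0x103690d) (.leaf (nat_lit 0x103690b) (nat_lit 2564))
 (.leaf (nat_lit 0x103690d) (nat_lit 2820))
))))) (.node (nat_lit 0x10369c3) (.node (nat_lit 0x1036919) (.node (nat_lit 0x1036913) (.node (nat_lit 0x1036911) (.leaf (nat_lit 0x103690f) (nat_lit 2564))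
 (.leaf (nat_lit 0x1036911) (nat_lit 3076))
) (.node (nat_lit 0x1036915) (.leaf (nat_lit 0x1036913) (nat_lit 2820))
 (.node (nat_lit 0x1036917) (.leaf (nat_lit 0x1036915) (nat_lit 3076))
 (.leaf (nat_lit 0x1036917) (nat_lit 3332))
))) (.node (nat_lit 0x103691d) (.node (nat_lit 0x103691b) (.leaf (nat_lit 0x1036919) (nat_lit 3333))
 (.leaf (nat_lit 0x103691b) (nat_lit 3077))
) (.node (nat_lit 0x103691f) (.leaf (nat_lit 0x103691d) (nat_lit 3333))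
 (.node (nat_lit 0x10369c1) (.leaf (nat_lit 0x103691f) (nat_lit 3332))
 (.leaf (nat_lit 0x10369c1) (nat_lit 2052))
)))) (.node (nat_lit 0x10369cd) (.node (nat_lit 0x10369c7) (.node (nat_lit 0x10369c5) (.leaf (nat_lit 0x10369c3) (nat_lit 2308))
 (.leaf (nat_lit 0x10369c5) (nat_lit 2564))
) (.node (nat_lit 0x10369c9) (.leaf (nat_lit 0x10369c7) (nat_lit 2308))
 (.node (nat_lit 0x10369cb) (.leaf (nat_lit 0x10369c9) (nat_lit 2564))
 (.leaf (nat_lit 0x10369cb) (nat_lit 2820))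
))) (.node (nat_lit 0x10369d3) (.node (nat_lit 0x10369cf) (.leaf (nat_lit 0x10369cd) (nat_lit 2564))
 (.node (nat_lit 0x10369d1) (.leaf (nat_lit 0x10369cf) (nat_lit 2308))
 (.leaf (nat_lit 0x10369d1) (nat_lit 3332))
)) (.node (nat_lit 0x10369d5) (.leaf (nat_lit 0x10369d3) (nat_lit 3076))
 (.node (nat_lit 0x10369d7) (.leaf (nat_lit 0x10369d5) (nat_lit 2820))
 (.leaf (nat_lit 0x10369d7) (nat_lit 3076))
))))))) (.node (nat_lit 0x1036b0d) (.node (nat_lit 0x1036a83) (.node (nat_lit 0x1036a4d) (.node (nat_lit 0x1036a43) (.node (nat_lit 0x10369dd) (.node (nat_lit 0x10369db) (.leaf (nat_lit 0x10369d9) (nat_lit 3076))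
 (.leaf (nat_lit 0x10369db) (nat_lit 2820))
) (.node (nat_lit 0x10369df) (.leaf (nat_lit 0x10369dd) (nat_lit 3076))
 (.node (nat_lit 0x1036a41) (.leaf (nat_lit 0x10369df) (nat_lit 3332))
 (.leaf (nat_lit 0x1036a41) (nat_lit 2308))
))) (.node (nat_lit 0x1036a47) (.node (nat_lit 0x1036a45) (.leaf (nat_lit 0x1036a43) (nat_lit 2564))
 (.leaf (nat_lit 0x1036a45) (nat_lit 2820))
) (.node (nat_lit 0x1036a49) (.leaf (nat_lit 0x1036a47) (nat_lit 2564))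
 (.node (nat_lit 0x1036a4b) (.leaf (nat_lit 0x1036a49) (nat_lit 2564))
 (.leaf (nat_lit 0x1036a4b) (nat_lit 2820))
)))) (.node (nat_lit 0x1036a57) (.node (nat_lit 0x1036a51) (.node (nat_lit 0x1036a4f) (.leaf (nat_lit 0x1036a4d) (nat_lit 3076))
 (.leaf (nat_lit 0x1036a4f) (nat_lit 2820))
) (.node (nat_lit 0x1036a53) (.leaf (nat_lit 0x1036a51) (nat_lit 2820))
 (.node (nat_lit 0x1036a55) (.leaf (nat_lit 0x1036a53) (nat_lit 2564))
 (.leaf (nat_lit 0x1036a55) (nat_lit 2820))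
))) (.node (nat_lit 0x1036a5d) (.node (nat_lit 0x1036a59) (.leaf (nat_lit 0x1036a57) (nat_lit 3076))
 (.node (nat_lit 0x1036a5b) (.leaf (nat_lit 0x1036a59) (nat_lit 3076))
 (.leaf (nat_lit 0x1036a5b) (nat_lit 2820))
)) (.node (nat_lit 0x1036a5f) (.leaf (nat_lit 0x1036a5d) (nat_lit 3076))
 (.node (nat_lit 0x1036a81) (.leaf (nat_lit 0x1036a5f) (nat_lit 3332))
 (.leaf (nat_lit 0x1036a81) (nat_lit 2308))
))))) (.node (nat_lit 0x1036a97) (.node (nat_lit 0x1036a8d) (.node (nat_lit 0x1036a87) (.node (nat_lit 0x1036a85) (.leaf (nat_lit 0x1036a83) (nat_lit 2564))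
 (.leaf (nat_lit 0x1036a85) (nat_lit 2820))
) (.node (nat_lit 0x1036a89) (.leaf (nat_lit 0x1036a87) (nat_lit 2564))
 (.node (nat_lit 0x1036a8b) (.leaf (nat_lit 0x1036a89) (nat_lit 2820))
 (.leaf (nat_lit 0x1036a8b) (nat_lit 3076))
))) (.node (nat_lit 0x1036a91) (.node (nat_lit 0x1036a8f) (.leaf (nat_lit 0x1036a8d) (nat_lit 2820))
 (.leaf (nat_lit 0x1036a8f) (nat_lit 2564))
) (.node (nat_lit 0x1036a93) (.leaf (nat_lit 0x1036a91) (nat_lit 3076))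
 (.node (nat_lit 0x1036a95) (.leaf (nat_lit 0x1036a93) (nat_lit 2820))
 (.leaf (nat_lit 0x1036a95) (nat_lit 2564))
)))) (.node (nat_lit 0x1036b01) (.node (nat_lit 0x1036a9b) (.node (nat_lit 0x1036a99) (.leaf (nat_lit 0x1036a97) (nat_lit 2820))
 (.leaf (nat_lit 0x1036a99) (nat_lit 3077))
) (.node (nat_lit 0x1036a9d) (.leaf (nat_lit 0x1036a9b) (nat_lit 2821))
 (.node (nat_lit 0x1036a9f) (.leaf (nat_lit 0x1036a9d) (nat_lit 3077))
 (.leaf (nat_lit 0x1036a9f) (nat_lit 3333))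
))) (.node (nat_lit 0x1036b07) (.node (nat_lit 0x1036b03) (.leaf (nat_lit 0x1036b01) (nat_lit 1540))
 (.node (nat_lit 0x1036b05) (.leaf (nat_lit 0x1036b03) (nat_lit 1796))
 (.leaf (nat_lit 0x1036b05) (nat_lit 2308))
)) (.node (nat_lit 0x1036b09) (.leaf (nat_lit 0x1036b07) (nat_lit 2308))
 (.node (nat_lit 0x1036b0b) (.leaf (nat_lit 0x1036b09) (nat_lit 2820))
 (.leaf (nat_lit 0x1036b0b) (nat_lit 2820))
)))))) (.node (nat_lit 0x1036bd7) (.node (nat_lit 0x1036bc1) (.node (nat_lit 0x1036b17) (.node (nat_lit 0x1036b11) (.node (nat_lit 0x1036b0f) (.leaf (nat_lit 0x1036b0d) (nat_lit 2817))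
 (.leaf (nat_lit 0x1036b0f) (nat_lit 2820))
) (.node (nat_lit 0x1036b13) (.leaf (nat_lit 0x1036b11) (nat_lit 3076))
 (.node (nat_lit 0x1036b15) (.leaf (nat_lit 0x1036b13) (nat_lit 3076))
 (.leaf (nat_lit 0x1036b15) (nat_lit 3076))
))) (.node (nat_lit 0x1036b1b) (.node (nat_lit 0x1036b19) (.leaf (nat_lit 0x1036b17) (nat_lit 3076))
 (.leaf (nat_lit 0x1036b19) (nat_lit 1796))
) (.node (nat_lit 0x1036b1d) (.leaf (nat_lit 0x1036b1b) (nat_lit 2052))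
 (.node (nat_lit 0x1036b1f) (.leaf (nat_lit 0x1036b1d) (nat_lit 2561))
 (.leaf (nat_lit 0x1036b1f) (nat_lit 2564))
)))) (.node (nat_lit 0x1036bcb) (.node (nat_lit 0x1036bc5) (.node (nat_lit 0x1036bc3) (.leaf (nat_lit 0x1036bc1) (nat_lit 1796))
 (.leaf (nat_lit 0x1036bc3) (nat_lit 2052))
) (.node (nat_lit 0x1036bc7) (.leaf (nat_lit 0x1036bc5) (nat_lit 2052))
 (.node (nat_lit 0x1036bc9) (.leaf (nat_lit 0x1036bc7) (nat_lit 2308))
 (.leaf (nat_lit 0x1036bc9) (nat_lit 3074))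
))) (.node (nat_lit 0x1036bd1) (.node (nat_lit 0x1036bcd) (.leaf (nat_lit 0x1036bcb) (nat_lit 3076))
 (.node (nat_lit 0x1036bcf) (.leaf (nat_lit 0x1036bcd) (nat_lit 3073))
 (.leaf (nat_lit 0x1036bcf) (nat_lit 3076))
)) (.node (nat_lit 0x1036bd3) (.leaf (nat_lit 0x1036bd1) (nat_lit 3332))
 (.node (nat_lit 0x1036bd5) (.leaf (nat_lit 0x1036bd3) (nat_lit 3328))
 (.leaf (nat_lit 0x1036bd5) (nat_lit 3332))
))))) (.node (nat_lit 0x103704b) (.node (nat_lit 0x1037041) (.node (nat_lit 0x1036bdb) (.node (nat_lit 0x1036bd9) (.leaf (nat_lit 0x1036bd7) (nat_lit 3332))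
 (.leaf (nat_lit 0x1036bd9) (nat_lit 2564))
) (.node (nat_lit 0x1036bdd) (.leaf (nat_lit 0x1036bdb) (nat_lit 2308))
 (.node (nat_lit 0x1036bdf) (.leaf (nat_lit 0x1036bdd) (nat_lit 2308))
 (.leaf (nat_lit 0x1036bdf) (nat_lit 2052))
))) (.node (nat_lit 0x1037045) (.node (nat_lit 0x1037043) (.leaf (nat_lit 0x1037041) (nat_lit 1285))
 (.leaf (nat_lit 0x1037043) (nat_lit 1541))
) (.node (nat_lit 0x1037047) (.leaf (nat_lit 0x1037045) (nat_lit 2053))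
 (.node (nat_lit 0x1037049) (.leaf (nat_lit 0x1037047) (nat_lit 2053))
 (.leaf (nat_lit 0x1037049) (nat_lit 2563))
)))) (.node (nat_lit 0x1037055) (.node (nat_lit 0x103704f) (.node (nat_lit 0x103704d) (.leaf (nat_lit 0x103704b) (nat_lit 2563))
 (.leaf (nat_lit 0x103704d) (nat_lit 2565))
) (.node (nat_lit 0x1037051) (.leaf (nat_lit 0x103704f) (nat_lit 2565))
 (.node (nat_lit 0x1037053) (.leaf (nat_lit 0x1037051) (nat_lit 3333))
 (.leaf (nat_lit 0x1037053) (nat_lit 3333))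
))) (.node (nat_lit 0x103705b) (.node (nat_lit 0x1037057) (.leaf (nat_lit 0x1037055) (nat_lit 3077))
 (.node (nat_lit 0x1037059) (.leaf (nat_lit 0x1037057) (nat_lit 3077))
 (.leaf (nat_lit 0x1037059) (nat_lit 2306))
)) (.node (nat_lit 0x103705d) (.leaf (nat_lit 0x103705b) (nat_lit 2306))
 (.node (nat_lit 0x103705f) (.leaf (nat_lit 0x103705d) (nat_lit 2053))
 (.leaf (nat_lit 0x103705f) (nat_lit 2053))
))))))))) (.node (nat_lit 0x1037991) (.node (nat_lit 0x1037309) (.node (nat_lit 0x10371d5) (.node (nat_lit 0x103710b) (.node (nat_lit 0x1037095) (.node (nat_lit 0x103708b) (.node (nat_lit 0x1037085) (.node (nat_lit 0x1037083) (.leaf (nat_lit 0x1037081) (nat_lit 1794))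
 (.leaf (nat_lit 0x1037083) (nat_lit 2050))
) (.node (nat_lit 0x1037087) (.leaf (nat_lit 0x1037085) (nat_lit 2050))
 (.node (nat_lit 0x1037089) (.leaf (nat_lit 0x1037087) (nat_lit 2306))
 (.leaf (nat_lit 0x1037089) (nat_lit 3077))
))) (.node (nat_lit 0x103708f) (.node (nat_lit 0x103708d) (.leaf (nat_lit 0x103708b) (nat_lit 2821))
 (.leaf (nat_lit 0x103708d) (nat_lit 3075))
) (.node (nat_lit 0x1037091) (.leaf (nat_lit 0x103708f) (nat_lit 2819))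
 (.node (nat_lit 0x1037093) (.leaf (nat_lit 0x1037091) (nat_lit 3587))
 (.leaf (nat_lit 0x1037093) (nat_lit 3331))
)))) (.node (nat_lit 0x103709f) (.node (nat_lit 0x1037099) (.node (nat_lit 0x1037097) (.leaf (nat_lit 0x1037095) (nat_lit 3585))
 (.leaf (nat_lit 0x1037097) (nat_lit 3588))
) (.node (nat_lit 0x103709b) (.leaf (nat_lit 0x1037099) (nat_lit 2305))
 (.node (nat_lit 0x103709d) (.leaf (nat_lit 0x103709b) (nat_lit 2561))
 (.leaf (nat_lit 0x103709d) (nat_lit 2309))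
))) (.node (nat_lit 0x1037105) (.node (nat_lit 0x1037101) (.leaf (nat_lit 0x103709f) (nat_lit 2565))
 (.node (nat_lit 0x1037103) (.leaf (nat_lit 0x1037101) (nat_lit 2051))
 (.leaf (nat_lit 0x1037103) (nat_lit 2307))
)) (.node (nat_lit 0x1037107) (.leaf (nat_lit 0x1037105) (nat_lit 2819))
 (.node (nat_lit 0x1037109) (.leaf (nat_lit 0x1037107) (nat_lit 2819))
 (.leaf (nat_lit 0x1037109) (nat_lit 2307))
))))) (.node (nat_lit 0x103711f) (.node (nat_lit 0x1037115) (.node (nat_lit 0x103710f) (.node (nat_lit 0x103710d) (.leaf (nat_lit 0x103710b) (nat_lit 2563))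
 (.leaf (nat_lit 0x103710d) (nat_lit 3074))
) (.node (nat_lit 0x1037111) (.leaf (nat_lit 0x103710f) (nat_lit 2818))
 (.node (nat_lit 0x1037113) (.leaf (nat_lit 0x1037111) (nat_lit 3330))
 (.leaf (nat_lit 0x1037113) (nat_lit 3074))
))) (.node (nat_lit 0x1037119) (.node (nat_lit 0x1037117) (.leaf (nat_lit 0x1037115) (nat_lit 2819))
 (.leaf (nat_lit 0x1037117) (nat_lit 3075))
) (.node (nat_lit 0x103711b) (.leaf (nat_lit 0x1037119) (nat_lit 3585))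
 (.node (nat_lit 0x103711d) (.leaf (nat_lit 0x103711b) (nat_lit 3329))
 (.leaf (nat_lit 0x103711d) (nat_lit 3073))
)))) (.node (nat_lit 0x10371c9) (.node (nat_lit 0x10371c3) (.node (nat_lit 0x10371c1) (.leaf (nat_lit 0x103711f) (nat_lit 3329))
 (.leaf (nat_lit 0x10371c1) (nat_lit 2306))
) (.node (nat_lit 0x10371c5) (.leaf (nat_lit 0x10371c3) (nat_lit 2562))
 (.node (nat_lit 0x10371c7) (.leaf (nat_lit 0x10371c5) (nat_lit 2563))
 (.leaf (nat_lit 0x10371c7) (nat_lit 2562))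
))) (.node (nat_lit 0x10371cf) (.node (nat_lit 0x10371cb) (.leaf (nat_lit 0x10371c9) (nat_lit 2818))
 (.node (nat_lit 0x10371cd) (.leaf (nat_lit 0x10371cb) (nat_lit 2819))
 (.leaf (nat_lit 0x10371cd) (nat_lit 2818))
)) (.node (nat_lit 0x10371d1) (.leaf (nat_lit 0x10371cf) (nat_lit 2562))
 (.node (nat_lit 0x10371d3) (.leaf (nat_lit 0x10371d1) (nat_lit 3329))
 (.leaf (nat_lit 0x10371d3) (nat_lit 3073))
)))))) (.node (nat_lit 0x103725f) (.node (nat_lit 0x1037249) (.node (nat_lit 0x10371df) (.node (nat_lit 0x10371d9) (.node (nat_lit 0x10371d7) (.leaf (nat_lit 0x10371d5) (nat_lit 3074))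
 (.leaf (nat_lit 0x10371d7) (nat_lit 3330))
) (.node (nat_lit 0x10371db) (.leaf (nat_lit 0x10371d9) (nat_lit 3330))
 (.node (nat_lit 0x10371dd) (.leaf (nat_lit 0x10371db) (nat_lit 3074))
 (.leaf (nat_lit 0x10371dd) (nat_lit 3076))
))) (.node (nat_lit 0x1037243) (.node (nat_lit 0x1037241) (.leaf (nat_lit 0x10371df) (nat_lit 3332))
 (.leaf (nat_lit 0x1037241) (nat_lit 2565))
) (.node (nat_lit 0x1037245) (.leaf (nat_lit 0x1037243) (nat_lit 2821))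
 (.node (nat_lit 0x1037247) (.leaf (nat_lit 0x1037245) (nat_lit 2819))
 (.leaf (nat_lit 0x1037247) (nat_lit 2821))
)))) (.node (nat_lit 0x1037253) (.node (nat_lit 0x103724d) (.node (nat_lit 0x103724b) (.leaf (nat_lit 0x1037249) (nat_lit 2818))
 (.leaf (nat_lit 0x103724b) (nat_lit 3074))
) (.node (nat_lit 0x103724f) (.leaf (nat_lit 0x103724d) (nat_lit 3073))
 (.node (nat_lit 0x1037251) (.leaf (nat_lit 0x103724f) (nat_lit 2817))
 (.leaf (nat_lit 0x1037251) (nat_lit 3077))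
))) (.node (nat_lit 0x1037259) (.node (nat_lit 0x1037255) (.leaf (nat_lit 0x1037253) (nat_lit 2821))
 (.node (nat_lit 0x1037257) (.leaf (nat_lit 0x1037255) (nat_lit 3077))
 (.leaf (nat_lit 0x1037257) (nat_lit 3075))
)) (.node (nat_lit 0x103725b) (.leaf (nat_lit 0x1037259) (nat_lit 3333))
 (.node (nat_lit 0x103725d) (.leaf (nat_lit 0x103725b) (nat_lit 3077))
 (.leaf (nat_lit 0x103725d) (nat_lit 2821))
))))) (.node (nat_lit 0x1037293) (.node (nat_lit 0x1037289) (.node (nat_lit 0x1037283) (.node (nat_lit 0x1037281) (.leaf (nat_lit 0x103725f) (nat_lit 3077))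
 (.leaf (nat_lit 0x1037281) (nat_lit 2307))
) (.node (nat_lit 0x1037285) (.leaf (nat_lit 0x1037283) (nat_lit 2563))
 (.node (nat_lit 0x1037287) (.leaf (nat_lit 0x1037285) (nat_lit 3074))
 (.leaf (nat_lit 0x1037287) (nat_lit 2818))
))) (.node (nat_lit 0x103728d) (.node (nat_lit 0x103728b) (.leaf (nat_lit 0x1037289) (nat_lit 2563))
 (.leaf (nat_lit 0x103728b) (nat_lit 2819))
) (.node (nat_lit 0x103728f) (.leaf (nat_lit 0x103728d) (nat_lit 3074))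
 (.node (nat_lit 0x1037291) (.leaf (nat_lit 0x103728f) (nat_lit 2818))
 (.leaf (nat_lit 0x1037291) (nat_lit 3330))
)))) (.node (nat_lit 0x103729d) (.node (nat_lit 0x1037297) (.node (nat_lit 0x1037295) (.leaf (nat_lit 0x1037293) (nat_lit 3074))
 (.leaf (nat_lit 0x1037295) (nat_lit 2563))
) (.node (nat_lit 0x1037299) (.leaf (nat_lit 0x1037297) (nat_lit 2819))
 (.node (nat_lit 0x103729b) (.leaf (nat_lit 0x1037299) (nat_lit 3333))
 (.leaf (nat_lit 0x103729b) (nat_lit 3077))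
))) (.node (nat_lit 0x1037303) (.node (nat_lit 0x103729f) (.leaf (nat_lit 0x103729d) (nat_lit 2821))
 (.node (nat_lit 0x1037301) (.leaf (nat_lit 0x103729f) (nat_lit 3077))
 (.leaf (nat_lit 0x1037301) (nat_lit 1794))
)) (.node (nat_lit 0x1037305) (.leaf (nat_lit 0x1037303) (nat_lit 2050))
 (.node (nat_lit 0x1037307) (.leaf (nat_lit 0x1037305) (nat_lit 2305))
 (.leaf (nat_lit 0x1037307) (nat_lit 2561))
))))))) (.node (nat_lit 0x103785d) (.node (nat_lit 0x10373d3) (.node (nat_lit 0x103731d) (.node (nat_lit 0x1037313) (.node (nat_lit 0x103730d) (.node (nat_lit 0x103730b) (.leaf (nat_lit 0x1037309) (nat_lit 3074))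
 (.leaf (nat_lit 0x103730b) (nat_lit 3074))
) (.node (nat_lit 0x103730f) (.leaf (nat_lit 0x103730d) (nat_lit 3074))
 (.node (nat_lit 0x1037311) (.leaf (nat_lit 0x103730f) (nat_lit 3074))
 (.leaf (nat_lit 0x1037311) (nat_lit 3330))
))) (.node (nat_lit 0x1037317) (.node (nat_lit 0x1037315) (.leaf (nat_lit 0x1037313) (nat_lit 3330))
 (.leaf (nat_lit 0x1037315) (nat_lit 3330))
) (.node (nat_lit 0x1037319) (.leaf (nat_lit 0x1037317) (nat_lit 3330))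
 (.node (nat_lit 0x103731b) (.leaf (nat_lit 0x1037319) (nat_lit 2050))
 (.leaf (nat_lit 0x103731b) (nat_lit 2306))
)))) (.node (nat_lit 0x10373c7) (.node (nat_lit 0x10373c1) (.node (nat_lit 0x103731f) (.leaf (nat_lit 0x103731d) (nat_lit 2561))
 (.leaf (nat_lit 0x103731f) (nat_lit 2817))
) (.node (nat_lit 0x10373c3) (.leaf (nat_lit 0x10373c1) (nat_lit 1537))
 (.node (nat_lit 0x10373c5) (.leaf (nat_lit 0x10373c3) (nat_lit 1793))
 (.leaf (nat_lit 0x10373c5) (nat_lit 2306))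
))) (.node (nat_lit 0x10373cd) (.node (nat_lit 0x10373c9) (.leaf (nat_lit 0x10373c7) (nat_lit 2305))
 (.node (nat_lit 0x10373cb) (.leaf (nat_lit 0x10373c9) (nat_lit 2819))
 (.leaf (nat_lit 0x10373cb) (nat_lit 2819))
)) (.node (nat_lit 0x10373cf) (.leaf (nat_lit 0x10373cd) (nat_lit 2817))
 (.node (nat_lit 0x10373d1) (.leaf (nat_lit 0x10373cf) (nat_lit 2817))
 (.leaf (nat_lit 0x10373d1) (nat_lit 3072))
))))) (.node (nat_lit 0x1037847) (.node (nat_lit 0x10373dd) (.node (nat_lit 0x10373d7) (.node (nat_lit 0x10373d5) (.leaf (nat_lit 0x10373d3) (nat_lit 3072))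
 (.leaf (nat_lit 0x10373d5) (nat_lit 3075))
) (.node (nat_lit 0x10373d9) (.leaf (nat_lit 0x10373d7) (nat_lit 3075))
 (.node (nat_lit 0x10373db) (.leaf (nat_lit 0x10373d9) (nat_lit 2560))
 (.leaf (nat_lit 0x10373db) (nat_lit 2561))
))) (.node (nat_lit 0x1037841) (.node (nat_lit 0x10373df) (.leaf (nat_lit 0x10373dd) (nat_lit 2048))
 (.leaf (nat_lit 0x10373df) (nat_lit 1792))
) (.node (nat_lit 0x1037843) (.leaf (nat_lit 0x1037841) (nat_lit 1028))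
 (.node (nat_lit 0x1037845) (.leaf (nat_lit 0x1037843) (nat_lit 1284))
 (.leaf (nat_lit 0x1037845) (nat_lit 1796))
)))) (.node (nat_lit 0x1037851) (.node (nat_lit 0x103784b) (.node (nat_lit 0x1037849) (.leaf (nat_lit 0x1037847) (nat_lit 1796))
 (.leaf (nat_lit 0x1037849) (nat_lit 2819))
) (.node (nat_lit 0x103784d) (.leaf (nat_lit 0x103784b) (nat_lit 2563))
 (.node (nat_lit 0x103784f) (.leaf (nat_lit 0x103784d) (nat_lit 2308))
 (.leaf (nat_lit 0x103784f) (nat_lit 2308))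
))) (.node (nat_lit 0x1037857) (.node (nat_lit 0x1037853) (.leaf (nat_lit 0x1037851) (nat_lit 3076))
 (.node (nat_lit 0x1037855) (.leaf (nat_lit 0x1037853) (nat_lit 3076))
 (.leaf (nat_lit 0x1037855) (nat_lit 2820))
)) (.node (nat_lit 0x1037859) (.leaf (nat_lit 0x1037857) (nat_lit 2820))
 (.node (nat_lit 0x103785b) (.leaf (nat_lit 0x1037859) (nat_lit 2562))
 (.leaf (nat_lit 0x103785b) (nat_lit 2306))
)))))) (.node (nat_lit 0x1037947) (.node (nat_lit 0x1037891) (.node (nat_lit 0x1037887) (.node (nat_lit 0x1037881) (.node (nat_lit 0x103785f) (.leaf (nat_lit 0x103785d) (nat_lit 1796))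
 (.leaf (nat_lit 0x103785f) (nat_lit 1796))
) (.node (nat_lit 0x1037883) (.leaf (nat_lit 0x1037881) (nat_lit 1284))
 (.node (nat_lit 0x1037885) (.leaf (nat_lit 0x1037883) (nat_lit 1540))
 (.leaf (nat_lit 0x1037885) (nat_lit 1540))
))) (.node (nat_lit 0x103788b) (.node (nat_lit 0x1037889) (.leaf (nat_lit 0x1037887) (nat_lit 1796))
 (.leaf (nat_lit 0x1037889) (nat_lit 2820))
) (.node (nat_lit 0x103788d) (.leaf (nat_lit 0x103788b) (nat_lit 2564))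
 (.node (nat_lit 0x103788f) (.leaf (nat_lit 0x103788d) (nat_lit 2564))
 (.leaf (nat_lit 0x103788f) (nat_lit 2564))
)))) (.node (nat_lit 0x103789b) (.node (nat_lit 0x1037895) (.node (nat_lit 0x1037893) (.leaf (nat_lit 0x1037891) (nat_lit 3332))
 (.leaf (nat_lit 0x1037893) (nat_lit 3076))
) (.node (nat_lit 0x1037897) (.leaf (nat_lit 0x1037895) (nat_lit 3332))
 (.node (nat_lit 0x1037899) (.leaf (nat_lit 0x1037897) (nat_lit 3332))
 (.leaf (nat_lit 0x1037899) (nat_lit 2308))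
))) (.node (nat_lit 0x1037941) (.node (nat_lit 0x103789d) (.leaf (nat_lit 0x103789b) (nat_lit 2052))
 (.node (nat_lit 0x103789f) (.leaf (nat_lit 0x103789d) (nat_lit 2306))
 (.leaf (nat_lit 0x103789f) (nat_lit 2308))
)) (.node (nat_lit 0x1037943) (.leaf (nat_lit 0x1037941) (nat_lit 1796))
 (.node (nat_lit 0x1037945) (.leaf (nat_lit 0x1037943) (nat_lit 2052))
 (.leaf (nat_lit 0x1037945) (nat_lit 2308))
))))) (.node (nat_lit 0x103795b) (.node (nat_lit 0x1037951) (.node (nat_lit 0x103794b) (.node (nat_lit 0x1037949) (.leaf (nat_lit 0x1037947) (nat_lit 2052))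
 (.leaf (nat_lit 0x1037949) (nat_lit 2308))
) (.node (nat_lit 0x103794d) (.leaf (nat_lit 0x103794b) (nat_lit 2052))
 (.node (nat_lit 0x103794f) (.leaf (nat_lit 0x103794d) (nat_lit 2308))
 (.leaf (nat_lit 0x103794f) (nat_lit 2564))
))) (.node (nat_lit 0x1037955) (.node (nat_lit 0x1037953) (.leaf (nat_lit 0x1037951) (nat_lit 3076))
 (.leaf (nat_lit 0x1037953) (nat_lit 2820))
) (.node (nat_lit 0x1037957) (.leaf (nat_lit 0x1037955) (nat_lit 2564))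
 (.node (nat_lit 0x1037959) (.leaf (nat_lit 0x1037957) (nat_lit 2820))
 (.leaf (nat_lit 0x1037959) (nat_lit 2820))
)))) (.node (nat_lit 0x1037985) (.node (nat_lit 0x103795f) (.node (nat_lit 0x103795d) (.leaf (nat_lit 0x103795b) (nat_lit 3076))
 (.leaf (nat_lit 0x103795d) (nat_lit 2820))
) (.node (nat_lit 0x1037981) (.leaf (nat_lit 0x103795f) (nat_lit 2564))
 (.node (nat_lit 0x1037983) (.leaf (nat_lit 0x1037981) (nat_lit 1796))
 (.leaf (nat_lit 0x1037983) (nat_lit 2052))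
))) (.node (nat_lit 0x103798b) (.node (nat_lit 0x1037987) (.leaf (nat_lit 0x1037985) (nat_lit 2564))
 (.node (nat_lit 0x1037989) (.leaf (nat_lit 0x1037987) (nat_lit 2308))
 (.leaf (nat_lit 0x1037989) (nat_lit 2564))
)) (.node (nat_lit 0x103798d) (.leaf (nat_lit 0x103798b) (nat_lit 2308))
 (.node (nat_lit 0x103798f) (.leaf (nat_lit 0x103798d) (nat_lit 2052))
 (.leaf (nat_lit 0x103798f) (nat_lit 2308))
)))))))) (.node (nat_lit 0x1040899) (.node (nat_lit 0x1037b45) (.node (nat_lit 0x1037a5b) (.node (nat_lit 0x1037a45) (.node (nat_lit 0x103799b) (.node (nat_lit 0x1037995) (.node (nat_lit 0x1037993) (.leaf (nat_lit 0x1037991) (nat_lit 2820))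
 (.leaf (nat_lit 0x1037993) (nat_lit 2564))
) (.node (nat_lit 0x1037997) (.leaf (nat_lit 0x1037995) (nat_lit 2820))
 (.node (nat_lit 0x1037999) (.leaf (nat_lit 0x1037997) (nat_lit 3076))
 (.leaf (nat_lit 0x1037999) (nat_lit 3076))
))) (.node (nat_lit 0x103799f) (.node (nat_lit 0x103799d) (.leaf (nat_lit 0x103799b) (nat_lit 3076))
 (.leaf (nat_lit 0x103799d) (nat_lit 3076))
) (.node (nat_lit 0x1037a41) (.leaf (nat_lit 0x103799f) (nat_lit 2820))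
 (.node (nat_lit 0x1037a43) (.leaf (nat_lit 0x1037a41) (nat_lit 2052))
 (.leaf (nat_lit 0x1037a43) (nat_lit 2308))
)))) (.node (nat_lit 0x1037a4f) (.node (nat_lit 0x1037a49) (.node (nat_lit 0x1037a47) (.leaf (nat_lit 0x1037a45) (nat_lit 2564))
 (.leaf (nat_lit 0x1037a47) (nat_lit 2308))
) (.node (nat_lit 0x1037a4b) (.leaf (nat_lit 0x1037a49) (nat_lit 2820))
 (.node (nat_lit 0x1037a4d) (.leaf (nat_lit 0x1037a4b) (nat_lit 2564))
 (.leaf (nat_lit 0x1037a4d) (nat_lit 2308))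
))) (.node (nat_lit 0x1037a55) (.node (nat_lit 0x1037a51) (.leaf (nat_lit 0x1037a4f) (nat_lit 2564))
 (.node (nat_lit 0x1037a53) (.leaf (nat_lit 0x1037a51) (nat_lit 2564))
 (.leaf (nat_lit 0x1037a53) (nat_lit 2308))
)) (.node (nat_lit 0x1037a57) (.leaf (nat_lit 0x1037a55) (nat_lit 2564))
 (.node (nat_lit 0x1037a59) (.leaf (nat_lit 0x1037a57) (nat_lit 2820))
 (.leaf (nat_lit 0x1037a59) (nat_lit 2820))
))))) (.node (nat_lit 0x1037a8f) (.node (nat_lit 0x1037a85) (.node (nat_lit 0x1037a5f) (.node (nat_lit 0x1037a5d) (.leaf (nat_lit 0x1037a5b) (nat_lit 3076))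
 (.leaf (nat_lit 0x1037a5d) (nat_lit 2820))
) (.node (nat_lit 0x1037a81) (.leaf (nat_lit 0x1037a5f) (nat_lit 2564))
 (.node (nat_lit 0x1037a83) (.leaf (nat_lit 0x1037a81) (nat_lit 2052))
 (.leaf (nat_lit 0x1037a83) (nat_lit 2308))
))) (.node (nat_lit 0x1037a89) (.node (nat_lit 0x1037a87) (.leaf (nat_lit 0x1037a85) (nat_lit 2564))
 (.leaf (nat_lit 0x1037a87) (nat_lit 2308))
) (.node (nat_lit 0x1037a8b) (.leaf (nat_lit 0x1037a89) (nat_lit 2564))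
 (.node (nat_lit 0x1037a8d) (.leaf (nat_lit 0x1037a8b) (nat_lit 2308))
 (.leaf (nat_lit 0x1037a8d) (nat_lit 2564))
)))) (.node (nat_lit 0x1037a99) (.node (nat_lit 0x1037a93) (.node (nat_lit 0x1037a91) (.leaf (nat_lit 0x1037a8f) (nat_lit 2820))
 (.leaf (nat_lit 0x1037a91) (nat_lit 2820))
) (.node (nat_lit 0x1037a95) (.leaf (nat_lit 0x1037a93) (nat_lit 2564))
 (.node (nat_lit 0x1037a97) (.leaf (nat_lit 0x1037a95) (nat_lit 2308))
 (.leaf (nat_lit 0x1037a97) (nat_lit 2564))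
))) (.node (nat_lit 0x1037a9f) (.node (nat_lit 0x1037a9b) (.leaf (nat_lit 0x1037a99) (nat_lit 2820))
 (.node (nat_lit 0x1037a9d) (.leaf (nat_lit 0x1037a9b) (nat_lit 3076))
 (.leaf (nat_lit 0x1037a9d) (nat_lit 2820))
)) (.node (nat_lit 0x1037b41) (.leaf (nat_lit 0x1037a9f) (nat_lit 2564))
 (.node (nat_lit 0x1037b43) (.leaf (nat_lit 0x1037b41) (nat_lit 1540))
 (.leaf (nat_lit 0x1037b43) (nat_lit 1796))
)))))) (.node (nat_lit 0x1037b8f) (.node (nat_lit 0x1037b59) (.node (nat_lit 0x1037b4f) (.node (nat_lit 0x1037b49) (.node (nat_lit 0x1037b47) (.leaf (nat_lit 0x1037b45) (nat_lit 1796))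
 (.leaf (nat_lit 0x1037b47) (nat_lit 2052))
) (.node (nat_lit 0x1037b4b) (.leaf (nat_lit 0x1037b49) (nat_lit 3076))
 (.node (nat_lit 0x1037b4d) (.leaf (nat_lit 0x1037b4b) (nat_lit 2820))
 (.leaf (nat_lit 0x1037b4d) (nat_lit 2818))
))) (.node (nat_lit 0x1037b53) (.node (nat_lit 0x1037b51) (.leaf (nat_lit 0x1037b4f) (nat_lit 2820))
 (.leaf (nat_lit 0x1037b51) (nat_lit 3076))
) (.node (nat_lit 0x1037b55) (.leaf (nat_lit 0x1037b53) (nat_lit 3332))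
 (.node (nat_lit 0x1037b57) (.leaf (nat_lit 0x1037b55) (nat_lit 3076))
 (.leaf (nat_lit 0x1037b57) (nat_lit 3076))
)))) (.node (nat_lit 0x1037b83) (.node (nat_lit 0x1037b5d) (.node (nat_lit 0x1037b5b) (.leaf (nat_lit 0x1037b59) (nat_lit 2052))
 (.leaf (nat_lit 0x1037b5b) (nat_lit 1796))
) (.node (nat_lit 0x1037b5f) (.leaf (nat_lit 0x1037b5d) (nat_lit 2308))
 (.node (nat_lit 0x1037b81) (.leaf (nat_lit 0x1037b5f) (nat_lit 2052))
 (.leaf (nat_lit 0x1037b81) (nat_lit 1284))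
))) (.node (nat_lit 0x1037b89) (.node (nat_lit 0x1037b85) (.leaf (nat_lit 0x1037b83) (nat_lit 1540))
 (.node (nat_lit 0x1037b87) (.leaf (nat_lit 0x1037b85) (nat_lit 2052))
 (.leaf (nat_lit 0x1037b87) (nat_lit 2052))
)) (.node (nat_lit 0x1037b8b) (.leaf (nat_lit 0x1037b89) (nat_lit 3075))
 (.node (nat_lit 0x1037b8d) (.leaf (nat_lit 0x1037b8b) (nat_lit 2819))
 (.leaf (nat_lit 0x1037b8d) (nat_lit 2564))
))))) (.node (nat_lit 0x1040883) (.node (nat_lit 0x1037b99) (.node (nat_lit 0x1037b93) (.node (nat_lit 0x1037b91) (.leaf (nat_lit 0x1037b8f) (nat_lit 2564))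
 (.leaf (nat_lit 0x1037b91) (nat_lit 2820))
) (.node (nat_lit 0x1037b95) (.leaf (nat_lit 0x1037b93) (nat_lit 2820))
 (.node (nat_lit 0x1037b97) (.leaf (nat_lit 0x1037b95) (nat_lit 3076))
 (.leaf (nat_lit 0x1037b97) (nat_lit 3076))
))) (.node (nat_lit 0x1037b9d) (.node (nat_lit 0x1037b9b) (.leaf (nat_lit 0x1037b99) (nat_lit 2308))
 (.leaf (nat_lit 0x1037b9b) (nat_lit 2308))
) (.node (nat_lit 0x1037b9f) (.leaf (nat_lit 0x1037b9d) (nat_lit 1540))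
 (.node (nat_lit 0x1040881) (.leaf (nat_lit 0x1037b9f) (nat_lit 1796))
 (.leaf (nat_lit 0x1040881) (nat_lit 769))
)))) (.node (nat_lit 0x104088d) (.node (nat_lit 0x1040887) (.node (nat_lit 0x1040885) (.leaf (nat_lit 0x1040883) (nat_lit 1025))
 (.leaf (nat_lit 0x1040885) (nat_lit 1024))
) (.node (nat_lit 0x1040889) (.leaf (nat_lit 0x1040887) (nat_lit 1025))
 (.node (nat_lit 0x104088b) (.leaf (nat_lit 0x1040889) (nat_lit 2305))
 (.leaf (nat_lit 0x104088b) (nat_lit 2049))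
))) (.node (nat_lit 0x1040893) (.node (nat_lit 0x104088f) (.leaf (nat_lit 0x104088d) (nat_lit 2050))
 (.node (nat_lit 0x1040891) (.leaf (nat_lit 0x104088f) (nat_lit 1794))
 (.leaf (nat_lit 0x1040891) (nat_lit 3329))
)) (.node (nat_lit 0x1040895) (.leaf (nat_lit 0x1040893) (nat_lit 3073))
 (.node (nat_lit 0x1040897) (.leaf (nat_lit 0x1040895) (nat_lit 3073))
 (.leaf (nat_lit 0x1040897) (nat_lit 3074))
))))))) (.node (nat_lit 0x10409cd) (.node (nat_lit 0x1040983) (.node (nat_lit 0x10408cd) (.node (nat_lit 0x10408c3) (.node (nat_lit 0x104089d) (.node (nat_lit 0x104089b) (.leaf (nat_lit 0x1040899) (nat_lit 2817))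
 (.leaf (nat_lit 0x104089b) (nat_lit 2561))
) (.node (nat_lit 0x104089f) (.leaf (nat_lit 0x104089d) (nat_lit 2563))
 (.node (nat_lit 0x10408c1) (.leaf (nat_lit 0x104089f) (nat_lit 2307))
 (.leaf (nat_lit 0x10408c1) (nat_lit 517))
))) (.node (nat_lit 0x10408c7) (.node (nat_lit 0x10408c5) (.leaf (nat_lit 0x10408c3) (nat_lit 773))
 (.leaf (nat_lit 0x10408c5) (nat_lit 1029))
) (.node (nat_lit 0x10408c9) (.leaf (nat_lit 0x10408c7) (nat_lit 773))
 (.node (nat_lit 0x10408cb) (.leaf (nat_lit 0x10408c9) (nat_lit 2053))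
 (.leaf (nat_lit 0x10408cb) (nat_lit 1797))
)))) (.node (nat_lit 0x10408d7) (.node (nat_lit 0x10408d1) (.node (nat_lit 0x10408cf) (.leaf (nat_lit 0x10408cd) (nat_lit 1794))
 (.leaf (nat_lit 0x10408cf) (nat_lit 1797))
) (.node (nat_lit 0x10408d3) (.leaf (nat_lit 0x10408d1) (nat_lit 3077))
 (.node (nat_lit 0x10408d5) (.leaf (nat_lit 0x10408d3) (nat_lit 2821))
 (.leaf (nat_lit 0x10408d5) (nat_lit 2818))
))) (.node (nat_lit 0x10408dd) (.node (nat_lit 0x10408d9) (.leaf (nat_lit 0x10408d7) (nat_lit 2821))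
 (.node (nat_lit 0x10408db) (.leaf (nat_lit 0x10408d9) (nat_lit 2565))
 (.leaf (nat_lit 0x10408db) (nat_lit 2309))
)) (.node (nat_lit 0x10408df) (.leaf (nat_lit 0x10408dd) (nat_lit 2307))
 (.node (nat_lit 0x1040981) (.leaf (nat_lit 0x10408df) (nat_lit 2309))
 (.leaf (nat_lit 0x1040981) (nat_lit 1025))
))))) (.node (nat_lit 0x1040997) (.node (nat_lit 0x104098d) (.node (nat_lit 0x1040987) (.node (nat_lit 0x1040985) (.leaf (nat_lit 0x1040983) (nat_lit 1281))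
 (.leaf (nat_lit 0x1040985) (nat_lit 1794))
) (.node (nat_lit 0x1040989) (.leaf (nat_lit 0x1040987) (nat_lit 1538))
 (.node (nat_lit 0x104098b) (.leaf (nat_lit 0x1040989) (nat_lit 2050))
 (.leaf (nat_lit 0x104098b) (nat_lit 1794))
))) (.node (nat_lit 0x1040991) (.node (nat_lit 0x104098f) (.leaf (nat_lit 0x104098d) (nat_lit 1280))
 (.leaf (nat_lit 0x104098f) (nat_lit 1281))
) (.node (nat_lit 0x1040993) (.leaf (nat_lit 0x1040991) (nat_lit 3073))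
 (.node (nat_lit 0x1040995) (.leaf (nat_lit 0x1040993) (nat_lit 3074))
 (.leaf (nat_lit 0x1040995) (nat_lit 2819))
)))) (.node (nat_lit 0x10409c1) (.node (nat_lit 0x104099b) (.node (nat_lit 0x1040999) (.leaf (nat_lit 0x1040997) (nat_lit 2563))
 (.leaf (nat_lit 0x1040999) (nat_lit 3073))
) (.node (nat_lit 0x104099d) (.leaf (nat_lit 0x104099b) (nat_lit 2817))
 (.node (nat_lit 0x104099f) (.leaf (nat_lit 0x104099d) (nat_lit 2821))
 (.leaf (nat_lit 0x104099f) (nat_lit 2817))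
))) (.node (nat_lit 0x10409c7) (.node (nat_lit 0x10409c3) (.leaf (nat_lit 0x10409c1) (nat_lit 773))
 (.node (nat_lit 0x10409c5) (.leaf (nat_lit 0x10409c3) (nat_lit 1029))
 (.leaf (nat_lit 0x10409c5) (nat_lit 1797))
)) (.node (nat_lit 0x10409c9) (.leaf (nat_lit 0x10409c7) (nat_lit 1541))
 (.node (nat_lit 0x10409cb) (.leaf (nat_lit 0x10409c9) (nat_lit 1797))
 (.leaf (nat_lit 0x10409cb) (nat_lit 2053))
)))))) (.node (nat_lit 0x1040a97) (.node (nat_lit 0x1040a81) (.node (nat_lit 0x10409d7) (.node (nat_lit 0x10409d1) (.node (nat_lit 0x10409cf) (.leaf (nat_lit 0x10409cd) (nat_lit 1285))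
 (.leaf (nat_lit 0x10409cf) (nat_lit 1029))
) (.node (nat_lit 0x10409d3) (.leaf (nat_lit 0x10409d1) (nat_lit 2821))
 (.node (nat_lit 0x10409d5) (.leaf (nat_lit 0x10409d3) (nat_lit 3077))
 (.leaf (nat_lit 0x10409d5) (nat_lit 2563))
))) (.node (nat_lit 0x10409db) (.node (nat_lit 0x10409d9) (.leaf (nat_lit 0x10409d7) (nat_lit 2565))
 (.leaf (nat_lit 0x10409d9) (nat_lit 2821))
) (.node (nat_lit 0x10409dd) (.leaf (nat_lit 0x10409db) (nat_lit 2565))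
 (.node (nat_lit 0x10409df) (.leaf (nat_lit 0x10409dd) (nat_lit 2821))
 (.leaf (nat_lit 0x10409df) (nat_lit 2565))
)))) (.node (nat_lit 0x1040a8b) (.node (nat_lit 0x1040a85) (.node (nat_lit 0x1040a83) (.leaf (nat_lit 0x1040a81) (nat_lit 1793))
 (.leaf (nat_lit 0x1040a83) (nat_lit 2049))
) (.node (nat_lit 0x1040a87) (.leaf (nat_lit 0x1040a85) (nat_lit 2565))
 (.node (nat_lit 0x1040a89) (.leaf (nat_lit 0x1040a87) (nat_lit 2561))
 (.leaf (nat_lit 0x1040a89) (nat_lit 2818))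
))) (.node (nat_lit 0x1040a91) (.node (nat_lit 0x1040a8d) (.leaf (nat_lit 0x1040a8b) (nat_lit 2562))
 (.node (nat_lit 0x1040a8f) (.leaf (nat_lit 0x1040a8d) (nat_lit 2563))
 (.leaf (nat_lit 0x1040a8f) (nat_lit 2307))
)) (.node (nat_lit 0x1040a93) (.leaf (nat_lit 0x1040a91) (nat_lit 2817))
 (.node (nat_lit 0x1040a95) (.leaf (nat_lit 0x1040a93) (nat_lit 2816))
 (.leaf (nat_lit 0x1040a95) (nat_lit 2048))
))))) (.node (nat_lit 0x1040acb) (.node (nat_lit 0x1040ac1) (.node (nat_lit 0x1040a9b) (.node (nat_lit 0x1040a99) (.leaf (nat_lit 0x1040a97) (nat_lit 2049))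
 (.leaf (nat_lit 0x1040a99) (nat_lit 2819))
) (.node (nat_lit 0x1040a9d) (.leaf (nat_lit 0x1040a9b) (nat_lit 2563))
 (.node (nat_lit 0x1040a9f) (.leaf (nat_lit 0x1040a9d) (nat_lit 2562))
 (.leaf (nat_lit 0x1040a9f) (nat_lit 2306))
))) (.node (nat_lit 0x1040ac5) (.node (nat_lit 0x1040ac3) (.leaf (nat_lit 0x1040ac1) (nat_lit 1541))
 (.leaf (nat_lit 0x1040ac3) (nat_lit 1797))
) (.node (nat_lit 0x1040ac7) (.leaf (nat_lit 0x1040ac5) (nat_lit 2565))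
 (.node (nat_lit 0x1040ac9) (.leaf (nat_lit 0x1040ac7) (nat_lit 2309))
 (.leaf (nat_lit 0x1040ac9) (nat_lit 2565))
)))) (.node (nat_lit 0x1040ad5) (.node (nat_lit 0x1040acf) (.node (nat_lit 0x1040acd) (.leaf (nat_lit 0x1040acb) (nat_lit 2565))
 (.leaf (nat_lit 0x1040acd) (nat_lit 2565))
) (.node (nat_lit 0x1040ad1) (.leaf (nat_lit 0x1040acf) (nat_lit 2309))
 (.node (nat_lit 0x1040ad3) (.leaf (nat_lit 0x1040ad1) (nat_lit 2565))
 (.leaf (nat_lit 0x1040ad3) (nat_lit 2821))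
))) (.node (nat_lit 0x1040adb) (.node (nat_lit 0x1040ad7) (.leaf (nat_lit 0x1040ad5) (nat_lit 2053))
 (.node (nat_lit 0x1040ad9) (.leaf (nat_lit 0x1040ad7) (nat_lit 1797))
 (.leaf (nat_lit 0x1040ad9) (nat_lit 2565))
)) (.node (nat_lit 0x1040add) (.leaf (nat_lit 0x1040adb) (nat_lit 2821))
 (.node (nat_lit 0x1040adf) (.leaf (nat_lit 0x1040add) (nat_lit 2565))
 (.leaf (nat_lit 0x1040adf) (nat_lit 2309))
)))))))))) (.node (nat_lit 0x10429c1) (.node (nat_lit 0x1041851) (.node (nat_lit 0x10411c9) (.node (nat_lit 0x1041055) (.node (nat_lit 0x1040bcb) (.node (nat_lit 0x1040b95) (.node (nat_lit 0x1040b8b) (.node (nat_lit 0x1040b85) (.node (nat_lit 0x1040b83) (.leaf (nat_lit 0x1040b81) (nat_lit 1537))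
 (.leaf (nat_lit 0x1040b83) (nat_lit 1793))
) (.node (nat_lit 0x1040b87) (.leaf (nat_lit 0x1040b85) (nat_lit 2307))
 (.node (nat_lit 0x1040b89) (.leaf (nat_lit 0x1040b87) (nat_lit 2051))
 (.leaf (nat_lit 0x1040b89) (nat_lit 3073))
))) (.node (nat_lit 0x1040b8f) (.node (nat_lit 0x1040b8d) (.leaf (nat_lit 0x1040b8b) (nat_lit 2817))
 (.leaf (nat_lit 0x1040b8d) (nat_lit 2821))
) (.node (nat_lit 0x1040b91) (.leaf (nat_lit 0x1040b8f) (nat_lit 2817))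
 (.node (nat_lit 0x1040b93) (.leaf (nat_lit 0x1040b91) (nat_lit 3073))
 (.leaf (nat_lit 0x1040b93) (nat_lit 3072))
)))) (.node (nat_lit 0x1040b9f) (.node (nat_lit 0x1040b99) (.node (nat_lit 0x1040b97) (.leaf (nat_lit 0x1040b95) (nat_lit 2818))
 (.leaf (nat_lit 0x1040b97) (nat_lit 2562))
) (.node (nat_lit 0x1040b9b) (.leaf (nat_lit 0x1040b99) (nat_lit 2563))
 (.node (nat_lit 0x1040b9d) (.leaf (nat_lit 0x1040b9b) (nat_lit 2307))
 (.leaf (nat_lit 0x1040b9d) (nat_lit 1792))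
))) (.node (nat_lit 0x1040bc5) (.node (nat_lit 0x1040bc1) (.leaf (nat_lit 0x1040b9f) (nat_lit 1793))
 (.node (nat_lit 0x1040bc3) (.leaf (nat_lit 0x1040bc1) (nat_lit 1285))
 (.leaf (nat_lit 0x1040bc3) (nat_lit 1541))
)) (.node (nat_lit 0x1040bc7) (.leaf (nat_lit 0x1040bc5) (nat_lit 2309))
 (.node (nat_lit 0x1040bc9) (.leaf (nat_lit 0x1040bc7) (nat_lit 2053))
 (.leaf (nat_lit 0x1040bc9) (nat_lit 2821))
))))) (.node (nat_lit 0x1040bdf) (.node (nat_lit 0x1040bd5) (.node (nat_lit 0x1040bcf) (.node (nat_lit 0x1040bcd) (.leaf (nat_lit 0x1040bcb) (nat_lit 2565))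
 (.leaf (nat_lit 0x1040bcd) (nat_lit 2821))
) (.node (nat_lit 0x1040bd1) (.leaf (nat_lit 0x1040bcf) (nat_lit 2565))
 (.node (nat_lit 0x1040bd3) (.leaf (nat_lit 0x1040bd1) (nat_lit 2821))
 (.leaf (nat_lit 0x1040bd3) (nat_lit 3077))
))) (.node (nat_lit 0x1040bd9) (.node (nat_lit 0x1040bd7) (.leaf (nat_lit 0x1040bd5) (nat_lit 2562))
 (.leaf (nat_lit 0x1040bd7) (nat_lit 2565))
) (.node (nat_lit 0x1040bdb) (.leaf (nat_lit 0x1040bd9) (nat_lit 2309))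
 (.node (nat_lit 0x1040bdd) (.leaf (nat_lit 0x1040bdb) (nat_lit 2565))
 (.leaf (nat_lit 0x1040bdd) (nat_lit 1797))
)))) (.node (nat_lit 0x1041049) (.node (nat_lit 0x1041043) (.node (nat_lit 0x1041041) (.leaf (nat_lit 0x1040bdf) (nat_lit 1541))
 (.leaf (nat_lit 0x1041041) (nat_lit 0))
) (.node (nat_lit 0x1041045) (.leaf (nat_lit 0x1041043) (nat_lit 256))
 (.node (nat_lit 0x1041047) (.leaf (nat_lit 0x1041045) (nat_lit 1025))
 (.leaf (nat_lit 0x1041047) (nat_lit 769))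
))) (.node (nat_lit 0x104104f) (.node (nat_lit 0x104104b) (.leaf (nat_lit 0x1041049) (nat_lit 2049))
 (.node (nat_lit 0x104104d) (.leaf (nat_lit 0x104104b) (nat_lit 1793))
 (.leaf (nat_lit 0x104104d) (nat_lit 1538))
)) (.node (nat_lit 0x1041051) (.leaf (nat_lit 0x104104f) (nat_lit 1282))
 (.node (nat_lit 0x1041053) (.leaf (nat_lit 0x1041051) (nat_lit 3073))
 (.leaf (nat_lit 0x1041053) (nat_lit 2817))
)))))) (.node (nat_lit 0x10410df) (.node (nat_lit 0x10410c9) (.node (nat_lit 0x104105f) (.node (nat_lit 0x1041059) (.node (nat_lit 0x1041057) (.leaf (nat_lit 0x1041055) (nat_lit 2562))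
 (.leaf (nat_lit 0x1041057) (nat_lit 2306))
) (.node (nat_lit 0x104105b) (.leaf (nat_lit 0x1041059) (nat_lit 2563))
 (.node (nat_lit 0x104105d) (.leaf (nat_lit 0x104105b) (nat_lit 2307))
 (.leaf (nat_lit 0x104105d) (nat_lit 2051))
))) (.node (nat_lit 0x10410c3) (.node (nat_lit 0x10410c1) (.leaf (nat_lit 0x104105f) (nat_lit 1795))
 (.leaf (nat_lit 0x10410c1) (nat_lit 257))
) (.node (nat_lit 0x10410c5) (.leaf (nat_lit 0x10410c3) (nat_lit 513))
 (.node (nat_lit 0x10410c7) (.leaf (nat_lit 0x10410c5) (nat_lit 768))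
 (.leaf (nat_lit 0x10410c7) (nat_lit 512))
)))) (.node (nat_lit 0x10410d3) (.node (nat_lit 0x10410cd) (.node (nat_lit 0x10410cb) (.leaf (nat_lit 0x10410c9) (nat_lit 1794))
 (.leaf (nat_lit 0x10410cb) (nat_lit 1538))
) (.node (nat_lit 0x10410cf) (.leaf (nat_lit 0x10410cd) (nat_lit 1793))
 (.node (nat_lit 0x10410d1) (.leaf (nat_lit 0x10410cf) (nat_lit 1537))
 (.leaf (nat_lit 0x10410d1) (nat_lit 2818))
))) (.node (nat_lit 0x10410d9) (.node (nat_lit 0x10410d5) (.leaf (nat_lit 0x10410d3) (nat_lit 2562))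
 (.node (nat_lit 0x10410d7) (.leaf (nat_lit 0x10410d5) (nat_lit 2817))
 (.leaf (nat_lit 0x10410d7) (nat_lit 2561))
)) (.node (nat_lit 0x10410db) (.leaf (nat_lit 0x10410d9) (nat_lit 2307))
 (.node (nat_lit 0x10410dd) (.leaf (nat_lit 0x10410db) (nat_lit 2051))
 (.leaf (nat_lit 0x10410dd) (nat_lit 2307))
))))) (.node (nat_lit 0x1041153) (.node (nat_lit 0x1041149) (.node (nat_lit 0x1041143) (.node (nat_lit 0x1041141) (.leaf (nat_lit 0x10410df) (nat_lit 2051))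
 (.leaf (nat_lit 0x1041141) (nat_lit 1026))
) (.node (nat_lit 0x1041145) (.leaf (nat_lit 0x1041143) (nat_lit 1282))
 (.node (nat_lit 0x1041147) (.leaf (nat_lit 0x1041145) (nat_lit 1538))
 (.leaf (nat_lit 0x1041147) (nat_lit 1282))
))) (.node (nat_lit 0x104114d) (.node (nat_lit 0x104114b) (.leaf (nat_lit 0x1041149) (nat_lit 1538))
 (.leaf (nat_lit 0x104114b) (nat_lit 1282))
) (.node (nat_lit 0x104114f) (.leaf (nat_lit 0x104114d) (nat_lit 1537))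
 (.node (nat_lit 0x1041151) (.leaf (nat_lit 0x104114f) (nat_lit 1281))
 (.leaf (nat_lit 0x1041151) (nat_lit 3074))
)))) (.node (nat_lit 0x104115d) (.node (nat_lit 0x1041157) (.node (nat_lit 0x1041155) (.leaf (nat_lit 0x1041153) (nat_lit 2818))
 (.leaf (nat_lit 0x1041155) (nat_lit 3075))
) (.node (nat_lit 0x1041159) (.leaf (nat_lit 0x1041157) (nat_lit 2819))
 (.node (nat_lit 0x104115b) (.leaf (nat_lit 0x1041159) (nat_lit 3074))
 (.leaf (nat_lit 0x104115b) (nat_lit 2818))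
))) (.node (nat_lit 0x10411c3) (.node (nat_lit 0x104115f) (.leaf (nat_lit 0x104115d) (nat_lit 3074))
 (.node (nat_lit 0x10411c1) (.leaf (nat_lit 0x104115f) (nat_lit 2818))
 (.leaf (nat_lit 0x10411c1) (nat_lit 770))
)) (.node (nat_lit 0x10411c5) (.leaf (nat_lit 0x10411c3) (nat_lit 1026))
 (.node (nat_lit 0x10411c7) (.leaf (nat_lit 0x10411c5) (nat_lit 1794))
 (.leaf (nat_lit 0x10411c7) (nat_lit 1538))
))))))) (.node (nat_lit 0x10412dd) (.node (nat_lit 0x1041253) (.node (nat_lit 0x10411dd) (.node (nat_lit 0x10411d3) (.node (nat_lit 0x10411cd) (.node (nat_lit 0x10411cb) (.leaf (nat_lit 0x10411c9) (nat_lit 1793))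
 (.leaf (nat_lit 0x10411cb) (nat_lit 1537))
) (.node (nat_lit 0x10411cf) (.leaf (nat_lit 0x10411cd) (nat_lit 1282))
 (.node (nat_lit 0x10411d1) (.leaf (nat_lit 0x10411cf) (nat_lit 1026))
 (.leaf (nat_lit 0x10411d1) (nat_lit 2819))
))) (.node (nat_lit 0x10411d7) (.node (nat_lit 0x10411d5) (.leaf (nat_lit 0x10411d3) (nat_lit 2563))
 (.leaf (nat_lit 0x10411d5) (nat_lit 2818))
) (.node (nat_lit 0x10411d9) (.leaf (nat_lit 0x10411d7) (nat_lit 2562))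
 (.node (nat_lit 0x10411db) (.leaf (nat_lit 0x10411d9) (nat_lit 2818))
 (.leaf (nat_lit 0x10411db) (nat_lit 2562))
)))) (.node (nat_lit 0x1041247) (.node (nat_lit 0x1041241) (.node (nat_lit 0x10411df) (.leaf (nat_lit 0x10411dd) (nat_lit 2818))
 (.leaf (nat_lit 0x10411df) (nat_lit 2562))
) (.node (nat_lit 0x1041243) (.leaf (nat_lit 0x1041241) (nat_lit 2050))
 (.node (nat_lit 0x1041245) (.leaf (nat_lit 0x1041243) (nat_lit 2306))
 (.leaf (nat_lit 0x1041245) (nat_lit 2309))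
))) (.node (nat_lit 0x104124d) (.node (nat_lit 0x1041249) (.leaf (nat_lit 0x1041247) (nat_lit 2306))
 (.node (nat_lit 0x104124b) (.leaf (nat_lit 0x1041249) (nat_lit 3074))
 (.leaf (nat_lit 0x104124b) (nat_lit 2818))
)) (.node (nat_lit 0x104124f) (.leaf (nat_lit 0x104124d) (nat_lit 2563))
 (.node (nat_lit 0x1041251) (.leaf (nat_lit 0x104124f) (nat_lit 2307))
 (.leaf (nat_lit 0x1041251) (nat_lit 2562))
))))) (.node (nat_lit 0x10412c7) (.node (nat_lit 0x104125d) (.node (nat_lit 0x1041257) (.node (nat_lit 0x1041255) (.leaf (nat_lit 0x1041253) (nat_lit 2306))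
 (.leaf (nat_lit 0x1041255) (nat_lit 2561))
) (.node (nat_lit 0x1041259) (.leaf (nat_lit 0x1041257) (nat_lit 2305))
 (.node (nat_lit 0x104125b) (.leaf (nat_lit 0x1041259) (nat_lit 3074))
 (.leaf (nat_lit 0x104125b) (nat_lit 2818))
))) (.node (nat_lit 0x10412c1) (.node (nat_lit 0x104125f) (.leaf (nat_lit 0x104125d) (nat_lit 2562))
 (.leaf (nat_lit 0x104125f) (nat_lit 2306))
) (.node (nat_lit 0x10412c3) (.leaf (nat_lit 0x10412c1) (nat_lit 1794))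
 (.node (nat_lit 0x10412c5) (.leaf (nat_lit 0x10412c3) (nat_lit 2050))
 (.leaf (nat_lit 0x10412c5) (nat_lit 2565))
)))) (.node (nat_lit 0x10412d1) (.node (nat_lit 0x10412cb) (.node (nat_lit 0x10412c9) (.leaf (nat_lit 0x10412c7) (nat_lit 2562))
 (.leaf (nat_lit 0x10412c9) (nat_lit 2819))
) (.node (nat_lit 0x10412cd) (.leaf (nat_lit 0x10412cb) (nat_lit 2563))
 (.node (nat_lit 0x10412cf) (.leaf (nat_lit 0x10412cd) (nat_lit 2818))
 (.leaf (nat_lit 0x10412cf) (nat_lit 2562))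
))) (.node (nat_lit 0x10412d7) (.node (nat_lit 0x10412d3) (.leaf (nat_lit 0x10412d1) (nat_lit 2817))
 (.node (nat_lit 0x10412d5) (.leaf (nat_lit 0x10412d3) (nat_lit 2561))
 (.leaf (nat_lit 0x10412d5) (nat_lit 2306))
)) (.node (nat_lit 0x10412d9) (.leaf (nat_lit 0x10412d7) (nat_lit 2050))
 (.node (nat_lit 0x10412db) (.leaf (nat_lit 0x10412d9) (nat_lit 2818))
 (.leaf (nat_lit 0x10412db) (nat_lit 2562))
)))))) (.node (nat_lit 0x10413c7) (.node (nat_lit 0x1041351) (.node (nat_lit 0x1041347) (.node (nat_lit 0x1041341) (.node (nat_lit 0x10412df) (.leaf (nat_lit 0x10412dd) (nat_lit 2818))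
 (.leaf (nat_lit 0x10412df) (nat_lit 2562))
) (.node (nat_lit 0x1041343) (.leaf (nat_lit 0x1041341) (nat_lit 1539))
 (.node (nat_lit 0x1041345) (.leaf (nat_lit 0x1041343) (nat_lit 1795))
 (.leaf (nat_lit 0x1041345) (nat_lit 2051))
))) (.node (nat_lit 0x104134b) (.node (nat_lit 0x1041349) (.leaf (nat_lit 0x1041347) (nat_lit 1795))
 (.leaf (nat_lit 0x1041349) (nat_lit 3075))
) (.node (nat_lit 0x104134d) (.leaf (nat_lit 0x104134b) (nat_lit 2819))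
 (.node (nat_lit 0x104134f) (.leaf (nat_lit 0x104134d) (nat_lit 2562))
 (.leaf (nat_lit 0x104134f) (nat_lit 2306))
)))) (.node (nat_lit 0x104135b) (.node (nat_lit 0x1041355) (.node (nat_lit 0x1041353) (.leaf (nat_lit 0x1041351) (nat_lit 3073))
 (.leaf (nat_lit 0x1041353) (nat_lit 2817))
) (.node (nat_lit 0x1041357) (.leaf (nat_lit 0x1041355) (nat_lit 2562))
 (.node (nat_lit 0x1041359) (.leaf (nat_lit 0x1041357) (nat_lit 2306))
 (.leaf (nat_lit 0x1041359) (nat_lit 2051))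
))) (.node (nat_lit 0x10413c1) (.node (nat_lit 0x104135d) (.leaf (nat_lit 0x104135b) (nat_lit 1795))
 (.node (nat_lit 0x104135f) (.leaf (nat_lit 0x104135d) (nat_lit 2051))
 (.leaf (nat_lit 0x104135f) (nat_lit 1795))
)) (.node (nat_lit 0x10413c3) (.leaf (nat_lit 0x10413c1) (nat_lit 1283))
 (.node (nat_lit 0x10413c5) (.leaf (nat_lit 0x10413c3) (nat_lit 1539))
 (.leaf (nat_lit 0x10413c5) (nat_lit 2307))
))))) (.node (nat_lit 0x10413db) (.node (nat_lit 0x10413d1) (.node (nat_lit 0x10413cb) (.node (nat_lit 0x10413c9) (.leaf (nat_lit 0x10413c7) (nat_lit 2051))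
 (.leaf (nat_lit 0x10413c9) (nat_lit 2818))
) (.node (nat_lit 0x10413cd) (.leaf (nat_lit 0x10413cb) (nat_lit 2562))
 (.node (nat_lit 0x10413cf) (.leaf (nat_lit 0x10413cd) (nat_lit 2819))
 (.leaf (nat_lit 0x10413cf) (nat_lit 2563))
))) (.node (nat_lit 0x10413d5) (.node (nat_lit 0x10413d3) (.leaf (nat_lit 0x10413d1) (nat_lit 2818))
 (.leaf (nat_lit 0x10413d3) (nat_lit 2562))
) (.node (nat_lit 0x10413d7) (.leaf (nat_lit 0x10413d5) (nat_lit 2817))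
 (.node (nat_lit 0x10413d9) (.leaf (nat_lit 0x10413d7) (nat_lit 2561))
 (.leaf (nat_lit 0x10413d9) (nat_lit 2307))
)))) (.node (nat_lit 0x1041845) (.node (nat_lit 0x10413df) (.node (nat_lit 0x10413dd) (.leaf (nat_lit 0x10413db) (nat_lit 2051))
 (.leaf (nat_lit 0x10413dd) (nat_lit 1795))
) (.node (nat_lit 0x1041841) (.leaf (nat_lit 0x10413df) (nat_lit 1539))
 (.node (nat_lit 0x1041843) (.leaf (nat_lit 0x1041841) (nat_lit 261))
 (.leaf (nat_lit 0x1041843) (nat_lit 517))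
))) (.node (nat_lit 0x104184b) (.node (nat_lit 0x1041847) (.leaf (nat_lit 0x1041845) (nat_lit 1025))
 (.node (nat_lit 0x1041849) (.leaf (nat_lit 0x1041847) (nat_lit 1029))
 (.leaf (nat_lit 0x1041849) (nat_lit 2309))
)) (.node (nat_lit 0x104184d) (.leaf (nat_lit 0x104184b) (nat_lit 2053))
 (.node (nat_lit 0x104184f) (.leaf (nat_lit 0x104184d) (nat_lit 1538))
 (.leaf (nat_lit 0x104184f) (nat_lit 1541))
)))))))) (.node (nat_lit 0x1041a99) (.node (nat_lit 0x1041985) (.node (nat_lit 0x104189b) (.node (nat_lit 0x1041885) (.node (nat_lit 0x104185b) (.node (nat_lit 0x1041855) (.node (nat_lit 0x1041853) (.leaf (nat_lit 0x1041851) (nat_lit 3333))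
 (.leaf (nat_lit 0x1041853) (nat_lit 3077))
) (.node (nat_lit 0x1041857) (.leaf (nat_lit 0x1041855) (nat_lit 2562))
 (.node (nat_lit 0x1041859) (.leaf (nat_lit 0x1041857) (nat_lit 2565))
 (.leaf (nat_lit 0x1041859) (nat_lit 2821))
))) (.node (nat_lit 0x104185f) (.node (nat_lit 0x104185d) (.leaf (nat_lit 0x104185b) (nat_lit 2565))
 (.leaf (nat_lit 0x104185d) (nat_lit 2051))
) (.node (nat_lit 0x1041881) (.leaf (nat_lit 0x104185f) (nat_lit 2053))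
 (.node (nat_lit 0x1041883) (.leaf (nat_lit 0x1041881) (nat_lit 513))
 (.leaf (nat_lit 0x1041883) (nat_lit 769))
)))) (.node (nat_lit 0x104188f) (.node (nat_lit 0x1041889) (.node (nat_lit 0x1041887) (.leaf (nat_lit 0x1041885) (nat_lit 768))
 (.leaf (nat_lit 0x1041887) (nat_lit 1024))
) (.node (nat_lit 0x104188b) (.leaf (nat_lit 0x1041889) (nat_lit 2050))
 (.node (nat_lit 0x104188d) (.leaf (nat_lit 0x104188b) (nat_lit 1794))
 (.leaf (nat_lit 0x104188d) (nat_lit 1793))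
))) (.node (nat_lit 0x1041895) (.node (nat_lit 0x1041891) (.leaf (nat_lit 0x104188f) (nat_lit 1793))
 (.node (nat_lit 0x1041893) (.leaf (nat_lit 0x1041891) (nat_lit 3074))
 (.leaf (nat_lit 0x1041893) (nat_lit 2818))
)) (.node (nat_lit 0x1041897) (.leaf (nat_lit 0x1041895) (nat_lit 2817))
 (.node (nat_lit 0x1041899) (.leaf (nat_lit 0x1041897) (nat_lit 2817))
 (.leaf (nat_lit 0x1041899) (nat_lit 2563))
))))) (.node (nat_lit 0x104194f) (.node (nat_lit 0x1041945) (.node (nat_lit 0x104189f) (.node (nat_lit 0x104189d) (.leaf (nat_lit 0x104189b) (nat_lit 2307))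
 (.leaf (nat_lit 0x104189d) (nat_lit 2307))
) (.node (nat_lit 0x1041941) (.leaf (nat_lit 0x104189f) (nat_lit 2305))
 (.node (nat_lit 0x1041943) (.leaf (nat_lit 0x1041941) (nat_lit 1029))
 (.leaf (nat_lit 0x1041943) (nat_lit 1285))
))) (.node (nat_lit 0x1041949) (.node (nat_lit 0x1041947) (.leaf (nat_lit 0x1041945) (nat_lit 1541))
 (.leaf (nat_lit 0x1041947) (nat_lit 1285))
) (.node (nat_lit 0x104194b) (.leaf (nat_lit 0x1041949) (nat_lit 1541))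
 (.node (nat_lit 0x104194d) (.leaf (nat_lit 0x104194b) (nat_lit 1285))
 (.leaf (nat_lit 0x104194d) (nat_lit 1541))
)))) (.node (nat_lit 0x1041959) (.node (nat_lit 0x1041953) (.node (nat_lit 0x1041951) (.leaf (nat_lit 0x104194f) (nat_lit 1797))
 (.leaf (nat_lit 0x1041951) (nat_lit 3077))
) (.node (nat_lit 0x1041955) (.leaf (nat_lit 0x1041953) (nat_lit 2821))
 (.node (nat_lit 0x1041957) (.leaf (nat_lit 0x1041955) (nat_lit 2819))
 (.leaf (nat_lit 0x1041957) (nat_lit 3075))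
))) (.node (nat_lit 0x104195f) (.node (nat_lit 0x104195b) (.leaf (nat_lit 0x1041959) (nat_lit 3077))
 (.node (nat_lit 0x104195d) (.leaf (nat_lit 0x104195b) (nat_lit 2821))
 (.leaf (nat_lit 0x104195d) (nat_lit 3077))
)) (.node (nat_lit 0x1041981) (.leaf (nat_lit 0x104195f) (nat_lit 2821))
 (.node (nat_lit 0x1041983) (.leaf (nat_lit 0x1041981) (nat_lit 1026))
 (.leaf (nat_lit 0x1041983) (nat_lit 1282))
)))))) (.node (nat_lit 0x1041a4f) (.node (nat_lit 0x1041999) (.node (nat_lit 0x104198f) (.node (nat_lit 0x1041989) (.node (nat_lit 0x1041987) (.leaf (nat_lit 0x1041985) (nat_lit 1793))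
 (.leaf (nat_lit 0x1041987) (nat_lit 1537))
) (.node (nat_lit 0x104198b) (.leaf (nat_lit 0x1041989) (nat_lit 1793))
 (.node (nat_lit 0x104198d) (.leaf (nat_lit 0x104198b) (nat_lit 1537))
 (.leaf (nat_lit 0x104198d) (nat_lit 1282))
))) (.node (nat_lit 0x1041993) (.node (nat_lit 0x1041991) (.leaf (nat_lit 0x104198f) (nat_lit 1538))
 (.leaf (nat_lit 0x1041991) (nat_lit 3075))
) (.node (nat_lit 0x1041995) (.leaf (nat_lit 0x1041993) (nat_lit 2819))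
 (.node (nat_lit 0x1041997) (.leaf (nat_lit 0x1041995) (nat_lit 2818))
 (.leaf (nat_lit 0x1041997) (nat_lit 2818))
)))) (.node (nat_lit 0x1041a43) (.node (nat_lit 0x104199d) (.node (nat_lit 0x104199b) (.leaf (nat_lit 0x1041999) (nat_lit 3074))
 (.leaf (nat_lit 0x104199b) (nat_lit 2818))
) (.node (nat_lit 0x104199f) (.leaf (nat_lit 0x104199d) (nat_lit 2818))
 (.node (nat_lit 0x1041a41) (.leaf (nat_lit 0x104199f) (nat_lit 2818))
 (.leaf (nat_lit 0x1041a41) (nat_lit 1797))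
))) (.node (nat_lit 0x1041a49) (.node (nat_lit 0x1041a45) (.leaf (nat_lit 0x1041a43) (nat_lit 2053))
 (.node (nat_lit 0x1041a47) (.leaf (nat_lit 0x1041a45) (nat_lit 2309))
 (.leaf (nat_lit 0x1041a47) (nat_lit 2053))
)) (.node (nat_lit 0x1041a4b) (.leaf (nat_lit 0x1041a49) (nat_lit 2821))
 (.node (nat_lit 0x1041a4d) (.leaf (nat_lit 0x1041a4b) (nat_lit 2565))
 (.leaf (nat_lit 0x1041a4d) (nat_lit 2563))
))))) (.node (nat_lit 0x1041a83) (.node (nat_lit 0x1041a59) (.node (nat_lit 0x1041a53) (.node (nat_lit 0x1041a51) (.leaf (nat_lit 0x1041a4f) (nat_lit 2565))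
 (.leaf (nat_lit 0x1041a51) (nat_lit 2309))
) (.node (nat_lit 0x1041a55) (.leaf (nat_lit 0x1041a53) (nat_lit 2053))
 (.node (nat_lit 0x1041a57) (.leaf (nat_lit 0x1041a55) (nat_lit 2309))
 (.leaf (nat_lit 0x1041a57) (nat_lit 2565))
))) (.node (nat_lit 0x1041a5d) (.node (nat_lit 0x1041a5b) (.leaf (nat_lit 0x1041a59) (nat_lit 2821))
 (.leaf (nat_lit 0x1041a5b) (nat_lit 2565))
) (.node (nat_lit 0x1041a5f) (.leaf (nat_lit 0x1041a5d) (nat_lit 2562))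
 (.node (nat_lit 0x1041a81) (.leaf (nat_lit 0x1041a5f) (nat_lit 2818))
 (.leaf (nat_lit 0x1041a81) (nat_lit 2049))
)))) (.node (nat_lit 0x1041a8d) (.node (nat_lit 0x1041a87) (.node (nat_lit 0x1041a85) (.leaf (nat_lit 0x1041a83) (nat_lit 2305))
 (.leaf (nat_lit 0x1041a85) (nat_lit 2561))
) (.node (nat_lit 0x1041a89) (.leaf (nat_lit 0x1041a87) (nat_lit 2305))
 (.node (nat_lit 0x1041a8b) (.leaf (nat_lit 0x1041a89) (nat_lit 2819))
 (.leaf (nat_lit 0x1041a8b) (nat_lit 2563))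
))) (.node (nat_lit 0x1041a93) (.node (nat_lit 0x1041a8f) (.leaf (nat_lit 0x1041a8d) (nat_lit 2818))
 (.node (nat_lit 0x1041a91) (.leaf (nat_lit 0x1041a8f) (nat_lit 2562))
 (.leaf (nat_lit 0x1041a91) (nat_lit 2561))
)) (.node (nat_lit 0x1041a95) (.leaf (nat_lit 0x1041a93) (nat_lit 2305))
 (.node (nat_lit 0x1041a97) (.leaf (nat_lit 0x1041a95) (nat_lit 2304))
 (.leaf (nat_lit 0x1041a97) (nat_lit 2560))
))))))) (.node (nat_lit 0x104288d) (.node (nat_lit 0x1041b83) (.node (nat_lit 0x1041b4d) (.node (nat_lit 0x1041b43) (.node (nat_lit 0x1041a9d) (.node (nat_lit 0x1041a9b) (.leaf (nat_lit 0x1041a99) (nat_lit 2818))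
 (.leaf (nat_lit 0x1041a9b) (nat_lit 2562))
) (.node (nat_lit 0x1041a9f) (.leaf (nat_lit 0x1041a9d) (nat_lit 2818))
 (.node (nat_lit 0x1041b41) (.leaf (nat_lit 0x1041a9f) (nat_lit 2819))
 (.leaf (nat_lit 0x1041b41) (nat_lit 1541))
))) (.node (nat_lit 0x1041b47) (.node (nat_lit 0x1041b45) (.leaf (nat_lit 0x1041b43) (nat_lit 1797))
 (.leaf (nat_lit 0x1041b45) (nat_lit 2053))
) (.node (nat_lit 0x1041b49) (.leaf (nat_lit 0x1041b47) (nat_lit 1797))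
 (.node (nat_lit 0x1041b4b) (.leaf (nat_lit 0x1041b49) (nat_lit 3077))
 (.leaf (nat_lit 0x1041b4b) (nat_lit 2821))
)))) (.node (nat_lit 0x1041b57) (.node (nat_lit 0x1041b51) (.node (nat_lit 0x1041b4f) (.leaf (nat_lit 0x1041b4d) (nat_lit 2565))
 (.leaf (nat_lit 0x1041b4f) (nat_lit 2309))
) (.node (nat_lit 0x1041b53) (.leaf (nat_lit 0x1041b51) (nat_lit 3077))
 (.node (nat_lit 0x1041b55) (.leaf (nat_lit 0x1041b53) (nat_lit 2821))
 (.leaf (nat_lit 0x1041b55) (nat_lit 2565))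
))) (.node (nat_lit 0x1041b5d) (.node (nat_lit 0x1041b59) (.leaf (nat_lit 0x1041b57) (nat_lit 2821))
 (.node (nat_lit 0x1041b5b) (.leaf (nat_lit 0x1041b59) (nat_lit 2053))
 (.leaf (nat_lit 0x1041b5b) (nat_lit 1797))
)) (.node (nat_lit 0x1041b5f) (.leaf (nat_lit 0x1041b5d) (nat_lit 2053))
 (.node (nat_lit 0x1041b81) (.leaf (nat_lit 0x1041b5f) (nat_lit 2309))
 (.leaf (nat_lit 0x1041b81) (nat_lit 1539))
))))) (.node (nat_lit 0x1041b97) (.node (nat_lit 0x1041b8d) (.node (nat_lit 0x1041b87) (.node (nat_lit 0x1041b85) (.leaf (nat_lit 0x1041b83) (nat_lit 1795))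
 (.leaf (nat_lit 0x1041b85) (nat_lit 2305))
) (.node (nat_lit 0x1041b89) (.leaf (nat_lit 0x1041b87) (nat_lit 2049))
 (.node (nat_lit 0x1041b8b) (.leaf (nat_lit 0x1041b89) (nat_lit 3074))
 (.leaf (nat_lit 0x1041b8b) (nat_lit 2818))
))) (.node (nat_lit 0x1041b91) (.node (nat_lit 0x1041b8f) (.leaf (nat_lit 0x1041b8d) (nat_lit 2817))
 (.leaf (nat_lit 0x1041b8f) (nat_lit 2561))
) (.node (nat_lit 0x1041b93) (.leaf (nat_lit 0x1041b91) (nat_lit 3074))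
 (.node (nat_lit 0x1041b95) (.leaf (nat_lit 0x1041b93) (nat_lit 2818))
 (.leaf (nat_lit 0x1041b95) (nat_lit 2817))
)))) (.node (nat_lit 0x1042881) (.node (nat_lit 0x1041b9b) (.node (nat_lit 0x1041b99) (.leaf (nat_lit 0x1041b97) (nat_lit 3073))
 (.leaf (nat_lit 0x1041b99) (nat_lit 2305))
) (.node (nat_lit 0x1041b9d) (.leaf (nat_lit 0x1041b9b) (nat_lit 2049))
 (.node (nat_lit 0x1041b9f) (.leaf (nat_lit 0x1041b9d) (nat_lit 1795))
 (.leaf (nat_lit 0x1041b9f) (nat_lit 2051))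
))) (.node (nat_lit 0x1042887) (.node (nat_lit 0x1042883) (.leaf (nat_lit 0x1042881) (nat_lit 1026))
 (.node (nat_lit 0x1042885) (.leaf (nat_lit 0x1042883) (nat_lit 1282))
 (.leaf (nat_lit 0x1042885) (nat_lit 1282))
)) (.node (nat_lit 0x1042889) (.leaf (nat_lit 0x1042887) (nat_lit 1282))
 (.node (nat_lit 0x104288b) (.leaf (nat_lit 0x1042889) (nat_lit 2048))
 (.leaf (nat_lit 0x104288b) (nat_lit 1792))
)))))) (.node (nat_lit 0x10428d7) (.node (nat_lit 0x10428c1) (.node (nat_lit 0x1042897) (.node (nat_lit 0x1042891) (.node (nat_lit 0x104288f) (.leaf (nat_lit 0x104288d) (nat_lit 1793))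
 (.leaf (nat_lit 0x104288f) (nat_lit 1537))
) (.node (nat_lit 0x1042893) (.leaf (nat_lit 0x1042891) (nat_lit 3077))
 (.node (nat_lit 0x1042895) (.leaf (nat_lit 0x1042893) (nat_lit 2821))
 (.leaf (nat_lit 0x1042895) (nat_lit 3075))
))) (.node (nat_lit 0x104289b) (.node (nat_lit 0x1042899) (.leaf (nat_lit 0x1042897) (nat_lit 2819))
 (.leaf (nat_lit 0x1042899) (nat_lit 3074))
) (.node (nat_lit 0x104289d) (.leaf (nat_lit 0x104289b) (nat_lit 2818))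
 (.node (nat_lit 0x104289f) (.leaf (nat_lit 0x104289d) (nat_lit 2818))
 (.leaf (nat_lit 0x104289f) (nat_lit 2562))
)))) (.node (nat_lit 0x10428cb) (.node (nat_lit 0x10428c5) (.node (nat_lit 0x10428c3) (.leaf (nat_lit 0x10428c1) (nat_lit 773))
 (.leaf (nat_lit 0x10428c3) (nat_lit 1029))
) (.node (nat_lit 0x10428c7) (.leaf (nat_lit 0x10428c5) (nat_lit 1285))
 (.node (nat_lit 0x10428c9) (.leaf (nat_lit 0x10428c7) (nat_lit 1029))
 (.leaf (nat_lit 0x10428c9) (nat_lit 1797))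
))) (.node (nat_lit 0x10428d1) (.node (nat_lit 0x10428cd) (.leaf (nat_lit 0x10428cb) (nat_lit 1541))
 (.node (nat_lit 0x10428cf) (.leaf (nat_lit 0x10428cd) (nat_lit 1537))
 (.leaf (nat_lit 0x10428cf) (nat_lit 1793))
)) (.node (nat_lit 0x10428d3) (.leaf (nat_lit 0x10428d1) (nat_lit 2821))
 (.node (nat_lit 0x10428d5) (.leaf (nat_lit 0x10428d3) (nat_lit 2565))
 (.leaf (nat_lit 0x10428d5) (nat_lit 2563))
))))) (.node (nat_lit 0x104298b) (.node (nat_lit 0x1042981) (.node (nat_lit 0x10428db) (.node (nat_lit 0x10428d9) (.leaf (nat_lit 0x10428d7) (nat_lit 2819))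
 (.leaf (nat_lit 0x10428d9) (nat_lit 2821))
) (.node (nat_lit 0x10428dd) (.leaf (nat_lit 0x10428db) (nat_lit 2565))
 (.node (nat_lit 0x10428df) (.leaf (nat_lit 0x10428dd) (nat_lit 2562))
 (.leaf (nat_lit 0x10428df) (nat_lit 2565))
))) (.node (nat_lit 0x1042985) (.node (nat_lit 0x1042983) (.leaf (nat_lit 0x1042981) (nat_lit 1025))
 (.leaf (nat_lit 0x1042983) (nat_lit 1281))
) (.node (nat_lit 0x1042987) (.leaf (nat_lit 0x1042985) (nat_lit 1537))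
 (.node (nat_lit 0x1042989) (.leaf (nat_lit 0x1042987) (nat_lit 1281))
 (.leaf (nat_lit 0x1042989) (nat_lit 1792))
)))) (.node (nat_lit 0x1042995) (.node (nat_lit 0x104298f) (.node (nat_lit 0x104298d) (.leaf (nat_lit 0x104298b) (nat_lit 1536))
 (.leaf (nat_lit 0x104298d) (nat_lit 1280))
) (.node (nat_lit 0x1042991) (.leaf (nat_lit 0x104298f) (nat_lit 1536))
 (.node (nat_lit 0x1042993) (.leaf (nat_lit 0x1042991) (nat_lit 3073))
 (.leaf (nat_lit 0x1042993) (nat_lit 2817))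
))) (.node (nat_lit 0x104299b) (.node (nat_lit 0x1042997) (.leaf (nat_lit 0x1042995) (nat_lit 2819))
 (.node (nat_lit 0x1042999) (.leaf (nat_lit 0x1042997) (nat_lit 2818))
 (.leaf (nat_lit 0x1042999) (nat_lit 3073))
)) (.node (nat_lit 0x104299d) (.leaf (nat_lit 0x104299b) (nat_lit 2817))
 (.node (nat_lit 0x104299f) (.leaf (nat_lit 0x104299d) (nat_lit 2817))
 (.leaf (nat_lit 0x104299f) (nat_lit 2819))
))))))))) (.node (nat_lit 0x10432d1) (.node (nat_lit 0x1043049) (.node (nat_lit 0x1042ad5) (.node (nat_lit 0x1042a8b) (.node (nat_lit 0x10429d5) (.node (nat_lit 0x10429cb) (.node (nat_lit 0x10429c5) (.node (nat_lit 0x10429c3) (.leaf (nat_lit 0x10429c1) (nat_lit 1029))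
 (.leaf (nat_lit 0x10429c3) (nat_lit 1285))
) (.node (nat_lit 0x10429c7) (.leaf (nat_lit 0x10429c5) (nat_lit 1537))
 (.node (nat_lit 0x10429c9) (.leaf (nat_lit 0x10429c7) (nat_lit 1537))
 (.leaf (nat_lit 0x10429c9) (nat_lit 1792))
))) (.node (nat_lit 0x10429cf) (.node (nat_lit 0x10429cd) (.leaf (nat_lit 0x10429cb) (nat_lit 1797))
 (.leaf (nat_lit 0x10429cd) (nat_lit 1541))
) (.node (nat_lit 0x10429d1) (.leaf (nat_lit 0x10429cf) (nat_lit 1285))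
 (.node (nat_lit 0x10429d3) (.leaf (nat_lit 0x10429d1) (nat_lit 3077))
 (.leaf (nat_lit 0x10429d3) (nat_lit 2821))
)))) (.node (nat_lit 0x10429df) (.node (nat_lit 0x10429d9) (.node (nat_lit 0x10429d7) (.leaf (nat_lit 0x10429d5) (nat_lit 2818))
 (.leaf (nat_lit 0x10429d7) (nat_lit 2821))
) (.node (nat_lit 0x10429db) (.leaf (nat_lit 0x10429d9) (nat_lit 3077))
 (.node (nat_lit 0x10429dd) (.leaf (nat_lit 0x10429db) (nat_lit 2821))
 (.leaf (nat_lit 0x10429dd) (nat_lit 2819))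
))) (.node (nat_lit 0x1042a85) (.node (nat_lit 0x1042a81) (.leaf (nat_lit 0x10429df) (nat_lit 2821))
 (.node (nat_lit 0x1042a83) (.leaf (nat_lit 0x1042a81) (nat_lit 1793))
 (.leaf (nat_lit 0x1042a83) (nat_lit 2049))
)) (.node (nat_lit 0x1042a87) (.leaf (nat_lit 0x1042a85) (nat_lit 2563))
 (.node (nat_lit 0x1042a89) (.leaf (nat_lit 0x1042a87) (nat_lit 2307))
 (.leaf (nat_lit 0x1042a89) (nat_lit 2560))
))))) (.node (nat_lit 0x1042a9f) (.node (nat_lit 0x1042a95) (.node (nat_lit 0x1042a8f) (.node (nat_lit 0x1042a8d) (.leaf (nat_lit 0x1042a8b) (nat_lit 2304))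
 (.leaf (nat_lit 0x1042a8d) (nat_lit 2818))
) (.node (nat_lit 0x1042a91) (.leaf (nat_lit 0x1042a8f) (nat_lit 2562))
 (.node (nat_lit 0x1042a93) (.leaf (nat_lit 0x1042a91) (nat_lit 2819))
 (.leaf (nat_lit 0x1042a93) (nat_lit 2563))
))) (.node (nat_lit 0x1042a99) (.node (nat_lit 0x1042a97) (.leaf (nat_lit 0x1042a95) (nat_lit 2048))
 (.leaf (nat_lit 0x1042a97) (nat_lit 2304))
) (.node (nat_lit 0x1042a9b) (.leaf (nat_lit 0x1042a99) (nat_lit 2817))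
 (.node (nat_lit 0x1042a9d) (.leaf (nat_lit 0x1042a9b) (nat_lit 2818))
 (.leaf (nat_lit 0x1042a9d) (nat_lit 2305))
)))) (.node (nat_lit 0x1042ac9) (.node (nat_lit 0x1042ac3) (.node (nat_lit 0x1042ac1) (.leaf (nat_lit 0x1042a9f) (nat_lit 2049))
 (.leaf (nat_lit 0x1042ac1) (nat_lit 1797))
) (.node (nat_lit 0x1042ac5) (.leaf (nat_lit 0x1042ac3) (nat_lit 2053))
 (.node (nat_lit 0x1042ac7) (.leaf (nat_lit 0x1042ac5) (nat_lit 2563))
 (.leaf (nat_lit 0x1042ac7) (nat_lit 2565))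
))) (.node (nat_lit 0x1042acf) (.node (nat_lit 0x1042acb) (.leaf (nat_lit 0x1042ac9) (nat_lit 2560))
 (.node (nat_lit 0x1042acd) (.leaf (nat_lit 0x1042acb) (nat_lit 2565))
 (.leaf (nat_lit 0x1042acd) (nat_lit 2821))
)) (.node (nat_lit 0x1042ad1) (.leaf (nat_lit 0x1042acf) (nat_lit 2565))
 (.node (nat_lit 0x1042ad3) (.leaf (nat_lit 0x1042ad1) (nat_lit 2821))
 (.leaf (nat_lit 0x1042ad3) (nat_lit 2819))
)))))) (.node (nat_lit 0x1042b9f) (.node (nat_lit 0x1042b89) (.node (nat_lit 0x1042adf) (.node (nat_lit 0x1042ad9) (.node (nat_lit 0x1042ad7) (.leaf (nat_lit 0x1042ad5) (nat_lit 2309))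
 (.leaf (nat_lit 0x1042ad7) (nat_lit 2053))
) (.node (nat_lit 0x1042adb) (.leaf (nat_lit 0x1042ad9) (nat_lit 2821))
 (.node (nat_lit 0x1042add) (.leaf (nat_lit 0x1042adb) (nat_lit 2817))
 (.leaf (nat_lit 0x1042add) (nat_lit 2305))
))) (.node (nat_lit 0x1042b83) (.node (nat_lit 0x1042b81) (.leaf (nat_lit 0x1042adf) (nat_lit 2305))
 (.leaf (nat_lit 0x1042b81) (nat_lit 1794))
) (.node (nat_lit 0x1042b85) (.leaf (nat_lit 0x1042b83) (nat_lit 2050))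
 (.node (nat_lit 0x1042b87) (.leaf (nat_lit 0x1042b85) (nat_lit 2562))
 (.leaf (nat_lit 0x1042b87) (nat_lit 2306))
)))) (.node (nat_lit 0x1042b93) (.node (nat_lit 0x1042b8d) (.node (nat_lit 0x1042b8b) (.leaf (nat_lit 0x1042b89) (nat_lit 2816))
 (.leaf (nat_lit 0x1042b8b) (nat_lit 2560))
) (.node (nat_lit 0x1042b8f) (.leaf (nat_lit 0x1042b8d) (nat_lit 2819))
 (.node (nat_lit 0x1042b91) (.leaf (nat_lit 0x1042b8f) (nat_lit 2563))
 (.leaf (nat_lit 0x1042b91) (nat_lit 3075))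
))) (.node (nat_lit 0x1042b99) (.node (nat_lit 0x1042b95) (.leaf (nat_lit 0x1042b93) (nat_lit 2819))
 (.node (nat_lit 0x1042b97) (.leaf (nat_lit 0x1042b95) (nat_lit 2561))
 (.leaf (nat_lit 0x1042b97) (nat_lit 2305))
)) (.node (nat_lit 0x1042b9b) (.leaf (nat_lit 0x1042b99) (nat_lit 2818))
 (.node (nat_lit 0x1042b9d) (.leaf (nat_lit 0x1042b9b) (nat_lit 2562))
 (.leaf (nat_lit 0x1042b9d) (nat_lit 2050))
))))) (.node (nat_lit 0x1042bd3) (.node (nat_lit 0x1042bc9) (.node (nat_lit 0x1042bc3) (.node (nat_lit 0x1042bc1) (.leaf (nat_lit 0x1042b9f) (nat_lit 2050))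
 (.leaf (nat_lit 0x1042bc1) (nat_lit 1541))
) (.node (nat_lit 0x1042bc5) (.leaf (nat_lit 0x1042bc3) (nat_lit 1797))
 (.node (nat_lit 0x1042bc7) (.leaf (nat_lit 0x1042bc5) (nat_lit 2565))
 (.leaf (nat_lit 0x1042bc7) (nat_lit 2309))
))) (.node (nat_lit 0x1042bcd) (.node (nat_lit 0x1042bcb) (.leaf (nat_lit 0x1042bc9) (nat_lit 2565))
 (.leaf (nat_lit 0x1042bcb) (nat_lit 2309))
) (.node (nat_lit 0x1042bcf) (.leaf (nat_lit 0x1042bcd) (nat_lit 2565))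
 (.node (nat_lit 0x1042bd1) (.leaf (nat_lit 0x1042bcf) (nat_lit 2821))
 (.leaf (nat_lit 0x1042bd1) (nat_lit 3077))
)))) (.node (nat_lit 0x1042bdd) (.node (nat_lit 0x1042bd7) (.node (nat_lit 0x1042bd5) (.leaf (nat_lit 0x1042bd3) (nat_lit 2821))
 (.leaf (nat_lit 0x1042bd5) (nat_lit 2305))
) (.node (nat_lit 0x1042bd9) (.leaf (nat_lit 0x1042bd7) (nat_lit 2561))
 (.node (nat_lit 0x1042bdb) (.leaf (nat_lit 0x1042bd9) (nat_lit 2565))
 (.leaf (nat_lit 0x1042bdb) (nat_lit 2821))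
))) (.node (nat_lit 0x1043043) (.node (nat_lit 0x1042bdf) (.leaf (nat_lit 0x1042bdd) (nat_lit 2053))
 (.node (nat_lit 0x1043041) (.leaf (nat_lit 0x1042bdf) (nat_lit 1797))
 (.leaf (nat_lit 0x1043041) (nat_lit 258))
)) (.node (nat_lit 0x1043045) (.leaf (nat_lit 0x1043043) (nat_lit 514))
 (.node (nat_lit 0x1043047) (.leaf (nat_lit 0x1043045) (nat_lit 1282))
 (.leaf (nat_lit 0x1043047) (nat_lit 1026))
))))))) (.node (nat_lit 0x104315d) (.node (nat_lit 0x10430d3) (.node (nat_lit 0x104305d) (.node (nat_lit 0x1043053) (.node (nat_lit 0x104304d) (.node (nat_lit 0x104304b) (.leaf (nat_lit 0x1043049) (nat_lit 1793))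
 (.leaf (nat_lit 0x104304b) (nat_lit 2049))
) (.node (nat_lit 0x104304f) (.leaf (nat_lit 0x104304d) (nat_lit 1281))
 (.node (nat_lit 0x1043051) (.leaf (nat_lit 0x104304f) (nat_lit 1025))
 (.leaf (nat_lit 0x1043051) (nat_lit 2819))
))) (.node (nat_lit 0x1043057) (.node (nat_lit 0x1043055) (.leaf (nat_lit 0x1043053) (nat_lit 3075))
 (.leaf (nat_lit 0x1043055) (nat_lit 2307))
) (.node (nat_lit 0x1043059) (.leaf (nat_lit 0x1043057) (nat_lit 2051))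
 (.node (nat_lit 0x104305b) (.leaf (nat_lit 0x1043059) (nat_lit 2818))
 (.leaf (nat_lit 0x104305b) (nat_lit 2562))
)))) (.node (nat_lit 0x10430c7) (.node (nat_lit 0x10430c1) (.node (nat_lit 0x104305f) (.leaf (nat_lit 0x104305d) (nat_lit 2306))
 (.leaf (nat_lit 0x104305f) (nat_lit 2050))
) (.node (nat_lit 0x10430c3) (.leaf (nat_lit 0x10430c1) (nat_lit 514))
 (.node (nat_lit 0x10430c5) (.leaf (nat_lit 0x10430c3) (nat_lit 770))
 (.leaf (nat_lit 0x10430c5) (nat_lit 1026))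
))) (.node (nat_lit 0x10430cd) (.node (nat_lit 0x10430c9) (.leaf (nat_lit 0x10430c7) (nat_lit 770))
 (.node (nat_lit 0x10430cb) (.leaf (nat_lit 0x10430c9) (nat_lit 1537))
 (.leaf (nat_lit 0x10430cb) (nat_lit 1281))
)) (.node (nat_lit 0x10430cf) (.leaf (nat_lit 0x10430cd) (nat_lit 1537))
 (.node (nat_lit 0x10430d1) (.leaf (nat_lit 0x10430cf) (nat_lit 1793))
 (.leaf (nat_lit 0x10430d1) (nat_lit 2563))
))))) (.node (nat_lit 0x1043147) (.node (nat_lit 0x10430dd) (.node (nat_lit 0x10430d7) (.node (nat_lit 0x10430d5) (.leaf (nat_lit 0x10430d3) (nat_lit 2307))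
 (.leaf (nat_lit 0x10430d5) (nat_lit 2563))
) (.node (nat_lit 0x10430d9) (.leaf (nat_lit 0x10430d7) (nat_lit 2819))
 (.node (nat_lit 0x10430db) (.leaf (nat_lit 0x10430d9) (nat_lit 2562))
 (.leaf (nat_lit 0x10430db) (nat_lit 2306))
))) (.node (nat_lit 0x1043141) (.node (nat_lit 0x10430df) (.leaf (nat_lit 0x10430dd) (nat_lit 2562))
 (.leaf (nat_lit 0x10430df) (nat_lit 2306))
) (.node (nat_lit 0x1043143) (.leaf (nat_lit 0x1043141) (nat_lit 769))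
 (.node (nat_lit 0x1043145) (.leaf (nat_lit 0x1043143) (nat_lit 1025))
 (.leaf (nat_lit 0x1043145) (nat_lit 1281))
)))) (.node (nat_lit 0x1043151) (.node (nat_lit 0x104314b) (.node (nat_lit 0x1043149) (.leaf (nat_lit 0x1043147) (nat_lit 1025))
 (.leaf (nat_lit 0x1043149) (nat_lit 1280))
) (.node (nat_lit 0x104314d) (.leaf (nat_lit 0x104314b) (nat_lit 1024))
 (.node (nat_lit 0x104314f) (.leaf (nat_lit 0x104314d) (nat_lit 1280))
 (.leaf (nat_lit 0x104314f) (nat_lit 1536))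
))) (.node (nat_lit 0x1043157) (.node (nat_lit 0x1043153) (.leaf (nat_lit 0x1043151) (nat_lit 2819))
 (.node (nat_lit 0x1043155) (.leaf (nat_lit 0x1043153) (nat_lit 2563))
 (.leaf (nat_lit 0x1043155) (nat_lit 2819))
)) (.node (nat_lit 0x1043159) (.leaf (nat_lit 0x1043157) (nat_lit 3075))
 (.node (nat_lit 0x104315b) (.leaf (nat_lit 0x1043159) (nat_lit 2817))
 (.leaf (nat_lit 0x104315b) (nat_lit 2561))
)))))) (.node (nat_lit 0x1043247) (.node (nat_lit 0x10431d1) (.node (nat_lit 0x10431c7) (.node (nat_lit 0x10431c1) (.node (nat_lit 0x104315f) (.leaf (nat_lit 0x104315d) (nat_lit 2819))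
 (.leaf (nat_lit 0x104315f) (nat_lit 2563))
) (.node (nat_lit 0x10431c3) (.leaf (nat_lit 0x10431c1) (nat_lit 513))
 (.node (nat_lit 0x10431c5) (.leaf (nat_lit 0x10431c3) (nat_lit 769))
 (.leaf (nat_lit 0x10431c5) (nat_lit 1537))
))) (.node (nat_lit 0x10431cb) (.node (nat_lit 0x10431c9) (.leaf (nat_lit 0x10431c7) (nat_lit 1281))
 (.leaf (nat_lit 0x10431c9) (nat_lit 1536))
) (.node (nat_lit 0x10431cd) (.leaf (nat_lit 0x10431cb) (nat_lit 1792))
 (.node (nat_lit 0x10431cf) (.leaf (nat_lit 0x10431cd) (nat_lit 1024))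
 (.leaf (nat_lit 0x10431cf) (nat_lit 768))
)))) (.node (nat_lit 0x10431db) (.node (nat_lit 0x10431d5) (.node (nat_lit 0x10431d3) (.leaf (nat_lit 0x10431d1) (nat_lit 2560))
 (.leaf (nat_lit 0x10431d3) (nat_lit 2816))
) (.node (nat_lit 0x10431d7) (.leaf (nat_lit 0x10431d5) (nat_lit 2563))
 (.node (nat_lit 0x10431d9) (.leaf (nat_lit 0x10431d7) (nat_lit 2307))
 (.leaf (nat_lit 0x10431d9) (nat_lit 2563))
))) (.node (nat_lit 0x1043241) (.node (nat_lit 0x10431dd) (.leaf (nat_lit 0x10431db) (nat_lit 2307))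
 (.node (nat_lit 0x10431df) (.leaf (nat_lit 0x10431dd) (nat_lit 2561))
 (.leaf (nat_lit 0x10431df) (nat_lit 2305))
)) (.node (nat_lit 0x1043243) (.leaf (nat_lit 0x1043241) (nat_lit 1795))
 (.node (nat_lit 0x1043245) (.leaf (nat_lit 0x1043243) (nat_lit 2051))
 (.leaf (nat_lit 0x1043245) (nat_lit 2307))
))))) (.node (nat_lit 0x104325b) (.node (nat_lit 0x1043251) (.node (nat_lit 0x104324b) (.node (nat_lit 0x1043249) (.leaf (nat_lit 0x1043247) (nat_lit 2051))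
 (.leaf (nat_lit 0x1043249) (nat_lit 2819))
) (.node (nat_lit 0x104324d) (.leaf (nat_lit 0x104324b) (nat_lit 2563))
 (.node (nat_lit 0x104324f) (.leaf (nat_lit 0x104324d) (nat_lit 2304))
 (.leaf (nat_lit 0x104324f) (nat_lit 2560))
))) (.node (nat_lit 0x1043255) (.node (nat_lit 0x1043253) (.leaf (nat_lit 0x1043251) (nat_lit 2307))
 (.leaf (nat_lit 0x1043253) (nat_lit 2051))
) (.node (nat_lit 0x1043257) (.leaf (nat_lit 0x1043255) (nat_lit 2307))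
 (.node (nat_lit 0x1043259) (.leaf (nat_lit 0x1043257) (nat_lit 2563))
 (.leaf (nat_lit 0x1043259) (nat_lit 2817))
)))) (.node (nat_lit 0x10432c5) (.node (nat_lit 0x104325f) (.node (nat_lit 0x104325d) (.leaf (nat_lit 0x104325b) (nat_lit 2561))
 (.leaf (nat_lit 0x104325d) (nat_lit 2305))
) (.node (nat_lit 0x10432c1) (.leaf (nat_lit 0x104325f) (nat_lit 2049))
 (.node (nat_lit 0x10432c3) (.leaf (nat_lit 0x10432c1) (nat_lit 1539))
 (.leaf (nat_lit 0x10432c3) (nat_lit 1795))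
))) (.node (nat_lit 0x10432cb) (.node (nat_lit 0x10432c7) (.leaf (nat_lit 0x10432c5) (nat_lit 2563))
 (.node (nat_lit 0x10432c9) (.leaf (nat_lit 0x10432c7) (nat_lit 2307))
 (.leaf (nat_lit 0x10432c9) (nat_lit 2560))
)) (.node (nat_lit 0x10432cd) (.leaf (nat_lit 0x10432cb) (nat_lit 2816))
 (.node (nat_lit 0x10432cf) (.leaf (nat_lit 0x10432cd) (nat_lit 2563))
 (.leaf (nat_lit 0x10432cf) (nat_lit 2307))
)))))))) (.node (nat_lit 0x1043959) (.node (nat_lit 0x1043845) (.node (nat_lit 0x104335b) (.node (nat_lit 0x1043345) (.node (nat_lit 0x10432db) (.node (nat_lit 0x10432d5) (.node (nat_lit 0x10432d3) (.leaf (nat_lit 0x10432d1) (nat_lit 2563))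
 (.leaf (nat_lit 0x10432d3) (nat_lit 2819))
) (.node (nat_lit 0x10432d7) (.leaf (nat_lit 0x10432d5) (nat_lit 2051))
 (.node (nat_lit 0x10432d9) (.leaf (nat_lit 0x10432d7) (nat_lit 1795))
 (.leaf (nat_lit 0x10432d9) (nat_lit 2561))
))) (.node (nat_lit 0x10432df) (.node (nat_lit 0x10432dd) (.leaf (nat_lit 0x10432db) (nat_lit 2305))
 (.leaf (nat_lit 0x10432dd) (nat_lit 2561))
) (.node (nat_lit 0x1043341) (.leaf (nat_lit 0x10432df) (nat_lit 2305))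
 (.node (nat_lit 0x1043343) (.leaf (nat_lit 0x1043341) (nat_lit 1794))
 (.leaf (nat_lit 0x1043343) (nat_lit 2050))
)))) (.node (nat_lit 0x104334f) (.node (nat_lit 0x1043349) (.node (nat_lit 0x1043347) (.leaf (nat_lit 0x1043345) (nat_lit 2306))
 (.leaf (nat_lit 0x1043347) (nat_lit 2050))
) (.node (nat_lit 0x104334b) (.leaf (nat_lit 0x1043349) (nat_lit 2819))
 (.node (nat_lit 0x104334d) (.leaf (nat_lit 0x104334b) (nat_lit 3075))
 (.leaf (nat_lit 0x104334d) (nat_lit 2307))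
))) (.node (nat_lit 0x1043355) (.node (nat_lit 0x1043351) (.leaf (nat_lit 0x104334f) (nat_lit 2051))
 (.node (nat_lit 0x1043353) (.leaf (nat_lit 0x1043351) (nat_lit 2819))
 (.leaf (nat_lit 0x1043353) (nat_lit 3075))
)) (.node (nat_lit 0x1043357) (.leaf (nat_lit 0x1043355) (nat_lit 2307))
 (.node (nat_lit 0x1043359) (.leaf (nat_lit 0x1043357) (nat_lit 2051))
 (.leaf (nat_lit 0x1043359) (nat_lit 2306))
))))) (.node (nat_lit 0x10433cf) (.node (nat_lit 0x10433c5) (.node (nat_lit 0x104335f) (.node (nat_lit 0x104335d) (.leaf (nat_lit 0x104335b) (nat_lit 2050))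
 (.leaf (nat_lit 0x104335d) (nat_lit 2306))
) (.node (nat_lit 0x10433c1) (.leaf (nat_lit 0x104335f) (nat_lit 2050))
 (.node (nat_lit 0x10433c3) (.leaf (nat_lit 0x10433c1) (nat_lit 1538))
 (.leaf (nat_lit 0x10433c3) (nat_lit 1794))
))) (.node (nat_lit 0x10433c9) (.node (nat_lit 0x10433c7) (.leaf (nat_lit 0x10433c5) (nat_lit 2562))
 (.leaf (nat_lit 0x10433c7) (nat_lit 2306))
) (.node (nat_lit 0x10433cb) (.leaf (nat_lit 0x10433c9) (nat_lit 2563))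
 (.node (nat_lit 0x10433cd) (.leaf (nat_lit 0x10433cb) (nat_lit 2307))
 (.leaf (nat_lit 0x10433cd) (nat_lit 2563))
)))) (.node (nat_lit 0x10433d9) (.node (nat_lit 0x10433d3) (.node (nat_lit 0x10433d1) (.leaf (nat_lit 0x10433cf) (nat_lit 2819))
 (.leaf (nat_lit 0x10433d1) (nat_lit 2563))
) (.node (nat_lit 0x10433d5) (.leaf (nat_lit 0x10433d3) (nat_lit 2307))
 (.node (nat_lit 0x10433d7) (.leaf (nat_lit 0x10433d5) (nat_lit 2563))
 (.leaf (nat_lit 0x10433d7) (nat_lit 2819))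
))) (.node (nat_lit 0x10433df) (.node (nat_lit 0x10433db) (.leaf (nat_lit 0x10433d9) (nat_lit 2562))
 (.node (nat_lit 0x10433dd) (.leaf (nat_lit 0x10433db) (nat_lit 2306))
 (.leaf (nat_lit 0x10433dd) (nat_lit 2050))
)) (.node (nat_lit 0x1043841) (.leaf (nat_lit 0x10433df) (nat_lit 1794))
 (.node (nat_lit 0x1043843) (.leaf (nat_lit 0x1043841) (nat_lit 517))
 (.leaf (nat_lit 0x1043843) (nat_lit 773))
)))))) (.node (nat_lit 0x104388f) (.node (nat_lit 0x1043859) (.node (nat_lit 0x104384f) (.node (nat_lit 0x1043849) (.node (nat_lit 0x1043847) (.leaf (nat_lit 0x1043845) (nat_lit 1282))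
 (.leaf (nat_lit 0x1043847) (nat_lit 1285))
) (.node (nat_lit 0x104384b) (.leaf (nat_lit 0x1043849) (nat_lit 2053))
 (.node (nat_lit 0x104384d) (.leaf (nat_lit 0x104384b) (nat_lit 2049))
 (.leaf (nat_lit 0x104384d) (nat_lit 1281))
))) (.node (nat_lit 0x1043853) (.node (nat_lit 0x1043851) (.leaf (nat_lit 0x104384f) (nat_lit 1285))
 (.leaf (nat_lit 0x1043851) (nat_lit 3077))
) (.node (nat_lit 0x1043855) (.leaf (nat_lit 0x1043853) (nat_lit 3075))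
 (.node (nat_lit 0x1043857) (.leaf (nat_lit 0x1043855) (nat_lit 2307))
 (.leaf (nat_lit 0x1043857) (nat_lit 2309))
)))) (.node (nat_lit 0x1043883) (.node (nat_lit 0x104385d) (.node (nat_lit 0x104385b) (.leaf (nat_lit 0x1043859) (nat_lit 3077))
 (.leaf (nat_lit 0x104385b) (nat_lit 2821))
) (.node (nat_lit 0x104385f) (.leaf (nat_lit 0x104385d) (nat_lit 2306))
 (.node (nat_lit 0x1043881) (.leaf (nat_lit 0x104385f) (nat_lit 2309))
 (.leaf (nat_lit 0x1043881) (nat_lit 770))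
))) (.node (nat_lit 0x1043889) (.node (nat_lit 0x1043885) (.leaf (nat_lit 0x1043883) (nat_lit 1026))
 (.node (nat_lit 0x1043887) (.leaf (nat_lit 0x1043885) (nat_lit 1026))
 (.leaf (nat_lit 0x1043887) (nat_lit 1282))
)) (.node (nat_lit 0x104388b) (.leaf (nat_lit 0x1043889) (nat_lit 1793))
 (.node (nat_lit 0x104388d) (.leaf (nat_lit 0x104388b) (nat_lit 1537))
 (.leaf (nat_lit 0x104388d) (nat_lit 2049))
))))) (.node (nat_lit 0x1043943) (.node (nat_lit 0x1043899) (.node (nat_lit 0x1043893) (.node (nat_lit 0x1043891) (.leaf (nat_lit 0x104388f) (nat_lit 1793))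
 (.leaf (nat_lit 0x1043891) (nat_lit 2819))
) (.node (nat_lit 0x1043895) (.leaf (nat_lit 0x1043893) (nat_lit 2563))
 (.node (nat_lit 0x1043897) (.leaf (nat_lit 0x1043895) (nat_lit 3075))
 (.leaf (nat_lit 0x1043897) (nat_lit 2819))
))) (.node (nat_lit 0x104389d) (.node (nat_lit 0x104389b) (.leaf (nat_lit 0x1043899) (nat_lit 2818))
 (.leaf (nat_lit 0x104389b) (nat_lit 2562))
) (.node (nat_lit 0x104389f) (.leaf (nat_lit 0x104389d) (nat_lit 2562))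
 (.node (nat_lit 0x1043941) (.leaf (nat_lit 0x104389f) (nat_lit 2562))
 (.leaf (nat_lit 0x1043941) (nat_lit 1025))
)))) (.node (nat_lit 0x104394d) (.node (nat_lit 0x1043947) (.node (nat_lit 0x1043945) (.leaf (nat_lit 0x1043943) (nat_lit 1281))
 (.leaf (nat_lit 0x1043945) (nat_lit 1281))
) (.node (nat_lit 0x1043949) (.leaf (nat_lit 0x1043947) (nat_lit 1537))
 (.node (nat_lit 0x104394b) (.leaf (nat_lit 0x1043949) (nat_lit 1536))
 (.leaf (nat_lit 0x104394b) (nat_lit 1280))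
))) (.node (nat_lit 0x1043953) (.node (nat_lit 0x104394f) (.leaf (nat_lit 0x104394d) (nat_lit 1797))
 (.node (nat_lit 0x1043951) (.leaf (nat_lit 0x104394f) (nat_lit 1541))
 (.leaf (nat_lit 0x1043951) (nat_lit 3075))
)) (.node (nat_lit 0x1043955) (.leaf (nat_lit 0x1043953) (nat_lit 2819))
 (.node (nat_lit 0x1043957) (.leaf (nat_lit 0x1043955) (nat_lit 3074))
 (.leaf (nat_lit 0x1043957) (nat_lit 3077))
))))))) (.node (nat_lit 0x1043a8d) (.node (nat_lit 0x1043a43) (.node (nat_lit 0x104398d) (.node (nat_lit 0x1043983) (.node (nat_lit 0x104395d) (.node (nat_lit 0x104395b) (.leaf (nat_lit 0x1043959) (nat_lit 3073))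
 (.leaf (nat_lit 0x104395b) (nat_lit 2817))
) (.node (nat_lit 0x104395f) (.leaf (nat_lit 0x104395d) (nat_lit 2819))
 (.node (nat_lit 0x1043981) (.leaf (nat_lit 0x104395f) (nat_lit 2817))
 (.leaf (nat_lit 0x1043981) (nat_lit 769))
))) (.node (nat_lit 0x1043987) (.node (nat_lit 0x1043985) (.leaf (nat_lit 0x1043983) (nat_lit 1025))
 (.leaf (nat_lit 0x1043985) (nat_lit 1537))
) (.node (nat_lit 0x1043989) (.leaf (nat_lit 0x1043987) (nat_lit 1537))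
 (.node (nat_lit 0x104398b) (.leaf (nat_lit 0x1043989) (nat_lit 1792))
 (.leaf (nat_lit 0x104398b) (nat_lit 1792))
)))) (.node (nat_lit 0x1043997) (.node (nat_lit 0x1043991) (.node (nat_lit 0x104398f) (.leaf (nat_lit 0x104398d) (nat_lit 1024))
 (.leaf (nat_lit 0x104398f) (nat_lit 1280))
) (.node (nat_lit 0x1043993) (.leaf (nat_lit 0x1043991) (nat_lit 2816))
 (.node (nat_lit 0x1043995) (.leaf (nat_lit 0x1043993) (nat_lit 2816))
 (.leaf (nat_lit 0x1043995) (nat_lit 2563))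
))) (.node (nat_lit 0x104399d) (.node (nat_lit 0x1043999) (.leaf (nat_lit 0x1043997) (nat_lit 2561))
 (.node (nat_lit 0x104399b) (.leaf (nat_lit 0x1043999) (nat_lit 2819))
 (.leaf (nat_lit 0x104399b) (nat_lit 2563))
)) (.node (nat_lit 0x104399f) (.leaf (nat_lit 0x104399d) (nat_lit 2561))
 (.node (nat_lit 0x1043a41) (.leaf (nat_lit 0x104399f) (nat_lit 2561))
 (.leaf (nat_lit 0x1043a41) (nat_lit 2053))
))))) (.node (nat_lit 0x1043a57) (.node (nat_lit 0x1043a4d) (.node (nat_lit 0x1043a47) (.node (nat_lit 0x1043a45) (.leaf (nat_lit 0x1043a43) (nat_lit 2309))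
 (.leaf (nat_lit 0x1043a45) (nat_lit 2307))
) (.node (nat_lit 0x1043a49) (.leaf (nat_lit 0x1043a47) (nat_lit 2309))
 (.node (nat_lit 0x1043a4b) (.leaf (nat_lit 0x1043a49) (nat_lit 2816))
 (.leaf (nat_lit 0x1043a4b) (nat_lit 2821))
))) (.node (nat_lit 0x1043a51) (.node (nat_lit 0x1043a4f) (.leaf (nat_lit 0x1043a4d) (nat_lit 2565))
 (.leaf (nat_lit 0x1043a4f) (nat_lit 2309))
) (.node (nat_lit 0x1043a53) (.leaf (nat_lit 0x1043a51) (nat_lit 2565))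
 (.node (nat_lit 0x1043a55) (.leaf (nat_lit 0x1043a53) (nat_lit 2309))
 (.leaf (nat_lit 0x1043a55) (nat_lit 2565))
)))) (.node (nat_lit 0x1043a81) (.node (nat_lit 0x1043a5b) (.node (nat_lit 0x1043a59) (.leaf (nat_lit 0x1043a57) (nat_lit 2563))
 (.leaf (nat_lit 0x1043a59) (nat_lit 2817))
) (.node (nat_lit 0x1043a5d) (.leaf (nat_lit 0x1043a5b) (nat_lit 2561))
 (.node (nat_lit 0x1043a5f) (.leaf (nat_lit 0x1043a5d) (nat_lit 2305))
 (.leaf (nat_lit 0x1043a5f) (nat_lit 2561))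
))) (.node (nat_lit 0x1043a87) (.node (nat_lit 0x1043a83) (.leaf (nat_lit 0x1043a81) (nat_lit 1795))
 (.node (nat_lit 0x1043a85) (.leaf (nat_lit 0x1043a83) (nat_lit 2051))
 (.leaf (nat_lit 0x1043a85) (nat_lit 2561))
)) (.node (nat_lit 0x1043a89) (.leaf (nat_lit 0x1043a87) (nat_lit 2305))
 (.node (nat_lit 0x1043a8b) (.leaf (nat_lit 0x1043a89) (nat_lit 2816))
 (.leaf (nat_lit 0x1043a8b) (nat_lit 2818))
)))))) (.node (nat_lit 0x1043b57) (.node (nat_lit 0x1043b41) (.node (nat_lit 0x1043a97) (.node (nat_lit 0x1043a91) (.node (nat_lit 0x1043a8f) (.leaf (nat_lit 0x1043a8d) (nat_lit 2561))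
 (.leaf (nat_lit 0x1043a8f) (nat_lit 2305))
) (.node (nat_lit 0x1043a93) (.leaf (nat_lit 0x1043a91) (nat_lit 2816))
 (.node (nat_lit 0x1043a95) (.leaf (nat_lit 0x1043a93) (nat_lit 2560))
 (.leaf (nat_lit 0x1043a95) (nat_lit 2051))
))) (.node (nat_lit 0x1043a9b) (.node (nat_lit 0x1043a99) (.leaf (nat_lit 0x1043a97) (nat_lit 2307))
 (.leaf (nat_lit 0x1043a99) (nat_lit 2561))
) (.node (nat_lit 0x1043a9d) (.leaf (nat_lit 0x1043a9b) (nat_lit 2305))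
 (.node (nat_lit 0x1043a9f) (.leaf (nat_lit 0x1043a9d) (nat_lit 2561))
 (.leaf (nat_lit 0x1043a9f) (nat_lit 2817))
)))) (.node (nat_lit 0x1043b4b) (.node (nat_lit 0x1043b45) (.node (nat_lit 0x1043b43) (.leaf (nat_lit 0x1043b41) (nat_lit 1797))
 (.leaf (nat_lit 0x1043b43) (nat_lit 2053))
) (.node (nat_lit 0x1043b47) (.leaf (nat_lit 0x1043b45) (nat_lit 2309))
 (.node (nat_lit 0x1043b49) (.leaf (nat_lit 0x1043b47) (nat_lit 2053))
 (.leaf (nat_lit 0x1043b49) (nat_lit 2821))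
))) (.node (nat_lit 0x1043b51) (.node (nat_lit 0x1043b4d) (.leaf (nat_lit 0x1043b4b) (nat_lit 3077))
 (.node (nat_lit 0x1043b4f) (.leaf (nat_lit 0x1043b4d) (nat_lit 2309))
 (.leaf (nat_lit 0x1043b4f) (nat_lit 2053))
)) (.node (nat_lit 0x1043b53) (.leaf (nat_lit 0x1043b51) (nat_lit 3073))
 (.node (nat_lit 0x1043b55) (.leaf (nat_lit 0x1043b53) (nat_lit 2817))
 (.leaf (nat_lit 0x1043b55) (nat_lit 2309))
))))) (.node (nat_lit 0x1043b8b) (.node (nat_lit 0x1043b81) (.node (nat_lit 0x1043b5b) (.node (nat_lit 0x1043b59) (.leaf (nat_lit 0x1043b57) (nat_lit 2565))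
 (.leaf (nat_lit 0x1043b59) (nat_lit 2309))
) (.node (nat_lit 0x1043b5d) (.leaf (nat_lit 0x1043b5b) (nat_lit 2053))
 (.node (nat_lit 0x1043b5f) (.leaf (nat_lit 0x1043b5d) (nat_lit 2309))
 (.leaf (nat_lit 0x1043b5f) (nat_lit 2565))
))) (.node (nat_lit 0x1043b85) (.node (nat_lit 0x1043b83) (.leaf (nat_lit 0x1043b81) (nat_lit 1794))
 (.leaf (nat_lit 0x1043b83) (nat_lit 2050))
) (.node (nat_lit 0x1043b87) (.leaf (nat_lit 0x1043b85) (nat_lit 2562))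
 (.node (nat_lit 0x1043b89) (.leaf (nat_lit 0x1043b87) (nat_lit 2306))
 (.leaf (nat_lit 0x1043b89) (nat_lit 2819))
)))) (.node (nat_lit 0x1043b95) (.node (nat_lit 0x1043b8f) (.node (nat_lit 0x1043b8d) (.leaf (nat_lit 0x1043b8b) (nat_lit 2563))
 (.leaf (nat_lit 0x1043b8d) (nat_lit 2817))
) (.node (nat_lit 0x1043b91) (.leaf (nat_lit 0x1043b8f) (nat_lit 2561))
 (.node (nat_lit 0x1043b93) (.leaf (nat_lit 0x1043b91) (nat_lit 2817))
 (.leaf (nat_lit 0x1043b93) (nat_lit 2561))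
))) (.node (nat_lit 0x1043b9b) (.node (nat_lit 0x1043b97) (.leaf (nat_lit 0x1043b95) (nat_lit 2817))
 (.node (nat_lit 0x1043b99) (.leaf (nat_lit 0x1043b97) (nat_lit 2819))
 (.leaf (nat_lit 0x1043b99) (nat_lit 2562))
)) (.node (nat_lit 0x1043b9d) (.leaf (nat_lit 0x1043b9b) (nat_lit 2306))
 (.node (nat_lit 0x1043b9f) (.leaf (nat_lit 0x1043b9d) (nat_lit 2050))
 (.leaf (nat_lit 0x1043b9f) (nat_lit 2306))
))))))))))))) (.node (nat_lit 0x1062041) (.node (nat_lit 0x1053241) (.node (nat_lit 0x1047941) (.node (nat_lit 0x1045a81) (.node (nat_lit 0x1045151) (.node (nat_lit 0x1044ac9) (.node (nat_lit 0x1044995) (.node (nat_lit 0x10448cb) (.node (nat_lit 0x1044895) (.node (nat_lit 0x104488b) (.node (nat_lit 0x1044885) (.node (nat_lit 0x1044883) (.leaf (nat_lit 0x1044881) (nat_lit 1794))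
 (.leaf (nat_lit 0x1044883) (nat_lit 2050))
) (.node (nat_lit 0x1044887) (.leaf (nat_lit 0x1044885) (nat_lit 2050))
 (.node (nat_lit 0x1044889) (.leaf (nat_lit 0x1044887) (nat_lit 2050))
 (.leaf (nat_lit 0x1044889) (nat_lit 2819))
))) (.node (nat_lit 0x104488f) (.node (nat_lit 0x104488d) (.leaf (nat_lit 0x104488b) (nat_lit 2563))
 (.leaf (nat_lit 0x104488d) (nat_lit 2563))
) (.node (nat_lit 0x1044891) (.leaf (nat_lit 0x104488f) (nat_lit 2307))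
 (.node (nat_lit 0x1044893) (.leaf (nat_lit 0x1044891) (nat_lit 2821))
 (.leaf (nat_lit 0x1044893) (nat_lit 2565))
)))) (.node (nat_lit 0x104489f) (.node (nat_lit 0x1044899) (.node (nat_lit 0x1044897) (.leaf (nat_lit 0x1044895) (nat_lit 2817))
 (.leaf (nat_lit 0x1044897) (nat_lit 2561))
) (.node (nat_lit 0x104489b) (.leaf (nat_lit 0x1044899) (nat_lit 2818))
 (.node (nat_lit 0x104489d) (.leaf (nat_lit 0x104489b) (nat_lit 2562))
 (.leaf (nat_lit 0x104489d) (nat_lit 2562))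
))) (.node (nat_lit 0x10448c5) (.node (nat_lit 0x10448c1) (.leaf (nat_lit 0x104489f) (nat_lit 2306))
 (.node (nat_lit 0x10448c3) (.leaf (nat_lit 0x10448c1) (nat_lit 1541))
 (.leaf (nat_lit 0x10448c3) (nat_lit 1797))
)) (.node (nat_lit 0x10448c7) (.leaf (nat_lit 0x10448c5) (nat_lit 2053))
 (.node (nat_lit 0x10448c9) (.leaf (nat_lit 0x10448c7) (nat_lit 1797))
 (.leaf (nat_lit 0x10448c9) (nat_lit 2565))
))))) (.node (nat_lit 0x10448df) (.node (nat_lit 0x10448d5) (.node (nat_lit 0x10448cf) (.node (nat_lit 0x10448cd) (.leaf (nat_lit 0x10448cb) (nat_lit 2309))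
 (.leaf (nat_lit 0x10448cd) (nat_lit 2307))
) (.node (nat_lit 0x10448d1) (.leaf (nat_lit 0x10448cf) (nat_lit 2563))
 (.node (nat_lit 0x10448d3) (.leaf (nat_lit 0x10448d1) (nat_lit 2565))
 (.leaf (nat_lit 0x10448d3) (nat_lit 2309))
))) (.node (nat_lit 0x10448d9) (.node (nat_lit 0x10448d7) (.leaf (nat_lit 0x10448d5) (nat_lit 2305))
 (.leaf (nat_lit 0x10448d7) (nat_lit 2561))
) (.node (nat_lit 0x10448db) (.leaf (nat_lit 0x10448d9) (nat_lit 2565))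
 (.node (nat_lit 0x10448dd) (.leaf (nat_lit 0x10448db) (nat_lit 2309))
 (.leaf (nat_lit 0x10448dd) (nat_lit 2306))
)))) (.node (nat_lit 0x1044989) (.node (nat_lit 0x1044983) (.node (nat_lit 0x1044981) (.leaf (nat_lit 0x10448df) (nat_lit 2562))
 (.leaf (nat_lit 0x1044981) (nat_lit 1795))
) (.node (nat_lit 0x1044985) (.leaf (nat_lit 0x1044983) (nat_lit 2051))
 (.node (nat_lit 0x1044987) (.leaf (nat_lit 0x1044985) (nat_lit 2307))
 (.leaf (nat_lit 0x1044987) (nat_lit 2051))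
))) (.node (nat_lit 0x104498f) (.node (nat_lit 0x104498b) (.leaf (nat_lit 0x1044989) (nat_lit 2563))
 (.node (nat_lit 0x104498d) (.leaf (nat_lit 0x104498b) (nat_lit 2307))
 (.leaf (nat_lit 0x104498d) (nat_lit 2051))
)) (.node (nat_lit 0x1044991) (.leaf (nat_lit 0x104498f) (nat_lit 2307))
 (.node (nat_lit 0x1044993) (.leaf (nat_lit 0x1044991) (nat_lit 2816))
 (.leaf (nat_lit 0x1044993) (nat_lit 2560))
)))))) (.node (nat_lit 0x10449df) (.node (nat_lit 0x10449c9) (.node (nat_lit 0x104499f) (.node (nat_lit 0x1044999) (.node (nat_lit 0x1044997) (.leaf (nat_lit 0x1044995) (nat_lit 2818))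
 (.leaf (nat_lit 0x1044997) (nat_lit 2562))
) (.node (nat_lit 0x104499b) (.leaf (nat_lit 0x1044999) (nat_lit 2819))
 (.node (nat_lit 0x104499d) (.leaf (nat_lit 0x104499b) (nat_lit 2817))
 (.leaf (nat_lit 0x104499d) (nat_lit 2561))
))) (.node (nat_lit 0x10449c3) (.node (nat_lit 0x10449c1) (.leaf (nat_lit 0x104499f) (nat_lit 2305))
 (.leaf (nat_lit 0x10449c1) (nat_lit 1797))
) (.node (nat_lit 0x10449c5) (.leaf (nat_lit 0x10449c3) (nat_lit 2053))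
 (.node (nat_lit 0x10449c7) (.leaf (nat_lit 0x10449c5) (nat_lit 2307))
 (.leaf (nat_lit 0x10449c7) (nat_lit 2305))
)))) (.node (nat_lit 0x10449d3) (.node (nat_lit 0x10449cd) (.node (nat_lit 0x10449cb) (.leaf (nat_lit 0x10449c9) (nat_lit 2560))
 (.leaf (nat_lit 0x10449cb) (nat_lit 2565))
) (.node (nat_lit 0x10449cf) (.leaf (nat_lit 0x10449cd) (nat_lit 2309))
 (.node (nat_lit 0x10449d1) (.leaf (nat_lit 0x10449cf) (nat_lit 2053))
 (.leaf (nat_lit 0x10449d1) (nat_lit 2821))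
))) (.node (nat_lit 0x10449d9) (.node (nat_lit 0x10449d5) (.leaf (nat_lit 0x10449d3) (nat_lit 2565))
 (.node (nat_lit 0x10449d7) (.leaf (nat_lit 0x10449d5) (nat_lit 2562))
 (.leaf (nat_lit 0x10449d7) (nat_lit 2818))
)) (.node (nat_lit 0x10449db) (.leaf (nat_lit 0x10449d9) (nat_lit 2817))
 (.node (nat_lit 0x10449dd) (.leaf (nat_lit 0x10449db) (nat_lit 2561))
 (.leaf (nat_lit 0x10449dd) (nat_lit 2305))
))))) (.node (nat_lit 0x1044a93) (.node (nat_lit 0x1044a89) (.node (nat_lit 0x1044a83) (.node (nat_lit 0x1044a81) (.leaf (nat_lit 0x10449df) (nat_lit 2561))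
 (.leaf (nat_lit 0x1044a81) (nat_lit 1793))
) (.node (nat_lit 0x1044a85) (.leaf (nat_lit 0x1044a83) (nat_lit 2049))
 (.node (nat_lit 0x1044a87) (.leaf (nat_lit 0x1044a85) (nat_lit 2305))
 (.leaf (nat_lit 0x1044a87) (nat_lit 2049))
))) (.node (nat_lit 0x1044a8d) (.node (nat_lit 0x1044a8b) (.leaf (nat_lit 0x1044a89) (nat_lit 2817))
 (.leaf (nat_lit 0x1044a8b) (nat_lit 2561))
) (.node (nat_lit 0x1044a8f) (.leaf (nat_lit 0x1044a8d) (nat_lit 2562))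
 (.node (nat_lit 0x1044a91) (.leaf (nat_lit 0x1044a8f) (nat_lit 2306))
 (.leaf (nat_lit 0x1044a91) (nat_lit 2560))
)))) (.node (nat_lit 0x1044a9d) (.node (nat_lit 0x1044a97) (.node (nat_lit 0x1044a95) (.leaf (nat_lit 0x1044a93) (nat_lit 2304))
 (.leaf (nat_lit 0x1044a95) (nat_lit 2048))
) (.node (nat_lit 0x1044a99) (.leaf (nat_lit 0x1044a97) (nat_lit 2304))
 (.node (nat_lit 0x1044a9b) (.leaf (nat_lit 0x1044a99) (nat_lit 2817))
 (.leaf (nat_lit 0x1044a9b) (nat_lit 2561))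
))) (.node (nat_lit 0x1044ac3) (.node (nat_lit 0x1044a9f) (.leaf (nat_lit 0x1044a9d) (nat_lit 2561))
 (.node (nat_lit 0x1044ac1) (.leaf (nat_lit 0x1044a9f) (nat_lit 2817))
 (.leaf (nat_lit 0x1044ac1) (nat_lit 2049))
)) (.node (nat_lit 0x1044ac5) (.leaf (nat_lit 0x1044ac3) (nat_lit 2305))
 (.node (nat_lit 0x1044ac7) (.leaf (nat_lit 0x1044ac5) (nat_lit 2305))
 (.leaf (nat_lit 0x1044ac7) (nat_lit 2305))
))))))) (.node (nat_lit 0x1044bdd) (.node (nat_lit 0x1044b93) (.node (nat_lit 0x1044add) (.node (nat_lit 0x1044ad3) (.node (nat_lit 0x1044acd) (.node (nat_lit 0x1044acb) (.leaf (nat_lit 0x1044ac9) (nat_lit 2816))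
 (.leaf (nat_lit 0x1044acb) (nat_lit 2821))
) (.node (nat_lit 0x1044acf) (.leaf (nat_lit 0x1044acd) (nat_lit 2562))
 (.node (nat_lit 0x1044ad1) (.leaf (nat_lit 0x1044acf) (nat_lit 2563))
 (.leaf (nat_lit 0x1044ad1) (nat_lit 2560))
))) (.node (nat_lit 0x1044ad7) (.node (nat_lit 0x1044ad5) (.leaf (nat_lit 0x1044ad3) (nat_lit 2560))
 (.leaf (nat_lit 0x1044ad5) (nat_lit 2560))
) (.node (nat_lit 0x1044ad9) (.leaf (nat_lit 0x1044ad7) (nat_lit 2304))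
 (.node (nat_lit 0x1044adb) (.leaf (nat_lit 0x1044ad9) (nat_lit 2819))
 (.leaf (nat_lit 0x1044adb) (nat_lit 2821))
)))) (.node (nat_lit 0x1044b87) (.node (nat_lit 0x1044b81) (.node (nat_lit 0x1044adf) (.leaf (nat_lit 0x1044add) (nat_lit 2817))
 (.leaf (nat_lit 0x1044adf) (nat_lit 2561))
) (.node (nat_lit 0x1044b83) (.leaf (nat_lit 0x1044b81) (nat_lit 1794))
 (.node (nat_lit 0x1044b85) (.leaf (nat_lit 0x1044b83) (nat_lit 2050))
 (.leaf (nat_lit 0x1044b85) (nat_lit 2306))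
))) (.node (nat_lit 0x1044b8d) (.node (nat_lit 0x1044b89) (.leaf (nat_lit 0x1044b87) (nat_lit 2050))
 (.node (nat_lit 0x1044b8b) (.leaf (nat_lit 0x1044b89) (nat_lit 2817))
 (.leaf (nat_lit 0x1044b8b) (nat_lit 2817))
)) (.node (nat_lit 0x1044b8f) (.leaf (nat_lit 0x1044b8d) (nat_lit 2561))
 (.node (nat_lit 0x1044b91) (.leaf (nat_lit 0x1044b8f) (nat_lit 2305))
 (.leaf (nat_lit 0x1044b91) (nat_lit 2816))
))))) (.node (nat_lit 0x1044bc7) (.node (nat_lit 0x1044b9d) (.node (nat_lit 0x1044b97) (.node (nat_lit 0x1044b95) (.leaf (nat_lit 0x1044b93) (nat_lit 2560))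
 (.leaf (nat_lit 0x1044b95) (nat_lit 2817))
) (.node (nat_lit 0x1044b99) (.leaf (nat_lit 0x1044b97) (nat_lit 3073))
 (.node (nat_lit 0x1044b9b) (.leaf (nat_lit 0x1044b99) (nat_lit 2562))
 (.leaf (nat_lit 0x1044b9b) (nat_lit 2306))
))) (.node (nat_lit 0x1044bc1) (.node (nat_lit 0x1044b9f) (.leaf (nat_lit 0x1044b9d) (nat_lit 2050))
 (.leaf (nat_lit 0x1044b9f) (nat_lit 2306))
) (.node (nat_lit 0x1044bc3) (.leaf (nat_lit 0x1044bc1) (nat_lit 1797))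
 (.node (nat_lit 0x1044bc5) (.leaf (nat_lit 0x1044bc3) (nat_lit 2053))
 (.leaf (nat_lit 0x1044bc5) (nat_lit 2306))
)))) (.node (nat_lit 0x1044bd1) (.node (nat_lit 0x1044bcb) (.node (nat_lit 0x1044bc9) (.leaf (nat_lit 0x1044bc7) (nat_lit 2307))
 (.leaf (nat_lit 0x1044bc9) (nat_lit 2819))
) (.node (nat_lit 0x1044bcd) (.leaf (nat_lit 0x1044bcb) (nat_lit 2563))
 (.node (nat_lit 0x1044bcf) (.leaf (nat_lit 0x1044bcd) (nat_lit 2307))
 (.leaf (nat_lit 0x1044bcf) (nat_lit 2563))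
))) (.node (nat_lit 0x1044bd7) (.node (nat_lit 0x1044bd3) (.leaf (nat_lit 0x1044bd1) (nat_lit 2821))
 (.node (nat_lit 0x1044bd5) (.leaf (nat_lit 0x1044bd3) (nat_lit 2565))
 (.leaf (nat_lit 0x1044bd5) (nat_lit 2821))
)) (.node (nat_lit 0x1044bd9) (.leaf (nat_lit 0x1044bd7) (nat_lit 2817))
 (.node (nat_lit 0x1044bdb) (.leaf (nat_lit 0x1044bd9) (nat_lit 2563))
 (.leaf (nat_lit 0x1044bdb) (nat_lit 2565))
)))))) (.node (nat_lit 0x10450c7) (.node (nat_lit 0x1045051) (.node (nat_lit 0x1045047) (.node (nat_lit 0x1045041) (.node (nat_lit 0x1044bdf) (.leaf (nat_lit 0x1044bdd) (nat_lit 2309))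
 (.leaf (nat_lit 0x1044bdf) (nat_lit 2053))
) (.node (nat_lit 0x1045043) (.leaf (nat_lit 0x1045041) (nat_lit 1027))
 (.node (nat_lit 0x1045045) (.leaf (nat_lit 0x1045043) (nat_lit 1283))
 (.leaf (nat_lit 0x1045045) (nat_lit 2051))
))) (.node (nat_lit 0x104504b) (.node (nat_lit 0x1045049) (.leaf (nat_lit 0x1045047) (nat_lit 1795))
 (.leaf (nat_lit 0x1045049) (nat_lit 2308))
) (.node (nat_lit 0x104504d) (.leaf (nat_lit 0x104504b) (nat_lit 2052))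
 (.node (nat_lit 0x104504f) (.leaf (nat_lit 0x104504d) (nat_lit 2051))
 (.leaf (nat_lit 0x104504f) (nat_lit 1795))
)))) (.node (nat_lit 0x104505b) (.node (nat_lit 0x1045055) (.node (nat_lit 0x1045053) (.leaf (nat_lit 0x1045051) (nat_lit 2563))
 (.leaf (nat_lit 0x1045053) (nat_lit 2819))
) (.node (nat_lit 0x1045057) (.leaf (nat_lit 0x1045055) (nat_lit 2051))
 (.node (nat_lit 0x1045059) (.leaf (nat_lit 0x1045057) (nat_lit 1795))
 (.leaf (nat_lit 0x1045059) (nat_lit 2562))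
))) (.node (nat_lit 0x10450c1) (.node (nat_lit 0x104505d) (.leaf (nat_lit 0x104505b) (nat_lit 2564))
 (.node (nat_lit 0x104505f) (.leaf (nat_lit 0x104505d) (nat_lit 2050))
 (.leaf (nat_lit 0x104505f) (nat_lit 1794))
)) (.node (nat_lit 0x10450c3) (.leaf (nat_lit 0x10450c1) (nat_lit 1283))
 (.node (nat_lit 0x10450c5) (.leaf (nat_lit 0x10450c3) (nat_lit 1539))
 (.leaf (nat_lit 0x10450c5) (nat_lit 1795))
))))) (.node (nat_lit 0x10450db) (.node (nat_lit 0x10450d1) (.node (nat_lit 0x10450cb) (.node (nat_lit 0x10450c9) (.leaf (nat_lit 0x10450c7) (nat_lit 1539))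
 (.leaf (nat_lit 0x10450c9) (nat_lit 2307))
) (.node (nat_lit 0x10450cd) (.leaf (nat_lit 0x10450cb) (nat_lit 2051))
 (.node (nat_lit 0x10450cf) (.leaf (nat_lit 0x10450cd) (nat_lit 2307))
 (.leaf (nat_lit 0x10450cf) (nat_lit 2308))
))) (.node (nat_lit 0x10450d5) (.node (nat_lit 0x10450d3) (.leaf (nat_lit 0x10450d1) (nat_lit 2307))
 (.leaf (nat_lit 0x10450d3) (nat_lit 2051))
) (.node (nat_lit 0x10450d7) (.leaf (nat_lit 0x10450d5) (nat_lit 2307))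
 (.node (nat_lit 0x10450d9) (.leaf (nat_lit 0x10450d7) (nat_lit 2563))
 (.leaf (nat_lit 0x10450d9) (nat_lit 2306))
)))) (.node (nat_lit 0x1045145) (.node (nat_lit 0x10450df) (.node (nat_lit 0x10450dd) (.leaf (nat_lit 0x10450db) (nat_lit 2050))
 (.leaf (nat_lit 0x10450dd) (nat_lit 2306))
) (.node (nat_lit 0x1045141) (.leaf (nat_lit 0x10450df) (nat_lit 2562))
 (.node (nat_lit 0x1045143) (.leaf (nat_lit 0x1045141) (nat_lit 1539))
 (.leaf (nat_lit 0x1045143) (nat_lit 1795))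
))) (.node (nat_lit 0x104514b) (.node (nat_lit 0x1045147) (.leaf (nat_lit 0x1045145) (nat_lit 2051))
 (.node (nat_lit 0x1045149) (.leaf (nat_lit 0x1045147) (nat_lit 1795))
 (.leaf (nat_lit 0x1045149) (nat_lit 2051))
)) (.node (nat_lit 0x104514d) (.leaf (nat_lit 0x104514b) (nat_lit 1795))
 (.node (nat_lit 0x104514f) (.leaf (nat_lit 0x104514d) (nat_lit 2051))
 (.leaf (nat_lit 0x104514f) (nat_lit 2307))
)))))))) (.node (nat_lit 0x10453d9) (.node (nat_lit 0x10452c5) (.node (nat_lit 0x10451db) (.node (nat_lit 0x10451c5) (.node (nat_lit 0x104515b) (.node (nat_lit 0x1045155) (.node (nat_lit 0x1045153) (.leaf (nat_lit 0x1045151) (nat_lit 3072))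
 (.leaf (nat_lit 0x1045153) (nat_lit 2816))
) (.node (nat_lit 0x1045157) (.leaf (nat_lit 0x1045155) (nat_lit 2048))
 (.node (nat_lit 0x1045159) (.leaf (nat_lit 0x1045157) (nat_lit 2304))
 (.leaf (nat_lit 0x1045159) (nat_lit 2561))
))) (.node (nat_lit 0x104515f) (.node (nat_lit 0x104515d) (.leaf (nat_lit 0x104515b) (nat_lit 2817))
 (.leaf (nat_lit 0x104515d) (nat_lit 2049))
) (.node (nat_lit 0x10451c1) (.leaf (nat_lit 0x104515f) (nat_lit 1793))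
 (.node (nat_lit 0x10451c3) (.leaf (nat_lit 0x10451c1) (nat_lit 1283))
 (.leaf (nat_lit 0x10451c3) (nat_lit 1539))
)))) (.node (nat_lit 0x10451cf) (.node (nat_lit 0x10451c9) (.node (nat_lit 0x10451c7) (.leaf (nat_lit 0x10451c5) (nat_lit 2307))
 (.leaf (nat_lit 0x10451c7) (nat_lit 2051))
) (.node (nat_lit 0x10451cb) (.leaf (nat_lit 0x10451c9) (nat_lit 2307))
 (.node (nat_lit 0x10451cd) (.leaf (nat_lit 0x10451cb) (nat_lit 2563))
 (.leaf (nat_lit 0x10451cd) (nat_lit 1795))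
))) (.node (nat_lit 0x10451d5) (.node (nat_lit 0x10451d1) (.leaf (nat_lit 0x10451cf) (nat_lit 1539))
 (.node (nat_lit 0x10451d3) (.leaf (nat_lit 0x10451d1) (nat_lit 2816))
 (.leaf (nat_lit 0x10451d3) (nat_lit 2560))
)) (.node (nat_lit 0x10451d7) (.leaf (nat_lit 0x10451d5) (nat_lit 2304))
 (.node (nat_lit 0x10451d9) (.leaf (nat_lit 0x10451d7) (nat_lit 2560))
 (.leaf (nat_lit 0x10451d9) (nat_lit 2305))
))))) (.node (nat_lit 0x104524f) (.node (nat_lit 0x1045245) (.node (nat_lit 0x10451df) (.node (nat_lit 0x10451dd) (.leaf (nat_lit 0x10451db) (nat_lit 2049))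
 (.leaf (nat_lit 0x10451dd) (nat_lit 2305))
) (.node (nat_lit 0x1045241) (.leaf (nat_lit 0x10451df) (nat_lit 2561))
 (.node (nat_lit 0x1045243) (.leaf (nat_lit 0x1045241) (nat_lit 1539))
 (.leaf (nat_lit 0x1045243) (nat_lit 1795))
))) (.node (nat_lit 0x1045249) (.node (nat_lit 0x1045247) (.leaf (nat_lit 0x1045245) (nat_lit 2051))
 (.leaf (nat_lit 0x1045247) (nat_lit 1795))
) (.node (nat_lit 0x104524b) (.leaf (nat_lit 0x1045249) (nat_lit 2563))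
 (.node (nat_lit 0x104524d) (.leaf (nat_lit 0x104524b) (nat_lit 2307))
 (.leaf (nat_lit 0x104524d) (nat_lit 2562))
)))) (.node (nat_lit 0x1045259) (.node (nat_lit 0x1045253) (.node (nat_lit 0x1045251) (.leaf (nat_lit 0x104524f) (nat_lit 2306))
 (.leaf (nat_lit 0x1045251) (nat_lit 2051))
) (.node (nat_lit 0x1045255) (.leaf (nat_lit 0x1045253) (nat_lit 1795))
 (.node (nat_lit 0x1045257) (.leaf (nat_lit 0x1045255) (nat_lit 2051))
 (.leaf (nat_lit 0x1045257) (nat_lit 2307))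
))) (.node (nat_lit 0x104525f) (.node (nat_lit 0x104525b) (.leaf (nat_lit 0x1045259) (nat_lit 2561))
 (.node (nat_lit 0x104525d) (.leaf (nat_lit 0x104525b) (nat_lit 2305))
 (.leaf (nat_lit 0x104525d) (nat_lit 2561))
)) (.node (nat_lit 0x10452c1) (.leaf (nat_lit 0x104525f) (nat_lit 2817))
 (.node (nat_lit 0x10452c3) (.leaf (nat_lit 0x10452c1) (nat_lit 1283))
 (.leaf (nat_lit 0x10452c3) (nat_lit 1539))
)))))) (.node (nat_lit 0x104534f) (.node (nat_lit 0x10452d9) (.node (nat_lit 0x10452cf) (.node (nat_lit 0x10452c9) (.node (nat_lit 0x10452c7) (.leaf (nat_lit 0x10452c5) (nat_lit 2307))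
 (.leaf (nat_lit 0x10452c7) (nat_lit 2051))
) (.node (nat_lit 0x10452cb) (.leaf (nat_lit 0x10452c9) (nat_lit 2304))
 (.node (nat_lit 0x10452cd) (.leaf (nat_lit 0x10452cb) (nat_lit 2308))
 (.leaf (nat_lit 0x10452cd) (nat_lit 2307))
))) (.node (nat_lit 0x10452d3) (.node (nat_lit 0x10452d1) (.leaf (nat_lit 0x10452cf) (nat_lit 2051))
 (.leaf (nat_lit 0x10452d1) (nat_lit 2307))
) (.node (nat_lit 0x10452d5) (.leaf (nat_lit 0x10452d3) (nat_lit 2563))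
 (.node (nat_lit 0x10452d7) (.leaf (nat_lit 0x10452d5) (nat_lit 1795))
 (.leaf (nat_lit 0x10452d7) (nat_lit 1539))
)))) (.node (nat_lit 0x1045343) (.node (nat_lit 0x10452dd) (.node (nat_lit 0x10452db) (.leaf (nat_lit 0x10452d9) (nat_lit 2307))
 (.leaf (nat_lit 0x10452db) (nat_lit 2563))
) (.node (nat_lit 0x10452df) (.leaf (nat_lit 0x10452dd) (nat_lit 2305))
 (.node (nat_lit 0x1045341) (.leaf (nat_lit 0x10452df) (nat_lit 2049))
 (.leaf (nat_lit 0x1045341) (nat_lit 1538))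
))) (.node (nat_lit 0x1045349) (.node (nat_lit 0x1045345) (.leaf (nat_lit 0x1045343) (nat_lit 1794))
 (.node (nat_lit 0x1045347) (.leaf (nat_lit 0x1045345) (nat_lit 2050))
 (.leaf (nat_lit 0x1045347) (nat_lit 1794))
)) (.node (nat_lit 0x104534b) (.leaf (nat_lit 0x1045349) (nat_lit 2563))
 (.node (nat_lit 0x104534d) (.leaf (nat_lit 0x104534b) (nat_lit 2819))
 (.leaf (nat_lit 0x104534d) (nat_lit 2051))
))))) (.node (nat_lit 0x10453c3) (.node (nat_lit 0x1045359) (.node (nat_lit 0x1045353) (.node (nat_lit 0x1045351) (.leaf (nat_lit 0x104534f) (nat_lit 1795))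
 (.leaf (nat_lit 0x1045351) (nat_lit 3075))
) (.node (nat_lit 0x1045355) (.leaf (nat_lit 0x1045353) (nat_lit 2819))
 (.node (nat_lit 0x1045357) (.leaf (nat_lit 0x1045355) (nat_lit 2051))
 (.leaf (nat_lit 0x1045357) (nat_lit 2307))
))) (.node (nat_lit 0x104535d) (.node (nat_lit 0x104535b) (.leaf (nat_lit 0x1045359) (nat_lit 2050))
 (.leaf (nat_lit 0x104535b) (nat_lit 1794))
) (.node (nat_lit 0x104535f) (.leaf (nat_lit 0x104535d) (nat_lit 2050))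
 (.node (nat_lit 0x10453c1) (.leaf (nat_lit 0x104535f) (nat_lit 2306))
 (.leaf (nat_lit 0x10453c1) (nat_lit 1282))
)))) (.node (nat_lit 0x10453cd) (.node (nat_lit 0x10453c7) (.node (nat_lit 0x10453c5) (.leaf (nat_lit 0x10453c3) (nat_lit 1538))
 (.leaf (nat_lit 0x10453c5) (nat_lit 2306))
) (.node (nat_lit 0x10453c9) (.leaf (nat_lit 0x10453c7) (nat_lit 2050))
 (.node (nat_lit 0x10453cb) (.leaf (nat_lit 0x10453c9) (nat_lit 2307))
 (.leaf (nat_lit 0x10453cb) (nat_lit 2051))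
))) (.node (nat_lit 0x10453d3) (.node (nat_lit 0x10453cf) (.leaf (nat_lit 0x10453cd) (nat_lit 2307))
 (.node (nat_lit 0x10453d1) (.leaf (nat_lit 0x10453cf) (nat_lit 2563))
 (.leaf (nat_lit 0x10453d1) (nat_lit 2819))
)) (.node (nat_lit 0x10453d5) (.leaf (nat_lit 0x10453d3) (nat_lit 2563))
 (.node (nat_lit 0x10453d7) (.leaf (nat_lit 0x10453d5) (nat_lit 2307))
 (.leaf (nat_lit 0x10453d7) (nat_lit 2563))
))))))) (.node (nat_lit 0x104594d) (.node (nat_lit 0x1045883) (.node (nat_lit 0x104584d) (.node (nat_lit 0x1045843) (.node (nat_lit 0x10453dd) (.node (nat_lit 0x10453db) (.leaf (nat_lit 0x10453d9) (nat_lit 2306))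
 (.leaf (nat_lit 0x10453db) (nat_lit 2562))
) (.node (nat_lit 0x10453df) (.leaf (nat_lit 0x10453dd) (nat_lit 1794))
 (.node (nat_lit 0x1045841) (.leaf (nat_lit 0x10453df) (nat_lit 1538))
 (.leaf (nat_lit 0x1045841) (nat_lit 1285))
))) (.node (nat_lit 0x1045847) (.node (nat_lit 0x1045845) (.leaf (nat_lit 0x1045843) (nat_lit 1541))
 (.leaf (nat_lit 0x1045845) (nat_lit 2050))
) (.node (nat_lit 0x1045849) (.leaf (nat_lit 0x1045847) (nat_lit 2053))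
 (.node (nat_lit 0x104584b) (.leaf (nat_lit 0x1045849) (nat_lit 2565))
 (.leaf (nat_lit 0x104584b) (nat_lit 2309))
)))) (.node (nat_lit 0x1045857) (.node (nat_lit 0x1045851) (.node (nat_lit 0x104584f) (.leaf (nat_lit 0x104584d) (nat_lit 2051))
 (.leaf (nat_lit 0x104584f) (nat_lit 2053))
) (.node (nat_lit 0x1045853) (.leaf (nat_lit 0x1045851) (nat_lit 2821))
 (.node (nat_lit 0x1045855) (.leaf (nat_lit 0x1045853) (nat_lit 2817))
 (.leaf (nat_lit 0x1045855) (nat_lit 2049))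
))) (.node (nat_lit 0x104585d) (.node (nat_lit 0x1045859) (.leaf (nat_lit 0x1045857) (nat_lit 2053))
 (.node (nat_lit 0x104585b) (.leaf (nat_lit 0x1045859) (nat_lit 2821))
 (.leaf (nat_lit 0x104585b) (nat_lit 2818))
)) (.node (nat_lit 0x104585f) (.leaf (nat_lit 0x104585d) (nat_lit 2050))
 (.node (nat_lit 0x1045881) (.leaf (nat_lit 0x104585f) (nat_lit 2053))
 (.leaf (nat_lit 0x1045881) (nat_lit 1538))
))))) (.node (nat_lit 0x1045897) (.node (nat_lit 0x104588d) (.node (nat_lit 0x1045887) (.node (nat_lit 0x1045885) (.leaf (nat_lit 0x1045883) (nat_lit 1794))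
 (.leaf (nat_lit 0x1045885) (nat_lit 1794))
) (.node (nat_lit 0x1045889) (.leaf (nat_lit 0x1045887) (nat_lit 2050))
 (.node (nat_lit 0x104588b) (.leaf (nat_lit 0x1045889) (nat_lit 2563))
 (.leaf (nat_lit 0x104588b) (nat_lit 2307))
))) (.node (nat_lit 0x1045891) (.node (nat_lit 0x104588f) (.leaf (nat_lit 0x104588d) (nat_lit 2564))
 (.leaf (nat_lit 0x104588f) (nat_lit 2563))
) (.node (nat_lit 0x1045893) (.leaf (nat_lit 0x1045891) (nat_lit 2561))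
 (.node (nat_lit 0x1045895) (.leaf (nat_lit 0x1045893) (nat_lit 2305))
 (.leaf (nat_lit 0x1045895) (nat_lit 2817))
)))) (.node (nat_lit 0x1045941) (.node (nat_lit 0x104589b) (.node (nat_lit 0x1045899) (.leaf (nat_lit 0x1045897) (nat_lit 2561))
 (.leaf (nat_lit 0x1045899) (nat_lit 2562))
) (.node (nat_lit 0x104589d) (.leaf (nat_lit 0x104589b) (nat_lit 2306))
 (.node (nat_lit 0x104589f) (.leaf (nat_lit 0x104589d) (nat_lit 2818))
 (.leaf (nat_lit 0x104589f) (nat_lit 2562))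
))) (.node (nat_lit 0x1045947) (.node (nat_lit 0x1045943) (.leaf (nat_lit 0x1045941) (nat_lit 1793))
 (.node (nat_lit 0x1045945) (.leaf (nat_lit 0x1045943) (nat_lit 2049))
 (.leaf (nat_lit 0x1045945) (nat_lit 2051))
)) (.node (nat_lit 0x1045949) (.leaf (nat_lit 0x1045947) (nat_lit 2307))
 (.node (nat_lit 0x104594b) (.leaf (nat_lit 0x1045949) (nat_lit 2304))
 (.leaf (nat_lit 0x104594b) (nat_lit 2048))
)))))) (.node (nat_lit 0x1045997) (.node (nat_lit 0x1045981) (.node (nat_lit 0x1045957) (.node (nat_lit 0x1045951) (.node (nat_lit 0x104594f) (.leaf (nat_lit 0x104594d) (nat_lit 2565))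
 (.leaf (nat_lit 0x104594f) (nat_lit 2309))
) (.node (nat_lit 0x1045953) (.leaf (nat_lit 0x1045951) (nat_lit 3077))
 (.node (nat_lit 0x1045955) (.leaf (nat_lit 0x1045953) (nat_lit 3074))
 (.leaf (nat_lit 0x1045955) (nat_lit 2565))
))) (.node (nat_lit 0x104595b) (.node (nat_lit 0x1045959) (.leaf (nat_lit 0x1045957) (nat_lit 2309))
 (.leaf (nat_lit 0x1045959) (nat_lit 2817))
) (.node (nat_lit 0x104595d) (.leaf (nat_lit 0x104595b) (nat_lit 2817))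
 (.node (nat_lit 0x104595f) (.leaf (nat_lit 0x104595d) (nat_lit 2049))
 (.leaf (nat_lit 0x104595f) (nat_lit 2305))
)))) (.node (nat_lit 0x104598b) (.node (nat_lit 0x1045985) (.node (nat_lit 0x1045983) (.leaf (nat_lit 0x1045981) (nat_lit 1539))
 (.leaf (nat_lit 0x1045983) (nat_lit 1795))
) (.node (nat_lit 0x1045987) (.leaf (nat_lit 0x1045985) (nat_lit 2305))
 (.node (nat_lit 0x1045989) (.leaf (nat_lit 0x1045987) (nat_lit 2307))
 (.leaf (nat_lit 0x1045989) (nat_lit 2560))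
))) (.node (nat_lit 0x1045991) (.node (nat_lit 0x104598d) (.leaf (nat_lit 0x104598b) (nat_lit 2563))
 (.node (nat_lit 0x104598f) (.leaf (nat_lit 0x104598d) (nat_lit 1795))
 (.leaf (nat_lit 0x104598f) (nat_lit 2051))
)) (.node (nat_lit 0x1045993) (.leaf (nat_lit 0x1045991) (nat_lit 3074))
 (.node (nat_lit 0x1045995) (.leaf (nat_lit 0x1045993) (nat_lit 2818))
 (.leaf (nat_lit 0x1045995) (nat_lit 2817))
))))) (.node (nat_lit 0x1045a4b) (.node (nat_lit 0x1045a41) (.node (nat_lit 0x104599b) (.node (nat_lit 0x1045999) (.leaf (nat_lit 0x1045997) (nat_lit 2561))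
 (.leaf (nat_lit 0x1045999) (nat_lit 2563))
) (.node (nat_lit 0x104599d) (.leaf (nat_lit 0x104599b) (nat_lit 2307))
 (.node (nat_lit 0x104599f) (.leaf (nat_lit 0x104599d) (nat_lit 2817))
 (.leaf (nat_lit 0x104599f) (nat_lit 2561))
))) (.node (nat_lit 0x1045a45) (.node (nat_lit 0x1045a43) (.leaf (nat_lit 0x1045a41) (nat_lit 1793))
 (.leaf (nat_lit 0x1045a43) (nat_lit 2049))
) (.node (nat_lit 0x1045a47) (.leaf (nat_lit 0x1045a45) (nat_lit 2049))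
 (.node (nat_lit 0x1045a49) (.leaf (nat_lit 0x1045a47) (nat_lit 2305))
 (.leaf (nat_lit 0x1045a49) (nat_lit 2819))
)))) (.node (nat_lit 0x1045a55) (.node (nat_lit 0x1045a4f) (.node (nat_lit 0x1045a4d) (.leaf (nat_lit 0x1045a4b) (nat_lit 2563))
 (.leaf (nat_lit 0x1045a4d) (nat_lit 2562))
) (.node (nat_lit 0x1045a51) (.leaf (nat_lit 0x1045a4f) (nat_lit 2565))
 (.node (nat_lit 0x1045a53) (.leaf (nat_lit 0x1045a51) (nat_lit 2304))
 (.leaf (nat_lit 0x1045a53) (nat_lit 2048))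
))) (.node (nat_lit 0x1045a5b) (.node (nat_lit 0x1045a57) (.leaf (nat_lit 0x1045a55) (nat_lit 2560))
 (.node (nat_lit 0x1045a59) (.leaf (nat_lit 0x1045a57) (nat_lit 2304))
 (.leaf (nat_lit 0x1045a59) (nat_lit 2817))
)) (.node (nat_lit 0x1045a5d) (.leaf (nat_lit 0x1045a5b) (nat_lit 2561))
 (.node (nat_lit 0x1045a5f) (.leaf (nat_lit 0x1045a5d) (nat_lit 2821))
 (.leaf (nat_lit 0x1045a5f) (nat_lit 2565))
))))))))) (.node (nat_lit 0x1046bd1) (.node (nat_lit 0x1046989) (.node (nat_lit 0x1045b95) (.node (nat_lit 0x1045b4b) (.node (nat_lit 0x1045a95) (.node (nat_lit 0x1045a8b) (.node (nat_lit 0x1045a85) (.node (nat_lit 0x1045a83) (.leaf (nat_lit 0x1045a81) (nat_lit 1537))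
 (.leaf (nat_lit 0x1045a83) (nat_lit 1793))
) (.node (nat_lit 0x1045a87) (.leaf (nat_lit 0x1045a85) (nat_lit 2305))
 (.node (nat_lit 0x1045a89) (.leaf (nat_lit 0x1045a87) (nat_lit 2305))
 (.leaf (nat_lit 0x1045a89) (nat_lit 2560))
))) (.node (nat_lit 0x1045a8f) (.node (nat_lit 0x1045a8d) (.leaf (nat_lit 0x1045a8b) (nat_lit 2562))
 (.leaf (nat_lit 0x1045a8d) (nat_lit 2307))
) (.node (nat_lit 0x1045a91) (.leaf (nat_lit 0x1045a8f) (nat_lit 2305))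
 (.node (nat_lit 0x1045a93) (.leaf (nat_lit 0x1045a91) (nat_lit 2560))
 (.leaf (nat_lit 0x1045a93) (nat_lit 2560))
)))) (.node (nat_lit 0x1045a9f) (.node (nat_lit 0x1045a99) (.node (nat_lit 0x1045a97) (.leaf (nat_lit 0x1045a95) (nat_lit 1792))
 (.leaf (nat_lit 0x1045a97) (nat_lit 2048))
) (.node (nat_lit 0x1045a9b) (.leaf (nat_lit 0x1045a99) (nat_lit 2563))
 (.node (nat_lit 0x1045a9d) (.leaf (nat_lit 0x1045a9b) (nat_lit 2560))
 (.leaf (nat_lit 0x1045a9d) (nat_lit 2305))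
))) (.node (nat_lit 0x1045b45) (.node (nat_lit 0x1045b41) (.leaf (nat_lit 0x1045a9f) (nat_lit 2305))
 (.node (nat_lit 0x1045b43) (.leaf (nat_lit 0x1045b41) (nat_lit 1795))
 (.leaf (nat_lit 0x1045b43) (nat_lit 2051))
)) (.node (nat_lit 0x1045b47) (.leaf (nat_lit 0x1045b45) (nat_lit 2050))
 (.node (nat_lit 0x1045b49) (.leaf (nat_lit 0x1045b47) (nat_lit 2306))
 (.leaf (nat_lit 0x1045b49) (nat_lit 2817))
))))) (.node (nat_lit 0x1045b5f) (.node (nat_lit 0x1045b55) (.node (nat_lit 0x1045b4f) (.node (nat_lit 0x1045b4d) (.leaf (nat_lit 0x1045b4b) (nat_lit 2819))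
 (.leaf (nat_lit 0x1045b4d) (nat_lit 2051))
) (.node (nat_lit 0x1045b51) (.leaf (nat_lit 0x1045b4f) (nat_lit 2307))
 (.node (nat_lit 0x1045b53) (.leaf (nat_lit 0x1045b51) (nat_lit 3077))
 (.leaf (nat_lit 0x1045b53) (nat_lit 3073))
))) (.node (nat_lit 0x1045b59) (.node (nat_lit 0x1045b57) (.leaf (nat_lit 0x1045b55) (nat_lit 2565))
 (.leaf (nat_lit 0x1045b57) (nat_lit 2309))
) (.node (nat_lit 0x1045b5b) (.leaf (nat_lit 0x1045b59) (nat_lit 2307))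
 (.node (nat_lit 0x1045b5d) (.leaf (nat_lit 0x1045b5b) (nat_lit 2051))
 (.leaf (nat_lit 0x1045b5d) (nat_lit 2565))
)))) (.node (nat_lit 0x1045b89) (.node (nat_lit 0x1045b83) (.node (nat_lit 0x1045b81) (.leaf (nat_lit 0x1045b5f) (nat_lit 2309))
 (.leaf (nat_lit 0x1045b81) (nat_lit 1538))
) (.node (nat_lit 0x1045b85) (.leaf (nat_lit 0x1045b83) (nat_lit 1794))
 (.node (nat_lit 0x1045b87) (.leaf (nat_lit 0x1045b85) (nat_lit 2306))
 (.leaf (nat_lit 0x1045b87) (nat_lit 2306))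
))) (.node (nat_lit 0x1045b8f) (.node (nat_lit 0x1045b8b) (.leaf (nat_lit 0x1045b89) (nat_lit 2561))
 (.node (nat_lit 0x1045b8d) (.leaf (nat_lit 0x1045b8b) (nat_lit 2305))
 (.leaf (nat_lit 0x1045b8d) (nat_lit 2817))
)) (.node (nat_lit 0x1045b91) (.leaf (nat_lit 0x1045b8f) (nat_lit 2561))
 (.node (nat_lit 0x1045b93) (.leaf (nat_lit 0x1045b91) (nat_lit 3072))
 (.leaf (nat_lit 0x1045b93) (nat_lit 2816))
)))))) (.node (nat_lit 0x104689f) (.node (nat_lit 0x1046889) (.node (nat_lit 0x1045b9f) (.node (nat_lit 0x1045b99) (.node (nat_lit 0x1045b97) (.leaf (nat_lit 0x1045b95) (nat_lit 2817))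
 (.leaf (nat_lit 0x1045b97) (nat_lit 2561))
) (.node (nat_lit 0x1045b9b) (.leaf (nat_lit 0x1045b99) (nat_lit 2562))
 (.node (nat_lit 0x1045b9d) (.leaf (nat_lit 0x1045b9b) (nat_lit 2562))
 (.leaf (nat_lit 0x1045b9d) (nat_lit 1794))
))) (.node (nat_lit 0x1046883) (.node (nat_lit 0x1046881) (.leaf (nat_lit 0x1045b9f) (nat_lit 2050))
 (.leaf (nat_lit 0x1046881) (nat_lit 1539))
) (.node (nat_lit 0x1046885) (.leaf (nat_lit 0x1046883) (nat_lit 1795))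
 (.node (nat_lit 0x1046887) (.leaf (nat_lit 0x1046885) (nat_lit 1795))
 (.leaf (nat_lit 0x1046887) (nat_lit 1795))
)))) (.node (nat_lit 0x1046893) (.node (nat_lit 0x104688d) (.node (nat_lit 0x104688b) (.leaf (nat_lit 0x1046889) (nat_lit 3075))
 (.leaf (nat_lit 0x104688b) (nat_lit 2819))
) (.node (nat_lit 0x104688f) (.leaf (nat_lit 0x104688d) (nat_lit 2818))
 (.node (nat_lit 0x1046891) (.leaf (nat_lit 0x104688f) (nat_lit 2562))
 (.leaf (nat_lit 0x1046891) (nat_lit 3077))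
))) (.node (nat_lit 0x1046899) (.node (nat_lit 0x1046895) (.leaf (nat_lit 0x1046893) (nat_lit 2821))
 (.node (nat_lit 0x1046897) (.leaf (nat_lit 0x1046895) (nat_lit 3074))
 (.leaf (nat_lit 0x1046897) (nat_lit 2818))
)) (.node (nat_lit 0x104689b) (.leaf (nat_lit 0x1046899) (nat_lit 2560))
 (.node (nat_lit 0x104689d) (.leaf (nat_lit 0x104689b) (nat_lit 2304))
 (.leaf (nat_lit 0x104689d) (nat_lit 2305))
))))) (.node (nat_lit 0x10468d3) (.node (nat_lit 0x10468c9) (.node (nat_lit 0x10468c3) (.node (nat_lit 0x10468c1) (.leaf (nat_lit 0x104689f) (nat_lit 2049))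
 (.leaf (nat_lit 0x10468c1) (nat_lit 1285))
) (.node (nat_lit 0x10468c5) (.leaf (nat_lit 0x10468c3) (nat_lit 1541))
 (.node (nat_lit 0x10468c7) (.leaf (nat_lit 0x10468c5) (nat_lit 1797))
 (.leaf (nat_lit 0x10468c7) (nat_lit 1541))
))) (.node (nat_lit 0x10468cd) (.node (nat_lit 0x10468cb) (.leaf (nat_lit 0x10468c9) (nat_lit 2821))
 (.leaf (nat_lit 0x10468cb) (nat_lit 2565))
) (.node (nat_lit 0x10468cf) (.leaf (nat_lit 0x10468cd) (nat_lit 2562))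
 (.node (nat_lit 0x10468d1) (.leaf (nat_lit 0x10468cf) (nat_lit 2565))
 (.leaf (nat_lit 0x10468d1) (nat_lit 2821))
)))) (.node (nat_lit 0x10468dd) (.node (nat_lit 0x10468d7) (.node (nat_lit 0x10468d5) (.leaf (nat_lit 0x10468d3) (nat_lit 2565))
 (.leaf (nat_lit 0x10468d5) (nat_lit 2562))
) (.node (nat_lit 0x10468d9) (.leaf (nat_lit 0x10468d7) (nat_lit 2818))
 (.node (nat_lit 0x10468db) (.leaf (nat_lit 0x10468d9) (nat_lit 2309))
 (.leaf (nat_lit 0x10468db) (nat_lit 2053))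
))) (.node (nat_lit 0x1046983) (.node (nat_lit 0x10468df) (.leaf (nat_lit 0x10468dd) (nat_lit 2049))
 (.node (nat_lit 0x1046981) (.leaf (nat_lit 0x10468df) (nat_lit 2305))
 (.leaf (nat_lit 0x1046981) (nat_lit 1795))
)) (.node (nat_lit 0x1046985) (.leaf (nat_lit 0x1046983) (nat_lit 2051))
 (.node (nat_lit 0x1046987) (.leaf (nat_lit 0x1046985) (nat_lit 2562))
 (.leaf (nat_lit 0x1046987) (nat_lit 2306))
))))))) (.node (nat_lit 0x1046a9d) (.node (nat_lit 0x10469d3) (.node (nat_lit 0x104699d) (.node (nat_lit 0x1046993) (.node (nat_lit 0x104698d) (.node (nat_lit 0x104698b) (.leaf (nat_lit 0x1046989) (nat_lit 2818))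
 (.leaf (nat_lit 0x104698b) (nat_lit 2562))
) (.node (nat_lit 0x104698f) (.leaf (nat_lit 0x104698d) (nat_lit 2051))
 (.node (nat_lit 0x1046991) (.leaf (nat_lit 0x104698f) (nat_lit 2051))
 (.leaf (nat_lit 0x1046991) (nat_lit 3074))
))) (.node (nat_lit 0x1046997) (.node (nat_lit 0x1046995) (.leaf (nat_lit 0x1046993) (nat_lit 2818))
 (.leaf (nat_lit 0x1046995) (nat_lit 2561))
) (.node (nat_lit 0x1046999) (.leaf (nat_lit 0x1046997) (nat_lit 2305))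
 (.node (nat_lit 0x104699b) (.leaf (nat_lit 0x1046999) (nat_lit 2816))
 (.leaf (nat_lit 0x104699b) (nat_lit 2560))
)))) (.node (nat_lit 0x10469c7) (.node (nat_lit 0x10469c1) (.node (nat_lit 0x104699f) (.leaf (nat_lit 0x104699d) (nat_lit 2818))
 (.leaf (nat_lit 0x104699f) (nat_lit 2562))
) (.node (nat_lit 0x10469c3) (.leaf (nat_lit 0x10469c1) (nat_lit 1541))
 (.node (nat_lit 0x10469c5) (.leaf (nat_lit 0x10469c3) (nat_lit 1797))
 (.leaf (nat_lit 0x10469c5) (nat_lit 2565))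
))) (.node (nat_lit 0x10469cd) (.node (nat_lit 0x10469c9) (.leaf (nat_lit 0x10469c7) (nat_lit 2309))
 (.node (nat_lit 0x10469cb) (.leaf (nat_lit 0x10469c9) (nat_lit 2565))
 (.leaf (nat_lit 0x10469cb) (nat_lit 2821))
)) (.node (nat_lit 0x10469cf) (.leaf (nat_lit 0x10469cd) (nat_lit 2053))
 (.node (nat_lit 0x10469d1) (.leaf (nat_lit 0x10469cf) (nat_lit 1797))
 (.leaf (nat_lit 0x10469d1) (nat_lit 3073))
))))) (.node (nat_lit 0x1046a87) (.node (nat_lit 0x10469dd) (.node (nat_lit 0x10469d7) (.node (nat_lit 0x10469d5) (.leaf (nat_lit 0x10469d3) (nat_lit 2817))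
 (.leaf (nat_lit 0x10469d5) (nat_lit 2305))
) (.node (nat_lit 0x10469d9) (.leaf (nat_lit 0x10469d7) (nat_lit 2561))
 (.node (nat_lit 0x10469db) (.leaf (nat_lit 0x10469d9) (nat_lit 2565))
 (.leaf (nat_lit 0x10469db) (nat_lit 2309))
))) (.node (nat_lit 0x1046a81) (.node (nat_lit 0x10469df) (.leaf (nat_lit 0x10469dd) (nat_lit 2565))
 (.leaf (nat_lit 0x10469df) (nat_lit 2821))
) (.node (nat_lit 0x1046a83) (.leaf (nat_lit 0x1046a81) (nat_lit 1793))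
 (.node (nat_lit 0x1046a85) (.leaf (nat_lit 0x1046a83) (nat_lit 2049))
 (.leaf (nat_lit 0x1046a85) (nat_lit 2562))
)))) (.node (nat_lit 0x1046a91) (.node (nat_lit 0x1046a8b) (.node (nat_lit 0x1046a89) (.leaf (nat_lit 0x1046a87) (nat_lit 2306))
 (.leaf (nat_lit 0x1046a89) (nat_lit 2817))
) (.node (nat_lit 0x1046a8d) (.leaf (nat_lit 0x1046a8b) (nat_lit 2818))
 (.node (nat_lit 0x1046a8f) (.leaf (nat_lit 0x1046a8d) (nat_lit 2305))
 (.leaf (nat_lit 0x1046a8f) (nat_lit 2049))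
))) (.node (nat_lit 0x1046a97) (.node (nat_lit 0x1046a93) (.leaf (nat_lit 0x1046a91) (nat_lit 2818))
 (.node (nat_lit 0x1046a95) (.leaf (nat_lit 0x1046a93) (nat_lit 2562))
 (.leaf (nat_lit 0x1046a95) (nat_lit 2048))
)) (.node (nat_lit 0x1046a99) (.leaf (nat_lit 0x1046a97) (nat_lit 2304))
 (.node (nat_lit 0x1046a9b) (.leaf (nat_lit 0x1046a99) (nat_lit 2560))
 (.leaf (nat_lit 0x1046a9b) (nat_lit 2304))
)))))) (.node (nat_lit 0x1046b87) (.node (nat_lit 0x1046ad1) (.node (nat_lit 0x1046ac7) (.node (nat_lit 0x1046ac1) (.node (nat_lit 0x1046a9f) (.leaf (nat_lit 0x1046a9d) (nat_lit 2817))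
 (.leaf (nat_lit 0x1046a9f) (nat_lit 3073))
) (.node (nat_lit 0x1046ac3) (.leaf (nat_lit 0x1046ac1) (nat_lit 1797))
 (.node (nat_lit 0x1046ac5) (.leaf (nat_lit 0x1046ac3) (nat_lit 2053))
 (.leaf (nat_lit 0x1046ac5) (nat_lit 2562))
))) (.node (nat_lit 0x1046acb) (.node (nat_lit 0x1046ac9) (.leaf (nat_lit 0x1046ac7) (nat_lit 2565))
 (.leaf (nat_lit 0x1046ac9) (nat_lit 2821))
) (.node (nat_lit 0x1046acd) (.leaf (nat_lit 0x1046acb) (nat_lit 2817))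
 (.node (nat_lit 0x1046acf) (.leaf (nat_lit 0x1046acd) (nat_lit 2307))
 (.leaf (nat_lit 0x1046acf) (nat_lit 2307))
)))) (.node (nat_lit 0x1046adb) (.node (nat_lit 0x1046ad5) (.node (nat_lit 0x1046ad3) (.leaf (nat_lit 0x1046ad1) (nat_lit 2821))
 (.leaf (nat_lit 0x1046ad3) (nat_lit 2818))
) (.node (nat_lit 0x1046ad7) (.leaf (nat_lit 0x1046ad5) (nat_lit 2309))
 (.node (nat_lit 0x1046ad9) (.leaf (nat_lit 0x1046ad7) (nat_lit 2053))
 (.leaf (nat_lit 0x1046ad9) (nat_lit 2563))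
))) (.node (nat_lit 0x1046b81) (.node (nat_lit 0x1046add) (.leaf (nat_lit 0x1046adb) (nat_lit 2565))
 (.node (nat_lit 0x1046adf) (.leaf (nat_lit 0x1046add) (nat_lit 2821))
 (.leaf (nat_lit 0x1046adf) (nat_lit 2565))
)) (.node (nat_lit 0x1046b83) (.leaf (nat_lit 0x1046b81) (nat_lit 1537))
 (.node (nat_lit 0x1046b85) (.leaf (nat_lit 0x1046b83) (nat_lit 1793))
 (.leaf (nat_lit 0x1046b85) (nat_lit 2049))
))))) (.node (nat_lit 0x1046b9b) (.node (nat_lit 0x1046b91) (.node (nat_lit 0x1046b8b) (.node (nat_lit 0x1046b89) (.leaf (nat_lit 0x1046b87) (nat_lit 1793))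
 (.leaf (nat_lit 0x1046b89) (nat_lit 3073))
) (.node (nat_lit 0x1046b8d) (.leaf (nat_lit 0x1046b8b) (nat_lit 2817))
 (.node (nat_lit 0x1046b8f) (.leaf (nat_lit 0x1046b8d) (nat_lit 2818))
 (.leaf (nat_lit 0x1046b8f) (nat_lit 2562))
))) (.node (nat_lit 0x1046b95) (.node (nat_lit 0x1046b93) (.leaf (nat_lit 0x1046b91) (nat_lit 3073))
 (.leaf (nat_lit 0x1046b93) (nat_lit 2817))
) (.node (nat_lit 0x1046b97) (.leaf (nat_lit 0x1046b95) (nat_lit 2817))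
 (.node (nat_lit 0x1046b99) (.leaf (nat_lit 0x1046b97) (nat_lit 3073))
 (.leaf (nat_lit 0x1046b99) (nat_lit 2304))
)))) (.node (nat_lit 0x1046bc5) (.node (nat_lit 0x1046b9f) (.node (nat_lit 0x1046b9d) (.leaf (nat_lit 0x1046b9b) (nat_lit 2048))
 (.leaf (nat_lit 0x1046b9d) (nat_lit 1792))
) (.node (nat_lit 0x1046bc1) (.leaf (nat_lit 0x1046b9f) (nat_lit 2048))
 (.node (nat_lit 0x1046bc3) (.leaf (nat_lit 0x1046bc1) (nat_lit 1541))
 (.leaf (nat_lit 0x1046bc3) (nat_lit 1797))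
))) (.node (nat_lit 0x1046bcb) (.node (nat_lit 0x1046bc7) (.leaf (nat_lit 0x1046bc5) (nat_lit 2051))
 (.node (nat_lit 0x1046bc9) (.leaf (nat_lit 0x1046bc7) (nat_lit 2051))
 (.leaf (nat_lit 0x1046bc9) (nat_lit 3074))
)) (.node (nat_lit 0x1046bcd) (.leaf (nat_lit 0x1046bcb) (nat_lit 2818))
 (.node (nat_lit 0x1046bcf) (.leaf (nat_lit 0x1046bcd) (nat_lit 2562))
 (.leaf (nat_lit 0x1046bcf) (nat_lit 2818))
)))))))) (.node (nat_lit 0x1047259) (.node (nat_lit 0x1047145) (.node (nat_lit 0x104705b) (.node (nat_lit 0x1047045) (.node (nat_lit 0x1046bdb) (.node (nat_lit 0x1046bd5) (.node (nat_lit 0x1046bd3) (.leaf (nat_lit 0x1046bd1) (nat_lit 3077))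
 (.leaf (nat_lit 0x1046bd3) (nat_lit 2821))
) (.node (nat_lit 0x1046bd7) (.leaf (nat_lit 0x1046bd5) (nat_lit 3077))
 (.node (nat_lit 0x1046bd9) (.leaf (nat_lit 0x1046bd7) (nat_lit 2821))
 (.leaf (nat_lit 0x1046bd9) (nat_lit 2307))
))) (.node (nat_lit 0x1046bdf) (.node (nat_lit 0x1046bdd) (.leaf (nat_lit 0x1046bdb) (nat_lit 2309))
 (.leaf (nat_lit 0x1046bdd) (nat_lit 2053))
) (.node (nat_lit 0x1047041) (.leaf (nat_lit 0x1046bdf) (nat_lit 1797))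
 (.node (nat_lit 0x1047043) (.leaf (nat_lit 0x1047041) (nat_lit 771))
 (.leaf (nat_lit 0x1047043) (nat_lit 1027))
)))) (.node (nat_lit 0x104704f) (.node (nat_lit 0x1047049) (.node (nat_lit 0x1047047) (.leaf (nat_lit 0x1047045) (nat_lit 1795))
 (.leaf (nat_lit 0x1047047) (nat_lit 1539))
) (.node (nat_lit 0x104704b) (.leaf (nat_lit 0x1047049) (nat_lit 2564))
 (.node (nat_lit 0x104704d) (.leaf (nat_lit 0x104704b) (nat_lit 2308))
 (.leaf (nat_lit 0x104704d) (nat_lit 2307))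
))) (.node (nat_lit 0x1047055) (.node (nat_lit 0x1047051) (.leaf (nat_lit 0x104704f) (nat_lit 2051))
 (.node (nat_lit 0x1047053) (.leaf (nat_lit 0x1047051) (nat_lit 2818))
 (.leaf (nat_lit 0x1047053) (nat_lit 3074))
)) (.node (nat_lit 0x1047057) (.leaf (nat_lit 0x1047055) (nat_lit 2306))
 (.node (nat_lit 0x1047059) (.leaf (nat_lit 0x1047057) (nat_lit 2050))
 (.leaf (nat_lit 0x1047059) (nat_lit 2307))
))))) (.node (nat_lit 0x10470cf) (.node (nat_lit 0x10470c5) (.node (nat_lit 0x104705f) (.node (nat_lit 0x104705d) (.leaf (nat_lit 0x104705b) (nat_lit 2563))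
 (.leaf (nat_lit 0x104705d) (nat_lit 1795))
) (.node (nat_lit 0x10470c1) (.leaf (nat_lit 0x104705f) (nat_lit 1539))
 (.node (nat_lit 0x10470c3) (.leaf (nat_lit 0x10470c1) (nat_lit 1027))
 (.leaf (nat_lit 0x10470c3) (nat_lit 1283))
))) (.node (nat_lit 0x10470c9) (.node (nat_lit 0x10470c7) (.leaf (nat_lit 0x10470c5) (nat_lit 1539))
 (.leaf (nat_lit 0x10470c7) (nat_lit 1283))
) (.node (nat_lit 0x10470cb) (.leaf (nat_lit 0x10470c9) (nat_lit 2563))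
 (.node (nat_lit 0x10470cd) (.leaf (nat_lit 0x10470cb) (nat_lit 2307))
 (.leaf (nat_lit 0x10470cd) (nat_lit 2563))
)))) (.node (nat_lit 0x10470d9) (.node (nat_lit 0x10470d3) (.node (nat_lit 0x10470d1) (.leaf (nat_lit 0x10470cf) (nat_lit 2307))
 (.leaf (nat_lit 0x10470d1) (nat_lit 2562))
) (.node (nat_lit 0x10470d5) (.leaf (nat_lit 0x10470d3) (nat_lit 2306))
 (.node (nat_lit 0x10470d7) (.leaf (nat_lit 0x10470d5) (nat_lit 2562))
 (.leaf (nat_lit 0x10470d7) (nat_lit 2818))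
))) (.node (nat_lit 0x10470df) (.node (nat_lit 0x10470db) (.leaf (nat_lit 0x10470d9) (nat_lit 2051))
 (.node (nat_lit 0x10470dd) (.leaf (nat_lit 0x10470db) (nat_lit 1795))
 (.leaf (nat_lit 0x10470dd) (nat_lit 2051))
)) (.node (nat_lit 0x1047141) (.leaf (nat_lit 0x10470df) (nat_lit 2307))
 (.node (nat_lit 0x1047143) (.leaf (nat_lit 0x1047141) (nat_lit 1795))
 (.leaf (nat_lit 0x1047143) (nat_lit 2051))
)))))) (.node (nat_lit 0x10471cf) (.node (nat_lit 0x1047159) (.node (nat_lit 0x104714f) (.node (nat_lit 0x1047149) (.node (nat_lit 0x1047147) (.leaf (nat_lit 0x1047145) (nat_lit 2307))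
 (.leaf (nat_lit 0x1047147) (nat_lit 2051))
) (.node (nat_lit 0x104714b) (.leaf (nat_lit 0x1047149) (nat_lit 2307))
 (.node (nat_lit 0x104714d) (.leaf (nat_lit 0x104714b) (nat_lit 2051))
 (.leaf (nat_lit 0x104714d) (nat_lit 2307))
))) (.node (nat_lit 0x1047153) (.node (nat_lit 0x1047151) (.leaf (nat_lit 0x104714f) (nat_lit 2051))
 (.leaf (nat_lit 0x1047151) (nat_lit 2817))
) (.node (nat_lit 0x1047155) (.leaf (nat_lit 0x1047153) (nat_lit 3073))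
 (.node (nat_lit 0x1047157) (.leaf (nat_lit 0x1047155) (nat_lit 2305))
 (.leaf (nat_lit 0x1047157) (nat_lit 2049))
)))) (.node (nat_lit 0x10471c3) (.node (nat_lit 0x104715d) (.node (nat_lit 0x104715b) (.leaf (nat_lit 0x1047159) (nat_lit 2818))
 (.leaf (nat_lit 0x104715b) (nat_lit 3074))
) (.node (nat_lit 0x104715f) (.leaf (nat_lit 0x104715d) (nat_lit 2306))
 (.node (nat_lit 0x10471c1) (.leaf (nat_lit 0x104715f) (nat_lit 2050))
 (.leaf (nat_lit 0x10471c1) (nat_lit 1539))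
))) (.node (nat_lit 0x10471c9) (.node (nat_lit 0x10471c5) (.leaf (nat_lit 0x10471c3) (nat_lit 1795))
 (.node (nat_lit 0x10471c7) (.leaf (nat_lit 0x10471c5) (nat_lit 2563))
 (.leaf (nat_lit 0x10471c7) (nat_lit 2307))
)) (.node (nat_lit 0x10471cb) (.leaf (nat_lit 0x10471c9) (nat_lit 2563))
 (.node (nat_lit 0x10471cd) (.leaf (nat_lit 0x10471cb) (nat_lit 2307))
 (.leaf (nat_lit 0x10471cd) (nat_lit 2051))
))))) (.node (nat_lit 0x1047243) (.node (nat_lit 0x10471d9) (.node (nat_lit 0x10471d3) (.node (nat_lit 0x10471d1) (.leaf (nat_lit 0x10471cf) (nat_lit 1795))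
 (.leaf (nat_lit 0x10471d1) (nat_lit 2561))
) (.node (nat_lit 0x10471d5) (.leaf (nat_lit 0x10471d3) (nat_lit 2305))
 (.node (nat_lit 0x10471d7) (.leaf (nat_lit 0x10471d5) (nat_lit 2561))
 (.leaf (nat_lit 0x10471d7) (nat_lit 2817))
))) (.node (nat_lit 0x10471dd) (.node (nat_lit 0x10471db) (.leaf (nat_lit 0x10471d9) (nat_lit 2562))
 (.leaf (nat_lit 0x10471db) (nat_lit 2306))
) (.node (nat_lit 0x10471df) (.leaf (nat_lit 0x10471dd) (nat_lit 2562))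
 (.node (nat_lit 0x1047241) (.leaf (nat_lit 0x10471df) (nat_lit 2818))
 (.leaf (nat_lit 0x1047241) (nat_lit 1794))
)))) (.node (nat_lit 0x104724d) (.node (nat_lit 0x1047247) (.node (nat_lit 0x1047245) (.leaf (nat_lit 0x1047243) (nat_lit 2050))
 (.leaf (nat_lit 0x1047245) (nat_lit 2306))
) (.node (nat_lit 0x1047249) (.leaf (nat_lit 0x1047247) (nat_lit 2050))
 (.node (nat_lit 0x104724b) (.leaf (nat_lit 0x1047249) (nat_lit 2818))
 (.leaf (nat_lit 0x104724b) (nat_lit 2562))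
))) (.node (nat_lit 0x1047253) (.node (nat_lit 0x104724f) (.leaf (nat_lit 0x104724d) (nat_lit 2307))
 (.node (nat_lit 0x1047251) (.leaf (nat_lit 0x104724f) (nat_lit 2051))
 (.leaf (nat_lit 0x1047251) (nat_lit 2306))
)) (.node (nat_lit 0x1047255) (.leaf (nat_lit 0x1047253) (nat_lit 2050))
 (.node (nat_lit 0x1047257) (.leaf (nat_lit 0x1047255) (nat_lit 2306))
 (.leaf (nat_lit 0x1047257) (nat_lit 2562))
))))))) (.node (nat_lit 0x10473cd) (.node (nat_lit 0x1047343) (.node (nat_lit 0x10472cd) (.node (nat_lit 0x10472c3) (.node (nat_lit 0x104725d) (.node (nat_lit 0x104725b) (.leaf (nat_lit 0x1047259) (nat_lit 2818))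
 (.leaf (nat_lit 0x104725b) (nat_lit 2562))
) (.node (nat_lit 0x104725f) (.leaf (nat_lit 0x104725d) (nat_lit 2307))
 (.node (nat_lit 0x10472c1) (.leaf (nat_lit 0x104725f) (nat_lit 2563))
 (.leaf (nat_lit 0x10472c1) (nat_lit 1538))
))) (.node (nat_lit 0x10472c7) (.node (nat_lit 0x10472c5) (.leaf (nat_lit 0x10472c3) (nat_lit 1794))
 (.leaf (nat_lit 0x10472c5) (nat_lit 2562))
) (.node (nat_lit 0x10472c9) (.leaf (nat_lit 0x10472c7) (nat_lit 2306))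
 (.node (nat_lit 0x10472cb) (.leaf (nat_lit 0x10472c9) (nat_lit 2563))
 (.leaf (nat_lit 0x10472cb) (nat_lit 2307))
)))) (.node (nat_lit 0x10472d7) (.node (nat_lit 0x10472d1) (.node (nat_lit 0x10472cf) (.leaf (nat_lit 0x10472cd) (nat_lit 2562))
 (.leaf (nat_lit 0x10472cf) (nat_lit 2306))
) (.node (nat_lit 0x10472d3) (.leaf (nat_lit 0x10472d1) (nat_lit 2562))
 (.node (nat_lit 0x10472d5) (.leaf (nat_lit 0x10472d3) (nat_lit 2818))
 (.leaf (nat_lit 0x10472d5) (nat_lit 2050))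
))) (.node (nat_lit 0x10472dd) (.node (nat_lit 0x10472d9) (.leaf (nat_lit 0x10472d7) (nat_lit 1794))
 (.node (nat_lit 0x10472db) (.leaf (nat_lit 0x10472d9) (nat_lit 2562))
 (.leaf (nat_lit 0x10472db) (nat_lit 2818))
)) (.node (nat_lit 0x10472df) (.leaf (nat_lit 0x10472dd) (nat_lit 2562))
 (.node (nat_lit 0x1047341) (.leaf (nat_lit 0x10472df) (nat_lit 2306))
 (.leaf (nat_lit 0x1047341) (nat_lit 1283))
))))) (.node (nat_lit 0x1047357) (.node (nat_lit 0x104734d) (.node (nat_lit 0x1047347) (.node (nat_lit 0x1047345) (.leaf (nat_lit 0x1047343) (nat_lit 1539))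
 (.leaf (nat_lit 0x1047345) (nat_lit 1795))
) (.node (nat_lit 0x1047349) (.leaf (nat_lit 0x1047347) (nat_lit 1539))
 (.node (nat_lit 0x104734b) (.leaf (nat_lit 0x1047349) (nat_lit 2819))
 (.leaf (nat_lit 0x104734b) (nat_lit 2563))
))) (.node (nat_lit 0x1047351) (.node (nat_lit 0x104734f) (.leaf (nat_lit 0x104734d) (nat_lit 2306))
 (.leaf (nat_lit 0x104734f) (nat_lit 2050))
) (.node (nat_lit 0x1047353) (.leaf (nat_lit 0x1047351) (nat_lit 2817))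
 (.node (nat_lit 0x1047355) (.leaf (nat_lit 0x1047353) (nat_lit 2561))
 (.leaf (nat_lit 0x1047355) (nat_lit 2306))
)))) (.node (nat_lit 0x10473c1) (.node (nat_lit 0x104735b) (.node (nat_lit 0x1047359) (.leaf (nat_lit 0x1047357) (nat_lit 2562))
 (.leaf (nat_lit 0x1047359) (nat_lit 1795))
) (.node (nat_lit 0x104735d) (.leaf (nat_lit 0x104735b) (nat_lit 1539))
 (.node (nat_lit 0x104735f) (.leaf (nat_lit 0x104735d) (nat_lit 1795))
 (.leaf (nat_lit 0x104735f) (nat_lit 2051))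
))) (.node (nat_lit 0x10473c7) (.node (nat_lit 0x10473c3) (.leaf (nat_lit 0x10473c1) (nat_lit 1027))
 (.node (nat_lit 0x10473c5) (.leaf (nat_lit 0x10473c3) (nat_lit 1283))
 (.leaf (nat_lit 0x10473c5) (nat_lit 2051))
)) (.node (nat_lit 0x10473c9) (.leaf (nat_lit 0x10473c7) (nat_lit 1795))
 (.node (nat_lit 0x10473cb) (.leaf (nat_lit 0x10473c9) (nat_lit 2562))
 (.leaf (nat_lit 0x10473cb) (nat_lit 2306))
)))))) (.node (nat_lit 0x1047857) (.node (nat_lit 0x1047841) (.node (nat_lit 0x10473d7) (.node (nat_lit 0x10473d1) (.node (nat_lit 0x10473cf) (.leaf (nat_lit 0x10473cd) (nat_lit 2563))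
 (.leaf (nat_lit 0x10473cf) (nat_lit 2307))
) (.node (nat_lit 0x10473d3) (.leaf (nat_lit 0x10473d1) (nat_lit 2563))
 (.node (nat_lit 0x10473d5) (.leaf (nat_lit 0x10473d3) (nat_lit 2819))
 (.leaf (nat_lit 0x10473d5) (nat_lit 2561))
))) (.node (nat_lit 0x10473db) (.node (nat_lit 0x10473d9) (.leaf (nat_lit 0x10473d7) (nat_lit 2305))
 (.leaf (nat_lit 0x10473d9) (nat_lit 2051))
) (.node (nat_lit 0x10473dd) (.leaf (nat_lit 0x10473db) (nat_lit 2307))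
 (.node (nat_lit 0x10473df) (.leaf (nat_lit 0x10473dd) (nat_lit 1539))
 (.leaf (nat_lit 0x10473df) (nat_lit 1283))
)))) (.node (nat_lit 0x104784b) (.node (nat_lit 0x1047845) (.node (nat_lit 0x1047843) (.leaf (nat_lit 0x1047841) (nat_lit 1029))
 (.leaf (nat_lit 0x1047843) (nat_lit 1285))
) (.node (nat_lit 0x1047847) (.leaf (nat_lit 0x1047845) (nat_lit 1795))
 (.node (nat_lit 0x1047849) (.leaf (nat_lit 0x1047847) (nat_lit 1797))
 (.leaf (nat_lit 0x1047849) (nat_lit 2821))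
))) (.node (nat_lit 0x1047851) (.node (nat_lit 0x104784d) (.leaf (nat_lit 0x104784b) (nat_lit 2565))
 (.node (nat_lit 0x104784f) (.leaf (nat_lit 0x104784d) (nat_lit 2306))
 (.leaf (nat_lit 0x104784f) (nat_lit 2309))
)) (.node (nat_lit 0x1047853) (.leaf (nat_lit 0x1047851) (nat_lit 3077))
 (.node (nat_lit 0x1047855) (.leaf (nat_lit 0x1047853) (nat_lit 3074))
 (.leaf (nat_lit 0x1047855) (nat_lit 2306))
))))) (.node (nat_lit 0x104788b) (.node (nat_lit 0x1047881) (.node (nat_lit 0x104785b) (.node (nat_lit 0x1047859) (.leaf (nat_lit 0x1047857) (nat_lit 2309))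
 (.leaf (nat_lit 0x1047859) (nat_lit 2565))
) (.node (nat_lit 0x104785d) (.leaf (nat_lit 0x104785b) (nat_lit 2561))
 (.node (nat_lit 0x104785f) (.leaf (nat_lit 0x104785d) (nat_lit 1793))
 (.leaf (nat_lit 0x104785f) (nat_lit 1797))
))) (.node (nat_lit 0x1047885) (.node (nat_lit 0x1047883) (.leaf (nat_lit 0x1047881) (nat_lit 1283))
 (.leaf (nat_lit 0x1047883) (nat_lit 1539))
) (.node (nat_lit 0x1047887) (.leaf (nat_lit 0x1047885) (nat_lit 1539))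
 (.node (nat_lit 0x1047889) (.leaf (nat_lit 0x1047887) (nat_lit 1795))
 (.leaf (nat_lit 0x1047889) (nat_lit 2819))
)))) (.node (nat_lit 0x1047895) (.node (nat_lit 0x104788f) (.node (nat_lit 0x104788d) (.leaf (nat_lit 0x104788b) (nat_lit 2563))
 (.leaf (nat_lit 0x104788d) (nat_lit 2561))
) (.node (nat_lit 0x1047891) (.leaf (nat_lit 0x104788f) (nat_lit 2563))
 (.node (nat_lit 0x1047893) (.leaf (nat_lit 0x1047891) (nat_lit 2818))
 (.leaf (nat_lit 0x1047893) (nat_lit 2562))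
))) (.node (nat_lit 0x104789b) (.node (nat_lit 0x1047897) (.leaf (nat_lit 0x1047895) (nat_lit 3073))
 (.node (nat_lit 0x1047899) (.leaf (nat_lit 0x1047897) (nat_lit 2817))
 (.leaf (nat_lit 0x1047899) (nat_lit 2307))
)) (.node (nat_lit 0x104789d) (.leaf (nat_lit 0x104789b) (nat_lit 2051))
 (.node (nat_lit 0x104789f) (.leaf (nat_lit 0x104789d) (nat_lit 2561))
 (.leaf (nat_lit 0x104789f) (nat_lit 2305))
)))))))))) (.node (nat_lit 0x1051381) (.node (nat_lit 0x1050a91) (.node (nat_lit 0x1047b89) (.node (nat_lit 0x1047a55) (.node (nat_lit 0x104798b) (.node (nat_lit 0x1047955) (.node (nat_lit 0x104794b) (.node (nat_lit 0x1047945) (.node (nat_lit 0x1047943) (.leaf (nat_lit 0x1047941) (nat_lit 1797))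
 (.leaf (nat_lit 0x1047943) (nat_lit 2053))
) (.node (nat_lit 0x1047947) (.leaf (nat_lit 0x1047945) (nat_lit 2309))
 (.node (nat_lit 0x1047949) (.leaf (nat_lit 0x1047947) (nat_lit 2053))
 (.leaf (nat_lit 0x1047949) (nat_lit 2309))
))) (.node (nat_lit 0x104794f) (.node (nat_lit 0x104794d) (.leaf (nat_lit 0x104794b) (nat_lit 2053))
 (.leaf (nat_lit 0x104794d) (nat_lit 2309))
) (.node (nat_lit 0x1047951) (.leaf (nat_lit 0x104794f) (nat_lit 2565))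
 (.node (nat_lit 0x1047953) (.leaf (nat_lit 0x1047951) (nat_lit 3073))
 (.leaf (nat_lit 0x1047953) (nat_lit 2817))
)))) (.node (nat_lit 0x104795f) (.node (nat_lit 0x1047959) (.node (nat_lit 0x1047957) (.leaf (nat_lit 0x1047955) (nat_lit 2305))
 (.leaf (nat_lit 0x1047957) (nat_lit 2561))
) (.node (nat_lit 0x104795b) (.leaf (nat_lit 0x1047959) (nat_lit 2821))
 (.node (nat_lit 0x104795d) (.leaf (nat_lit 0x104795b) (nat_lit 3077))
 (.leaf (nat_lit 0x104795d) (nat_lit 2309))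
))) (.node (nat_lit 0x1047985) (.node (nat_lit 0x1047981) (.leaf (nat_lit 0x104795f) (nat_lit 2053))
 (.node (nat_lit 0x1047983) (.leaf (nat_lit 0x1047981) (nat_lit 1794))
 (.leaf (nat_lit 0x1047983) (nat_lit 2050))
)) (.node (nat_lit 0x1047987) (.leaf (nat_lit 0x1047985) (nat_lit 2563))
 (.node (nat_lit 0x1047989) (.leaf (nat_lit 0x1047987) (nat_lit 2307))
 (.leaf (nat_lit 0x1047989) (nat_lit 2563))
))))) (.node (nat_lit 0x104799f) (.node (nat_lit 0x1047995) (.node (nat_lit 0x104798f) (.node (nat_lit 0x104798d) (.leaf (nat_lit 0x104798b) (nat_lit 2307))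
 (.leaf (nat_lit 0x104798d) (nat_lit 2050))
) (.node (nat_lit 0x1047991) (.leaf (nat_lit 0x104798f) (nat_lit 2306))
 (.node (nat_lit 0x1047993) (.leaf (nat_lit 0x1047991) (nat_lit 2817))
 (.leaf (nat_lit 0x1047993) (nat_lit 2561))
))) (.node (nat_lit 0x1047999) (.node (nat_lit 0x1047997) (.leaf (nat_lit 0x1047995) (nat_lit 2817))
 (.leaf (nat_lit 0x1047997) (nat_lit 2818))
) (.node (nat_lit 0x104799b) (.leaf (nat_lit 0x1047999) (nat_lit 2818))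
 (.node (nat_lit 0x104799d) (.leaf (nat_lit 0x104799b) (nat_lit 2562))
 (.leaf (nat_lit 0x104799d) (nat_lit 2817))
)))) (.node (nat_lit 0x1047a49) (.node (nat_lit 0x1047a43) (.node (nat_lit 0x1047a41) (.leaf (nat_lit 0x104799f) (nat_lit 2561))
 (.leaf (nat_lit 0x1047a41) (nat_lit 2053))
) (.node (nat_lit 0x1047a45) (.leaf (nat_lit 0x1047a43) (nat_lit 2309))
 (.node (nat_lit 0x1047a47) (.leaf (nat_lit 0x1047a45) (nat_lit 2306))
 (.leaf (nat_lit 0x1047a47) (nat_lit 2309))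
))) (.node (nat_lit 0x1047a4f) (.node (nat_lit 0x1047a4b) (.leaf (nat_lit 0x1047a49) (nat_lit 2819))
 (.node (nat_lit 0x1047a4d) (.leaf (nat_lit 0x1047a4b) (nat_lit 2563))
 (.leaf (nat_lit 0x1047a4d) (nat_lit 2305))
)) (.node (nat_lit 0x1047a51) (.leaf (nat_lit 0x1047a4f) (nat_lit 2561))
 (.node (nat_lit 0x1047a53) (.leaf (nat_lit 0x1047a51) (nat_lit 2565))
 (.leaf (nat_lit 0x1047a53) (nat_lit 2309))
)))))) (.node (nat_lit 0x1047a9f) (.node (nat_lit 0x1047a89) (.node (nat_lit 0x1047a5f) (.node (nat_lit 0x1047a59) (.node (nat_lit 0x1047a57) (.leaf (nat_lit 0x1047a55) (nat_lit 2565))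
 (.leaf (nat_lit 0x1047a57) (nat_lit 2562))
) (.node (nat_lit 0x1047a5b) (.leaf (nat_lit 0x1047a59) (nat_lit 2819))
 (.node (nat_lit 0x1047a5d) (.leaf (nat_lit 0x1047a5b) (nat_lit 2821))
 (.leaf (nat_lit 0x1047a5d) (nat_lit 2565))
))) (.node (nat_lit 0x1047a83) (.node (nat_lit 0x1047a81) (.leaf (nat_lit 0x1047a5f) (nat_lit 2309))
 (.leaf (nat_lit 0x1047a81) (nat_lit 1794))
) (.node (nat_lit 0x1047a85) (.leaf (nat_lit 0x1047a83) (nat_lit 2050))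
 (.node (nat_lit 0x1047a87) (.leaf (nat_lit 0x1047a85) (nat_lit 2561))
 (.leaf (nat_lit 0x1047a87) (nat_lit 2305))
)))) (.node (nat_lit 0x1047a93) (.node (nat_lit 0x1047a8d) (.node (nat_lit 0x1047a8b) (.leaf (nat_lit 0x1047a89) (nat_lit 2561))
 (.leaf (nat_lit 0x1047a8b) (nat_lit 2305))
) (.node (nat_lit 0x1047a8f) (.leaf (nat_lit 0x1047a8d) (nat_lit 2561))
 (.node (nat_lit 0x1047a91) (.leaf (nat_lit 0x1047a8f) (nat_lit 2562))
 (.leaf (nat_lit 0x1047a91) (nat_lit 2816))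
))) (.node (nat_lit 0x1047a99) (.node (nat_lit 0x1047a95) (.leaf (nat_lit 0x1047a93) (nat_lit 2560))
 (.node (nat_lit 0x1047a97) (.leaf (nat_lit 0x1047a95) (nat_lit 2050))
 (.leaf (nat_lit 0x1047a97) (nat_lit 2306))
)) (.node (nat_lit 0x1047a9b) (.leaf (nat_lit 0x1047a99) (nat_lit 2816))
 (.node (nat_lit 0x1047a9d) (.leaf (nat_lit 0x1047a9b) (nat_lit 2818))
 (.leaf (nat_lit 0x1047a9d) (nat_lit 2561))
))))) (.node (nat_lit 0x1047b53) (.node (nat_lit 0x1047b49) (.node (nat_lit 0x1047b43) (.node (nat_lit 0x1047b41) (.leaf (nat_lit 0x1047a9f) (nat_lit 2305))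
 (.leaf (nat_lit 0x1047b41) (nat_lit 1539))
) (.node (nat_lit 0x1047b45) (.leaf (nat_lit 0x1047b43) (nat_lit 1795))
 (.node (nat_lit 0x1047b47) (.leaf (nat_lit 0x1047b45) (nat_lit 1795))
 (.leaf (nat_lit 0x1047b47) (nat_lit 2051))
))) (.node (nat_lit 0x1047b4d) (.node (nat_lit 0x1047b4b) (.leaf (nat_lit 0x1047b49) (nat_lit 3075))
 (.leaf (nat_lit 0x1047b4b) (nat_lit 2819))
) (.node (nat_lit 0x1047b4f) (.leaf (nat_lit 0x1047b4d) (nat_lit 2306))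
 (.node (nat_lit 0x1047b51) (.leaf (nat_lit 0x1047b4f) (nat_lit 2562))
 (.leaf (nat_lit 0x1047b51) (nat_lit 3073))
)))) (.node (nat_lit 0x1047b5d) (.node (nat_lit 0x1047b57) (.node (nat_lit 0x1047b55) (.leaf (nat_lit 0x1047b53) (nat_lit 2817))
 (.leaf (nat_lit 0x1047b55) (nat_lit 2821))
) (.node (nat_lit 0x1047b59) (.leaf (nat_lit 0x1047b57) (nat_lit 2565))
 (.node (nat_lit 0x1047b5b) (.leaf (nat_lit 0x1047b59) (nat_lit 2051))
 (.leaf (nat_lit 0x1047b5b) (nat_lit 1795))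
))) (.node (nat_lit 0x1047b83) (.node (nat_lit 0x1047b5f) (.leaf (nat_lit 0x1047b5d) (nat_lit 2309))
 (.node (nat_lit 0x1047b81) (.leaf (nat_lit 0x1047b5f) (nat_lit 2053))
 (.leaf (nat_lit 0x1047b81) (nat_lit 1281))
)) (.node (nat_lit 0x1047b85) (.leaf (nat_lit 0x1047b83) (nat_lit 1537))
 (.node (nat_lit 0x1047b87) (.leaf (nat_lit 0x1047b85) (nat_lit 2051))
 (.leaf (nat_lit 0x1047b87) (nat_lit 2049))
))))))) (.node (nat_lit 0x10508dd) (.node (nat_lit 0x1050893) (.node (nat_lit 0x1047b9d) (.node (nat_lit 0x1047b93) (.node (nat_lit 0x1047b8d) (.node (nat_lit 0x1047b8b) (.leaf (nat_lit 0x1047b89) (nat_lit 2818))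
 (.leaf (nat_lit 0x1047b8b) (nat_lit 2562))
) (.node (nat_lit 0x1047b8f) (.leaf (nat_lit 0x1047b8d) (nat_lit 2561))
 (.node (nat_lit 0x1047b91) (.leaf (nat_lit 0x1047b8f) (nat_lit 2561))
 (.leaf (nat_lit 0x1047b91) (nat_lit 2816))
))) (.node (nat_lit 0x1047b97) (.node (nat_lit 0x1047b95) (.leaf (nat_lit 0x1047b93) (nat_lit 2816))
 (.leaf (nat_lit 0x1047b95) (nat_lit 2561))
) (.node (nat_lit 0x1047b99) (.leaf (nat_lit 0x1047b97) (nat_lit 2561))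
 (.node (nat_lit 0x1047b9b) (.leaf (nat_lit 0x1047b99) (nat_lit 2307))
 (.leaf (nat_lit 0x1047b9b) (nat_lit 2304))
)))) (.node (nat_lit 0x1050887) (.node (nat_lit 0x1050881) (.node (nat_lit 0x1047b9f) (.leaf (nat_lit 0x1047b9d) (nat_lit 1536))
 (.leaf (nat_lit 0x1047b9f) (nat_lit 1792))
) (.node (nat_lit 0x1050883) (.leaf (nat_lit 0x1050881) (nat_lit 1028))
 (.node (nat_lit 0x1050885) (.leaf (nat_lit 0x1050883) (nat_lit 1284))
 (.leaf (nat_lit 0x1050885) (nat_lit 1284))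
))) (.node (nat_lit 0x105088d) (.node (nat_lit 0x1050889) (.leaf (nat_lit 0x1050887) (nat_lit 1284))
 (.node (nat_lit 0x105088b) (.leaf (nat_lit 0x1050889) (nat_lit 2564))
 (.leaf (nat_lit 0x105088b) (nat_lit 2308))
)) (.node (nat_lit 0x105088f) (.leaf (nat_lit 0x105088d) (nat_lit 2308))
 (.node (nat_lit 0x1050891) (.leaf (nat_lit 0x105088f) (nat_lit 2052))
 (.leaf (nat_lit 0x1050891) (nat_lit 3588))
))))) (.node (nat_lit 0x10508c7) (.node (nat_lit 0x105089d) (.node (nat_lit 0x1050897) (.node (nat_lit 0x1050895) (.leaf (nat_lit 0x1050893) (nat_lit 3332))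
 (.leaf (nat_lit 0x1050895) (nat_lit 3332))
) (.node (nat_lit 0x1050899) (.leaf (nat_lit 0x1050897) (nat_lit 3332))
 (.node (nat_lit 0x105089b) (.leaf (nat_lit 0x1050899) (nat_lit 3076))
 (.leaf (nat_lit 0x105089b) (nat_lit 2820))
))) (.node (nat_lit 0x10508c1) (.node (nat_lit 0x105089f) (.leaf (nat_lit 0x105089d) (nat_lit 2820))
 (.leaf (nat_lit 0x105089f) (nat_lit 2564))
) (.node (nat_lit 0x10508c3) (.leaf (nat_lit 0x10508c1) (nat_lit 772))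
 (.node (nat_lit 0x10508c5) (.leaf (nat_lit 0x10508c3) (nat_lit 1028))
 (.leaf (nat_lit 0x10508c5) (nat_lit 1284))
)))) (.node (nat_lit 0x10508d1) (.node (nat_lit 0x10508cb) (.node (nat_lit 0x10508c9) (.leaf (nat_lit 0x10508c7) (nat_lit 1028))
 (.leaf (nat_lit 0x10508c9) (nat_lit 2308))
) (.node (nat_lit 0x10508cd) (.leaf (nat_lit 0x10508cb) (nat_lit 2052))
 (.node (nat_lit 0x10508cf) (.leaf (nat_lit 0x10508cd) (nat_lit 2052))
 (.leaf (nat_lit 0x10508cf) (nat_lit 2050))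
))) (.node (nat_lit 0x10508d7) (.node (nat_lit 0x10508d3) (.leaf (nat_lit 0x10508d1) (nat_lit 3332))
 (.node (nat_lit 0x10508d5) (.leaf (nat_lit 0x10508d3) (nat_lit 3076))
 (.leaf (nat_lit 0x10508d5) (nat_lit 3076))
)) (.node (nat_lit 0x10508d9) (.leaf (nat_lit 0x10508d7) (nat_lit 3076))
 (.node (nat_lit 0x10508db) (.leaf (nat_lit 0x10508d9) (nat_lit 2820))
 (.leaf (nat_lit 0x10508db) (nat_lit 2564))
)))))) (.node (nat_lit 0x10509c7) (.node (nat_lit 0x1050991) (.node (nat_lit 0x1050987) (.node (nat_lit 0x1050981) (.node (nat_lit 0x10508df) (.leaf (nat_lit 0x10508dd) (nat_lit 2564))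
 (.leaf (nat_lit 0x10508df) (nat_lit 2563))
) (.node (nat_lit 0x1050983) (.leaf (nat_lit 0x1050981) (nat_lit 1284))
 (.node (nat_lit 0x1050985) (.leaf (nat_lit 0x1050983) (nat_lit 1540))
 (.leaf (nat_lit 0x1050985) (nat_lit 2052))
))) (.node (nat_lit 0x105098b) (.node (nat_lit 0x1050989) (.leaf (nat_lit 0x1050987) (nat_lit 1796))
 (.leaf (nat_lit 0x1050989) (nat_lit 2308))
) (.node (nat_lit 0x105098d) (.leaf (nat_lit 0x105098b) (nat_lit 2052))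
 (.node (nat_lit 0x105098f) (.leaf (nat_lit 0x105098d) (nat_lit 1540))
 (.leaf (nat_lit 0x105098f) (nat_lit 1540))
)))) (.node (nat_lit 0x105099b) (.node (nat_lit 0x1050995) (.node (nat_lit 0x1050993) (.leaf (nat_lit 0x1050991) (nat_lit 3332))
 (.leaf (nat_lit 0x1050993) (nat_lit 3332))
) (.node (nat_lit 0x1050997) (.leaf (nat_lit 0x1050995) (nat_lit 3076))
 (.node (nat_lit 0x1050999) (.leaf (nat_lit 0x1050997) (nat_lit 2820))
 (.leaf (nat_lit 0x1050999) (nat_lit 3332))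
))) (.node (nat_lit 0x10509c1) (.node (nat_lit 0x105099d) (.leaf (nat_lit 0x105099b) (nat_lit 3076))
 (.node (nat_lit 0x105099f) (.leaf (nat_lit 0x105099d) (nat_lit 3076))
 (.leaf (nat_lit 0x105099f) (nat_lit 3076))
)) (.node (nat_lit 0x10509c3) (.leaf (nat_lit 0x10509c1) (nat_lit 1028))
 (.node (nat_lit 0x10509c5) (.leaf (nat_lit 0x10509c3) (nat_lit 1284))
 (.leaf (nat_lit 0x10509c5) (nat_lit 2052))
))))) (.node (nat_lit 0x10509db) (.node (nat_lit 0x10509d1) (.node (nat_lit 0x10509cb) (.node (nat_lit 0x10509c9) (.leaf (nat_lit 0x10509c7) (nat_lit 1796))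
 (.leaf (nat_lit 0x10509c9) (nat_lit 2052))
) (.node (nat_lit 0x10509cd) (.leaf (nat_lit 0x10509cb) (nat_lit 2308))
 (.node (nat_lit 0x10509cf) (.leaf (nat_lit 0x10509cd) (nat_lit 1540))
 (.leaf (nat_lit 0x10509cf) (nat_lit 1284))
))) (.node (nat_lit 0x10509d5) (.node (nat_lit 0x10509d3) (.leaf (nat_lit 0x10509d1) (nat_lit 3076))
 (.leaf (nat_lit 0x10509d3) (nat_lit 3332))
) (.node (nat_lit 0x10509d7) (.leaf (nat_lit 0x10509d5) (nat_lit 2820))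
 (.node (nat_lit 0x10509d9) (.leaf (nat_lit 0x10509d7) (nat_lit 2819))
 (.leaf (nat_lit 0x10509d9) (nat_lit 3076))
)))) (.node (nat_lit 0x1050a85) (.node (nat_lit 0x10509df) (.node (nat_lit 0x10509dd) (.leaf (nat_lit 0x10509db) (nat_lit 2820))
 (.leaf (nat_lit 0x10509dd) (nat_lit 3076))
) (.node (nat_lit 0x1050a81) (.leaf (nat_lit 0x10509df) (nat_lit 2820))
 (.node (nat_lit 0x1050a83) (.leaf (nat_lit 0x1050a81) (nat_lit 2052))
 (.leaf (nat_lit 0x1050a83) (nat_lit 2308))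
))) (.node (nat_lit 0x1050a8b) (.node (nat_lit 0x1050a87) (.leaf (nat_lit 0x1050a85) (nat_lit 2820))
 (.node (nat_lit 0x1050a89) (.leaf (nat_lit 0x1050a87) (nat_lit 2820))
 (.leaf (nat_lit 0x1050a89) (nat_lit 2821))
)) (.node (nat_lit 0x1050a8d) (.leaf (nat_lit 0x1050a8b) (nat_lit 2820))
 (.node (nat_lit 0x1050a8f) (.leaf (nat_lit 0x1050a8d) (nat_lit 2820))
 (.leaf (nat_lit 0x1050a8f) (nat_lit 2564))
)))))))) (.node (nat_lit 0x10510d9) (.node (nat_lit 0x1050bc5) (.node (nat_lit 0x1050adb) (.node (nat_lit 0x1050ac5) (.node (nat_lit 0x1050a9b) (.node (nat_lit 0x1050a95) (.node (nat_lit 0x1050a93) (.leaf (nat_lit 0x1050a91) (nat_lit 3076))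
 (.leaf (nat_lit 0x1050a93) (nat_lit 3076))
) (.node (nat_lit 0x1050a97) (.leaf (nat_lit 0x1050a95) (nat_lit 2308))
 (.node (nat_lit 0x1050a99) (.leaf (nat_lit 0x1050a97) (nat_lit 2308))
 (.leaf (nat_lit 0x1050a99) (nat_lit 3076))
))) (.node (nat_lit 0x1050a9f) (.node (nat_lit 0x1050a9d) (.leaf (nat_lit 0x1050a9b) (nat_lit 2820))
 (.leaf (nat_lit 0x1050a9d) (nat_lit 2820))
) (.node (nat_lit 0x1050ac1) (.leaf (nat_lit 0x1050a9f) (nat_lit 2564))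
 (.node (nat_lit 0x1050ac3) (.leaf (nat_lit 0x1050ac1) (nat_lit 1796))
 (.leaf (nat_lit 0x1050ac3) (nat_lit 2052))
)))) (.node (nat_lit 0x1050acf) (.node (nat_lit 0x1050ac9) (.node (nat_lit 0x1050ac7) (.leaf (nat_lit 0x1050ac5) (nat_lit 2820))
 (.leaf (nat_lit 0x1050ac7) (nat_lit 2564))
) (.node (nat_lit 0x1050acb) (.leaf (nat_lit 0x1050ac9) (nat_lit 2820))
 (.node (nat_lit 0x1050acd) (.leaf (nat_lit 0x1050acb) (nat_lit 2820))
 (.leaf (nat_lit 0x1050acd) (nat_lit 2820))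
))) (.node (nat_lit 0x1050ad5) (.node (nat_lit 0x1050ad1) (.leaf (nat_lit 0x1050acf) (nat_lit 2564))
 (.node (nat_lit 0x1050ad3) (.leaf (nat_lit 0x1050ad1) (nat_lit 2820))
 (.leaf (nat_lit 0x1050ad3) (nat_lit 3076))
)) (.node (nat_lit 0x1050ad7) (.leaf (nat_lit 0x1050ad5) (nat_lit 2308))
 (.node (nat_lit 0x1050ad9) (.leaf (nat_lit 0x1050ad7) (nat_lit 2052))
 (.leaf (nat_lit 0x1050ad9) (nat_lit 2820))
))))) (.node (nat_lit 0x1050b8f) (.node (nat_lit 0x1050b85) (.node (nat_lit 0x1050adf) (.node (nat_lit 0x1050add) (.leaf (nat_lit 0x1050adb) (nat_lit 3076))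
 (.leaf (nat_lit 0x1050add) (nat_lit 2820))
) (.node (nat_lit 0x1050b81) (.leaf (nat_lit 0x1050adf) (nat_lit 2564))
 (.node (nat_lit 0x1050b83) (.leaf (nat_lit 0x1050b81) (nat_lit 1796))
 (.leaf (nat_lit 0x1050b83) (nat_lit 2052))
))) (.node (nat_lit 0x1050b89) (.node (nat_lit 0x1050b87) (.leaf (nat_lit 0x1050b85) (nat_lit 2564))
 (.leaf (nat_lit 0x1050b87) (nat_lit 2308))
) (.node (nat_lit 0x1050b8b) (.leaf (nat_lit 0x1050b89) (nat_lit 3077))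
 (.node (nat_lit 0x1050b8d) (.leaf (nat_lit 0x1050b8b) (nat_lit 3076))
 (.leaf (nat_lit 0x1050b8d) (nat_lit 3076))
)))) (.node (nat_lit 0x1050b99) (.node (nat_lit 0x1050b93) (.node (nat_lit 0x1050b91) (.leaf (nat_lit 0x1050b8f) (nat_lit 3074))
 (.leaf (nat_lit 0x1050b91) (nat_lit 3332))
) (.node (nat_lit 0x1050b95) (.leaf (nat_lit 0x1050b93) (nat_lit 3330))
 (.node (nat_lit 0x1050b97) (.leaf (nat_lit 0x1050b95) (nat_lit 3076))
 (.leaf (nat_lit 0x1050b97) (nat_lit 2820))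
))) (.node (nat_lit 0x1050b9f) (.node (nat_lit 0x1050b9b) (.leaf (nat_lit 0x1050b99) (nat_lit 2820))
 (.node (nat_lit 0x1050b9d) (.leaf (nat_lit 0x1050b9b) (nat_lit 2564))
 (.leaf (nat_lit 0x1050b9d) (nat_lit 2052))
)) (.node (nat_lit 0x1050bc1) (.leaf (nat_lit 0x1050b9f) (nat_lit 2052))
 (.node (nat_lit 0x1050bc3) (.leaf (nat_lit 0x1050bc1) (nat_lit 1540))
 (.leaf (nat_lit 0x1050bc3) (nat_lit 1796))
)))))) (.node (nat_lit 0x105104f) (.node (nat_lit 0x1050bd9) (.node (nat_lit 0x1050bcf) (.node (nat_lit 0x1050bc9) (.node (nat_lit 0x1050bc7) (.leaf (nat_lit 0x1050bc5) (nat_lit 2564))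
 (.leaf (nat_lit 0x1050bc7) (nat_lit 2308))
) (.node (nat_lit 0x1050bcb) (.leaf (nat_lit 0x1050bc9) (nat_lit 2821))
 (.node (nat_lit 0x1050bcd) (.leaf (nat_lit 0x1050bcb) (nat_lit 2820))
 (.leaf (nat_lit 0x1050bcd) (nat_lit 3076))
))) (.node (nat_lit 0x1050bd3) (.node (nat_lit 0x1050bd1) (.leaf (nat_lit 0x1050bcf) (nat_lit 2820))
 (.leaf (nat_lit 0x1050bd1) (nat_lit 3076))
) (.node (nat_lit 0x1050bd5) (.leaf (nat_lit 0x1050bd3) (nat_lit 3332))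
 (.node (nat_lit 0x1050bd7) (.leaf (nat_lit 0x1050bd5) (nat_lit 2820))
 (.leaf (nat_lit 0x1050bd7) (nat_lit 2820))
)))) (.node (nat_lit 0x1051043) (.node (nat_lit 0x1050bdd) (.node (nat_lit 0x1050bdb) (.leaf (nat_lit 0x1050bd9) (nat_lit 2564))
 (.leaf (nat_lit 0x1050bdb) (nat_lit 2820))
) (.node (nat_lit 0x1050bdf) (.leaf (nat_lit 0x1050bdd) (nat_lit 2052))
 (.node (nat_lit 0x1051041) (.leaf (nat_lit 0x1050bdf) (nat_lit 1796))
 (.leaf (nat_lit 0x1051041) (nat_lit 1029))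
))) (.node (nat_lit 0x1051049) (.node (nat_lit 0x1051045) (.leaf (nat_lit 0x1051043) (nat_lit 1285))
 (.node (nat_lit 0x1051047) (.leaf (nat_lit 0x1051045) (nat_lit 1793))
 (.leaf (nat_lit 0x1051047) (nat_lit 1537))
)) (.node (nat_lit 0x105104b) (.leaf (nat_lit 0x1051049) (nat_lit 2309))
 (.node (nat_lit 0x105104d) (.leaf (nat_lit 0x105104b) (nat_lit 2309))
 (.leaf (nat_lit 0x105104d) (nat_lit 2050))
))))) (.node (nat_lit 0x10510c3) (.node (nat_lit 0x1051059) (.node (nat_lit 0x1051053) (.node (nat_lit 0x1051051) (.leaf (nat_lit 0x105104f) (nat_lit 2050))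
 (.leaf (nat_lit 0x1051051) (nat_lit 3841))
) (.node (nat_lit 0x1051055) (.leaf (nat_lit 0x1051053) (nat_lit 3585))
 (.node (nat_lit 0x1051057) (.leaf (nat_lit 0x1051055) (nat_lit 3330))
 (.leaf (nat_lit 0x1051057) (nat_lit 3074))
))) (.node (nat_lit 0x105105d) (.node (nat_lit 0x105105b) (.leaf (nat_lit 0x1051059) (nat_lit 2821))
 (.leaf (nat_lit 0x105105b) (nat_lit 2821))
) (.node (nat_lit 0x105105f) (.leaf (nat_lit 0x105105d) (nat_lit 2563))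
 (.node (nat_lit 0x10510c1) (.leaf (nat_lit 0x105105f) (nat_lit 2563))
 (.leaf (nat_lit 0x10510c1) (nat_lit 1029))
)))) (.node (nat_lit 0x10510cd) (.node (nat_lit 0x10510c7) (.node (nat_lit 0x10510c5) (.leaf (nat_lit 0x10510c3) (nat_lit 1285))
 (.leaf (nat_lit 0x10510c5) (nat_lit 1541))
) (.node (nat_lit 0x10510c9) (.leaf (nat_lit 0x10510c7) (nat_lit 1285))
 (.node (nat_lit 0x10510cb) (.leaf (nat_lit 0x10510c9) (nat_lit 2306))
 (.leaf (nat_lit 0x10510cb) (nat_lit 2309))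
))) (.node (nat_lit 0x10510d3) (.node (nat_lit 0x10510cf) (.leaf (nat_lit 0x10510cd) (nat_lit 2309))
 (.node (nat_lit 0x10510d1) (.leaf (nat_lit 0x10510cf) (nat_lit 2309))
 (.leaf (nat_lit 0x10510d1) (nat_lit 3589))
)) (.node (nat_lit 0x10510d5) (.leaf (nat_lit 0x10510d3) (nat_lit 3333))
 (.node (nat_lit 0x10510d7) (.leaf (nat_lit 0x10510d5) (nat_lit 3333))
 (.leaf (nat_lit 0x10510d7) (nat_lit 3333))
))))))) (.node (nat_lit 0x105124d) (.node (nat_lit 0x1051183) (.node (nat_lit 0x105110d) (.node (nat_lit 0x1051103) (.node (nat_lit 0x10510dd) (.node (nat_lit 0x10510db) (.leaf (nat_lit 0x10510d9) (nat_lit 2819))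
 (.leaf (nat_lit 0x10510db) (nat_lit 2821))
) (.node (nat_lit 0x10510df) (.leaf (nat_lit 0x10510dd) (nat_lit 2821))
 (.node (nat_lit 0x1051101) (.leaf (nat_lit 0x10510df) (nat_lit 2821))
 (.leaf (nat_lit 0x1051101) (nat_lit 1794))
))) (.node (nat_lit 0x1051107) (.node (nat_lit 0x1051105) (.leaf (nat_lit 0x1051103) (nat_lit 2050))
 (.leaf (nat_lit 0x1051105) (nat_lit 2053))
) (.node (nat_lit 0x1051109) (.leaf (nat_lit 0x1051107) (nat_lit 2050))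
 (.node (nat_lit 0x105110b) (.leaf (nat_lit 0x1051109) (nat_lit 2050))
 (.leaf (nat_lit 0x105110b) (nat_lit 2306))
)))) (.node (nat_lit 0x1051117) (.node (nat_lit 0x1051111) (.node (nat_lit 0x105110f) (.leaf (nat_lit 0x105110d) (nat_lit 2049))
 (.leaf (nat_lit 0x105110f) (nat_lit 2305))
) (.node (nat_lit 0x1051113) (.leaf (nat_lit 0x1051111) (nat_lit 3842))
 (.node (nat_lit 0x1051115) (.leaf (nat_lit 0x1051113) (nat_lit 3586))
 (.leaf (nat_lit 0x1051115) (nat_lit 3586))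
))) (.node (nat_lit 0x105111d) (.node (nat_lit 0x1051119) (.leaf (nat_lit 0x1051117) (nat_lit 3587))
 (.node (nat_lit 0x105111b) (.leaf (nat_lit 0x1051119) (nat_lit 3586))
 (.leaf (nat_lit 0x105111b) (nat_lit 3586))
)) (.node (nat_lit 0x105111f) (.leaf (nat_lit 0x105111d) (nat_lit 3586))
 (.node (nat_lit 0x1051181) (.leaf (nat_lit 0x105111f) (nat_lit 3586))
 (.leaf (nat_lit 0x1051181) (nat_lit 1538))
))))) (.node (nat_lit 0x1051197) (.node (nat_lit 0x105118d) (.node (nat_lit 0x1051187) (.node (nat_lit 0x1051185) (.leaf (nat_lit 0x1051183) (nat_lit 1794))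
 (.leaf (nat_lit 0x1051185) (nat_lit 2053))
) (.node (nat_lit 0x1051189) (.leaf (nat_lit 0x1051187) (nat_lit 2053))
 (.node (nat_lit 0x105118b) (.leaf (nat_lit 0x1051189) (nat_lit 2309))
 (.leaf (nat_lit 0x105118b) (nat_lit 2309))
))) (.node (nat_lit 0x1051191) (.node (nat_lit 0x105118f) (.leaf (nat_lit 0x105118d) (nat_lit 1794))
 (.leaf (nat_lit 0x105118f) (nat_lit 2050))
) (.node (nat_lit 0x1051193) (.leaf (nat_lit 0x1051191) (nat_lit 3587))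
 (.node (nat_lit 0x1051195) (.leaf (nat_lit 0x1051193) (nat_lit 3331))
 (.leaf (nat_lit 0x1051195) (nat_lit 3586))
)))) (.node (nat_lit 0x1051241) (.node (nat_lit 0x105119b) (.node (nat_lit 0x1051199) (.leaf (nat_lit 0x1051197) (nat_lit 3330))
 (.leaf (nat_lit 0x1051199) (nat_lit 3330))
) (.node (nat_lit 0x105119d) (.leaf (nat_lit 0x105119b) (nat_lit 3330))
 (.node (nat_lit 0x105119f) (.leaf (nat_lit 0x105119d) (nat_lit 3330))
 (.leaf (nat_lit 0x105119f) (nat_lit 3330))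
))) (.node (nat_lit 0x1051247) (.node (nat_lit 0x1051243) (.leaf (nat_lit 0x1051241) (nat_lit 2309))
 (.node (nat_lit 0x1051245) (.leaf (nat_lit 0x1051243) (nat_lit 2565))
 (.leaf (nat_lit 0x1051245) (nat_lit 2565))
)) (.node (nat_lit 0x1051249) (.leaf (nat_lit 0x1051247) (nat_lit 2821))
 (.node (nat_lit 0x105124b) (.leaf (nat_lit 0x1051249) (nat_lit 3333))
 (.leaf (nat_lit 0x105124b) (nat_lit 3077))
)))))) (.node (nat_lit 0x10512d7) (.node (nat_lit 0x10512c1) (.node (nat_lit 0x1051257) (.node (nat_lit 0x1051251) (.node (nat_lit 0x105124f) (.leaf (nat_lit 0x105124d) (nat_lit 3074))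
 (.leaf (nat_lit 0x105124f) (nat_lit 2818))
) (.node (nat_lit 0x1051253) (.leaf (nat_lit 0x1051251) (nat_lit 2821))
 (.node (nat_lit 0x1051255) (.leaf (nat_lit 0x1051253) (nat_lit 2565))
 (.leaf (nat_lit 0x1051255) (nat_lit 3073))
))) (.node (nat_lit 0x105125b) (.node (nat_lit 0x1051259) (.leaf (nat_lit 0x1051257) (nat_lit 2817))
 (.leaf (nat_lit 0x1051259) (nat_lit 3329))
) (.node (nat_lit 0x105125d) (.leaf (nat_lit 0x105125b) (nat_lit 3585))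
 (.node (nat_lit 0x105125f) (.leaf (nat_lit 0x105125d) (nat_lit 3074))
 (.leaf (nat_lit 0x105125f) (nat_lit 3330))
)))) (.node (nat_lit 0x10512cb) (.node (nat_lit 0x10512c5) (.node (nat_lit 0x10512c3) (.leaf (nat_lit 0x10512c1) (nat_lit 2309))
 (.leaf (nat_lit 0x10512c3) (nat_lit 2565))
) (.node (nat_lit 0x10512c7) (.leaf (nat_lit 0x10512c5) (nat_lit 2565))
 (.node (nat_lit 0x10512c9) (.leaf (nat_lit 0x10512c7) (nat_lit 2565))
 (.leaf (nat_lit 0x10512c9) (nat_lit 3333))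
))) (.node (nat_lit 0x10512d1) (.node (nat_lit 0x10512cd) (.leaf (nat_lit 0x10512cb) (nat_lit 3077))
 (.node (nat_lit 0x10512cf) (.leaf (nat_lit 0x10512cd) (nat_lit 3077))
 (.leaf (nat_lit 0x10512cf) (nat_lit 2821))
)) (.node (nat_lit 0x10512d3) (.leaf (nat_lit 0x10512d1) (nat_lit 2821))
 (.node (nat_lit 0x10512d5) (.leaf (nat_lit 0x10512d3) (nat_lit 2821))
 (.leaf (nat_lit 0x10512d5) (nat_lit 2821))
))))) (.node (nat_lit 0x105130b) (.node (nat_lit 0x1051301) (.node (nat_lit 0x10512db) (.node (nat_lit 0x10512d9) (.leaf (nat_lit 0x10512d7) (nat_lit 2565))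
 (.leaf (nat_lit 0x10512d9) (nat_lit 3077))
) (.node (nat_lit 0x10512dd) (.leaf (nat_lit 0x10512db) (nat_lit 3333))
 (.node (nat_lit 0x10512df) (.leaf (nat_lit 0x10512dd) (nat_lit 3333))
 (.leaf (nat_lit 0x10512df) (nat_lit 3333))
))) (.node (nat_lit 0x1051305) (.node (nat_lit 0x1051303) (.leaf (nat_lit 0x1051301) (nat_lit 2307))
 (.leaf (nat_lit 0x1051303) (nat_lit 2563))
) (.node (nat_lit 0x1051307) (.leaf (nat_lit 0x1051305) (nat_lit 2565))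
 (.node (nat_lit 0x1051309) (.leaf (nat_lit 0x1051307) (nat_lit 2563))
 (.leaf (nat_lit 0x1051309) (nat_lit 3589))
)))) (.node (nat_lit 0x1051315) (.node (nat_lit 0x105130f) (.node (nat_lit 0x105130d) (.leaf (nat_lit 0x105130b) (nat_lit 3333))
 (.leaf (nat_lit 0x105130d) (nat_lit 3074))
) (.node (nat_lit 0x1051311) (.leaf (nat_lit 0x105130f) (nat_lit 3073))
 (.node (nat_lit 0x1051313) (.leaf (nat_lit 0x1051311) (nat_lit 3585))
 (.leaf (nat_lit 0x1051313) (nat_lit 3329))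
))) (.node (nat_lit 0x105131b) (.node (nat_lit 0x1051317) (.leaf (nat_lit 0x1051315) (nat_lit 3330))
 (.node (nat_lit 0x1051319) (.leaf (nat_lit 0x1051317) (nat_lit 3074))
 (.leaf (nat_lit 0x1051319) (nat_lit 2563))
)) (.node (nat_lit 0x105131d) (.leaf (nat_lit 0x105131b) (nat_lit 2819))
 (.node (nat_lit 0x105131f) (.leaf (nat_lit 0x105131d) (nat_lit 2563))
 (.leaf (nat_lit 0x105131f) (nat_lit 2819))
))))))))) (.node (nat_lit 0x10520d1) (.node (nat_lit 0x1051a49) (.node (nat_lit 0x1051895) (.node (nat_lit 0x105184b) (.node (nat_lit 0x1051395) (.node (nat_lit 0x105138b) (.node (nat_lit 0x1051385) (.node (nat_lit 0x1051383) (.leaf (nat_lit 0x1051381) (nat_lit 2051))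
 (.leaf (nat_lit 0x1051383) (nat_lit 2307))
) (.node (nat_lit 0x1051387) (.leaf (nat_lit 0x1051385) (nat_lit 2565))
 (.node (nat_lit 0x1051389) (.leaf (nat_lit 0x1051387) (nat_lit 2565))
 (.leaf (nat_lit 0x1051389) (nat_lit 3332))
))) (.node (nat_lit 0x105138f) (.node (nat_lit 0x105138d) (.leaf (nat_lit 0x105138b) (nat_lit 3076))
 (.leaf (nat_lit 0x105138d) (nat_lit 3077))
) (.node (nat_lit 0x1051391) (.leaf (nat_lit 0x105138f) (nat_lit 2821))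
 (.node (nat_lit 0x1051393) (.leaf (nat_lit 0x1051391) (nat_lit 3333))
 (.leaf (nat_lit 0x1051393) (nat_lit 3077))
)))) (.node (nat_lit 0x105139f) (.node (nat_lit 0x1051399) (.node (nat_lit 0x1051397) (.leaf (nat_lit 0x1051395) (nat_lit 3589))
 (.leaf (nat_lit 0x1051397) (nat_lit 3333))
) (.node (nat_lit 0x105139b) (.leaf (nat_lit 0x1051399) (nat_lit 2821))
 (.node (nat_lit 0x105139d) (.leaf (nat_lit 0x105139b) (nat_lit 2821))
 (.leaf (nat_lit 0x105139d) (nat_lit 2307))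
))) (.node (nat_lit 0x1051845) (.node (nat_lit 0x1051841) (.leaf (nat_lit 0x105139f) (nat_lit 2563))
 (.node (nat_lit 0x1051843) (.leaf (nat_lit 0x1051841) (nat_lit 772))
 (.leaf (nat_lit 0x1051843) (nat_lit 1028))
)) (.node (nat_lit 0x1051847) (.leaf (nat_lit 0x1051845) (nat_lit 1540))
 (.node (nat_lit 0x1051849) (.leaf (nat_lit 0x1051847) (nat_lit 1540))
 (.leaf (nat_lit 0x1051849) (nat_lit 2052))
))))) (.node (nat_lit 0x105185f) (.node (nat_lit 0x1051855) (.node (nat_lit 0x105184f) (.node (nat_lit 0x105184d) (.leaf (nat_lit 0x105184b) (nat_lit 2052))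
 (.leaf (nat_lit 0x105184d) (nat_lit 2308))
) (.node (nat_lit 0x1051851) (.leaf (nat_lit 0x105184f) (nat_lit 2052))
 (.node (nat_lit 0x1051853) (.leaf (nat_lit 0x1051851) (nat_lit 3844))
 (.leaf (nat_lit 0x1051853) (nat_lit 3588))
))) (.node (nat_lit 0x1051859) (.node (nat_lit 0x1051857) (.leaf (nat_lit 0x1051855) (nat_lit 3074))
 (.leaf (nat_lit 0x1051857) (nat_lit 3076))
) (.node (nat_lit 0x105185b) (.leaf (nat_lit 0x1051859) (nat_lit 2564))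
 (.node (nat_lit 0x105185d) (.leaf (nat_lit 0x105185b) (nat_lit 2564))
 (.leaf (nat_lit 0x105185d) (nat_lit 2820))
)))) (.node (nat_lit 0x1051889) (.node (nat_lit 0x1051883) (.node (nat_lit 0x1051881) (.leaf (nat_lit 0x105185f) (nat_lit 2564))
 (.leaf (nat_lit 0x1051881) (nat_lit 1028))
) (.node (nat_lit 0x1051885) (.leaf (nat_lit 0x1051883) (nat_lit 1284))
 (.node (nat_lit 0x1051887) (.leaf (nat_lit 0x1051885) (nat_lit 1284))
 (.leaf (nat_lit 0x1051887) (nat_lit 1540))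
))) (.node (nat_lit 0x105188f) (.node (nat_lit 0x105188b) (.leaf (nat_lit 0x1051889) (nat_lit 2308))
 (.node (nat_lit 0x105188d) (.leaf (nat_lit 0x105188b) (nat_lit 2308))
 (.leaf (nat_lit 0x105188d) (nat_lit 2564))
)) (.node (nat_lit 0x1051891) (.leaf (nat_lit 0x105188f) (nat_lit 2308))
 (.node (nat_lit 0x1051893) (.leaf (nat_lit 0x1051891) (nat_lit 3588))
 (.leaf (nat_lit 0x1051893) (nat_lit 3332))
)))))) (.node (nat_lit 0x105191f) (.node (nat_lit 0x1051909) (.node (nat_lit 0x105189f) (.node (nat_lit 0x1051899) (.node (nat_lit 0x1051897) (.leaf (nat_lit 0x1051895) (nat_lit 3329))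
 (.leaf (nat_lit 0x1051897) (nat_lit 3332))
) (.node (nat_lit 0x105189b) (.leaf (nat_lit 0x1051899) (nat_lit 2820))
 (.node (nat_lit 0x105189d) (.leaf (nat_lit 0x105189b) (nat_lit 2820))
 (.leaf (nat_lit 0x105189d) (nat_lit 3076))
))) (.node (nat_lit 0x1051903) (.node (nat_lit 0x1051901) (.leaf (nat_lit 0x105189f) (nat_lit 2820))
 (.leaf (nat_lit 0x1051901) (nat_lit 1540))
) (.node (nat_lit 0x1051905) (.leaf (nat_lit 0x1051903) (nat_lit 1796))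
 (.node (nat_lit 0x1051907) (.leaf (nat_lit 0x1051905) (nat_lit 2050))
 (.leaf (nat_lit 0x1051907) (nat_lit 2052))
)))) (.node (nat_lit 0x1051913) (.node (nat_lit 0x105190d) (.node (nat_lit 0x105190b) (.leaf (nat_lit 0x1051909) (nat_lit 1796))
 (.leaf (nat_lit 0x105190b) (nat_lit 2052))
) (.node (nat_lit 0x105190f) (.leaf (nat_lit 0x105190d) (nat_lit 2308))
 (.node (nat_lit 0x1051911) (.leaf (nat_lit 0x105190f) (nat_lit 2052))
 (.leaf (nat_lit 0x1051911) (nat_lit 3588))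
))) (.node (nat_lit 0x1051919) (.node (nat_lit 0x1051915) (.leaf (nat_lit 0x1051913) (nat_lit 3332))
 (.node (nat_lit 0x1051917) (.leaf (nat_lit 0x1051915) (nat_lit 3331))
 (.leaf (nat_lit 0x1051917) (nat_lit 3332))
)) (.node (nat_lit 0x105191b) (.leaf (nat_lit 0x1051919) (nat_lit 3332))
 (.node (nat_lit 0x105191d) (.leaf (nat_lit 0x105191b) (nat_lit 3332))
 (.leaf (nat_lit 0x105191d) (nat_lit 3588))
))))) (.node (nat_lit 0x10519d3) (.node (nat_lit 0x10519c9) (.node (nat_lit 0x10519c3) (.node (nat_lit 0x10519c1) (.leaf (nat_lit 0x105191f) (nat_lit 3332))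
 (.leaf (nat_lit 0x10519c1) (nat_lit 1540))
) (.node (nat_lit 0x10519c5) (.leaf (nat_lit 0x10519c3) (nat_lit 1796))
 (.node (nat_lit 0x10519c7) (.leaf (nat_lit 0x10519c5) (nat_lit 2052))
 (.leaf (nat_lit 0x10519c7) (nat_lit 1796))
))) (.node (nat_lit 0x10519cd) (.node (nat_lit 0x10519cb) (.leaf (nat_lit 0x10519c9) (nat_lit 2052))
 (.leaf (nat_lit 0x10519cb) (nat_lit 2308))
) (.node (nat_lit 0x10519cf) (.leaf (nat_lit 0x10519cd) (nat_lit 2052))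
 (.node (nat_lit 0x10519d1) (.leaf (nat_lit 0x10519cf) (nat_lit 1796))
 (.leaf (nat_lit 0x10519d1) (nat_lit 3587))
)))) (.node (nat_lit 0x10519dd) (.node (nat_lit 0x10519d7) (.node (nat_lit 0x10519d5) (.leaf (nat_lit 0x10519d3) (nat_lit 3331))
 (.leaf (nat_lit 0x10519d5) (nat_lit 3332))
) (.node (nat_lit 0x10519d9) (.leaf (nat_lit 0x10519d7) (nat_lit 3333))
 (.node (nat_lit 0x10519db) (.leaf (nat_lit 0x10519d9) (nat_lit 3330))
 (.leaf (nat_lit 0x10519db) (nat_lit 3332))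
))) (.node (nat_lit 0x1051a43) (.node (nat_lit 0x10519df) (.leaf (nat_lit 0x10519dd) (nat_lit 3333))
 (.node (nat_lit 0x1051a41) (.leaf (nat_lit 0x10519df) (nat_lit 3332))
 (.leaf (nat_lit 0x1051a41) (nat_lit 2052))
)) (.node (nat_lit 0x1051a45) (.leaf (nat_lit 0x1051a43) (nat_lit 2308))
 (.node (nat_lit 0x1051a47) (.leaf (nat_lit 0x1051a45) (nat_lit 2564))
 (.leaf (nat_lit 0x1051a47) (nat_lit 2308))
))))))) (.node (nat_lit 0x1051b1d) (.node (nat_lit 0x1051a93) (.node (nat_lit 0x1051a5d) (.node (nat_lit 0x1051a53) (.node (nat_lit 0x1051a4d) (.node (nat_lit 0x1051a4b) (.leaf (nat_lit 0x1051a49) (nat_lit 3076))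
 (.leaf (nat_lit 0x1051a4b) (nat_lit 2820))
) (.node (nat_lit 0x1051a4f) (.leaf (nat_lit 0x1051a4d) (nat_lit 3076))
 (.node (nat_lit 0x1051a51) (.leaf (nat_lit 0x1051a4f) (nat_lit 3076))
 (.leaf (nat_lit 0x1051a51) (nat_lit 2564))
))) (.node (nat_lit 0x1051a57) (.node (nat_lit 0x1051a55) (.leaf (nat_lit 0x1051a53) (nat_lit 2308))
 (.leaf (nat_lit 0x1051a55) (nat_lit 2564))
) (.node (nat_lit 0x1051a59) (.leaf (nat_lit 0x1051a57) (nat_lit 2820))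
 (.node (nat_lit 0x1051a5b) (.leaf (nat_lit 0x1051a59) (nat_lit 3076))
 (.leaf (nat_lit 0x1051a5b) (nat_lit 3332))
)))) (.node (nat_lit 0x1051a87) (.node (nat_lit 0x1051a81) (.node (nat_lit 0x1051a5f) (.leaf (nat_lit 0x1051a5d) (nat_lit 3330))
 (.leaf (nat_lit 0x1051a5f) (nat_lit 3074))
) (.node (nat_lit 0x1051a83) (.leaf (nat_lit 0x1051a81) (nat_lit 2053))
 (.node (nat_lit 0x1051a85) (.leaf (nat_lit 0x1051a83) (nat_lit 2309))
 (.leaf (nat_lit 0x1051a85) (nat_lit 2565))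
))) (.node (nat_lit 0x1051a8d) (.node (nat_lit 0x1051a89) (.leaf (nat_lit 0x1051a87) (nat_lit 2309))
 (.node (nat_lit 0x1051a8b) (.leaf (nat_lit 0x1051a89) (nat_lit 3077))
 (.leaf (nat_lit 0x1051a8b) (nat_lit 2821))
)) (.node (nat_lit 0x1051a8f) (.leaf (nat_lit 0x1051a8d) (nat_lit 2821))
 (.node (nat_lit 0x1051a91) (.leaf (nat_lit 0x1051a8f) (nat_lit 3077))
 (.leaf (nat_lit 0x1051a91) (nat_lit 2821))
))))) (.node (nat_lit 0x1051b07) (.node (nat_lit 0x1051a9d) (.node (nat_lit 0x1051a97) (.node (nat_lit 0x1051a95) (.leaf (nat_lit 0x1051a93) (nat_lit 2565))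
 (.leaf (nat_lit 0x1051a95) (nat_lit 2309))
) (.node (nat_lit 0x1051a99) (.leaf (nat_lit 0x1051a97) (nat_lit 2565))
 (.node (nat_lit 0x1051a9b) (.leaf (nat_lit 0x1051a99) (nat_lit 3077))
 (.leaf (nat_lit 0x1051a9b) (nat_lit 3333))
))) (.node (nat_lit 0x1051b01) (.node (nat_lit 0x1051a9f) (.leaf (nat_lit 0x1051a9d) (nat_lit 3333))
 (.leaf (nat_lit 0x1051a9f) (nat_lit 3077))
) (.node (nat_lit 0x1051b03) (.leaf (nat_lit 0x1051b01) (nat_lit 2052))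
 (.node (nat_lit 0x1051b05) (.leaf (nat_lit 0x1051b03) (nat_lit 2308))
 (.leaf (nat_lit 0x1051b05) (nat_lit 2563))
)))) (.node (nat_lit 0x1051b11) (.node (nat_lit 0x1051b0b) (.node (nat_lit 0x1051b09) (.leaf (nat_lit 0x1051b07) (nat_lit 2565))
 (.leaf (nat_lit 0x1051b09) (nat_lit 3333))
) (.node (nat_lit 0x1051b0d) (.leaf (nat_lit 0x1051b0b) (nat_lit 3077))
 (.node (nat_lit 0x1051b0f) (.leaf (nat_lit 0x1051b0d) (nat_lit 3077))
 (.leaf (nat_lit 0x1051b0f) (nat_lit 3074))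
))) (.node (nat_lit 0x1051b17) (.node (nat_lit 0x1051b13) (.leaf (nat_lit 0x1051b11) (nat_lit 3332))
 (.node (nat_lit 0x1051b15) (.leaf (nat_lit 0x1051b13) (nat_lit 3076))
 (.leaf (nat_lit 0x1051b15) (nat_lit 3074))
)) (.node (nat_lit 0x1051b19) (.leaf (nat_lit 0x1051b17) (nat_lit 3330))
 (.node (nat_lit 0x1051b1b) (.leaf (nat_lit 0x1051b19) (nat_lit 2308))
 (.leaf (nat_lit 0x1051b1b) (nat_lit 2564))
)))))) (.node (nat_lit 0x1052087) (.node (nat_lit 0x1051bd1) (.node (nat_lit 0x1051bc7) (.node (nat_lit 0x1051bc1) (.node (nat_lit 0x1051b1f) (.leaf (nat_lit 0x1051b1d) (nat_lit 2820))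
 (.leaf (nat_lit 0x1051b1f) (nat_lit 2564))
) (.node (nat_lit 0x1051bc3) (.leaf (nat_lit 0x1051bc1) (nat_lit 2052))
 (.node (nat_lit 0x1051bc5) (.leaf (nat_lit 0x1051bc3) (nat_lit 2308))
 (.leaf (nat_lit 0x1051bc5) (nat_lit 2564))
))) (.node (nat_lit 0x1051bcb) (.node (nat_lit 0x1051bc9) (.leaf (nat_lit 0x1051bc7) (nat_lit 2308))
 (.leaf (nat_lit 0x1051bc9) (nat_lit 3076))
) (.node (nat_lit 0x1051bcd) (.leaf (nat_lit 0x1051bcb) (nat_lit 2820))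
 (.node (nat_lit 0x1051bcf) (.leaf (nat_lit 0x1051bcd) (nat_lit 2821))
 (.leaf (nat_lit 0x1051bcf) (nat_lit 3077))
)))) (.node (nat_lit 0x1051bdb) (.node (nat_lit 0x1051bd5) (.node (nat_lit 0x1051bd3) (.leaf (nat_lit 0x1051bd1) (nat_lit 3332))
 (.leaf (nat_lit 0x1051bd3) (nat_lit 3076))
) (.node (nat_lit 0x1051bd7) (.leaf (nat_lit 0x1051bd5) (nat_lit 3076))
 (.node (nat_lit 0x1051bd9) (.leaf (nat_lit 0x1051bd7) (nat_lit 3332))
 (.leaf (nat_lit 0x1051bd9) (nat_lit 2564))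
))) (.node (nat_lit 0x1052081) (.node (nat_lit 0x1051bdd) (.leaf (nat_lit 0x1051bdb) (nat_lit 2820))
 (.node (nat_lit 0x1051bdf) (.leaf (nat_lit 0x1051bdd) (nat_lit 2564))
 (.leaf (nat_lit 0x1051bdf) (nat_lit 2308))
)) (.node (nat_lit 0x1052083) (.leaf (nat_lit 0x1052081) (nat_lit 1282))
 (.node (nat_lit 0x1052085) (.leaf (nat_lit 0x1052083) (nat_lit 1538))
 (.leaf (nat_lit 0x1052085) (nat_lit 1538))
))))) (.node (nat_lit 0x105209b) (.node (nat_lit 0x1052091) (.node (nat_lit 0x105208b) (.node (nat_lit 0x1052089) (.leaf (nat_lit 0x1052087) (nat_lit 1538))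
 (.leaf (nat_lit 0x1052089) (nat_lit 2305))
) (.node (nat_lit 0x105208d) (.leaf (nat_lit 0x105208b) (nat_lit 2305))
 (.node (nat_lit 0x105208f) (.leaf (nat_lit 0x105208d) (nat_lit 2049))
 (.leaf (nat_lit 0x105208f) (nat_lit 2049))
))) (.node (nat_lit 0x1052095) (.node (nat_lit 0x1052093) (.leaf (nat_lit 0x1052091) (nat_lit 3331))
 (.leaf (nat_lit 0x1052093) (nat_lit 3331))
) (.node (nat_lit 0x1052097) (.leaf (nat_lit 0x1052095) (nat_lit 3331))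
 (.node (nat_lit 0x1052099) (.leaf (nat_lit 0x1052097) (nat_lit 3075))
 (.leaf (nat_lit 0x1052099) (nat_lit 3330))
)))) (.node (nat_lit 0x10520c5) (.node (nat_lit 0x105209f) (.node (nat_lit 0x105209d) (.leaf (nat_lit 0x105209b) (nat_lit 3074))
 (.leaf (nat_lit 0x105209d) (nat_lit 3074))
) (.node (nat_lit 0x10520c1) (.leaf (nat_lit 0x105209f) (nat_lit 2818))
 (.node (nat_lit 0x10520c3) (.leaf (nat_lit 0x10520c1) (nat_lit 1026))
 (.leaf (nat_lit 0x10520c3) (nat_lit 1282))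
))) (.node (nat_lit 0x10520cb) (.node (nat_lit 0x10520c7) (.leaf (nat_lit 0x10520c5) (nat_lit 1538))
 (.node (nat_lit 0x10520c9) (.leaf (nat_lit 0x10520c7) (nat_lit 1282))
 (.leaf (nat_lit 0x10520c9) (nat_lit 2049))
)) (.node (nat_lit 0x10520cd) (.leaf (nat_lit 0x10520cb) (nat_lit 2305))
 (.node (nat_lit 0x10520cf) (.leaf (nat_lit 0x10520cd) (nat_lit 2049))
 (.leaf (nat_lit 0x10520cf) (nat_lit 1793))
)))))))) (.node (nat_lit 0x1052399) (.node (nat_lit 0x1052285) (.node (nat_lit 0x105219b) (.node (nat_lit 0x1052185) (.node (nat_lit 0x10520db) (.node (nat_lit 0x10520d5) (.node (nat_lit 0x10520d3) (.leaf (nat_lit 0x10520d1) (nat_lit 3331))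
 (.leaf (nat_lit 0x10520d3) (nat_lit 3075))
) (.node (nat_lit 0x10520d7) (.leaf (nat_lit 0x10520d5) (nat_lit 2819))
 (.node (nat_lit 0x10520d9) (.leaf (nat_lit 0x10520d7) (nat_lit 3075))
 (.leaf (nat_lit 0x10520d9) (nat_lit 3074))
))) (.node (nat_lit 0x10520df) (.node (nat_lit 0x10520dd) (.leaf (nat_lit 0x10520db) (nat_lit 2818))
 (.leaf (nat_lit 0x10520dd) (nat_lit 2818))
) (.node (nat_lit 0x1052181) (.leaf (nat_lit 0x10520df) (nat_lit 2818))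
 (.node (nat_lit 0x1052183) (.leaf (nat_lit 0x1052181) (nat_lit 1537))
 (.leaf (nat_lit 0x1052183) (nat_lit 1793))
)))) (.node (nat_lit 0x105218f) (.node (nat_lit 0x1052189) (.node (nat_lit 0x1052187) (.leaf (nat_lit 0x1052185) (nat_lit 1793))
 (.leaf (nat_lit 0x1052187) (nat_lit 1793))
) (.node (nat_lit 0x105218b) (.leaf (nat_lit 0x1052189) (nat_lit 2048))
 (.node (nat_lit 0x105218d) (.leaf (nat_lit 0x105218b) (nat_lit 2048))
 (.leaf (nat_lit 0x105218d) (nat_lit 1792))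
))) (.node (nat_lit 0x1052195) (.node (nat_lit 0x1052191) (.leaf (nat_lit 0x105218f) (nat_lit 1794))
 (.node (nat_lit 0x1052193) (.leaf (nat_lit 0x1052191) (nat_lit 3587))
 (.leaf (nat_lit 0x1052193) (nat_lit 3331))
)) (.node (nat_lit 0x1052197) (.leaf (nat_lit 0x1052195) (nat_lit 3330))
 (.node (nat_lit 0x1052199) (.leaf (nat_lit 0x1052197) (nat_lit 3074))
 (.leaf (nat_lit 0x1052199) (nat_lit 3585))
))))) (.node (nat_lit 0x10521cf) (.node (nat_lit 0x10521c5) (.node (nat_lit 0x105219f) (.node (nat_lit 0x105219d) (.leaf (nat_lit 0x105219b) (nat_lit 3329))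
 (.leaf (nat_lit 0x105219d) (nat_lit 3331))
) (.node (nat_lit 0x10521c1) (.leaf (nat_lit 0x105219f) (nat_lit 3075))
 (.node (nat_lit 0x10521c3) (.leaf (nat_lit 0x10521c1) (nat_lit 1281))
 (.leaf (nat_lit 0x10521c3) (nat_lit 1537))
))) (.node (nat_lit 0x10521c9) (.node (nat_lit 0x10521c7) (.leaf (nat_lit 0x10521c5) (nat_lit 1793))
 (.leaf (nat_lit 0x10521c7) (nat_lit 1537))
) (.node (nat_lit 0x10521cb) (.leaf (nat_lit 0x10521c9) (nat_lit 1792))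
 (.node (nat_lit 0x10521cd) (.leaf (nat_lit 0x10521cb) (nat_lit 2048))
 (.leaf (nat_lit 0x10521cd) (nat_lit 1792))
)))) (.node (nat_lit 0x10521d9) (.node (nat_lit 0x10521d3) (.node (nat_lit 0x10521d1) (.leaf (nat_lit 0x10521cf) (nat_lit 1536))
 (.leaf (nat_lit 0x10521d1) (nat_lit 3328))
) (.node (nat_lit 0x10521d5) (.leaf (nat_lit 0x10521d3) (nat_lit 3331))
 (.node (nat_lit 0x10521d7) (.leaf (nat_lit 0x10521d5) (nat_lit 3075))
 (.leaf (nat_lit 0x10521d7) (nat_lit 3074))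
))) (.node (nat_lit 0x10521df) (.node (nat_lit 0x10521db) (.leaf (nat_lit 0x10521d9) (nat_lit 3329))
 (.node (nat_lit 0x10521dd) (.leaf (nat_lit 0x10521db) (nat_lit 3073))
 (.leaf (nat_lit 0x10521dd) (nat_lit 3075))
)) (.node (nat_lit 0x1052281) (.leaf (nat_lit 0x10521df) (nat_lit 3073))
 (.node (nat_lit 0x1052283) (.leaf (nat_lit 0x1052281) (nat_lit 2307))
 (.leaf (nat_lit 0x1052283) (nat_lit 2563))
)))))) (.node (nat_lit 0x10522cf) (.node (nat_lit 0x1052299) (.node (nat_lit 0x105228f) (.node (nat_lit 0x1052289) (.node (nat_lit 0x1052287) (.leaf (nat_lit 0x1052285) (nat_lit 2819))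
 (.leaf (nat_lit 0x1052287) (nat_lit 2563))
) (.node (nat_lit 0x105228b) (.leaf (nat_lit 0x1052289) (nat_lit 2816))
 (.node (nat_lit 0x105228d) (.leaf (nat_lit 0x105228b) (nat_lit 2816))
 (.leaf (nat_lit 0x105228d) (nat_lit 3074))
))) (.node (nat_lit 0x1052293) (.node (nat_lit 0x1052291) (.leaf (nat_lit 0x105228f) (nat_lit 2818))
 (.leaf (nat_lit 0x1052291) (nat_lit 3075))
) (.node (nat_lit 0x1052295) (.leaf (nat_lit 0x1052293) (nat_lit 2819))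
 (.node (nat_lit 0x1052297) (.leaf (nat_lit 0x1052295) (nat_lit 2563))
 (.leaf (nat_lit 0x1052297) (nat_lit 2562))
)))) (.node (nat_lit 0x10522c3) (.node (nat_lit 0x105229d) (.node (nat_lit 0x105229b) (.leaf (nat_lit 0x1052299) (nat_lit 3329))
 (.leaf (nat_lit 0x105229b) (nat_lit 3073))
) (.node (nat_lit 0x105229f) (.leaf (nat_lit 0x105229d) (nat_lit 2561))
 (.node (nat_lit 0x10522c1) (.leaf (nat_lit 0x105229f) (nat_lit 2561))
 (.leaf (nat_lit 0x10522c1) (nat_lit 2050))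
))) (.node (nat_lit 0x10522c9) (.node (nat_lit 0x10522c5) (.leaf (nat_lit 0x10522c3) (nat_lit 2306))
 (.node (nat_lit 0x10522c7) (.leaf (nat_lit 0x10522c5) (nat_lit 2819))
 (.leaf (nat_lit 0x10522c7) (nat_lit 2818))
)) (.node (nat_lit 0x10522cb) (.leaf (nat_lit 0x10522c9) (nat_lit 2560))
 (.node (nat_lit 0x10522cd) (.leaf (nat_lit 0x10522cb) (nat_lit 2816))
 (.leaf (nat_lit 0x10522cd) (nat_lit 3074))
))))) (.node (nat_lit 0x1052383) (.node (nat_lit 0x10522d9) (.node (nat_lit 0x10522d3) (.node (nat_lit 0x10522d1) (.leaf (nat_lit 0x10522cf) (nat_lit 2818))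
 (.leaf (nat_lit 0x10522d1) (nat_lit 3074))
) (.node (nat_lit 0x10522d5) (.leaf (nat_lit 0x10522d3) (nat_lit 3075))
 (.node (nat_lit 0x10522d7) (.leaf (nat_lit 0x10522d5) (nat_lit 2562))
 (.leaf (nat_lit 0x10522d7) (nat_lit 2306))
))) (.node (nat_lit 0x10522dd) (.node (nat_lit 0x10522db) (.leaf (nat_lit 0x10522d9) (nat_lit 3073))
 (.leaf (nat_lit 0x10522db) (nat_lit 3329))
) (.node (nat_lit 0x10522df) (.leaf (nat_lit 0x10522dd) (nat_lit 2561))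
 (.node (nat_lit 0x1052381) (.leaf (nat_lit 0x10522df) (nat_lit 2305))
 (.leaf (nat_lit 0x1052381) (nat_lit 2050))
)))) (.node (nat_lit 0x105238d) (.node (nat_lit 0x1052387) (.node (nat_lit 0x1052385) (.leaf (nat_lit 0x1052383) (nat_lit 2306))
 (.leaf (nat_lit 0x1052385) (nat_lit 2818))
) (.node (nat_lit 0x1052389) (.leaf (nat_lit 0x1052387) (nat_lit 2562))
 (.node (nat_lit 0x105238b) (.leaf (nat_lit 0x1052389) (nat_lit 2821))
 (.leaf (nat_lit 0x105238b) (nat_lit 3077))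
))) (.node (nat_lit 0x1052393) (.node (nat_lit 0x105238f) (.leaf (nat_lit 0x105238d) (nat_lit 3075))
 (.node (nat_lit 0x1052391) (.leaf (nat_lit 0x105238f) (nat_lit 2819))
 (.leaf (nat_lit 0x1052391) (nat_lit 3331))
)) (.node (nat_lit 0x1052395) (.leaf (nat_lit 0x1052393) (nat_lit 3075))
 (.node (nat_lit 0x1052397) (.leaf (nat_lit 0x1052395) (nat_lit 2819))
 (.leaf (nat_lit 0x1052397) (nat_lit 2817))
))))))) (.node (nat_lit 0x105308d) (.node (nat_lit 0x1053043) (.node (nat_lit 0x10523cd) (.node (nat_lit 0x10523c3) (.node (nat_lit 0x105239d) (.node (nat_lit 0x105239b) (.leaf (nat_lit 0x1052399) (nat_lit 3074))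
 (.leaf (nat_lit 0x105239b) (nat_lit 2818))
) (.node (nat_lit 0x105239f) (.leaf (nat_lit 0x105239d) (nat_lit 2306))
 (.node (nat_lit 0x10523c1) (.leaf (nat_lit 0x105239f) (nat_lit 2306))
 (.leaf (nat_lit 0x10523c1) (nat_lit 1794))
))) (.node (nat_lit 0x10523c7) (.node (nat_lit 0x10523c5) (.leaf (nat_lit 0x10523c3) (nat_lit 2050))
 (.leaf (nat_lit 0x10523c5) (nat_lit 2818))
) (.node (nat_lit 0x10523c9) (.leaf (nat_lit 0x10523c7) (nat_lit 2562))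
 (.node (nat_lit 0x10523cb) (.leaf (nat_lit 0x10523c9) (nat_lit 2565))
 (.leaf (nat_lit 0x10523cb) (nat_lit 2821))
)))) (.node (nat_lit 0x10523d7) (.node (nat_lit 0x10523d1) (.node (nat_lit 0x10523cf) (.leaf (nat_lit 0x10523cd) (nat_lit 3075))
 (.leaf (nat_lit 0x10523cf) (nat_lit 3074))
) (.node (nat_lit 0x10523d3) (.leaf (nat_lit 0x10523d1) (nat_lit 3329))
 (.node (nat_lit 0x10523d5) (.leaf (nat_lit 0x10523d3) (nat_lit 3331))
 (.leaf (nat_lit 0x10523d5) (nat_lit 2817))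
))) (.node (nat_lit 0x10523dd) (.node (nat_lit 0x10523d9) (.leaf (nat_lit 0x10523d7) (nat_lit 2561))
 (.node (nat_lit 0x10523db) (.leaf (nat_lit 0x10523d9) (nat_lit 2818))
 (.leaf (nat_lit 0x10523db) (nat_lit 3074))
)) (.node (nat_lit 0x10523df) (.leaf (nat_lit 0x10523dd) (nat_lit 2306))
 (.node (nat_lit 0x1053041) (.leaf (nat_lit 0x10523df) (nat_lit 2050))
 (.leaf (nat_lit 0x1053041) (nat_lit 1026))
))))) (.node (nat_lit 0x1053057) (.node (nat_lit 0x105304d) (.node (nat_lit 0x1053047) (.node (nat_lit 0x1053045) (.leaf (nat_lit 0x1053043) (nat_lit 1282))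
 (.leaf (nat_lit 0x1053045) (nat_lit 1794))
) (.node (nat_lit 0x1053049) (.leaf (nat_lit 0x1053047) (nat_lit 1794))
 (.node (nat_lit 0x105304b) (.leaf (nat_lit 0x1053049) (nat_lit 2306))
 (.leaf (nat_lit 0x105304b) (nat_lit 2306))
))) (.node (nat_lit 0x1053051) (.node (nat_lit 0x105304f) (.leaf (nat_lit 0x105304d) (nat_lit 2049))
 (.leaf (nat_lit 0x105304f) (nat_lit 1793))
) (.node (nat_lit 0x1053053) (.leaf (nat_lit 0x1053051) (nat_lit 3587))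
 (.node (nat_lit 0x1053055) (.leaf (nat_lit 0x1053053) (nat_lit 3587))
 (.leaf (nat_lit 0x1053055) (nat_lit 2819))
)))) (.node (nat_lit 0x1053081) (.node (nat_lit 0x105305b) (.node (nat_lit 0x1053059) (.leaf (nat_lit 0x1053057) (nat_lit 2819))
 (.leaf (nat_lit 0x1053059) (nat_lit 2818))
) (.node (nat_lit 0x105305d) (.leaf (nat_lit 0x105305b) (nat_lit 2818))
 (.node (nat_lit 0x105305f) (.leaf (nat_lit 0x105305d) (nat_lit 3074))
 (.leaf (nat_lit 0x105305f) (nat_lit 2818))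
))) (.node (nat_lit 0x1053087) (.node (nat_lit 0x1053083) (.leaf (nat_lit 0x1053081) (nat_lit 1282))
 (.node (nat_lit 0x1053085) (.leaf (nat_lit 0x1053083) (nat_lit 1538))
 (.leaf (nat_lit 0x1053085) (nat_lit 1538))
)) (.node (nat_lit 0x1053089) (.leaf (nat_lit 0x1053087) (nat_lit 1794))
 (.node (nat_lit 0x105308b) (.leaf (nat_lit 0x1053089) (nat_lit 2049))
 (.leaf (nat_lit 0x105308b) (nat_lit 2305))
)))))) (.node (nat_lit 0x1053117) (.node (nat_lit 0x1053101) (.node (nat_lit 0x1053097) (.node (nat_lit 0x1053091) (.node (nat_lit 0x105308f) (.leaf (nat_lit 0x105308d) (nat_lit 2309))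
 (.leaf (nat_lit 0x105308f) (nat_lit 2309))
) (.node (nat_lit 0x1053093) (.leaf (nat_lit 0x1053091) (nat_lit 3331))
 (.node (nat_lit 0x1053095) (.leaf (nat_lit 0x1053093) (nat_lit 3075))
 (.leaf (nat_lit 0x1053095) (nat_lit 3589))
))) (.node (nat_lit 0x105309b) (.node (nat_lit 0x1053099) (.leaf (nat_lit 0x1053097) (nat_lit 3333))
 (.leaf (nat_lit 0x1053099) (nat_lit 3074))
) (.node (nat_lit 0x105309d) (.leaf (nat_lit 0x105309b) (nat_lit 3074))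
 (.node (nat_lit 0x105309f) (.leaf (nat_lit 0x105309d) (nat_lit 3330))
 (.leaf (nat_lit 0x105309f) (nat_lit 3074))
)))) (.node (nat_lit 0x105310b) (.node (nat_lit 0x1053105) (.node (nat_lit 0x1053103) (.leaf (nat_lit 0x1053101) (nat_lit 1537))
 (.leaf (nat_lit 0x1053103) (nat_lit 1793))
) (.node (nat_lit 0x1053107) (.leaf (nat_lit 0x1053105) (nat_lit 1793))
 (.node (nat_lit 0x1053109) (.leaf (nat_lit 0x1053107) (nat_lit 2049))
 (.leaf (nat_lit 0x1053109) (nat_lit 1792))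
))) (.node (nat_lit 0x1053111) (.node (nat_lit 0x105310d) (.leaf (nat_lit 0x105310b) (nat_lit 2048))
 (.node (nat_lit 0x105310f) (.leaf (nat_lit 0x105310d) (nat_lit 2048))
 (.leaf (nat_lit 0x105310f) (nat_lit 2304))
)) (.node (nat_lit 0x1053113) (.leaf (nat_lit 0x1053111) (nat_lit 3587))
 (.node (nat_lit 0x1053115) (.leaf (nat_lit 0x1053113) (nat_lit 3331))
 (.leaf (nat_lit 0x1053115) (nat_lit 3586))
))))) (.node (nat_lit 0x10531cb) (.node (nat_lit 0x10531c1) (.node (nat_lit 0x105311b) (.node (nat_lit 0x1053119) (.leaf (nat_lit 0x1053117) (nat_lit 3585))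
 (.leaf (nat_lit 0x1053119) (nat_lit 3329))
) (.node (nat_lit 0x105311d) (.leaf (nat_lit 0x105311b) (nat_lit 3329))
 (.node (nat_lit 0x105311f) (.leaf (nat_lit 0x105311d) (nat_lit 3585))
 (.leaf (nat_lit 0x105311f) (nat_lit 3329))
))) (.node (nat_lit 0x10531c5) (.node (nat_lit 0x10531c3) (.leaf (nat_lit 0x10531c1) (nat_lit 1285))
 (.leaf (nat_lit 0x10531c3) (nat_lit 1541))
) (.node (nat_lit 0x10531c7) (.leaf (nat_lit 0x10531c5) (nat_lit 2049))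
 (.node (nat_lit 0x10531c9) (.leaf (nat_lit 0x10531c7) (nat_lit 2053))
 (.leaf (nat_lit 0x10531c9) (nat_lit 2309))
)))) (.node (nat_lit 0x10531d5) (.node (nat_lit 0x10531cf) (.node (nat_lit 0x10531cd) (.leaf (nat_lit 0x10531cb) (nat_lit 2304))
 (.leaf (nat_lit 0x10531cd) (nat_lit 1797))
) (.node (nat_lit 0x10531d1) (.leaf (nat_lit 0x10531cf) (nat_lit 1541))
 (.node (nat_lit 0x10531d3) (.leaf (nat_lit 0x10531d1) (nat_lit 3333))
 (.leaf (nat_lit 0x10531d3) (nat_lit 3589))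
))) (.node (nat_lit 0x10531db) (.node (nat_lit 0x10531d7) (.leaf (nat_lit 0x10531d5) (nat_lit 3077))
 (.node (nat_lit 0x10531d9) (.leaf (nat_lit 0x10531d7) (nat_lit 3077))
 (.leaf (nat_lit 0x10531d9) (nat_lit 3075))
)) (.node (nat_lit 0x10531dd) (.leaf (nat_lit 0x10531db) (nat_lit 3077))
 (.node (nat_lit 0x10531df) (.leaf (nat_lit 0x10531dd) (nat_lit 3333))
 (.leaf (nat_lit 0x10531df) (nat_lit 3077))
))))))))))) (.node (nat_lit 0x1056381) (.node (nat_lit 0x10550c1) (.node (nat_lit 0x1053b11) (.node (nat_lit 0x10538c9) (.node (nat_lit 0x1053315) (.node (nat_lit 0x105328b) (.node (nat_lit 0x1053255) (.node (nat_lit 0x105324b) (.node (nat_lit 0x1053245) (.node (nat_lit 0x1053243) (.leaf (nat_lit 0x1053241) (nat_lit 2306))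
 (.leaf (nat_lit 0x1053243) (nat_lit 2562))
) (.node (nat_lit 0x1053247) (.leaf (nat_lit 0x1053245) (nat_lit 2818))
 (.node (nat_lit 0x1053249) (.leaf (nat_lit 0x1053247) (nat_lit 2562))
 (.leaf (nat_lit 0x1053249) (nat_lit 3333))
))) (.node (nat_lit 0x105324f) (.node (nat_lit 0x105324d) (.leaf (nat_lit 0x105324b) (nat_lit 3077))
 (.leaf (nat_lit 0x105324d) (nat_lit 2821))
) (.node (nat_lit 0x1053251) (.leaf (nat_lit 0x105324f) (nat_lit 3077))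
 (.node (nat_lit 0x1053253) (.leaf (nat_lit 0x1053251) (nat_lit 2818))
 (.leaf (nat_lit 0x1053253) (nat_lit 2562))
)))) (.node (nat_lit 0x105325f) (.node (nat_lit 0x1053259) (.node (nat_lit 0x1053257) (.leaf (nat_lit 0x1053255) (nat_lit 2818))
 (.leaf (nat_lit 0x1053257) (nat_lit 3074))
) (.node (nat_lit 0x105325b) (.leaf (nat_lit 0x1053259) (nat_lit 3073))
 (.node (nat_lit 0x105325d) (.leaf (nat_lit 0x105325b) (nat_lit 3329))
 (.leaf (nat_lit 0x105325d) (nat_lit 3073))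
))) (.node (nat_lit 0x1053285) (.node (nat_lit 0x1053281) (.leaf (nat_lit 0x105325f) (nat_lit 2817))
 (.node (nat_lit 0x1053283) (.leaf (nat_lit 0x1053281) (nat_lit 2309))
 (.leaf (nat_lit 0x1053283) (nat_lit 2565))
)) (.node (nat_lit 0x1053287) (.leaf (nat_lit 0x1053285) (nat_lit 2821))
 (.node (nat_lit 0x1053289) (.leaf (nat_lit 0x1053287) (nat_lit 2565))
 (.leaf (nat_lit 0x1053289) (nat_lit 3333))
))))) (.node (nat_lit 0x105329f) (.node (nat_lit 0x1053295) (.node (nat_lit 0x105328f) (.node (nat_lit 0x105328d) (.leaf (nat_lit 0x105328b) (nat_lit 3077))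
 (.leaf (nat_lit 0x105328d) (nat_lit 2821))
) (.node (nat_lit 0x1053291) (.leaf (nat_lit 0x105328f) (nat_lit 2821))
 (.node (nat_lit 0x1053293) (.leaf (nat_lit 0x1053291) (nat_lit 3077))
 (.leaf (nat_lit 0x1053293) (nat_lit 2821))
))) (.node (nat_lit 0x1053299) (.node (nat_lit 0x1053297) (.leaf (nat_lit 0x1053295) (nat_lit 2565))
 (.leaf (nat_lit 0x1053297) (nat_lit 2821))
) (.node (nat_lit 0x105329b) (.leaf (nat_lit 0x1053299) (nat_lit 2817))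
 (.node (nat_lit 0x105329d) (.leaf (nat_lit 0x105329b) (nat_lit 3073))
 (.leaf (nat_lit 0x105329d) (nat_lit 3329))
)))) (.node (nat_lit 0x1053309) (.node (nat_lit 0x1053303) (.node (nat_lit 0x1053301) (.leaf (nat_lit 0x105329f) (nat_lit 3073))
 (.leaf (nat_lit 0x1053301) (nat_lit 2306))
) (.node (nat_lit 0x1053305) (.leaf (nat_lit 0x1053303) (nat_lit 2562))
 (.node (nat_lit 0x1053307) (.leaf (nat_lit 0x1053305) (nat_lit 2818))
 (.leaf (nat_lit 0x1053307) (nat_lit 2817))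
))) (.node (nat_lit 0x105330f) (.node (nat_lit 0x105330b) (.leaf (nat_lit 0x1053309) (nat_lit 3584))
 (.node (nat_lit 0x105330d) (.leaf (nat_lit 0x105330b) (nat_lit 3328))
 (.leaf (nat_lit 0x105330d) (nat_lit 2821))
)) (.node (nat_lit 0x1053311) (.leaf (nat_lit 0x105330f) (nat_lit 2819))
 (.node (nat_lit 0x1053313) (.leaf (nat_lit 0x1053311) (nat_lit 3329))
 (.leaf (nat_lit 0x1053313) (nat_lit 3073))
)))))) (.node (nat_lit 0x10533df) (.node (nat_lit 0x10533c9) (.node (nat_lit 0x105331f) (.node (nat_lit 0x1053319) (.node (nat_lit 0x1053317) (.leaf (nat_lit 0x1053315) (nat_lit 2817))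
 (.leaf (nat_lit 0x1053317) (nat_lit 3073))
) (.node (nat_lit 0x105331b) (.leaf (nat_lit 0x1053319) (nat_lit 2562))
 (.node (nat_lit 0x105331d) (.leaf (nat_lit 0x105331b) (nat_lit 2818))
 (.leaf (nat_lit 0x105331d) (nat_lit 3074))
))) (.node (nat_lit 0x10533c3) (.node (nat_lit 0x10533c1) (.leaf (nat_lit 0x105331f) (nat_lit 2818))
 (.leaf (nat_lit 0x10533c1) (nat_lit 2309))
) (.node (nat_lit 0x10533c5) (.leaf (nat_lit 0x10533c3) (nat_lit 2565))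
 (.node (nat_lit 0x10533c7) (.leaf (nat_lit 0x10533c5) (nat_lit 2821))
 (.leaf (nat_lit 0x10533c7) (nat_lit 2565))
)))) (.node (nat_lit 0x10533d3) (.node (nat_lit 0x10533cd) (.node (nat_lit 0x10533cb) (.leaf (nat_lit 0x10533c9) (nat_lit 3077))
 (.leaf (nat_lit 0x10533cb) (nat_lit 2821))
) (.node (nat_lit 0x10533cf) (.leaf (nat_lit 0x10533cd) (nat_lit 2565))
 (.node (nat_lit 0x10533d1) (.leaf (nat_lit 0x10533cf) (nat_lit 2821))
 (.leaf (nat_lit 0x10533d1) (nat_lit 3077))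
))) (.node (nat_lit 0x10533d9) (.node (nat_lit 0x10533d5) (.leaf (nat_lit 0x10533d3) (nat_lit 2821))
 (.node (nat_lit 0x10533d7) (.leaf (nat_lit 0x10533d5) (nat_lit 3077))
 (.leaf (nat_lit 0x10533d7) (nat_lit 3333))
)) (.node (nat_lit 0x10533db) (.leaf (nat_lit 0x10533d9) (nat_lit 2821))
 (.node (nat_lit 0x10533dd) (.leaf (nat_lit 0x10533db) (nat_lit 3077))
 (.leaf (nat_lit 0x10533dd) (nat_lit 2821))
))))) (.node (nat_lit 0x1053853) (.node (nat_lit 0x1053849) (.node (nat_lit 0x1053843) (.node (nat_lit 0x1053841) (.leaf (nat_lit 0x10533df) (nat_lit 2565))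
 (.leaf (nat_lit 0x1053841) (nat_lit 1028))
) (.node (nat_lit 0x1053845) (.leaf (nat_lit 0x1053843) (nat_lit 1284))
 (.node (nat_lit 0x1053847) (.leaf (nat_lit 0x1053845) (nat_lit 2052))
 (.leaf (nat_lit 0x1053847) (nat_lit 1796))
))) (.node (nat_lit 0x105384d) (.node (nat_lit 0x105384b) (.leaf (nat_lit 0x1053849) (nat_lit 2308))
 (.leaf (nat_lit 0x105384b) (nat_lit 2308))
) (.node (nat_lit 0x105384f) (.leaf (nat_lit 0x105384d) (nat_lit 1796))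
 (.node (nat_lit 0x1053851) (.leaf (nat_lit 0x105384f) (nat_lit 1796))
 (.leaf (nat_lit 0x1053851) (nat_lit 3588))
)))) (.node (nat_lit 0x105385d) (.node (nat_lit 0x1053857) (.node (nat_lit 0x1053855) (.leaf (nat_lit 0x1053853) (nat_lit 3588))
 (.leaf (nat_lit 0x1053855) (nat_lit 3076))
) (.node (nat_lit 0x1053859) (.leaf (nat_lit 0x1053857) (nat_lit 2820))
 (.node (nat_lit 0x105385b) (.leaf (nat_lit 0x1053859) (nat_lit 2820))
 (.leaf (nat_lit 0x105385b) (nat_lit 2820))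
))) (.node (nat_lit 0x10538c3) (.node (nat_lit 0x105385f) (.leaf (nat_lit 0x105385d) (nat_lit 2818))
 (.node (nat_lit 0x10538c1) (.leaf (nat_lit 0x105385f) (nat_lit 2820))
 (.leaf (nat_lit 0x10538c1) (nat_lit 1285))
)) (.node (nat_lit 0x10538c5) (.leaf (nat_lit 0x10538c3) (nat_lit 1541))
 (.node (nat_lit 0x10538c7) (.leaf (nat_lit 0x10538c5) (nat_lit 1797))
 (.leaf (nat_lit 0x10538c7) (nat_lit 1541))
))))))) (.node (nat_lit 0x105399d) (.node (nat_lit 0x1053913) (.node (nat_lit 0x10538dd) (.node (nat_lit 0x10538d3) (.node (nat_lit 0x10538cd) (.node (nat_lit 0x10538cb) (.leaf (nat_lit 0x10538c9) (nat_lit 2049))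
 (.leaf (nat_lit 0x10538cb) (nat_lit 2305))
) (.node (nat_lit 0x10538cf) (.leaf (nat_lit 0x10538cd) (nat_lit 2309))
 (.node (nat_lit 0x10538d1) (.leaf (nat_lit 0x10538cf) (nat_lit 2053))
 (.leaf (nat_lit 0x10538d1) (nat_lit 3331))
))) (.node (nat_lit 0x10538d7) (.node (nat_lit 0x10538d5) (.leaf (nat_lit 0x10538d3) (nat_lit 3075))
 (.leaf (nat_lit 0x10538d5) (nat_lit 3077))
) (.node (nat_lit 0x10538d9) (.leaf (nat_lit 0x10538d7) (nat_lit 3333))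
 (.node (nat_lit 0x10538db) (.leaf (nat_lit 0x10538d9) (nat_lit 3074))
 (.leaf (nat_lit 0x10538db) (nat_lit 3077))
)))) (.node (nat_lit 0x1053907) (.node (nat_lit 0x1053901) (.node (nat_lit 0x10538df) (.leaf (nat_lit 0x10538dd) (nat_lit 3076))
 (.leaf (nat_lit 0x10538df) (nat_lit 3077))
) (.node (nat_lit 0x1053903) (.leaf (nat_lit 0x1053901) (nat_lit 1537))
 (.node (nat_lit 0x1053905) (.leaf (nat_lit 0x1053903) (nat_lit 1793))
 (.leaf (nat_lit 0x1053905) (nat_lit 2049))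
))) (.node (nat_lit 0x105390d) (.node (nat_lit 0x1053909) (.leaf (nat_lit 0x1053907) (nat_lit 1793))
 (.node (nat_lit 0x105390b) (.leaf (nat_lit 0x1053909) (nat_lit 1792))
 (.leaf (nat_lit 0x105390b) (nat_lit 2048))
)) (.node (nat_lit 0x105390f) (.leaf (nat_lit 0x105390d) (nat_lit 2304))
 (.node (nat_lit 0x1053911) (.leaf (nat_lit 0x105390f) (nat_lit 2048))
 (.leaf (nat_lit 0x1053911) (nat_lit 3587))
))))) (.node (nat_lit 0x1053987) (.node (nat_lit 0x105391d) (.node (nat_lit 0x1053917) (.node (nat_lit 0x1053915) (.leaf (nat_lit 0x1053913) (nat_lit 3331))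
 (.leaf (nat_lit 0x1053915) (nat_lit 3329))
) (.node (nat_lit 0x1053919) (.leaf (nat_lit 0x1053917) (nat_lit 3585))
 (.node (nat_lit 0x105391b) (.leaf (nat_lit 0x1053919) (nat_lit 3329))
 (.leaf (nat_lit 0x105391b) (nat_lit 3329))
))) (.node (nat_lit 0x1053981) (.node (nat_lit 0x105391f) (.leaf (nat_lit 0x105391d) (nat_lit 3332))
 (.leaf (nat_lit 0x105391f) (nat_lit 3329))
) (.node (nat_lit 0x1053983) (.leaf (nat_lit 0x1053981) (nat_lit 1284))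
 (.node (nat_lit 0x1053985) (.leaf (nat_lit 0x1053983) (nat_lit 1540))
 (.leaf (nat_lit 0x1053985) (nat_lit 2308))
)))) (.node (nat_lit 0x1053991) (.node (nat_lit 0x105398b) (.node (nat_lit 0x1053989) (.leaf (nat_lit 0x1053987) (nat_lit 2052))
 (.leaf (nat_lit 0x1053989) (nat_lit 2564))
) (.node (nat_lit 0x105398d) (.leaf (nat_lit 0x105398b) (nat_lit 2308))
 (.node (nat_lit 0x105398f) (.leaf (nat_lit 0x105398d) (nat_lit 1540))
 (.leaf (nat_lit 0x105398f) (nat_lit 1796))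
))) (.node (nat_lit 0x1053997) (.node (nat_lit 0x1053993) (.leaf (nat_lit 0x1053991) (nat_lit 3328))
 (.node (nat_lit 0x1053995) (.leaf (nat_lit 0x1053993) (nat_lit 3332))
 (.leaf (nat_lit 0x1053995) (nat_lit 3332))
)) (.node (nat_lit 0x1053999) (.leaf (nat_lit 0x1053997) (nat_lit 3076))
 (.node (nat_lit 0x105399b) (.leaf (nat_lit 0x1053999) (nat_lit 3076))
 (.leaf (nat_lit 0x105399b) (nat_lit 3076))
)))))) (.node (nat_lit 0x1053ac7) (.node (nat_lit 0x1053a51) (.node (nat_lit 0x1053a47) (.node (nat_lit 0x1053a41) (.node (nat_lit 0x105399f) (.leaf (nat_lit 0x105399d) (nat_lit 3073))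
 (.leaf (nat_lit 0x105399f) (nat_lit 3076))
) (.node (nat_lit 0x1053a43) (.leaf (nat_lit 0x1053a41) (nat_lit 2308))
 (.node (nat_lit 0x1053a45) (.leaf (nat_lit 0x1053a43) (nat_lit 2564))
 (.leaf (nat_lit 0x1053a45) (nat_lit 2821))
))) (.node (nat_lit 0x1053a4b) (.node (nat_lit 0x1053a49) (.leaf (nat_lit 0x1053a47) (nat_lit 2819))
 (.leaf (nat_lit 0x1053a49) (nat_lit 3332))
) (.node (nat_lit 0x1053a4d) (.leaf (nat_lit 0x1053a4b) (nat_lit 3076))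
 (.node (nat_lit 0x1053a4f) (.leaf (nat_lit 0x1053a4d) (nat_lit 2820))
 (.leaf (nat_lit 0x1053a4f) (nat_lit 2564))
)))) (.node (nat_lit 0x1053a5b) (.node (nat_lit 0x1053a55) (.node (nat_lit 0x1053a53) (.leaf (nat_lit 0x1053a51) (nat_lit 2820))
 (.leaf (nat_lit 0x1053a53) (nat_lit 2564))
) (.node (nat_lit 0x1053a57) (.leaf (nat_lit 0x1053a55) (nat_lit 3075))
 (.node (nat_lit 0x1053a59) (.leaf (nat_lit 0x1053a57) (nat_lit 3074))
 (.leaf (nat_lit 0x1053a59) (nat_lit 3332))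
))) (.node (nat_lit 0x1053ac1) (.node (nat_lit 0x1053a5d) (.leaf (nat_lit 0x1053a5b) (nat_lit 3332))
 (.node (nat_lit 0x1053a5f) (.leaf (nat_lit 0x1053a5d) (nat_lit 2820))
 (.leaf (nat_lit 0x1053a5f) (nat_lit 3076))
)) (.node (nat_lit 0x1053ac3) (.leaf (nat_lit 0x1053ac1) (nat_lit 2308))
 (.node (nat_lit 0x1053ac5) (.leaf (nat_lit 0x1053ac3) (nat_lit 2564))
 (.leaf (nat_lit 0x1053ac5) (nat_lit 2821))
))))) (.node (nat_lit 0x1053adb) (.node (nat_lit 0x1053ad1) (.node (nat_lit 0x1053acb) (.node (nat_lit 0x1053ac9) (.leaf (nat_lit 0x1053ac7) (nat_lit 2821))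
 (.leaf (nat_lit 0x1053ac9) (nat_lit 3332))
) (.node (nat_lit 0x1053acd) (.leaf (nat_lit 0x1053acb) (nat_lit 3076))
 (.node (nat_lit 0x1053acf) (.leaf (nat_lit 0x1053acd) (nat_lit 2820))
 (.leaf (nat_lit 0x1053acf) (nat_lit 2564))
))) (.node (nat_lit 0x1053ad5) (.node (nat_lit 0x1053ad3) (.leaf (nat_lit 0x1053ad1) (nat_lit 3077))
 (.leaf (nat_lit 0x1053ad3) (nat_lit 3077))
) (.node (nat_lit 0x1053ad7) (.leaf (nat_lit 0x1053ad5) (nat_lit 2820))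
 (.node (nat_lit 0x1053ad9) (.leaf (nat_lit 0x1053ad7) (nat_lit 2564))
 (.leaf (nat_lit 0x1053ad9) (nat_lit 2820))
)))) (.node (nat_lit 0x1053b05) (.node (nat_lit 0x1053adf) (.node (nat_lit 0x1053add) (.leaf (nat_lit 0x1053adb) (nat_lit 3076))
 (.leaf (nat_lit 0x1053add) (nat_lit 3076))
) (.node (nat_lit 0x1053b01) (.leaf (nat_lit 0x1053adf) (nat_lit 3332))
 (.node (nat_lit 0x1053b03) (.leaf (nat_lit 0x1053b01) (nat_lit 2308))
 (.leaf (nat_lit 0x1053b03) (nat_lit 2564))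
))) (.node (nat_lit 0x1053b0b) (.node (nat_lit 0x1053b07) (.leaf (nat_lit 0x1053b05) (nat_lit 2821))
 (.node (nat_lit 0x1053b09) (.leaf (nat_lit 0x1053b07) (nat_lit 2818))
 (.leaf (nat_lit 0x1053b09) (nat_lit 3333))
)) (.node (nat_lit 0x1053b0d) (.leaf (nat_lit 0x1053b0b) (nat_lit 3077))
 (.node (nat_lit 0x1053b0f) (.leaf (nat_lit 0x1053b0d) (nat_lit 2819))
 (.leaf (nat_lit 0x1053b0f) (nat_lit 2821))
)))))))) (.node (nat_lit 0x10549d9) (.node (nat_lit 0x10548c5) (.node (nat_lit 0x1053b9b) (.node (nat_lit 0x1053b85) (.node (nat_lit 0x1053b1b) (.node (nat_lit 0x1053b15) (.node (nat_lit 0x1053b13) (.leaf (nat_lit 0x1053b11) (nat_lit 3329))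
 (.leaf (nat_lit 0x1053b13) (nat_lit 3332))
) (.node (nat_lit 0x1053b17) (.leaf (nat_lit 0x1053b15) (nat_lit 3076))
 (.node (nat_lit 0x1053b19) (.leaf (nat_lit 0x1053b17) (nat_lit 2820))
 (.leaf (nat_lit 0x1053b19) (nat_lit 2564))
))) (.node (nat_lit 0x1053b1f) (.node (nat_lit 0x1053b1d) (.leaf (nat_lit 0x1053b1b) (nat_lit 2820))
 (.leaf (nat_lit 0x1053b1d) (nat_lit 2818))
) (.node (nat_lit 0x1053b81) (.leaf (nat_lit 0x1053b1f) (nat_lit 3074))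
 (.node (nat_lit 0x1053b83) (.leaf (nat_lit 0x1053b81) (nat_lit 2309))
 (.leaf (nat_lit 0x1053b83) (nat_lit 2565))
)))) (.node (nat_lit 0x1053b8f) (.node (nat_lit 0x1053b89) (.node (nat_lit 0x1053b87) (.leaf (nat_lit 0x1053b85) (nat_lit 2821))
 (.leaf (nat_lit 0x1053b87) (nat_lit 2820))
) (.node (nat_lit 0x1053b8b) (.leaf (nat_lit 0x1053b89) (nat_lit 3077))
 (.node (nat_lit 0x1053b8d) (.leaf (nat_lit 0x1053b8b) (nat_lit 3077))
 (.leaf (nat_lit 0x1053b8d) (nat_lit 2821))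
))) (.node (nat_lit 0x1053b95) (.node (nat_lit 0x1053b91) (.leaf (nat_lit 0x1053b8f) (nat_lit 2565))
 (.node (nat_lit 0x1053b93) (.leaf (nat_lit 0x1053b91) (nat_lit 3077))
 (.leaf (nat_lit 0x1053b93) (nat_lit 2821))
)) (.node (nat_lit 0x1053b97) (.leaf (nat_lit 0x1053b95) (nat_lit 3333))
 (.node (nat_lit 0x1053b99) (.leaf (nat_lit 0x1053b97) (nat_lit 3333))
 (.leaf (nat_lit 0x1053b99) (nat_lit 3077))
))))) (.node (nat_lit 0x105488f) (.node (nat_lit 0x1054885) (.node (nat_lit 0x1053b9f) (.node (nat_lit 0x1053b9d) (.leaf (nat_lit 0x1053b9b) (nat_lit 3076))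
 (.leaf (nat_lit 0x1053b9d) (nat_lit 2565))
) (.node (nat_lit 0x1054881) (.leaf (nat_lit 0x1053b9f) (nat_lit 2821))
 (.node (nat_lit 0x1054883) (.leaf (nat_lit 0x1054881) (nat_lit 1796))
 (.leaf (nat_lit 0x1054883) (nat_lit 2052))
))) (.node (nat_lit 0x1054889) (.node (nat_lit 0x1054887) (.leaf (nat_lit 0x1054885) (nat_lit 2052))
 (.leaf (nat_lit 0x1054887) (nat_lit 2052))
) (.node (nat_lit 0x105488b) (.leaf (nat_lit 0x1054889) (nat_lit 2820))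
 (.node (nat_lit 0x105488d) (.leaf (nat_lit 0x105488b) (nat_lit 2564))
 (.leaf (nat_lit 0x105488d) (nat_lit 2564))
)))) (.node (nat_lit 0x1054899) (.node (nat_lit 0x1054893) (.node (nat_lit 0x1054891) (.leaf (nat_lit 0x105488f) (nat_lit 2308))
 (.leaf (nat_lit 0x1054891) (nat_lit 2820))
) (.node (nat_lit 0x1054895) (.leaf (nat_lit 0x1054893) (nat_lit 2564))
 (.node (nat_lit 0x1054897) (.leaf (nat_lit 0x1054895) (nat_lit 2820))
 (.leaf (nat_lit 0x1054897) (nat_lit 2564))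
))) (.node (nat_lit 0x105489f) (.node (nat_lit 0x105489b) (.leaf (nat_lit 0x1054899) (nat_lit 3074))
 (.node (nat_lit 0x105489d) (.leaf (nat_lit 0x105489b) (nat_lit 3074))
 (.leaf (nat_lit 0x105489d) (nat_lit 2818))
)) (.node (nat_lit 0x10548c1) (.leaf (nat_lit 0x105489f) (nat_lit 2820))
 (.node (nat_lit 0x10548c3) (.leaf (nat_lit 0x10548c1) (nat_lit 1540))
 (.leaf (nat_lit 0x10548c3) (nat_lit 1796))
)))))) (.node (nat_lit 0x105498f) (.node (nat_lit 0x10548d9) (.node (nat_lit 0x10548cf) (.node (nat_lit 0x10548c9) (.node (nat_lit 0x10548c7) (.leaf (nat_lit 0x10548c5) (nat_lit 2052))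
 (.leaf (nat_lit 0x10548c7) (nat_lit 1796))
) (.node (nat_lit 0x10548cb) (.leaf (nat_lit 0x10548c9) (nat_lit 2564))
 (.node (nat_lit 0x10548cd) (.leaf (nat_lit 0x10548cb) (nat_lit 2308))
 (.leaf (nat_lit 0x10548cd) (nat_lit 2308))
))) (.node (nat_lit 0x10548d3) (.node (nat_lit 0x10548d1) (.leaf (nat_lit 0x10548cf) (nat_lit 2564))
 (.leaf (nat_lit 0x10548d1) (nat_lit 2564))
) (.node (nat_lit 0x10548d5) (.leaf (nat_lit 0x10548d3) (nat_lit 2308))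
 (.node (nat_lit 0x10548d7) (.leaf (nat_lit 0x10548d5) (nat_lit 2308))
 (.leaf (nat_lit 0x10548d7) (nat_lit 2564))
)))) (.node (nat_lit 0x1054983) (.node (nat_lit 0x10548dd) (.node (nat_lit 0x10548db) (.leaf (nat_lit 0x10548d9) (nat_lit 2818))
 (.leaf (nat_lit 0x10548db) (nat_lit 2820))
) (.node (nat_lit 0x10548df) (.leaf (nat_lit 0x10548dd) (nat_lit 2818))
 (.node (nat_lit 0x1054981) (.leaf (nat_lit 0x10548df) (nat_lit 2562))
 (.leaf (nat_lit 0x1054981) (nat_lit 1796))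
))) (.node (nat_lit 0x1054989) (.node (nat_lit 0x1054985) (.leaf (nat_lit 0x1054983) (nat_lit 2052))
 (.node (nat_lit 0x1054987) (.leaf (nat_lit 0x1054985) (nat_lit 2308))
 (.leaf (nat_lit 0x1054987) (nat_lit 2052))
)) (.node (nat_lit 0x105498b) (.leaf (nat_lit 0x1054989) (nat_lit 2564))
 (.node (nat_lit 0x105498d) (.leaf (nat_lit 0x105498b) (nat_lit 2308))
 (.leaf (nat_lit 0x105498d) (nat_lit 2052))
))))) (.node (nat_lit 0x10549c3) (.node (nat_lit 0x1054999) (.node (nat_lit 0x1054993) (.node (nat_lit 0x1054991) (.leaf (nat_lit 0x105498f) (nat_lit 2308))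
 (.leaf (nat_lit 0x1054991) (nat_lit 3076))
) (.node (nat_lit 0x1054995) (.leaf (nat_lit 0x1054993) (nat_lit 2820))
 (.node (nat_lit 0x1054997) (.leaf (nat_lit 0x1054995) (nat_lit 2818))
 (.leaf (nat_lit 0x1054997) (nat_lit 3074))
))) (.node (nat_lit 0x105499d) (.node (nat_lit 0x105499b) (.leaf (nat_lit 0x1054999) (nat_lit 2820))
 (.leaf (nat_lit 0x105499b) (nat_lit 3076))
) (.node (nat_lit 0x105499f) (.leaf (nat_lit 0x105499d) (nat_lit 2820))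
 (.node (nat_lit 0x10549c1) (.leaf (nat_lit 0x105499f) (nat_lit 2564))
 (.leaf (nat_lit 0x10549c1) (nat_lit 1796))
)))) (.node (nat_lit 0x10549cd) (.node (nat_lit 0x10549c7) (.node (nat_lit 0x10549c5) (.leaf (nat_lit 0x10549c3) (nat_lit 2052))
 (.leaf (nat_lit 0x10549c5) (nat_lit 2308))
) (.node (nat_lit 0x10549c9) (.leaf (nat_lit 0x10549c7) (nat_lit 2308))
 (.node (nat_lit 0x10549cb) (.leaf (nat_lit 0x10549c9) (nat_lit 2564))
 (.leaf (nat_lit 0x10549cb) (nat_lit 2564))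
))) (.node (nat_lit 0x10549d3) (.node (nat_lit 0x10549cf) (.leaf (nat_lit 0x10549cd) (nat_lit 2308))
 (.node (nat_lit 0x10549d1) (.leaf (nat_lit 0x10549cf) (nat_lit 2052))
 (.leaf (nat_lit 0x10549d1) (nat_lit 2820))
)) (.node (nat_lit 0x10549d5) (.leaf (nat_lit 0x10549d3) (nat_lit 2564))
 (.node (nat_lit 0x10549d7) (.leaf (nat_lit 0x10549d5) (nat_lit 3074))
 (.leaf (nat_lit 0x10549d7) (nat_lit 2818))
))))))) (.node (nat_lit 0x1054b8d) (.node (nat_lit 0x1054ac3) (.node (nat_lit 0x1054a8d) (.node (nat_lit 0x1054a83) (.node (nat_lit 0x10549dd) (.node (nat_lit 0x10549db) (.leaf (nat_lit 0x10549d9) (nat_lit 3073))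
 (.leaf (nat_lit 0x10549db) (nat_lit 3076))
) (.node (nat_lit 0x10549df) (.leaf (nat_lit 0x10549dd) (nat_lit 2564))
 (.node (nat_lit 0x1054a81) (.leaf (nat_lit 0x10549df) (nat_lit 2820))
 (.leaf (nat_lit 0x1054a81) (nat_lit 1796))
))) (.node (nat_lit 0x1054a87) (.node (nat_lit 0x1054a85) (.leaf (nat_lit 0x1054a83) (nat_lit 2052))
 (.leaf (nat_lit 0x1054a85) (nat_lit 2308))
) (.node (nat_lit 0x1054a89) (.leaf (nat_lit 0x1054a87) (nat_lit 2052))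
 (.node (nat_lit 0x1054a8b) (.leaf (nat_lit 0x1054a89) (nat_lit 2820))
 (.leaf (nat_lit 0x1054a8b) (nat_lit 2564))
)))) (.node (nat_lit 0x1054a97) (.node (nat_lit 0x1054a91) (.node (nat_lit 0x1054a8f) (.leaf (nat_lit 0x1054a8d) (nat_lit 2564))
 (.leaf (nat_lit 0x1054a8f) (nat_lit 2820))
) (.node (nat_lit 0x1054a93) (.leaf (nat_lit 0x1054a91) (nat_lit 2564))
 (.node (nat_lit 0x1054a95) (.leaf (nat_lit 0x1054a93) (nat_lit 2308))
 (.leaf (nat_lit 0x1054a95) (nat_lit 2052))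
))) (.node (nat_lit 0x1054a9d) (.node (nat_lit 0x1054a99) (.leaf (nat_lit 0x1054a97) (nat_lit 2308))
 (.node (nat_lit 0x1054a9b) (.leaf (nat_lit 0x1054a99) (nat_lit 2820))
 (.leaf (nat_lit 0x1054a9b) (nat_lit 3076))
)) (.node (nat_lit 0x1054a9f) (.leaf (nat_lit 0x1054a9d) (nat_lit 3076))
 (.node (nat_lit 0x1054ac1) (.leaf (nat_lit 0x1054a9f) (nat_lit 2820))
 (.leaf (nat_lit 0x1054ac1) (nat_lit 2052))
))))) (.node (nat_lit 0x1054ad7) (.node (nat_lit 0x1054acd) (.node (nat_lit 0x1054ac7) (.node (nat_lit 0x1054ac5) (.leaf (nat_lit 0x1054ac3) (nat_lit 2308))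
 (.leaf (nat_lit 0x1054ac5) (nat_lit 2308))
) (.node (nat_lit 0x1054ac9) (.leaf (nat_lit 0x1054ac7) (nat_lit 2308))
 (.node (nat_lit 0x1054acb) (.leaf (nat_lit 0x1054ac9) (nat_lit 3076))
 (.leaf (nat_lit 0x1054acb) (nat_lit 2820))
))) (.node (nat_lit 0x1054ad1) (.node (nat_lit 0x1054acf) (.leaf (nat_lit 0x1054acd) (nat_lit 2820))
 (.leaf (nat_lit 0x1054acf) (nat_lit 2564))
) (.node (nat_lit 0x1054ad3) (.leaf (nat_lit 0x1054ad1) (nat_lit 2564))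
 (.node (nat_lit 0x1054ad5) (.leaf (nat_lit 0x1054ad3) (nat_lit 2564))
 (.leaf (nat_lit 0x1054ad5) (nat_lit 2564))
)))) (.node (nat_lit 0x1054b81) (.node (nat_lit 0x1054adb) (.node (nat_lit 0x1054ad9) (.leaf (nat_lit 0x1054ad7) (nat_lit 2308))
 (.leaf (nat_lit 0x1054ad9) (nat_lit 2820))
) (.node (nat_lit 0x1054add) (.leaf (nat_lit 0x1054adb) (nat_lit 3076))
 (.node (nat_lit 0x1054adf) (.leaf (nat_lit 0x1054add) (nat_lit 3076))
 (.leaf (nat_lit 0x1054adf) (nat_lit 3076))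
))) (.node (nat_lit 0x1054b87) (.node (nat_lit 0x1054b83) (.leaf (nat_lit 0x1054b81) (nat_lit 2052))
 (.node (nat_lit 0x1054b85) (.leaf (nat_lit 0x1054b83) (nat_lit 2308))
 (.leaf (nat_lit 0x1054b85) (nat_lit 2562))
)) (.node (nat_lit 0x1054b89) (.leaf (nat_lit 0x1054b87) (nat_lit 2564))
 (.node (nat_lit 0x1054b8b) (.leaf (nat_lit 0x1054b89) (nat_lit 2820))
 (.leaf (nat_lit 0x1054b8b) (nat_lit 2820))
)))))) (.node (nat_lit 0x1054bd7) (.node (nat_lit 0x1054bc1) (.node (nat_lit 0x1054b97) (.node (nat_lit 0x1054b91) (.node (nat_lit 0x1054b8f) (.leaf (nat_lit 0x1054b8d) (nat_lit 2564))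
 (.leaf (nat_lit 0x1054b8f) (nat_lit 2308))
) (.node (nat_lit 0x1054b93) (.leaf (nat_lit 0x1054b91) (nat_lit 2820))
 (.node (nat_lit 0x1054b95) (.leaf (nat_lit 0x1054b93) (nat_lit 2564))
 (.leaf (nat_lit 0x1054b95) (nat_lit 3076))
))) (.node (nat_lit 0x1054b9b) (.node (nat_lit 0x1054b99) (.leaf (nat_lit 0x1054b97) (nat_lit 3076))
 (.leaf (nat_lit 0x1054b99) (nat_lit 2818))
) (.node (nat_lit 0x1054b9d) (.leaf (nat_lit 0x1054b9b) (nat_lit 2820))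
 (.node (nat_lit 0x1054b9f) (.leaf (nat_lit 0x1054b9d) (nat_lit 2308))
 (.leaf (nat_lit 0x1054b9f) (nat_lit 2564))
)))) (.node (nat_lit 0x1054bcb) (.node (nat_lit 0x1054bc5) (.node (nat_lit 0x1054bc3) (.leaf (nat_lit 0x1054bc1) (nat_lit 2052))
 (.leaf (nat_lit 0x1054bc3) (nat_lit 2308))
) (.node (nat_lit 0x1054bc7) (.leaf (nat_lit 0x1054bc5) (nat_lit 2564))
 (.node (nat_lit 0x1054bc9) (.leaf (nat_lit 0x1054bc7) (nat_lit 2308))
 (.leaf (nat_lit 0x1054bc9) (nat_lit 2820))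
))) (.node (nat_lit 0x1054bd1) (.node (nat_lit 0x1054bcd) (.leaf (nat_lit 0x1054bcb) (nat_lit 2564))
 (.node (nat_lit 0x1054bcf) (.leaf (nat_lit 0x1054bcd) (nat_lit 2308))
 (.leaf (nat_lit 0x1054bcf) (nat_lit 2564))
)) (.node (nat_lit 0x1054bd3) (.leaf (nat_lit 0x1054bd1) (nat_lit 2820))
 (.node (nat_lit 0x1054bd5) (.leaf (nat_lit 0x1054bd3) (nat_lit 2564))
 (.leaf (nat_lit 0x1054bd5) (nat_lit 2820))
))))) (.node (nat_lit 0x105504b) (.node (nat_lit 0x1055041) (.node (nat_lit 0x1054bdb) (.node (nat_lit 0x1054bd9) (.leaf (nat_lit 0x1054bd7) (nat_lit 3076))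
 (.leaf (nat_lit 0x1054bd9) (nat_lit 2564))
) (.node (nat_lit 0x1054bdd) (.leaf (nat_lit 0x1054bdb) (nat_lit 2820))
 (.node (nat_lit 0x1054bdf) (.leaf (nat_lit 0x1054bdd) (nat_lit 2564))
 (.leaf (nat_lit 0x1054bdf) (nat_lit 2308))
))) (.node (nat_lit 0x1055045) (.node (nat_lit 0x1055043) (.leaf (nat_lit 0x1055041) (nat_lit 1795))
 (.leaf (nat_lit 0x1055043) (nat_lit 2051))
) (.node (nat_lit 0x1055047) (.leaf (nat_lit 0x1055045) (nat_lit 2565))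
 (.node (nat_lit 0x1055049) (.leaf (nat_lit 0x1055047) (nat_lit 2563))
 (.leaf (nat_lit 0x1055049) (nat_lit 2565))
)))) (.node (nat_lit 0x1055055) (.node (nat_lit 0x105504f) (.node (nat_lit 0x105504d) (.leaf (nat_lit 0x105504b) (nat_lit 2565))
 (.leaf (nat_lit 0x105504d) (nat_lit 2563))
) (.node (nat_lit 0x1055051) (.leaf (nat_lit 0x105504f) (nat_lit 2563))
 (.node (nat_lit 0x1055053) (.leaf (nat_lit 0x1055051) (nat_lit 3329))
 (.leaf (nat_lit 0x1055053) (nat_lit 3333))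
))) (.node (nat_lit 0x105505b) (.node (nat_lit 0x1055057) (.leaf (nat_lit 0x1055055) (nat_lit 2565))
 (.node (nat_lit 0x1055059) (.leaf (nat_lit 0x1055057) (nat_lit 2561))
 (.leaf (nat_lit 0x1055059) (nat_lit 3075))
)) (.node (nat_lit 0x105505d) (.leaf (nat_lit 0x105505b) (nat_lit 3075))
 (.node (nat_lit 0x105505f) (.leaf (nat_lit 0x105505d) (nat_lit 2562))
 (.leaf (nat_lit 0x105505f) (nat_lit 2562))
))))))))) (.node (nat_lit 0x10559d1) (.node (nat_lit 0x1055309) (.node (nat_lit 0x1055195) (.node (nat_lit 0x105510b) (.node (nat_lit 0x10550d5) (.node (nat_lit 0x10550cb) (.node (nat_lit 0x10550c5) (.node (nat_lit 0x10550c3) (.leaf (nat_lit 0x10550c1) (nat_lit 1797))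
 (.leaf (nat_lit 0x10550c3) (nat_lit 2053))
) (.node (nat_lit 0x10550c7) (.leaf (nat_lit 0x10550c5) (nat_lit 2309))
 (.node (nat_lit 0x10550c9) (.leaf (nat_lit 0x10550c7) (nat_lit 2053))
 (.leaf (nat_lit 0x10550c9) (nat_lit 2821))
))) (.node (nat_lit 0x10550cf) (.node (nat_lit 0x10550cd) (.leaf (nat_lit 0x10550cb) (nat_lit 2565))
 (.leaf (nat_lit 0x10550cd) (nat_lit 2565))
) (.node (nat_lit 0x10550d1) (.leaf (nat_lit 0x10550cf) (nat_lit 2821))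
 (.node (nat_lit 0x10550d3) (.leaf (nat_lit 0x10550d1) (nat_lit 2821))
 (.leaf (nat_lit 0x10550d3) (nat_lit 2565))
)))) (.node (nat_lit 0x10550df) (.node (nat_lit 0x10550d9) (.node (nat_lit 0x10550d7) (.leaf (nat_lit 0x10550d5) (nat_lit 2565))
 (.leaf (nat_lit 0x10550d7) (nat_lit 2821))
) (.node (nat_lit 0x10550db) (.leaf (nat_lit 0x10550d9) (nat_lit 2818))
 (.node (nat_lit 0x10550dd) (.leaf (nat_lit 0x10550db) (nat_lit 3074))
 (.leaf (nat_lit 0x10550dd) (nat_lit 3074))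
))) (.node (nat_lit 0x1055105) (.node (nat_lit 0x1055101) (.leaf (nat_lit 0x10550df) (nat_lit 2818))
 (.node (nat_lit 0x1055103) (.leaf (nat_lit 0x1055101) (nat_lit 2052))
 (.leaf (nat_lit 0x1055103) (nat_lit 2308))
)) (.node (nat_lit 0x1055107) (.leaf (nat_lit 0x1055105) (nat_lit 2819))
 (.node (nat_lit 0x1055109) (.leaf (nat_lit 0x1055107) (nat_lit 2563))
 (.leaf (nat_lit 0x1055109) (nat_lit 2308))
))))) (.node (nat_lit 0x105511f) (.node (nat_lit 0x1055115) (.node (nat_lit 0x105510f) (.node (nat_lit 0x105510d) (.leaf (nat_lit 0x105510b) (nat_lit 2564))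
 (.leaf (nat_lit 0x105510d) (nat_lit 3075))
) (.node (nat_lit 0x1055111) (.leaf (nat_lit 0x105510f) (nat_lit 2819))
 (.node (nat_lit 0x1055113) (.leaf (nat_lit 0x1055111) (nat_lit 3585))
 (.leaf (nat_lit 0x1055113) (nat_lit 3584))
))) (.node (nat_lit 0x1055119) (.node (nat_lit 0x1055117) (.leaf (nat_lit 0x1055115) (nat_lit 2816))
 (.leaf (nat_lit 0x1055117) (nat_lit 3072))
) (.node (nat_lit 0x105511b) (.leaf (nat_lit 0x1055119) (nat_lit 3585))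
 (.node (nat_lit 0x105511d) (.leaf (nat_lit 0x105511b) (nat_lit 3329))
 (.leaf (nat_lit 0x105511d) (nat_lit 2561))
)))) (.node (nat_lit 0x1055189) (.node (nat_lit 0x1055183) (.node (nat_lit 0x1055181) (.leaf (nat_lit 0x105511f) (nat_lit 2817))
 (.leaf (nat_lit 0x1055181) (nat_lit 2051))
) (.node (nat_lit 0x1055185) (.leaf (nat_lit 0x1055183) (nat_lit 2307))
 (.node (nat_lit 0x1055187) (.leaf (nat_lit 0x1055185) (nat_lit 2818))
 (.leaf (nat_lit 0x1055187) (nat_lit 2562))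
))) (.node (nat_lit 0x105518f) (.node (nat_lit 0x105518b) (.leaf (nat_lit 0x1055189) (nat_lit 3074))
 (.node (nat_lit 0x105518d) (.leaf (nat_lit 0x105518b) (nat_lit 2818))
 (.leaf (nat_lit 0x105518d) (nat_lit 2307))
)) (.node (nat_lit 0x1055191) (.leaf (nat_lit 0x105518f) (nat_lit 2563))
 (.node (nat_lit 0x1055193) (.leaf (nat_lit 0x1055191) (nat_lit 3333))
 (.leaf (nat_lit 0x1055193) (nat_lit 3077))
)))))) (.node (nat_lit 0x105525f) (.node (nat_lit 0x1055249) (.node (nat_lit 0x105519f) (.node (nat_lit 0x1055199) (.node (nat_lit 0x1055197) (.leaf (nat_lit 0x1055195) (nat_lit 2821))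
 (.leaf (nat_lit 0x1055197) (nat_lit 3077))
) (.node (nat_lit 0x105519b) (.leaf (nat_lit 0x1055199) (nat_lit 2817))
 (.node (nat_lit 0x105519d) (.leaf (nat_lit 0x105519b) (nat_lit 3073))
 (.leaf (nat_lit 0x105519d) (nat_lit 3329))
))) (.node (nat_lit 0x1055243) (.node (nat_lit 0x1055241) (.leaf (nat_lit 0x105519f) (nat_lit 3073))
 (.leaf (nat_lit 0x1055241) (nat_lit 2049))
) (.node (nat_lit 0x1055245) (.leaf (nat_lit 0x1055243) (nat_lit 2305))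
 (.node (nat_lit 0x1055247) (.leaf (nat_lit 0x1055245) (nat_lit 2561))
 (.leaf (nat_lit 0x1055247) (nat_lit 2305))
)))) (.node (nat_lit 0x1055253) (.node (nat_lit 0x105524d) (.node (nat_lit 0x105524b) (.leaf (nat_lit 0x1055249) (nat_lit 3073))
 (.leaf (nat_lit 0x105524b) (nat_lit 2817))
) (.node (nat_lit 0x105524f) (.leaf (nat_lit 0x105524d) (nat_lit 2818))
 (.node (nat_lit 0x1055251) (.leaf (nat_lit 0x105524f) (nat_lit 3074))
 (.leaf (nat_lit 0x1055251) (nat_lit 2560))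
))) (.node (nat_lit 0x1055259) (.node (nat_lit 0x1055255) (.leaf (nat_lit 0x1055253) (nat_lit 2304))
 (.node (nat_lit 0x1055257) (.leaf (nat_lit 0x1055255) (nat_lit 2560))
 (.leaf (nat_lit 0x1055257) (nat_lit 2816))
)) (.node (nat_lit 0x105525b) (.leaf (nat_lit 0x1055259) (nat_lit 3072))
 (.node (nat_lit 0x105525d) (.leaf (nat_lit 0x105525b) (nat_lit 3328))
 (.leaf (nat_lit 0x105525d) (nat_lit 3329))
))))) (.node (nat_lit 0x10552d3) (.node (nat_lit 0x10552c9) (.node (nat_lit 0x10552c3) (.node (nat_lit 0x10552c1) (.leaf (nat_lit 0x105525f) (nat_lit 3073))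
 (.leaf (nat_lit 0x10552c1) (nat_lit 2053))
) (.node (nat_lit 0x10552c5) (.leaf (nat_lit 0x10552c3) (nat_lit 2309))
 (.node (nat_lit 0x10552c7) (.leaf (nat_lit 0x10552c5) (nat_lit 2817))
 (.leaf (nat_lit 0x10552c7) (nat_lit 2821))
))) (.node (nat_lit 0x10552cd) (.node (nat_lit 0x10552cb) (.leaf (nat_lit 0x10552c9) (nat_lit 2818))
 (.leaf (nat_lit 0x10552cb) (nat_lit 2817))
) (.node (nat_lit 0x10552cf) (.leaf (nat_lit 0x10552cd) (nat_lit 2819))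
 (.node (nat_lit 0x10552d1) (.leaf (nat_lit 0x10552cf) (nat_lit 2821))
 (.leaf (nat_lit 0x10552d1) (nat_lit 3077))
)))) (.node (nat_lit 0x10552dd) (.node (nat_lit 0x10552d7) (.node (nat_lit 0x10552d5) (.leaf (nat_lit 0x10552d3) (nat_lit 3072))
 (.leaf (nat_lit 0x10552d5) (nat_lit 2565))
) (.node (nat_lit 0x10552d9) (.leaf (nat_lit 0x10552d7) (nat_lit 2309))
 (.node (nat_lit 0x10552db) (.leaf (nat_lit 0x10552d9) (nat_lit 3077))
 (.leaf (nat_lit 0x10552db) (nat_lit 3075))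
))) (.node (nat_lit 0x1055303) (.node (nat_lit 0x10552df) (.leaf (nat_lit 0x10552dd) (nat_lit 2817))
 (.node (nat_lit 0x1055301) (.leaf (nat_lit 0x10552df) (nat_lit 2821))
 (.leaf (nat_lit 0x1055301) (nat_lit 2306))
)) (.node (nat_lit 0x1055305) (.leaf (nat_lit 0x1055303) (nat_lit 2562))
 (.node (nat_lit 0x1055307) (.leaf (nat_lit 0x1055305) (nat_lit 2818))
 (.leaf (nat_lit 0x1055307) (nat_lit 2562))
))))))) (.node (nat_lit 0x105585d) (.node (nat_lit 0x1055393) (.node (nat_lit 0x105531d) (.node (nat_lit 0x1055313) (.node (nat_lit 0x105530d) (.node (nat_lit 0x105530b) (.leaf (nat_lit 0x1055309) (nat_lit 3329))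
 (.leaf (nat_lit 0x105530b) (nat_lit 3073))
) (.node (nat_lit 0x105530f) (.leaf (nat_lit 0x105530d) (nat_lit 2563))
 (.node (nat_lit 0x1055311) (.leaf (nat_lit 0x105530f) (nat_lit 2819))
 (.leaf (nat_lit 0x1055311) (nat_lit 3585))
))) (.node (nat_lit 0x1055317) (.node (nat_lit 0x1055315) (.leaf (nat_lit 0x1055313) (nat_lit 3329))
 (.leaf (nat_lit 0x1055315) (nat_lit 2819))
) (.node (nat_lit 0x1055319) (.leaf (nat_lit 0x1055317) (nat_lit 3075))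
 (.node (nat_lit 0x105531b) (.leaf (nat_lit 0x1055319) (nat_lit 2562))
 (.leaf (nat_lit 0x105531b) (nat_lit 2818))
)))) (.node (nat_lit 0x1055387) (.node (nat_lit 0x1055381) (.node (nat_lit 0x105531f) (.leaf (nat_lit 0x105531d) (nat_lit 3074))
 (.leaf (nat_lit 0x105531f) (nat_lit 2818))
) (.node (nat_lit 0x1055383) (.leaf (nat_lit 0x1055381) (nat_lit 2050))
 (.node (nat_lit 0x1055385) (.leaf (nat_lit 0x1055383) (nat_lit 2306))
 (.leaf (nat_lit 0x1055385) (nat_lit 3074))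
))) (.node (nat_lit 0x105538d) (.node (nat_lit 0x1055389) (.leaf (nat_lit 0x1055387) (nat_lit 2818))
 (.node (nat_lit 0x105538b) (.leaf (nat_lit 0x1055389) (nat_lit 2564))
 (.leaf (nat_lit 0x105538b) (nat_lit 2820))
)) (.node (nat_lit 0x105538f) (.leaf (nat_lit 0x105538d) (nat_lit 3074))
 (.node (nat_lit 0x1055391) (.leaf (nat_lit 0x105538f) (nat_lit 3075))
 (.leaf (nat_lit 0x1055391) (nat_lit 3330))
))))) (.node (nat_lit 0x1055847) (.node (nat_lit 0x105539d) (.node (nat_lit 0x1055397) (.node (nat_lit 0x1055395) (.leaf (nat_lit 0x1055393) (nat_lit 3333))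
 (.leaf (nat_lit 0x1055395) (nat_lit 2820))
) (.node (nat_lit 0x1055399) (.leaf (nat_lit 0x1055397) (nat_lit 3076))
 (.node (nat_lit 0x105539b) (.leaf (nat_lit 0x1055399) (nat_lit 3330))
 (.leaf (nat_lit 0x105539b) (nat_lit 3074))
))) (.node (nat_lit 0x1055841) (.node (nat_lit 0x105539f) (.leaf (nat_lit 0x105539d) (nat_lit 2306))
 (.leaf (nat_lit 0x105539f) (nat_lit 2562))
) (.node (nat_lit 0x1055843) (.leaf (nat_lit 0x1055841) (nat_lit 1540))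
 (.node (nat_lit 0x1055845) (.leaf (nat_lit 0x1055843) (nat_lit 1796))
 (.leaf (nat_lit 0x1055845) (nat_lit 2308))
)))) (.node (nat_lit 0x1055851) (.node (nat_lit 0x105584b) (.node (nat_lit 0x1055849) (.leaf (nat_lit 0x1055847) (nat_lit 2308))
 (.leaf (nat_lit 0x1055849) (nat_lit 2308))
) (.node (nat_lit 0x105584d) (.leaf (nat_lit 0x105584b) (nat_lit 2308))
 (.node (nat_lit 0x105584f) (.leaf (nat_lit 0x105584d) (nat_lit 2820))
 (.leaf (nat_lit 0x105584f) (nat_lit 2564))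
))) (.node (nat_lit 0x1055857) (.node (nat_lit 0x1055853) (.leaf (nat_lit 0x1055851) (nat_lit 3076))
 (.node (nat_lit 0x1055855) (.leaf (nat_lit 0x1055853) (nat_lit 3076))
 (.leaf (nat_lit 0x1055855) (nat_lit 2308))
)) (.node (nat_lit 0x1055859) (.leaf (nat_lit 0x1055857) (nat_lit 2308))
 (.node (nat_lit 0x105585b) (.leaf (nat_lit 0x1055859) (nat_lit 2820))
 (.leaf (nat_lit 0x105585b) (nat_lit 2820))
)))))) (.node (nat_lit 0x1055907) (.node (nat_lit 0x1055891) (.node (nat_lit 0x1055887) (.node (nat_lit 0x1055881) (.node (nat_lit 0x105585f) (.leaf (nat_lit 0x105585d) (nat_lit 2820))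
 (.leaf (nat_lit 0x105585f) (nat_lit 2564))
) (.node (nat_lit 0x1055883) (.leaf (nat_lit 0x1055881) (nat_lit 1796))
 (.node (nat_lit 0x1055885) (.leaf (nat_lit 0x1055883) (nat_lit 2052))
 (.leaf (nat_lit 0x1055885) (nat_lit 2052))
))) (.node (nat_lit 0x105588b) (.node (nat_lit 0x1055889) (.leaf (nat_lit 0x1055887) (nat_lit 2308))
 (.leaf (nat_lit 0x1055889) (nat_lit 2819))
) (.node (nat_lit 0x105588d) (.leaf (nat_lit 0x105588b) (nat_lit 2820))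
 (.node (nat_lit 0x105588f) (.leaf (nat_lit 0x105588d) (nat_lit 2820))
 (.leaf (nat_lit 0x105588f) (nat_lit 2564))
)))) (.node (nat_lit 0x105589b) (.node (nat_lit 0x1055895) (.node (nat_lit 0x1055893) (.leaf (nat_lit 0x1055891) (nat_lit 2820))
 (.leaf (nat_lit 0x1055893) (nat_lit 2564))
) (.node (nat_lit 0x1055897) (.leaf (nat_lit 0x1055895) (nat_lit 3077))
 (.node (nat_lit 0x1055899) (.leaf (nat_lit 0x1055897) (nat_lit 2821))
 (.leaf (nat_lit 0x1055899) (nat_lit 2818))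
))) (.node (nat_lit 0x1055901) (.node (nat_lit 0x105589d) (.leaf (nat_lit 0x105589b) (nat_lit 3074))
 (.node (nat_lit 0x105589f) (.leaf (nat_lit 0x105589d) (nat_lit 3077))
 (.leaf (nat_lit 0x105589f) (nat_lit 3076))
)) (.node (nat_lit 0x1055903) (.leaf (nat_lit 0x1055901) (nat_lit 1796))
 (.node (nat_lit 0x1055905) (.leaf (nat_lit 0x1055903) (nat_lit 2052))
 (.leaf (nat_lit 0x1055905) (nat_lit 2564))
))))) (.node (nat_lit 0x105591b) (.node (nat_lit 0x1055911) (.node (nat_lit 0x105590b) (.node (nat_lit 0x1055909) (.leaf (nat_lit 0x1055907) (nat_lit 2564))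
 (.leaf (nat_lit 0x1055909) (nat_lit 2052))
) (.node (nat_lit 0x105590d) (.leaf (nat_lit 0x105590b) (nat_lit 2308))
 (.node (nat_lit 0x105590f) (.leaf (nat_lit 0x105590d) (nat_lit 2820))
 (.leaf (nat_lit 0x105590f) (nat_lit 2820))
))) (.node (nat_lit 0x1055915) (.node (nat_lit 0x1055913) (.leaf (nat_lit 0x1055911) (nat_lit 3584))
 (.leaf (nat_lit 0x1055913) (nat_lit 3586))
) (.node (nat_lit 0x1055917) (.leaf (nat_lit 0x1055915) (nat_lit 2818))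
 (.node (nat_lit 0x1055919) (.leaf (nat_lit 0x1055917) (nat_lit 2816))
 (.leaf (nat_lit 0x1055919) (nat_lit 3329))
)))) (.node (nat_lit 0x10559c5) (.node (nat_lit 0x105591f) (.node (nat_lit 0x105591d) (.leaf (nat_lit 0x105591b) (nat_lit 3332))
 (.leaf (nat_lit 0x105591d) (nat_lit 2817))
) (.node (nat_lit 0x10559c1) (.leaf (nat_lit 0x105591f) (nat_lit 2561))
 (.node (nat_lit 0x10559c3) (.leaf (nat_lit 0x10559c1) (nat_lit 2052))
 (.leaf (nat_lit 0x10559c3) (nat_lit 2308))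
))) (.node (nat_lit 0x10559cb) (.node (nat_lit 0x10559c7) (.leaf (nat_lit 0x10559c5) (nat_lit 2308))
 (.node (nat_lit 0x10559c9) (.leaf (nat_lit 0x10559c7) (nat_lit 2564))
 (.leaf (nat_lit 0x10559c9) (nat_lit 2820))
)) (.node (nat_lit 0x10559cd) (.leaf (nat_lit 0x10559cb) (nat_lit 2564))
 (.node (nat_lit 0x10559cf) (.leaf (nat_lit 0x10559cd) (nat_lit 2564))
 (.leaf (nat_lit 0x10559cf) (nat_lit 2308))
)))))))) (.node (nat_lit 0x1056099) (.node (nat_lit 0x1055b05) (.node (nat_lit 0x1055a5b) (.node (nat_lit 0x1055a45) (.node (nat_lit 0x10559db) (.node (nat_lit 0x10559d5) (.node (nat_lit 0x10559d3) (.leaf (nat_lit 0x10559d1) (nat_lit 3333))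
 (.leaf (nat_lit 0x10559d3) (nat_lit 3077))
) (.node (nat_lit 0x10559d7) (.leaf (nat_lit 0x10559d5) (nat_lit 3076))
 (.node (nat_lit 0x10559d9) (.leaf (nat_lit 0x10559d7) (nat_lit 2820))
 (.leaf (nat_lit 0x10559d9) (nat_lit 2820))
))) (.node (nat_lit 0x10559df) (.node (nat_lit 0x10559dd) (.leaf (nat_lit 0x10559db) (nat_lit 3076))
 (.leaf (nat_lit 0x10559dd) (nat_lit 3077))
) (.node (nat_lit 0x1055a41) (.leaf (nat_lit 0x10559df) (nat_lit 3333))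
 (.node (nat_lit 0x1055a43) (.leaf (nat_lit 0x1055a41) (nat_lit 2052))
 (.leaf (nat_lit 0x1055a43) (nat_lit 2308))
)))) (.node (nat_lit 0x1055a4f) (.node (nat_lit 0x1055a49) (.node (nat_lit 0x1055a47) (.leaf (nat_lit 0x1055a45) (nat_lit 2308))
 (.leaf (nat_lit 0x1055a47) (nat_lit 2564))
) (.node (nat_lit 0x1055a4b) (.leaf (nat_lit 0x1055a49) (nat_lit 3076))
 (.node (nat_lit 0x1055a4d) (.leaf (nat_lit 0x1055a4b) (nat_lit 2820))
 (.leaf (nat_lit 0x1055a4d) (nat_lit 3076))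
))) (.node (nat_lit 0x1055a55) (.node (nat_lit 0x1055a51) (.leaf (nat_lit 0x1055a4f) (nat_lit 2820))
 (.node (nat_lit 0x1055a53) (.leaf (nat_lit 0x1055a51) (nat_lit 2564))
 (.leaf (nat_lit 0x1055a53) (nat_lit 2308))
)) (.node (nat_lit 0x1055a57) (.leaf (nat_lit 0x1055a55) (nat_lit 2820))
 (.node (nat_lit 0x1055a59) (.leaf (nat_lit 0x1055a57) (nat_lit 2564))
 (.leaf (nat_lit 0x1055a59) (nat_lit 3073))
))))) (.node (nat_lit 0x1055a8f) (.node (nat_lit 0x1055a85) (.node (nat_lit 0x1055a5f) (.node (nat_lit 0x1055a5d) (.leaf (nat_lit 0x1055a5b) (nat_lit 3329))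
 (.leaf (nat_lit 0x1055a5d) (nat_lit 3076))
) (.node (nat_lit 0x1055a81) (.leaf (nat_lit 0x1055a5f) (nat_lit 3332))
 (.node (nat_lit 0x1055a83) (.leaf (nat_lit 0x1055a81) (nat_lit 1796))
 (.leaf (nat_lit 0x1055a83) (nat_lit 2052))
))) (.node (nat_lit 0x1055a89) (.node (nat_lit 0x1055a87) (.leaf (nat_lit 0x1055a85) (nat_lit 2564))
 (.leaf (nat_lit 0x1055a87) (nat_lit 2564))
) (.node (nat_lit 0x1055a8b) (.leaf (nat_lit 0x1055a89) (nat_lit 2564))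
 (.node (nat_lit 0x1055a8d) (.leaf (nat_lit 0x1055a8b) (nat_lit 2564))
 (.leaf (nat_lit 0x1055a8d) (nat_lit 3076))
)))) (.node (nat_lit 0x1055a99) (.node (nat_lit 0x1055a93) (.node (nat_lit 0x1055a91) (.leaf (nat_lit 0x1055a8f) (nat_lit 2820))
 (.leaf (nat_lit 0x1055a91) (nat_lit 2820))
) (.node (nat_lit 0x1055a95) (.leaf (nat_lit 0x1055a93) (nat_lit 2820))
 (.node (nat_lit 0x1055a97) (.leaf (nat_lit 0x1055a95) (nat_lit 2052))
 (.leaf (nat_lit 0x1055a97) (nat_lit 2308))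
))) (.node (nat_lit 0x1055a9f) (.node (nat_lit 0x1055a9b) (.leaf (nat_lit 0x1055a99) (nat_lit 3076))
 (.node (nat_lit 0x1055a9d) (.leaf (nat_lit 0x1055a9b) (nat_lit 3076))
 (.leaf (nat_lit 0x1055a9d) (nat_lit 2820))
)) (.node (nat_lit 0x1055b01) (.leaf (nat_lit 0x1055a9f) (nat_lit 2820))
 (.node (nat_lit 0x1055b03) (.leaf (nat_lit 0x1055b01) (nat_lit 2308))
 (.leaf (nat_lit 0x1055b03) (nat_lit 2564))
)))))) (.node (nat_lit 0x1055bcf) (.node (nat_lit 0x1055b19) (.node (nat_lit 0x1055b0f) (.node (nat_lit 0x1055b09) (.node (nat_lit 0x1055b07) (.leaf (nat_lit 0x1055b05) (nat_lit 2562))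
 (.leaf (nat_lit 0x1055b07) (nat_lit 2818))
) (.node (nat_lit 0x1055b0b) (.leaf (nat_lit 0x1055b09) (nat_lit 3076))
 (.node (nat_lit 0x1055b0d) (.leaf (nat_lit 0x1055b0b) (nat_lit 2820))
 (.leaf (nat_lit 0x1055b0d) (nat_lit 2820))
))) (.node (nat_lit 0x1055b13) (.node (nat_lit 0x1055b11) (.leaf (nat_lit 0x1055b0f) (nat_lit 2564))
 (.leaf (nat_lit 0x1055b11) (nat_lit 3332))
) (.node (nat_lit 0x1055b15) (.leaf (nat_lit 0x1055b13) (nat_lit 3076))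
 (.node (nat_lit 0x1055b17) (.leaf (nat_lit 0x1055b15) (nat_lit 3076))
 (.leaf (nat_lit 0x1055b17) (nat_lit 2820))
)))) (.node (nat_lit 0x1055bc3) (.node (nat_lit 0x1055b1d) (.node (nat_lit 0x1055b1b) (.leaf (nat_lit 0x1055b19) (nat_lit 2564))
 (.leaf (nat_lit 0x1055b1b) (nat_lit 2820))
) (.node (nat_lit 0x1055b1f) (.leaf (nat_lit 0x1055b1d) (nat_lit 2818))
 (.node (nat_lit 0x1055bc1) (.leaf (nat_lit 0x1055b1f) (nat_lit 3074))
 (.leaf (nat_lit 0x1055bc1) (nat_lit 2053))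
))) (.node (nat_lit 0x1055bc9) (.node (nat_lit 0x1055bc5) (.leaf (nat_lit 0x1055bc3) (nat_lit 2309))
 (.node (nat_lit 0x1055bc7) (.leaf (nat_lit 0x1055bc5) (nat_lit 2818))
 (.leaf (nat_lit 0x1055bc7) (nat_lit 2821))
)) (.node (nat_lit 0x1055bcb) (.leaf (nat_lit 0x1055bc9) (nat_lit 2308))
 (.node (nat_lit 0x1055bcd) (.leaf (nat_lit 0x1055bcb) (nat_lit 2564))
 (.leaf (nat_lit 0x1055bcd) (nat_lit 3076))
))))) (.node (nat_lit 0x1056083) (.node (nat_lit 0x1055bd9) (.node (nat_lit 0x1055bd3) (.node (nat_lit 0x1055bd1) (.leaf (nat_lit 0x1055bcf) (nat_lit 3076))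
 (.leaf (nat_lit 0x1055bd1) (nat_lit 3332))
) (.node (nat_lit 0x1055bd5) (.leaf (nat_lit 0x1055bd3) (nat_lit 3332))
 (.node (nat_lit 0x1055bd7) (.leaf (nat_lit 0x1055bd5) (nat_lit 2820))
 (.leaf (nat_lit 0x1055bd7) (nat_lit 2564))
))) (.node (nat_lit 0x1055bdd) (.node (nat_lit 0x1055bdb) (.leaf (nat_lit 0x1055bd9) (nat_lit 3077))
 (.leaf (nat_lit 0x1055bdb) (nat_lit 3076))
) (.node (nat_lit 0x1055bdf) (.leaf (nat_lit 0x1055bdd) (nat_lit 2565))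
 (.node (nat_lit 0x1056081) (.leaf (nat_lit 0x1055bdf) (nat_lit 2309))
 (.leaf (nat_lit 0x1056081) (nat_lit 1795))
)))) (.node (nat_lit 0x105608d) (.node (nat_lit 0x1056087) (.node (nat_lit 0x1056085) (.leaf (nat_lit 0x1056083) (nat_lit 2051))
 (.leaf (nat_lit 0x1056085) (nat_lit 2051))
) (.node (nat_lit 0x1056089) (.leaf (nat_lit 0x1056087) (nat_lit 2051))
 (.node (nat_lit 0x105608b) (.leaf (nat_lit 0x1056089) (nat_lit 3074))
 (.leaf (nat_lit 0x105608b) (nat_lit 2818))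
))) (.node (nat_lit 0x1056093) (.node (nat_lit 0x105608f) (.leaf (nat_lit 0x105608d) (nat_lit 2818))
 (.node (nat_lit 0x1056091) (.leaf (nat_lit 0x105608f) (nat_lit 2562))
 (.leaf (nat_lit 0x1056091) (nat_lit 3074))
)) (.node (nat_lit 0x1056095) (.leaf (nat_lit 0x1056093) (nat_lit 2818))
 (.node (nat_lit 0x1056097) (.leaf (nat_lit 0x1056095) (nat_lit 3074))
 (.leaf (nat_lit 0x1056097) (nat_lit 2818))
))))))) (.node (nat_lit 0x10561cd) (.node (nat_lit 0x1056183) (.node (nat_lit 0x10560cd) (.node (nat_lit 0x10560c3) (.node (nat_lit 0x105609d) (.node (nat_lit 0x105609b) (.leaf (nat_lit 0x1056099) (nat_lit 2819))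
 (.leaf (nat_lit 0x105609b) (nat_lit 2819))
) (.node (nat_lit 0x105609f) (.leaf (nat_lit 0x105609d) (nat_lit 2563))
 (.node (nat_lit 0x10560c1) (.leaf (nat_lit 0x105609f) (nat_lit 2563))
 (.leaf (nat_lit 0x10560c1) (nat_lit 1539))
))) (.node (nat_lit 0x10560c7) (.node (nat_lit 0x10560c5) (.leaf (nat_lit 0x10560c3) (nat_lit 1795))
 (.leaf (nat_lit 0x10560c5) (nat_lit 2051))
) (.node (nat_lit 0x10560c9) (.leaf (nat_lit 0x10560c7) (nat_lit 1795))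
 (.node (nat_lit 0x10560cb) (.leaf (nat_lit 0x10560c9) (nat_lit 2818))
 (.leaf (nat_lit 0x10560cb) (nat_lit 2562))
)))) (.node (nat_lit 0x10560d7) (.node (nat_lit 0x10560d1) (.node (nat_lit 0x10560cf) (.leaf (nat_lit 0x10560cd) (nat_lit 2562))
 (.leaf (nat_lit 0x10560cf) (nat_lit 2818))
) (.node (nat_lit 0x10560d3) (.leaf (nat_lit 0x10560d1) (nat_lit 2818))
 (.node (nat_lit 0x10560d5) (.leaf (nat_lit 0x10560d3) (nat_lit 2562))
 (.leaf (nat_lit 0x10560d5) (nat_lit 2562))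
))) (.node (nat_lit 0x10560dd) (.node (nat_lit 0x10560d9) (.leaf (nat_lit 0x10560d7) (nat_lit 2818))
 (.node (nat_lit 0x10560db) (.leaf (nat_lit 0x10560d9) (nat_lit 2563))
 (.leaf (nat_lit 0x10560db) (nat_lit 2819))
)) (.node (nat_lit 0x10560df) (.leaf (nat_lit 0x10560dd) (nat_lit 2563))
 (.node (nat_lit 0x1056181) (.leaf (nat_lit 0x10560df) (nat_lit 2307))
 (.leaf (nat_lit 0x1056181) (nat_lit 2050))
))))) (.node (nat_lit 0x1056197) (.node (nat_lit 0x105618d) (.node (nat_lit 0x1056187) (.node (nat_lit 0x1056185) (.leaf (nat_lit 0x1056183) (nat_lit 2306))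
 (.leaf (nat_lit 0x1056185) (nat_lit 2562))
) (.node (nat_lit 0x1056189) (.leaf (nat_lit 0x1056187) (nat_lit 2306))
 (.node (nat_lit 0x105618b) (.leaf (nat_lit 0x1056189) (nat_lit 2818))
 (.leaf (nat_lit 0x105618b) (nat_lit 2562))
))) (.node (nat_lit 0x1056191) (.node (nat_lit 0x105618f) (.leaf (nat_lit 0x105618d) (nat_lit 2306))
 (.leaf (nat_lit 0x105618f) (nat_lit 2307))
) (.node (nat_lit 0x1056193) (.leaf (nat_lit 0x1056191) (nat_lit 3073))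
 (.node (nat_lit 0x1056195) (.leaf (nat_lit 0x1056193) (nat_lit 2817))
 (.leaf (nat_lit 0x1056195) (nat_lit 2561))
)))) (.node (nat_lit 0x10561c1) (.node (nat_lit 0x105619b) (.node (nat_lit 0x1056199) (.leaf (nat_lit 0x1056197) (nat_lit 2817))
 (.leaf (nat_lit 0x1056199) (nat_lit 2816))
) (.node (nat_lit 0x105619d) (.leaf (nat_lit 0x105619b) (nat_lit 3072))
 (.node (nat_lit 0x105619f) (.leaf (nat_lit 0x105619d) (nat_lit 3074))
 (.leaf (nat_lit 0x105619f) (nat_lit 2818))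
))) (.node (nat_lit 0x10561c7) (.node (nat_lit 0x10561c3) (.leaf (nat_lit 0x10561c1) (nat_lit 1795))
 (.node (nat_lit 0x10561c5) (.leaf (nat_lit 0x10561c3) (nat_lit 2051))
 (.leaf (nat_lit 0x10561c5) (nat_lit 2562))
)) (.node (nat_lit 0x10561c9) (.leaf (nat_lit 0x10561c7) (nat_lit 2563))
 (.node (nat_lit 0x10561cb) (.leaf (nat_lit 0x10561c9) (nat_lit 2819))
 (.leaf (nat_lit 0x10561cb) (nat_lit 2818))
)))))) (.node (nat_lit 0x1056297) (.node (nat_lit 0x1056281) (.node (nat_lit 0x10561d7) (.node (nat_lit 0x10561d1) (.node (nat_lit 0x10561cf) (.leaf (nat_lit 0x10561cd) (nat_lit 2307))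
 (.leaf (nat_lit 0x10561cf) (nat_lit 2051))
) (.node (nat_lit 0x10561d3) (.leaf (nat_lit 0x10561d1) (nat_lit 3074))
 (.node (nat_lit 0x10561d5) (.leaf (nat_lit 0x10561d3) (nat_lit 2818))
 (.leaf (nat_lit 0x10561d5) (nat_lit 2819))
))) (.node (nat_lit 0x10561db) (.node (nat_lit 0x10561d9) (.leaf (nat_lit 0x10561d7) (nat_lit 2563))
 (.leaf (nat_lit 0x10561d9) (nat_lit 2819))
) (.node (nat_lit 0x10561dd) (.leaf (nat_lit 0x10561db) (nat_lit 3075))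
 (.node (nat_lit 0x10561df) (.leaf (nat_lit 0x10561dd) (nat_lit 2818))
 (.leaf (nat_lit 0x10561df) (nat_lit 3074))
)))) (.node (nat_lit 0x105628b) (.node (nat_lit 0x1056285) (.node (nat_lit 0x1056283) (.leaf (nat_lit 0x1056281) (nat_lit 2050))
 (.leaf (nat_lit 0x1056283) (nat_lit 2306))
) (.node (nat_lit 0x1056287) (.leaf (nat_lit 0x1056285) (nat_lit 2562))
 (.node (nat_lit 0x1056289) (.leaf (nat_lit 0x1056287) (nat_lit 2306))
 (.leaf (nat_lit 0x1056289) (nat_lit 3073))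
))) (.node (nat_lit 0x1056291) (.node (nat_lit 0x105628d) (.leaf (nat_lit 0x105628b) (nat_lit 2817))
 (.node (nat_lit 0x105628f) (.leaf (nat_lit 0x105628d) (nat_lit 2561))
 (.leaf (nat_lit 0x105628f) (nat_lit 2563))
)) (.node (nat_lit 0x1056293) (.leaf (nat_lit 0x1056291) (nat_lit 2818))
 (.node (nat_lit 0x1056295) (.leaf (nat_lit 0x1056293) (nat_lit 2562))
 (.leaf (nat_lit 0x1056295) (nat_lit 2306))
))))) (.node (nat_lit 0x10562cb) (.node (nat_lit 0x10562c1) (.node (nat_lit 0x105629b) (.node (nat_lit 0x1056299) (.leaf (nat_lit 0x1056297) (nat_lit 2562))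
 (.leaf (nat_lit 0x1056299) (nat_lit 2816))
) (.node (nat_lit 0x105629d) (.leaf (nat_lit 0x105629b) (nat_lit 2819))
 (.node (nat_lit 0x105629f) (.leaf (nat_lit 0x105629d) (nat_lit 3328))
 (.leaf (nat_lit 0x105629f) (nat_lit 3072))
))) (.node (nat_lit 0x10562c5) (.node (nat_lit 0x10562c3) (.leaf (nat_lit 0x10562c1) (nat_lit 2051))
 (.leaf (nat_lit 0x10562c3) (nat_lit 2307))
) (.node (nat_lit 0x10562c7) (.leaf (nat_lit 0x10562c5) (nat_lit 2562))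
 (.node (nat_lit 0x10562c9) (.leaf (nat_lit 0x10562c7) (nat_lit 2562))
 (.leaf (nat_lit 0x10562c9) (nat_lit 3075))
)))) (.node (nat_lit 0x10562d5) (.node (nat_lit 0x10562cf) (.node (nat_lit 0x10562cd) (.leaf (nat_lit 0x10562cb) (nat_lit 3073))
 (.leaf (nat_lit 0x10562cd) (nat_lit 2563))
) (.node (nat_lit 0x10562d1) (.leaf (nat_lit 0x10562cf) (nat_lit 2307))
 (.node (nat_lit 0x10562d3) (.leaf (nat_lit 0x10562d1) (nat_lit 2818))
 (.leaf (nat_lit 0x10562d3) (nat_lit 2818))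
))) (.node (nat_lit 0x10562db) (.node (nat_lit 0x10562d7) (.leaf (nat_lit 0x10562d5) (nat_lit 2563))
 (.node (nat_lit 0x10562d9) (.leaf (nat_lit 0x10562d7) (nat_lit 2307))
 (.leaf (nat_lit 0x10562d9) (nat_lit 2563))
)) (.node (nat_lit 0x10562dd) (.leaf (nat_lit 0x10562db) (nat_lit 2819))
 (.node (nat_lit 0x10562df) (.leaf (nat_lit 0x10562dd) (nat_lit 3073))
 (.leaf (nat_lit 0x10562df) (nat_lit 3329))
)))))))))) (.node (nat_lit 0x1060941) (.node (nat_lit 0x1057851) (.node (nat_lit 0x10571c9) (.node (nat_lit 0x1057055) (.node (nat_lit 0x10563cb) (.node (nat_lit 0x1056395) (.node (nat_lit 0x105638b) (.node (nat_lit 0x1056385) (.node (nat_lit 0x1056383) (.leaf (nat_lit 0x1056381) (nat_lit 2051))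
 (.leaf (nat_lit 0x1056383) (nat_lit 2307))
) (.node (nat_lit 0x1056387) (.leaf (nat_lit 0x1056385) (nat_lit 2307))
 (.node (nat_lit 0x1056389) (.leaf (nat_lit 0x1056387) (nat_lit 2307))
 (.leaf (nat_lit 0x1056389) (nat_lit 3074))
))) (.node (nat_lit 0x105638f) (.node (nat_lit 0x105638d) (.leaf (nat_lit 0x105638b) (nat_lit 3074))
 (.leaf (nat_lit 0x105638d) (nat_lit 2818))
) (.node (nat_lit 0x1056391) (.leaf (nat_lit 0x105638f) (nat_lit 2562))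
 (.node (nat_lit 0x1056393) (.leaf (nat_lit 0x1056391) (nat_lit 3074))
 (.leaf (nat_lit 0x1056393) (nat_lit 2818))
)))) (.node (nat_lit 0x105639f) (.node (nat_lit 0x1056399) (.node (nat_lit 0x1056397) (.leaf (nat_lit 0x1056395) (nat_lit 3329))
 (.leaf (nat_lit 0x1056397) (nat_lit 3073))
) (.node (nat_lit 0x105639b) (.leaf (nat_lit 0x1056399) (nat_lit 2563))
 (.node (nat_lit 0x105639d) (.leaf (nat_lit 0x105639b) (nat_lit 2563))
 (.leaf (nat_lit 0x105639d) (nat_lit 2307))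
))) (.node (nat_lit 0x10563c5) (.node (nat_lit 0x10563c1) (.leaf (nat_lit 0x105639f) (nat_lit 2307))
 (.node (nat_lit 0x10563c3) (.leaf (nat_lit 0x10563c1) (nat_lit 1795))
 (.leaf (nat_lit 0x10563c3) (nat_lit 2051))
)) (.node (nat_lit 0x10563c7) (.leaf (nat_lit 0x10563c5) (nat_lit 2307))
 (.node (nat_lit 0x10563c9) (.leaf (nat_lit 0x10563c7) (nat_lit 2051))
 (.leaf (nat_lit 0x10563c9) (nat_lit 3074))
))))) (.node (nat_lit 0x10563df) (.node (nat_lit 0x10563d5) (.node (nat_lit 0x10563cf) (.node (nat_lit 0x10563cd) (.leaf (nat_lit 0x10563cb) (nat_lit 2818))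
 (.leaf (nat_lit 0x10563cd) (nat_lit 2562))
) (.node (nat_lit 0x10563d1) (.leaf (nat_lit 0x10563cf) (nat_lit 2818))
 (.node (nat_lit 0x10563d3) (.leaf (nat_lit 0x10563d1) (nat_lit 3073))
 (.leaf (nat_lit 0x10563d3) (nat_lit 2817))
))) (.node (nat_lit 0x10563d9) (.node (nat_lit 0x10563d7) (.leaf (nat_lit 0x10563d5) (nat_lit 2817))
 (.leaf (nat_lit 0x10563d7) (nat_lit 3073))
) (.node (nat_lit 0x10563db) (.leaf (nat_lit 0x10563d9) (nat_lit 2307))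
 (.node (nat_lit 0x10563dd) (.leaf (nat_lit 0x10563db) (nat_lit 2563))
 (.leaf (nat_lit 0x10563dd) (nat_lit 2307))
)))) (.node (nat_lit 0x1057049) (.node (nat_lit 0x1057043) (.node (nat_lit 0x1057041) (.leaf (nat_lit 0x10563df) (nat_lit 2051))
 (.leaf (nat_lit 0x1057041) (nat_lit 1539))
) (.node (nat_lit 0x1057045) (.leaf (nat_lit 0x1057043) (nat_lit 1795))
 (.node (nat_lit 0x1057047) (.leaf (nat_lit 0x1057045) (nat_lit 2307))
 (.leaf (nat_lit 0x1057047) (nat_lit 2307))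
))) (.node (nat_lit 0x105704f) (.node (nat_lit 0x105704b) (.leaf (nat_lit 0x1057049) (nat_lit 2562))
 (.node (nat_lit 0x105704d) (.leaf (nat_lit 0x105704b) (nat_lit 2562))
 (.leaf (nat_lit 0x105704d) (nat_lit 2821))
)) (.node (nat_lit 0x1057051) (.leaf (nat_lit 0x105704f) (nat_lit 2819))
 (.node (nat_lit 0x1057053) (.leaf (nat_lit 0x1057051) (nat_lit 3330))
 (.leaf (nat_lit 0x1057053) (nat_lit 3330))
)))))) (.node (nat_lit 0x105709f) (.node (nat_lit 0x1057089) (.node (nat_lit 0x105705f) (.node (nat_lit 0x1057059) (.node (nat_lit 0x1057057) (.leaf (nat_lit 0x1057055) (nat_lit 2562))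
 (.leaf (nat_lit 0x1057057) (nat_lit 2562))
) (.node (nat_lit 0x105705b) (.leaf (nat_lit 0x1057059) (nat_lit 2819))
 (.node (nat_lit 0x105705d) (.leaf (nat_lit 0x105705b) (nat_lit 2819))
 (.leaf (nat_lit 0x105705d) (nat_lit 2561))
))) (.node (nat_lit 0x1057083) (.node (nat_lit 0x1057081) (.leaf (nat_lit 0x105705f) (nat_lit 2305))
 (.leaf (nat_lit 0x1057081) (nat_lit 1795))
) (.node (nat_lit 0x1057085) (.leaf (nat_lit 0x1057083) (nat_lit 2051))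
 (.node (nat_lit 0x1057087) (.leaf (nat_lit 0x1057085) (nat_lit 2051))
 (.leaf (nat_lit 0x1057087) (nat_lit 2307))
)))) (.node (nat_lit 0x1057093) (.node (nat_lit 0x105708d) (.node (nat_lit 0x105708b) (.leaf (nat_lit 0x1057089) (nat_lit 3076))
 (.leaf (nat_lit 0x105708b) (nat_lit 2820))
) (.node (nat_lit 0x105708f) (.leaf (nat_lit 0x105708d) (nat_lit 3074))
 (.node (nat_lit 0x1057091) (.leaf (nat_lit 0x105708f) (nat_lit 2818))
 (.leaf (nat_lit 0x1057091) (nat_lit 3074))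
))) (.node (nat_lit 0x1057099) (.node (nat_lit 0x1057095) (.leaf (nat_lit 0x1057093) (nat_lit 2818))
 (.node (nat_lit 0x1057097) (.leaf (nat_lit 0x1057095) (nat_lit 3333))
 (.leaf (nat_lit 0x1057097) (nat_lit 3077))
)) (.node (nat_lit 0x105709b) (.leaf (nat_lit 0x1057099) (nat_lit 2563))
 (.node (nat_lit 0x105709d) (.leaf (nat_lit 0x105709b) (nat_lit 2819))
 (.leaf (nat_lit 0x105709d) (nat_lit 2821))
))))) (.node (nat_lit 0x1057113) (.node (nat_lit 0x1057109) (.node (nat_lit 0x1057103) (.node (nat_lit 0x1057101) (.leaf (nat_lit 0x105709f) (nat_lit 2821))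
 (.leaf (nat_lit 0x1057101) (nat_lit 2050))
) (.node (nat_lit 0x1057105) (.leaf (nat_lit 0x1057103) (nat_lit 2306))
 (.node (nat_lit 0x1057107) (.leaf (nat_lit 0x1057105) (nat_lit 2818))
 (.leaf (nat_lit 0x1057107) (nat_lit 2818))
))) (.node (nat_lit 0x105710d) (.node (nat_lit 0x105710b) (.leaf (nat_lit 0x1057109) (nat_lit 2306))
 (.leaf (nat_lit 0x105710b) (nat_lit 2562))
) (.node (nat_lit 0x105710f) (.leaf (nat_lit 0x105710d) (nat_lit 3075))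
 (.node (nat_lit 0x1057111) (.leaf (nat_lit 0x105710f) (nat_lit 2819))
 (.leaf (nat_lit 0x1057111) (nat_lit 3329))
)))) (.node (nat_lit 0x105711d) (.node (nat_lit 0x1057117) (.node (nat_lit 0x1057115) (.leaf (nat_lit 0x1057113) (nat_lit 3329))
 (.leaf (nat_lit 0x1057115) (nat_lit 2561))
) (.node (nat_lit 0x1057119) (.leaf (nat_lit 0x1057117) (nat_lit 2817))
 (.node (nat_lit 0x105711b) (.leaf (nat_lit 0x1057119) (nat_lit 3586))
 (.leaf (nat_lit 0x105711b) (nat_lit 3589))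
))) (.node (nat_lit 0x10571c3) (.node (nat_lit 0x105711f) (.leaf (nat_lit 0x105711d) (nat_lit 2821))
 (.node (nat_lit 0x10571c1) (.leaf (nat_lit 0x105711f) (nat_lit 2818))
 (.leaf (nat_lit 0x10571c1) (nat_lit 2053))
)) (.node (nat_lit 0x10571c5) (.leaf (nat_lit 0x10571c3) (nat_lit 2309))
 (.node (nat_lit 0x10571c7) (.leaf (nat_lit 0x10571c5) (nat_lit 2565))
 (.leaf (nat_lit 0x10571c7) (nat_lit 2563))
))))))) (.node (nat_lit 0x105729d) (.node (nat_lit 0x1057253) (.node (nat_lit 0x10571dd) (.node (nat_lit 0x10571d3) (.node (nat_lit 0x10571cd) (.node (nat_lit 0x10571cb) (.leaf (nat_lit 0x10571c9) (nat_lit 2819))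
 (.leaf (nat_lit 0x10571cb) (nat_lit 2821))
) (.node (nat_lit 0x10571cf) (.leaf (nat_lit 0x10571cd) (nat_lit 2565))
 (.node (nat_lit 0x10571d1) (.leaf (nat_lit 0x10571cf) (nat_lit 2309))
 (.leaf (nat_lit 0x10571d1) (nat_lit 3077))
))) (.node (nat_lit 0x10571d7) (.node (nat_lit 0x10571d5) (.leaf (nat_lit 0x10571d3) (nat_lit 2821))
 (.leaf (nat_lit 0x10571d5) (nat_lit 3330))
) (.node (nat_lit 0x10571d9) (.leaf (nat_lit 0x10571d7) (nat_lit 3074))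
 (.node (nat_lit 0x10571db) (.leaf (nat_lit 0x10571d9) (nat_lit 3074))
 (.leaf (nat_lit 0x10571db) (nat_lit 3330))
)))) (.node (nat_lit 0x1057247) (.node (nat_lit 0x1057241) (.node (nat_lit 0x10571df) (.leaf (nat_lit 0x10571dd) (nat_lit 2821))
 (.leaf (nat_lit 0x10571df) (nat_lit 3077))
) (.node (nat_lit 0x1057243) (.leaf (nat_lit 0x1057241) (nat_lit 2305))
 (.node (nat_lit 0x1057245) (.leaf (nat_lit 0x1057243) (nat_lit 2561))
 (.leaf (nat_lit 0x1057245) (nat_lit 2562))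
))) (.node (nat_lit 0x105724d) (.node (nat_lit 0x1057249) (.leaf (nat_lit 0x1057247) (nat_lit 2818))
 (.node (nat_lit 0x105724b) (.leaf (nat_lit 0x1057249) (nat_lit 3075))
 (.leaf (nat_lit 0x105724b) (nat_lit 3073))
)) (.node (nat_lit 0x105724f) (.leaf (nat_lit 0x105724d) (nat_lit 2817))
 (.node (nat_lit 0x1057251) (.leaf (nat_lit 0x105724f) (nat_lit 2561))
 (.leaf (nat_lit 0x1057251) (nat_lit 2816))
))))) (.node (nat_lit 0x1057287) (.node (nat_lit 0x105725d) (.node (nat_lit 0x1057257) (.node (nat_lit 0x1057255) (.leaf (nat_lit 0x1057253) (nat_lit 2560))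
 (.leaf (nat_lit 0x1057255) (nat_lit 3074))
) (.node (nat_lit 0x1057259) (.leaf (nat_lit 0x1057257) (nat_lit 2818))
 (.node (nat_lit 0x105725b) (.leaf (nat_lit 0x1057259) (nat_lit 3328))
 (.leaf (nat_lit 0x105725b) (nat_lit 3331))
))) (.node (nat_lit 0x1057281) (.node (nat_lit 0x105725f) (.leaf (nat_lit 0x105725d) (nat_lit 2816))
 (.leaf (nat_lit 0x105725f) (nat_lit 3072))
) (.node (nat_lit 0x1057283) (.leaf (nat_lit 0x1057281) (nat_lit 2050))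
 (.node (nat_lit 0x1057285) (.leaf (nat_lit 0x1057283) (nat_lit 2306))
 (.leaf (nat_lit 0x1057285) (nat_lit 2818))
)))) (.node (nat_lit 0x1057291) (.node (nat_lit 0x105728b) (.node (nat_lit 0x1057289) (.leaf (nat_lit 0x1057287) (nat_lit 2818))
 (.leaf (nat_lit 0x1057289) (nat_lit 2561))
) (.node (nat_lit 0x105728d) (.leaf (nat_lit 0x105728b) (nat_lit 2817))
 (.node (nat_lit 0x105728f) (.leaf (nat_lit 0x105728d) (nat_lit 3331))
 (.leaf (nat_lit 0x105728f) (nat_lit 3075))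
))) (.node (nat_lit 0x1057297) (.node (nat_lit 0x1057293) (.leaf (nat_lit 0x1057291) (nat_lit 3074))
 (.node (nat_lit 0x1057295) (.leaf (nat_lit 0x1057293) (nat_lit 3074))
 (.leaf (nat_lit 0x1057295) (nat_lit 2306))
)) (.node (nat_lit 0x1057299) (.leaf (nat_lit 0x1057297) (nat_lit 2562))
 (.node (nat_lit 0x105729b) (.leaf (nat_lit 0x1057299) (nat_lit 3330))
 (.leaf (nat_lit 0x105729b) (nat_lit 3333))
)))))) (.node (nat_lit 0x10573c7) (.node (nat_lit 0x1057311) (.node (nat_lit 0x1057307) (.node (nat_lit 0x1057301) (.node (nat_lit 0x105729f) (.leaf (nat_lit 0x105729d) (nat_lit 2821))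
 (.leaf (nat_lit 0x105729f) (nat_lit 2821))
) (.node (nat_lit 0x1057303) (.leaf (nat_lit 0x1057301) (nat_lit 2051))
 (.node (nat_lit 0x1057305) (.leaf (nat_lit 0x1057303) (nat_lit 2307))
 (.leaf (nat_lit 0x1057305) (nat_lit 2307))
))) (.node (nat_lit 0x105730b) (.node (nat_lit 0x1057309) (.leaf (nat_lit 0x1057307) (nat_lit 2563))
 (.leaf (nat_lit 0x1057309) (nat_lit 3330))
) (.node (nat_lit 0x105730d) (.leaf (nat_lit 0x105730b) (nat_lit 3074))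
 (.node (nat_lit 0x105730f) (.leaf (nat_lit 0x105730d) (nat_lit 3074))
 (.leaf (nat_lit 0x105730f) (nat_lit 2818))
)))) (.node (nat_lit 0x105731b) (.node (nat_lit 0x1057315) (.node (nat_lit 0x1057313) (.leaf (nat_lit 0x1057311) (nat_lit 3329))
 (.leaf (nat_lit 0x1057313) (nat_lit 3073))
) (.node (nat_lit 0x1057317) (.leaf (nat_lit 0x1057315) (nat_lit 3330))
 (.node (nat_lit 0x1057319) (.leaf (nat_lit 0x1057317) (nat_lit 3074))
 (.leaf (nat_lit 0x1057319) (nat_lit 2307))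
))) (.node (nat_lit 0x10573c1) (.node (nat_lit 0x105731d) (.leaf (nat_lit 0x105731b) (nat_lit 2563))
 (.node (nat_lit 0x105731f) (.leaf (nat_lit 0x105731d) (nat_lit 2563))
 (.leaf (nat_lit 0x105731f) (nat_lit 2819))
)) (.node (nat_lit 0x10573c3) (.leaf (nat_lit 0x10573c1) (nat_lit 1797))
 (.node (nat_lit 0x10573c5) (.leaf (nat_lit 0x10573c3) (nat_lit 2053))
 (.leaf (nat_lit 0x10573c5) (nat_lit 2563))
))))) (.node (nat_lit 0x10573db) (.node (nat_lit 0x10573d1) (.node (nat_lit 0x10573cb) (.node (nat_lit 0x10573c9) (.leaf (nat_lit 0x10573c7) (nat_lit 2565))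
 (.leaf (nat_lit 0x10573c9) (nat_lit 2562))
) (.node (nat_lit 0x10573cd) (.leaf (nat_lit 0x10573cb) (nat_lit 2818))
 (.node (nat_lit 0x10573cf) (.leaf (nat_lit 0x10573cd) (nat_lit 3073))
 (.leaf (nat_lit 0x10573cf) (nat_lit 3077))
))) (.node (nat_lit 0x10573d5) (.node (nat_lit 0x10573d3) (.leaf (nat_lit 0x10573d1) (nat_lit 3333))
 (.leaf (nat_lit 0x10573d3) (nat_lit 3328))
) (.node (nat_lit 0x10573d7) (.leaf (nat_lit 0x10573d5) (nat_lit 2817))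
 (.node (nat_lit 0x10573d9) (.leaf (nat_lit 0x10573d7) (nat_lit 2817))
 (.leaf (nat_lit 0x10573d9) (nat_lit 2821))
)))) (.node (nat_lit 0x1057845) (.node (nat_lit 0x10573df) (.node (nat_lit 0x10573dd) (.leaf (nat_lit 0x10573db) (nat_lit 2819))
 (.leaf (nat_lit 0x10573dd) (nat_lit 2309))
) (.node (nat_lit 0x1057841) (.leaf (nat_lit 0x10573df) (nat_lit 2053))
 (.node (nat_lit 0x1057843) (.leaf (nat_lit 0x1057841) (nat_lit 1540))
 (.leaf (nat_lit 0x1057843) (nat_lit 1796))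
))) (.node (nat_lit 0x105784b) (.node (nat_lit 0x1057847) (.leaf (nat_lit 0x1057845) (nat_lit 2564))
 (.node (nat_lit 0x1057849) (.leaf (nat_lit 0x1057847) (nat_lit 2308))
 (.leaf (nat_lit 0x1057849) (nat_lit 2564))
)) (.node (nat_lit 0x105784d) (.leaf (nat_lit 0x105784b) (nat_lit 2564))
 (.node (nat_lit 0x105784f) (.leaf (nat_lit 0x105784d) (nat_lit 2564))
 (.leaf (nat_lit 0x105784f) (nat_lit 2564))
)))))))) (.node (nat_lit 0x1057ad9) (.node (nat_lit 0x1057985) (.node (nat_lit 0x10578db) (.node (nat_lit 0x10578c5) (.node (nat_lit 0x105785b) (.node (nat_lit 0x1057855) (.node (nat_lit 0x1057853) (.leaf (nat_lit 0x1057851) (nat_lit 3332))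
 (.leaf (nat_lit 0x1057853) (nat_lit 3332))
) (.node (nat_lit 0x1057857) (.leaf (nat_lit 0x1057855) (nat_lit 2821))
 (.node (nat_lit 0x1057859) (.leaf (nat_lit 0x1057857) (nat_lit 2820))
 (.leaf (nat_lit 0x1057859) (nat_lit 2820))
))) (.node (nat_lit 0x105785f) (.node (nat_lit 0x105785d) (.leaf (nat_lit 0x105785b) (nat_lit 2820))
 (.leaf (nat_lit 0x105785d) (nat_lit 2308))
) (.node (nat_lit 0x10578c1) (.leaf (nat_lit 0x105785f) (nat_lit 2308))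
 (.node (nat_lit 0x10578c3) (.leaf (nat_lit 0x10578c1) (nat_lit 1796))
 (.leaf (nat_lit 0x10578c3) (nat_lit 2052))
)))) (.node (nat_lit 0x10578cf) (.node (nat_lit 0x10578c9) (.node (nat_lit 0x10578c7) (.leaf (nat_lit 0x10578c5) (nat_lit 2308))
 (.leaf (nat_lit 0x10578c7) (nat_lit 2052))
) (.node (nat_lit 0x10578cb) (.leaf (nat_lit 0x10578c9) (nat_lit 2820))
 (.node (nat_lit 0x10578cd) (.leaf (nat_lit 0x10578cb) (nat_lit 2564))
 (.leaf (nat_lit 0x10578cd) (nat_lit 2564))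
))) (.node (nat_lit 0x10578d5) (.node (nat_lit 0x10578d1) (.leaf (nat_lit 0x10578cf) (nat_lit 2820))
 (.node (nat_lit 0x10578d3) (.leaf (nat_lit 0x10578d1) (nat_lit 3077))
 (.leaf (nat_lit 0x10578d3) (nat_lit 2821))
)) (.node (nat_lit 0x10578d7) (.leaf (nat_lit 0x10578d5) (nat_lit 2821))
 (.node (nat_lit 0x10578d9) (.leaf (nat_lit 0x10578d7) (nat_lit 3077))
 (.leaf (nat_lit 0x10578d9) (nat_lit 2564))
))))) (.node (nat_lit 0x105790f) (.node (nat_lit 0x1057905) (.node (nat_lit 0x10578df) (.node (nat_lit 0x10578dd) (.leaf (nat_lit 0x10578db) (nat_lit 2820))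
 (.leaf (nat_lit 0x10578dd) (nat_lit 2820))
) (.node (nat_lit 0x1057901) (.leaf (nat_lit 0x10578df) (nat_lit 2564))
 (.node (nat_lit 0x1057903) (.leaf (nat_lit 0x1057901) (nat_lit 2052))
 (.leaf (nat_lit 0x1057903) (nat_lit 2308))
))) (.node (nat_lit 0x1057909) (.node (nat_lit 0x1057907) (.leaf (nat_lit 0x1057905) (nat_lit 2821))
 (.leaf (nat_lit 0x1057907) (nat_lit 2820))
) (.node (nat_lit 0x105790b) (.leaf (nat_lit 0x1057909) (nat_lit 2308))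
 (.node (nat_lit 0x105790d) (.leaf (nat_lit 0x105790b) (nat_lit 2564))
 (.leaf (nat_lit 0x105790d) (nat_lit 2820))
)))) (.node (nat_lit 0x1057919) (.node (nat_lit 0x1057913) (.node (nat_lit 0x1057911) (.leaf (nat_lit 0x105790f) (nat_lit 2820))
 (.leaf (nat_lit 0x1057911) (nat_lit 3585))
) (.node (nat_lit 0x1057915) (.leaf (nat_lit 0x1057913) (nat_lit 3585))
 (.node (nat_lit 0x1057917) (.leaf (nat_lit 0x1057915) (nat_lit 3073))
 (.leaf (nat_lit 0x1057917) (nat_lit 2817))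
))) (.node (nat_lit 0x105791f) (.node (nat_lit 0x105791b) (.leaf (nat_lit 0x1057919) (nat_lit 3588))
 (.node (nat_lit 0x105791d) (.leaf (nat_lit 0x105791b) (nat_lit 3586))
 (.leaf (nat_lit 0x105791d) (nat_lit 2818))
)) (.node (nat_lit 0x1057981) (.leaf (nat_lit 0x105791f) (nat_lit 2820))
 (.node (nat_lit 0x1057983) (.leaf (nat_lit 0x1057981) (nat_lit 2052))
 (.leaf (nat_lit 0x1057983) (nat_lit 2308))
)))))) (.node (nat_lit 0x1057a4f) (.node (nat_lit 0x1057999) (.node (nat_lit 0x105798f) (.node (nat_lit 0x1057989) (.node (nat_lit 0x1057987) (.leaf (nat_lit 0x1057985) (nat_lit 2564))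
 (.leaf (nat_lit 0x1057987) (nat_lit 2308))
) (.node (nat_lit 0x105798b) (.leaf (nat_lit 0x1057989) (nat_lit 2820))
 (.node (nat_lit 0x105798d) (.leaf (nat_lit 0x105798b) (nat_lit 2564))
 (.leaf (nat_lit 0x105798d) (nat_lit 2308))
))) (.node (nat_lit 0x1057993) (.node (nat_lit 0x1057991) (.leaf (nat_lit 0x105798f) (nat_lit 2564))
 (.leaf (nat_lit 0x1057991) (nat_lit 3076))
) (.node (nat_lit 0x1057995) (.leaf (nat_lit 0x1057993) (nat_lit 2820))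
 (.node (nat_lit 0x1057997) (.leaf (nat_lit 0x1057995) (nat_lit 3076))
 (.leaf (nat_lit 0x1057997) (nat_lit 3332))
)))) (.node (nat_lit 0x1057a43) (.node (nat_lit 0x105799d) (.node (nat_lit 0x105799b) (.leaf (nat_lit 0x1057999) (nat_lit 3077))
 (.leaf (nat_lit 0x105799b) (nat_lit 3333))
) (.node (nat_lit 0x105799f) (.leaf (nat_lit 0x105799d) (nat_lit 3077))
 (.node (nat_lit 0x1057a41) (.leaf (nat_lit 0x105799f) (nat_lit 2821))
 (.leaf (nat_lit 0x1057a41) (nat_lit 2308))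
))) (.node (nat_lit 0x1057a49) (.node (nat_lit 0x1057a45) (.leaf (nat_lit 0x1057a43) (nat_lit 2564))
 (.node (nat_lit 0x1057a47) (.leaf (nat_lit 0x1057a45) (nat_lit 2820))
 (.leaf (nat_lit 0x1057a47) (nat_lit 2564))
)) (.node (nat_lit 0x1057a4b) (.leaf (nat_lit 0x1057a49) (nat_lit 3076))
 (.node (nat_lit 0x1057a4d) (.leaf (nat_lit 0x1057a4b) (nat_lit 2820))
 (.leaf (nat_lit 0x1057a4d) (nat_lit 2564))
))))) (.node (nat_lit 0x1057ac3) (.node (nat_lit 0x1057a59) (.node (nat_lit 0x1057a53) (.node (nat_lit 0x1057a51) (.leaf (nat_lit 0x1057a4f) (nat_lit 2820))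
 (.leaf (nat_lit 0x1057a51) (nat_lit 2820))
) (.node (nat_lit 0x1057a55) (.leaf (nat_lit 0x1057a53) (nat_lit 2564))
 (.node (nat_lit 0x1057a57) (.leaf (nat_lit 0x1057a55) (nat_lit 2820))
 (.leaf (nat_lit 0x1057a57) (nat_lit 3076))
))) (.node (nat_lit 0x1057a5d) (.node (nat_lit 0x1057a5b) (.leaf (nat_lit 0x1057a59) (nat_lit 3076))
 (.leaf (nat_lit 0x1057a5b) (nat_lit 3332))
) (.node (nat_lit 0x1057a5f) (.leaf (nat_lit 0x1057a5d) (nat_lit 3076))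
 (.node (nat_lit 0x1057ac1) (.leaf (nat_lit 0x1057a5f) (nat_lit 2820))
 (.leaf (nat_lit 0x1057ac1) (nat_lit 2309))
)))) (.node (nat_lit 0x1057acd) (.node (nat_lit 0x1057ac7) (.node (nat_lit 0x1057ac5) (.leaf (nat_lit 0x1057ac3) (nat_lit 2565))
 (.leaf (nat_lit 0x1057ac5) (nat_lit 3077))
) (.node (nat_lit 0x1057ac9) (.leaf (nat_lit 0x1057ac7) (nat_lit 3077))
 (.node (nat_lit 0x1057acb) (.leaf (nat_lit 0x1057ac9) (nat_lit 2564))
 (.leaf (nat_lit 0x1057acb) (nat_lit 2820))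
))) (.node (nat_lit 0x1057ad3) (.node (nat_lit 0x1057acf) (.leaf (nat_lit 0x1057acd) (nat_lit 3074))
 (.node (nat_lit 0x1057ad1) (.leaf (nat_lit 0x1057acf) (nat_lit 3077))
 (.leaf (nat_lit 0x1057ad1) (nat_lit 3333))
)) (.node (nat_lit 0x1057ad5) (.leaf (nat_lit 0x1057ad3) (nat_lit 3333))
 (.node (nat_lit 0x1057ad7) (.leaf (nat_lit 0x1057ad5) (nat_lit 2821))
 (.leaf (nat_lit 0x1057ad7) (nat_lit 2565))
))))))) (.node (nat_lit 0x106088d) (.node (nat_lit 0x1057b83) (.node (nat_lit 0x1057b0d) (.node (nat_lit 0x1057b03) (.node (nat_lit 0x1057add) (.node (nat_lit 0x1057adb) (.leaf (nat_lit 0x1057ad9) (nat_lit 3332))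
 (.leaf (nat_lit 0x1057adb) (nat_lit 3332))
) (.node (nat_lit 0x1057adf) (.leaf (nat_lit 0x1057add) (nat_lit 2820))
 (.node (nat_lit 0x1057b01) (.leaf (nat_lit 0x1057adf) (nat_lit 2564))
 (.leaf (nat_lit 0x1057b01) (nat_lit 2052))
))) (.node (nat_lit 0x1057b07) (.node (nat_lit 0x1057b05) (.leaf (nat_lit 0x1057b03) (nat_lit 2308))
 (.leaf (nat_lit 0x1057b05) (nat_lit 2564))
) (.node (nat_lit 0x1057b09) (.leaf (nat_lit 0x1057b07) (nat_lit 2308))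
 (.node (nat_lit 0x1057b0b) (.leaf (nat_lit 0x1057b09) (nat_lit 3076))
 (.leaf (nat_lit 0x1057b0b) (nat_lit 2820))
)))) (.node (nat_lit 0x1057b17) (.node (nat_lit 0x1057b11) (.node (nat_lit 0x1057b0f) (.leaf (nat_lit 0x1057b0d) (nat_lit 2820))
 (.leaf (nat_lit 0x1057b0f) (nat_lit 3076))
) (.node (nat_lit 0x1057b13) (.leaf (nat_lit 0x1057b11) (nat_lit 3332))
 (.node (nat_lit 0x1057b15) (.leaf (nat_lit 0x1057b13) (nat_lit 3076))
 (.leaf (nat_lit 0x1057b15) (nat_lit 3073))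
))) (.node (nat_lit 0x1057b1d) (.node (nat_lit 0x1057b19) (.leaf (nat_lit 0x1057b17) (nat_lit 3329))
 (.node (nat_lit 0x1057b1b) (.leaf (nat_lit 0x1057b19) (nat_lit 2308))
 (.leaf (nat_lit 0x1057b1b) (nat_lit 2564))
)) (.node (nat_lit 0x1057b1f) (.leaf (nat_lit 0x1057b1d) (nat_lit 2820))
 (.node (nat_lit 0x1057b81) (.leaf (nat_lit 0x1057b1f) (nat_lit 2564))
 (.leaf (nat_lit 0x1057b81) (nat_lit 1796))
))))) (.node (nat_lit 0x1057b97) (.node (nat_lit 0x1057b8d) (.node (nat_lit 0x1057b87) (.node (nat_lit 0x1057b85) (.leaf (nat_lit 0x1057b83) (nat_lit 2052))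
 (.leaf (nat_lit 0x1057b85) (nat_lit 2820))
) (.node (nat_lit 0x1057b89) (.leaf (nat_lit 0x1057b87) (nat_lit 2564))
 (.node (nat_lit 0x1057b8b) (.leaf (nat_lit 0x1057b89) (nat_lit 2820))
 (.leaf (nat_lit 0x1057b8b) (nat_lit 2820))
))) (.node (nat_lit 0x1057b91) (.node (nat_lit 0x1057b8f) (.leaf (nat_lit 0x1057b8d) (nat_lit 2820))
 (.leaf (nat_lit 0x1057b8f) (nat_lit 2820))
) (.node (nat_lit 0x1057b93) (.leaf (nat_lit 0x1057b91) (nat_lit 3076))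
 (.node (nat_lit 0x1057b95) (.leaf (nat_lit 0x1057b93) (nat_lit 3076))
 (.leaf (nat_lit 0x1057b95) (nat_lit 3076))
)))) (.node (nat_lit 0x1060881) (.node (nat_lit 0x1057b9b) (.node (nat_lit 0x1057b99) (.leaf (nat_lit 0x1057b97) (nat_lit 3076))
 (.leaf (nat_lit 0x1057b99) (nat_lit 3076))
) (.node (nat_lit 0x1057b9d) (.leaf (nat_lit 0x1057b9b) (nat_lit 2820))
 (.node (nat_lit 0x1057b9f) (.leaf (nat_lit 0x1057b9d) (nat_lit 2052))
 (.leaf (nat_lit 0x1057b9f) (nat_lit 2308))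
))) (.node (nat_lit 0x1060887) (.node (nat_lit 0x1060883) (.leaf (nat_lit 0x1060881) (nat_lit 1025))
 (.node (nat_lit 0x1060885) (.leaf (nat_lit 0x1060883) (nat_lit 1281))
 (.leaf (nat_lit 0x1060885) (nat_lit 1280))
)) (.node (nat_lit 0x1060889) (.leaf (nat_lit 0x1060887) (nat_lit 1281))
 (.node (nat_lit 0x106088b) (.leaf (nat_lit 0x1060889) (nat_lit 2306))
 (.leaf (nat_lit 0x106088b) (nat_lit 2050))
)))))) (.node (nat_lit 0x10608d7) (.node (nat_lit 0x10608c1) (.node (nat_lit 0x1060897) (.node (nat_lit 0x1060891) (.node (nat_lit 0x106088f) (.leaf (nat_lit 0x106088d) (nat_lit 2561))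
 (.leaf (nat_lit 0x106088f) (nat_lit 2305))
) (.node (nat_lit 0x1060893) (.leaf (nat_lit 0x1060891) (nat_lit 3585))
 (.node (nat_lit 0x1060895) (.leaf (nat_lit 0x1060893) (nat_lit 3329))
 (.leaf (nat_lit 0x1060895) (nat_lit 3329))
))) (.node (nat_lit 0x106089b) (.node (nat_lit 0x1060899) (.leaf (nat_lit 0x1060897) (nat_lit 3330))
 (.leaf (nat_lit 0x1060899) (nat_lit 2819))
) (.node (nat_lit 0x106089d) (.leaf (nat_lit 0x106089b) (nat_lit 2563))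
 (.node (nat_lit 0x106089f) (.leaf (nat_lit 0x106089d) (nat_lit 3073))
 (.leaf (nat_lit 0x106089f) (nat_lit 2817))
)))) (.node (nat_lit 0x10608cb) (.node (nat_lit 0x10608c5) (.node (nat_lit 0x10608c3) (.leaf (nat_lit 0x10608c1) (nat_lit 773))
 (.leaf (nat_lit 0x10608c3) (nat_lit 1029))
) (.node (nat_lit 0x10608c7) (.leaf (nat_lit 0x10608c5) (nat_lit 1285))
 (.node (nat_lit 0x10608c9) (.leaf (nat_lit 0x10608c7) (nat_lit 1029))
 (.leaf (nat_lit 0x10608c9) (nat_lit 2050))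
))) (.node (nat_lit 0x10608d1) (.node (nat_lit 0x10608cd) (.leaf (nat_lit 0x10608cb) (nat_lit 2053))
 (.node (nat_lit 0x10608cf) (.leaf (nat_lit 0x10608cd) (nat_lit 2309))
 (.leaf (nat_lit 0x10608cf) (nat_lit 2053))
)) (.node (nat_lit 0x10608d3) (.leaf (nat_lit 0x10608d1) (nat_lit 3333))
 (.node (nat_lit 0x10608d5) (.leaf (nat_lit 0x10608d3) (nat_lit 3077))
 (.leaf (nat_lit 0x10608d5) (nat_lit 3074))
))))) (.node (nat_lit 0x106090b) (.node (nat_lit 0x1060901) (.node (nat_lit 0x10608db) (.node (nat_lit 0x10608d9) (.leaf (nat_lit 0x10608d7) (nat_lit 3077))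
 (.leaf (nat_lit 0x10608d9) (nat_lit 2563))
) (.node (nat_lit 0x10608dd) (.leaf (nat_lit 0x10608db) (nat_lit 2565))
 (.node (nat_lit 0x10608df) (.leaf (nat_lit 0x10608dd) (nat_lit 2821))
 (.leaf (nat_lit 0x10608df) (nat_lit 2565))
))) (.node (nat_lit 0x1060905) (.node (nat_lit 0x1060903) (.leaf (nat_lit 0x1060901) (nat_lit 1281))
 (.leaf (nat_lit 0x1060903) (nat_lit 1537))
) (.node (nat_lit 0x1060907) (.leaf (nat_lit 0x1060905) (nat_lit 2050))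
 (.node (nat_lit 0x1060909) (.leaf (nat_lit 0x1060907) (nat_lit 1794))
 (.leaf (nat_lit 0x1060909) (nat_lit 1536))
)))) (.node (nat_lit 0x1060915) (.node (nat_lit 0x106090f) (.node (nat_lit 0x106090d) (.leaf (nat_lit 0x106090b) (nat_lit 1537))
 (.leaf (nat_lit 0x106090d) (nat_lit 2306))
) (.node (nat_lit 0x1060911) (.leaf (nat_lit 0x106090f) (nat_lit 2050))
 (.node (nat_lit 0x1060913) (.leaf (nat_lit 0x1060911) (nat_lit 3329))
 (.leaf (nat_lit 0x1060913) (nat_lit 3330))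
))) (.node (nat_lit 0x106091b) (.node (nat_lit 0x1060917) (.leaf (nat_lit 0x1060915) (nat_lit 3075))
 (.node (nat_lit 0x1060919) (.leaf (nat_lit 0x1060917) (nat_lit 2819))
 (.leaf (nat_lit 0x1060919) (nat_lit 3077))
)) (.node (nat_lit 0x106091d) (.leaf (nat_lit 0x106091b) (nat_lit 3073))
 (.node (nat_lit 0x106091f) (.leaf (nat_lit 0x106091d) (nat_lit 3329))
 (.leaf (nat_lit 0x106091f) (nat_lit 3073))
))))))))) (.node (nat_lit 0x10612d1) (.node (nat_lit 0x1061049) (.node (nat_lit 0x1060ad5) (.node (nat_lit 0x1060a8b) (.node (nat_lit 0x1060955) (.node (nat_lit 0x106094b) (.node (nat_lit 0x1060945) (.node (nat_lit 0x1060943) (.leaf (nat_lit 0x1060941) (nat_lit 1029))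
 (.leaf (nat_lit 0x1060943) (nat_lit 1285))
) (.node (nat_lit 0x1060947) (.leaf (nat_lit 0x1060945) (nat_lit 2053))
 (.node (nat_lit 0x1060949) (.leaf (nat_lit 0x1060947) (nat_lit 1797))
 (.leaf (nat_lit 0x1060949) (nat_lit 1541))
))) (.node (nat_lit 0x106094f) (.node (nat_lit 0x106094d) (.leaf (nat_lit 0x106094b) (nat_lit 1285))
 (.leaf (nat_lit 0x106094d) (nat_lit 2053))
) (.node (nat_lit 0x1060951) (.leaf (nat_lit 0x106094f) (nat_lit 2053))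
 (.node (nat_lit 0x1060953) (.leaf (nat_lit 0x1060951) (nat_lit 3077))
 (.leaf (nat_lit 0x1060953) (nat_lit 3333))
)))) (.node (nat_lit 0x106095f) (.node (nat_lit 0x1060959) (.node (nat_lit 0x1060957) (.leaf (nat_lit 0x1060955) (nat_lit 2819))
 (.leaf (nat_lit 0x1060957) (nat_lit 2821))
) (.node (nat_lit 0x106095b) (.leaf (nat_lit 0x1060959) (nat_lit 3077))
 (.node (nat_lit 0x106095d) (.leaf (nat_lit 0x106095b) (nat_lit 2821))
 (.leaf (nat_lit 0x106095d) (nat_lit 3077))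
))) (.node (nat_lit 0x1060a85) (.node (nat_lit 0x1060a81) (.leaf (nat_lit 0x106095f) (nat_lit 2821))
 (.node (nat_lit 0x1060a83) (.leaf (nat_lit 0x1060a81) (nat_lit 1793))
 (.leaf (nat_lit 0x1060a83) (nat_lit 2049))
)) (.node (nat_lit 0x1060a87) (.leaf (nat_lit 0x1060a85) (nat_lit 2817))
 (.node (nat_lit 0x1060a89) (.leaf (nat_lit 0x1060a87) (nat_lit 2561))
 (.leaf (nat_lit 0x1060a89) (nat_lit 2819))
))))) (.node (nat_lit 0x1060a9f) (.node (nat_lit 0x1060a95) (.node (nat_lit 0x1060a8f) (.node (nat_lit 0x1060a8d) (.leaf (nat_lit 0x1060a8b) (nat_lit 2563))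
 (.leaf (nat_lit 0x1060a8d) (nat_lit 2817))
) (.node (nat_lit 0x1060a91) (.leaf (nat_lit 0x1060a8f) (nat_lit 2561))
 (.node (nat_lit 0x1060a93) (.leaf (nat_lit 0x1060a91) (nat_lit 2817))
 (.leaf (nat_lit 0x1060a93) (nat_lit 2816))
))) (.node (nat_lit 0x1060a99) (.node (nat_lit 0x1060a97) (.leaf (nat_lit 0x1060a95) (nat_lit 2048))
 (.leaf (nat_lit 0x1060a97) (nat_lit 2049))
) (.node (nat_lit 0x1060a9b) (.leaf (nat_lit 0x1060a99) (nat_lit 2818))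
 (.node (nat_lit 0x1060a9d) (.leaf (nat_lit 0x1060a9b) (nat_lit 2562))
 (.leaf (nat_lit 0x1060a9d) (nat_lit 3075))
)))) (.node (nat_lit 0x1060ac9) (.node (nat_lit 0x1060ac3) (.node (nat_lit 0x1060ac1) (.leaf (nat_lit 0x1060a9f) (nat_lit 2819))
 (.leaf (nat_lit 0x1060ac1) (nat_lit 1541))
) (.node (nat_lit 0x1060ac5) (.leaf (nat_lit 0x1060ac3) (nat_lit 1797))
 (.node (nat_lit 0x1060ac7) (.leaf (nat_lit 0x1060ac5) (nat_lit 2565))
 (.leaf (nat_lit 0x1060ac7) (nat_lit 2309))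
))) (.node (nat_lit 0x1060acf) (.node (nat_lit 0x1060acb) (.leaf (nat_lit 0x1060ac9) (nat_lit 2821))
 (.node (nat_lit 0x1060acd) (.leaf (nat_lit 0x1060acb) (nat_lit 2565))
 (.leaf (nat_lit 0x1060acd) (nat_lit 2565))
)) (.node (nat_lit 0x1060ad1) (.leaf (nat_lit 0x1060acf) (nat_lit 2309))
 (.node (nat_lit 0x1060ad3) (.leaf (nat_lit 0x1060ad1) (nat_lit 2565))
 (.leaf (nat_lit 0x1060ad3) (nat_lit 2821))
)))))) (.node (nat_lit 0x1060b1f) (.node (nat_lit 0x1060b09) (.node (nat_lit 0x1060adf) (.node (nat_lit 0x1060ad9) (.node (nat_lit 0x1060ad7) (.leaf (nat_lit 0x1060ad5) (nat_lit 2053))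
 (.leaf (nat_lit 0x1060ad7) (nat_lit 1797))
) (.node (nat_lit 0x1060adb) (.leaf (nat_lit 0x1060ad9) (nat_lit 2565))
 (.node (nat_lit 0x1060add) (.leaf (nat_lit 0x1060adb) (nat_lit 2565))
 (.leaf (nat_lit 0x1060add) (nat_lit 2821))
))) (.node (nat_lit 0x1060b03) (.node (nat_lit 0x1060b01) (.leaf (nat_lit 0x1060adf) (nat_lit 2821))
 (.leaf (nat_lit 0x1060b01) (nat_lit 1793))
) (.node (nat_lit 0x1060b05) (.leaf (nat_lit 0x1060b03) (nat_lit 2049))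
 (.node (nat_lit 0x1060b07) (.leaf (nat_lit 0x1060b05) (nat_lit 2563))
 (.leaf (nat_lit 0x1060b07) (nat_lit 2307))
)))) (.node (nat_lit 0x1060b13) (.node (nat_lit 0x1060b0d) (.node (nat_lit 0x1060b0b) (.leaf (nat_lit 0x1060b09) (nat_lit 3077))
 (.leaf (nat_lit 0x1060b0b) (nat_lit 3073))
) (.node (nat_lit 0x1060b0f) (.leaf (nat_lit 0x1060b0d) (nat_lit 2817))
 (.node (nat_lit 0x1060b11) (.leaf (nat_lit 0x1060b0f) (nat_lit 2561))
 (.leaf (nat_lit 0x1060b11) (nat_lit 3330))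
))) (.node (nat_lit 0x1060b19) (.node (nat_lit 0x1060b15) (.leaf (nat_lit 0x1060b13) (nat_lit 3328))
 (.node (nat_lit 0x1060b17) (.leaf (nat_lit 0x1060b15) (nat_lit 2818))
 (.leaf (nat_lit 0x1060b17) (nat_lit 2562))
)) (.node (nat_lit 0x1060b1b) (.leaf (nat_lit 0x1060b19) (nat_lit 2048))
 (.node (nat_lit 0x1060b1d) (.leaf (nat_lit 0x1060b1b) (nat_lit 2049))
 (.leaf (nat_lit 0x1060b1d) (nat_lit 2819))
))))) (.node (nat_lit 0x1060b53) (.node (nat_lit 0x1060b49) (.node (nat_lit 0x1060b43) (.node (nat_lit 0x1060b41) (.leaf (nat_lit 0x1060b1f) (nat_lit 2563))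
 (.leaf (nat_lit 0x1060b41) (nat_lit 1541))
) (.node (nat_lit 0x1060b45) (.leaf (nat_lit 0x1060b43) (nat_lit 1797))
 (.node (nat_lit 0x1060b47) (.leaf (nat_lit 0x1060b45) (nat_lit 2565))
 (.leaf (nat_lit 0x1060b47) (nat_lit 2309))
))) (.node (nat_lit 0x1060b4d) (.node (nat_lit 0x1060b4b) (.leaf (nat_lit 0x1060b49) (nat_lit 3077))
 (.leaf (nat_lit 0x1060b4b) (nat_lit 2821))
) (.node (nat_lit 0x1060b4f) (.leaf (nat_lit 0x1060b4d) (nat_lit 2565))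
 (.node (nat_lit 0x1060b51) (.leaf (nat_lit 0x1060b4f) (nat_lit 2309))
 (.leaf (nat_lit 0x1060b51) (nat_lit 3077))
)))) (.node (nat_lit 0x1060b5d) (.node (nat_lit 0x1060b57) (.node (nat_lit 0x1060b55) (.leaf (nat_lit 0x1060b53) (nat_lit 3333))
 (.leaf (nat_lit 0x1060b55) (nat_lit 2565))
) (.node (nat_lit 0x1060b59) (.leaf (nat_lit 0x1060b57) (nat_lit 2565))
 (.node (nat_lit 0x1060b5b) (.leaf (nat_lit 0x1060b59) (nat_lit 2053))
 (.leaf (nat_lit 0x1060b5b) (nat_lit 1797))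
))) (.node (nat_lit 0x1061043) (.node (nat_lit 0x1060b5f) (.leaf (nat_lit 0x1060b5d) (nat_lit 2565))
 (.node (nat_lit 0x1061041) (.leaf (nat_lit 0x1060b5f) (nat_lit 2565))
 (.leaf (nat_lit 0x1061041) (nat_lit 260))
)) (.node (nat_lit 0x1061045) (.leaf (nat_lit 0x1061043) (nat_lit 516))
 (.node (nat_lit 0x1061047) (.leaf (nat_lit 0x1061045) (nat_lit 1284))
 (.leaf (nat_lit 0x1061047) (nat_lit 1028))
))))))) (.node (nat_lit 0x106115d) (.node (nat_lit 0x10610d3) (.node (nat_lit 0x106105d) (.node (nat_lit 0x1061053) (.node (nat_lit 0x106104d) (.node (nat_lit 0x106104b) (.leaf (nat_lit 0x1061049) (nat_lit 1794))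
 (.leaf (nat_lit 0x106104b) (nat_lit 1538))
) (.node (nat_lit 0x106104f) (.leaf (nat_lit 0x106104d) (nat_lit 1796))
 (.node (nat_lit 0x1061051) (.leaf (nat_lit 0x106104f) (nat_lit 1540))
 (.leaf (nat_lit 0x1061051) (nat_lit 3332))
))) (.node (nat_lit 0x1061057) (.node (nat_lit 0x1061055) (.leaf (nat_lit 0x1061053) (nat_lit 3076))
 (.leaf (nat_lit 0x1061055) (nat_lit 2820))
) (.node (nat_lit 0x1061059) (.leaf (nat_lit 0x1061057) (nat_lit 2564))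
 (.node (nat_lit 0x106105b) (.leaf (nat_lit 0x1061059) (nat_lit 2307))
 (.leaf (nat_lit 0x106105b) (nat_lit 2051))
)))) (.node (nat_lit 0x10610c7) (.node (nat_lit 0x10610c1) (.node (nat_lit 0x106105f) (.leaf (nat_lit 0x106105d) (nat_lit 2308))
 (.leaf (nat_lit 0x106105f) (nat_lit 2052))
) (.node (nat_lit 0x10610c3) (.leaf (nat_lit 0x10610c1) (nat_lit 516))
 (.node (nat_lit 0x10610c5) (.leaf (nat_lit 0x10610c3) (nat_lit 772))
 (.leaf (nat_lit 0x10610c5) (nat_lit 1028))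
))) (.node (nat_lit 0x10610cd) (.node (nat_lit 0x10610c9) (.leaf (nat_lit 0x10610c7) (nat_lit 772))
 (.node (nat_lit 0x10610cb) (.leaf (nat_lit 0x10610c9) (nat_lit 2052))
 (.leaf (nat_lit 0x10610cb) (nat_lit 1796))
)) (.node (nat_lit 0x10610cf) (.leaf (nat_lit 0x10610cd) (nat_lit 2050))
 (.node (nat_lit 0x10610d1) (.leaf (nat_lit 0x10610cf) (nat_lit 1794))
 (.leaf (nat_lit 0x10610d1) (nat_lit 3076))
))))) (.node (nat_lit 0x1061147) (.node (nat_lit 0x10610dd) (.node (nat_lit 0x10610d7) (.node (nat_lit 0x10610d5) (.leaf (nat_lit 0x10610d3) (nat_lit 2820))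
 (.leaf (nat_lit 0x10610d5) (nat_lit 3076))
) (.node (nat_lit 0x10610d9) (.leaf (nat_lit 0x10610d7) (nat_lit 2820))
 (.node (nat_lit 0x10610db) (.leaf (nat_lit 0x10610d9) (nat_lit 2564))
 (.leaf (nat_lit 0x10610db) (nat_lit 2308))
))) (.node (nat_lit 0x1061141) (.node (nat_lit 0x10610df) (.leaf (nat_lit 0x10610dd) (nat_lit 2563))
 (.leaf (nat_lit 0x10610df) (nat_lit 2307))
) (.node (nat_lit 0x1061143) (.leaf (nat_lit 0x1061141) (nat_lit 1026))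
 (.node (nat_lit 0x1061145) (.leaf (nat_lit 0x1061143) (nat_lit 1282))
 (.leaf (nat_lit 0x1061145) (nat_lit 1796))
)))) (.node (nat_lit 0x1061151) (.node (nat_lit 0x106114b) (.node (nat_lit 0x1061149) (.leaf (nat_lit 0x1061147) (nat_lit 1540))
 (.leaf (nat_lit 0x1061149) (nat_lit 1538))
) (.node (nat_lit 0x106114d) (.leaf (nat_lit 0x106114b) (nat_lit 1282))
 (.node (nat_lit 0x106114f) (.leaf (nat_lit 0x106114d) (nat_lit 1796))
 (.leaf (nat_lit 0x106114f) (nat_lit 1540))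
))) (.node (nat_lit 0x1061157) (.node (nat_lit 0x1061153) (.leaf (nat_lit 0x1061151) (nat_lit 3075))
 (.node (nat_lit 0x1061155) (.leaf (nat_lit 0x1061153) (nat_lit 2819))
 (.leaf (nat_lit 0x1061155) (nat_lit 3074))
)) (.node (nat_lit 0x1061159) (.leaf (nat_lit 0x1061157) (nat_lit 2818))
 (.node (nat_lit 0x106115b) (.leaf (nat_lit 0x1061159) (nat_lit 3074))
 (.leaf (nat_lit 0x106115b) (nat_lit 2818))
)))))) (.node (nat_lit 0x1061247) (.node (nat_lit 0x10611d1) (.node (nat_lit 0x10611c7) (.node (nat_lit 0x10611c1) (.node (nat_lit 0x106115f) (.leaf (nat_lit 0x106115d) (nat_lit 3074))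
 (.leaf (nat_lit 0x106115f) (nat_lit 2818))
) (.node (nat_lit 0x10611c3) (.leaf (nat_lit 0x10611c1) (nat_lit 1028))
 (.node (nat_lit 0x10611c5) (.leaf (nat_lit 0x10611c3) (nat_lit 1284))
 (.leaf (nat_lit 0x10611c5) (nat_lit 1794))
))) (.node (nat_lit 0x10611cb) (.node (nat_lit 0x10611c9) (.leaf (nat_lit 0x10611c7) (nat_lit 1538))
 (.leaf (nat_lit 0x10611c9) (nat_lit 1793))
) (.node (nat_lit 0x10611cd) (.leaf (nat_lit 0x10611cb) (nat_lit 1537))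
 (.node (nat_lit 0x10611cf) (.leaf (nat_lit 0x10611cd) (nat_lit 1540))
 (.leaf (nat_lit 0x10611cf) (nat_lit 1284))
)))) (.node (nat_lit 0x10611db) (.node (nat_lit 0x10611d5) (.node (nat_lit 0x10611d3) (.leaf (nat_lit 0x10611d1) (nat_lit 3076))
 (.leaf (nat_lit 0x10611d3) (nat_lit 2820))
) (.node (nat_lit 0x10611d7) (.leaf (nat_lit 0x10611d5) (nat_lit 3075))
 (.node (nat_lit 0x10611d9) (.leaf (nat_lit 0x10611d7) (nat_lit 2819))
 (.leaf (nat_lit 0x10611d9) (nat_lit 3076))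
))) (.node (nat_lit 0x1061241) (.node (nat_lit 0x10611dd) (.leaf (nat_lit 0x10611db) (nat_lit 2820))
 (.node (nat_lit 0x10611df) (.leaf (nat_lit 0x10611dd) (nat_lit 3076))
 (.leaf (nat_lit 0x10611df) (nat_lit 2820))
)) (.node (nat_lit 0x1061243) (.leaf (nat_lit 0x1061241) (nat_lit 2308))
 (.node (nat_lit 0x1061245) (.leaf (nat_lit 0x1061243) (nat_lit 2564))
 (.leaf (nat_lit 0x1061245) (nat_lit 2565))
))))) (.node (nat_lit 0x106125b) (.node (nat_lit 0x1061251) (.node (nat_lit 0x106124b) (.node (nat_lit 0x1061249) (.leaf (nat_lit 0x1061247) (nat_lit 2564))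
 (.leaf (nat_lit 0x1061249) (nat_lit 2819))
) (.node (nat_lit 0x106124d) (.leaf (nat_lit 0x106124b) (nat_lit 2563))
 (.node (nat_lit 0x106124f) (.leaf (nat_lit 0x106124d) (nat_lit 2820))
 (.leaf (nat_lit 0x106124f) (nat_lit 2564))
))) (.node (nat_lit 0x1061255) (.node (nat_lit 0x1061253) (.leaf (nat_lit 0x1061251) (nat_lit 2820))
 (.leaf (nat_lit 0x1061253) (nat_lit 2564))
) (.node (nat_lit 0x1061257) (.leaf (nat_lit 0x1061255) (nat_lit 2820))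
 (.node (nat_lit 0x1061259) (.leaf (nat_lit 0x1061257) (nat_lit 2564))
 (.leaf (nat_lit 0x1061259) (nat_lit 2818))
)))) (.node (nat_lit 0x10612c5) (.node (nat_lit 0x106125f) (.node (nat_lit 0x106125d) (.leaf (nat_lit 0x106125b) (nat_lit 2562))
 (.leaf (nat_lit 0x106125d) (nat_lit 2820))
) (.node (nat_lit 0x10612c1) (.leaf (nat_lit 0x106125f) (nat_lit 2564))
 (.node (nat_lit 0x10612c3) (.leaf (nat_lit 0x10612c1) (nat_lit 2052))
 (.leaf (nat_lit 0x10612c3) (nat_lit 2308))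
))) (.node (nat_lit 0x10612cb) (.node (nat_lit 0x10612c7) (.leaf (nat_lit 0x10612c5) (nat_lit 2821))
 (.node (nat_lit 0x10612c9) (.leaf (nat_lit 0x10612c7) (nat_lit 2820))
 (.leaf (nat_lit 0x10612c9) (nat_lit 2818))
)) (.node (nat_lit 0x10612cd) (.leaf (nat_lit 0x10612cb) (nat_lit 2820))
 (.node (nat_lit 0x10612cf) (.leaf (nat_lit 0x10612cd) (nat_lit 2819))
 (.leaf (nat_lit 0x10612cf) (nat_lit 2563))
)))))))) (.node (nat_lit 0x1061919) (.node (nat_lit 0x1061845) (.node (nat_lit 0x106135b) (.node (nat_lit 0x1061345) (.node (nat_lit 0x10612db) (.node (nat_lit 0x10612d5) (.node (nat_lit 0x10612d3) (.leaf (nat_lit 0x10612d1) (nat_lit 3076))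
 (.leaf (nat_lit 0x10612d3) (nat_lit 2820))
) (.node (nat_lit 0x10612d7) (.leaf (nat_lit 0x10612d5) (nat_lit 2564))
 (.node (nat_lit 0x10612d9) (.leaf (nat_lit 0x10612d7) (nat_lit 2308))
 (.leaf (nat_lit 0x10612d9) (nat_lit 2819))
))) (.node (nat_lit 0x10612df) (.node (nat_lit 0x10612dd) (.leaf (nat_lit 0x10612db) (nat_lit 2820))
 (.leaf (nat_lit 0x10612dd) (nat_lit 2818))
) (.node (nat_lit 0x1061341) (.leaf (nat_lit 0x10612df) (nat_lit 2562))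
 (.node (nat_lit 0x1061343) (.leaf (nat_lit 0x1061341) (nat_lit 1539))
 (.leaf (nat_lit 0x1061343) (nat_lit 1795))
)))) (.node (nat_lit 0x106134f) (.node (nat_lit 0x1061349) (.node (nat_lit 0x1061347) (.leaf (nat_lit 0x1061345) (nat_lit 2308))
 (.leaf (nat_lit 0x1061347) (nat_lit 2052))
) (.node (nat_lit 0x106134b) (.leaf (nat_lit 0x1061349) (nat_lit 3075))
 (.node (nat_lit 0x106134d) (.leaf (nat_lit 0x106134b) (nat_lit 2819))
 (.leaf (nat_lit 0x106134d) (nat_lit 2820))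
))) (.node (nat_lit 0x1061355) (.node (nat_lit 0x1061351) (.leaf (nat_lit 0x106134f) (nat_lit 2564))
 (.node (nat_lit 0x1061353) (.leaf (nat_lit 0x1061351) (nat_lit 3074))
 (.leaf (nat_lit 0x1061353) (nat_lit 2818))
)) (.node (nat_lit 0x1061357) (.leaf (nat_lit 0x1061355) (nat_lit 2820))
 (.node (nat_lit 0x1061359) (.leaf (nat_lit 0x1061357) (nat_lit 2564))
 (.leaf (nat_lit 0x1061359) (nat_lit 2051))
))))) (.node (nat_lit 0x10613cf) (.node (nat_lit 0x10613c5) (.node (nat_lit 0x106135f) (.node (nat_lit 0x106135d) (.leaf (nat_lit 0x106135b) (nat_lit 1795))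
 (.leaf (nat_lit 0x106135d) (nat_lit 2308))
) (.node (nat_lit 0x10613c1) (.leaf (nat_lit 0x106135f) (nat_lit 2052))
 (.node (nat_lit 0x10613c3) (.leaf (nat_lit 0x10613c1) (nat_lit 1540))
 (.leaf (nat_lit 0x10613c3) (nat_lit 1796))
))) (.node (nat_lit 0x10613c9) (.node (nat_lit 0x10613c7) (.leaf (nat_lit 0x10613c5) (nat_lit 2307))
 (.leaf (nat_lit 0x10613c7) (nat_lit 2051))
) (.node (nat_lit 0x10613cb) (.leaf (nat_lit 0x10613c9) (nat_lit 2818))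
 (.node (nat_lit 0x10613cd) (.leaf (nat_lit 0x10613cb) (nat_lit 2562))
 (.leaf (nat_lit 0x10613cd) (nat_lit 3076))
)))) (.node (nat_lit 0x10613d9) (.node (nat_lit 0x10613d3) (.node (nat_lit 0x10613d1) (.leaf (nat_lit 0x10613cf) (nat_lit 2820))
 (.leaf (nat_lit 0x10613d1) (nat_lit 3076))
) (.node (nat_lit 0x10613d5) (.leaf (nat_lit 0x10613d3) (nat_lit 2820))
 (.node (nat_lit 0x10613d7) (.leaf (nat_lit 0x10613d5) (nat_lit 2818))
 (.leaf (nat_lit 0x10613d7) (nat_lit 2562))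
))) (.node (nat_lit 0x10613df) (.node (nat_lit 0x10613db) (.leaf (nat_lit 0x10613d9) (nat_lit 2307))
 (.node (nat_lit 0x10613dd) (.leaf (nat_lit 0x10613db) (nat_lit 2051))
 (.leaf (nat_lit 0x10613dd) (nat_lit 2052))
)) (.node (nat_lit 0x1061841) (.leaf (nat_lit 0x10613df) (nat_lit 1796))
 (.node (nat_lit 0x1061843) (.leaf (nat_lit 0x1061841) (nat_lit 517))
 (.leaf (nat_lit 0x1061843) (nat_lit 773))
)))))) (.node (nat_lit 0x106188f) (.node (nat_lit 0x1061859) (.node (nat_lit 0x106184f) (.node (nat_lit 0x1061849) (.node (nat_lit 0x1061847) (.leaf (nat_lit 0x1061845) (nat_lit 1281))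
 (.leaf (nat_lit 0x1061847) (nat_lit 1285))
) (.node (nat_lit 0x106184b) (.leaf (nat_lit 0x1061849) (nat_lit 1794))
 (.node (nat_lit 0x106184d) (.leaf (nat_lit 0x106184b) (nat_lit 1797))
 (.leaf (nat_lit 0x106184d) (nat_lit 2053))
))) (.node (nat_lit 0x1061853) (.node (nat_lit 0x1061851) (.leaf (nat_lit 0x106184f) (nat_lit 1797))
 (.leaf (nat_lit 0x1061851) (nat_lit 3589))
) (.node (nat_lit 0x1061855) (.leaf (nat_lit 0x1061853) (nat_lit 3333))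
 (.node (nat_lit 0x1061857) (.leaf (nat_lit 0x1061855) (nat_lit 2818))
 (.leaf (nat_lit 0x1061857) (nat_lit 2821))
)))) (.node (nat_lit 0x1061883) (.node (nat_lit 0x106185d) (.node (nat_lit 0x106185b) (.leaf (nat_lit 0x1061859) (nat_lit 2307))
 (.leaf (nat_lit 0x106185b) (nat_lit 2309))
) (.node (nat_lit 0x106185f) (.leaf (nat_lit 0x106185d) (nat_lit 2565))
 (.node (nat_lit 0x1061881) (.leaf (nat_lit 0x106185f) (nat_lit 2309))
 (.leaf (nat_lit 0x1061881) (nat_lit 769))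
))) (.node (nat_lit 0x1061889) (.node (nat_lit 0x1061885) (.leaf (nat_lit 0x1061883) (nat_lit 1025))
 (.node (nat_lit 0x1061887) (.leaf (nat_lit 0x1061885) (nat_lit 1024))
 (.leaf (nat_lit 0x1061887) (nat_lit 1280))
)) (.node (nat_lit 0x106188b) (.leaf (nat_lit 0x1061889) (nat_lit 2049))
 (.node (nat_lit 0x106188d) (.leaf (nat_lit 0x106188b) (nat_lit 2049))
 (.leaf (nat_lit 0x106188d) (nat_lit 2305))
))))) (.node (nat_lit 0x1061903) (.node (nat_lit 0x1061899) (.node (nat_lit 0x1061893) (.node (nat_lit 0x1061891) (.leaf (nat_lit 0x106188f) (nat_lit 2049))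
 (.leaf (nat_lit 0x1061891) (nat_lit 3330))
) (.node (nat_lit 0x1061895) (.leaf (nat_lit 0x1061893) (nat_lit 3074))
 (.node (nat_lit 0x1061897) (.leaf (nat_lit 0x1061895) (nat_lit 3073))
 (.leaf (nat_lit 0x1061897) (nat_lit 3073))
))) (.node (nat_lit 0x106189d) (.node (nat_lit 0x106189b) (.leaf (nat_lit 0x1061899) (nat_lit 2563))
 (.leaf (nat_lit 0x106189b) (nat_lit 2561))
) (.node (nat_lit 0x106189f) (.leaf (nat_lit 0x106189d) (nat_lit 2817))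
 (.node (nat_lit 0x1061901) (.leaf (nat_lit 0x106189f) (nat_lit 2561))
 (.leaf (nat_lit 0x1061901) (nat_lit 1282))
)))) (.node (nat_lit 0x106190d) (.node (nat_lit 0x1061907) (.node (nat_lit 0x1061905) (.leaf (nat_lit 0x1061903) (nat_lit 1538))
 (.leaf (nat_lit 0x1061905) (nat_lit 2049))
) (.node (nat_lit 0x1061909) (.leaf (nat_lit 0x1061907) (nat_lit 1793))
 (.node (nat_lit 0x106190b) (.leaf (nat_lit 0x1061909) (nat_lit 1538))
 (.leaf (nat_lit 0x106190b) (nat_lit 1794))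
))) (.node (nat_lit 0x1061913) (.node (nat_lit 0x106190f) (.leaf (nat_lit 0x106190d) (nat_lit 2049))
 (.node (nat_lit 0x1061911) (.leaf (nat_lit 0x106190f) (nat_lit 1793))
 (.leaf (nat_lit 0x1061911) (nat_lit 3331))
)) (.node (nat_lit 0x1061915) (.leaf (nat_lit 0x1061913) (nat_lit 3075))
 (.node (nat_lit 0x1061917) (.leaf (nat_lit 0x1061915) (nat_lit 3074))
 (.leaf (nat_lit 0x1061917) (nat_lit 3074))
))))))) (.node (nat_lit 0x1061a8d) (.node (nat_lit 0x1061a43) (.node (nat_lit 0x10619cd) (.node (nat_lit 0x10619c3) (.node (nat_lit 0x106191d) (.node (nat_lit 0x106191b) (.leaf (nat_lit 0x1061919) (nat_lit 3074))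
 (.leaf (nat_lit 0x106191b) (nat_lit 3074))
) (.node (nat_lit 0x106191f) (.leaf (nat_lit 0x106191d) (nat_lit 3330))
 (.node (nat_lit 0x10619c1) (.leaf (nat_lit 0x106191f) (nat_lit 3074))
 (.leaf (nat_lit 0x10619c1) (nat_lit 1285))
))) (.node (nat_lit 0x10619c7) (.node (nat_lit 0x10619c5) (.leaf (nat_lit 0x10619c3) (nat_lit 1541))
 (.leaf (nat_lit 0x10619c5) (nat_lit 1797))
) (.node (nat_lit 0x10619c9) (.leaf (nat_lit 0x10619c7) (nat_lit 1541))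
 (.node (nat_lit 0x10619cb) (.leaf (nat_lit 0x10619c9) (nat_lit 1797))
 (.leaf (nat_lit 0x10619cb) (nat_lit 2053))
)))) (.node (nat_lit 0x10619d7) (.node (nat_lit 0x10619d1) (.node (nat_lit 0x10619cf) (.leaf (nat_lit 0x10619cd) (nat_lit 1797))
 (.leaf (nat_lit 0x10619cf) (nat_lit 1541))
) (.node (nat_lit 0x10619d3) (.leaf (nat_lit 0x10619d1) (nat_lit 3333))
 (.node (nat_lit 0x10619d5) (.leaf (nat_lit 0x10619d3) (nat_lit 3077))
 (.leaf (nat_lit 0x10619d5) (nat_lit 3075))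
))) (.node (nat_lit 0x10619dd) (.node (nat_lit 0x10619d9) (.leaf (nat_lit 0x10619d7) (nat_lit 3331))
 (.node (nat_lit 0x10619db) (.leaf (nat_lit 0x10619d9) (nat_lit 3333))
 (.leaf (nat_lit 0x10619db) (nat_lit 3077))
)) (.node (nat_lit 0x10619df) (.leaf (nat_lit 0x10619dd) (nat_lit 3333))
 (.node (nat_lit 0x1061a41) (.leaf (nat_lit 0x10619df) (nat_lit 3077))
 (.leaf (nat_lit 0x1061a41) (nat_lit 1797))
))))) (.node (nat_lit 0x1061a57) (.node (nat_lit 0x1061a4d) (.node (nat_lit 0x1061a47) (.node (nat_lit 0x1061a45) (.leaf (nat_lit 0x1061a43) (nat_lit 2053))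
 (.leaf (nat_lit 0x1061a45) (nat_lit 2309))
) (.node (nat_lit 0x1061a49) (.leaf (nat_lit 0x1061a47) (nat_lit 2053))
 (.node (nat_lit 0x1061a4b) (.leaf (nat_lit 0x1061a49) (nat_lit 2821))
 (.leaf (nat_lit 0x1061a4b) (nat_lit 2565))
))) (.node (nat_lit 0x1061a51) (.node (nat_lit 0x1061a4f) (.leaf (nat_lit 0x1061a4d) (nat_lit 2821))
 (.leaf (nat_lit 0x1061a4f) (nat_lit 2821))
) (.node (nat_lit 0x1061a53) (.leaf (nat_lit 0x1061a51) (nat_lit 2309))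
 (.node (nat_lit 0x1061a55) (.leaf (nat_lit 0x1061a53) (nat_lit 2053))
 (.leaf (nat_lit 0x1061a55) (nat_lit 2309))
)))) (.node (nat_lit 0x1061a81) (.node (nat_lit 0x1061a5b) (.node (nat_lit 0x1061a59) (.leaf (nat_lit 0x1061a57) (nat_lit 2565))
 (.leaf (nat_lit 0x1061a59) (nat_lit 2821))
) (.node (nat_lit 0x1061a5d) (.leaf (nat_lit 0x1061a5b) (nat_lit 3077))
 (.node (nat_lit 0x1061a5f) (.leaf (nat_lit 0x1061a5d) (nat_lit 3077))
 (.leaf (nat_lit 0x1061a5f) (nat_lit 2821))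
))) (.node (nat_lit 0x1061a87) (.node (nat_lit 0x1061a83) (.leaf (nat_lit 0x1061a81) (nat_lit 2049))
 (.node (nat_lit 0x1061a85) (.leaf (nat_lit 0x1061a83) (nat_lit 2305))
 (.leaf (nat_lit 0x1061a85) (nat_lit 2561))
)) (.node (nat_lit 0x1061a89) (.leaf (nat_lit 0x1061a87) (nat_lit 2305))
 (.node (nat_lit 0x1061a8b) (.leaf (nat_lit 0x1061a89) (nat_lit 3073))
 (.leaf (nat_lit 0x1061a8b) (nat_lit 2817))
)))))) (.node (nat_lit 0x1061b17) (.node (nat_lit 0x1061b01) (.node (nat_lit 0x1061a97) (.node (nat_lit 0x1061a91) (.node (nat_lit 0x1061a8f) (.leaf (nat_lit 0x1061a8d) (nat_lit 3075))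
 (.leaf (nat_lit 0x1061a8f) (nat_lit 2819))
) (.node (nat_lit 0x1061a93) (.leaf (nat_lit 0x1061a91) (nat_lit 2561))
 (.node (nat_lit 0x1061a95) (.leaf (nat_lit 0x1061a93) (nat_lit 2305))
 (.leaf (nat_lit 0x1061a95) (nat_lit 2304))
))) (.node (nat_lit 0x1061a9b) (.node (nat_lit 0x1061a99) (.leaf (nat_lit 0x1061a97) (nat_lit 2560))
 (.leaf (nat_lit 0x1061a99) (nat_lit 3074))
) (.node (nat_lit 0x1061a9d) (.leaf (nat_lit 0x1061a9b) (nat_lit 3075))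
 (.node (nat_lit 0x1061a9f) (.leaf (nat_lit 0x1061a9d) (nat_lit 3074))
 (.leaf (nat_lit 0x1061a9f) (nat_lit 2818))
)))) (.node (nat_lit 0x1061b0b) (.node (nat_lit 0x1061b05) (.node (nat_lit 0x1061b03) (.leaf (nat_lit 0x1061b01) (nat_lit 1795))
 (.leaf (nat_lit 0x1061b03) (nat_lit 2051))
) (.node (nat_lit 0x1061b07) (.leaf (nat_lit 0x1061b05) (nat_lit 2561))
 (.node (nat_lit 0x1061b09) (.leaf (nat_lit 0x1061b07) (nat_lit 2305))
 (.leaf (nat_lit 0x1061b09) (nat_lit 3073))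
))) (.node (nat_lit 0x1061b11) (.node (nat_lit 0x1061b0d) (.leaf (nat_lit 0x1061b0b) (nat_lit 2817))
 (.node (nat_lit 0x1061b0f) (.leaf (nat_lit 0x1061b0d) (nat_lit 3073))
 (.leaf (nat_lit 0x1061b0f) (nat_lit 3075))
)) (.node (nat_lit 0x1061b13) (.leaf (nat_lit 0x1061b11) (nat_lit 3074))
 (.node (nat_lit 0x1061b15) (.leaf (nat_lit 0x1061b13) (nat_lit 2818))
 (.leaf (nat_lit 0x1061b15) (nat_lit 3074))
))))) (.node (nat_lit 0x1061bcb) (.node (nat_lit 0x1061bc1) (.node (nat_lit 0x1061b1b) (.node (nat_lit 0x1061b19) (.leaf (nat_lit 0x1061b17) (nat_lit 3330))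
 (.leaf (nat_lit 0x1061b19) (nat_lit 2051))
) (.node (nat_lit 0x1061b1d) (.leaf (nat_lit 0x1061b1b) (nat_lit 2307))
 (.node (nat_lit 0x1061b1f) (.leaf (nat_lit 0x1061b1d) (nat_lit 2561))
 (.leaf (nat_lit 0x1061b1f) (nat_lit 2305))
))) (.node (nat_lit 0x1061bc5) (.node (nat_lit 0x1061bc3) (.leaf (nat_lit 0x1061bc1) (nat_lit 1797))
 (.leaf (nat_lit 0x1061bc3) (nat_lit 2053))
) (.node (nat_lit 0x1061bc7) (.leaf (nat_lit 0x1061bc5) (nat_lit 2309))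
 (.node (nat_lit 0x1061bc9) (.leaf (nat_lit 0x1061bc7) (nat_lit 2053))
 (.leaf (nat_lit 0x1061bc9) (nat_lit 2821))
)))) (.node (nat_lit 0x1061bd5) (.node (nat_lit 0x1061bcf) (.node (nat_lit 0x1061bcd) (.leaf (nat_lit 0x1061bcb) (nat_lit 2565))
 (.leaf (nat_lit 0x1061bcd) (nat_lit 2821))
) (.node (nat_lit 0x1061bd1) (.leaf (nat_lit 0x1061bcf) (nat_lit 3077))
 (.node (nat_lit 0x1061bd3) (.leaf (nat_lit 0x1061bd1) (nat_lit 3077))
 (.leaf (nat_lit 0x1061bd3) (nat_lit 2821))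
))) (.node (nat_lit 0x1061bdb) (.node (nat_lit 0x1061bd7) (.leaf (nat_lit 0x1061bd5) (nat_lit 2821))
 (.node (nat_lit 0x1061bd9) (.leaf (nat_lit 0x1061bd7) (nat_lit 3077))
 (.leaf (nat_lit 0x1061bd9) (nat_lit 2309))
)) (.node (nat_lit 0x1061bdd) (.leaf (nat_lit 0x1061bdb) (nat_lit 2565))
 (.node (nat_lit 0x1061bdf) (.leaf (nat_lit 0x1061bdd) (nat_lit 2309))
 (.leaf (nat_lit 0x1061bdf) (nat_lit 2053))
)))))))))))) (.node (nat_lit 0x1071241) (.node (nat_lit 0x1065901) (.node (nat_lit 0x1063ac1) (.node (nat_lit 0x1062911) (.node (nat_lit 0x10622c9) (.node (nat_lit 0x1062155) (.node (nat_lit 0x10620cb) (.node (nat_lit 0x1062055) (.node (nat_lit 0x106204b) (.node (nat_lit 0x1062045) (.node (nat_lit 0x1062043) (.leaf (nat_lit 0x1062041) (nat_lit 514))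
 (.leaf (nat_lit 0x1062043) (nat_lit 770))
) (.node (nat_lit 0x1062047) (.leaf (nat_lit 0x1062045) (nat_lit 1538))
 (.node (nat_lit 0x1062049) (.leaf (nat_lit 0x1062047) (nat_lit 1282))
 (.leaf (nat_lit 0x1062049) (nat_lit 1537))
))) (.node (nat_lit 0x106204f) (.node (nat_lit 0x106204d) (.leaf (nat_lit 0x106204b) (nat_lit 1281))
 (.leaf (nat_lit 0x106204d) (nat_lit 2050))
) (.node (nat_lit 0x1062051) (.leaf (nat_lit 0x106204f) (nat_lit 1794))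
 (.node (nat_lit 0x1062053) (.leaf (nat_lit 0x1062051) (nat_lit 3075))
 (.leaf (nat_lit 0x1062053) (nat_lit 3331))
)))) (.node (nat_lit 0x106205f) (.node (nat_lit 0x1062059) (.node (nat_lit 0x1062057) (.leaf (nat_lit 0x1062055) (nat_lit 2563))
 (.leaf (nat_lit 0x1062057) (nat_lit 2307))
) (.node (nat_lit 0x106205b) (.leaf (nat_lit 0x1062059) (nat_lit 2562))
 (.node (nat_lit 0x106205d) (.leaf (nat_lit 0x106205b) (nat_lit 2306))
 (.leaf (nat_lit 0x106205d) (nat_lit 2562))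
))) (.node (nat_lit 0x10620c5) (.node (nat_lit 0x10620c1) (.leaf (nat_lit 0x106205f) (nat_lit 2306))
 (.node (nat_lit 0x10620c3) (.leaf (nat_lit 0x10620c1) (nat_lit 770))
 (.leaf (nat_lit 0x10620c3) (nat_lit 1026))
)) (.node (nat_lit 0x10620c7) (.leaf (nat_lit 0x10620c5) (nat_lit 1282))
 (.node (nat_lit 0x10620c9) (.leaf (nat_lit 0x10620c7) (nat_lit 1026))
 (.leaf (nat_lit 0x10620c9) (nat_lit 1793))
))))) (.node (nat_lit 0x10620df) (.node (nat_lit 0x10620d5) (.node (nat_lit 0x10620cf) (.node (nat_lit 0x10620cd) (.leaf (nat_lit 0x10620cb) (nat_lit 2049))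
 (.leaf (nat_lit 0x10620cd) (nat_lit 1793))
) (.node (nat_lit 0x10620d1) (.leaf (nat_lit 0x10620cf) (nat_lit 1537))
 (.node (nat_lit 0x10620d3) (.leaf (nat_lit 0x10620d1) (nat_lit 2819))
 (.leaf (nat_lit 0x10620d3) (nat_lit 2563))
))) (.node (nat_lit 0x10620d9) (.node (nat_lit 0x10620d7) (.leaf (nat_lit 0x10620d5) (nat_lit 2819))
 (.leaf (nat_lit 0x10620d7) (nat_lit 3075))
) (.node (nat_lit 0x10620db) (.leaf (nat_lit 0x10620d9) (nat_lit 2818))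
 (.node (nat_lit 0x10620dd) (.leaf (nat_lit 0x10620db) (nat_lit 2562))
 (.leaf (nat_lit 0x10620dd) (nat_lit 2818))
)))) (.node (nat_lit 0x1062149) (.node (nat_lit 0x1062143) (.node (nat_lit 0x1062141) (.leaf (nat_lit 0x10620df) (nat_lit 2562))
 (.leaf (nat_lit 0x1062141) (nat_lit 769))
) (.node (nat_lit 0x1062145) (.leaf (nat_lit 0x1062143) (nat_lit 1025))
 (.node (nat_lit 0x1062147) (.leaf (nat_lit 0x1062145) (nat_lit 1793))
 (.leaf (nat_lit 0x1062147) (nat_lit 1537))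
))) (.node (nat_lit 0x106214f) (.node (nat_lit 0x106214b) (.leaf (nat_lit 0x1062149) (nat_lit 1280))
 (.node (nat_lit 0x106214d) (.leaf (nat_lit 0x106214b) (nat_lit 1024))
 (.leaf (nat_lit 0x106214d) (nat_lit 1792))
)) (.node (nat_lit 0x1062151) (.leaf (nat_lit 0x106214f) (nat_lit 1794))
 (.node (nat_lit 0x1062153) (.leaf (nat_lit 0x1062151) (nat_lit 2816))
 (.leaf (nat_lit 0x1062153) (nat_lit 3072))
)))))) (.node (nat_lit 0x10621df) (.node (nat_lit 0x10621c9) (.node (nat_lit 0x106215f) (.node (nat_lit 0x1062159) (.node (nat_lit 0x1062157) (.leaf (nat_lit 0x1062155) (nat_lit 2819))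
 (.leaf (nat_lit 0x1062157) (nat_lit 2563))
) (.node (nat_lit 0x106215b) (.leaf (nat_lit 0x1062159) (nat_lit 2817))
 (.node (nat_lit 0x106215d) (.leaf (nat_lit 0x106215b) (nat_lit 2561))
 (.leaf (nat_lit 0x106215d) (nat_lit 2817))
))) (.node (nat_lit 0x10621c3) (.node (nat_lit 0x10621c1) (.leaf (nat_lit 0x106215f) (nat_lit 2561))
 (.leaf (nat_lit 0x10621c1) (nat_lit 1025))
) (.node (nat_lit 0x10621c5) (.leaf (nat_lit 0x10621c3) (nat_lit 1281))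
 (.node (nat_lit 0x10621c7) (.leaf (nat_lit 0x10621c5) (nat_lit 1537))
 (.leaf (nat_lit 0x10621c7) (nat_lit 1281))
)))) (.node (nat_lit 0x10621d3) (.node (nat_lit 0x10621cd) (.node (nat_lit 0x10621cb) (.leaf (nat_lit 0x10621c9) (nat_lit 1536))
 (.leaf (nat_lit 0x10621cb) (nat_lit 1792))
) (.node (nat_lit 0x10621cf) (.leaf (nat_lit 0x10621cd) (nat_lit 1536))
 (.node (nat_lit 0x10621d1) (.leaf (nat_lit 0x10621cf) (nat_lit 1280))
 (.leaf (nat_lit 0x10621d1) (nat_lit 3075))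
))) (.node (nat_lit 0x10621d9) (.node (nat_lit 0x10621d5) (.leaf (nat_lit 0x10621d3) (nat_lit 2819))
 (.node (nat_lit 0x10621d7) (.leaf (nat_lit 0x10621d5) (nat_lit 3075))
 (.leaf (nat_lit 0x10621d7) (nat_lit 3074))
)) (.node (nat_lit 0x10621db) (.leaf (nat_lit 0x10621d9) (nat_lit 3073))
 (.node (nat_lit 0x10621dd) (.leaf (nat_lit 0x10621db) (nat_lit 2817))
 (.leaf (nat_lit 0x10621dd) (nat_lit 3073))
))))) (.node (nat_lit 0x1062253) (.node (nat_lit 0x1062249) (.node (nat_lit 0x1062243) (.node (nat_lit 0x1062241) (.leaf (nat_lit 0x10621df) (nat_lit 2817))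
 (.leaf (nat_lit 0x1062241) (nat_lit 2051))
) (.node (nat_lit 0x1062245) (.leaf (nat_lit 0x1062243) (nat_lit 2307))
 (.node (nat_lit 0x1062247) (.leaf (nat_lit 0x1062245) (nat_lit 2563))
 (.leaf (nat_lit 0x1062247) (nat_lit 2307))
))) (.node (nat_lit 0x106224d) (.node (nat_lit 0x106224b) (.leaf (nat_lit 0x1062249) (nat_lit 2560))
 (.leaf (nat_lit 0x106224b) (nat_lit 2816))
) (.node (nat_lit 0x106224f) (.leaf (nat_lit 0x106224d) (nat_lit 2816))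
 (.node (nat_lit 0x1062251) (.leaf (nat_lit 0x106224f) (nat_lit 2819))
 (.leaf (nat_lit 0x1062251) (nat_lit 2563))
)))) (.node (nat_lit 0x106225d) (.node (nat_lit 0x1062257) (.node (nat_lit 0x1062255) (.leaf (nat_lit 0x1062253) (nat_lit 2307))
 (.leaf (nat_lit 0x1062255) (nat_lit 2563))
) (.node (nat_lit 0x1062259) (.leaf (nat_lit 0x1062257) (nat_lit 2819))
 (.node (nat_lit 0x106225b) (.leaf (nat_lit 0x1062259) (nat_lit 2561))
 (.leaf (nat_lit 0x106225b) (nat_lit 2305))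
))) (.node (nat_lit 0x10622c3) (.node (nat_lit 0x106225f) (.leaf (nat_lit 0x106225d) (nat_lit 2817))
 (.node (nat_lit 0x10622c1) (.leaf (nat_lit 0x106225f) (nat_lit 2561))
 (.leaf (nat_lit 0x10622c1) (nat_lit 1795))
)) (.node (nat_lit 0x10622c5) (.leaf (nat_lit 0x10622c3) (nat_lit 2051))
 (.node (nat_lit 0x10622c7) (.leaf (nat_lit 0x10622c5) (nat_lit 2819))
 (.leaf (nat_lit 0x10622c7) (nat_lit 2563))
))))))) (.node (nat_lit 0x10623dd) (.node (nat_lit 0x1062353) (.node (nat_lit 0x10622dd) (.node (nat_lit 0x10622d3) (.node (nat_lit 0x10622cd) (.node (nat_lit 0x10622cb) (.leaf (nat_lit 0x10622c9) (nat_lit 2560))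
 (.leaf (nat_lit 0x10622cb) (nat_lit 2563))
) (.node (nat_lit 0x10622cf) (.leaf (nat_lit 0x10622cd) (nat_lit 2816))
 (.node (nat_lit 0x10622d1) (.leaf (nat_lit 0x10622cf) (nat_lit 2819))
 (.leaf (nat_lit 0x10622d1) (nat_lit 2819))
))) (.node (nat_lit 0x10622d7) (.node (nat_lit 0x10622d5) (.leaf (nat_lit 0x10622d3) (nat_lit 3075))
 (.leaf (nat_lit 0x10622d5) (nat_lit 2307))
) (.node (nat_lit 0x10622d9) (.leaf (nat_lit 0x10622d7) (nat_lit 2051))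
 (.node (nat_lit 0x10622db) (.leaf (nat_lit 0x10622d9) (nat_lit 2817))
 (.leaf (nat_lit 0x10622db) (nat_lit 2561))
)))) (.node (nat_lit 0x1062347) (.node (nat_lit 0x1062341) (.node (nat_lit 0x10622df) (.leaf (nat_lit 0x10622dd) (nat_lit 2561))
 (.leaf (nat_lit 0x10622df) (nat_lit 2305))
) (.node (nat_lit 0x1062343) (.leaf (nat_lit 0x1062341) (nat_lit 1794))
 (.node (nat_lit 0x1062345) (.leaf (nat_lit 0x1062343) (nat_lit 2050))
 (.leaf (nat_lit 0x1062345) (nat_lit 2562))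
))) (.node (nat_lit 0x106234d) (.node (nat_lit 0x1062349) (.leaf (nat_lit 0x1062347) (nat_lit 2306))
 (.node (nat_lit 0x106234b) (.leaf (nat_lit 0x1062349) (nat_lit 2819))
 (.leaf (nat_lit 0x106234b) (nat_lit 3075))
)) (.node (nat_lit 0x106234f) (.leaf (nat_lit 0x106234d) (nat_lit 2819))
 (.node (nat_lit 0x1062351) (.leaf (nat_lit 0x106234f) (nat_lit 2563))
 (.leaf (nat_lit 0x1062351) (nat_lit 2819))
))))) (.node (nat_lit 0x10623c7) (.node (nat_lit 0x106235d) (.node (nat_lit 0x1062357) (.node (nat_lit 0x1062355) (.leaf (nat_lit 0x1062353) (nat_lit 2563))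
 (.leaf (nat_lit 0x1062355) (nat_lit 2819))
) (.node (nat_lit 0x1062359) (.leaf (nat_lit 0x1062357) (nat_lit 2818))
 (.node (nat_lit 0x106235b) (.leaf (nat_lit 0x1062359) (nat_lit 2306))
 (.leaf (nat_lit 0x106235b) (nat_lit 2050))
))) (.node (nat_lit 0x10623c1) (.node (nat_lit 0x106235f) (.leaf (nat_lit 0x106235d) (nat_lit 2562))
 (.leaf (nat_lit 0x106235f) (nat_lit 2306))
) (.node (nat_lit 0x10623c3) (.leaf (nat_lit 0x10623c1) (nat_lit 1794))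
 (.node (nat_lit 0x10623c5) (.leaf (nat_lit 0x10623c3) (nat_lit 2050))
 (.leaf (nat_lit 0x10623c5) (nat_lit 2562))
)))) (.node (nat_lit 0x10623d1) (.node (nat_lit 0x10623cb) (.node (nat_lit 0x10623c9) (.leaf (nat_lit 0x10623c7) (nat_lit 2306))
 (.leaf (nat_lit 0x10623c9) (nat_lit 2563))
) (.node (nat_lit 0x10623cd) (.leaf (nat_lit 0x10623cb) (nat_lit 2307))
 (.node (nat_lit 0x10623cf) (.leaf (nat_lit 0x10623cd) (nat_lit 3075))
 (.leaf (nat_lit 0x10623cf) (nat_lit 3074))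
))) (.node (nat_lit 0x10623d7) (.node (nat_lit 0x10623d3) (.leaf (nat_lit 0x10623d1) (nat_lit 3075))
 (.node (nat_lit 0x10623d5) (.leaf (nat_lit 0x10623d3) (nat_lit 3074))
 (.leaf (nat_lit 0x10623d5) (nat_lit 2563))
)) (.node (nat_lit 0x10623d9) (.leaf (nat_lit 0x10623d7) (nat_lit 2307))
 (.node (nat_lit 0x10623db) (.leaf (nat_lit 0x10623d9) (nat_lit 2562))
 (.leaf (nat_lit 0x10623db) (nat_lit 2306))
)))))) (.node (nat_lit 0x1062887) (.node (nat_lit 0x1062851) (.node (nat_lit 0x1062847) (.node (nat_lit 0x1062841) (.node (nat_lit 0x10623df) (.leaf (nat_lit 0x10623dd) (nat_lit 2306))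
 (.leaf (nat_lit 0x10623df) (nat_lit 2050))
) (.node (nat_lit 0x1062843) (.leaf (nat_lit 0x1062841) (nat_lit 773))
 (.node (nat_lit 0x1062845) (.leaf (nat_lit 0x1062843) (nat_lit 1029))
 (.leaf (nat_lit 0x1062845) (nat_lit 1538))
))) (.node (nat_lit 0x106284b) (.node (nat_lit 0x1062849) (.leaf (nat_lit 0x1062847) (nat_lit 1541))
 (.leaf (nat_lit 0x1062849) (nat_lit 1537))
) (.node (nat_lit 0x106284d) (.leaf (nat_lit 0x106284b) (nat_lit 1541))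
 (.node (nat_lit 0x106284f) (.leaf (nat_lit 0x106284d) (nat_lit 2309))
 (.leaf (nat_lit 0x106284f) (nat_lit 2053))
)))) (.node (nat_lit 0x106285b) (.node (nat_lit 0x1062855) (.node (nat_lit 0x1062853) (.leaf (nat_lit 0x1062851) (nat_lit 3333))
 (.leaf (nat_lit 0x1062853) (nat_lit 3331))
) (.node (nat_lit 0x1062857) (.leaf (nat_lit 0x1062855) (nat_lit 2563))
 (.node (nat_lit 0x1062859) (.leaf (nat_lit 0x1062857) (nat_lit 2565))
 (.leaf (nat_lit 0x1062859) (nat_lit 2562))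
))) (.node (nat_lit 0x1062881) (.node (nat_lit 0x106285d) (.leaf (nat_lit 0x106285b) (nat_lit 2565))
 (.node (nat_lit 0x106285f) (.leaf (nat_lit 0x106285d) (nat_lit 2821))
 (.leaf (nat_lit 0x106285f) (nat_lit 2565))
)) (.node (nat_lit 0x1062883) (.leaf (nat_lit 0x1062881) (nat_lit 1026))
 (.node (nat_lit 0x1062885) (.leaf (nat_lit 0x1062883) (nat_lit 1282))
 (.leaf (nat_lit 0x1062885) (nat_lit 1282))
))))) (.node (nat_lit 0x106289b) (.node (nat_lit 0x1062891) (.node (nat_lit 0x106288b) (.node (nat_lit 0x1062889) (.leaf (nat_lit 0x1062887) (nat_lit 1538))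
 (.leaf (nat_lit 0x1062889) (nat_lit 2304))
) (.node (nat_lit 0x106288d) (.leaf (nat_lit 0x106288b) (nat_lit 2048))
 (.node (nat_lit 0x106288f) (.leaf (nat_lit 0x106288d) (nat_lit 2049))
 (.leaf (nat_lit 0x106288f) (nat_lit 1793))
))) (.node (nat_lit 0x1062895) (.node (nat_lit 0x1062893) (.leaf (nat_lit 0x1062891) (nat_lit 3075))
 (.leaf (nat_lit 0x1062893) (nat_lit 2819))
) (.node (nat_lit 0x1062897) (.leaf (nat_lit 0x1062895) (nat_lit 3331))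
 (.node (nat_lit 0x1062899) (.leaf (nat_lit 0x1062897) (nat_lit 3075))
 (.leaf (nat_lit 0x1062899) (nat_lit 2818))
)))) (.node (nat_lit 0x1062905) (.node (nat_lit 0x106289f) (.node (nat_lit 0x106289d) (.leaf (nat_lit 0x106289b) (nat_lit 2818))
 (.leaf (nat_lit 0x106289d) (nat_lit 3074))
) (.node (nat_lit 0x1062901) (.leaf (nat_lit 0x106289f) (nat_lit 2818))
 (.node (nat_lit 0x1062903) (.leaf (nat_lit 0x1062901) (nat_lit 1025))
 (.leaf (nat_lit 0x1062903) (nat_lit 1281))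
))) (.node (nat_lit 0x106290b) (.node (nat_lit 0x1062907) (.leaf (nat_lit 0x1062905) (nat_lit 1793))
 (.node (nat_lit 0x1062909) (.leaf (nat_lit 0x1062907) (nat_lit 1793))
 (.leaf (nat_lit 0x1062909) (nat_lit 1280))
)) (.node (nat_lit 0x106290d) (.leaf (nat_lit 0x106290b) (nat_lit 1536))
 (.node (nat_lit 0x106290f) (.leaf (nat_lit 0x106290d) (nat_lit 2048))
 (.leaf (nat_lit 0x106290f) (nat_lit 2048))
)))))))) (.node (nat_lit 0x1062bd9) (.node (nat_lit 0x1062a85) (.node (nat_lit 0x10629db) (.node (nat_lit 0x10629c5) (.node (nat_lit 0x106291b) (.node (nat_lit 0x1062915) (.node (nat_lit 0x1062913) (.leaf (nat_lit 0x1062911) (nat_lit 3072))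
 (.leaf (nat_lit 0x1062913) (nat_lit 3072))
) (.node (nat_lit 0x1062917) (.leaf (nat_lit 0x1062915) (nat_lit 2819))
 (.node (nat_lit 0x1062919) (.leaf (nat_lit 0x1062917) (nat_lit 2817))
 (.leaf (nat_lit 0x1062919) (nat_lit 2817))
))) (.node (nat_lit 0x106291f) (.node (nat_lit 0x106291d) (.leaf (nat_lit 0x106291b) (nat_lit 2817))
 (.leaf (nat_lit 0x106291d) (nat_lit 3073))
) (.node (nat_lit 0x10629c1) (.leaf (nat_lit 0x106291f) (nat_lit 2817))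
 (.node (nat_lit 0x10629c3) (.leaf (nat_lit 0x10629c1) (nat_lit 1285))
 (.leaf (nat_lit 0x10629c3) (nat_lit 1541))
)))) (.node (nat_lit 0x10629cf) (.node (nat_lit 0x10629c9) (.node (nat_lit 0x10629c7) (.leaf (nat_lit 0x10629c5) (nat_lit 1537))
 (.leaf (nat_lit 0x10629c7) (nat_lit 1793))
) (.node (nat_lit 0x10629cb) (.leaf (nat_lit 0x10629c9) (nat_lit 2053))
 (.node (nat_lit 0x10629cd) (.leaf (nat_lit 0x10629cb) (nat_lit 1797))
 (.leaf (nat_lit 0x10629cd) (nat_lit 1797))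
))) (.node (nat_lit 0x10629d5) (.node (nat_lit 0x10629d1) (.leaf (nat_lit 0x10629cf) (nat_lit 1541))
 (.node (nat_lit 0x10629d3) (.leaf (nat_lit 0x10629d1) (nat_lit 3333))
 (.leaf (nat_lit 0x10629d3) (nat_lit 3077))
)) (.node (nat_lit 0x10629d7) (.leaf (nat_lit 0x10629d5) (nat_lit 3333))
 (.node (nat_lit 0x10629d9) (.leaf (nat_lit 0x10629d7) (nat_lit 3077))
 (.leaf (nat_lit 0x10629d9) (nat_lit 3075))
))))) (.node (nat_lit 0x1062a4f) (.node (nat_lit 0x1062a45) (.node (nat_lit 0x10629df) (.node (nat_lit 0x10629dd) (.leaf (nat_lit 0x10629db) (nat_lit 3077))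
 (.leaf (nat_lit 0x10629dd) (nat_lit 3333))
) (.node (nat_lit 0x1062a41) (.leaf (nat_lit 0x10629df) (nat_lit 3077))
 (.node (nat_lit 0x1062a43) (.leaf (nat_lit 0x1062a41) (nat_lit 2053))
 (.leaf (nat_lit 0x1062a43) (nat_lit 2309))
))) (.node (nat_lit 0x1062a49) (.node (nat_lit 0x1062a47) (.leaf (nat_lit 0x1062a45) (nat_lit 2565))
 (.leaf (nat_lit 0x1062a47) (nat_lit 2309))
) (.node (nat_lit 0x1062a4b) (.leaf (nat_lit 0x1062a49) (nat_lit 2821))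
 (.node (nat_lit 0x1062a4d) (.leaf (nat_lit 0x1062a4b) (nat_lit 2565))
 (.leaf (nat_lit 0x1062a4d) (nat_lit 2821))
)))) (.node (nat_lit 0x1062a59) (.node (nat_lit 0x1062a53) (.node (nat_lit 0x1062a51) (.leaf (nat_lit 0x1062a4f) (nat_lit 2821))
 (.leaf (nat_lit 0x1062a51) (nat_lit 2565))
) (.node (nat_lit 0x1062a55) (.leaf (nat_lit 0x1062a53) (nat_lit 2309))
 (.node (nat_lit 0x1062a57) (.leaf (nat_lit 0x1062a55) (nat_lit 2565))
 (.leaf (nat_lit 0x1062a57) (nat_lit 2821))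
))) (.node (nat_lit 0x1062a5f) (.node (nat_lit 0x1062a5b) (.leaf (nat_lit 0x1062a59) (nat_lit 2561))
 (.node (nat_lit 0x1062a5d) (.leaf (nat_lit 0x1062a5b) (nat_lit 2817))
 (.leaf (nat_lit 0x1062a5d) (nat_lit 3073))
)) (.node (nat_lit 0x1062a81) (.leaf (nat_lit 0x1062a5f) (nat_lit 2817))
 (.node (nat_lit 0x1062a83) (.leaf (nat_lit 0x1062a81) (nat_lit 2051))
 (.leaf (nat_lit 0x1062a83) (nat_lit 2307))
)))))) (.node (nat_lit 0x1062b0f) (.node (nat_lit 0x1062a99) (.node (nat_lit 0x1062a8f) (.node (nat_lit 0x1062a89) (.node (nat_lit 0x1062a87) (.leaf (nat_lit 0x1062a85) (nat_lit 2817))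
 (.leaf (nat_lit 0x1062a87) (nat_lit 2561))
) (.node (nat_lit 0x1062a8b) (.leaf (nat_lit 0x1062a89) (nat_lit 2817))
 (.node (nat_lit 0x1062a8d) (.leaf (nat_lit 0x1062a8b) (nat_lit 2561))
 (.leaf (nat_lit 0x1062a8d) (nat_lit 2817))
))) (.node (nat_lit 0x1062a93) (.node (nat_lit 0x1062a91) (.leaf (nat_lit 0x1062a8f) (nat_lit 3073))
 (.leaf (nat_lit 0x1062a91) (nat_lit 2818))
) (.node (nat_lit 0x1062a95) (.leaf (nat_lit 0x1062a93) (nat_lit 2562))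
 (.node (nat_lit 0x1062a97) (.leaf (nat_lit 0x1062a95) (nat_lit 2307))
 (.leaf (nat_lit 0x1062a97) (nat_lit 2563))
)))) (.node (nat_lit 0x1062b03) (.node (nat_lit 0x1062a9d) (.node (nat_lit 0x1062a9b) (.leaf (nat_lit 0x1062a99) (nat_lit 2817))
 (.leaf (nat_lit 0x1062a9b) (nat_lit 3073))
) (.node (nat_lit 0x1062a9f) (.leaf (nat_lit 0x1062a9d) (nat_lit 2817))
 (.node (nat_lit 0x1062b01) (.leaf (nat_lit 0x1062a9f) (nat_lit 2561))
 (.leaf (nat_lit 0x1062b01) (nat_lit 2050))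
))) (.node (nat_lit 0x1062b09) (.node (nat_lit 0x1062b05) (.leaf (nat_lit 0x1062b03) (nat_lit 2306))
 (.node (nat_lit 0x1062b07) (.leaf (nat_lit 0x1062b05) (nat_lit 2817))
 (.leaf (nat_lit 0x1062b07) (nat_lit 2561))
)) (.node (nat_lit 0x1062b0b) (.leaf (nat_lit 0x1062b09) (nat_lit 3073))
 (.node (nat_lit 0x1062b0d) (.leaf (nat_lit 0x1062b0b) (nat_lit 2817))
 (.leaf (nat_lit 0x1062b0d) (nat_lit 3075))
))))) (.node (nat_lit 0x1062bc3) (.node (nat_lit 0x1062b19) (.node (nat_lit 0x1062b13) (.node (nat_lit 0x1062b11) (.leaf (nat_lit 0x1062b0f) (nat_lit 2819))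
 (.leaf (nat_lit 0x1062b11) (nat_lit 2817))
) (.node (nat_lit 0x1062b15) (.leaf (nat_lit 0x1062b13) (nat_lit 2561))
 (.node (nat_lit 0x1062b17) (.leaf (nat_lit 0x1062b15) (nat_lit 2817))
 (.leaf (nat_lit 0x1062b17) (nat_lit 3073))
))) (.node (nat_lit 0x1062b1d) (.node (nat_lit 0x1062b1b) (.leaf (nat_lit 0x1062b19) (nat_lit 2306))
 (.leaf (nat_lit 0x1062b1b) (nat_lit 2562))
) (.node (nat_lit 0x1062b1f) (.leaf (nat_lit 0x1062b1d) (nat_lit 2818))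
 (.node (nat_lit 0x1062bc1) (.leaf (nat_lit 0x1062b1f) (nat_lit 2562))
 (.leaf (nat_lit 0x1062bc1) (nat_lit 2053))
)))) (.node (nat_lit 0x1062bcd) (.node (nat_lit 0x1062bc7) (.node (nat_lit 0x1062bc5) (.leaf (nat_lit 0x1062bc3) (nat_lit 2309))
 (.leaf (nat_lit 0x1062bc5) (nat_lit 2565))
) (.node (nat_lit 0x1062bc9) (.leaf (nat_lit 0x1062bc7) (nat_lit 2309))
 (.node (nat_lit 0x1062bcb) (.leaf (nat_lit 0x1062bc9) (nat_lit 2565))
 (.leaf (nat_lit 0x1062bcb) (nat_lit 2309))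
))) (.node (nat_lit 0x1062bd3) (.node (nat_lit 0x1062bcf) (.leaf (nat_lit 0x1062bcd) (nat_lit 2565))
 (.node (nat_lit 0x1062bd1) (.leaf (nat_lit 0x1062bcf) (nat_lit 2821))
 (.leaf (nat_lit 0x1062bd1) (nat_lit 3077))
)) (.node (nat_lit 0x1062bd5) (.leaf (nat_lit 0x1062bd3) (nat_lit 2821))
 (.node (nat_lit 0x1062bd7) (.leaf (nat_lit 0x1062bd5) (nat_lit 2565))
 (.leaf (nat_lit 0x1062bd7) (nat_lit 2821))
))))))) (.node (nat_lit 0x106390d) (.node (nat_lit 0x10638c3) (.node (nat_lit 0x106388d) (.node (nat_lit 0x1063883) (.node (nat_lit 0x1062bdd) (.node (nat_lit 0x1062bdb) (.leaf (nat_lit 0x1062bd9) (nat_lit 2565))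
 (.leaf (nat_lit 0x1062bdb) (nat_lit 2821))
) (.node (nat_lit 0x1062bdf) (.leaf (nat_lit 0x1062bdd) (nat_lit 2565))
 (.node (nat_lit 0x1063881) (.leaf (nat_lit 0x1062bdf) (nat_lit 2309))
 (.leaf (nat_lit 0x1063881) (nat_lit 1282))
))) (.node (nat_lit 0x1063887) (.node (nat_lit 0x1063885) (.leaf (nat_lit 0x1063883) (nat_lit 1538))
 (.leaf (nat_lit 0x1063885) (nat_lit 1538))
) (.node (nat_lit 0x1063889) (.leaf (nat_lit 0x1063887) (nat_lit 1538))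
 (.node (nat_lit 0x106388b) (.leaf (nat_lit 0x1063889) (nat_lit 2049))
 (.leaf (nat_lit 0x106388b) (nat_lit 1793))
)))) (.node (nat_lit 0x1063897) (.node (nat_lit 0x1063891) (.node (nat_lit 0x106388f) (.leaf (nat_lit 0x106388d) (nat_lit 2305))
 (.leaf (nat_lit 0x106388f) (nat_lit 2049))
) (.node (nat_lit 0x1063893) (.leaf (nat_lit 0x1063891) (nat_lit 3333))
 (.node (nat_lit 0x1063895) (.leaf (nat_lit 0x1063893) (nat_lit 3077))
 (.leaf (nat_lit 0x1063895) (nat_lit 3331))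
))) (.node (nat_lit 0x106389d) (.node (nat_lit 0x1063899) (.leaf (nat_lit 0x1063897) (nat_lit 3075))
 (.node (nat_lit 0x106389b) (.leaf (nat_lit 0x1063899) (nat_lit 3074))
 (.leaf (nat_lit 0x106389b) (nat_lit 2818))
)) (.node (nat_lit 0x106389f) (.leaf (nat_lit 0x106389d) (nat_lit 3330))
 (.node (nat_lit 0x10638c1) (.leaf (nat_lit 0x106389f) (nat_lit 3074))
 (.leaf (nat_lit 0x10638c1) (nat_lit 1029))
))))) (.node (nat_lit 0x10638d7) (.node (nat_lit 0x10638cd) (.node (nat_lit 0x10638c7) (.node (nat_lit 0x10638c5) (.leaf (nat_lit 0x10638c3) (nat_lit 1285))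
 (.leaf (nat_lit 0x10638c5) (nat_lit 1541))
) (.node (nat_lit 0x10638c9) (.leaf (nat_lit 0x10638c7) (nat_lit 1285))
 (.node (nat_lit 0x10638cb) (.leaf (nat_lit 0x10638c9) (nat_lit 1793))
 (.leaf (nat_lit 0x10638cb) (nat_lit 2049))
))) (.node (nat_lit 0x10638d1) (.node (nat_lit 0x10638cf) (.leaf (nat_lit 0x10638cd) (nat_lit 2053))
 (.leaf (nat_lit 0x10638cf) (nat_lit 1797))
) (.node (nat_lit 0x10638d3) (.leaf (nat_lit 0x10638d1) (nat_lit 3077))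
 (.node (nat_lit 0x10638d5) (.leaf (nat_lit 0x10638d3) (nat_lit 2821))
 (.leaf (nat_lit 0x10638d5) (nat_lit 2819))
)))) (.node (nat_lit 0x1063901) (.node (nat_lit 0x10638db) (.node (nat_lit 0x10638d9) (.leaf (nat_lit 0x10638d7) (nat_lit 3075))
 (.leaf (nat_lit 0x10638d9) (nat_lit 2818))
) (.node (nat_lit 0x10638dd) (.leaf (nat_lit 0x10638db) (nat_lit 2821))
 (.node (nat_lit 0x10638df) (.leaf (nat_lit 0x10638dd) (nat_lit 3077))
 (.leaf (nat_lit 0x10638df) (nat_lit 2821))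
))) (.node (nat_lit 0x1063907) (.node (nat_lit 0x1063903) (.leaf (nat_lit 0x1063901) (nat_lit 1281))
 (.node (nat_lit 0x1063905) (.leaf (nat_lit 0x1063903) (nat_lit 1537))
 (.leaf (nat_lit 0x1063905) (nat_lit 1793))
)) (.node (nat_lit 0x1063909) (.leaf (nat_lit 0x1063907) (nat_lit 1537))
 (.node (nat_lit 0x106390b) (.leaf (nat_lit 0x1063909) (nat_lit 1536))
 (.leaf (nat_lit 0x106390b) (nat_lit 1792))
)))))) (.node (nat_lit 0x1063957) (.node (nat_lit 0x1063941) (.node (nat_lit 0x1063917) (.node (nat_lit 0x1063911) (.node (nat_lit 0x106390f) (.leaf (nat_lit 0x106390d) (nat_lit 2048))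
 (.leaf (nat_lit 0x106390f) (nat_lit 1792))
) (.node (nat_lit 0x1063913) (.leaf (nat_lit 0x1063911) (nat_lit 3329))
 (.node (nat_lit 0x1063915) (.leaf (nat_lit 0x1063913) (nat_lit 3073))
 (.leaf (nat_lit 0x1063915) (nat_lit 3075))
))) (.node (nat_lit 0x106391b) (.node (nat_lit 0x1063919) (.leaf (nat_lit 0x1063917) (nat_lit 3074))
 (.leaf (nat_lit 0x1063919) (nat_lit 3073))
) (.node (nat_lit 0x106391d) (.leaf (nat_lit 0x106391b) (nat_lit 3073))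
 (.node (nat_lit 0x106391f) (.leaf (nat_lit 0x106391d) (nat_lit 3329))
 (.leaf (nat_lit 0x106391f) (nat_lit 3073))
)))) (.node (nat_lit 0x106394b) (.node (nat_lit 0x1063945) (.node (nat_lit 0x1063943) (.leaf (nat_lit 0x1063941) (nat_lit 1285))
 (.leaf (nat_lit 0x1063943) (nat_lit 1541))
) (.node (nat_lit 0x1063947) (.leaf (nat_lit 0x1063945) (nat_lit 1793))
 (.node (nat_lit 0x1063949) (.leaf (nat_lit 0x1063947) (nat_lit 1797))
 (.leaf (nat_lit 0x1063949) (nat_lit 1797))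
))) (.node (nat_lit 0x1063951) (.node (nat_lit 0x106394d) (.leaf (nat_lit 0x106394b) (nat_lit 1541))
 (.node (nat_lit 0x106394f) (.leaf (nat_lit 0x106394d) (nat_lit 2053))
 (.leaf (nat_lit 0x106394f) (nat_lit 1797))
)) (.node (nat_lit 0x1063953) (.leaf (nat_lit 0x1063951) (nat_lit 3333))
 (.node (nat_lit 0x1063955) (.leaf (nat_lit 0x1063953) (nat_lit 3077))
 (.leaf (nat_lit 0x1063955) (nat_lit 3074))
))))) (.node (nat_lit 0x1063a8b) (.node (nat_lit 0x1063a81) (.node (nat_lit 0x106395b) (.node (nat_lit 0x1063959) (.leaf (nat_lit 0x1063957) (nat_lit 3077))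
 (.leaf (nat_lit 0x1063959) (nat_lit 3075))
) (.node (nat_lit 0x106395d) (.leaf (nat_lit 0x106395b) (nat_lit 3077))
 (.node (nat_lit 0x106395f) (.leaf (nat_lit 0x106395d) (nat_lit 3333))
 (.leaf (nat_lit 0x106395f) (nat_lit 3077))
))) (.node (nat_lit 0x1063a85) (.node (nat_lit 0x1063a83) (.leaf (nat_lit 0x1063a81) (nat_lit 2049))
 (.leaf (nat_lit 0x1063a83) (nat_lit 2305))
) (.node (nat_lit 0x1063a87) (.leaf (nat_lit 0x1063a85) (nat_lit 2819))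
 (.node (nat_lit 0x1063a89) (.leaf (nat_lit 0x1063a87) (nat_lit 2563))
 (.leaf (nat_lit 0x1063a89) (nat_lit 3074))
)))) (.node (nat_lit 0x1063a95) (.node (nat_lit 0x1063a8f) (.node (nat_lit 0x1063a8d) (.leaf (nat_lit 0x1063a8b) (nat_lit 2818))
 (.leaf (nat_lit 0x1063a8d) (nat_lit 2561))
) (.node (nat_lit 0x1063a91) (.leaf (nat_lit 0x1063a8f) (nat_lit 2305))
 (.node (nat_lit 0x1063a93) (.leaf (nat_lit 0x1063a91) (nat_lit 3075))
 (.leaf (nat_lit 0x1063a93) (nat_lit 2819))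
))) (.node (nat_lit 0x1063a9b) (.node (nat_lit 0x1063a97) (.leaf (nat_lit 0x1063a95) (nat_lit 2304))
 (.node (nat_lit 0x1063a99) (.leaf (nat_lit 0x1063a97) (nat_lit 2306))
 (.leaf (nat_lit 0x1063a99) (nat_lit 2561))
)) (.node (nat_lit 0x1063a9d) (.leaf (nat_lit 0x1063a9b) (nat_lit 2305))
 (.node (nat_lit 0x1063a9f) (.leaf (nat_lit 0x1063a9d) (nat_lit 3073))
 (.leaf (nat_lit 0x1063a9f) (nat_lit 3073))
))))))))) (.node (nat_lit 0x1064b51) (.node (nat_lit 0x1064909) (.node (nat_lit 0x1063b55) (.node (nat_lit 0x1063b0b) (.node (nat_lit 0x1063ad5) (.node (nat_lit 0x1063acb) (.node (nat_lit 0x1063ac5) (.node (nat_lit 0x1063ac3) (.leaf (nat_lit 0x1063ac1) (nat_lit 1797))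
 (.leaf (nat_lit 0x1063ac3) (nat_lit 2053))
) (.node (nat_lit 0x1063ac7) (.leaf (nat_lit 0x1063ac5) (nat_lit 2821))
 (.node (nat_lit 0x1063ac9) (.leaf (nat_lit 0x1063ac7) (nat_lit 2565))
 (.leaf (nat_lit 0x1063ac9) (nat_lit 3077))
))) (.node (nat_lit 0x1063acf) (.node (nat_lit 0x1063acd) (.leaf (nat_lit 0x1063acb) (nat_lit 2821))
 (.leaf (nat_lit 0x1063acd) (nat_lit 2565))
) (.node (nat_lit 0x1063ad1) (.leaf (nat_lit 0x1063acf) (nat_lit 2309))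
 (.node (nat_lit 0x1063ad3) (.leaf (nat_lit 0x1063ad1) (nat_lit 2821))
 (.leaf (nat_lit 0x1063ad3) (nat_lit 3077))
)))) (.node (nat_lit 0x1063adf) (.node (nat_lit 0x1063ad9) (.node (nat_lit 0x1063ad7) (.leaf (nat_lit 0x1063ad5) (nat_lit 2309))
 (.leaf (nat_lit 0x1063ad7) (nat_lit 2053))
) (.node (nat_lit 0x1063adb) (.leaf (nat_lit 0x1063ad9) (nat_lit 2565))
 (.node (nat_lit 0x1063add) (.leaf (nat_lit 0x1063adb) (nat_lit 2561))
 (.leaf (nat_lit 0x1063add) (nat_lit 3077))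
))) (.node (nat_lit 0x1063b05) (.node (nat_lit 0x1063b01) (.leaf (nat_lit 0x1063adf) (nat_lit 3073))
 (.node (nat_lit 0x1063b03) (.leaf (nat_lit 0x1063b01) (nat_lit 2049))
 (.leaf (nat_lit 0x1063b03) (nat_lit 2305))
)) (.node (nat_lit 0x1063b07) (.leaf (nat_lit 0x1063b05) (nat_lit 2818))
 (.node (nat_lit 0x1063b09) (.leaf (nat_lit 0x1063b07) (nat_lit 2562))
 (.leaf (nat_lit 0x1063b09) (nat_lit 3075))
))))) (.node (nat_lit 0x1063b1f) (.node (nat_lit 0x1063b15) (.node (nat_lit 0x1063b0f) (.node (nat_lit 0x1063b0d) (.leaf (nat_lit 0x1063b0b) (nat_lit 2819))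
 (.leaf (nat_lit 0x1063b0d) (nat_lit 2817))
) (.node (nat_lit 0x1063b11) (.leaf (nat_lit 0x1063b0f) (nat_lit 2561))
 (.node (nat_lit 0x1063b13) (.leaf (nat_lit 0x1063b11) (nat_lit 3073))
 (.leaf (nat_lit 0x1063b13) (nat_lit 3075))
))) (.node (nat_lit 0x1063b19) (.node (nat_lit 0x1063b17) (.leaf (nat_lit 0x1063b15) (nat_lit 2561))
 (.leaf (nat_lit 0x1063b17) (nat_lit 2305))
) (.node (nat_lit 0x1063b1b) (.leaf (nat_lit 0x1063b19) (nat_lit 2304))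
 (.node (nat_lit 0x1063b1d) (.leaf (nat_lit 0x1063b1b) (nat_lit 2306))
 (.leaf (nat_lit 0x1063b1d) (nat_lit 3074))
)))) (.node (nat_lit 0x1063b49) (.node (nat_lit 0x1063b43) (.node (nat_lit 0x1063b41) (.leaf (nat_lit 0x1063b1f) (nat_lit 2818))
 (.leaf (nat_lit 0x1063b41) (nat_lit 1797))
) (.node (nat_lit 0x1063b45) (.leaf (nat_lit 0x1063b43) (nat_lit 2053))
 (.node (nat_lit 0x1063b47) (.leaf (nat_lit 0x1063b45) (nat_lit 2821))
 (.leaf (nat_lit 0x1063b47) (nat_lit 2565))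
))) (.node (nat_lit 0x1063b4f) (.node (nat_lit 0x1063b4b) (.leaf (nat_lit 0x1063b49) (nat_lit 2821))
 (.node (nat_lit 0x1063b4d) (.leaf (nat_lit 0x1063b4b) (nat_lit 3077))
 (.leaf (nat_lit 0x1063b4d) (nat_lit 2309))
)) (.node (nat_lit 0x1063b51) (.leaf (nat_lit 0x1063b4f) (nat_lit 2053))
 (.node (nat_lit 0x1063b53) (.leaf (nat_lit 0x1063b51) (nat_lit 3333))
 (.leaf (nat_lit 0x1063b53) (nat_lit 3077))
)))))) (.node (nat_lit 0x106489f) (.node (nat_lit 0x1064889) (.node (nat_lit 0x1063b5f) (.node (nat_lit 0x1063b59) (.node (nat_lit 0x1063b57) (.leaf (nat_lit 0x1063b55) (nat_lit 2309))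
 (.leaf (nat_lit 0x1063b57) (nat_lit 2565))
) (.node (nat_lit 0x1063b5b) (.leaf (nat_lit 0x1063b59) (nat_lit 2309))
 (.node (nat_lit 0x1063b5d) (.leaf (nat_lit 0x1063b5b) (nat_lit 2053))
 (.leaf (nat_lit 0x1063b5d) (nat_lit 2821))
))) (.node (nat_lit 0x1064883) (.node (nat_lit 0x1064881) (.leaf (nat_lit 0x1063b5f) (nat_lit 2821))
 (.leaf (nat_lit 0x1064881) (nat_lit 2050))
) (.node (nat_lit 0x1064885) (.leaf (nat_lit 0x1064883) (nat_lit 2306))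
 (.node (nat_lit 0x1064887) (.leaf (nat_lit 0x1064885) (nat_lit 2306))
 (.leaf (nat_lit 0x1064887) (nat_lit 2306))
)))) (.node (nat_lit 0x1064893) (.node (nat_lit 0x106488d) (.node (nat_lit 0x106488b) (.leaf (nat_lit 0x1064889) (nat_lit 2819))
 (.leaf (nat_lit 0x106488b) (nat_lit 2563))
) (.node (nat_lit 0x106488f) (.leaf (nat_lit 0x106488d) (nat_lit 2820))
 (.node (nat_lit 0x1064891) (.leaf (nat_lit 0x106488f) (nat_lit 2819))
 (.leaf (nat_lit 0x1064891) (nat_lit 3077))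
))) (.node (nat_lit 0x1064899) (.node (nat_lit 0x1064895) (.leaf (nat_lit 0x1064893) (nat_lit 2821))
 (.node (nat_lit 0x1064897) (.leaf (nat_lit 0x1064895) (nat_lit 3073))
 (.leaf (nat_lit 0x1064897) (nat_lit 2817))
)) (.node (nat_lit 0x106489b) (.leaf (nat_lit 0x1064899) (nat_lit 2818))
 (.node (nat_lit 0x106489d) (.leaf (nat_lit 0x106489b) (nat_lit 2562))
 (.leaf (nat_lit 0x106489d) (nat_lit 3074))
))))) (.node (nat_lit 0x10648d3) (.node (nat_lit 0x10648c9) (.node (nat_lit 0x10648c3) (.node (nat_lit 0x10648c1) (.leaf (nat_lit 0x106489f) (nat_lit 2818))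
 (.leaf (nat_lit 0x10648c1) (nat_lit 1541))
) (.node (nat_lit 0x10648c5) (.leaf (nat_lit 0x10648c3) (nat_lit 1797))
 (.node (nat_lit 0x10648c7) (.leaf (nat_lit 0x10648c5) (nat_lit 2053))
 (.leaf (nat_lit 0x10648c7) (nat_lit 1797))
))) (.node (nat_lit 0x10648cd) (.node (nat_lit 0x10648cb) (.leaf (nat_lit 0x10648c9) (nat_lit 2565))
 (.leaf (nat_lit 0x10648cb) (nat_lit 2309))
) (.node (nat_lit 0x10648cf) (.leaf (nat_lit 0x10648cd) (nat_lit 2565))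
 (.node (nat_lit 0x10648d1) (.leaf (nat_lit 0x10648cf) (nat_lit 2565))
 (.leaf (nat_lit 0x10648d1) (nat_lit 2565))
)))) (.node (nat_lit 0x10648dd) (.node (nat_lit 0x10648d7) (.node (nat_lit 0x10648d5) (.leaf (nat_lit 0x10648d3) (nat_lit 2309))
 (.leaf (nat_lit 0x10648d5) (nat_lit 2305))
) (.node (nat_lit 0x10648d9) (.leaf (nat_lit 0x10648d7) (nat_lit 2561))
 (.node (nat_lit 0x10648db) (.leaf (nat_lit 0x10648d9) (nat_lit 2562))
 (.leaf (nat_lit 0x10648db) (nat_lit 2818))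
))) (.node (nat_lit 0x1064903) (.node (nat_lit 0x10648df) (.leaf (nat_lit 0x10648dd) (nat_lit 2821))
 (.node (nat_lit 0x1064901) (.leaf (nat_lit 0x10648df) (nat_lit 2565))
 (.leaf (nat_lit 0x1064901) (nat_lit 2051))
)) (.node (nat_lit 0x1064905) (.leaf (nat_lit 0x1064903) (nat_lit 2307))
 (.node (nat_lit 0x1064907) (.leaf (nat_lit 0x1064905) (nat_lit 2563))
 (.leaf (nat_lit 0x1064907) (nat_lit 2307))
))))))) (.node (nat_lit 0x1064a9d) (.node (nat_lit 0x1064953) (.node (nat_lit 0x106491d) (.node (nat_lit 0x1064913) (.node (nat_lit 0x106490d) (.node (nat_lit 0x106490b) (.leaf (nat_lit 0x1064909) (nat_lit 2307))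
 (.leaf (nat_lit 0x106490b) (nat_lit 2563))
) (.node (nat_lit 0x106490f) (.leaf (nat_lit 0x106490d) (nat_lit 2819))
 (.node (nat_lit 0x1064911) (.leaf (nat_lit 0x106490f) (nat_lit 2563))
 (.leaf (nat_lit 0x1064911) (nat_lit 3072))
))) (.node (nat_lit 0x1064917) (.node (nat_lit 0x1064915) (.leaf (nat_lit 0x1064913) (nat_lit 2816))
 (.leaf (nat_lit 0x1064915) (nat_lit 3074))
) (.node (nat_lit 0x1064919) (.leaf (nat_lit 0x1064917) (nat_lit 2818))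
 (.node (nat_lit 0x106491b) (.leaf (nat_lit 0x1064919) (nat_lit 2817))
 (.leaf (nat_lit 0x106491b) (nat_lit 2561))
)))) (.node (nat_lit 0x1064947) (.node (nat_lit 0x1064941) (.node (nat_lit 0x106491f) (.leaf (nat_lit 0x106491d) (nat_lit 3073))
 (.leaf (nat_lit 0x106491f) (nat_lit 2817))
) (.node (nat_lit 0x1064943) (.leaf (nat_lit 0x1064941) (nat_lit 2053))
 (.node (nat_lit 0x1064945) (.leaf (nat_lit 0x1064943) (nat_lit 2309))
 (.leaf (nat_lit 0x1064945) (nat_lit 2565))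
))) (.node (nat_lit 0x106494d) (.node (nat_lit 0x1064949) (.leaf (nat_lit 0x1064947) (nat_lit 2309))
 (.node (nat_lit 0x106494b) (.leaf (nat_lit 0x1064949) (nat_lit 2565))
 (.leaf (nat_lit 0x106494b) (nat_lit 2309))
)) (.node (nat_lit 0x106494f) (.leaf (nat_lit 0x106494d) (nat_lit 2565))
 (.node (nat_lit 0x1064951) (.leaf (nat_lit 0x106494f) (nat_lit 2565))
 (.leaf (nat_lit 0x1064951) (nat_lit 2821))
))))) (.node (nat_lit 0x1064a87) (.node (nat_lit 0x106495d) (.node (nat_lit 0x1064957) (.node (nat_lit 0x1064955) (.leaf (nat_lit 0x1064953) (nat_lit 2565))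
 (.leaf (nat_lit 0x1064955) (nat_lit 2821))
) (.node (nat_lit 0x1064959) (.leaf (nat_lit 0x1064957) (nat_lit 3077))
 (.node (nat_lit 0x106495b) (.leaf (nat_lit 0x1064959) (nat_lit 2561))
 (.leaf (nat_lit 0x106495b) (nat_lit 2817))
))) (.node (nat_lit 0x1064a81) (.node (nat_lit 0x106495f) (.leaf (nat_lit 0x106495d) (nat_lit 3073))
 (.leaf (nat_lit 0x106495f) (nat_lit 2817))
) (.node (nat_lit 0x1064a83) (.leaf (nat_lit 0x1064a81) (nat_lit 1793))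
 (.node (nat_lit 0x1064a85) (.leaf (nat_lit 0x1064a83) (nat_lit 2049))
 (.leaf (nat_lit 0x1064a85) (nat_lit 2305))
)))) (.node (nat_lit 0x1064a91) (.node (nat_lit 0x1064a8b) (.node (nat_lit 0x1064a89) (.leaf (nat_lit 0x1064a87) (nat_lit 2049))
 (.leaf (nat_lit 0x1064a89) (nat_lit 2817))
) (.node (nat_lit 0x1064a8d) (.leaf (nat_lit 0x1064a8b) (nat_lit 2561))
 (.node (nat_lit 0x1064a8f) (.leaf (nat_lit 0x1064a8d) (nat_lit 2817))
 (.leaf (nat_lit 0x1064a8f) (nat_lit 2817))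
))) (.node (nat_lit 0x1064a97) (.node (nat_lit 0x1064a93) (.leaf (nat_lit 0x1064a91) (nat_lit 2560))
 (.node (nat_lit 0x1064a95) (.leaf (nat_lit 0x1064a93) (nat_lit 2304))
 (.leaf (nat_lit 0x1064a95) (nat_lit 2048))
)) (.node (nat_lit 0x1064a99) (.leaf (nat_lit 0x1064a97) (nat_lit 2304))
 (.node (nat_lit 0x1064a9b) (.leaf (nat_lit 0x1064a99) (nat_lit 2817))
 (.leaf (nat_lit 0x1064a9b) (nat_lit 3073))
)))))) (.node (nat_lit 0x1064b07) (.node (nat_lit 0x1064ad1) (.node (nat_lit 0x1064ac7) (.node (nat_lit 0x1064ac1) (.node (nat_lit 0x1064a9f) (.leaf (nat_lit 0x1064a9d) (nat_lit 3072))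
 (.leaf (nat_lit 0x1064a9f) (nat_lit 2816))
) (.node (nat_lit 0x1064ac3) (.leaf (nat_lit 0x1064ac1) (nat_lit 2305))
 (.node (nat_lit 0x1064ac5) (.leaf (nat_lit 0x1064ac3) (nat_lit 2561))
 (.leaf (nat_lit 0x1064ac5) (nat_lit 2561))
))) (.node (nat_lit 0x1064acb) (.node (nat_lit 0x1064ac9) (.leaf (nat_lit 0x1064ac7) (nat_lit 2561))
 (.leaf (nat_lit 0x1064ac9) (nat_lit 2818))
) (.node (nat_lit 0x1064acd) (.leaf (nat_lit 0x1064acb) (nat_lit 2819))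
 (.node (nat_lit 0x1064acf) (.leaf (nat_lit 0x1064acd) (nat_lit 3077))
 (.leaf (nat_lit 0x1064acf) (nat_lit 2821))
)))) (.node (nat_lit 0x1064adb) (.node (nat_lit 0x1064ad5) (.node (nat_lit 0x1064ad3) (.leaf (nat_lit 0x1064ad1) (nat_lit 2816))
 (.leaf (nat_lit 0x1064ad3) (nat_lit 2816))
) (.node (nat_lit 0x1064ad7) (.leaf (nat_lit 0x1064ad5) (nat_lit 2816))
 (.node (nat_lit 0x1064ad9) (.leaf (nat_lit 0x1064ad7) (nat_lit 2560))
 (.leaf (nat_lit 0x1064ad9) (nat_lit 3073))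
))) (.node (nat_lit 0x1064b01) (.node (nat_lit 0x1064add) (.leaf (nat_lit 0x1064adb) (nat_lit 2817))
 (.node (nat_lit 0x1064adf) (.leaf (nat_lit 0x1064add) (nat_lit 3077))
 (.leaf (nat_lit 0x1064adf) (nat_lit 2821))
)) (.node (nat_lit 0x1064b03) (.leaf (nat_lit 0x1064b01) (nat_lit 2050))
 (.node (nat_lit 0x1064b05) (.leaf (nat_lit 0x1064b03) (nat_lit 2306))
 (.leaf (nat_lit 0x1064b05) (nat_lit 2562))
))))) (.node (nat_lit 0x1064b1b) (.node (nat_lit 0x1064b11) (.node (nat_lit 0x1064b0b) (.node (nat_lit 0x1064b09) (.leaf (nat_lit 0x1064b07) (nat_lit 2306))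
 (.leaf (nat_lit 0x1064b09) (nat_lit 2817))
) (.node (nat_lit 0x1064b0d) (.leaf (nat_lit 0x1064b0b) (nat_lit 2561))
 (.node (nat_lit 0x1064b0f) (.leaf (nat_lit 0x1064b0d) (nat_lit 2817))
 (.leaf (nat_lit 0x1064b0f) (nat_lit 2817))
))) (.node (nat_lit 0x1064b15) (.node (nat_lit 0x1064b13) (.leaf (nat_lit 0x1064b11) (nat_lit 3072))
 (.leaf (nat_lit 0x1064b13) (nat_lit 2816))
) (.node (nat_lit 0x1064b17) (.leaf (nat_lit 0x1064b15) (nat_lit 3072))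
 (.node (nat_lit 0x1064b19) (.leaf (nat_lit 0x1064b17) (nat_lit 3072))
 (.leaf (nat_lit 0x1064b19) (nat_lit 2306))
)))) (.node (nat_lit 0x1064b45) (.node (nat_lit 0x1064b1f) (.node (nat_lit 0x1064b1d) (.leaf (nat_lit 0x1064b1b) (nat_lit 2562))
 (.leaf (nat_lit 0x1064b1d) (nat_lit 2818))
) (.node (nat_lit 0x1064b41) (.leaf (nat_lit 0x1064b1f) (nat_lit 2562))
 (.node (nat_lit 0x1064b43) (.leaf (nat_lit 0x1064b41) (nat_lit 2053))
 (.leaf (nat_lit 0x1064b43) (nat_lit 2309))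
))) (.node (nat_lit 0x1064b4b) (.node (nat_lit 0x1064b47) (.leaf (nat_lit 0x1064b45) (nat_lit 2562))
 (.node (nat_lit 0x1064b49) (.leaf (nat_lit 0x1064b47) (nat_lit 2565))
 (.leaf (nat_lit 0x1064b49) (nat_lit 2563))
)) (.node (nat_lit 0x1064b4d) (.leaf (nat_lit 0x1064b4b) (nat_lit 2819))
 (.node (nat_lit 0x1064b4f) (.leaf (nat_lit 0x1064b4d) (nat_lit 3075))
 (.leaf (nat_lit 0x1064b4f) (nat_lit 2819))
)))))))) (.node (nat_lit 0x1065259) (.node (nat_lit 0x1065145) (.node (nat_lit 0x106505b) (.node (nat_lit 0x1065045) (.node (nat_lit 0x1064b5b) (.node (nat_lit 0x1064b55) (.node (nat_lit 0x1064b53) (.leaf (nat_lit 0x1064b51) (nat_lit 3077))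
 (.leaf (nat_lit 0x1064b53) (nat_lit 2821))
) (.node (nat_lit 0x1064b57) (.leaf (nat_lit 0x1064b55) (nat_lit 3077))
 (.node (nat_lit 0x1064b59) (.leaf (nat_lit 0x1064b57) (nat_lit 3077))
 (.leaf (nat_lit 0x1064b59) (nat_lit 2565))
))) (.node (nat_lit 0x1064b5f) (.node (nat_lit 0x1064b5d) (.leaf (nat_lit 0x1064b5b) (nat_lit 2309))
 (.leaf (nat_lit 0x1064b5d) (nat_lit 2821))
) (.node (nat_lit 0x1065041) (.leaf (nat_lit 0x1064b5f) (nat_lit 2565))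
 (.node (nat_lit 0x1065043) (.leaf (nat_lit 0x1065041) (nat_lit 1028))
 (.leaf (nat_lit 0x1065043) (nat_lit 1284))
)))) (.node (nat_lit 0x106504f) (.node (nat_lit 0x1065049) (.node (nat_lit 0x1065047) (.leaf (nat_lit 0x1065045) (nat_lit 2052))
 (.leaf (nat_lit 0x1065047) (nat_lit 1796))
) (.node (nat_lit 0x106504b) (.leaf (nat_lit 0x1065049) (nat_lit 2307))
 (.node (nat_lit 0x106504d) (.leaf (nat_lit 0x106504b) (nat_lit 2051))
 (.leaf (nat_lit 0x106504d) (nat_lit 2052))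
))) (.node (nat_lit 0x1065055) (.node (nat_lit 0x1065051) (.leaf (nat_lit 0x106504f) (nat_lit 1796))
 (.node (nat_lit 0x1065053) (.leaf (nat_lit 0x1065051) (nat_lit 2564))
 (.leaf (nat_lit 0x1065053) (nat_lit 2820))
)) (.node (nat_lit 0x1065057) (.leaf (nat_lit 0x1065055) (nat_lit 2052))
 (.node (nat_lit 0x1065059) (.leaf (nat_lit 0x1065057) (nat_lit 1796))
 (.leaf (nat_lit 0x1065059) (nat_lit 2306))
))))) (.node (nat_lit 0x10650cf) (.node (nat_lit 0x10650c5) (.node (nat_lit 0x106505f) (.node (nat_lit 0x106505d) (.leaf (nat_lit 0x106505b) (nat_lit 2050))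
 (.leaf (nat_lit 0x106505d) (nat_lit 2564))
) (.node (nat_lit 0x10650c1) (.leaf (nat_lit 0x106505f) (nat_lit 2308))
 (.node (nat_lit 0x10650c3) (.leaf (nat_lit 0x10650c1) (nat_lit 1284))
 (.leaf (nat_lit 0x10650c3) (nat_lit 1540))
))) (.node (nat_lit 0x10650c9) (.node (nat_lit 0x10650c7) (.leaf (nat_lit 0x10650c5) (nat_lit 1796))
 (.leaf (nat_lit 0x10650c7) (nat_lit 1540))
) (.node (nat_lit 0x10650cb) (.leaf (nat_lit 0x10650c9) (nat_lit 2308))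
 (.node (nat_lit 0x10650cd) (.leaf (nat_lit 0x10650cb) (nat_lit 2052))
 (.leaf (nat_lit 0x10650cd) (nat_lit 2308))
)))) (.node (nat_lit 0x10650d9) (.node (nat_lit 0x10650d3) (.node (nat_lit 0x10650d1) (.leaf (nat_lit 0x10650cf) (nat_lit 2307))
 (.leaf (nat_lit 0x10650d1) (nat_lit 2308))
) (.node (nat_lit 0x10650d5) (.leaf (nat_lit 0x10650d3) (nat_lit 2052))
 (.node (nat_lit 0x10650d7) (.leaf (nat_lit 0x10650d5) (nat_lit 2308))
 (.leaf (nat_lit 0x10650d7) (nat_lit 2564))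
))) (.node (nat_lit 0x10650df) (.node (nat_lit 0x10650db) (.leaf (nat_lit 0x10650d9) (nat_lit 2562))
 (.node (nat_lit 0x10650dd) (.leaf (nat_lit 0x10650db) (nat_lit 2564))
 (.leaf (nat_lit 0x10650dd) (nat_lit 2562))
)) (.node (nat_lit 0x1065141) (.leaf (nat_lit 0x10650df) (nat_lit 2306))
 (.node (nat_lit 0x1065143) (.leaf (nat_lit 0x1065141) (nat_lit 1540))
 (.leaf (nat_lit 0x1065143) (nat_lit 1796))
)))))) (.node (nat_lit 0x10651cf) (.node (nat_lit 0x1065159) (.node (nat_lit 0x106514f) (.node (nat_lit 0x1065149) (.node (nat_lit 0x1065147) (.leaf (nat_lit 0x1065145) (nat_lit 2052))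
 (.leaf (nat_lit 0x1065147) (nat_lit 1796))
) (.node (nat_lit 0x106514b) (.leaf (nat_lit 0x1065149) (nat_lit 2052))
 (.node (nat_lit 0x106514d) (.leaf (nat_lit 0x106514b) (nat_lit 1796))
 (.leaf (nat_lit 0x106514d) (nat_lit 2052))
))) (.node (nat_lit 0x1065153) (.node (nat_lit 0x1065151) (.leaf (nat_lit 0x106514f) (nat_lit 2308))
 (.leaf (nat_lit 0x1065151) (nat_lit 2818))
) (.node (nat_lit 0x1065155) (.leaf (nat_lit 0x1065153) (nat_lit 2562))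
 (.node (nat_lit 0x1065157) (.leaf (nat_lit 0x1065155) (nat_lit 2564))
 (.leaf (nat_lit 0x1065157) (nat_lit 2820))
)))) (.node (nat_lit 0x10651c3) (.node (nat_lit 0x106515d) (.node (nat_lit 0x106515b) (.leaf (nat_lit 0x1065159) (nat_lit 2564))
 (.leaf (nat_lit 0x106515b) (nat_lit 2820))
) (.node (nat_lit 0x106515f) (.leaf (nat_lit 0x106515d) (nat_lit 2564))
 (.node (nat_lit 0x10651c1) (.leaf (nat_lit 0x106515f) (nat_lit 2308))
 (.leaf (nat_lit 0x10651c1) (nat_lit 1284))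
))) (.node (nat_lit 0x10651c9) (.node (nat_lit 0x10651c5) (.leaf (nat_lit 0x10651c3) (nat_lit 1540))
 (.node (nat_lit 0x10651c7) (.leaf (nat_lit 0x10651c5) (nat_lit 2308))
 (.leaf (nat_lit 0x10651c7) (nat_lit 2052))
)) (.node (nat_lit 0x10651cb) (.leaf (nat_lit 0x10651c9) (nat_lit 2308))
 (.node (nat_lit 0x10651cd) (.leaf (nat_lit 0x10651cb) (nat_lit 2564))
 (.leaf (nat_lit 0x10651cd) (nat_lit 1796))
))))) (.node (nat_lit 0x1065243) (.node (nat_lit 0x10651d9) (.node (nat_lit 0x10651d3) (.node (nat_lit 0x10651d1) (.leaf (nat_lit 0x10651cf) (nat_lit 1540))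
 (.leaf (nat_lit 0x10651d1) (nat_lit 3074))
) (.node (nat_lit 0x10651d5) (.leaf (nat_lit 0x10651d3) (nat_lit 3076))
 (.node (nat_lit 0x10651d7) (.leaf (nat_lit 0x10651d5) (nat_lit 2308))
 (.leaf (nat_lit 0x10651d7) (nat_lit 2306))
))) (.node (nat_lit 0x10651dd) (.node (nat_lit 0x10651db) (.leaf (nat_lit 0x10651d9) (nat_lit 2308))
 (.leaf (nat_lit 0x10651db) (nat_lit 2052))
) (.node (nat_lit 0x10651df) (.leaf (nat_lit 0x10651dd) (nat_lit 2820))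
 (.node (nat_lit 0x1065241) (.leaf (nat_lit 0x10651df) (nat_lit 2817))
 (.leaf (nat_lit 0x1065241) (nat_lit 1540))
)))) (.node (nat_lit 0x106524d) (.node (nat_lit 0x1065247) (.node (nat_lit 0x1065245) (.leaf (nat_lit 0x1065243) (nat_lit 1796))
 (.leaf (nat_lit 0x1065245) (nat_lit 2052))
) (.node (nat_lit 0x1065249) (.leaf (nat_lit 0x1065247) (nat_lit 1796))
 (.node (nat_lit 0x106524b) (.leaf (nat_lit 0x1065249) (nat_lit 2564))
 (.leaf (nat_lit 0x106524b) (nat_lit 2308))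
))) (.node (nat_lit 0x1065253) (.node (nat_lit 0x106524f) (.leaf (nat_lit 0x106524d) (nat_lit 2564))
 (.node (nat_lit 0x1065251) (.leaf (nat_lit 0x106524f) (nat_lit 2563))
 (.leaf (nat_lit 0x1065251) (nat_lit 2052))
)) (.node (nat_lit 0x1065255) (.leaf (nat_lit 0x1065253) (nat_lit 1796))
 (.node (nat_lit 0x1065257) (.leaf (nat_lit 0x1065255) (nat_lit 2052))
 (.leaf (nat_lit 0x1065257) (nat_lit 2308))
))))))) (.node (nat_lit 0x10653cd) (.node (nat_lit 0x1065343) (.node (nat_lit 0x10652cd) (.node (nat_lit 0x10652c3) (.node (nat_lit 0x106525d) (.node (nat_lit 0x106525b) (.leaf (nat_lit 0x1065259) (nat_lit 2564))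
 (.leaf (nat_lit 0x106525b) (nat_lit 2820))
) (.node (nat_lit 0x106525f) (.leaf (nat_lit 0x106525d) (nat_lit 2817))
 (.node (nat_lit 0x10652c1) (.leaf (nat_lit 0x106525f) (nat_lit 2561))
 (.leaf (nat_lit 0x10652c1) (nat_lit 1284))
))) (.node (nat_lit 0x10652c7) (.node (nat_lit 0x10652c5) (.leaf (nat_lit 0x10652c3) (nat_lit 1540))
 (.leaf (nat_lit 0x10652c5) (nat_lit 2308))
) (.node (nat_lit 0x10652c9) (.leaf (nat_lit 0x10652c7) (nat_lit 2052))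
 (.node (nat_lit 0x10652cb) (.leaf (nat_lit 0x10652c9) (nat_lit 2563))
 (.leaf (nat_lit 0x10652cb) (nat_lit 2307))
)))) (.node (nat_lit 0x10652d7) (.node (nat_lit 0x10652d1) (.node (nat_lit 0x10652cf) (.leaf (nat_lit 0x10652cd) (nat_lit 2308))
 (.leaf (nat_lit 0x10652cf) (nat_lit 2052))
) (.node (nat_lit 0x10652d3) (.leaf (nat_lit 0x10652d1) (nat_lit 2308))
 (.node (nat_lit 0x10652d5) (.leaf (nat_lit 0x10652d3) (nat_lit 2564))
 (.leaf (nat_lit 0x10652d5) (nat_lit 1796))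
))) (.node (nat_lit 0x10652dd) (.node (nat_lit 0x10652d9) (.leaf (nat_lit 0x10652d7) (nat_lit 1540))
 (.node (nat_lit 0x10652db) (.leaf (nat_lit 0x10652d9) (nat_lit 2308))
 (.leaf (nat_lit 0x10652db) (nat_lit 2305))
)) (.node (nat_lit 0x10652df) (.leaf (nat_lit 0x10652dd) (nat_lit 2563))
 (.node (nat_lit 0x1065341) (.leaf (nat_lit 0x10652df) (nat_lit 2564))
 (.leaf (nat_lit 0x1065341) (nat_lit 1540))
))))) (.node (nat_lit 0x1065357) (.node (nat_lit 0x106534d) (.node (nat_lit 0x1065347) (.node (nat_lit 0x1065345) (.leaf (nat_lit 0x1065343) (nat_lit 1796))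
 (.leaf (nat_lit 0x1065345) (nat_lit 2564))
) (.node (nat_lit 0x1065349) (.leaf (nat_lit 0x1065347) (nat_lit 2308))
 (.node (nat_lit 0x106534b) (.leaf (nat_lit 0x1065349) (nat_lit 2564))
 (.leaf (nat_lit 0x106534b) (nat_lit 2820))
))) (.node (nat_lit 0x1065351) (.node (nat_lit 0x106534f) (.leaf (nat_lit 0x106534d) (nat_lit 2052))
 (.leaf (nat_lit 0x106534f) (nat_lit 1796))
) (.node (nat_lit 0x1065353) (.leaf (nat_lit 0x1065351) (nat_lit 3076))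
 (.node (nat_lit 0x1065355) (.leaf (nat_lit 0x1065353) (nat_lit 2820))
 (.leaf (nat_lit 0x1065355) (nat_lit 2052))
)))) (.node (nat_lit 0x10653c1) (.node (nat_lit 0x106535b) (.node (nat_lit 0x1065359) (.leaf (nat_lit 0x1065357) (nat_lit 2308))
 (.leaf (nat_lit 0x1065359) (nat_lit 2052))
) (.node (nat_lit 0x106535d) (.leaf (nat_lit 0x106535b) (nat_lit 1796))
 (.node (nat_lit 0x106535f) (.leaf (nat_lit 0x106535d) (nat_lit 2564))
 (.leaf (nat_lit 0x106535f) (nat_lit 2562))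
))) (.node (nat_lit 0x10653c7) (.node (nat_lit 0x10653c3) (.leaf (nat_lit 0x10653c1) (nat_lit 1796))
 (.node (nat_lit 0x10653c5) (.leaf (nat_lit 0x10653c3) (nat_lit 2052))
 (.leaf (nat_lit 0x10653c5) (nat_lit 2308))
)) (.node (nat_lit 0x10653c9) (.leaf (nat_lit 0x10653c7) (nat_lit 2052))
 (.node (nat_lit 0x10653cb) (.leaf (nat_lit 0x10653c9) (nat_lit 2308))
 (.leaf (nat_lit 0x10653cb) (nat_lit 2052))
)))))) (.node (nat_lit 0x1065857) (.node (nat_lit 0x1065841) (.node (nat_lit 0x10653d7) (.node (nat_lit 0x10653d1) (.node (nat_lit 0x10653cf) (.leaf (nat_lit 0x10653cd) (nat_lit 2308))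
 (.leaf (nat_lit 0x10653cf) (nat_lit 2564))
) (.node (nat_lit 0x10653d3) (.leaf (nat_lit 0x10653d1) (nat_lit 2820))
 (.node (nat_lit 0x10653d5) (.leaf (nat_lit 0x10653d3) (nat_lit 2564))
 (.leaf (nat_lit 0x10653d5) (nat_lit 2308))
))) (.node (nat_lit 0x10653db) (.node (nat_lit 0x10653d9) (.leaf (nat_lit 0x10653d7) (nat_lit 2564))
 (.leaf (nat_lit 0x10653d9) (nat_lit 2308))
) (.node (nat_lit 0x10653dd) (.leaf (nat_lit 0x10653db) (nat_lit 2564))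
 (.node (nat_lit 0x10653df) (.leaf (nat_lit 0x10653dd) (nat_lit 2308))
 (.leaf (nat_lit 0x10653df) (nat_lit 2052))
)))) (.node (nat_lit 0x106584b) (.node (nat_lit 0x1065845) (.node (nat_lit 0x1065843) (.leaf (nat_lit 0x1065841) (nat_lit 1285))
 (.leaf (nat_lit 0x1065843) (nat_lit 1541))
) (.node (nat_lit 0x1065847) (.leaf (nat_lit 0x1065845) (nat_lit 2309))
 (.node (nat_lit 0x1065849) (.leaf (nat_lit 0x1065847) (nat_lit 2053))
 (.leaf (nat_lit 0x1065849) (nat_lit 2307))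
))) (.node (nat_lit 0x1065851) (.node (nat_lit 0x106584d) (.leaf (nat_lit 0x106584b) (nat_lit 2309))
 (.node (nat_lit 0x106584f) (.leaf (nat_lit 0x106584d) (nat_lit 2309))
 (.leaf (nat_lit 0x106584f) (nat_lit 2053))
)) (.node (nat_lit 0x1065853) (.leaf (nat_lit 0x1065851) (nat_lit 2821))
 (.node (nat_lit 0x1065855) (.leaf (nat_lit 0x1065853) (nat_lit 2817))
 (.leaf (nat_lit 0x1065855) (nat_lit 2049))
))))) (.node (nat_lit 0x106588b) (.node (nat_lit 0x1065881) (.node (nat_lit 0x106585b) (.node (nat_lit 0x1065859) (.leaf (nat_lit 0x1065857) (nat_lit 2053))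
 (.leaf (nat_lit 0x1065859) (nat_lit 2306))
) (.node (nat_lit 0x106585d) (.leaf (nat_lit 0x106585b) (nat_lit 2309))
 (.node (nat_lit 0x106585f) (.leaf (nat_lit 0x106585d) (nat_lit 2821))
 (.leaf (nat_lit 0x106585f) (nat_lit 2565))
))) (.node (nat_lit 0x1065885) (.node (nat_lit 0x1065883) (.leaf (nat_lit 0x1065881) (nat_lit 1794))
 (.leaf (nat_lit 0x1065883) (nat_lit 2050))
) (.node (nat_lit 0x1065887) (.leaf (nat_lit 0x1065885) (nat_lit 2050))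
 (.node (nat_lit 0x1065889) (.leaf (nat_lit 0x1065887) (nat_lit 2306))
 (.leaf (nat_lit 0x1065889) (nat_lit 2820))
)))) (.node (nat_lit 0x1065895) (.node (nat_lit 0x106588f) (.node (nat_lit 0x106588d) (.leaf (nat_lit 0x106588b) (nat_lit 2819))
 (.leaf (nat_lit 0x106588d) (nat_lit 2819))
) (.node (nat_lit 0x1065891) (.leaf (nat_lit 0x106588f) (nat_lit 2563))
 (.node (nat_lit 0x1065893) (.leaf (nat_lit 0x1065891) (nat_lit 2817))
 (.leaf (nat_lit 0x1065893) (nat_lit 2561))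
))) (.node (nat_lit 0x106589b) (.node (nat_lit 0x1065897) (.leaf (nat_lit 0x1065895) (nat_lit 3073))
 (.node (nat_lit 0x1065899) (.leaf (nat_lit 0x1065897) (nat_lit 2817))
 (.leaf (nat_lit 0x1065899) (nat_lit 3074))
)) (.node (nat_lit 0x106589d) (.leaf (nat_lit 0x106589b) (nat_lit 2818))
 (.node (nat_lit 0x106589f) (.leaf (nat_lit 0x106589d) (nat_lit 2818))
 (.leaf (nat_lit 0x106589f) (nat_lit 2562))
)))))))))) (.node (nat_lit 0x1066bc1) (.node (nat_lit 0x1066251) (.node (nat_lit 0x1065bc9) (.node (nat_lit 0x1065a55) (.node (nat_lit 0x10659cb) (.node (nat_lit 0x1065915) (.node (nat_lit 0x106590b) (.node (nat_lit 0x1065905) (.node (nat_lit 0x1065903) (.leaf (nat_lit 0x1065901) (nat_lit 1795))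
 (.leaf (nat_lit 0x1065903) (nat_lit 2051))
) (.node (nat_lit 0x1065907) (.leaf (nat_lit 0x1065905) (nat_lit 2561))
 (.node (nat_lit 0x1065909) (.leaf (nat_lit 0x1065907) (nat_lit 2563))
 (.leaf (nat_lit 0x1065909) (nat_lit 2051))
))) (.node (nat_lit 0x106590f) (.node (nat_lit 0x106590d) (.leaf (nat_lit 0x106590b) (nat_lit 2307))
 (.leaf (nat_lit 0x106590d) (nat_lit 2816))
) (.node (nat_lit 0x1065911) (.leaf (nat_lit 0x106590f) (nat_lit 2819))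
 (.node (nat_lit 0x1065913) (.leaf (nat_lit 0x1065911) (nat_lit 3330))
 (.leaf (nat_lit 0x1065913) (nat_lit 3074))
)))) (.node (nat_lit 0x106591f) (.node (nat_lit 0x1065919) (.node (nat_lit 0x1065917) (.leaf (nat_lit 0x1065915) (nat_lit 3072))
 (.leaf (nat_lit 0x1065917) (nat_lit 2816))
) (.node (nat_lit 0x106591b) (.leaf (nat_lit 0x1065919) (nat_lit 3073))
 (.node (nat_lit 0x106591d) (.leaf (nat_lit 0x106591b) (nat_lit 2817))
 (.leaf (nat_lit 0x106591d) (nat_lit 2817))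
))) (.node (nat_lit 0x10659c5) (.node (nat_lit 0x10659c1) (.leaf (nat_lit 0x106591f) (nat_lit 2561))
 (.node (nat_lit 0x10659c3) (.leaf (nat_lit 0x10659c1) (nat_lit 1797))
 (.leaf (nat_lit 0x10659c3) (nat_lit 2053))
)) (.node (nat_lit 0x10659c7) (.leaf (nat_lit 0x10659c5) (nat_lit 2307))
 (.node (nat_lit 0x10659c9) (.leaf (nat_lit 0x10659c7) (nat_lit 2563))
 (.leaf (nat_lit 0x10659c9) (nat_lit 2821))
))))) (.node (nat_lit 0x10659df) (.node (nat_lit 0x10659d5) (.node (nat_lit 0x10659cf) (.node (nat_lit 0x10659cd) (.leaf (nat_lit 0x10659cb) (nat_lit 2565))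
 (.leaf (nat_lit 0x10659cd) (nat_lit 2309))
) (.node (nat_lit 0x10659d1) (.leaf (nat_lit 0x10659cf) (nat_lit 2053))
 (.node (nat_lit 0x10659d3) (.leaf (nat_lit 0x10659d1) (nat_lit 3077))
 (.leaf (nat_lit 0x10659d3) (nat_lit 3333))
))) (.node (nat_lit 0x10659d9) (.node (nat_lit 0x10659d7) (.leaf (nat_lit 0x10659d5) (nat_lit 2565))
 (.leaf (nat_lit 0x10659d7) (nat_lit 2309))
) (.node (nat_lit 0x10659db) (.leaf (nat_lit 0x10659d9) (nat_lit 2305))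
 (.node (nat_lit 0x10659dd) (.leaf (nat_lit 0x10659db) (nat_lit 2561))
 (.leaf (nat_lit 0x10659dd) (nat_lit 3073))
)))) (.node (nat_lit 0x1065a49) (.node (nat_lit 0x1065a43) (.node (nat_lit 0x1065a41) (.leaf (nat_lit 0x10659df) (nat_lit 3073))
 (.leaf (nat_lit 0x1065a41) (nat_lit 2049))
) (.node (nat_lit 0x1065a45) (.leaf (nat_lit 0x1065a43) (nat_lit 2305))
 (.node (nat_lit 0x1065a47) (.leaf (nat_lit 0x1065a45) (nat_lit 2305))
 (.leaf (nat_lit 0x1065a47) (nat_lit 2561))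
))) (.node (nat_lit 0x1065a4f) (.node (nat_lit 0x1065a4b) (.leaf (nat_lit 0x1065a49) (nat_lit 2818))
 (.node (nat_lit 0x1065a4d) (.leaf (nat_lit 0x1065a4b) (nat_lit 2821))
 (.leaf (nat_lit 0x1065a4d) (nat_lit 3077))
)) (.node (nat_lit 0x1065a51) (.leaf (nat_lit 0x1065a4f) (nat_lit 2821))
 (.node (nat_lit 0x1065a53) (.leaf (nat_lit 0x1065a51) (nat_lit 2560))
 (.leaf (nat_lit 0x1065a53) (nat_lit 2304))
)))))) (.node (nat_lit 0x1065a9f) (.node (nat_lit 0x1065a89) (.node (nat_lit 0x1065a5f) (.node (nat_lit 0x1065a59) (.node (nat_lit 0x1065a57) (.leaf (nat_lit 0x1065a55) (nat_lit 2816))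
 (.leaf (nat_lit 0x1065a57) (nat_lit 2560))
) (.node (nat_lit 0x1065a5b) (.leaf (nat_lit 0x1065a59) (nat_lit 3077))
 (.node (nat_lit 0x1065a5d) (.leaf (nat_lit 0x1065a5b) (nat_lit 2821))
 (.leaf (nat_lit 0x1065a5d) (nat_lit 3077))
))) (.node (nat_lit 0x1065a83) (.node (nat_lit 0x1065a81) (.leaf (nat_lit 0x1065a5f) (nat_lit 2821))
 (.leaf (nat_lit 0x1065a81) (nat_lit 1537))
) (.node (nat_lit 0x1065a85) (.leaf (nat_lit 0x1065a83) (nat_lit 1793))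
 (.node (nat_lit 0x1065a87) (.leaf (nat_lit 0x1065a85) (nat_lit 2561))
 (.leaf (nat_lit 0x1065a87) (nat_lit 2305))
)))) (.node (nat_lit 0x1065a93) (.node (nat_lit 0x1065a8d) (.node (nat_lit 0x1065a8b) (.leaf (nat_lit 0x1065a89) (nat_lit 2563))
 (.leaf (nat_lit 0x1065a8b) (nat_lit 2561))
) (.node (nat_lit 0x1065a8f) (.leaf (nat_lit 0x1065a8d) (nat_lit 2561))
 (.node (nat_lit 0x1065a91) (.leaf (nat_lit 0x1065a8f) (nat_lit 2305))
 (.leaf (nat_lit 0x1065a91) (nat_lit 2816))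
))) (.node (nat_lit 0x1065a99) (.node (nat_lit 0x1065a95) (.leaf (nat_lit 0x1065a93) (nat_lit 2560))
 (.node (nat_lit 0x1065a97) (.leaf (nat_lit 0x1065a95) (nat_lit 1792))
 (.leaf (nat_lit 0x1065a97) (nat_lit 2048))
)) (.node (nat_lit 0x1065a9b) (.leaf (nat_lit 0x1065a99) (nat_lit 2561))
 (.node (nat_lit 0x1065a9d) (.leaf (nat_lit 0x1065a9b) (nat_lit 2560))
 (.leaf (nat_lit 0x1065a9d) (nat_lit 2819))
))))) (.node (nat_lit 0x1065b13) (.node (nat_lit 0x1065b09) (.node (nat_lit 0x1065b03) (.node (nat_lit 0x1065b01) (.leaf (nat_lit 0x1065a9f) (nat_lit 2817))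
 (.leaf (nat_lit 0x1065b01) (nat_lit 1794))
) (.node (nat_lit 0x1065b05) (.leaf (nat_lit 0x1065b03) (nat_lit 2050))
 (.node (nat_lit 0x1065b07) (.leaf (nat_lit 0x1065b05) (nat_lit 2562))
 (.leaf (nat_lit 0x1065b07) (nat_lit 2562))
))) (.node (nat_lit 0x1065b0d) (.node (nat_lit 0x1065b0b) (.leaf (nat_lit 0x1065b09) (nat_lit 3073))
 (.leaf (nat_lit 0x1065b0b) (nat_lit 2817))
) (.node (nat_lit 0x1065b0f) (.leaf (nat_lit 0x1065b0d) (nat_lit 2561))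
 (.node (nat_lit 0x1065b11) (.leaf (nat_lit 0x1065b0f) (nat_lit 2305))
 (.leaf (nat_lit 0x1065b11) (nat_lit 3328))
)))) (.node (nat_lit 0x1065b1d) (.node (nat_lit 0x1065b17) (.node (nat_lit 0x1065b15) (.leaf (nat_lit 0x1065b13) (nat_lit 3072))
 (.leaf (nat_lit 0x1065b15) (nat_lit 2816))
) (.node (nat_lit 0x1065b19) (.leaf (nat_lit 0x1065b17) (nat_lit 2560))
 (.node (nat_lit 0x1065b1b) (.leaf (nat_lit 0x1065b19) (nat_lit 2050))
 (.leaf (nat_lit 0x1065b1b) (nat_lit 2306))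
))) (.node (nat_lit 0x1065bc3) (.node (nat_lit 0x1065b1f) (.leaf (nat_lit 0x1065b1d) (nat_lit 2818))
 (.node (nat_lit 0x1065bc1) (.leaf (nat_lit 0x1065b1f) (nat_lit 2818))
 (.leaf (nat_lit 0x1065bc1) (nat_lit 2053))
)) (.node (nat_lit 0x1065bc5) (.leaf (nat_lit 0x1065bc3) (nat_lit 2309))
 (.node (nat_lit 0x1065bc7) (.leaf (nat_lit 0x1065bc5) (nat_lit 2306))
 (.leaf (nat_lit 0x1065bc7) (nat_lit 2562))
))))))) (.node (nat_lit 0x10660dd) (.node (nat_lit 0x1066053) (.node (nat_lit 0x1065bdd) (.node (nat_lit 0x1065bd3) (.node (nat_lit 0x1065bcd) (.node (nat_lit 0x1065bcb) (.leaf (nat_lit 0x1065bc9) (nat_lit 2307))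
 (.leaf (nat_lit 0x1065bcb) (nat_lit 2563))
) (.node (nat_lit 0x1065bcf) (.leaf (nat_lit 0x1065bcd) (nat_lit 3073))
 (.node (nat_lit 0x1065bd1) (.leaf (nat_lit 0x1065bcf) (nat_lit 3075))
 (.leaf (nat_lit 0x1065bd1) (nat_lit 3333))
))) (.node (nat_lit 0x1065bd7) (.node (nat_lit 0x1065bd5) (.leaf (nat_lit 0x1065bd3) (nat_lit 3333))
 (.leaf (nat_lit 0x1065bd5) (nat_lit 2821))
) (.node (nat_lit 0x1065bd9) (.leaf (nat_lit 0x1065bd7) (nat_lit 2565))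
 (.node (nat_lit 0x1065bdb) (.leaf (nat_lit 0x1065bd9) (nat_lit 2821))
 (.leaf (nat_lit 0x1065bdb) (nat_lit 2565))
)))) (.node (nat_lit 0x1066047) (.node (nat_lit 0x1066041) (.node (nat_lit 0x1065bdf) (.leaf (nat_lit 0x1065bdd) (nat_lit 2565))
 (.leaf (nat_lit 0x1065bdf) (nat_lit 2309))
) (.node (nat_lit 0x1066043) (.leaf (nat_lit 0x1066041) (nat_lit 1027))
 (.node (nat_lit 0x1066045) (.leaf (nat_lit 0x1066043) (nat_lit 1283))
 (.leaf (nat_lit 0x1066045) (nat_lit 2051))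
))) (.node (nat_lit 0x106604d) (.node (nat_lit 0x1066049) (.leaf (nat_lit 0x1066047) (nat_lit 1795))
 (.node (nat_lit 0x106604b) (.leaf (nat_lit 0x1066049) (nat_lit 2563))
 (.leaf (nat_lit 0x106604b) (nat_lit 2307))
)) (.node (nat_lit 0x106604f) (.leaf (nat_lit 0x106604d) (nat_lit 2306))
 (.node (nat_lit 0x1066051) (.leaf (nat_lit 0x106604f) (nat_lit 2050))
 (.leaf (nat_lit 0x1066051) (nat_lit 2818))
))))) (.node (nat_lit 0x10660c7) (.node (nat_lit 0x106605d) (.node (nat_lit 0x1066057) (.node (nat_lit 0x1066055) (.leaf (nat_lit 0x1066053) (nat_lit 3074))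
 (.leaf (nat_lit 0x1066055) (nat_lit 2306))
) (.node (nat_lit 0x1066059) (.leaf (nat_lit 0x1066057) (nat_lit 2050))
 (.node (nat_lit 0x106605b) (.leaf (nat_lit 0x1066059) (nat_lit 2051))
 (.leaf (nat_lit 0x106605b) (nat_lit 1795))
))) (.node (nat_lit 0x10660c1) (.node (nat_lit 0x106605f) (.leaf (nat_lit 0x106605d) (nat_lit 2563))
 (.leaf (nat_lit 0x106605f) (nat_lit 2307))
) (.node (nat_lit 0x10660c3) (.leaf (nat_lit 0x10660c1) (nat_lit 1283))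
 (.node (nat_lit 0x10660c5) (.leaf (nat_lit 0x10660c3) (nat_lit 1539))
 (.leaf (nat_lit 0x10660c5) (nat_lit 1795))
)))) (.node (nat_lit 0x10660d1) (.node (nat_lit 0x10660cb) (.node (nat_lit 0x10660c9) (.leaf (nat_lit 0x10660c7) (nat_lit 1539))
 (.leaf (nat_lit 0x10660c9) (nat_lit 2562))
) (.node (nat_lit 0x10660cd) (.leaf (nat_lit 0x10660cb) (nat_lit 2306))
 (.node (nat_lit 0x10660cf) (.leaf (nat_lit 0x10660cd) (nat_lit 2562))
 (.leaf (nat_lit 0x10660cf) (nat_lit 2563))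
))) (.node (nat_lit 0x10660d7) (.node (nat_lit 0x10660d3) (.leaf (nat_lit 0x10660d1) (nat_lit 2562))
 (.node (nat_lit 0x10660d5) (.leaf (nat_lit 0x10660d3) (nat_lit 2306))
 (.leaf (nat_lit 0x10660d5) (nat_lit 2562))
)) (.node (nat_lit 0x10660d9) (.leaf (nat_lit 0x10660d7) (nat_lit 2818))
 (.node (nat_lit 0x10660db) (.leaf (nat_lit 0x10660d9) (nat_lit 2307))
 (.leaf (nat_lit 0x10660db) (nat_lit 2563))
)))))) (.node (nat_lit 0x10661c7) (.node (nat_lit 0x1066151) (.node (nat_lit 0x1066147) (.node (nat_lit 0x1066141) (.node (nat_lit 0x10660df) (.leaf (nat_lit 0x10660dd) (nat_lit 2307))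
 (.leaf (nat_lit 0x10660df) (nat_lit 2051))
) (.node (nat_lit 0x1066143) (.leaf (nat_lit 0x1066141) (nat_lit 1794))
 (.node (nat_lit 0x1066145) (.leaf (nat_lit 0x1066143) (nat_lit 2050))
 (.leaf (nat_lit 0x1066145) (nat_lit 2306))
))) (.node (nat_lit 0x106614b) (.node (nat_lit 0x1066149) (.leaf (nat_lit 0x1066147) (nat_lit 2050))
 (.leaf (nat_lit 0x1066149) (nat_lit 2306))
) (.node (nat_lit 0x106614d) (.leaf (nat_lit 0x106614b) (nat_lit 2050))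
 (.node (nat_lit 0x106614f) (.leaf (nat_lit 0x106614d) (nat_lit 2306))
 (.leaf (nat_lit 0x106614f) (nat_lit 2307))
)))) (.node (nat_lit 0x106615b) (.node (nat_lit 0x1066155) (.node (nat_lit 0x1066153) (.leaf (nat_lit 0x1066151) (nat_lit 2561))
 (.leaf (nat_lit 0x1066153) (nat_lit 2305))
) (.node (nat_lit 0x1066157) (.leaf (nat_lit 0x1066155) (nat_lit 2561))
 (.node (nat_lit 0x1066159) (.leaf (nat_lit 0x1066157) (nat_lit 2817))
 (.leaf (nat_lit 0x1066159) (nat_lit 2560))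
))) (.node (nat_lit 0x10661c1) (.node (nat_lit 0x106615d) (.leaf (nat_lit 0x106615b) (nat_lit 2816))
 (.node (nat_lit 0x106615f) (.leaf (nat_lit 0x106615d) (nat_lit 2818))
 (.leaf (nat_lit 0x106615f) (nat_lit 2562))
)) (.node (nat_lit 0x10661c3) (.leaf (nat_lit 0x10661c1) (nat_lit 1538))
 (.node (nat_lit 0x10661c5) (.leaf (nat_lit 0x10661c3) (nat_lit 1794))
 (.leaf (nat_lit 0x10661c5) (nat_lit 2562))
))))) (.node (nat_lit 0x10661db) (.node (nat_lit 0x10661d1) (.node (nat_lit 0x10661cb) (.node (nat_lit 0x10661c9) (.leaf (nat_lit 0x10661c7) (nat_lit 2306))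
 (.leaf (nat_lit 0x10661c9) (nat_lit 2563))
) (.node (nat_lit 0x10661cd) (.leaf (nat_lit 0x10661cb) (nat_lit 2307))
 (.node (nat_lit 0x10661cf) (.leaf (nat_lit 0x10661cd) (nat_lit 2050))
 (.leaf (nat_lit 0x10661cf) (nat_lit 1794))
))) (.node (nat_lit 0x10661d5) (.node (nat_lit 0x10661d3) (.leaf (nat_lit 0x10661d1) (nat_lit 2817))
 (.leaf (nat_lit 0x10661d3) (nat_lit 3073))
) (.node (nat_lit 0x10661d7) (.leaf (nat_lit 0x10661d5) (nat_lit 2305))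
 (.node (nat_lit 0x10661d9) (.leaf (nat_lit 0x10661d7) (nat_lit 2049))
 (.leaf (nat_lit 0x10661d9) (nat_lit 2304))
)))) (.node (nat_lit 0x1066245) (.node (nat_lit 0x10661df) (.node (nat_lit 0x10661dd) (.leaf (nat_lit 0x10661db) (nat_lit 2306))
 (.leaf (nat_lit 0x10661dd) (nat_lit 3074))
) (.node (nat_lit 0x1066241) (.leaf (nat_lit 0x10661df) (nat_lit 3072))
 (.node (nat_lit 0x1066243) (.leaf (nat_lit 0x1066241) (nat_lit 1794))
 (.leaf (nat_lit 0x1066243) (nat_lit 2050))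
))) (.node (nat_lit 0x106624b) (.node (nat_lit 0x1066247) (.leaf (nat_lit 0x1066245) (nat_lit 2306))
 (.node (nat_lit 0x1066249) (.leaf (nat_lit 0x1066247) (nat_lit 2050))
 (.leaf (nat_lit 0x1066249) (nat_lit 2561))
)) (.node (nat_lit 0x106624d) (.leaf (nat_lit 0x106624b) (nat_lit 2305))
 (.node (nat_lit 0x106624f) (.leaf (nat_lit 0x106624d) (nat_lit 2561))
 (.leaf (nat_lit 0x106624f) (nat_lit 2563))
)))))))) (.node (nat_lit 0x1066899) (.node (nat_lit 0x10663c5) (.node (nat_lit 0x10662db) (.node (nat_lit 0x10662c5) (.node (nat_lit 0x106625b) (.node (nat_lit 0x1066255) (.node (nat_lit 0x1066253) (.leaf (nat_lit 0x1066251) (nat_lit 2306))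
 (.leaf (nat_lit 0x1066253) (nat_lit 2050))
) (.node (nat_lit 0x1066257) (.leaf (nat_lit 0x1066255) (nat_lit 2306))
 (.node (nat_lit 0x1066259) (.leaf (nat_lit 0x1066257) (nat_lit 2562))
 (.leaf (nat_lit 0x1066259) (nat_lit 2560))
))) (.node (nat_lit 0x106625f) (.node (nat_lit 0x106625d) (.leaf (nat_lit 0x106625b) (nat_lit 2816))
 (.leaf (nat_lit 0x106625d) (nat_lit 2819))
) (.node (nat_lit 0x10662c1) (.leaf (nat_lit 0x106625f) (nat_lit 2816))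
 (.node (nat_lit 0x10662c3) (.leaf (nat_lit 0x10662c1) (nat_lit 1538))
 (.leaf (nat_lit 0x10662c3) (nat_lit 1794))
)))) (.node (nat_lit 0x10662cf) (.node (nat_lit 0x10662c9) (.node (nat_lit 0x10662c7) (.leaf (nat_lit 0x10662c5) (nat_lit 2562))
 (.leaf (nat_lit 0x10662c7) (nat_lit 2306))
) (.node (nat_lit 0x10662cb) (.leaf (nat_lit 0x10662c9) (nat_lit 2818))
 (.node (nat_lit 0x10662cd) (.leaf (nat_lit 0x10662cb) (nat_lit 2562))
 (.leaf (nat_lit 0x10662cd) (nat_lit 2305))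
))) (.node (nat_lit 0x10662d5) (.node (nat_lit 0x10662d1) (.leaf (nat_lit 0x10662cf) (nat_lit 2049))
 (.node (nat_lit 0x10662d3) (.leaf (nat_lit 0x10662d1) (nat_lit 2562))
 (.leaf (nat_lit 0x10662d3) (nat_lit 2818))
)) (.node (nat_lit 0x10662d7) (.leaf (nat_lit 0x10662d5) (nat_lit 2050))
 (.node (nat_lit 0x10662d9) (.leaf (nat_lit 0x10662d7) (nat_lit 1794))
 (.leaf (nat_lit 0x10662d9) (nat_lit 2304))
))))) (.node (nat_lit 0x106634f) (.node (nat_lit 0x1066345) (.node (nat_lit 0x10662df) (.node (nat_lit 0x10662dd) (.leaf (nat_lit 0x10662db) (nat_lit 2560))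
 (.leaf (nat_lit 0x10662dd) (nat_lit 2818))
) (.node (nat_lit 0x1066341) (.leaf (nat_lit 0x10662df) (nat_lit 2818))
 (.node (nat_lit 0x1066343) (.leaf (nat_lit 0x1066341) (nat_lit 1283))
 (.leaf (nat_lit 0x1066343) (nat_lit 1539))
))) (.node (nat_lit 0x1066349) (.node (nat_lit 0x1066347) (.leaf (nat_lit 0x1066345) (nat_lit 2307))
 (.leaf (nat_lit 0x1066347) (nat_lit 2051))
) (.node (nat_lit 0x106634b) (.leaf (nat_lit 0x1066349) (nat_lit 2819))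
 (.node (nat_lit 0x106634d) (.leaf (nat_lit 0x106634b) (nat_lit 2563))
 (.leaf (nat_lit 0x106634d) (nat_lit 2306))
)))) (.node (nat_lit 0x1066359) (.node (nat_lit 0x1066353) (.node (nat_lit 0x1066351) (.leaf (nat_lit 0x106634f) (nat_lit 2050))
 (.leaf (nat_lit 0x1066351) (nat_lit 2819))
) (.node (nat_lit 0x1066355) (.leaf (nat_lit 0x1066353) (nat_lit 3075))
 (.node (nat_lit 0x1066357) (.leaf (nat_lit 0x1066355) (nat_lit 2306))
 (.leaf (nat_lit 0x1066357) (nat_lit 2305))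
))) (.node (nat_lit 0x106635f) (.node (nat_lit 0x106635b) (.leaf (nat_lit 0x1066359) (nat_lit 1795))
 (.node (nat_lit 0x106635d) (.leaf (nat_lit 0x106635b) (nat_lit 1539))
 (.leaf (nat_lit 0x106635d) (nat_lit 2307))
)) (.node (nat_lit 0x10663c1) (.leaf (nat_lit 0x106635f) (nat_lit 2307))
 (.node (nat_lit 0x10663c3) (.leaf (nat_lit 0x10663c1) (nat_lit 1539))
 (.leaf (nat_lit 0x10663c3) (nat_lit 1795))
)))))) (.node (nat_lit 0x106684f) (.node (nat_lit 0x10663d9) (.node (nat_lit 0x10663cf) (.node (nat_lit 0x10663c9) (.node (nat_lit 0x10663c7) (.leaf (nat_lit 0x10663c5) (nat_lit 2051))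
 (.leaf (nat_lit 0x10663c7) (nat_lit 1795))
) (.node (nat_lit 0x10663cb) (.leaf (nat_lit 0x10663c9) (nat_lit 2562))
 (.node (nat_lit 0x10663cd) (.leaf (nat_lit 0x10663cb) (nat_lit 2306))
 (.leaf (nat_lit 0x10663cd) (nat_lit 2562))
))) (.node (nat_lit 0x10663d3) (.node (nat_lit 0x10663d1) (.leaf (nat_lit 0x10663cf) (nat_lit 2818))
 (.leaf (nat_lit 0x10663d1) (nat_lit 2817))
) (.node (nat_lit 0x10663d5) (.leaf (nat_lit 0x10663d3) (nat_lit 2561))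
 (.node (nat_lit 0x10663d7) (.leaf (nat_lit 0x10663d5) (nat_lit 2562))
 (.leaf (nat_lit 0x10663d7) (nat_lit 2818))
)))) (.node (nat_lit 0x1066843) (.node (nat_lit 0x10663dd) (.node (nat_lit 0x10663db) (.leaf (nat_lit 0x10663d9) (nat_lit 2051))
 (.leaf (nat_lit 0x10663db) (nat_lit 2307))
) (.node (nat_lit 0x10663df) (.leaf (nat_lit 0x10663dd) (nat_lit 2051))
 (.node (nat_lit 0x1066841) (.leaf (nat_lit 0x10663df) (nat_lit 1795))
 (.leaf (nat_lit 0x1066841) (nat_lit 1285))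
))) (.node (nat_lit 0x1066849) (.node (nat_lit 0x1066845) (.leaf (nat_lit 0x1066843) (nat_lit 1541))
 (.node (nat_lit 0x1066847) (.leaf (nat_lit 0x1066845) (nat_lit 2051))
 (.leaf (nat_lit 0x1066847) (nat_lit 2053))
)) (.node (nat_lit 0x106684b) (.leaf (nat_lit 0x1066849) (nat_lit 2562))
 (.node (nat_lit 0x106684d) (.leaf (nat_lit 0x106684b) (nat_lit 2565))
 (.leaf (nat_lit 0x106684d) (nat_lit 2565))
))))) (.node (nat_lit 0x1066883) (.node (nat_lit 0x1066859) (.node (nat_lit 0x1066853) (.node (nat_lit 0x1066851) (.leaf (nat_lit 0x106684f) (nat_lit 2309))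
 (.leaf (nat_lit 0x1066851) (nat_lit 3077))
) (.node (nat_lit 0x1066855) (.leaf (nat_lit 0x1066853) (nat_lit 3074))
 (.node (nat_lit 0x1066857) (.leaf (nat_lit 0x1066855) (nat_lit 2306))
 (.leaf (nat_lit 0x1066857) (nat_lit 2309))
))) (.node (nat_lit 0x106685d) (.node (nat_lit 0x106685b) (.leaf (nat_lit 0x1066859) (nat_lit 2049))
 (.leaf (nat_lit 0x106685b) (nat_lit 2053))
) (.node (nat_lit 0x106685f) (.leaf (nat_lit 0x106685d) (nat_lit 2821))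
 (.node (nat_lit 0x1066881) (.leaf (nat_lit 0x106685f) (nat_lit 2565))
 (.leaf (nat_lit 0x1066881) (nat_lit 1539))
)))) (.node (nat_lit 0x106688d) (.node (nat_lit 0x1066887) (.node (nat_lit 0x1066885) (.leaf (nat_lit 0x1066883) (nat_lit 1795))
 (.leaf (nat_lit 0x1066885) (nat_lit 1795))
) (.node (nat_lit 0x1066889) (.leaf (nat_lit 0x1066887) (nat_lit 2051))
 (.node (nat_lit 0x106688b) (.leaf (nat_lit 0x1066889) (nat_lit 2817))
 (.leaf (nat_lit 0x106688b) (nat_lit 2819))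
))) (.node (nat_lit 0x1066893) (.node (nat_lit 0x106688f) (.leaf (nat_lit 0x106688d) (nat_lit 2820))
 (.node (nat_lit 0x1066891) (.leaf (nat_lit 0x106688f) (nat_lit 2819))
 (.leaf (nat_lit 0x1066891) (nat_lit 3074))
)) (.node (nat_lit 0x1066895) (.leaf (nat_lit 0x1066893) (nat_lit 2818))
 (.node (nat_lit 0x1066897) (.leaf (nat_lit 0x1066895) (nat_lit 3330))
 (.leaf (nat_lit 0x1066897) (nat_lit 3074))
))))))) (.node (nat_lit 0x1066a4d) (.node (nat_lit 0x10669c3) (.node (nat_lit 0x106690d) (.node (nat_lit 0x1066903) (.node (nat_lit 0x106689d) (.node (nat_lit 0x106689b) (.leaf (nat_lit 0x1066899) (nat_lit 2816))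
 (.leaf (nat_lit 0x106689b) (nat_lit 2560))
) (.node (nat_lit 0x106689f) (.leaf (nat_lit 0x106689d) (nat_lit 2561))
 (.node (nat_lit 0x1066901) (.leaf (nat_lit 0x106689f) (nat_lit 2305))
 (.leaf (nat_lit 0x1066901) (nat_lit 2050))
))) (.node (nat_lit 0x1066907) (.node (nat_lit 0x1066905) (.leaf (nat_lit 0x1066903) (nat_lit 2306))
 (.leaf (nat_lit 0x1066905) (nat_lit 2819))
) (.node (nat_lit 0x1066909) (.leaf (nat_lit 0x1066907) (nat_lit 2563))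
 (.node (nat_lit 0x106690b) (.leaf (nat_lit 0x1066909) (nat_lit 2306))
 (.leaf (nat_lit 0x106690b) (nat_lit 2562))
)))) (.node (nat_lit 0x1066917) (.node (nat_lit 0x1066911) (.node (nat_lit 0x106690f) (.leaf (nat_lit 0x106690d) (nat_lit 2819))
 (.leaf (nat_lit 0x106690f) (nat_lit 2563))
) (.node (nat_lit 0x1066913) (.leaf (nat_lit 0x1066911) (nat_lit 3073))
 (.node (nat_lit 0x1066915) (.leaf (nat_lit 0x1066913) (nat_lit 2817))
 (.leaf (nat_lit 0x1066915) (nat_lit 3073))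
))) (.node (nat_lit 0x106691d) (.node (nat_lit 0x1066919) (.leaf (nat_lit 0x1066917) (nat_lit 3074))
 (.node (nat_lit 0x106691b) (.leaf (nat_lit 0x1066919) (nat_lit 3073))
 (.leaf (nat_lit 0x106691b) (nat_lit 2817))
)) (.node (nat_lit 0x106691f) (.leaf (nat_lit 0x106691d) (nat_lit 3074))
 (.node (nat_lit 0x10669c1) (.leaf (nat_lit 0x106691f) (nat_lit 2818))
 (.leaf (nat_lit 0x10669c1) (nat_lit 1541))
))))) (.node (nat_lit 0x10669d7) (.node (nat_lit 0x10669cd) (.node (nat_lit 0x10669c7) (.node (nat_lit 0x10669c5) (.leaf (nat_lit 0x10669c3) (nat_lit 1797))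
 (.leaf (nat_lit 0x10669c5) (nat_lit 2565))
) (.node (nat_lit 0x10669c9) (.leaf (nat_lit 0x10669c7) (nat_lit 2309))
 (.node (nat_lit 0x10669cb) (.leaf (nat_lit 0x10669c9) (nat_lit 2565))
 (.leaf (nat_lit 0x10669cb) (nat_lit 2821))
))) (.node (nat_lit 0x10669d1) (.node (nat_lit 0x10669cf) (.leaf (nat_lit 0x10669cd) (nat_lit 2053))
 (.leaf (nat_lit 0x10669cf) (nat_lit 1797))
) (.node (nat_lit 0x10669d3) (.leaf (nat_lit 0x10669d1) (nat_lit 3329))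
 (.node (nat_lit 0x10669d5) (.leaf (nat_lit 0x10669d3) (nat_lit 3073))
 (.leaf (nat_lit 0x10669d5) (nat_lit 2305))
)))) (.node (nat_lit 0x1066a41) (.node (nat_lit 0x10669db) (.node (nat_lit 0x10669d9) (.leaf (nat_lit 0x10669d7) (nat_lit 2561))
 (.leaf (nat_lit 0x10669d9) (nat_lit 2565))
) (.node (nat_lit 0x10669dd) (.leaf (nat_lit 0x10669db) (nat_lit 2309))
 (.node (nat_lit 0x10669df) (.leaf (nat_lit 0x10669dd) (nat_lit 3077))
 (.leaf (nat_lit 0x10669df) (nat_lit 3077))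
))) (.node (nat_lit 0x1066a47) (.node (nat_lit 0x1066a43) (.leaf (nat_lit 0x1066a41) (nat_lit 2309))
 (.node (nat_lit 0x1066a45) (.leaf (nat_lit 0x1066a43) (nat_lit 2565))
 (.leaf (nat_lit 0x1066a45) (nat_lit 2562))
)) (.node (nat_lit 0x1066a49) (.leaf (nat_lit 0x1066a47) (nat_lit 2565))
 (.node (nat_lit 0x1066a4b) (.leaf (nat_lit 0x1066a49) (nat_lit 2561))
 (.leaf (nat_lit 0x1066a4b) (nat_lit 2817))
)))))) (.node (nat_lit 0x1066a97) (.node (nat_lit 0x1066a81) (.node (nat_lit 0x1066a57) (.node (nat_lit 0x1066a51) (.node (nat_lit 0x1066a4f) (.leaf (nat_lit 0x1066a4d) (nat_lit 3075))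
 (.leaf (nat_lit 0x1066a4f) (nat_lit 2819))
) (.node (nat_lit 0x1066a53) (.leaf (nat_lit 0x1066a51) (nat_lit 2821))
 (.node (nat_lit 0x1066a55) (.leaf (nat_lit 0x1066a53) (nat_lit 2565))
 (.leaf (nat_lit 0x1066a55) (nat_lit 2821))
))) (.node (nat_lit 0x1066a5b) (.node (nat_lit 0x1066a59) (.leaf (nat_lit 0x1066a57) (nat_lit 2818))
 (.leaf (nat_lit 0x1066a59) (nat_lit 2821))
) (.node (nat_lit 0x1066a5d) (.leaf (nat_lit 0x1066a5b) (nat_lit 2565))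
 (.node (nat_lit 0x1066a5f) (.leaf (nat_lit 0x1066a5d) (nat_lit 3077))
 (.leaf (nat_lit 0x1066a5f) (nat_lit 2821))
)))) (.node (nat_lit 0x1066a8b) (.node (nat_lit 0x1066a85) (.node (nat_lit 0x1066a83) (.leaf (nat_lit 0x1066a81) (nat_lit 1793))
 (.leaf (nat_lit 0x1066a83) (nat_lit 2049))
) (.node (nat_lit 0x1066a87) (.leaf (nat_lit 0x1066a85) (nat_lit 2817))
 (.node (nat_lit 0x1066a89) (.leaf (nat_lit 0x1066a87) (nat_lit 2561))
 (.leaf (nat_lit 0x1066a89) (nat_lit 2817))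
))) (.node (nat_lit 0x1066a91) (.node (nat_lit 0x1066a8d) (.leaf (nat_lit 0x1066a8b) (nat_lit 2818))
 (.node (nat_lit 0x1066a8f) (.leaf (nat_lit 0x1066a8d) (nat_lit 2305))
 (.leaf (nat_lit 0x1066a8f) (nat_lit 2049))
)) (.node (nat_lit 0x1066a93) (.leaf (nat_lit 0x1066a91) (nat_lit 3072))
 (.node (nat_lit 0x1066a95) (.leaf (nat_lit 0x1066a93) (nat_lit 2816))
 (.leaf (nat_lit 0x1066a95) (nat_lit 2048))
))))) (.node (nat_lit 0x1066b0b) (.node (nat_lit 0x1066b01) (.node (nat_lit 0x1066a9b) (.node (nat_lit 0x1066a99) (.leaf (nat_lit 0x1066a97) (nat_lit 2304))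
 (.leaf (nat_lit 0x1066a99) (nat_lit 2560))
) (.node (nat_lit 0x1066a9d) (.leaf (nat_lit 0x1066a9b) (nat_lit 2304))
 (.node (nat_lit 0x1066a9f) (.leaf (nat_lit 0x1066a9d) (nat_lit 3072))
 (.leaf (nat_lit 0x1066a9f) (nat_lit 3074))
))) (.node (nat_lit 0x1066b05) (.node (nat_lit 0x1066b03) (.leaf (nat_lit 0x1066b01) (nat_lit 1537))
 (.leaf (nat_lit 0x1066b03) (nat_lit 1793))
) (.node (nat_lit 0x1066b07) (.leaf (nat_lit 0x1066b05) (nat_lit 2307))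
 (.node (nat_lit 0x1066b09) (.leaf (nat_lit 0x1066b07) (nat_lit 2305))
 (.leaf (nat_lit 0x1066b09) (nat_lit 2817))
)))) (.node (nat_lit 0x1066b15) (.node (nat_lit 0x1066b0f) (.node (nat_lit 0x1066b0d) (.leaf (nat_lit 0x1066b0b) (nat_lit 2817))
 (.leaf (nat_lit 0x1066b0d) (nat_lit 2817))
) (.node (nat_lit 0x1066b11) (.leaf (nat_lit 0x1066b0f) (nat_lit 2561))
 (.node (nat_lit 0x1066b13) (.leaf (nat_lit 0x1066b11) (nat_lit 3072))
 (.leaf (nat_lit 0x1066b13) (nat_lit 3072))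
))) (.node (nat_lit 0x1066b1b) (.node (nat_lit 0x1066b17) (.leaf (nat_lit 0x1066b15) (nat_lit 2561))
 (.node (nat_lit 0x1066b19) (.leaf (nat_lit 0x1066b17) (nat_lit 2561))
 (.leaf (nat_lit 0x1066b19) (nat_lit 1792))
)) (.node (nat_lit 0x1066b1d) (.leaf (nat_lit 0x1066b1b) (nat_lit 2048))
 (.node (nat_lit 0x1066b1f) (.leaf (nat_lit 0x1066b1d) (nat_lit 2563))
 (.leaf (nat_lit 0x1066b1f) (nat_lit 2560))
))))))))) (.node (nat_lit 0x10708d1) (.node (nat_lit 0x1067a89) (.node (nat_lit 0x10678d5) (.node (nat_lit 0x106788b) (.node (nat_lit 0x1066bd5) (.node (nat_lit 0x1066bcb) (.node (nat_lit 0x1066bc5) (.node (nat_lit 0x1066bc3) (.leaf (nat_lit 0x1066bc1) (nat_lit 1797))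
 (.leaf (nat_lit 0x1066bc3) (nat_lit 2053))
) (.node (nat_lit 0x1066bc7) (.leaf (nat_lit 0x1066bc5) (nat_lit 2051))
 (.node (nat_lit 0x1066bc9) (.leaf (nat_lit 0x1066bc7) (nat_lit 2307))
 (.leaf (nat_lit 0x1066bc9) (nat_lit 2562))
))) (.node (nat_lit 0x1066bcf) (.node (nat_lit 0x1066bcd) (.leaf (nat_lit 0x1066bcb) (nat_lit 2818))
 (.leaf (nat_lit 0x1066bcd) (nat_lit 3076))
) (.node (nat_lit 0x1066bd1) (.leaf (nat_lit 0x1066bcf) (nat_lit 3077))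
 (.node (nat_lit 0x1066bd3) (.leaf (nat_lit 0x1066bd1) (nat_lit 3333))
 (.leaf (nat_lit 0x1066bd3) (nat_lit 3077))
)))) (.node (nat_lit 0x1066bdf) (.node (nat_lit 0x1066bd9) (.node (nat_lit 0x1066bd7) (.leaf (nat_lit 0x1066bd5) (nat_lit 3077))
 (.leaf (nat_lit 0x1066bd7) (nat_lit 2821))
) (.node (nat_lit 0x1066bdb) (.leaf (nat_lit 0x1066bd9) (nat_lit 2565))
 (.node (nat_lit 0x1066bdd) (.leaf (nat_lit 0x1066bdb) (nat_lit 2309))
 (.leaf (nat_lit 0x1066bdd) (nat_lit 2309))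
))) (.node (nat_lit 0x1067885) (.node (nat_lit 0x1067881) (.leaf (nat_lit 0x1066bdf) (nat_lit 2053))
 (.node (nat_lit 0x1067883) (.leaf (nat_lit 0x1067881) (nat_lit 1795))
 (.leaf (nat_lit 0x1067883) (nat_lit 2051))
)) (.node (nat_lit 0x1067887) (.leaf (nat_lit 0x1067885) (nat_lit 2051))
 (.node (nat_lit 0x1067889) (.leaf (nat_lit 0x1067887) (nat_lit 2051))
 (.leaf (nat_lit 0x1067889) (nat_lit 3074))
))))) (.node (nat_lit 0x106789f) (.node (nat_lit 0x1067895) (.node (nat_lit 0x106788f) (.node (nat_lit 0x106788d) (.leaf (nat_lit 0x106788b) (nat_lit 2818))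
 (.leaf (nat_lit 0x106788d) (nat_lit 3076))
) (.node (nat_lit 0x1067891) (.leaf (nat_lit 0x106788f) (nat_lit 3075))
 (.node (nat_lit 0x1067893) (.leaf (nat_lit 0x1067891) (nat_lit 3333))
 (.leaf (nat_lit 0x1067893) (nat_lit 3077))
))) (.node (nat_lit 0x1067899) (.node (nat_lit 0x1067897) (.leaf (nat_lit 0x1067895) (nat_lit 3330))
 (.leaf (nat_lit 0x1067897) (nat_lit 3074))
) (.node (nat_lit 0x106789b) (.leaf (nat_lit 0x1067899) (nat_lit 2561))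
 (.node (nat_lit 0x106789d) (.leaf (nat_lit 0x106789b) (nat_lit 2305))
 (.leaf (nat_lit 0x106789d) (nat_lit 2817))
)))) (.node (nat_lit 0x10678c9) (.node (nat_lit 0x10678c3) (.node (nat_lit 0x10678c1) (.leaf (nat_lit 0x106789f) (nat_lit 2561))
 (.leaf (nat_lit 0x10678c1) (nat_lit 1541))
) (.node (nat_lit 0x10678c5) (.leaf (nat_lit 0x10678c3) (nat_lit 1797))
 (.node (nat_lit 0x10678c7) (.leaf (nat_lit 0x10678c5) (nat_lit 2053))
 (.leaf (nat_lit 0x10678c7) (nat_lit 1797))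
))) (.node (nat_lit 0x10678cf) (.node (nat_lit 0x10678cb) (.leaf (nat_lit 0x10678c9) (nat_lit 2821))
 (.node (nat_lit 0x10678cd) (.leaf (nat_lit 0x10678cb) (nat_lit 2565))
 (.leaf (nat_lit 0x10678cd) (nat_lit 2821))
)) (.node (nat_lit 0x10678d1) (.leaf (nat_lit 0x10678cf) (nat_lit 2821))
 (.node (nat_lit 0x10678d3) (.leaf (nat_lit 0x10678d1) (nat_lit 2821))
 (.leaf (nat_lit 0x10678d3) (nat_lit 2565))
)))))) (.node (nat_lit 0x106791f) (.node (nat_lit 0x1067909) (.node (nat_lit 0x10678df) (.node (nat_lit 0x10678d9) (.node (nat_lit 0x10678d7) (.leaf (nat_lit 0x10678d5) (nat_lit 2562))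
 (.leaf (nat_lit 0x10678d7) (nat_lit 2818))
) (.node (nat_lit 0x10678db) (.leaf (nat_lit 0x10678d9) (nat_lit 2305))
 (.node (nat_lit 0x10678dd) (.leaf (nat_lit 0x10678db) (nat_lit 2561))
 (.leaf (nat_lit 0x10678dd) (nat_lit 2565))
))) (.node (nat_lit 0x1067903) (.node (nat_lit 0x1067901) (.leaf (nat_lit 0x10678df) (nat_lit 2309))
 (.leaf (nat_lit 0x1067901) (nat_lit 2051))
) (.node (nat_lit 0x1067905) (.leaf (nat_lit 0x1067903) (nat_lit 2307))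
 (.node (nat_lit 0x1067907) (.leaf (nat_lit 0x1067905) (nat_lit 2818))
 (.leaf (nat_lit 0x1067907) (nat_lit 2562))
)))) (.node (nat_lit 0x1067913) (.node (nat_lit 0x106790d) (.node (nat_lit 0x106790b) (.leaf (nat_lit 0x1067909) (nat_lit 2307))
 (.leaf (nat_lit 0x106790b) (nat_lit 2307))
) (.node (nat_lit 0x106790f) (.leaf (nat_lit 0x106790d) (nat_lit 3074))
 (.node (nat_lit 0x1067911) (.leaf (nat_lit 0x106790f) (nat_lit 2818))
 (.leaf (nat_lit 0x1067911) (nat_lit 3330))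
))) (.node (nat_lit 0x1067919) (.node (nat_lit 0x1067915) (.leaf (nat_lit 0x1067913) (nat_lit 3074))
 (.node (nat_lit 0x1067917) (.leaf (nat_lit 0x1067915) (nat_lit 2817))
 (.leaf (nat_lit 0x1067917) (nat_lit 2561))
)) (.node (nat_lit 0x106791b) (.leaf (nat_lit 0x1067919) (nat_lit 3074))
 (.node (nat_lit 0x106791d) (.leaf (nat_lit 0x106791b) (nat_lit 2818))
 (.leaf (nat_lit 0x106791d) (nat_lit 3073))
))))) (.node (nat_lit 0x1067953) (.node (nat_lit 0x1067949) (.node (nat_lit 0x1067943) (.node (nat_lit 0x1067941) (.leaf (nat_lit 0x106791f) (nat_lit 2817))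
 (.leaf (nat_lit 0x1067941) (nat_lit 1797))
) (.node (nat_lit 0x1067945) (.leaf (nat_lit 0x1067943) (nat_lit 2053))
 (.node (nat_lit 0x1067947) (.leaf (nat_lit 0x1067945) (nat_lit 2309))
 (.leaf (nat_lit 0x1067947) (nat_lit 2053))
))) (.node (nat_lit 0x106794d) (.node (nat_lit 0x106794b) (.leaf (nat_lit 0x1067949) (nat_lit 2309))
 (.leaf (nat_lit 0x106794b) (nat_lit 2053))
) (.node (nat_lit 0x106794f) (.leaf (nat_lit 0x106794d) (nat_lit 2309))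
 (.node (nat_lit 0x1067951) (.leaf (nat_lit 0x106794f) (nat_lit 2565))
 (.leaf (nat_lit 0x1067951) (nat_lit 3073))
)))) (.node (nat_lit 0x106795d) (.node (nat_lit 0x1067957) (.node (nat_lit 0x1067955) (.leaf (nat_lit 0x1067953) (nat_lit 2817))
 (.leaf (nat_lit 0x1067955) (nat_lit 2561))
) (.node (nat_lit 0x1067959) (.leaf (nat_lit 0x1067957) (nat_lit 2817))
 (.node (nat_lit 0x106795b) (.leaf (nat_lit 0x1067959) (nat_lit 2821))
 (.leaf (nat_lit 0x106795b) (nat_lit 3077))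
))) (.node (nat_lit 0x1067a83) (.node (nat_lit 0x106795f) (.leaf (nat_lit 0x106795d) (nat_lit 2821))
 (.node (nat_lit 0x1067a81) (.leaf (nat_lit 0x106795f) (nat_lit 2565))
 (.leaf (nat_lit 0x1067a81) (nat_lit 2049))
)) (.node (nat_lit 0x1067a85) (.leaf (nat_lit 0x1067a83) (nat_lit 2305))
 (.node (nat_lit 0x1067a87) (.leaf (nat_lit 0x1067a85) (nat_lit 2561))
 (.leaf (nat_lit 0x1067a87) (nat_lit 2305))
))))))) (.node (nat_lit 0x1067b1d) (.node (nat_lit 0x1067ad3) (.node (nat_lit 0x1067a9d) (.node (nat_lit 0x1067a93) (.node (nat_lit 0x1067a8d) (.node (nat_lit 0x1067a8b) (.leaf (nat_lit 0x1067a89) (nat_lit 2561))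
 (.leaf (nat_lit 0x1067a8b) (nat_lit 2305))
) (.node (nat_lit 0x1067a8f) (.leaf (nat_lit 0x1067a8d) (nat_lit 2561))
 (.node (nat_lit 0x1067a91) (.leaf (nat_lit 0x1067a8f) (nat_lit 2817))
 (.leaf (nat_lit 0x1067a91) (nat_lit 2816))
))) (.node (nat_lit 0x1067a97) (.node (nat_lit 0x1067a95) (.leaf (nat_lit 0x1067a93) (nat_lit 2560))
 (.leaf (nat_lit 0x1067a95) (nat_lit 2304))
) (.node (nat_lit 0x1067a99) (.leaf (nat_lit 0x1067a97) (nat_lit 2560))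
 (.node (nat_lit 0x1067a9b) (.leaf (nat_lit 0x1067a99) (nat_lit 2816))
 (.leaf (nat_lit 0x1067a9b) (nat_lit 3072))
)))) (.node (nat_lit 0x1067ac7) (.node (nat_lit 0x1067ac1) (.node (nat_lit 0x1067a9f) (.leaf (nat_lit 0x1067a9d) (nat_lit 2816))
 (.leaf (nat_lit 0x1067a9f) (nat_lit 2560))
) (.node (nat_lit 0x1067ac3) (.leaf (nat_lit 0x1067ac1) (nat_lit 2053))
 (.node (nat_lit 0x1067ac5) (.leaf (nat_lit 0x1067ac3) (nat_lit 2309))
 (.leaf (nat_lit 0x1067ac5) (nat_lit 2818))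
))) (.node (nat_lit 0x1067acd) (.node (nat_lit 0x1067ac9) (.leaf (nat_lit 0x1067ac7) (nat_lit 2821))
 (.node (nat_lit 0x1067acb) (.leaf (nat_lit 0x1067ac9) (nat_lit 2563))
 (.leaf (nat_lit 0x1067acb) (nat_lit 2563))
)) (.node (nat_lit 0x1067acf) (.leaf (nat_lit 0x1067acd) (nat_lit 3077))
 (.node (nat_lit 0x1067ad1) (.leaf (nat_lit 0x1067acf) (nat_lit 3073))
 (.leaf (nat_lit 0x1067ad1) (nat_lit 3077))
))))) (.node (nat_lit 0x1067b07) (.node (nat_lit 0x1067add) (.node (nat_lit 0x1067ad7) (.node (nat_lit 0x1067ad5) (.leaf (nat_lit 0x1067ad3) (nat_lit 3074))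
 (.leaf (nat_lit 0x1067ad5) (nat_lit 2565))
) (.node (nat_lit 0x1067ad9) (.leaf (nat_lit 0x1067ad7) (nat_lit 2309))
 (.node (nat_lit 0x1067adb) (.leaf (nat_lit 0x1067ad9) (nat_lit 3077))
 (.leaf (nat_lit 0x1067adb) (nat_lit 2821))
))) (.node (nat_lit 0x1067b01) (.node (nat_lit 0x1067adf) (.leaf (nat_lit 0x1067add) (nat_lit 2821))
 (.leaf (nat_lit 0x1067adf) (nat_lit 2565))
) (.node (nat_lit 0x1067b03) (.leaf (nat_lit 0x1067b01) (nat_lit 1793))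
 (.node (nat_lit 0x1067b05) (.leaf (nat_lit 0x1067b03) (nat_lit 2049))
 (.leaf (nat_lit 0x1067b05) (nat_lit 2305))
)))) (.node (nat_lit 0x1067b11) (.node (nat_lit 0x1067b0b) (.node (nat_lit 0x1067b09) (.leaf (nat_lit 0x1067b07) (nat_lit 2049))
 (.leaf (nat_lit 0x1067b09) (nat_lit 3073))
) (.node (nat_lit 0x1067b0d) (.leaf (nat_lit 0x1067b0b) (nat_lit 2817))
 (.node (nat_lit 0x1067b0f) (.leaf (nat_lit 0x1067b0d) (nat_lit 3073))
 (.leaf (nat_lit 0x1067b0f) (nat_lit 3073))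
))) (.node (nat_lit 0x1067b17) (.node (nat_lit 0x1067b13) (.leaf (nat_lit 0x1067b11) (nat_lit 3073))
 (.node (nat_lit 0x1067b15) (.leaf (nat_lit 0x1067b13) (nat_lit 2817))
 (.leaf (nat_lit 0x1067b15) (nat_lit 2817))
)) (.node (nat_lit 0x1067b19) (.leaf (nat_lit 0x1067b17) (nat_lit 3073))
 (.node (nat_lit 0x1067b1b) (.leaf (nat_lit 0x1067b19) (nat_lit 2048))
 (.leaf (nat_lit 0x1067b1b) (nat_lit 2304))
)))))) (.node (nat_lit 0x1070887) (.node (nat_lit 0x1067b51) (.node (nat_lit 0x1067b47) (.node (nat_lit 0x1067b41) (.node (nat_lit 0x1067b1f) (.leaf (nat_lit 0x1067b1d) (nat_lit 2560))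
 (.leaf (nat_lit 0x1067b1f) (nat_lit 2304))
) (.node (nat_lit 0x1067b43) (.leaf (nat_lit 0x1067b41) (nat_lit 1797))
 (.node (nat_lit 0x1067b45) (.leaf (nat_lit 0x1067b43) (nat_lit 2053))
 (.leaf (nat_lit 0x1067b45) (nat_lit 2307))
))) (.node (nat_lit 0x1067b4b) (.node (nat_lit 0x1067b49) (.leaf (nat_lit 0x1067b47) (nat_lit 2309))
 (.leaf (nat_lit 0x1067b49) (nat_lit 2818))
) (.node (nat_lit 0x1067b4d) (.leaf (nat_lit 0x1067b4b) (nat_lit 3074))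
 (.node (nat_lit 0x1067b4f) (.leaf (nat_lit 0x1067b4d) (nat_lit 3077))
 (.leaf (nat_lit 0x1067b4f) (nat_lit 2821))
)))) (.node (nat_lit 0x1067b5b) (.node (nat_lit 0x1067b55) (.node (nat_lit 0x1067b53) (.leaf (nat_lit 0x1067b51) (nat_lit 3333))
 (.leaf (nat_lit 0x1067b53) (nat_lit 3077))
) (.node (nat_lit 0x1067b57) (.leaf (nat_lit 0x1067b55) (nat_lit 3077))
 (.node (nat_lit 0x1067b59) (.leaf (nat_lit 0x1067b57) (nat_lit 2821))
 (.leaf (nat_lit 0x1067b59) (nat_lit 2309))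
))) (.node (nat_lit 0x1070881) (.node (nat_lit 0x1067b5d) (.leaf (nat_lit 0x1067b5b) (nat_lit 2053))
 (.node (nat_lit 0x1067b5f) (.leaf (nat_lit 0x1067b5d) (nat_lit 2565))
 (.leaf (nat_lit 0x1067b5f) (nat_lit 2309))
)) (.node (nat_lit 0x1070883) (.leaf (nat_lit 0x1070881) (nat_lit 1029))
 (.node (nat_lit 0x1070885) (.leaf (nat_lit 0x1070883) (nat_lit 1285))
 (.leaf (nat_lit 0x1070885) (nat_lit 1285))
))))) (.node (nat_lit 0x107089b) (.node (nat_lit 0x1070891) (.node (nat_lit 0x107088b) (.node (nat_lit 0x1070889) (.leaf (nat_lit 0x1070887) (nat_lit 1541))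
 (.leaf (nat_lit 0x1070889) (nat_lit 2306))
) (.node (nat_lit 0x107088d) (.leaf (nat_lit 0x107088b) (nat_lit 2308))
 (.node (nat_lit 0x107088f) (.leaf (nat_lit 0x107088d) (nat_lit 2309))
 (.leaf (nat_lit 0x107088f) (nat_lit 2309))
))) (.node (nat_lit 0x1070895) (.node (nat_lit 0x1070893) (.leaf (nat_lit 0x1070891) (nat_lit 3589))
 (.leaf (nat_lit 0x1070893) (nat_lit 3333))
) (.node (nat_lit 0x1070897) (.leaf (nat_lit 0x1070895) (nat_lit 3333))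
 (.node (nat_lit 0x1070899) (.leaf (nat_lit 0x1070897) (nat_lit 3333))
 (.leaf (nat_lit 0x1070899) (nat_lit 2819))
)))) (.node (nat_lit 0x10708c5) (.node (nat_lit 0x107089f) (.node (nat_lit 0x107089d) (.leaf (nat_lit 0x107089b) (nat_lit 2820))
 (.leaf (nat_lit 0x107089d) (nat_lit 2821))
) (.node (nat_lit 0x10708c1) (.leaf (nat_lit 0x107089f) (nat_lit 2821))
 (.node (nat_lit 0x10708c3) (.leaf (nat_lit 0x10708c1) (nat_lit 1028))
 (.leaf (nat_lit 0x10708c3) (nat_lit 1284))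
))) (.node (nat_lit 0x10708cb) (.node (nat_lit 0x10708c7) (.leaf (nat_lit 0x10708c5) (nat_lit 1540))
 (.node (nat_lit 0x10708c9) (.leaf (nat_lit 0x10708c7) (nat_lit 1284))
 (.leaf (nat_lit 0x10708c9) (nat_lit 2308))
)) (.node (nat_lit 0x10708cd) (.leaf (nat_lit 0x10708cb) (nat_lit 2308))
 (.node (nat_lit 0x10708cf) (.leaf (nat_lit 0x10708cd) (nat_lit 2564))
 (.leaf (nat_lit 0x10708cf) (nat_lit 2308))
)))))))) (.node (nat_lit 0x1070b19) (.node (nat_lit 0x1070a85) (.node (nat_lit 0x107091b) (.node (nat_lit 0x1070905) (.node (nat_lit 0x10708db) (.node (nat_lit 0x10708d5) (.node (nat_lit 0x10708d3) (.leaf (nat_lit 0x10708d1) (nat_lit 3588))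
 (.leaf (nat_lit 0x10708d3) (nat_lit 3332))
) (.node (nat_lit 0x10708d7) (.leaf (nat_lit 0x10708d5) (nat_lit 3330))
 (.node (nat_lit 0x10708d9) (.leaf (nat_lit 0x10708d7) (nat_lit 3332))
 (.leaf (nat_lit 0x10708d9) (nat_lit 2820))
))) (.node (nat_lit 0x10708df) (.node (nat_lit 0x10708dd) (.leaf (nat_lit 0x10708db) (nat_lit 2820))
 (.leaf (nat_lit 0x10708dd) (nat_lit 3076))
) (.node (nat_lit 0x1070901) (.leaf (nat_lit 0x10708df) (nat_lit 2820))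
 (.node (nat_lit 0x1070903) (.leaf (nat_lit 0x1070901) (nat_lit 1540))
 (.leaf (nat_lit 0x1070903) (nat_lit 1796))
)))) (.node (nat_lit 0x107090f) (.node (nat_lit 0x1070909) (.node (nat_lit 0x1070907) (.leaf (nat_lit 0x1070905) (nat_lit 2050))
 (.leaf (nat_lit 0x1070907) (nat_lit 2052))
) (.node (nat_lit 0x107090b) (.leaf (nat_lit 0x1070909) (nat_lit 1796))
 (.node (nat_lit 0x107090d) (.leaf (nat_lit 0x107090b) (nat_lit 1796))
 (.leaf (nat_lit 0x107090d) (nat_lit 2306))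
))) (.node (nat_lit 0x1070915) (.node (nat_lit 0x1070911) (.leaf (nat_lit 0x107090f) (nat_lit 2308))
 (.node (nat_lit 0x1070913) (.leaf (nat_lit 0x1070911) (nat_lit 3588))
 (.leaf (nat_lit 0x1070913) (nat_lit 3588))
)) (.node (nat_lit 0x1070917) (.leaf (nat_lit 0x1070915) (nat_lit 3075))
 (.node (nat_lit 0x1070919) (.leaf (nat_lit 0x1070917) (nat_lit 3076))
 (.leaf (nat_lit 0x1070919) (nat_lit 3332))
))))) (.node (nat_lit 0x107094f) (.node (nat_lit 0x1070945) (.node (nat_lit 0x107091f) (.node (nat_lit 0x107091d) (.leaf (nat_lit 0x107091b) (nat_lit 3332))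
 (.leaf (nat_lit 0x107091d) (nat_lit 3333))
) (.node (nat_lit 0x1070941) (.leaf (nat_lit 0x107091f) (nat_lit 3332))
 (.node (nat_lit 0x1070943) (.leaf (nat_lit 0x1070941) (nat_lit 1284))
 (.leaf (nat_lit 0x1070943) (nat_lit 1540))
))) (.node (nat_lit 0x1070949) (.node (nat_lit 0x1070947) (.leaf (nat_lit 0x1070945) (nat_lit 2053))
 (.leaf (nat_lit 0x1070947) (nat_lit 2052))
) (.node (nat_lit 0x107094b) (.leaf (nat_lit 0x1070949) (nat_lit 1796))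
 (.node (nat_lit 0x107094d) (.leaf (nat_lit 0x107094b) (nat_lit 1540))
 (.leaf (nat_lit 0x107094d) (nat_lit 2308))
)))) (.node (nat_lit 0x1070959) (.node (nat_lit 0x1070953) (.node (nat_lit 0x1070951) (.leaf (nat_lit 0x107094f) (nat_lit 2308))
 (.leaf (nat_lit 0x1070951) (nat_lit 3332))
) (.node (nat_lit 0x1070955) (.leaf (nat_lit 0x1070953) (nat_lit 3588))
 (.node (nat_lit 0x1070957) (.leaf (nat_lit 0x1070955) (nat_lit 3076))
 (.leaf (nat_lit 0x1070957) (nat_lit 3075))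
))) (.node (nat_lit 0x107095f) (.node (nat_lit 0x107095b) (.leaf (nat_lit 0x1070959) (nat_lit 3332))
 (.node (nat_lit 0x107095d) (.leaf (nat_lit 0x107095b) (nat_lit 3076))
 (.leaf (nat_lit 0x107095d) (nat_lit 3077))
)) (.node (nat_lit 0x1070a81) (.leaf (nat_lit 0x107095f) (nat_lit 3076))
 (.node (nat_lit 0x1070a83) (.leaf (nat_lit 0x1070a81) (nat_lit 1797))
 (.leaf (nat_lit 0x1070a83) (nat_lit 2053))
)))))) (.node (nat_lit 0x1070acf) (.node (nat_lit 0x1070a99) (.node (nat_lit 0x1070a8f) (.node (nat_lit 0x1070a89) (.node (nat_lit 0x1070a87) (.leaf (nat_lit 0x1070a85) (nat_lit 2565))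
 (.leaf (nat_lit 0x1070a87) (nat_lit 2565))
) (.node (nat_lit 0x1070a8b) (.leaf (nat_lit 0x1070a89) (nat_lit 3076))
 (.node (nat_lit 0x1070a8d) (.leaf (nat_lit 0x1070a8b) (nat_lit 2820))
 (.leaf (nat_lit 0x1070a8d) (nat_lit 2565))
))) (.node (nat_lit 0x1070a93) (.node (nat_lit 0x1070a91) (.leaf (nat_lit 0x1070a8f) (nat_lit 2565))
 (.leaf (nat_lit 0x1070a91) (nat_lit 2821))
) (.node (nat_lit 0x1070a95) (.leaf (nat_lit 0x1070a93) (nat_lit 2821))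
 (.node (nat_lit 0x1070a97) (.leaf (nat_lit 0x1070a95) (nat_lit 2053))
 (.leaf (nat_lit 0x1070a97) (nat_lit 2309))
)))) (.node (nat_lit 0x1070ac3) (.node (nat_lit 0x1070a9d) (.node (nat_lit 0x1070a9b) (.leaf (nat_lit 0x1070a99) (nat_lit 2821))
 (.leaf (nat_lit 0x1070a9b) (nat_lit 2821))
) (.node (nat_lit 0x1070a9f) (.leaf (nat_lit 0x1070a9d) (nat_lit 3077))
 (.node (nat_lit 0x1070ac1) (.leaf (nat_lit 0x1070a9f) (nat_lit 3077))
 (.leaf (nat_lit 0x1070ac1) (nat_lit 1796))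
))) (.node (nat_lit 0x1070ac9) (.node (nat_lit 0x1070ac5) (.leaf (nat_lit 0x1070ac3) (nat_lit 2052))
 (.node (nat_lit 0x1070ac7) (.leaf (nat_lit 0x1070ac5) (nat_lit 2820))
 (.leaf (nat_lit 0x1070ac7) (nat_lit 2564))
)) (.node (nat_lit 0x1070acb) (.leaf (nat_lit 0x1070ac9) (nat_lit 3076))
 (.node (nat_lit 0x1070acd) (.leaf (nat_lit 0x1070acb) (nat_lit 2820))
 (.leaf (nat_lit 0x1070acd) (nat_lit 2820))
))))) (.node (nat_lit 0x1070b03) (.node (nat_lit 0x1070ad9) (.node (nat_lit 0x1070ad3) (.node (nat_lit 0x1070ad1) (.leaf (nat_lit 0x1070acf) (nat_lit 2564))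
 (.leaf (nat_lit 0x1070ad1) (nat_lit 2820))
) (.node (nat_lit 0x1070ad5) (.leaf (nat_lit 0x1070ad3) (nat_lit 3076))
 (.node (nat_lit 0x1070ad7) (.leaf (nat_lit 0x1070ad5) (nat_lit 2308))
 (.leaf (nat_lit 0x1070ad7) (nat_lit 2052))
))) (.node (nat_lit 0x1070add) (.node (nat_lit 0x1070adb) (.leaf (nat_lit 0x1070ad9) (nat_lit 2820))
 (.leaf (nat_lit 0x1070adb) (nat_lit 2818))
) (.node (nat_lit 0x1070adf) (.leaf (nat_lit 0x1070add) (nat_lit 3076))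
 (.node (nat_lit 0x1070b01) (.leaf (nat_lit 0x1070adf) (nat_lit 3076))
 (.leaf (nat_lit 0x1070b01) (nat_lit 2053))
)))) (.node (nat_lit 0x1070b0d) (.node (nat_lit 0x1070b07) (.node (nat_lit 0x1070b05) (.leaf (nat_lit 0x1070b03) (nat_lit 2309))
 (.leaf (nat_lit 0x1070b05) (nat_lit 2563))
) (.node (nat_lit 0x1070b09) (.leaf (nat_lit 0x1070b07) (nat_lit 2564))
 (.node (nat_lit 0x1070b0b) (.leaf (nat_lit 0x1070b09) (nat_lit 3333))
 (.leaf (nat_lit 0x1070b0b) (nat_lit 3330))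
))) (.node (nat_lit 0x1070b13) (.node (nat_lit 0x1070b0f) (.leaf (nat_lit 0x1070b0d) (nat_lit 2821))
 (.node (nat_lit 0x1070b11) (.leaf (nat_lit 0x1070b0f) (nat_lit 2821))
 (.leaf (nat_lit 0x1070b11) (nat_lit 3588))
)) (.node (nat_lit 0x1070b15) (.leaf (nat_lit 0x1070b13) (nat_lit 3586))
 (.node (nat_lit 0x1070b17) (.leaf (nat_lit 0x1070b15) (nat_lit 2818))
 (.leaf (nat_lit 0x1070b17) (nat_lit 2820))
))))))) (.node (nat_lit 0x10710cd) (.node (nat_lit 0x1071043) (.node (nat_lit 0x1070b4d) (.node (nat_lit 0x1070b43) (.node (nat_lit 0x1070b1d) (.node (nat_lit 0x1070b1b) (.leaf (nat_lit 0x1070b19) (nat_lit 2309))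
 (.leaf (nat_lit 0x1070b1b) (nat_lit 2308))
) (.node (nat_lit 0x1070b1f) (.leaf (nat_lit 0x1070b1d) (nat_lit 2819))
 (.node (nat_lit 0x1070b41) (.leaf (nat_lit 0x1070b1f) (nat_lit 2820))
 (.leaf (nat_lit 0x1070b41) (nat_lit 1796))
))) (.node (nat_lit 0x1070b47) (.node (nat_lit 0x1070b45) (.leaf (nat_lit 0x1070b43) (nat_lit 2052))
 (.leaf (nat_lit 0x1070b45) (nat_lit 2565))
) (.node (nat_lit 0x1070b49) (.leaf (nat_lit 0x1070b47) (nat_lit 2564))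
 (.node (nat_lit 0x1070b4b) (.leaf (nat_lit 0x1070b49) (nat_lit 3332))
 (.leaf (nat_lit 0x1070b4b) (nat_lit 3076))
)))) (.node (nat_lit 0x1070b57) (.node (nat_lit 0x1070b51) (.node (nat_lit 0x1070b4f) (.leaf (nat_lit 0x1070b4d) (nat_lit 2565))
 (.leaf (nat_lit 0x1070b4f) (nat_lit 2564))
) (.node (nat_lit 0x1070b53) (.leaf (nat_lit 0x1070b51) (nat_lit 3332))
 (.node (nat_lit 0x1070b55) (.leaf (nat_lit 0x1070b53) (nat_lit 3588))
 (.leaf (nat_lit 0x1070b55) (nat_lit 2820))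
))) (.node (nat_lit 0x1070b5d) (.node (nat_lit 0x1070b59) (.leaf (nat_lit 0x1070b57) (nat_lit 2820))
 (.node (nat_lit 0x1070b5b) (.leaf (nat_lit 0x1070b59) (nat_lit 2308))
 (.leaf (nat_lit 0x1070b5b) (nat_lit 2052))
)) (.node (nat_lit 0x1070b5f) (.leaf (nat_lit 0x1070b5d) (nat_lit 2820))
 (.node (nat_lit 0x1071041) (.leaf (nat_lit 0x1070b5f) (nat_lit 2820))
 (.leaf (nat_lit 0x1071041) (nat_lit 773))
))))) (.node (nat_lit 0x1071057) (.node (nat_lit 0x107104d) (.node (nat_lit 0x1071047) (.node (nat_lit 0x1071045) (.leaf (nat_lit 0x1071043) (nat_lit 1029))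
 (.leaf (nat_lit 0x1071045) (nat_lit 1541))
) (.node (nat_lit 0x1071049) (.leaf (nat_lit 0x1071047) (nat_lit 1541))
 (.node (nat_lit 0x107104b) (.leaf (nat_lit 0x1071049) (nat_lit 2050))
 (.leaf (nat_lit 0x107104b) (nat_lit 2053))
))) (.node (nat_lit 0x1071051) (.node (nat_lit 0x107104f) (.leaf (nat_lit 0x107104d) (nat_lit 2053))
 (.leaf (nat_lit 0x107104f) (nat_lit 2053))
) (.node (nat_lit 0x1071053) (.leaf (nat_lit 0x1071051) (nat_lit 3845))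
 (.node (nat_lit 0x1071055) (.leaf (nat_lit 0x1071053) (nat_lit 3589))
 (.leaf (nat_lit 0x1071055) (nat_lit 3077))
)))) (.node (nat_lit 0x10710c1) (.node (nat_lit 0x107105b) (.node (nat_lit 0x1071059) (.leaf (nat_lit 0x1071057) (nat_lit 3077))
 (.leaf (nat_lit 0x1071059) (nat_lit 2563))
) (.node (nat_lit 0x107105d) (.leaf (nat_lit 0x107105b) (nat_lit 2565))
 (.node (nat_lit 0x107105f) (.leaf (nat_lit 0x107105d) (nat_lit 2565))
 (.leaf (nat_lit 0x107105f) (nat_lit 2565))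
))) (.node (nat_lit 0x10710c7) (.node (nat_lit 0x10710c3) (.leaf (nat_lit 0x10710c1) (nat_lit 1025))
 (.node (nat_lit 0x10710c5) (.leaf (nat_lit 0x10710c3) (nat_lit 1281))
 (.leaf (nat_lit 0x10710c5) (nat_lit 1536))
)) (.node (nat_lit 0x10710c9) (.leaf (nat_lit 0x10710c7) (nat_lit 1280))
 (.node (nat_lit 0x10710cb) (.leaf (nat_lit 0x10710c9) (nat_lit 2305))
 (.leaf (nat_lit 0x10710cb) (nat_lit 2306))
)))))) (.node (nat_lit 0x1071117) (.node (nat_lit 0x1071101) (.node (nat_lit 0x10710d7) (.node (nat_lit 0x10710d1) (.node (nat_lit 0x10710cf) (.leaf (nat_lit 0x10710cd) (nat_lit 2306))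
 (.leaf (nat_lit 0x10710cf) (nat_lit 2305))
) (.node (nat_lit 0x10710d3) (.leaf (nat_lit 0x10710d1) (nat_lit 3586))
 (.node (nat_lit 0x10710d5) (.leaf (nat_lit 0x10710d3) (nat_lit 3330))
 (.leaf (nat_lit 0x10710d5) (nat_lit 3329))
))) (.node (nat_lit 0x10710db) (.node (nat_lit 0x10710d9) (.leaf (nat_lit 0x10710d7) (nat_lit 3329))
 (.leaf (nat_lit 0x10710d9) (nat_lit 2819))
) (.node (nat_lit 0x10710dd) (.leaf (nat_lit 0x10710db) (nat_lit 2819))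
 (.node (nat_lit 0x10710df) (.leaf (nat_lit 0x10710dd) (nat_lit 2819))
 (.leaf (nat_lit 0x10710df) (nat_lit 2817))
)))) (.node (nat_lit 0x107110b) (.node (nat_lit 0x1071105) (.node (nat_lit 0x1071103) (.leaf (nat_lit 0x1071101) (nat_lit 1538))
 (.leaf (nat_lit 0x1071103) (nat_lit 1794))
) (.node (nat_lit 0x1071107) (.leaf (nat_lit 0x1071105) (nat_lit 2049))
 (.node (nat_lit 0x1071109) (.leaf (nat_lit 0x1071107) (nat_lit 2305))
 (.leaf (nat_lit 0x1071109) (nat_lit 1794))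
))) (.node (nat_lit 0x1071111) (.node (nat_lit 0x107110d) (.leaf (nat_lit 0x107110b) (nat_lit 2050))
 (.node (nat_lit 0x107110f) (.leaf (nat_lit 0x107110d) (nat_lit 2049))
 (.leaf (nat_lit 0x107110f) (nat_lit 2305))
)) (.node (nat_lit 0x1071113) (.leaf (nat_lit 0x1071111) (nat_lit 3587))
 (.node (nat_lit 0x1071115) (.leaf (nat_lit 0x1071113) (nat_lit 3331))
 (.leaf (nat_lit 0x1071115) (nat_lit 3330))
))))) (.node (nat_lit 0x107118b) (.node (nat_lit 0x1071181) (.node (nat_lit 0x107111b) (.node (nat_lit 0x1071119) (.leaf (nat_lit 0x1071117) (nat_lit 3330))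
 (.leaf (nat_lit 0x1071119) (nat_lit 3330))
) (.node (nat_lit 0x107111d) (.leaf (nat_lit 0x107111b) (nat_lit 3330))
 (.node (nat_lit 0x107111f) (.leaf (nat_lit 0x107111d) (nat_lit 3330))
 (.leaf (nat_lit 0x107111f) (nat_lit 3330))
))) (.node (nat_lit 0x1071185) (.node (nat_lit 0x1071183) (.leaf (nat_lit 0x1071181) (nat_lit 1541))
 (.leaf (nat_lit 0x1071183) (nat_lit 1797))
) (.node (nat_lit 0x1071187) (.leaf (nat_lit 0x1071185) (nat_lit 1797))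
 (.node (nat_lit 0x1071189) (.leaf (nat_lit 0x1071187) (nat_lit 2053))
 (.leaf (nat_lit 0x1071189) (nat_lit 2053))
)))) (.node (nat_lit 0x1071195) (.node (nat_lit 0x107118f) (.node (nat_lit 0x107118d) (.leaf (nat_lit 0x107118b) (nat_lit 2309))
 (.leaf (nat_lit 0x107118d) (nat_lit 1797))
) (.node (nat_lit 0x1071191) (.leaf (nat_lit 0x107118f) (nat_lit 2053))
 (.node (nat_lit 0x1071193) (.leaf (nat_lit 0x1071191) (nat_lit 3589))
 (.leaf (nat_lit 0x1071193) (nat_lit 3333))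
))) (.node (nat_lit 0x107119b) (.node (nat_lit 0x1071197) (.leaf (nat_lit 0x1071195) (nat_lit 3587))
 (.node (nat_lit 0x1071199) (.leaf (nat_lit 0x1071197) (nat_lit 3331))
 (.leaf (nat_lit 0x1071199) (nat_lit 3589))
)) (.node (nat_lit 0x107119d) (.leaf (nat_lit 0x107119b) (nat_lit 3333))
 (.node (nat_lit 0x107119f) (.leaf (nat_lit 0x107119d) (nat_lit 3333))
 (.leaf (nat_lit 0x107119f) (nat_lit 3333))
))))))))))) (.node (nat_lit 0x1074b01) (.node (nat_lit 0x10728c1) (.node (nat_lit 0x1071b51) (.node (nat_lit 0x1071889) (.node (nat_lit 0x1071315) (.node (nat_lit 0x10712cb) (.node (nat_lit 0x1071255) (.node (nat_lit 0x107124b) (.node (nat_lit 0x1071245) (.node (nat_lit 0x1071243) (.leaf (nat_lit 0x1071241) (nat_lit 2053))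
 (.leaf (nat_lit 0x1071243) (nat_lit 2309))
) (.node (nat_lit 0x1071247) (.leaf (nat_lit 0x1071245) (nat_lit 2309))
 (.node (nat_lit 0x1071249) (.leaf (nat_lit 0x1071247) (nat_lit 2565))
 (.leaf (nat_lit 0x1071249) (nat_lit 3077))
))) (.node (nat_lit 0x107124f) (.node (nat_lit 0x107124d) (.leaf (nat_lit 0x107124b) (nat_lit 2821))
 (.leaf (nat_lit 0x107124d) (nat_lit 3077))
) (.node (nat_lit 0x1071251) (.leaf (nat_lit 0x107124f) (nat_lit 2821))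
 (.node (nat_lit 0x1071253) (.leaf (nat_lit 0x1071251) (nat_lit 2565))
 (.leaf (nat_lit 0x1071253) (nat_lit 2309))
)))) (.node (nat_lit 0x107125f) (.node (nat_lit 0x1071259) (.node (nat_lit 0x1071257) (.leaf (nat_lit 0x1071255) (nat_lit 2821))
 (.leaf (nat_lit 0x1071257) (nat_lit 2565))
) (.node (nat_lit 0x107125b) (.leaf (nat_lit 0x1071259) (nat_lit 3074))
 (.node (nat_lit 0x107125d) (.leaf (nat_lit 0x107125b) (nat_lit 3330))
 (.leaf (nat_lit 0x107125d) (nat_lit 3077))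
))) (.node (nat_lit 0x10712c5) (.node (nat_lit 0x10712c1) (.leaf (nat_lit 0x107125f) (nat_lit 3333))
 (.node (nat_lit 0x10712c3) (.leaf (nat_lit 0x10712c1) (nat_lit 2305))
 (.leaf (nat_lit 0x10712c3) (nat_lit 2561))
)) (.node (nat_lit 0x10712c7) (.leaf (nat_lit 0x10712c5) (nat_lit 2561))
 (.node (nat_lit 0x10712c9) (.leaf (nat_lit 0x10712c7) (nat_lit 2817))
 (.leaf (nat_lit 0x10712c9) (nat_lit 3330))
))))) (.node (nat_lit 0x10712df) (.node (nat_lit 0x10712d5) (.node (nat_lit 0x10712cf) (.node (nat_lit 0x10712cd) (.leaf (nat_lit 0x10712cb) (nat_lit 3074))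
 (.leaf (nat_lit 0x10712cd) (nat_lit 3075))
) (.node (nat_lit 0x10712d1) (.leaf (nat_lit 0x10712cf) (nat_lit 3074))
 (.node (nat_lit 0x10712d3) (.leaf (nat_lit 0x10712d1) (nat_lit 2817))
 (.leaf (nat_lit 0x10712d3) (nat_lit 2561))
))) (.node (nat_lit 0x10712d9) (.node (nat_lit 0x10712d7) (.leaf (nat_lit 0x10712d5) (nat_lit 2816))
 (.leaf (nat_lit 0x10712d7) (nat_lit 2560))
) (.node (nat_lit 0x10712db) (.leaf (nat_lit 0x10712d9) (nat_lit 3330))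
 (.node (nat_lit 0x10712dd) (.leaf (nat_lit 0x10712db) (nat_lit 3331))
 (.leaf (nat_lit 0x10712dd) (nat_lit 3074))
)))) (.node (nat_lit 0x1071309) (.node (nat_lit 0x1071303) (.node (nat_lit 0x1071301) (.leaf (nat_lit 0x10712df) (nat_lit 3330))
 (.leaf (nat_lit 0x1071301) (nat_lit 2051))
) (.node (nat_lit 0x1071305) (.leaf (nat_lit 0x1071303) (nat_lit 2307))
 (.node (nat_lit 0x1071307) (.leaf (nat_lit 0x1071305) (nat_lit 2561))
 (.leaf (nat_lit 0x1071307) (nat_lit 2817))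
))) (.node (nat_lit 0x107130f) (.node (nat_lit 0x107130b) (.leaf (nat_lit 0x1071309) (nat_lit 3333))
 (.node (nat_lit 0x107130d) (.leaf (nat_lit 0x107130b) (nat_lit 3077))
 (.leaf (nat_lit 0x107130d) (nat_lit 3330))
)) (.node (nat_lit 0x1071311) (.leaf (nat_lit 0x107130f) (nat_lit 3331))
 (.node (nat_lit 0x1071313) (.leaf (nat_lit 0x1071311) (nat_lit 3330))
 (.leaf (nat_lit 0x1071313) (nat_lit 3074))
)))))) (.node (nat_lit 0x107139f) (.node (nat_lit 0x1071389) (.node (nat_lit 0x107131f) (.node (nat_lit 0x1071319) (.node (nat_lit 0x1071317) (.leaf (nat_lit 0x1071315) (nat_lit 3586))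
 (.leaf (nat_lit 0x1071317) (nat_lit 3330))
) (.node (nat_lit 0x107131b) (.leaf (nat_lit 0x1071319) (nat_lit 2307))
 (.node (nat_lit 0x107131d) (.leaf (nat_lit 0x107131b) (nat_lit 2563))
 (.leaf (nat_lit 0x107131d) (nat_lit 2561))
))) (.node (nat_lit 0x1071383) (.node (nat_lit 0x1071381) (.leaf (nat_lit 0x107131f) (nat_lit 2817))
 (.leaf (nat_lit 0x1071381) (nat_lit 2053))
) (.node (nat_lit 0x1071385) (.leaf (nat_lit 0x1071383) (nat_lit 2309))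
 (.node (nat_lit 0x1071387) (.leaf (nat_lit 0x1071385) (nat_lit 2309))
 (.leaf (nat_lit 0x1071387) (nat_lit 2565))
)))) (.node (nat_lit 0x1071393) (.node (nat_lit 0x107138d) (.node (nat_lit 0x107138b) (.leaf (nat_lit 0x1071389) (nat_lit 3077))
 (.leaf (nat_lit 0x107138b) (nat_lit 2821))
) (.node (nat_lit 0x107138f) (.leaf (nat_lit 0x107138d) (nat_lit 3333))
 (.node (nat_lit 0x1071391) (.leaf (nat_lit 0x107138f) (nat_lit 3077))
 (.leaf (nat_lit 0x1071391) (nat_lit 3333))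
))) (.node (nat_lit 0x1071399) (.node (nat_lit 0x1071395) (.leaf (nat_lit 0x1071393) (nat_lit 3077))
 (.node (nat_lit 0x1071397) (.leaf (nat_lit 0x1071395) (nat_lit 3333))
 (.leaf (nat_lit 0x1071397) (nat_lit 3077))
)) (.node (nat_lit 0x107139b) (.leaf (nat_lit 0x1071399) (nat_lit 2565))
 (.node (nat_lit 0x107139d) (.leaf (nat_lit 0x107139b) (nat_lit 2821))
 (.leaf (nat_lit 0x107139d) (nat_lit 2309))
))))) (.node (nat_lit 0x1071853) (.node (nat_lit 0x1071849) (.node (nat_lit 0x1071843) (.node (nat_lit 0x1071841) (.leaf (nat_lit 0x107139f) (nat_lit 2565))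
 (.leaf (nat_lit 0x1071841) (nat_lit 516))
) (.node (nat_lit 0x1071845) (.leaf (nat_lit 0x1071843) (nat_lit 772))
 (.node (nat_lit 0x1071847) (.leaf (nat_lit 0x1071845) (nat_lit 1284))
 (.leaf (nat_lit 0x1071847) (nat_lit 1284))
))) (.node (nat_lit 0x107184d) (.node (nat_lit 0x107184b) (.leaf (nat_lit 0x1071849) (nat_lit 2050))
 (.leaf (nat_lit 0x107184b) (nat_lit 1794))
) (.node (nat_lit 0x107184f) (.leaf (nat_lit 0x107184d) (nat_lit 1796))
 (.node (nat_lit 0x1071851) (.leaf (nat_lit 0x107184f) (nat_lit 1796))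
 (.leaf (nat_lit 0x1071851) (nat_lit 3588))
)))) (.node (nat_lit 0x107185d) (.node (nat_lit 0x1071857) (.node (nat_lit 0x1071855) (.leaf (nat_lit 0x1071853) (nat_lit 3332))
 (.leaf (nat_lit 0x1071855) (nat_lit 2820))
) (.node (nat_lit 0x1071859) (.leaf (nat_lit 0x1071857) (nat_lit 2820))
 (.node (nat_lit 0x107185b) (.leaf (nat_lit 0x1071859) (nat_lit 2563))
 (.leaf (nat_lit 0x107185b) (nat_lit 2307))
))) (.node (nat_lit 0x1071883) (.node (nat_lit 0x107185f) (.leaf (nat_lit 0x107185d) (nat_lit 2308))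
 (.node (nat_lit 0x1071881) (.leaf (nat_lit 0x107185f) (nat_lit 2308))
 (.leaf (nat_lit 0x1071881) (nat_lit 772))
)) (.node (nat_lit 0x1071885) (.leaf (nat_lit 0x1071883) (nat_lit 1028))
 (.node (nat_lit 0x1071887) (.leaf (nat_lit 0x1071885) (nat_lit 1028))
 (.leaf (nat_lit 0x1071887) (nat_lit 1284))
))))))) (.node (nat_lit 0x107199d) (.node (nat_lit 0x1071953) (.node (nat_lit 0x107189d) (.node (nat_lit 0x1071893) (.node (nat_lit 0x107188d) (.node (nat_lit 0x107188b) (.leaf (nat_lit 0x1071889) (nat_lit 2308))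
 (.leaf (nat_lit 0x107188b) (nat_lit 2052))
) (.node (nat_lit 0x107188f) (.leaf (nat_lit 0x107188d) (nat_lit 2052))
 (.node (nat_lit 0x1071891) (.leaf (nat_lit 0x107188f) (nat_lit 2052))
 (.leaf (nat_lit 0x1071891) (nat_lit 3332))
))) (.node (nat_lit 0x1071897) (.node (nat_lit 0x1071895) (.leaf (nat_lit 0x1071893) (nat_lit 3076))
 (.leaf (nat_lit 0x1071895) (nat_lit 3076))
) (.node (nat_lit 0x1071899) (.leaf (nat_lit 0x1071897) (nat_lit 3076))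
 (.node (nat_lit 0x107189b) (.leaf (nat_lit 0x1071899) (nat_lit 2820))
 (.leaf (nat_lit 0x107189b) (nat_lit 2564))
)))) (.node (nat_lit 0x1071947) (.node (nat_lit 0x1071941) (.node (nat_lit 0x107189f) (.leaf (nat_lit 0x107189d) (nat_lit 2564))
 (.leaf (nat_lit 0x107189f) (nat_lit 2564))
) (.node (nat_lit 0x1071943) (.leaf (nat_lit 0x1071941) (nat_lit 1284))
 (.node (nat_lit 0x1071945) (.leaf (nat_lit 0x1071943) (nat_lit 1540))
 (.leaf (nat_lit 0x1071945) (nat_lit 1796))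
))) (.node (nat_lit 0x107194d) (.node (nat_lit 0x1071949) (.leaf (nat_lit 0x1071947) (nat_lit 1540))
 (.node (nat_lit 0x107194b) (.leaf (nat_lit 0x1071949) (nat_lit 1796))
 (.leaf (nat_lit 0x107194b) (nat_lit 1540))
)) (.node (nat_lit 0x107194f) (.leaf (nat_lit 0x107194d) (nat_lit 1796))
 (.node (nat_lit 0x1071951) (.leaf (nat_lit 0x107194f) (nat_lit 2052))
 (.leaf (nat_lit 0x1071951) (nat_lit 3331))
))))) (.node (nat_lit 0x1071987) (.node (nat_lit 0x107195d) (.node (nat_lit 0x1071957) (.node (nat_lit 0x1071955) (.leaf (nat_lit 0x1071953) (nat_lit 3075))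
 (.leaf (nat_lit 0x1071955) (nat_lit 3076))
) (.node (nat_lit 0x1071959) (.leaf (nat_lit 0x1071957) (nat_lit 3332))
 (.node (nat_lit 0x107195b) (.leaf (nat_lit 0x1071959) (nat_lit 3332))
 (.leaf (nat_lit 0x107195b) (nat_lit 3076))
))) (.node (nat_lit 0x1071981) (.node (nat_lit 0x107195f) (.leaf (nat_lit 0x107195d) (nat_lit 3074))
 (.leaf (nat_lit 0x107195f) (nat_lit 3076))
) (.node (nat_lit 0x1071983) (.leaf (nat_lit 0x1071981) (nat_lit 1284))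
 (.node (nat_lit 0x1071985) (.leaf (nat_lit 0x1071983) (nat_lit 1540))
 (.leaf (nat_lit 0x1071985) (nat_lit 1794))
)))) (.node (nat_lit 0x1071991) (.node (nat_lit 0x107198b) (.node (nat_lit 0x1071989) (.leaf (nat_lit 0x1071987) (nat_lit 1796))
 (.leaf (nat_lit 0x1071989) (nat_lit 2052))
) (.node (nat_lit 0x107198d) (.leaf (nat_lit 0x107198b) (nat_lit 1796))
 (.node (nat_lit 0x107198f) (.leaf (nat_lit 0x107198d) (nat_lit 1540))
 (.leaf (nat_lit 0x107198f) (nat_lit 1796))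
))) (.node (nat_lit 0x1071997) (.node (nat_lit 0x1071993) (.leaf (nat_lit 0x1071991) (nat_lit 3332))
 (.node (nat_lit 0x1071995) (.leaf (nat_lit 0x1071993) (nat_lit 3076))
 (.leaf (nat_lit 0x1071995) (nat_lit 3076))
)) (.node (nat_lit 0x1071999) (.leaf (nat_lit 0x1071997) (nat_lit 3076))
 (.node (nat_lit 0x107199b) (.leaf (nat_lit 0x1071999) (nat_lit 3332))
 (.leaf (nat_lit 0x107199b) (nat_lit 3076))
)))))) (.node (nat_lit 0x1071a87) (.node (nat_lit 0x1071a51) (.node (nat_lit 0x1071a47) (.node (nat_lit 0x1071a41) (.node (nat_lit 0x107199f) (.leaf (nat_lit 0x107199d) (nat_lit 3076))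
 (.leaf (nat_lit 0x107199f) (nat_lit 3076))
) (.node (nat_lit 0x1071a43) (.leaf (nat_lit 0x1071a41) (nat_lit 2052))
 (.node (nat_lit 0x1071a45) (.leaf (nat_lit 0x1071a43) (nat_lit 2308))
 (.leaf (nat_lit 0x1071a45) (nat_lit 2564))
))) (.node (nat_lit 0x1071a4b) (.node (nat_lit 0x1071a49) (.leaf (nat_lit 0x1071a47) (nat_lit 2308))
 (.leaf (nat_lit 0x1071a49) (nat_lit 3076))
) (.node (nat_lit 0x1071a4d) (.leaf (nat_lit 0x1071a4b) (nat_lit 2820))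
 (.node (nat_lit 0x1071a4f) (.leaf (nat_lit 0x1071a4d) (nat_lit 2820))
 (.leaf (nat_lit 0x1071a4f) (nat_lit 2820))
)))) (.node (nat_lit 0x1071a5b) (.node (nat_lit 0x1071a55) (.node (nat_lit 0x1071a53) (.leaf (nat_lit 0x1071a51) (nat_lit 2564))
 (.leaf (nat_lit 0x1071a53) (nat_lit 2308))
) (.node (nat_lit 0x1071a57) (.leaf (nat_lit 0x1071a55) (nat_lit 2564))
 (.node (nat_lit 0x1071a59) (.leaf (nat_lit 0x1071a57) (nat_lit 2820))
 (.leaf (nat_lit 0x1071a59) (nat_lit 3076))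
))) (.node (nat_lit 0x1071a81) (.node (nat_lit 0x1071a5d) (.leaf (nat_lit 0x1071a5b) (nat_lit 2820))
 (.node (nat_lit 0x1071a5f) (.leaf (nat_lit 0x1071a5d) (nat_lit 2820))
 (.leaf (nat_lit 0x1071a5f) (nat_lit 3076))
)) (.node (nat_lit 0x1071a83) (.leaf (nat_lit 0x1071a81) (nat_lit 2308))
 (.node (nat_lit 0x1071a85) (.leaf (nat_lit 0x1071a83) (nat_lit 2564))
 (.leaf (nat_lit 0x1071a85) (nat_lit 2820))
))))) (.node (nat_lit 0x1071a9b) (.node (nat_lit 0x1071a91) (.node (nat_lit 0x1071a8b) (.node (nat_lit 0x1071a89) (.leaf (nat_lit 0x1071a87) (nat_lit 2564))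
 (.leaf (nat_lit 0x1071a89) (nat_lit 3076))
) (.node (nat_lit 0x1071a8d) (.leaf (nat_lit 0x1071a8b) (nat_lit 2820))
 (.node (nat_lit 0x1071a8f) (.leaf (nat_lit 0x1071a8d) (nat_lit 2819))
 (.leaf (nat_lit 0x1071a8f) (nat_lit 2820))
))) (.node (nat_lit 0x1071a95) (.node (nat_lit 0x1071a93) (.leaf (nat_lit 0x1071a91) (nat_lit 2820))
 (.leaf (nat_lit 0x1071a93) (nat_lit 2564))
) (.node (nat_lit 0x1071a97) (.leaf (nat_lit 0x1071a95) (nat_lit 2564))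
 (.node (nat_lit 0x1071a99) (.leaf (nat_lit 0x1071a97) (nat_lit 2820))
 (.leaf (nat_lit 0x1071a99) (nat_lit 3076))
)))) (.node (nat_lit 0x1071b45) (.node (nat_lit 0x1071a9f) (.node (nat_lit 0x1071a9d) (.leaf (nat_lit 0x1071a9b) (nat_lit 2820))
 (.leaf (nat_lit 0x1071a9d) (nat_lit 2818))
) (.node (nat_lit 0x1071b41) (.leaf (nat_lit 0x1071a9f) (nat_lit 3074))
 (.node (nat_lit 0x1071b43) (.leaf (nat_lit 0x1071b41) (nat_lit 1796))
 (.leaf (nat_lit 0x1071b43) (nat_lit 2052))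
))) (.node (nat_lit 0x1071b4b) (.node (nat_lit 0x1071b47) (.leaf (nat_lit 0x1071b45) (nat_lit 2308))
 (.node (nat_lit 0x1071b49) (.leaf (nat_lit 0x1071b47) (nat_lit 2052))
 (.leaf (nat_lit 0x1071b49) (nat_lit 3077))
)) (.node (nat_lit 0x1071b4d) (.leaf (nat_lit 0x1071b4b) (nat_lit 3076))
 (.node (nat_lit 0x1071b4f) (.leaf (nat_lit 0x1071b4d) (nat_lit 2820))
 (.leaf (nat_lit 0x1071b4f) (nat_lit 2564))
)))))))) (.node (nat_lit 0x1072199) (.node (nat_lit 0x1072085) (.node (nat_lit 0x1071b9b) (.node (nat_lit 0x1071b85) (.node (nat_lit 0x1071b5b) (.node (nat_lit 0x1071b55) (.node (nat_lit 0x1071b53) (.leaf (nat_lit 0x1071b51) (nat_lit 3332))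
 (.leaf (nat_lit 0x1071b53) (nat_lit 3076))
) (.node (nat_lit 0x1071b57) (.leaf (nat_lit 0x1071b55) (nat_lit 2820))
 (.node (nat_lit 0x1071b59) (.leaf (nat_lit 0x1071b57) (nat_lit 3076))
 (.leaf (nat_lit 0x1071b59) (nat_lit 2308))
))) (.node (nat_lit 0x1071b5f) (.node (nat_lit 0x1071b5d) (.leaf (nat_lit 0x1071b5b) (nat_lit 2052))
 (.leaf (nat_lit 0x1071b5d) (nat_lit 2308))
) (.node (nat_lit 0x1071b81) (.leaf (nat_lit 0x1071b5f) (nat_lit 2564))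
 (.node (nat_lit 0x1071b83) (.leaf (nat_lit 0x1071b81) (nat_lit 1796))
 (.leaf (nat_lit 0x1071b83) (nat_lit 2052))
)))) (.node (nat_lit 0x1071b8f) (.node (nat_lit 0x1071b89) (.node (nat_lit 0x1071b87) (.leaf (nat_lit 0x1071b85) (nat_lit 2307))
 (.leaf (nat_lit 0x1071b87) (nat_lit 2308))
) (.node (nat_lit 0x1071b8b) (.leaf (nat_lit 0x1071b89) (nat_lit 3074))
 (.node (nat_lit 0x1071b8d) (.leaf (nat_lit 0x1071b8b) (nat_lit 2818))
 (.leaf (nat_lit 0x1071b8d) (nat_lit 3076))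
))) (.node (nat_lit 0x1071b95) (.node (nat_lit 0x1071b91) (.leaf (nat_lit 0x1071b8f) (nat_lit 2820))
 (.node (nat_lit 0x1071b93) (.leaf (nat_lit 0x1071b91) (nat_lit 3332))
 (.leaf (nat_lit 0x1071b93) (nat_lit 3076))
)) (.node (nat_lit 0x1071b97) (.leaf (nat_lit 0x1071b95) (nat_lit 2818))
 (.node (nat_lit 0x1071b99) (.leaf (nat_lit 0x1071b97) (nat_lit 3074))
 (.leaf (nat_lit 0x1071b99) (nat_lit 2564))
))))) (.node (nat_lit 0x107204f) (.node (nat_lit 0x1072045) (.node (nat_lit 0x1071b9f) (.node (nat_lit 0x1071b9d) (.leaf (nat_lit 0x1071b9b) (nat_lit 2308))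
 (.leaf (nat_lit 0x1071b9d) (nat_lit 2052))
) (.node (nat_lit 0x1072041) (.leaf (nat_lit 0x1071b9f) (nat_lit 2308))
 (.node (nat_lit 0x1072043) (.leaf (nat_lit 0x1072041) (nat_lit 770))
 (.leaf (nat_lit 0x1072043) (nat_lit 1026))
))) (.node (nat_lit 0x1072049) (.node (nat_lit 0x1072047) (.leaf (nat_lit 0x1072045) (nat_lit 1538))
 (.leaf (nat_lit 0x1072047) (nat_lit 1538))
) (.node (nat_lit 0x107204b) (.leaf (nat_lit 0x1072049) (nat_lit 1793))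
 (.node (nat_lit 0x107204d) (.leaf (nat_lit 0x107204b) (nat_lit 1537))
 (.leaf (nat_lit 0x107204d) (nat_lit 2050))
)))) (.node (nat_lit 0x1072059) (.node (nat_lit 0x1072053) (.node (nat_lit 0x1072051) (.leaf (nat_lit 0x107204f) (nat_lit 2050))
 (.leaf (nat_lit 0x1072051) (nat_lit 3329))
) (.node (nat_lit 0x1072055) (.leaf (nat_lit 0x1072053) (nat_lit 3331))
 (.node (nat_lit 0x1072057) (.leaf (nat_lit 0x1072055) (nat_lit 2563))
 (.leaf (nat_lit 0x1072057) (nat_lit 2819))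
))) (.node (nat_lit 0x107205f) (.node (nat_lit 0x107205b) (.leaf (nat_lit 0x1072059) (nat_lit 2818))
 (.node (nat_lit 0x107205d) (.leaf (nat_lit 0x107205b) (nat_lit 2562))
 (.leaf (nat_lit 0x107205d) (nat_lit 2562))
)) (.node (nat_lit 0x1072081) (.leaf (nat_lit 0x107205f) (nat_lit 2562))
 (.node (nat_lit 0x1072083) (.leaf (nat_lit 0x1072081) (nat_lit 1026))
 (.leaf (nat_lit 0x1072083) (nat_lit 1282))
)))))) (.node (nat_lit 0x107214f) (.node (nat_lit 0x1072099) (.node (nat_lit 0x107208f) (.node (nat_lit 0x1072089) (.node (nat_lit 0x1072087) (.leaf (nat_lit 0x1072085) (nat_lit 1282))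
 (.leaf (nat_lit 0x1072087) (nat_lit 1538))
) (.node (nat_lit 0x107208b) (.leaf (nat_lit 0x1072089) (nat_lit 2049))
 (.node (nat_lit 0x107208d) (.leaf (nat_lit 0x107208b) (nat_lit 2305))
 (.leaf (nat_lit 0x107208d) (nat_lit 1793))
))) (.node (nat_lit 0x1072093) (.node (nat_lit 0x1072091) (.leaf (nat_lit 0x107208f) (nat_lit 2049))
 (.leaf (nat_lit 0x1072091) (nat_lit 3075))
) (.node (nat_lit 0x1072095) (.leaf (nat_lit 0x1072093) (nat_lit 2819))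
 (.node (nat_lit 0x1072097) (.leaf (nat_lit 0x1072095) (nat_lit 3331))
 (.leaf (nat_lit 0x1072097) (nat_lit 3075))
)))) (.node (nat_lit 0x1072143) (.node (nat_lit 0x107209d) (.node (nat_lit 0x107209b) (.leaf (nat_lit 0x1072099) (nat_lit 3074))
 (.leaf (nat_lit 0x107209b) (nat_lit 2818))
) (.node (nat_lit 0x107209f) (.leaf (nat_lit 0x107209d) (nat_lit 2818))
 (.node (nat_lit 0x1072141) (.leaf (nat_lit 0x107209f) (nat_lit 2818))
 (.leaf (nat_lit 0x1072141) (nat_lit 1025))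
))) (.node (nat_lit 0x1072149) (.node (nat_lit 0x1072145) (.leaf (nat_lit 0x1072143) (nat_lit 1281))
 (.node (nat_lit 0x1072147) (.leaf (nat_lit 0x1072145) (nat_lit 1793))
 (.leaf (nat_lit 0x1072147) (nat_lit 1793))
)) (.node (nat_lit 0x107214b) (.leaf (nat_lit 0x1072149) (nat_lit 1536))
 (.node (nat_lit 0x107214d) (.leaf (nat_lit 0x107214b) (nat_lit 1280))
 (.leaf (nat_lit 0x107214d) (nat_lit 2048))
))))) (.node (nat_lit 0x1072183) (.node (nat_lit 0x1072159) (.node (nat_lit 0x1072153) (.node (nat_lit 0x1072151) (.leaf (nat_lit 0x107214f) (nat_lit 2048))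
 (.leaf (nat_lit 0x1072151) (nat_lit 3072))
) (.node (nat_lit 0x1072155) (.leaf (nat_lit 0x1072153) (nat_lit 3328))
 (.node (nat_lit 0x1072157) (.leaf (nat_lit 0x1072155) (nat_lit 2819))
 (.leaf (nat_lit 0x1072157) (nat_lit 3075))
))) (.node (nat_lit 0x107215d) (.node (nat_lit 0x107215b) (.leaf (nat_lit 0x1072159) (nat_lit 3073))
 (.leaf (nat_lit 0x107215b) (nat_lit 2817))
) (.node (nat_lit 0x107215f) (.leaf (nat_lit 0x107215d) (nat_lit 2819))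
 (.node (nat_lit 0x1072181) (.leaf (nat_lit 0x107215f) (nat_lit 2817))
 (.leaf (nat_lit 0x1072181) (nat_lit 1281))
)))) (.node (nat_lit 0x107218d) (.node (nat_lit 0x1072187) (.node (nat_lit 0x1072185) (.leaf (nat_lit 0x1072183) (nat_lit 1537))
 (.leaf (nat_lit 0x1072185) (nat_lit 1537))
) (.node (nat_lit 0x1072189) (.leaf (nat_lit 0x1072187) (nat_lit 1793))
 (.node (nat_lit 0x107218b) (.leaf (nat_lit 0x1072189) (nat_lit 1792))
 (.leaf (nat_lit 0x107218b) (nat_lit 2048))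
))) (.node (nat_lit 0x1072193) (.node (nat_lit 0x107218f) (.leaf (nat_lit 0x107218d) (nat_lit 1536))
 (.node (nat_lit 0x1072191) (.leaf (nat_lit 0x107218f) (nat_lit 1792))
 (.leaf (nat_lit 0x1072191) (nat_lit 3331))
)) (.node (nat_lit 0x1072195) (.leaf (nat_lit 0x1072193) (nat_lit 3075))
 (.node (nat_lit 0x1072197) (.leaf (nat_lit 0x1072195) (nat_lit 3330))
 (.leaf (nat_lit 0x1072197) (nat_lit 3330))
))))))) (.node (nat_lit 0x107234d) (.node (nat_lit 0x1072283) (.node (nat_lit 0x107224d) (.node (nat_lit 0x1072243) (.node (nat_lit 0x107219d) (.node (nat_lit 0x107219b) (.leaf (nat_lit 0x1072199) (nat_lit 3331))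
 (.leaf (nat_lit 0x107219b) (nat_lit 3075))
) (.node (nat_lit 0x107219f) (.leaf (nat_lit 0x107219d) (nat_lit 3073))
 (.node (nat_lit 0x1072241) (.leaf (nat_lit 0x107219f) (nat_lit 3073))
 (.leaf (nat_lit 0x1072241) (nat_lit 2306))
))) (.node (nat_lit 0x1072247) (.node (nat_lit 0x1072245) (.leaf (nat_lit 0x1072243) (nat_lit 2562))
 (.leaf (nat_lit 0x1072245) (nat_lit 2563))
) (.node (nat_lit 0x1072249) (.leaf (nat_lit 0x1072247) (nat_lit 2562))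
 (.node (nat_lit 0x107224b) (.leaf (nat_lit 0x1072249) (nat_lit 2816))
 (.leaf (nat_lit 0x107224b) (nat_lit 3072))
)))) (.node (nat_lit 0x1072257) (.node (nat_lit 0x1072251) (.node (nat_lit 0x107224f) (.leaf (nat_lit 0x107224d) (nat_lit 3075))
 (.leaf (nat_lit 0x107224f) (nat_lit 3072))
) (.node (nat_lit 0x1072253) (.leaf (nat_lit 0x1072251) (nat_lit 2818))
 (.node (nat_lit 0x1072255) (.leaf (nat_lit 0x1072253) (nat_lit 2562))
 (.leaf (nat_lit 0x1072255) (nat_lit 2818))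
))) (.node (nat_lit 0x107225d) (.node (nat_lit 0x1072259) (.leaf (nat_lit 0x1072257) (nat_lit 2819))
 (.node (nat_lit 0x107225b) (.leaf (nat_lit 0x1072259) (nat_lit 2817))
 (.leaf (nat_lit 0x107225b) (nat_lit 2561))
)) (.node (nat_lit 0x107225f) (.leaf (nat_lit 0x107225d) (nat_lit 2817))
 (.node (nat_lit 0x1072281) (.leaf (nat_lit 0x107225f) (nat_lit 3073))
 (.leaf (nat_lit 0x1072281) (nat_lit 2051))
))))) (.node (nat_lit 0x1072297) (.node (nat_lit 0x107228d) (.node (nat_lit 0x1072287) (.node (nat_lit 0x1072285) (.leaf (nat_lit 0x1072283) (nat_lit 2307))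
 (.leaf (nat_lit 0x1072285) (nat_lit 2817))
) (.node (nat_lit 0x1072289) (.leaf (nat_lit 0x1072287) (nat_lit 2819))
 (.node (nat_lit 0x107228b) (.leaf (nat_lit 0x1072289) (nat_lit 2816))
 (.leaf (nat_lit 0x107228b) (nat_lit 2819))
))) (.node (nat_lit 0x1072291) (.node (nat_lit 0x107228f) (.leaf (nat_lit 0x107228d) (nat_lit 3075))
 (.leaf (nat_lit 0x107228f) (nat_lit 3072))
) (.node (nat_lit 0x1072293) (.leaf (nat_lit 0x1072291) (nat_lit 3074))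
 (.node (nat_lit 0x1072295) (.leaf (nat_lit 0x1072293) (nat_lit 2818))
 (.leaf (nat_lit 0x1072295) (nat_lit 2307))
)))) (.node (nat_lit 0x1072341) (.node (nat_lit 0x107229b) (.node (nat_lit 0x1072299) (.leaf (nat_lit 0x1072297) (nat_lit 2563))
 (.leaf (nat_lit 0x1072299) (nat_lit 3073))
) (.node (nat_lit 0x107229d) (.leaf (nat_lit 0x107229b) (nat_lit 2817))
 (.node (nat_lit 0x107229f) (.leaf (nat_lit 0x107229d) (nat_lit 2561))
 (.leaf (nat_lit 0x107229f) (nat_lit 2817))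
))) (.node (nat_lit 0x1072347) (.node (nat_lit 0x1072343) (.leaf (nat_lit 0x1072341) (nat_lit 2050))
 (.node (nat_lit 0x1072345) (.leaf (nat_lit 0x1072343) (nat_lit 2306))
 (.leaf (nat_lit 0x1072345) (nat_lit 2562))
)) (.node (nat_lit 0x1072349) (.leaf (nat_lit 0x1072347) (nat_lit 2306))
 (.node (nat_lit 0x107234b) (.leaf (nat_lit 0x1072349) (nat_lit 2821))
 (.leaf (nat_lit 0x107234b) (nat_lit 3077))
)))))) (.node (nat_lit 0x1072397) (.node (nat_lit 0x1072381) (.node (nat_lit 0x1072357) (.node (nat_lit 0x1072351) (.node (nat_lit 0x107234f) (.leaf (nat_lit 0x107234d) (nat_lit 2819))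
 (.leaf (nat_lit 0x107234f) (nat_lit 2818))
) (.node (nat_lit 0x1072353) (.leaf (nat_lit 0x1072351) (nat_lit 3073))
 (.node (nat_lit 0x1072355) (.leaf (nat_lit 0x1072353) (nat_lit 2817))
 (.leaf (nat_lit 0x1072355) (nat_lit 3073))
))) (.node (nat_lit 0x107235b) (.node (nat_lit 0x1072359) (.leaf (nat_lit 0x1072357) (nat_lit 3075))
 (.leaf (nat_lit 0x1072359) (nat_lit 2562))
) (.node (nat_lit 0x107235d) (.leaf (nat_lit 0x107235b) (nat_lit 2306))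
 (.node (nat_lit 0x107235f) (.leaf (nat_lit 0x107235d) (nat_lit 2562))
 (.leaf (nat_lit 0x107235f) (nat_lit 2818))
)))) (.node (nat_lit 0x107238b) (.node (nat_lit 0x1072385) (.node (nat_lit 0x1072383) (.leaf (nat_lit 0x1072381) (nat_lit 2050))
 (.leaf (nat_lit 0x1072383) (nat_lit 2306))
) (.node (nat_lit 0x1072387) (.leaf (nat_lit 0x1072385) (nat_lit 2562))
 (.node (nat_lit 0x1072389) (.leaf (nat_lit 0x1072387) (nat_lit 2562))
 (.leaf (nat_lit 0x1072389) (nat_lit 2819))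
))) (.node (nat_lit 0x1072391) (.node (nat_lit 0x107238d) (.leaf (nat_lit 0x107238b) (nat_lit 2563))
 (.node (nat_lit 0x107238f) (.leaf (nat_lit 0x107238d) (nat_lit 3330))
 (.leaf (nat_lit 0x107238f) (nat_lit 3074))
)) (.node (nat_lit 0x1072393) (.leaf (nat_lit 0x1072391) (nat_lit 3329))
 (.node (nat_lit 0x1072395) (.leaf (nat_lit 0x1072393) (nat_lit 3073))
 (.leaf (nat_lit 0x1072395) (nat_lit 2563))
))))) (.node (nat_lit 0x107284b) (.node (nat_lit 0x1072841) (.node (nat_lit 0x107239b) (.node (nat_lit 0x1072399) (.leaf (nat_lit 0x1072397) (nat_lit 2819))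
 (.leaf (nat_lit 0x1072399) (nat_lit 2818))
) (.node (nat_lit 0x107239d) (.leaf (nat_lit 0x107239b) (nat_lit 2562))
 (.node (nat_lit 0x107239f) (.leaf (nat_lit 0x107239d) (nat_lit 2306))
 (.leaf (nat_lit 0x107239f) (nat_lit 2562))
))) (.node (nat_lit 0x1072845) (.node (nat_lit 0x1072843) (.leaf (nat_lit 0x1072841) (nat_lit 1029))
 (.leaf (nat_lit 0x1072843) (nat_lit 1285))
) (.node (nat_lit 0x1072847) (.leaf (nat_lit 0x1072845) (nat_lit 1797))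
 (.node (nat_lit 0x1072849) (.leaf (nat_lit 0x1072847) (nat_lit 1797))
 (.leaf (nat_lit 0x1072849) (nat_lit 1793))
)))) (.node (nat_lit 0x1072855) (.node (nat_lit 0x107284f) (.node (nat_lit 0x107284d) (.leaf (nat_lit 0x107284b) (nat_lit 1797))
 (.leaf (nat_lit 0x107284d) (nat_lit 2052))
) (.node (nat_lit 0x1072851) (.leaf (nat_lit 0x107284f) (nat_lit 2052))
 (.node (nat_lit 0x1072853) (.leaf (nat_lit 0x1072851) (nat_lit 3587))
 (.leaf (nat_lit 0x1072853) (nat_lit 3589))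
))) (.node (nat_lit 0x107285b) (.node (nat_lit 0x1072857) (.leaf (nat_lit 0x1072855) (nat_lit 2821))
 (.node (nat_lit 0x1072859) (.leaf (nat_lit 0x1072857) (nat_lit 2819))
 (.leaf (nat_lit 0x1072859) (nat_lit 2818))
)) (.node (nat_lit 0x107285d) (.leaf (nat_lit 0x107285b) (nat_lit 2821))
 (.node (nat_lit 0x107285f) (.leaf (nat_lit 0x107285d) (nat_lit 2820))
 (.leaf (nat_lit 0x107285f) (nat_lit 2821))
))))))))) (.node (nat_lit 0x1073151) (.node (nat_lit 0x1072b09) (.node (nat_lit 0x1072995) (.node (nat_lit 0x107290b) (.node (nat_lit 0x10728d5) (.node (nat_lit 0x10728cb) (.node (nat_lit 0x10728c5) (.node (nat_lit 0x10728c3) (.leaf (nat_lit 0x10728c1) (nat_lit 1284))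
 (.leaf (nat_lit 0x10728c3) (nat_lit 1540))
) (.node (nat_lit 0x10728c7) (.leaf (nat_lit 0x10728c5) (nat_lit 1796))
 (.node (nat_lit 0x10728c9) (.leaf (nat_lit 0x10728c7) (nat_lit 1540))
 (.leaf (nat_lit 0x10728c9) (nat_lit 2308))
))) (.node (nat_lit 0x10728cf) (.node (nat_lit 0x10728cd) (.leaf (nat_lit 0x10728cb) (nat_lit 2052))
 (.leaf (nat_lit 0x10728cd) (nat_lit 2052))
) (.node (nat_lit 0x10728d1) (.leaf (nat_lit 0x10728cf) (nat_lit 2308))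
 (.node (nat_lit 0x10728d3) (.leaf (nat_lit 0x10728d1) (nat_lit 3332))
 (.leaf (nat_lit 0x10728d3) (nat_lit 3076))
)))) (.node (nat_lit 0x10728df) (.node (nat_lit 0x10728d9) (.node (nat_lit 0x10728d7) (.leaf (nat_lit 0x10728d5) (nat_lit 3332))
 (.leaf (nat_lit 0x10728d7) (nat_lit 3588))
) (.node (nat_lit 0x10728db) (.leaf (nat_lit 0x10728d9) (nat_lit 3076))
 (.node (nat_lit 0x10728dd) (.leaf (nat_lit 0x10728db) (nat_lit 3076))
 (.leaf (nat_lit 0x10728dd) (nat_lit 3074))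
))) (.node (nat_lit 0x1072905) (.node (nat_lit 0x1072901) (.leaf (nat_lit 0x10728df) (nat_lit 3076))
 (.node (nat_lit 0x1072903) (.leaf (nat_lit 0x1072901) (nat_lit 1281))
 (.leaf (nat_lit 0x1072903) (nat_lit 1537))
)) (.node (nat_lit 0x1072907) (.leaf (nat_lit 0x1072905) (nat_lit 2049))
 (.node (nat_lit 0x1072909) (.leaf (nat_lit 0x1072907) (nat_lit 2049))
 (.leaf (nat_lit 0x1072909) (nat_lit 1536))
))))) (.node (nat_lit 0x107291f) (.node (nat_lit 0x1072915) (.node (nat_lit 0x107290f) (.node (nat_lit 0x107290d) (.leaf (nat_lit 0x107290b) (nat_lit 1792))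
 (.leaf (nat_lit 0x107290d) (nat_lit 2308))
) (.node (nat_lit 0x1072911) (.leaf (nat_lit 0x107290f) (nat_lit 2304))
 (.node (nat_lit 0x1072913) (.leaf (nat_lit 0x1072911) (nat_lit 3328))
 (.leaf (nat_lit 0x1072913) (nat_lit 3328))
))) (.node (nat_lit 0x1072919) (.node (nat_lit 0x1072917) (.leaf (nat_lit 0x1072915) (nat_lit 3073))
 (.leaf (nat_lit 0x1072917) (nat_lit 3075))
) (.node (nat_lit 0x107291b) (.leaf (nat_lit 0x1072919) (nat_lit 3073))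
 (.node (nat_lit 0x107291d) (.leaf (nat_lit 0x107291b) (nat_lit 3073))
 (.leaf (nat_lit 0x107291d) (nat_lit 3076))
)))) (.node (nat_lit 0x1072989) (.node (nat_lit 0x1072983) (.node (nat_lit 0x1072981) (.leaf (nat_lit 0x107291f) (nat_lit 3073))
 (.leaf (nat_lit 0x1072981) (nat_lit 1540))
) (.node (nat_lit 0x1072985) (.leaf (nat_lit 0x1072983) (nat_lit 1796))
 (.node (nat_lit 0x1072987) (.leaf (nat_lit 0x1072985) (nat_lit 2052))
 (.leaf (nat_lit 0x1072987) (nat_lit 1796))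
))) (.node (nat_lit 0x107298f) (.node (nat_lit 0x107298b) (.leaf (nat_lit 0x1072989) (nat_lit 2308))
 (.node (nat_lit 0x107298d) (.leaf (nat_lit 0x107298b) (nat_lit 2052))
 (.leaf (nat_lit 0x107298d) (nat_lit 1796))
)) (.node (nat_lit 0x1072991) (.leaf (nat_lit 0x107298f) (nat_lit 2052))
 (.node (nat_lit 0x1072993) (.leaf (nat_lit 0x1072991) (nat_lit 3588))
 (.leaf (nat_lit 0x1072993) (nat_lit 3332))
)))))) (.node (nat_lit 0x1072a5f) (.node (nat_lit 0x1072a49) (.node (nat_lit 0x107299f) (.node (nat_lit 0x1072999) (.node (nat_lit 0x1072997) (.leaf (nat_lit 0x1072995) (nat_lit 3333))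
 (.leaf (nat_lit 0x1072997) (nat_lit 3332))
) (.node (nat_lit 0x107299b) (.leaf (nat_lit 0x1072999) (nat_lit 3332))
 (.node (nat_lit 0x107299d) (.leaf (nat_lit 0x107299b) (nat_lit 3332))
 (.leaf (nat_lit 0x107299d) (nat_lit 3329))
))) (.node (nat_lit 0x1072a43) (.node (nat_lit 0x1072a41) (.leaf (nat_lit 0x107299f) (nat_lit 3332))
 (.leaf (nat_lit 0x1072a41) (nat_lit 2309))
) (.node (nat_lit 0x1072a45) (.leaf (nat_lit 0x1072a43) (nat_lit 2565))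
 (.node (nat_lit 0x1072a47) (.leaf (nat_lit 0x1072a45) (nat_lit 2565))
 (.leaf (nat_lit 0x1072a47) (nat_lit 2821))
)))) (.node (nat_lit 0x1072a53) (.node (nat_lit 0x1072a4d) (.node (nat_lit 0x1072a4b) (.leaf (nat_lit 0x1072a49) (nat_lit 3076))
 (.leaf (nat_lit 0x1072a4b) (nat_lit 2820))
) (.node (nat_lit 0x1072a4f) (.leaf (nat_lit 0x1072a4d) (nat_lit 3076))
 (.node (nat_lit 0x1072a51) (.leaf (nat_lit 0x1072a4f) (nat_lit 2820))
 (.leaf (nat_lit 0x1072a51) (nat_lit 2821))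
))) (.node (nat_lit 0x1072a59) (.node (nat_lit 0x1072a55) (.leaf (nat_lit 0x1072a53) (nat_lit 2565))
 (.node (nat_lit 0x1072a57) (.leaf (nat_lit 0x1072a55) (nat_lit 3077))
 (.leaf (nat_lit 0x1072a57) (nat_lit 2821))
)) (.node (nat_lit 0x1072a5b) (.leaf (nat_lit 0x1072a59) (nat_lit 2817))
 (.node (nat_lit 0x1072a5d) (.leaf (nat_lit 0x1072a5b) (nat_lit 3073))
 (.leaf (nat_lit 0x1072a5d) (nat_lit 3076))
))))) (.node (nat_lit 0x1072ad3) (.node (nat_lit 0x1072ac9) (.node (nat_lit 0x1072ac3) (.node (nat_lit 0x1072ac1) (.leaf (nat_lit 0x1072a5f) (nat_lit 3332))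
 (.leaf (nat_lit 0x1072ac1) (nat_lit 2307))
) (.node (nat_lit 0x1072ac5) (.leaf (nat_lit 0x1072ac3) (nat_lit 2563))
 (.node (nat_lit 0x1072ac7) (.leaf (nat_lit 0x1072ac5) (nat_lit 2817))
 (.leaf (nat_lit 0x1072ac7) (nat_lit 2820))
))) (.node (nat_lit 0x1072acd) (.node (nat_lit 0x1072acb) (.leaf (nat_lit 0x1072ac9) (nat_lit 3076))
 (.leaf (nat_lit 0x1072acb) (nat_lit 2820))
) (.node (nat_lit 0x1072acf) (.leaf (nat_lit 0x1072acd) (nat_lit 3076))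
 (.node (nat_lit 0x1072ad1) (.leaf (nat_lit 0x1072acf) (nat_lit 2820))
 (.leaf (nat_lit 0x1072ad1) (nat_lit 3074))
)))) (.node (nat_lit 0x1072add) (.node (nat_lit 0x1072ad7) (.node (nat_lit 0x1072ad5) (.leaf (nat_lit 0x1072ad3) (nat_lit 2818))
 (.leaf (nat_lit 0x1072ad5) (nat_lit 2819))
) (.node (nat_lit 0x1072ad9) (.leaf (nat_lit 0x1072ad7) (nat_lit 2563))
 (.node (nat_lit 0x1072adb) (.leaf (nat_lit 0x1072ad9) (nat_lit 3076))
 (.leaf (nat_lit 0x1072adb) (nat_lit 3332))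
))) (.node (nat_lit 0x1072b03) (.node (nat_lit 0x1072adf) (.leaf (nat_lit 0x1072add) (nat_lit 2820))
 (.node (nat_lit 0x1072b01) (.leaf (nat_lit 0x1072adf) (nat_lit 3076))
 (.leaf (nat_lit 0x1072b01) (nat_lit 2306))
)) (.node (nat_lit 0x1072b05) (.leaf (nat_lit 0x1072b03) (nat_lit 2562))
 (.node (nat_lit 0x1072b07) (.leaf (nat_lit 0x1072b05) (nat_lit 2818))
 (.leaf (nat_lit 0x1072b07) (nat_lit 2820))
))))))) (.node (nat_lit 0x107309d) (.node (nat_lit 0x1072b93) (.node (nat_lit 0x1072b1d) (.node (nat_lit 0x1072b13) (.node (nat_lit 0x1072b0d) (.node (nat_lit 0x1072b0b) (.leaf (nat_lit 0x1072b09) (nat_lit 3077))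
 (.leaf (nat_lit 0x1072b0b) (nat_lit 2821))
) (.node (nat_lit 0x1072b0f) (.leaf (nat_lit 0x1072b0d) (nat_lit 3075))
 (.node (nat_lit 0x1072b11) (.leaf (nat_lit 0x1072b0f) (nat_lit 3077))
 (.leaf (nat_lit 0x1072b11) (nat_lit 3073))
))) (.node (nat_lit 0x1072b17) (.node (nat_lit 0x1072b15) (.leaf (nat_lit 0x1072b13) (nat_lit 2817))
 (.leaf (nat_lit 0x1072b15) (nat_lit 3332))
) (.node (nat_lit 0x1072b19) (.leaf (nat_lit 0x1072b17) (nat_lit 3076))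
 (.node (nat_lit 0x1072b1b) (.leaf (nat_lit 0x1072b19) (nat_lit 2562))
 (.leaf (nat_lit 0x1072b1b) (nat_lit 2818))
)))) (.node (nat_lit 0x1072b87) (.node (nat_lit 0x1072b81) (.node (nat_lit 0x1072b1f) (.leaf (nat_lit 0x1072b1d) (nat_lit 2818))
 (.leaf (nat_lit 0x1072b1f) (nat_lit 3074))
) (.node (nat_lit 0x1072b83) (.leaf (nat_lit 0x1072b81) (nat_lit 2308))
 (.node (nat_lit 0x1072b85) (.leaf (nat_lit 0x1072b83) (nat_lit 2564))
 (.leaf (nat_lit 0x1072b85) (nat_lit 2565))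
))) (.node (nat_lit 0x1072b8d) (.node (nat_lit 0x1072b89) (.leaf (nat_lit 0x1072b87) (nat_lit 2821))
 (.node (nat_lit 0x1072b8b) (.leaf (nat_lit 0x1072b89) (nat_lit 2821))
 (.leaf (nat_lit 0x1072b8b) (nat_lit 2565))
)) (.node (nat_lit 0x1072b8f) (.leaf (nat_lit 0x1072b8d) (nat_lit 3077))
 (.node (nat_lit 0x1072b91) (.leaf (nat_lit 0x1072b8f) (nat_lit 2821))
 (.leaf (nat_lit 0x1072b91) (nat_lit 3333))
))))) (.node (nat_lit 0x1073087) (.node (nat_lit 0x1072b9d) (.node (nat_lit 0x1072b97) (.node (nat_lit 0x1072b95) (.leaf (nat_lit 0x1072b93) (nat_lit 3077))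
 (.leaf (nat_lit 0x1072b95) (nat_lit 3077))
) (.node (nat_lit 0x1072b99) (.leaf (nat_lit 0x1072b97) (nat_lit 2821))
 (.node (nat_lit 0x1072b9b) (.leaf (nat_lit 0x1072b99) (nat_lit 2821))
 (.leaf (nat_lit 0x1072b9b) (nat_lit 3077))
))) (.node (nat_lit 0x1073081) (.node (nat_lit 0x1072b9f) (.leaf (nat_lit 0x1072b9d) (nat_lit 2564))
 (.leaf (nat_lit 0x1072b9f) (nat_lit 2820))
) (.node (nat_lit 0x1073083) (.leaf (nat_lit 0x1073081) (nat_lit 1285))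
 (.node (nat_lit 0x1073085) (.leaf (nat_lit 0x1073083) (nat_lit 1541))
 (.leaf (nat_lit 0x1073085) (nat_lit 1541))
)))) (.node (nat_lit 0x1073091) (.node (nat_lit 0x107308b) (.node (nat_lit 0x1073089) (.leaf (nat_lit 0x1073087) (nat_lit 1797))
 (.leaf (nat_lit 0x1073089) (nat_lit 2049))
) (.node (nat_lit 0x107308d) (.leaf (nat_lit 0x107308b) (nat_lit 2305))
 (.node (nat_lit 0x107308f) (.leaf (nat_lit 0x107308d) (nat_lit 2053))
 (.leaf (nat_lit 0x107308f) (nat_lit 2309))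
))) (.node (nat_lit 0x1073097) (.node (nat_lit 0x1073093) (.leaf (nat_lit 0x1073091) (nat_lit 3333))
 (.node (nat_lit 0x1073095) (.leaf (nat_lit 0x1073093) (nat_lit 3077))
 (.leaf (nat_lit 0x1073095) (nat_lit 3331))
)) (.node (nat_lit 0x1073099) (.leaf (nat_lit 0x1073097) (nat_lit 3075))
 (.node (nat_lit 0x107309b) (.leaf (nat_lit 0x1073099) (nat_lit 3074))
 (.leaf (nat_lit 0x107309b) (nat_lit 3074))
)))))) (.node (nat_lit 0x1073107) (.node (nat_lit 0x10730d1) (.node (nat_lit 0x10730c7) (.node (nat_lit 0x10730c1) (.node (nat_lit 0x107309f) (.leaf (nat_lit 0x107309d) (nat_lit 3077))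
 (.leaf (nat_lit 0x107309f) (nat_lit 3077))
) (.node (nat_lit 0x10730c3) (.leaf (nat_lit 0x10730c1) (nat_lit 1282))
 (.node (nat_lit 0x10730c5) (.leaf (nat_lit 0x10730c3) (nat_lit 1538))
 (.leaf (nat_lit 0x10730c5) (nat_lit 1794))
))) (.node (nat_lit 0x10730cb) (.node (nat_lit 0x10730c9) (.leaf (nat_lit 0x10730c7) (nat_lit 1538))
 (.leaf (nat_lit 0x10730c9) (nat_lit 2305))
) (.node (nat_lit 0x10730cd) (.leaf (nat_lit 0x10730cb) (nat_lit 2049))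
 (.node (nat_lit 0x10730cf) (.leaf (nat_lit 0x10730cd) (nat_lit 2305))
 (.leaf (nat_lit 0x10730cf) (nat_lit 2561))
)))) (.node (nat_lit 0x10730db) (.node (nat_lit 0x10730d5) (.node (nat_lit 0x10730d3) (.leaf (nat_lit 0x10730d1) (nat_lit 3331))
 (.leaf (nat_lit 0x10730d3) (nat_lit 3075))
) (.node (nat_lit 0x10730d7) (.leaf (nat_lit 0x10730d5) (nat_lit 3075))
 (.node (nat_lit 0x10730d9) (.leaf (nat_lit 0x10730d7) (nat_lit 3331))
 (.leaf (nat_lit 0x10730d9) (nat_lit 3074))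
))) (.node (nat_lit 0x1073101) (.node (nat_lit 0x10730dd) (.leaf (nat_lit 0x10730db) (nat_lit 3074))
 (.node (nat_lit 0x10730df) (.leaf (nat_lit 0x10730dd) (nat_lit 3330))
 (.leaf (nat_lit 0x10730df) (nat_lit 3074))
)) (.node (nat_lit 0x1073103) (.leaf (nat_lit 0x1073101) (nat_lit 1537))
 (.node (nat_lit 0x1073105) (.leaf (nat_lit 0x1073103) (nat_lit 1793))
 (.leaf (nat_lit 0x1073105) (nat_lit 1793))
))))) (.node (nat_lit 0x107311b) (.node (nat_lit 0x1073111) (.node (nat_lit 0x107310b) (.node (nat_lit 0x1073109) (.leaf (nat_lit 0x1073107) (nat_lit 2049))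
 (.leaf (nat_lit 0x1073109) (nat_lit 1792))
) (.node (nat_lit 0x107310d) (.leaf (nat_lit 0x107310b) (nat_lit 2048))
 (.node (nat_lit 0x107310f) (.leaf (nat_lit 0x107310d) (nat_lit 2048))
 (.leaf (nat_lit 0x107310f) (nat_lit 2304))
))) (.node (nat_lit 0x1073115) (.node (nat_lit 0x1073113) (.leaf (nat_lit 0x1073111) (nat_lit 3585))
 (.leaf (nat_lit 0x1073113) (nat_lit 3329))
) (.node (nat_lit 0x1073117) (.leaf (nat_lit 0x1073115) (nat_lit 3330))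
 (.node (nat_lit 0x1073119) (.leaf (nat_lit 0x1073117) (nat_lit 3330))
 (.leaf (nat_lit 0x1073119) (nat_lit 3329))
)))) (.node (nat_lit 0x1073145) (.node (nat_lit 0x107311f) (.node (nat_lit 0x107311d) (.leaf (nat_lit 0x107311b) (nat_lit 3331))
 (.leaf (nat_lit 0x107311d) (nat_lit 3329))
) (.node (nat_lit 0x1073141) (.leaf (nat_lit 0x107311f) (nat_lit 3329))
 (.node (nat_lit 0x1073143) (.leaf (nat_lit 0x1073141) (nat_lit 1541))
 (.leaf (nat_lit 0x1073143) (nat_lit 1797))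
))) (.node (nat_lit 0x107314b) (.node (nat_lit 0x1073147) (.leaf (nat_lit 0x1073145) (nat_lit 2053))
 (.node (nat_lit 0x1073149) (.leaf (nat_lit 0x1073147) (nat_lit 1797))
 (.leaf (nat_lit 0x1073149) (nat_lit 2053))
)) (.node (nat_lit 0x107314d) (.leaf (nat_lit 0x107314b) (nat_lit 1797))
 (.node (nat_lit 0x107314f) (.leaf (nat_lit 0x107314d) (nat_lit 2053))
 (.leaf (nat_lit 0x107314f) (nat_lit 2309))
)))))))) (.node (nat_lit 0x1074899) (.node (nat_lit 0x1073305) (.node (nat_lit 0x107329b) (.node (nat_lit 0x1073285) (.node (nat_lit 0x107315b) (.node (nat_lit 0x1073155) (.node (nat_lit 0x1073153) (.leaf (nat_lit 0x1073151) (nat_lit 3589))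
 (.leaf (nat_lit 0x1073153) (nat_lit 3333))
) (.node (nat_lit 0x1073157) (.leaf (nat_lit 0x1073155) (nat_lit 3333))
 (.node (nat_lit 0x1073159) (.leaf (nat_lit 0x1073157) (nat_lit 3330))
 (.leaf (nat_lit 0x1073159) (nat_lit 3331))
))) (.node (nat_lit 0x107315f) (.node (nat_lit 0x107315d) (.leaf (nat_lit 0x107315b) (nat_lit 3333))
 (.leaf (nat_lit 0x107315d) (nat_lit 3333))
) (.node (nat_lit 0x1073281) (.leaf (nat_lit 0x107315f) (nat_lit 3333))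
 (.node (nat_lit 0x1073283) (.leaf (nat_lit 0x1073281) (nat_lit 2053))
 (.leaf (nat_lit 0x1073283) (nat_lit 2309))
)))) (.node (nat_lit 0x107328f) (.node (nat_lit 0x1073289) (.node (nat_lit 0x1073287) (.leaf (nat_lit 0x1073285) (nat_lit 2821))
 (.leaf (nat_lit 0x1073287) (nat_lit 2821))
) (.node (nat_lit 0x107328b) (.leaf (nat_lit 0x1073289) (nat_lit 3333))
 (.node (nat_lit 0x107328d) (.leaf (nat_lit 0x107328b) (nat_lit 3077))
 (.leaf (nat_lit 0x107328d) (nat_lit 2565))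
))) (.node (nat_lit 0x1073295) (.node (nat_lit 0x1073291) (.leaf (nat_lit 0x107328f) (nat_lit 2821))
 (.node (nat_lit 0x1073293) (.leaf (nat_lit 0x1073291) (nat_lit 3077))
 (.leaf (nat_lit 0x1073293) (nat_lit 3077))
)) (.node (nat_lit 0x1073297) (.leaf (nat_lit 0x1073295) (nat_lit 2309))
 (.node (nat_lit 0x1073299) (.leaf (nat_lit 0x1073297) (nat_lit 2565))
 (.leaf (nat_lit 0x1073299) (nat_lit 2817))
))))) (.node (nat_lit 0x10732cf) (.node (nat_lit 0x10732c5) (.node (nat_lit 0x107329f) (.node (nat_lit 0x107329d) (.leaf (nat_lit 0x107329b) (nat_lit 2817))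
 (.leaf (nat_lit 0x107329d) (nat_lit 3333))
) (.node (nat_lit 0x10732c1) (.leaf (nat_lit 0x107329f) (nat_lit 3329))
 (.node (nat_lit 0x10732c3) (.leaf (nat_lit 0x10732c1) (nat_lit 2050))
 (.leaf (nat_lit 0x10732c3) (nat_lit 2306))
))) (.node (nat_lit 0x10732c9) (.node (nat_lit 0x10732c7) (.leaf (nat_lit 0x10732c5) (nat_lit 2819))
 (.leaf (nat_lit 0x10732c7) (nat_lit 2818))
) (.node (nat_lit 0x10732cb) (.leaf (nat_lit 0x10732c9) (nat_lit 3330))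
 (.node (nat_lit 0x10732cd) (.leaf (nat_lit 0x10732cb) (nat_lit 3074))
 (.leaf (nat_lit 0x10732cd) (nat_lit 2565))
)))) (.node (nat_lit 0x10732d9) (.node (nat_lit 0x10732d3) (.node (nat_lit 0x10732d1) (.leaf (nat_lit 0x10732cf) (nat_lit 2821))
 (.leaf (nat_lit 0x10732d1) (nat_lit 3074))
) (.node (nat_lit 0x10732d5) (.leaf (nat_lit 0x10732d3) (nat_lit 3075))
 (.node (nat_lit 0x10732d7) (.leaf (nat_lit 0x10732d5) (nat_lit 2562))
 (.leaf (nat_lit 0x10732d7) (nat_lit 2306))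
))) (.node (nat_lit 0x10732df) (.node (nat_lit 0x10732db) (.leaf (nat_lit 0x10732d9) (nat_lit 2817))
 (.node (nat_lit 0x10732dd) (.leaf (nat_lit 0x10732db) (nat_lit 2561))
 (.leaf (nat_lit 0x10732dd) (nat_lit 3329))
)) (.node (nat_lit 0x1073301) (.leaf (nat_lit 0x10732df) (nat_lit 3330))
 (.node (nat_lit 0x1073303) (.leaf (nat_lit 0x1073301) (nat_lit 2305))
 (.leaf (nat_lit 0x1073303) (nat_lit 2561))
)))))) (.node (nat_lit 0x107334f) (.node (nat_lit 0x1073319) (.node (nat_lit 0x107330f) (.node (nat_lit 0x1073309) (.node (nat_lit 0x1073307) (.leaf (nat_lit 0x1073305) (nat_lit 2818))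
 (.leaf (nat_lit 0x1073307) (nat_lit 2818))
) (.node (nat_lit 0x107330b) (.leaf (nat_lit 0x1073309) (nat_lit 3331))
 (.node (nat_lit 0x107330d) (.leaf (nat_lit 0x107330b) (nat_lit 3075))
 (.leaf (nat_lit 0x107330d) (nat_lit 2816))
))) (.node (nat_lit 0x1073313) (.node (nat_lit 0x1073311) (.leaf (nat_lit 0x107330f) (nat_lit 3072))
 (.leaf (nat_lit 0x1073311) (nat_lit 3329))
) (.node (nat_lit 0x1073315) (.leaf (nat_lit 0x1073313) (nat_lit 3329))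
 (.node (nat_lit 0x1073317) (.leaf (nat_lit 0x1073315) (nat_lit 2561))
 (.leaf (nat_lit 0x1073317) (nat_lit 2817))
)))) (.node (nat_lit 0x1073343) (.node (nat_lit 0x107331d) (.node (nat_lit 0x107331b) (.leaf (nat_lit 0x1073319) (nat_lit 2560))
 (.leaf (nat_lit 0x107331b) (nat_lit 2562))
) (.node (nat_lit 0x107331f) (.leaf (nat_lit 0x107331d) (nat_lit 3074))
 (.node (nat_lit 0x1073341) (.leaf (nat_lit 0x107331f) (nat_lit 3074))
 (.leaf (nat_lit 0x1073341) (nat_lit 2053))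
))) (.node (nat_lit 0x1073349) (.node (nat_lit 0x1073345) (.leaf (nat_lit 0x1073343) (nat_lit 2309))
 (.node (nat_lit 0x1073347) (.leaf (nat_lit 0x1073345) (nat_lit 2821))
 (.leaf (nat_lit 0x1073347) (nat_lit 2821))
)) (.node (nat_lit 0x107334b) (.leaf (nat_lit 0x1073349) (nat_lit 3077))
 (.node (nat_lit 0x107334d) (.leaf (nat_lit 0x107334b) (nat_lit 3077))
 (.leaf (nat_lit 0x107334d) (nat_lit 2309))
))))) (.node (nat_lit 0x1074883) (.node (nat_lit 0x1073359) (.node (nat_lit 0x1073353) (.node (nat_lit 0x1073351) (.leaf (nat_lit 0x107334f) (nat_lit 2565))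
 (.leaf (nat_lit 0x1073351) (nat_lit 3333))
) (.node (nat_lit 0x1073355) (.leaf (nat_lit 0x1073353) (nat_lit 3333))
 (.node (nat_lit 0x1073357) (.leaf (nat_lit 0x1073355) (nat_lit 2821))
 (.leaf (nat_lit 0x1073357) (nat_lit 2565))
))) (.node (nat_lit 0x107335d) (.node (nat_lit 0x107335b) (.leaf (nat_lit 0x1073359) (nat_lit 2565))
 (.leaf (nat_lit 0x107335b) (nat_lit 2309))
) (.node (nat_lit 0x107335f) (.leaf (nat_lit 0x107335d) (nat_lit 3077))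
 (.node (nat_lit 0x1074881) (.leaf (nat_lit 0x107335f) (nat_lit 3077))
 (.leaf (nat_lit 0x1074881) (nat_lit 1797))
)))) (.node (nat_lit 0x107488d) (.node (nat_lit 0x1074887) (.node (nat_lit 0x1074885) (.leaf (nat_lit 0x1074883) (nat_lit 2053))
 (.leaf (nat_lit 0x1074885) (nat_lit 2053))
) (.node (nat_lit 0x1074889) (.leaf (nat_lit 0x1074887) (nat_lit 2309))
 (.node (nat_lit 0x107488b) (.leaf (nat_lit 0x1074889) (nat_lit 2820))
 (.leaf (nat_lit 0x107488b) (nat_lit 2564))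
))) (.node (nat_lit 0x1074893) (.node (nat_lit 0x107488f) (.leaf (nat_lit 0x107488d) (nat_lit 2821))
 (.node (nat_lit 0x1074891) (.leaf (nat_lit 0x107488f) (nat_lit 2820))
 (.leaf (nat_lit 0x1074891) (nat_lit 2821))
)) (.node (nat_lit 0x1074895) (.leaf (nat_lit 0x1074893) (nat_lit 2565))
 (.node (nat_lit 0x1074897) (.leaf (nat_lit 0x1074895) (nat_lit 2817))
 (.leaf (nat_lit 0x1074897) (nat_lit 2561))
))))))) (.node (nat_lit 0x107494d) (.node (nat_lit 0x1074903) (.node (nat_lit 0x10748cd) (.node (nat_lit 0x10748c3) (.node (nat_lit 0x107489d) (.node (nat_lit 0x107489b) (.leaf (nat_lit 0x1074899) (nat_lit 2818))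
 (.leaf (nat_lit 0x107489b) (nat_lit 3074))
) (.node (nat_lit 0x107489f) (.leaf (nat_lit 0x107489d) (nat_lit 2821))
 (.node (nat_lit 0x10748c1) (.leaf (nat_lit 0x107489f) (nat_lit 3077))
 (.leaf (nat_lit 0x10748c1) (nat_lit 1796))
))) (.node (nat_lit 0x10748c7) (.node (nat_lit 0x10748c5) (.leaf (nat_lit 0x10748c3) (nat_lit 2052))
 (.leaf (nat_lit 0x10748c5) (nat_lit 2308))
) (.node (nat_lit 0x10748c9) (.leaf (nat_lit 0x10748c7) (nat_lit 2052))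
 (.node (nat_lit 0x10748cb) (.leaf (nat_lit 0x10748c9) (nat_lit 2564))
 (.leaf (nat_lit 0x10748cb) (nat_lit 2820))
)))) (.node (nat_lit 0x10748d7) (.node (nat_lit 0x10748d1) (.node (nat_lit 0x10748cf) (.leaf (nat_lit 0x10748cd) (nat_lit 2820))
 (.leaf (nat_lit 0x10748cf) (nat_lit 2564))
) (.node (nat_lit 0x10748d3) (.leaf (nat_lit 0x10748d1) (nat_lit 2820))
 (.node (nat_lit 0x10748d5) (.leaf (nat_lit 0x10748d3) (nat_lit 2564))
 (.leaf (nat_lit 0x10748d5) (nat_lit 2564))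
))) (.node (nat_lit 0x10748dd) (.node (nat_lit 0x10748d9) (.leaf (nat_lit 0x10748d7) (nat_lit 2820))
 (.node (nat_lit 0x10748db) (.leaf (nat_lit 0x10748d9) (nat_lit 3076))
 (.leaf (nat_lit 0x10748db) (nat_lit 2820))
)) (.node (nat_lit 0x10748df) (.leaf (nat_lit 0x10748dd) (nat_lit 3076))
 (.node (nat_lit 0x1074901) (.leaf (nat_lit 0x10748df) (nat_lit 3076))
 (.leaf (nat_lit 0x1074901) (nat_lit 2052))
))))) (.node (nat_lit 0x1074917) (.node (nat_lit 0x107490d) (.node (nat_lit 0x1074907) (.node (nat_lit 0x1074905) (.leaf (nat_lit 0x1074903) (nat_lit 2308))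
 (.leaf (nat_lit 0x1074905) (nat_lit 2564))
) (.node (nat_lit 0x1074909) (.leaf (nat_lit 0x1074907) (nat_lit 2308))
 (.node (nat_lit 0x107490b) (.leaf (nat_lit 0x1074909) (nat_lit 2308))
 (.leaf (nat_lit 0x107490b) (nat_lit 2564))
))) (.node (nat_lit 0x1074911) (.node (nat_lit 0x107490f) (.leaf (nat_lit 0x107490d) (nat_lit 2820))
 (.leaf (nat_lit 0x107490f) (nat_lit 2564))
) (.node (nat_lit 0x1074913) (.leaf (nat_lit 0x1074911) (nat_lit 3328))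
 (.node (nat_lit 0x1074915) (.leaf (nat_lit 0x1074913) (nat_lit 3072))
 (.leaf (nat_lit 0x1074915) (nat_lit 3074))
)))) (.node (nat_lit 0x1074941) (.node (nat_lit 0x107491b) (.node (nat_lit 0x1074919) (.leaf (nat_lit 0x1074917) (nat_lit 3330))
 (.leaf (nat_lit 0x1074919) (nat_lit 3073))
) (.node (nat_lit 0x107491d) (.leaf (nat_lit 0x107491b) (nat_lit 2817))
 (.node (nat_lit 0x107491f) (.leaf (nat_lit 0x107491d) (nat_lit 3073))
 (.leaf (nat_lit 0x107491f) (nat_lit 3329))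
))) (.node (nat_lit 0x1074947) (.node (nat_lit 0x1074943) (.leaf (nat_lit 0x1074941) (nat_lit 2052))
 (.node (nat_lit 0x1074945) (.leaf (nat_lit 0x1074943) (nat_lit 2308))
 (.leaf (nat_lit 0x1074945) (nat_lit 2564))
)) (.node (nat_lit 0x1074949) (.leaf (nat_lit 0x1074947) (nat_lit 2564))
 (.node (nat_lit 0x107494b) (.leaf (nat_lit 0x1074949) (nat_lit 2564))
 (.leaf (nat_lit 0x107494b) (nat_lit 2308))
)))))) (.node (nat_lit 0x1074a97) (.node (nat_lit 0x1074a81) (.node (nat_lit 0x1074957) (.node (nat_lit 0x1074951) (.node (nat_lit 0x107494f) (.leaf (nat_lit 0x107494d) (nat_lit 2820))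
 (.leaf (nat_lit 0x107494f) (nat_lit 2564))
) (.node (nat_lit 0x1074953) (.leaf (nat_lit 0x1074951) (nat_lit 3076))
 (.node (nat_lit 0x1074955) (.leaf (nat_lit 0x1074953) (nat_lit 2820))
 (.leaf (nat_lit 0x1074955) (nat_lit 3330))
))) (.node (nat_lit 0x107495b) (.node (nat_lit 0x1074959) (.leaf (nat_lit 0x1074957) (nat_lit 3074))
 (.leaf (nat_lit 0x1074959) (nat_lit 2817))
) (.node (nat_lit 0x107495d) (.leaf (nat_lit 0x107495b) (nat_lit 3073))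
 (.node (nat_lit 0x107495f) (.leaf (nat_lit 0x107495d) (nat_lit 3077))
 (.leaf (nat_lit 0x107495f) (nat_lit 3333))
)))) (.node (nat_lit 0x1074a8b) (.node (nat_lit 0x1074a85) (.node (nat_lit 0x1074a83) (.leaf (nat_lit 0x1074a81) (nat_lit 2052))
 (.leaf (nat_lit 0x1074a83) (nat_lit 2308))
) (.node (nat_lit 0x1074a87) (.leaf (nat_lit 0x1074a85) (nat_lit 2564))
 (.node (nat_lit 0x1074a89) (.leaf (nat_lit 0x1074a87) (nat_lit 2308))
 (.leaf (nat_lit 0x1074a89) (nat_lit 2820))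
))) (.node (nat_lit 0x1074a91) (.node (nat_lit 0x1074a8d) (.leaf (nat_lit 0x1074a8b) (nat_lit 3076))
 (.node (nat_lit 0x1074a8f) (.leaf (nat_lit 0x1074a8d) (nat_lit 3076))
 (.leaf (nat_lit 0x1074a8f) (nat_lit 2820))
)) (.node (nat_lit 0x1074a93) (.leaf (nat_lit 0x1074a91) (nat_lit 2820))
 (.node (nat_lit 0x1074a95) (.leaf (nat_lit 0x1074a93) (nat_lit 2564))
 (.leaf (nat_lit 0x1074a95) (nat_lit 2308))
))))) (.node (nat_lit 0x1074acb) (.node (nat_lit 0x1074ac1) (.node (nat_lit 0x1074a9b) (.node (nat_lit 0x1074a99) (.leaf (nat_lit 0x1074a97) (nat_lit 2564))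
 (.leaf (nat_lit 0x1074a99) (nat_lit 3332))
) (.node (nat_lit 0x1074a9d) (.leaf (nat_lit 0x1074a9b) (nat_lit 3076))
 (.node (nat_lit 0x1074a9f) (.leaf (nat_lit 0x1074a9d) (nat_lit 3076))
 (.leaf (nat_lit 0x1074a9f) (nat_lit 3332))
))) (.node (nat_lit 0x1074ac5) (.node (nat_lit 0x1074ac3) (.leaf (nat_lit 0x1074ac1) (nat_lit 2049))
 (.leaf (nat_lit 0x1074ac3) (nat_lit 2305))
) (.node (nat_lit 0x1074ac7) (.leaf (nat_lit 0x1074ac5) (nat_lit 2305))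
 (.node (nat_lit 0x1074ac9) (.leaf (nat_lit 0x1074ac7) (nat_lit 2561))
 (.leaf (nat_lit 0x1074ac9) (nat_lit 3076))
)))) (.node (nat_lit 0x1074ad5) (.node (nat_lit 0x1074acf) (.node (nat_lit 0x1074acd) (.leaf (nat_lit 0x1074acb) (nat_lit 2820))
 (.leaf (nat_lit 0x1074acd) (nat_lit 3076))
) (.node (nat_lit 0x1074ad1) (.leaf (nat_lit 0x1074acf) (nat_lit 2820))
 (.node (nat_lit 0x1074ad3) (.leaf (nat_lit 0x1074ad1) (nat_lit 2816))
 (.leaf (nat_lit 0x1074ad3) (nat_lit 2560))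
))) (.node (nat_lit 0x1074adb) (.node (nat_lit 0x1074ad7) (.leaf (nat_lit 0x1074ad5) (nat_lit 2560))
 (.node (nat_lit 0x1074ad9) (.leaf (nat_lit 0x1074ad7) (nat_lit 2304))
 (.leaf (nat_lit 0x1074ad9) (nat_lit 3076))
)) (.node (nat_lit 0x1074add) (.leaf (nat_lit 0x1074adb) (nat_lit 3332))
 (.node (nat_lit 0x1074adf) (.leaf (nat_lit 0x1074add) (nat_lit 3073))
 (.leaf (nat_lit 0x1074adf) (nat_lit 3329))
)))))))))) (.node (nat_lit 0x1076181) (.node (nat_lit 0x1075851) (.node (nat_lit 0x1075189) (.node (nat_lit 0x1075055) (.node (nat_lit 0x1074b4b) (.node (nat_lit 0x1074b15) (.node (nat_lit 0x1074b0b) (.node (nat_lit 0x1074b05) (.node (nat_lit 0x1074b03) (.leaf (nat_lit 0x1074b01) (nat_lit 2306))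
 (.leaf (nat_lit 0x1074b03) (nat_lit 2562))
) (.node (nat_lit 0x1074b07) (.leaf (nat_lit 0x1074b05) (nat_lit 2562))
 (.node (nat_lit 0x1074b09) (.leaf (nat_lit 0x1074b07) (nat_lit 2818))
 (.leaf (nat_lit 0x1074b09) (nat_lit 2820))
))) (.node (nat_lit 0x1074b0f) (.node (nat_lit 0x1074b0d) (.leaf (nat_lit 0x1074b0b) (nat_lit 2564))
 (.leaf (nat_lit 0x1074b0d) (nat_lit 3076))
) (.node (nat_lit 0x1074b11) (.leaf (nat_lit 0x1074b0f) (nat_lit 2820))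
 (.node (nat_lit 0x1074b13) (.leaf (nat_lit 0x1074b11) (nat_lit 3076))
 (.leaf (nat_lit 0x1074b13) (nat_lit 2820))
)))) (.node (nat_lit 0x1074b1f) (.node (nat_lit 0x1074b19) (.node (nat_lit 0x1074b17) (.leaf (nat_lit 0x1074b15) (nat_lit 3332))
 (.leaf (nat_lit 0x1074b17) (nat_lit 3076))
) (.node (nat_lit 0x1074b1b) (.leaf (nat_lit 0x1074b19) (nat_lit 2562))
 (.node (nat_lit 0x1074b1d) (.leaf (nat_lit 0x1074b1b) (nat_lit 2818))
 (.leaf (nat_lit 0x1074b1d) (nat_lit 2818))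
))) (.node (nat_lit 0x1074b45) (.node (nat_lit 0x1074b41) (.leaf (nat_lit 0x1074b1f) (nat_lit 3074))
 (.node (nat_lit 0x1074b43) (.leaf (nat_lit 0x1074b41) (nat_lit 2309))
 (.leaf (nat_lit 0x1074b43) (nat_lit 2565))
)) (.node (nat_lit 0x1074b47) (.leaf (nat_lit 0x1074b45) (nat_lit 2821))
 (.node (nat_lit 0x1074b49) (.leaf (nat_lit 0x1074b47) (nat_lit 2565))
 (.leaf (nat_lit 0x1074b49) (nat_lit 2564))
))))) (.node (nat_lit 0x1074b5f) (.node (nat_lit 0x1074b55) (.node (nat_lit 0x1074b4f) (.node (nat_lit 0x1074b4d) (.leaf (nat_lit 0x1074b4b) (nat_lit 2820))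
 (.leaf (nat_lit 0x1074b4d) (nat_lit 3076))
) (.node (nat_lit 0x1074b51) (.leaf (nat_lit 0x1074b4f) (nat_lit 2820))
 (.node (nat_lit 0x1074b53) (.leaf (nat_lit 0x1074b51) (nat_lit 3076))
 (.leaf (nat_lit 0x1074b53) (nat_lit 2820))
))) (.node (nat_lit 0x1074b59) (.node (nat_lit 0x1074b57) (.leaf (nat_lit 0x1074b55) (nat_lit 3076))
 (.leaf (nat_lit 0x1074b57) (nat_lit 3332))
) (.node (nat_lit 0x1074b5b) (.leaf (nat_lit 0x1074b59) (nat_lit 2821))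
 (.node (nat_lit 0x1074b5d) (.leaf (nat_lit 0x1074b5b) (nat_lit 2565))
 (.leaf (nat_lit 0x1074b5d) (nat_lit 2821))
)))) (.node (nat_lit 0x1075049) (.node (nat_lit 0x1075043) (.node (nat_lit 0x1075041) (.leaf (nat_lit 0x1074b5f) (nat_lit 3077))
 (.leaf (nat_lit 0x1075041) (nat_lit 1541))
) (.node (nat_lit 0x1075045) (.leaf (nat_lit 0x1075043) (nat_lit 1797))
 (.node (nat_lit 0x1075047) (.leaf (nat_lit 0x1075045) (nat_lit 2309))
 (.leaf (nat_lit 0x1075047) (nat_lit 2309))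
))) (.node (nat_lit 0x107504f) (.node (nat_lit 0x107504b) (.leaf (nat_lit 0x1075049) (nat_lit 2563))
 (.node (nat_lit 0x107504d) (.leaf (nat_lit 0x107504b) (nat_lit 2565))
 (.leaf (nat_lit 0x107504d) (nat_lit 2309))
)) (.node (nat_lit 0x1075051) (.leaf (nat_lit 0x107504f) (nat_lit 2309))
 (.node (nat_lit 0x1075053) (.leaf (nat_lit 0x1075051) (nat_lit 3077))
 (.leaf (nat_lit 0x1075053) (nat_lit 3077))
)))))) (.node (nat_lit 0x10750df) (.node (nat_lit 0x10750c9) (.node (nat_lit 0x107505f) (.node (nat_lit 0x1075059) (.node (nat_lit 0x1075057) (.leaf (nat_lit 0x1075055) (nat_lit 2309))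
 (.leaf (nat_lit 0x1075057) (nat_lit 2309))
) (.node (nat_lit 0x107505b) (.leaf (nat_lit 0x1075059) (nat_lit 2562))
 (.node (nat_lit 0x107505d) (.leaf (nat_lit 0x107505b) (nat_lit 2562))
 (.leaf (nat_lit 0x107505d) (nat_lit 2821))
))) (.node (nat_lit 0x10750c3) (.node (nat_lit 0x10750c1) (.leaf (nat_lit 0x107505f) (nat_lit 2821))
 (.leaf (nat_lit 0x10750c1) (nat_lit 2051))
) (.node (nat_lit 0x10750c5) (.leaf (nat_lit 0x10750c3) (nat_lit 2307))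
 (.node (nat_lit 0x10750c7) (.leaf (nat_lit 0x10750c5) (nat_lit 2563))
 (.leaf (nat_lit 0x10750c7) (nat_lit 2307))
)))) (.node (nat_lit 0x10750d3) (.node (nat_lit 0x10750cd) (.node (nat_lit 0x10750cb) (.leaf (nat_lit 0x10750c9) (nat_lit 2821))
 (.leaf (nat_lit 0x10750cb) (nat_lit 2819))
) (.node (nat_lit 0x10750cf) (.leaf (nat_lit 0x10750cd) (nat_lit 2819))
 (.node (nat_lit 0x10750d1) (.leaf (nat_lit 0x10750cf) (nat_lit 2821))
 (.leaf (nat_lit 0x10750d1) (nat_lit 3073))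
))) (.node (nat_lit 0x10750d9) (.node (nat_lit 0x10750d5) (.leaf (nat_lit 0x10750d3) (nat_lit 2817))
 (.node (nat_lit 0x10750d7) (.leaf (nat_lit 0x10750d5) (nat_lit 2821))
 (.leaf (nat_lit 0x10750d7) (nat_lit 3077))
)) (.node (nat_lit 0x10750db) (.leaf (nat_lit 0x10750d9) (nat_lit 3074))
 (.node (nat_lit 0x10750dd) (.leaf (nat_lit 0x10750db) (nat_lit 2818))
 (.leaf (nat_lit 0x10750dd) (nat_lit 2818))
))))) (.node (nat_lit 0x1075113) (.node (nat_lit 0x1075109) (.node (nat_lit 0x1075103) (.node (nat_lit 0x1075101) (.leaf (nat_lit 0x10750df) (nat_lit 3074))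
 (.leaf (nat_lit 0x1075101) (nat_lit 2051))
) (.node (nat_lit 0x1075105) (.leaf (nat_lit 0x1075103) (nat_lit 2307))
 (.node (nat_lit 0x1075107) (.leaf (nat_lit 0x1075105) (nat_lit 2820))
 (.leaf (nat_lit 0x1075107) (nat_lit 2564))
))) (.node (nat_lit 0x107510d) (.node (nat_lit 0x107510b) (.leaf (nat_lit 0x1075109) (nat_lit 2307))
 (.leaf (nat_lit 0x107510b) (nat_lit 2563))
) (.node (nat_lit 0x107510f) (.leaf (nat_lit 0x107510d) (nat_lit 3076))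
 (.node (nat_lit 0x1075111) (.leaf (nat_lit 0x107510f) (nat_lit 2820))
 (.leaf (nat_lit 0x1075111) (nat_lit 3584))
)))) (.node (nat_lit 0x107511d) (.node (nat_lit 0x1075117) (.node (nat_lit 0x1075115) (.leaf (nat_lit 0x1075113) (nat_lit 3328))
 (.leaf (nat_lit 0x1075115) (nat_lit 3072))
) (.node (nat_lit 0x1075119) (.leaf (nat_lit 0x1075117) (nat_lit 3328))
 (.node (nat_lit 0x107511b) (.leaf (nat_lit 0x1075119) (nat_lit 3329))
 (.leaf (nat_lit 0x107511b) (nat_lit 3073))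
))) (.node (nat_lit 0x1075183) (.node (nat_lit 0x107511f) (.leaf (nat_lit 0x107511d) (nat_lit 2817))
 (.node (nat_lit 0x1075181) (.leaf (nat_lit 0x107511f) (nat_lit 3073))
 (.leaf (nat_lit 0x1075181) (nat_lit 2050))
)) (.node (nat_lit 0x1075185) (.leaf (nat_lit 0x1075183) (nat_lit 2306))
 (.node (nat_lit 0x1075187) (.leaf (nat_lit 0x1075185) (nat_lit 2819))
 (.leaf (nat_lit 0x1075187) (nat_lit 2563))
))))))) (.node (nat_lit 0x10752dd) (.node (nat_lit 0x1075253) (.node (nat_lit 0x107519d) (.node (nat_lit 0x1075193) (.node (nat_lit 0x107518d) (.node (nat_lit 0x107518b) (.leaf (nat_lit 0x1075189) (nat_lit 3075))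
 (.leaf (nat_lit 0x107518b) (nat_lit 2819))
) (.node (nat_lit 0x107518f) (.leaf (nat_lit 0x107518d) (nat_lit 2306))
 (.node (nat_lit 0x1075191) (.leaf (nat_lit 0x107518f) (nat_lit 2562))
 (.leaf (nat_lit 0x1075191) (nat_lit 3333))
))) (.node (nat_lit 0x1075197) (.node (nat_lit 0x1075195) (.leaf (nat_lit 0x1075193) (nat_lit 3333))
 (.leaf (nat_lit 0x1075195) (nat_lit 2565))
) (.node (nat_lit 0x1075199) (.leaf (nat_lit 0x1075197) (nat_lit 2821))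
 (.node (nat_lit 0x107519b) (.leaf (nat_lit 0x1075199) (nat_lit 2561))
 (.leaf (nat_lit 0x107519b) (nat_lit 2817))
)))) (.node (nat_lit 0x1075247) (.node (nat_lit 0x1075241) (.node (nat_lit 0x107519f) (.leaf (nat_lit 0x107519d) (nat_lit 3329))
 (.leaf (nat_lit 0x107519f) (nat_lit 3329))
) (.node (nat_lit 0x1075243) (.leaf (nat_lit 0x1075241) (nat_lit 2309))
 (.node (nat_lit 0x1075245) (.leaf (nat_lit 0x1075243) (nat_lit 2565))
 (.leaf (nat_lit 0x1075245) (nat_lit 2821))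
))) (.node (nat_lit 0x107524d) (.node (nat_lit 0x1075249) (.leaf (nat_lit 0x1075247) (nat_lit 2565))
 (.node (nat_lit 0x107524b) (.leaf (nat_lit 0x1075249) (nat_lit 3074))
 (.leaf (nat_lit 0x107524b) (nat_lit 3077))
)) (.node (nat_lit 0x107524f) (.leaf (nat_lit 0x107524d) (nat_lit 3075))
 (.node (nat_lit 0x1075251) (.leaf (nat_lit 0x107524f) (nat_lit 3073))
 (.leaf (nat_lit 0x1075251) (nat_lit 2821))
))))) (.node (nat_lit 0x10752c7) (.node (nat_lit 0x107525d) (.node (nat_lit 0x1075257) (.node (nat_lit 0x1075255) (.leaf (nat_lit 0x1075253) (nat_lit 2565))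
 (.leaf (nat_lit 0x1075255) (nat_lit 2821))
) (.node (nat_lit 0x1075259) (.leaf (nat_lit 0x1075257) (nat_lit 3077))
 (.node (nat_lit 0x107525b) (.leaf (nat_lit 0x1075259) (nat_lit 3333))
 (.leaf (nat_lit 0x107525b) (nat_lit 3077))
))) (.node (nat_lit 0x10752c1) (.node (nat_lit 0x107525f) (.leaf (nat_lit 0x107525d) (nat_lit 3073))
 (.leaf (nat_lit 0x107525f) (nat_lit 3329))
) (.node (nat_lit 0x10752c3) (.leaf (nat_lit 0x10752c1) (nat_lit 1793))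
 (.node (nat_lit 0x10752c5) (.leaf (nat_lit 0x10752c3) (nat_lit 2049))
 (.leaf (nat_lit 0x10752c5) (nat_lit 2561))
)))) (.node (nat_lit 0x10752d1) (.node (nat_lit 0x10752cb) (.node (nat_lit 0x10752c9) (.leaf (nat_lit 0x10752c7) (nat_lit 2561))
 (.leaf (nat_lit 0x10752c9) (nat_lit 2819))
) (.node (nat_lit 0x10752cd) (.leaf (nat_lit 0x10752cb) (nat_lit 2817))
 (.node (nat_lit 0x10752cf) (.leaf (nat_lit 0x10752cd) (nat_lit 2562))
 (.leaf (nat_lit 0x10752cf) (nat_lit 2561))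
))) (.node (nat_lit 0x10752d7) (.node (nat_lit 0x10752d3) (.leaf (nat_lit 0x10752d1) (nat_lit 2816))
 (.node (nat_lit 0x10752d5) (.leaf (nat_lit 0x10752d3) (nat_lit 2816))
 (.leaf (nat_lit 0x10752d5) (nat_lit 2304))
)) (.node (nat_lit 0x10752d9) (.leaf (nat_lit 0x10752d7) (nat_lit 2048))
 (.node (nat_lit 0x10752db) (.leaf (nat_lit 0x10752d9) (nat_lit 2816))
 (.leaf (nat_lit 0x10752db) (nat_lit 2817))
)))))) (.node (nat_lit 0x1075387) (.node (nat_lit 0x1075311) (.node (nat_lit 0x1075307) (.node (nat_lit 0x1075301) (.node (nat_lit 0x10752df) (.leaf (nat_lit 0x10752dd) (nat_lit 3075))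
 (.leaf (nat_lit 0x10752df) (nat_lit 3073))
) (.node (nat_lit 0x1075303) (.leaf (nat_lit 0x1075301) (nat_lit 2050))
 (.node (nat_lit 0x1075305) (.leaf (nat_lit 0x1075303) (nat_lit 2306))
 (.leaf (nat_lit 0x1075305) (nat_lit 2818))
))) (.node (nat_lit 0x107530b) (.node (nat_lit 0x1075309) (.leaf (nat_lit 0x1075307) (nat_lit 2818))
 (.leaf (nat_lit 0x1075309) (nat_lit 3331))
) (.node (nat_lit 0x107530d) (.leaf (nat_lit 0x107530b) (nat_lit 3075))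
 (.node (nat_lit 0x107530f) (.leaf (nat_lit 0x107530d) (nat_lit 2561))
 (.leaf (nat_lit 0x107530f) (nat_lit 2817))
)))) (.node (nat_lit 0x107531b) (.node (nat_lit 0x1075315) (.node (nat_lit 0x1075313) (.leaf (nat_lit 0x1075311) (nat_lit 3587))
 (.leaf (nat_lit 0x1075313) (nat_lit 3331))
) (.node (nat_lit 0x1075317) (.leaf (nat_lit 0x1075315) (nat_lit 2817))
 (.node (nat_lit 0x1075319) (.leaf (nat_lit 0x1075317) (nat_lit 3073))
 (.leaf (nat_lit 0x1075319) (nat_lit 2306))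
))) (.node (nat_lit 0x1075381) (.node (nat_lit 0x107531d) (.leaf (nat_lit 0x107531b) (nat_lit 2562))
 (.node (nat_lit 0x107531f) (.leaf (nat_lit 0x107531d) (nat_lit 3074))
 (.leaf (nat_lit 0x107531f) (nat_lit 3074))
)) (.node (nat_lit 0x1075383) (.leaf (nat_lit 0x1075381) (nat_lit 2306))
 (.node (nat_lit 0x1075385) (.leaf (nat_lit 0x1075383) (nat_lit 2562))
 (.leaf (nat_lit 0x1075385) (nat_lit 2818))
))))) (.node (nat_lit 0x107539b) (.node (nat_lit 0x1075391) (.node (nat_lit 0x107538b) (.node (nat_lit 0x1075389) (.leaf (nat_lit 0x1075387) (nat_lit 2562))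
 (.leaf (nat_lit 0x1075389) (nat_lit 2563))
) (.node (nat_lit 0x107538d) (.leaf (nat_lit 0x107538b) (nat_lit 2819))
 (.node (nat_lit 0x107538f) (.leaf (nat_lit 0x107538d) (nat_lit 3332))
 (.leaf (nat_lit 0x107538f) (nat_lit 3076))
))) (.node (nat_lit 0x1075395) (.node (nat_lit 0x1075393) (.leaf (nat_lit 0x1075391) (nat_lit 3588))
 (.leaf (nat_lit 0x1075393) (nat_lit 3332))
) (.node (nat_lit 0x1075397) (.leaf (nat_lit 0x1075395) (nat_lit 2821))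
 (.node (nat_lit 0x1075399) (.leaf (nat_lit 0x1075397) (nat_lit 3077))
 (.leaf (nat_lit 0x1075399) (nat_lit 3074))
)))) (.node (nat_lit 0x1075845) (.node (nat_lit 0x107539f) (.node (nat_lit 0x107539d) (.leaf (nat_lit 0x107539b) (nat_lit 2818))
 (.leaf (nat_lit 0x107539d) (nat_lit 2562))
) (.node (nat_lit 0x1075841) (.leaf (nat_lit 0x107539f) (nat_lit 2818))
 (.node (nat_lit 0x1075843) (.leaf (nat_lit 0x1075841) (nat_lit 1284))
 (.leaf (nat_lit 0x1075843) (nat_lit 1540))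
))) (.node (nat_lit 0x107584b) (.node (nat_lit 0x1075847) (.leaf (nat_lit 0x1075845) (nat_lit 2052))
 (.node (nat_lit 0x1075849) (.leaf (nat_lit 0x1075847) (nat_lit 2052))
 (.leaf (nat_lit 0x1075849) (nat_lit 2563))
)) (.node (nat_lit 0x107584d) (.leaf (nat_lit 0x107584b) (nat_lit 2307))
 (.node (nat_lit 0x107584f) (.leaf (nat_lit 0x107584d) (nat_lit 2052))
 (.leaf (nat_lit 0x107584f) (nat_lit 2052))
)))))))) (.node (nat_lit 0x1075a99) (.node (nat_lit 0x1075985) (.node (nat_lit 0x107589b) (.node (nat_lit 0x1075885) (.node (nat_lit 0x107585b) (.node (nat_lit 0x1075855) (.node (nat_lit 0x1075853) (.leaf (nat_lit 0x1075851) (nat_lit 2820))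
 (.leaf (nat_lit 0x1075853) (nat_lit 2820))
) (.node (nat_lit 0x1075857) (.leaf (nat_lit 0x1075855) (nat_lit 2052))
 (.node (nat_lit 0x1075859) (.leaf (nat_lit 0x1075857) (nat_lit 2052))
 (.leaf (nat_lit 0x1075859) (nat_lit 2562))
))) (.node (nat_lit 0x107585f) (.node (nat_lit 0x107585d) (.leaf (nat_lit 0x107585b) (nat_lit 2306))
 (.leaf (nat_lit 0x107585d) (nat_lit 2564))
) (.node (nat_lit 0x1075881) (.leaf (nat_lit 0x107585f) (nat_lit 2564))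
 (.node (nat_lit 0x1075883) (.leaf (nat_lit 0x1075881) (nat_lit 1540))
 (.leaf (nat_lit 0x1075883) (nat_lit 1796))
)))) (.node (nat_lit 0x107588f) (.node (nat_lit 0x1075889) (.node (nat_lit 0x1075887) (.leaf (nat_lit 0x1075885) (nat_lit 1796))
 (.leaf (nat_lit 0x1075887) (nat_lit 2052))
) (.node (nat_lit 0x107588b) (.leaf (nat_lit 0x1075889) (nat_lit 2564))
 (.node (nat_lit 0x107588d) (.leaf (nat_lit 0x107588b) (nat_lit 2308))
 (.leaf (nat_lit 0x107588d) (nat_lit 2563))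
))) (.node (nat_lit 0x1075895) (.node (nat_lit 0x1075891) (.leaf (nat_lit 0x107588f) (nat_lit 2564))
 (.node (nat_lit 0x1075893) (.leaf (nat_lit 0x1075891) (nat_lit 2564))
 (.leaf (nat_lit 0x1075893) (nat_lit 2308))
)) (.node (nat_lit 0x1075897) (.leaf (nat_lit 0x1075895) (nat_lit 2820))
 (.node (nat_lit 0x1075899) (.leaf (nat_lit 0x1075897) (nat_lit 2564))
 (.leaf (nat_lit 0x1075899) (nat_lit 2818))
))))) (.node (nat_lit 0x107594f) (.node (nat_lit 0x1075945) (.node (nat_lit 0x107589f) (.node (nat_lit 0x107589d) (.leaf (nat_lit 0x107589b) (nat_lit 2820))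
 (.leaf (nat_lit 0x107589d) (nat_lit 2562))
) (.node (nat_lit 0x1075941) (.leaf (nat_lit 0x107589f) (nat_lit 2818))
 (.node (nat_lit 0x1075943) (.leaf (nat_lit 0x1075941) (nat_lit 1796))
 (.leaf (nat_lit 0x1075943) (nat_lit 2052))
))) (.node (nat_lit 0x1075949) (.node (nat_lit 0x1075947) (.leaf (nat_lit 0x1075945) (nat_lit 2052))
 (.leaf (nat_lit 0x1075947) (nat_lit 2308))
) (.node (nat_lit 0x107594b) (.leaf (nat_lit 0x1075949) (nat_lit 2308))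
 (.node (nat_lit 0x107594d) (.leaf (nat_lit 0x107594b) (nat_lit 2052))
 (.leaf (nat_lit 0x107594d) (nat_lit 2564))
)))) (.node (nat_lit 0x1075959) (.node (nat_lit 0x1075953) (.node (nat_lit 0x1075951) (.leaf (nat_lit 0x107594f) (nat_lit 2308))
 (.leaf (nat_lit 0x1075951) (nat_lit 3074))
) (.node (nat_lit 0x1075955) (.leaf (nat_lit 0x1075953) (nat_lit 2818))
 (.node (nat_lit 0x1075957) (.leaf (nat_lit 0x1075955) (nat_lit 3076))
 (.leaf (nat_lit 0x1075957) (nat_lit 2820))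
))) (.node (nat_lit 0x107595f) (.node (nat_lit 0x107595b) (.leaf (nat_lit 0x1075959) (nat_lit 2817))
 (.node (nat_lit 0x107595d) (.leaf (nat_lit 0x107595b) (nat_lit 3073))
 (.leaf (nat_lit 0x107595d) (nat_lit 2564))
)) (.node (nat_lit 0x1075981) (.leaf (nat_lit 0x107595f) (nat_lit 2820))
 (.node (nat_lit 0x1075983) (.leaf (nat_lit 0x1075981) (nat_lit 1540))
 (.leaf (nat_lit 0x1075983) (nat_lit 1796))
)))))) (.node (nat_lit 0x1075a4f) (.node (nat_lit 0x1075999) (.node (nat_lit 0x107598f) (.node (nat_lit 0x1075989) (.node (nat_lit 0x1075987) (.leaf (nat_lit 0x1075985) (nat_lit 2308))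
 (.leaf (nat_lit 0x1075987) (nat_lit 2308))
) (.node (nat_lit 0x107598b) (.leaf (nat_lit 0x1075989) (nat_lit 2564))
 (.node (nat_lit 0x107598d) (.leaf (nat_lit 0x107598b) (nat_lit 2564))
 (.leaf (nat_lit 0x107598d) (nat_lit 1796))
))) (.node (nat_lit 0x1075993) (.node (nat_lit 0x1075991) (.leaf (nat_lit 0x107598f) (nat_lit 2052))
 (.leaf (nat_lit 0x1075991) (nat_lit 3332))
) (.node (nat_lit 0x1075995) (.leaf (nat_lit 0x1075993) (nat_lit 3330))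
 (.node (nat_lit 0x1075997) (.leaf (nat_lit 0x1075995) (nat_lit 2562))
 (.leaf (nat_lit 0x1075997) (nat_lit 2564))
)))) (.node (nat_lit 0x1075a43) (.node (nat_lit 0x107599d) (.node (nat_lit 0x107599b) (.leaf (nat_lit 0x1075999) (nat_lit 2564))
 (.leaf (nat_lit 0x107599b) (nat_lit 2308))
) (.node (nat_lit 0x107599f) (.leaf (nat_lit 0x107599d) (nat_lit 3076))
 (.node (nat_lit 0x1075a41) (.leaf (nat_lit 0x107599f) (nat_lit 3076))
 (.leaf (nat_lit 0x1075a41) (nat_lit 1796))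
))) (.node (nat_lit 0x1075a49) (.node (nat_lit 0x1075a45) (.leaf (nat_lit 0x1075a43) (nat_lit 2052))
 (.node (nat_lit 0x1075a47) (.leaf (nat_lit 0x1075a45) (nat_lit 2052))
 (.leaf (nat_lit 0x1075a47) (nat_lit 2308))
)) (.node (nat_lit 0x1075a4b) (.leaf (nat_lit 0x1075a49) (nat_lit 2820))
 (.node (nat_lit 0x1075a4d) (.leaf (nat_lit 0x1075a4b) (nat_lit 2564))
 (.leaf (nat_lit 0x1075a4d) (nat_lit 2820))
))))) (.node (nat_lit 0x1075a83) (.node (nat_lit 0x1075a59) (.node (nat_lit 0x1075a53) (.node (nat_lit 0x1075a51) (.leaf (nat_lit 0x1075a4f) (nat_lit 2564))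
 (.leaf (nat_lit 0x1075a51) (nat_lit 2308))
) (.node (nat_lit 0x1075a55) (.leaf (nat_lit 0x1075a53) (nat_lit 2052))
 (.node (nat_lit 0x1075a57) (.leaf (nat_lit 0x1075a55) (nat_lit 2564))
 (.leaf (nat_lit 0x1075a57) (nat_lit 2308))
))) (.node (nat_lit 0x1075a5d) (.node (nat_lit 0x1075a5b) (.leaf (nat_lit 0x1075a59) (nat_lit 2820))
 (.leaf (nat_lit 0x1075a5b) (nat_lit 3076))
) (.node (nat_lit 0x1075a5f) (.leaf (nat_lit 0x1075a5d) (nat_lit 2820))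
 (.node (nat_lit 0x1075a81) (.leaf (nat_lit 0x1075a5f) (nat_lit 3076))
 (.leaf (nat_lit 0x1075a81) (nat_lit 1540))
)))) (.node (nat_lit 0x1075a8d) (.node (nat_lit 0x1075a87) (.node (nat_lit 0x1075a85) (.leaf (nat_lit 0x1075a83) (nat_lit 1796))
 (.leaf (nat_lit 0x1075a85) (nat_lit 2308))
) (.node (nat_lit 0x1075a89) (.leaf (nat_lit 0x1075a87) (nat_lit 2308))
 (.node (nat_lit 0x1075a8b) (.leaf (nat_lit 0x1075a89) (nat_lit 2819))
 (.leaf (nat_lit 0x1075a8b) (nat_lit 2563))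
))) (.node (nat_lit 0x1075a93) (.node (nat_lit 0x1075a8f) (.leaf (nat_lit 0x1075a8d) (nat_lit 2308))
 (.node (nat_lit 0x1075a91) (.leaf (nat_lit 0x1075a8f) (nat_lit 2308))
 (.leaf (nat_lit 0x1075a91) (nat_lit 2564))
)) (.node (nat_lit 0x1075a95) (.leaf (nat_lit 0x1075a93) (nat_lit 2564))
 (.node (nat_lit 0x1075a97) (.leaf (nat_lit 0x1075a95) (nat_lit 1796))
 (.leaf (nat_lit 0x1075a97) (nat_lit 2052))
))))))) (.node (nat_lit 0x107604d) (.node (nat_lit 0x1075b83) (.node (nat_lit 0x1075b4d) (.node (nat_lit 0x1075b43) (.node (nat_lit 0x1075a9d) (.node (nat_lit 0x1075a9b) (.leaf (nat_lit 0x1075a99) (nat_lit 2564))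
 (.leaf (nat_lit 0x1075a9b) (nat_lit 2564))
) (.node (nat_lit 0x1075a9f) (.leaf (nat_lit 0x1075a9d) (nat_lit 2820))
 (.node (nat_lit 0x1075b41) (.leaf (nat_lit 0x1075a9f) (nat_lit 2820))
 (.leaf (nat_lit 0x1075b41) (nat_lit 1796))
))) (.node (nat_lit 0x1075b47) (.node (nat_lit 0x1075b45) (.leaf (nat_lit 0x1075b43) (nat_lit 2052))
 (.leaf (nat_lit 0x1075b45) (nat_lit 2562))
) (.node (nat_lit 0x1075b49) (.leaf (nat_lit 0x1075b47) (nat_lit 2564))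
 (.node (nat_lit 0x1075b4b) (.leaf (nat_lit 0x1075b49) (nat_lit 2820))
 (.leaf (nat_lit 0x1075b4b) (nat_lit 2820))
)))) (.node (nat_lit 0x1075b57) (.node (nat_lit 0x1075b51) (.node (nat_lit 0x1075b4f) (.leaf (nat_lit 0x1075b4d) (nat_lit 2052))
 (.leaf (nat_lit 0x1075b4f) (nat_lit 2308))
) (.node (nat_lit 0x1075b53) (.leaf (nat_lit 0x1075b51) (nat_lit 3076))
 (.node (nat_lit 0x1075b55) (.leaf (nat_lit 0x1075b53) (nat_lit 3076))
 (.leaf (nat_lit 0x1075b55) (nat_lit 2564))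
))) (.node (nat_lit 0x1075b5d) (.node (nat_lit 0x1075b59) (.leaf (nat_lit 0x1075b57) (nat_lit 2308))
 (.node (nat_lit 0x1075b5b) (.leaf (nat_lit 0x1075b59) (nat_lit 2308))
 (.leaf (nat_lit 0x1075b5b) (nat_lit 2052))
)) (.node (nat_lit 0x1075b5f) (.leaf (nat_lit 0x1075b5d) (nat_lit 2820))
 (.node (nat_lit 0x1075b81) (.leaf (nat_lit 0x1075b5f) (nat_lit 2820))
 (.leaf (nat_lit 0x1075b81) (nat_lit 2052))
))))) (.node (nat_lit 0x1075b97) (.node (nat_lit 0x1075b8d) (.node (nat_lit 0x1075b87) (.node (nat_lit 0x1075b85) (.leaf (nat_lit 0x1075b83) (nat_lit 2308))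
 (.leaf (nat_lit 0x1075b85) (nat_lit 2306))
) (.node (nat_lit 0x1075b89) (.leaf (nat_lit 0x1075b87) (nat_lit 2562))
 (.node (nat_lit 0x1075b8b) (.leaf (nat_lit 0x1075b89) (nat_lit 2564))
 (.leaf (nat_lit 0x1075b8b) (nat_lit 2308))
))) (.node (nat_lit 0x1075b91) (.node (nat_lit 0x1075b8f) (.leaf (nat_lit 0x1075b8d) (nat_lit 2820))
 (.leaf (nat_lit 0x1075b8f) (nat_lit 2564))
) (.node (nat_lit 0x1075b93) (.leaf (nat_lit 0x1075b91) (nat_lit 3076))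
 (.node (nat_lit 0x1075b95) (.leaf (nat_lit 0x1075b93) (nat_lit 2820))
 (.leaf (nat_lit 0x1075b95) (nat_lit 2820))
)))) (.node (nat_lit 0x1076041) (.node (nat_lit 0x1075b9b) (.node (nat_lit 0x1075b99) (.leaf (nat_lit 0x1075b97) (nat_lit 2564))
 (.leaf (nat_lit 0x1075b99) (nat_lit 2562))
) (.node (nat_lit 0x1075b9d) (.leaf (nat_lit 0x1075b9b) (nat_lit 2818))
 (.node (nat_lit 0x1075b9f) (.leaf (nat_lit 0x1075b9d) (nat_lit 2308))
 (.leaf (nat_lit 0x1075b9f) (nat_lit 2564))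
))) (.node (nat_lit 0x1076047) (.node (nat_lit 0x1076043) (.leaf (nat_lit 0x1076041) (nat_lit 1283))
 (.node (nat_lit 0x1076045) (.leaf (nat_lit 0x1076043) (nat_lit 1539))
 (.leaf (nat_lit 0x1076045) (nat_lit 2051))
)) (.node (nat_lit 0x1076049) (.leaf (nat_lit 0x1076047) (nat_lit 2051))
 (.node (nat_lit 0x107604b) (.leaf (nat_lit 0x1076049) (nat_lit 2819))
 (.leaf (nat_lit 0x107604b) (nat_lit 2563))
)))))) (.node (nat_lit 0x1076097) (.node (nat_lit 0x1076081) (.node (nat_lit 0x1076057) (.node (nat_lit 0x1076051) (.node (nat_lit 0x107604f) (.leaf (nat_lit 0x107604d) (nat_lit 2306))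
 (.leaf (nat_lit 0x107604f) (nat_lit 2306))
) (.node (nat_lit 0x1076053) (.leaf (nat_lit 0x1076051) (nat_lit 3074))
 (.node (nat_lit 0x1076055) (.leaf (nat_lit 0x1076053) (nat_lit 3074))
 (.leaf (nat_lit 0x1076055) (nat_lit 2306))
))) (.node (nat_lit 0x107605b) (.node (nat_lit 0x1076059) (.leaf (nat_lit 0x1076057) (nat_lit 2306))
 (.leaf (nat_lit 0x1076059) (nat_lit 2307))
) (.node (nat_lit 0x107605d) (.leaf (nat_lit 0x107605b) (nat_lit 2051))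
 (.node (nat_lit 0x107605f) (.leaf (nat_lit 0x107605d) (nat_lit 2563))
 (.leaf (nat_lit 0x107605f) (nat_lit 2563))
)))) (.node (nat_lit 0x107608b) (.node (nat_lit 0x1076085) (.node (nat_lit 0x1076083) (.leaf (nat_lit 0x1076081) (nat_lit 1539))
 (.leaf (nat_lit 0x1076083) (nat_lit 1795))
) (.node (nat_lit 0x1076087) (.leaf (nat_lit 0x1076085) (nat_lit 1795))
 (.node (nat_lit 0x1076089) (.leaf (nat_lit 0x1076087) (nat_lit 2051))
 (.leaf (nat_lit 0x1076089) (nat_lit 2818))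
))) (.node (nat_lit 0x1076091) (.node (nat_lit 0x107608d) (.leaf (nat_lit 0x107608b) (nat_lit 2562))
 (.node (nat_lit 0x107608f) (.leaf (nat_lit 0x107608d) (nat_lit 2819))
 (.leaf (nat_lit 0x107608f) (nat_lit 2819))
)) (.node (nat_lit 0x1076093) (.leaf (nat_lit 0x1076091) (nat_lit 2818))
 (.node (nat_lit 0x1076095) (.leaf (nat_lit 0x1076093) (nat_lit 2562))
 (.leaf (nat_lit 0x1076095) (nat_lit 3074))
))))) (.node (nat_lit 0x107614b) (.node (nat_lit 0x1076141) (.node (nat_lit 0x107609b) (.node (nat_lit 0x1076099) (.leaf (nat_lit 0x1076097) (nat_lit 2818))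
 (.leaf (nat_lit 0x1076099) (nat_lit 2563))
) (.node (nat_lit 0x107609d) (.leaf (nat_lit 0x107609b) (nat_lit 2819))
 (.node (nat_lit 0x107609f) (.leaf (nat_lit 0x107609d) (nat_lit 2307))
 (.leaf (nat_lit 0x107609f) (nat_lit 2563))
))) (.node (nat_lit 0x1076145) (.node (nat_lit 0x1076143) (.leaf (nat_lit 0x1076141) (nat_lit 2051))
 (.leaf (nat_lit 0x1076143) (nat_lit 2307))
) (.node (nat_lit 0x1076147) (.leaf (nat_lit 0x1076145) (nat_lit 2306))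
 (.node (nat_lit 0x1076149) (.leaf (nat_lit 0x1076147) (nat_lit 2307))
 (.leaf (nat_lit 0x1076149) (nat_lit 2563))
)))) (.node (nat_lit 0x1076155) (.node (nat_lit 0x107614f) (.node (nat_lit 0x107614d) (.leaf (nat_lit 0x107614b) (nat_lit 2307))
 (.leaf (nat_lit 0x107614d) (nat_lit 2563))
) (.node (nat_lit 0x1076151) (.leaf (nat_lit 0x107614f) (nat_lit 2562))
 (.node (nat_lit 0x1076153) (.leaf (nat_lit 0x1076151) (nat_lit 2817))
 (.leaf (nat_lit 0x1076153) (nat_lit 2561))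
))) (.node (nat_lit 0x107615b) (.node (nat_lit 0x1076157) (.leaf (nat_lit 0x1076155) (nat_lit 3073))
 (.node (nat_lit 0x1076159) (.leaf (nat_lit 0x1076157) (nat_lit 2817))
 (.leaf (nat_lit 0x1076159) (nat_lit 2816))
)) (.node (nat_lit 0x107615d) (.leaf (nat_lit 0x107615b) (nat_lit 3072))
 (.node (nat_lit 0x107615f) (.leaf (nat_lit 0x107615d) (nat_lit 2818))
 (.leaf (nat_lit 0x107615f) (nat_lit 3074))
))))))))) (.node (nat_lit 0x1076ad1) (.node (nat_lit 0x1076849) (.node (nat_lit 0x1076295) (.node (nat_lit 0x107624b) (.node (nat_lit 0x1076195) (.node (nat_lit 0x107618b) (.node (nat_lit 0x1076185) (.node (nat_lit 0x1076183) (.leaf (nat_lit 0x1076181) (nat_lit 1794))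
 (.leaf (nat_lit 0x1076183) (nat_lit 2050))
) (.node (nat_lit 0x1076187) (.leaf (nat_lit 0x1076185) (nat_lit 2562))
 (.node (nat_lit 0x1076189) (.leaf (nat_lit 0x1076187) (nat_lit 2562))
 (.leaf (nat_lit 0x1076189) (nat_lit 2819))
))) (.node (nat_lit 0x107618f) (.node (nat_lit 0x107618d) (.leaf (nat_lit 0x107618b) (nat_lit 2563))
 (.leaf (nat_lit 0x107618d) (nat_lit 2050))
) (.node (nat_lit 0x1076191) (.leaf (nat_lit 0x107618f) (nat_lit 2306))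
 (.node (nat_lit 0x1076193) (.leaf (nat_lit 0x1076191) (nat_lit 3073))
 (.leaf (nat_lit 0x1076193) (nat_lit 3073))
)))) (.node (nat_lit 0x107619f) (.node (nat_lit 0x1076199) (.node (nat_lit 0x1076197) (.leaf (nat_lit 0x1076195) (nat_lit 2305))
 (.leaf (nat_lit 0x1076197) (nat_lit 2561))
) (.node (nat_lit 0x107619b) (.leaf (nat_lit 0x1076199) (nat_lit 2560))
 (.node (nat_lit 0x107619d) (.leaf (nat_lit 0x107619b) (nat_lit 2562))
 (.leaf (nat_lit 0x107619d) (nat_lit 3330))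
))) (.node (nat_lit 0x1076245) (.node (nat_lit 0x1076241) (.leaf (nat_lit 0x107619f) (nat_lit 3328))
 (.node (nat_lit 0x1076243) (.leaf (nat_lit 0x1076241) (nat_lit 2050))
 (.leaf (nat_lit 0x1076243) (nat_lit 2306))
)) (.node (nat_lit 0x1076247) (.leaf (nat_lit 0x1076245) (nat_lit 2306))
 (.node (nat_lit 0x1076249) (.leaf (nat_lit 0x1076247) (nat_lit 2562))
 (.leaf (nat_lit 0x1076249) (nat_lit 2819))
))))) (.node (nat_lit 0x107625f) (.node (nat_lit 0x1076255) (.node (nat_lit 0x107624f) (.node (nat_lit 0x107624d) (.leaf (nat_lit 0x107624b) (nat_lit 2563))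
 (.leaf (nat_lit 0x107624d) (nat_lit 2819))
) (.node (nat_lit 0x1076251) (.leaf (nat_lit 0x107624f) (nat_lit 2817))
 (.node (nat_lit 0x1076253) (.leaf (nat_lit 0x1076251) (nat_lit 2562))
 (.leaf (nat_lit 0x1076253) (nat_lit 2306))
))) (.node (nat_lit 0x1076259) (.node (nat_lit 0x1076257) (.leaf (nat_lit 0x1076255) (nat_lit 2818))
 (.leaf (nat_lit 0x1076257) (nat_lit 2562))
) (.node (nat_lit 0x107625b) (.leaf (nat_lit 0x1076259) (nat_lit 2819))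
 (.node (nat_lit 0x107625d) (.leaf (nat_lit 0x107625b) (nat_lit 3075))
 (.leaf (nat_lit 0x107625d) (nat_lit 3072))
)))) (.node (nat_lit 0x1076289) (.node (nat_lit 0x1076283) (.node (nat_lit 0x1076281) (.leaf (nat_lit 0x107625f) (nat_lit 3075))
 (.leaf (nat_lit 0x1076281) (nat_lit 1794))
) (.node (nat_lit 0x1076285) (.leaf (nat_lit 0x1076283) (nat_lit 2050))
 (.node (nat_lit 0x1076287) (.leaf (nat_lit 0x1076285) (nat_lit 2562))
 (.leaf (nat_lit 0x1076287) (nat_lit 2562))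
))) (.node (nat_lit 0x107628f) (.node (nat_lit 0x107628b) (.leaf (nat_lit 0x1076289) (nat_lit 3075))
 (.node (nat_lit 0x107628d) (.leaf (nat_lit 0x107628b) (nat_lit 2819))
 (.leaf (nat_lit 0x107628d) (nat_lit 2305))
)) (.node (nat_lit 0x1076291) (.leaf (nat_lit 0x107628f) (nat_lit 2561))
 (.node (nat_lit 0x1076293) (.leaf (nat_lit 0x1076291) (nat_lit 2818))
 (.leaf (nat_lit 0x1076293) (nat_lit 2818))
)))))) (.node (nat_lit 0x107635f) (.node (nat_lit 0x1076349) (.node (nat_lit 0x107629f) (.node (nat_lit 0x1076299) (.node (nat_lit 0x1076297) (.leaf (nat_lit 0x1076295) (nat_lit 2050))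
 (.leaf (nat_lit 0x1076297) (nat_lit 2306))
) (.node (nat_lit 0x107629b) (.leaf (nat_lit 0x1076299) (nat_lit 2560))
 (.node (nat_lit 0x107629d) (.leaf (nat_lit 0x107629b) (nat_lit 2816))
 (.leaf (nat_lit 0x107629d) (nat_lit 3074))
))) (.node (nat_lit 0x1076343) (.node (nat_lit 0x1076341) (.leaf (nat_lit 0x107629f) (nat_lit 3075))
 (.leaf (nat_lit 0x1076341) (nat_lit 1539))
) (.node (nat_lit 0x1076345) (.leaf (nat_lit 0x1076343) (nat_lit 1795))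
 (.node (nat_lit 0x1076347) (.leaf (nat_lit 0x1076345) (nat_lit 2307))
 (.leaf (nat_lit 0x1076347) (nat_lit 2307))
)))) (.node (nat_lit 0x1076353) (.node (nat_lit 0x107634d) (.node (nat_lit 0x107634b) (.leaf (nat_lit 0x1076349) (nat_lit 3075))
 (.leaf (nat_lit 0x107634b) (nat_lit 2819))
) (.node (nat_lit 0x107634f) (.leaf (nat_lit 0x107634d) (nat_lit 2306))
 (.node (nat_lit 0x1076351) (.leaf (nat_lit 0x107634f) (nat_lit 2562))
 (.leaf (nat_lit 0x1076351) (nat_lit 3075))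
))) (.node (nat_lit 0x1076359) (.node (nat_lit 0x1076355) (.leaf (nat_lit 0x1076353) (nat_lit 3331))
 (.node (nat_lit 0x1076357) (.leaf (nat_lit 0x1076355) (nat_lit 2561))
 (.leaf (nat_lit 0x1076357) (nat_lit 2561))
)) (.node (nat_lit 0x107635b) (.leaf (nat_lit 0x1076359) (nat_lit 2051))
 (.node (nat_lit 0x107635d) (.leaf (nat_lit 0x107635b) (nat_lit 1795))
 (.leaf (nat_lit 0x107635d) (nat_lit 2563))
))))) (.node (nat_lit 0x1076393) (.node (nat_lit 0x1076389) (.node (nat_lit 0x1076383) (.node (nat_lit 0x1076381) (.leaf (nat_lit 0x107635f) (nat_lit 2563))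
 (.leaf (nat_lit 0x1076381) (nat_lit 1795))
) (.node (nat_lit 0x1076385) (.leaf (nat_lit 0x1076383) (nat_lit 2051))
 (.node (nat_lit 0x1076387) (.leaf (nat_lit 0x1076385) (nat_lit 2051))
 (.leaf (nat_lit 0x1076387) (nat_lit 2307))
))) (.node (nat_lit 0x107638d) (.node (nat_lit 0x107638b) (.leaf (nat_lit 0x1076389) (nat_lit 2818))
 (.leaf (nat_lit 0x107638b) (nat_lit 2562))
) (.node (nat_lit 0x107638f) (.leaf (nat_lit 0x107638d) (nat_lit 3074))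
 (.node (nat_lit 0x1076391) (.leaf (nat_lit 0x107638f) (nat_lit 2818))
 (.leaf (nat_lit 0x1076391) (nat_lit 3073))
)))) (.node (nat_lit 0x107639d) (.node (nat_lit 0x1076397) (.node (nat_lit 0x1076395) (.leaf (nat_lit 0x1076393) (nat_lit 2817))
 (.leaf (nat_lit 0x1076395) (nat_lit 3074))
) (.node (nat_lit 0x1076399) (.leaf (nat_lit 0x1076397) (nat_lit 2818))
 (.node (nat_lit 0x107639b) (.leaf (nat_lit 0x1076399) (nat_lit 2307))
 (.leaf (nat_lit 0x107639b) (nat_lit 2563))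
))) (.node (nat_lit 0x1076843) (.node (nat_lit 0x107639f) (.leaf (nat_lit 0x107639d) (nat_lit 2051))
 (.node (nat_lit 0x1076841) (.leaf (nat_lit 0x107639f) (nat_lit 2307))
 (.leaf (nat_lit 0x1076841) (nat_lit 1540))
)) (.node (nat_lit 0x1076845) (.leaf (nat_lit 0x1076843) (nat_lit 1796))
 (.node (nat_lit 0x1076847) (.leaf (nat_lit 0x1076845) (nat_lit 2309))
 (.leaf (nat_lit 0x1076847) (nat_lit 2308))
))))))) (.node (nat_lit 0x107691d) (.node (nat_lit 0x10768d3) (.node (nat_lit 0x107685d) (.node (nat_lit 0x1076853) (.node (nat_lit 0x107684d) (.node (nat_lit 0x107684b) (.leaf (nat_lit 0x1076849) (nat_lit 2820))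
 (.leaf (nat_lit 0x107684b) (nat_lit 2820))
) (.node (nat_lit 0x107684f) (.leaf (nat_lit 0x107684d) (nat_lit 2308))
 (.node (nat_lit 0x1076851) (.leaf (nat_lit 0x107684f) (nat_lit 2308))
 (.leaf (nat_lit 0x1076851) (nat_lit 3333))
))) (.node (nat_lit 0x1076857) (.node (nat_lit 0x1076855) (.leaf (nat_lit 0x1076853) (nat_lit 3333))
 (.leaf (nat_lit 0x1076855) (nat_lit 2565))
) (.node (nat_lit 0x1076859) (.leaf (nat_lit 0x1076857) (nat_lit 2565))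
 (.node (nat_lit 0x107685b) (.leaf (nat_lit 0x1076859) (nat_lit 2308))
 (.leaf (nat_lit 0x107685b) (nat_lit 2308))
)))) (.node (nat_lit 0x10768c7) (.node (nat_lit 0x10768c1) (.node (nat_lit 0x107685f) (.leaf (nat_lit 0x107685d) (nat_lit 2564))
 (.leaf (nat_lit 0x107685f) (nat_lit 2564))
) (.node (nat_lit 0x10768c3) (.leaf (nat_lit 0x10768c1) (nat_lit 1796))
 (.node (nat_lit 0x10768c5) (.leaf (nat_lit 0x10768c3) (nat_lit 2052))
 (.leaf (nat_lit 0x10768c5) (nat_lit 2308))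
))) (.node (nat_lit 0x10768cd) (.node (nat_lit 0x10768c9) (.leaf (nat_lit 0x10768c7) (nat_lit 2052))
 (.node (nat_lit 0x10768cb) (.leaf (nat_lit 0x10768c9) (nat_lit 2820))
 (.leaf (nat_lit 0x10768cb) (nat_lit 2820))
)) (.node (nat_lit 0x10768cf) (.leaf (nat_lit 0x10768cd) (nat_lit 2820))
 (.node (nat_lit 0x10768d1) (.leaf (nat_lit 0x10768cf) (nat_lit 2564))
 (.leaf (nat_lit 0x10768d1) (nat_lit 3332))
))))) (.node (nat_lit 0x1076907) (.node (nat_lit 0x10768dd) (.node (nat_lit 0x10768d7) (.node (nat_lit 0x10768d5) (.leaf (nat_lit 0x10768d3) (nat_lit 3076))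
 (.leaf (nat_lit 0x10768d5) (nat_lit 3077))
) (.node (nat_lit 0x10768d9) (.leaf (nat_lit 0x10768d7) (nat_lit 3333))
 (.node (nat_lit 0x10768db) (.leaf (nat_lit 0x10768d9) (nat_lit 2820))
 (.leaf (nat_lit 0x10768db) (nat_lit 2564))
))) (.node (nat_lit 0x1076901) (.node (nat_lit 0x10768df) (.leaf (nat_lit 0x10768dd) (nat_lit 2564))
 (.leaf (nat_lit 0x10768df) (nat_lit 2820))
) (.node (nat_lit 0x1076903) (.leaf (nat_lit 0x1076901) (nat_lit 2308))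
 (.node (nat_lit 0x1076905) (.leaf (nat_lit 0x1076903) (nat_lit 2564))
 (.leaf (nat_lit 0x1076905) (nat_lit 2820))
)))) (.node (nat_lit 0x1076911) (.node (nat_lit 0x107690b) (.node (nat_lit 0x1076909) (.leaf (nat_lit 0x1076907) (nat_lit 2564))
 (.leaf (nat_lit 0x1076909) (nat_lit 2564))
) (.node (nat_lit 0x107690d) (.leaf (nat_lit 0x107690b) (nat_lit 2820))
 (.node (nat_lit 0x107690f) (.leaf (nat_lit 0x107690d) (nat_lit 2819))
 (.leaf (nat_lit 0x107690f) (nat_lit 2820))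
))) (.node (nat_lit 0x1076917) (.node (nat_lit 0x1076913) (.leaf (nat_lit 0x1076911) (nat_lit 3329))
 (.node (nat_lit 0x1076915) (.leaf (nat_lit 0x1076913) (nat_lit 3073))
 (.leaf (nat_lit 0x1076915) (nat_lit 3329))
)) (.node (nat_lit 0x1076919) (.leaf (nat_lit 0x1076917) (nat_lit 3329))
 (.node (nat_lit 0x107691b) (.leaf (nat_lit 0x1076919) (nat_lit 3332))
 (.leaf (nat_lit 0x107691b) (nat_lit 3076))
)))))) (.node (nat_lit 0x1076a47) (.node (nat_lit 0x1076991) (.node (nat_lit 0x1076987) (.node (nat_lit 0x1076981) (.node (nat_lit 0x107691f) (.leaf (nat_lit 0x107691d) (nat_lit 3074))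
 (.leaf (nat_lit 0x107691f) (nat_lit 3330))
) (.node (nat_lit 0x1076983) (.leaf (nat_lit 0x1076981) (nat_lit 1796))
 (.node (nat_lit 0x1076985) (.leaf (nat_lit 0x1076983) (nat_lit 2052))
 (.leaf (nat_lit 0x1076985) (nat_lit 2565))
))) (.node (nat_lit 0x107698b) (.node (nat_lit 0x1076989) (.leaf (nat_lit 0x1076987) (nat_lit 2564))
 (.leaf (nat_lit 0x1076989) (nat_lit 2821))
) (.node (nat_lit 0x107698d) (.leaf (nat_lit 0x107698b) (nat_lit 2820))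
 (.node (nat_lit 0x107698f) (.leaf (nat_lit 0x107698d) (nat_lit 2052))
 (.leaf (nat_lit 0x107698f) (nat_lit 2308))
)))) (.node (nat_lit 0x107699b) (.node (nat_lit 0x1076995) (.node (nat_lit 0x1076993) (.leaf (nat_lit 0x1076991) (nat_lit 3332))
 (.leaf (nat_lit 0x1076993) (nat_lit 3329))
) (.node (nat_lit 0x1076997) (.leaf (nat_lit 0x1076995) (nat_lit 2820))
 (.node (nat_lit 0x1076999) (.leaf (nat_lit 0x1076997) (nat_lit 2564))
 (.leaf (nat_lit 0x1076999) (nat_lit 2821))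
))) (.node (nat_lit 0x1076a41) (.node (nat_lit 0x107699d) (.leaf (nat_lit 0x107699b) (nat_lit 2565))
 (.node (nat_lit 0x107699f) (.leaf (nat_lit 0x107699d) (nat_lit 3333))
 (.leaf (nat_lit 0x107699f) (nat_lit 3332))
)) (.node (nat_lit 0x1076a43) (.leaf (nat_lit 0x1076a41) (nat_lit 2565))
 (.node (nat_lit 0x1076a45) (.leaf (nat_lit 0x1076a43) (nat_lit 2821))
 (.leaf (nat_lit 0x1076a45) (nat_lit 2821))
))))) (.node (nat_lit 0x1076a5b) (.node (nat_lit 0x1076a51) (.node (nat_lit 0x1076a4b) (.node (nat_lit 0x1076a49) (.leaf (nat_lit 0x1076a47) (nat_lit 2821))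
 (.leaf (nat_lit 0x1076a49) (nat_lit 2820))
) (.node (nat_lit 0x1076a4d) (.leaf (nat_lit 0x1076a4b) (nat_lit 3076))
 (.node (nat_lit 0x1076a4f) (.leaf (nat_lit 0x1076a4d) (nat_lit 3076))
 (.leaf (nat_lit 0x1076a4f) (nat_lit 2820))
))) (.node (nat_lit 0x1076a55) (.node (nat_lit 0x1076a53) (.leaf (nat_lit 0x1076a51) (nat_lit 3077))
 (.leaf (nat_lit 0x1076a53) (nat_lit 2821))
) (.node (nat_lit 0x1076a57) (.leaf (nat_lit 0x1076a55) (nat_lit 3077))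
 (.node (nat_lit 0x1076a59) (.leaf (nat_lit 0x1076a57) (nat_lit 3077))
 (.leaf (nat_lit 0x1076a59) (nat_lit 3076))
)))) (.node (nat_lit 0x1076ac5) (.node (nat_lit 0x1076a5f) (.node (nat_lit 0x1076a5d) (.leaf (nat_lit 0x1076a5b) (nat_lit 2820))
 (.leaf (nat_lit 0x1076a5d) (nat_lit 3076))
) (.node (nat_lit 0x1076ac1) (.leaf (nat_lit 0x1076a5f) (nat_lit 3332))
 (.node (nat_lit 0x1076ac3) (.leaf (nat_lit 0x1076ac1) (nat_lit 2052))
 (.leaf (nat_lit 0x1076ac3) (nat_lit 2308))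
))) (.node (nat_lit 0x1076acb) (.node (nat_lit 0x1076ac7) (.leaf (nat_lit 0x1076ac5) (nat_lit 2817))
 (.node (nat_lit 0x1076ac9) (.leaf (nat_lit 0x1076ac7) (nat_lit 2820))
 (.leaf (nat_lit 0x1076ac9) (nat_lit 3073))
)) (.node (nat_lit 0x1076acd) (.leaf (nat_lit 0x1076acb) (nat_lit 3076))
 (.node (nat_lit 0x1076acf) (.leaf (nat_lit 0x1076acd) (nat_lit 2308))
 (.leaf (nat_lit 0x1076acf) (nat_lit 2564))
)))))))) (.node (nat_lit 0x1077119) (.node (nat_lit 0x1077085) (.node (nat_lit 0x1076b1b) (.node (nat_lit 0x1076b05) (.node (nat_lit 0x1076adb) (.node (nat_lit 0x1076ad5) (.node (nat_lit 0x1076ad3) (.leaf (nat_lit 0x1076ad1) (nat_lit 3076))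
 (.leaf (nat_lit 0x1076ad3) (nat_lit 3072))
) (.node (nat_lit 0x1076ad7) (.leaf (nat_lit 0x1076ad5) (nat_lit 2564))
 (.node (nat_lit 0x1076ad9) (.leaf (nat_lit 0x1076ad7) (nat_lit 2308))
 (.leaf (nat_lit 0x1076ad9) (nat_lit 2820))
))) (.node (nat_lit 0x1076adf) (.node (nat_lit 0x1076add) (.leaf (nat_lit 0x1076adb) (nat_lit 2564))
 (.leaf (nat_lit 0x1076add) (nat_lit 3332))
) (.node (nat_lit 0x1076b01) (.leaf (nat_lit 0x1076adf) (nat_lit 3332))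
 (.node (nat_lit 0x1076b03) (.leaf (nat_lit 0x1076b01) (nat_lit 1796))
 (.leaf (nat_lit 0x1076b03) (nat_lit 2052))
)))) (.node (nat_lit 0x1076b0f) (.node (nat_lit 0x1076b09) (.node (nat_lit 0x1076b07) (.leaf (nat_lit 0x1076b05) (nat_lit 2561))
 (.leaf (nat_lit 0x1076b07) (nat_lit 2564))
) (.node (nat_lit 0x1076b0b) (.leaf (nat_lit 0x1076b09) (nat_lit 3076))
 (.node (nat_lit 0x1076b0d) (.leaf (nat_lit 0x1076b0b) (nat_lit 3076))
 (.leaf (nat_lit 0x1076b0d) (nat_lit 2564))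
))) (.node (nat_lit 0x1076b15) (.node (nat_lit 0x1076b11) (.leaf (nat_lit 0x1076b0f) (nat_lit 2564))
 (.node (nat_lit 0x1076b13) (.leaf (nat_lit 0x1076b11) (nat_lit 3332))
 (.leaf (nat_lit 0x1076b13) (nat_lit 3332))
)) (.node (nat_lit 0x1076b17) (.leaf (nat_lit 0x1076b15) (nat_lit 2817))
 (.node (nat_lit 0x1076b19) (.leaf (nat_lit 0x1076b17) (nat_lit 2820))
 (.leaf (nat_lit 0x1076b19) (nat_lit 2052))
))))) (.node (nat_lit 0x1076b8f) (.node (nat_lit 0x1076b85) (.node (nat_lit 0x1076b1f) (.node (nat_lit 0x1076b1d) (.leaf (nat_lit 0x1076b1b) (nat_lit 2308))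
 (.leaf (nat_lit 0x1076b1d) (nat_lit 2820))
) (.node (nat_lit 0x1076b81) (.leaf (nat_lit 0x1076b1f) (nat_lit 2820))
 (.node (nat_lit 0x1076b83) (.leaf (nat_lit 0x1076b81) (nat_lit 2052))
 (.leaf (nat_lit 0x1076b83) (nat_lit 2308))
))) (.node (nat_lit 0x1076b89) (.node (nat_lit 0x1076b87) (.leaf (nat_lit 0x1076b85) (nat_lit 2564))
 (.leaf (nat_lit 0x1076b87) (nat_lit 2308))
) (.node (nat_lit 0x1076b8b) (.leaf (nat_lit 0x1076b89) (nat_lit 2818))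
 (.node (nat_lit 0x1076b8d) (.leaf (nat_lit 0x1076b8b) (nat_lit 3074))
 (.leaf (nat_lit 0x1076b8d) (nat_lit 3076))
)))) (.node (nat_lit 0x1076b99) (.node (nat_lit 0x1076b93) (.node (nat_lit 0x1076b91) (.leaf (nat_lit 0x1076b8f) (nat_lit 2820))
 (.leaf (nat_lit 0x1076b91) (nat_lit 3332))
) (.node (nat_lit 0x1076b95) (.leaf (nat_lit 0x1076b93) (nat_lit 3076))
 (.node (nat_lit 0x1076b97) (.leaf (nat_lit 0x1076b95) (nat_lit 3077))
 (.leaf (nat_lit 0x1076b97) (nat_lit 3333))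
))) (.node (nat_lit 0x1076b9f) (.node (nat_lit 0x1076b9b) (.leaf (nat_lit 0x1076b99) (nat_lit 2820))
 (.node (nat_lit 0x1076b9d) (.leaf (nat_lit 0x1076b9b) (nat_lit 2564))
 (.leaf (nat_lit 0x1076b9d) (nat_lit 2308))
)) (.node (nat_lit 0x1077081) (.leaf (nat_lit 0x1076b9f) (nat_lit 2564))
 (.node (nat_lit 0x1077083) (.leaf (nat_lit 0x1077081) (nat_lit 1797))
 (.leaf (nat_lit 0x1077083) (nat_lit 2053))
)))))) (.node (nat_lit 0x10770cf) (.node (nat_lit 0x1077099) (.node (nat_lit 0x107708f) (.node (nat_lit 0x1077089) (.node (nat_lit 0x1077087) (.leaf (nat_lit 0x1077085) (nat_lit 2053))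
 (.leaf (nat_lit 0x1077087) (nat_lit 2309))
) (.node (nat_lit 0x107708b) (.leaf (nat_lit 0x1077089) (nat_lit 3074))
 (.node (nat_lit 0x107708d) (.leaf (nat_lit 0x107708b) (nat_lit 2818))
 (.leaf (nat_lit 0x107708d) (nat_lit 3076))
))) (.node (nat_lit 0x1077093) (.node (nat_lit 0x1077091) (.leaf (nat_lit 0x107708f) (nat_lit 2820))
 (.leaf (nat_lit 0x1077091) (nat_lit 3077))
) (.node (nat_lit 0x1077095) (.leaf (nat_lit 0x1077093) (nat_lit 2821))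
 (.node (nat_lit 0x1077097) (.leaf (nat_lit 0x1077095) (nat_lit 3074))
 (.leaf (nat_lit 0x1077097) (nat_lit 2818))
)))) (.node (nat_lit 0x10770c3) (.node (nat_lit 0x107709d) (.node (nat_lit 0x107709b) (.leaf (nat_lit 0x1077099) (nat_lit 2561))
 (.leaf (nat_lit 0x107709b) (nat_lit 2817))
) (.node (nat_lit 0x107709f) (.leaf (nat_lit 0x107709d) (nat_lit 2565))
 (.node (nat_lit 0x10770c1) (.leaf (nat_lit 0x107709f) (nat_lit 2821))
 (.leaf (nat_lit 0x10770c1) (nat_lit 1795))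
))) (.node (nat_lit 0x10770c9) (.node (nat_lit 0x10770c5) (.leaf (nat_lit 0x10770c3) (nat_lit 2051))
 (.node (nat_lit 0x10770c7) (.leaf (nat_lit 0x10770c5) (nat_lit 2307))
 (.leaf (nat_lit 0x10770c7) (nat_lit 2051))
)) (.node (nat_lit 0x10770cb) (.leaf (nat_lit 0x10770c9) (nat_lit 2818))
 (.node (nat_lit 0x10770cd) (.leaf (nat_lit 0x10770cb) (nat_lit 3074))
 (.leaf (nat_lit 0x10770cd) (nat_lit 3074))
))))) (.node (nat_lit 0x1077103) (.node (nat_lit 0x10770d9) (.node (nat_lit 0x10770d3) (.node (nat_lit 0x10770d1) (.leaf (nat_lit 0x10770cf) (nat_lit 2818))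
 (.leaf (nat_lit 0x10770d1) (nat_lit 3074))
) (.node (nat_lit 0x10770d5) (.leaf (nat_lit 0x10770d3) (nat_lit 2818))
 (.node (nat_lit 0x10770d7) (.leaf (nat_lit 0x10770d5) (nat_lit 2818))
 (.leaf (nat_lit 0x10770d7) (nat_lit 3074))
))) (.node (nat_lit 0x10770dd) (.node (nat_lit 0x10770db) (.leaf (nat_lit 0x10770d9) (nat_lit 2817))
 (.leaf (nat_lit 0x10770db) (nat_lit 2561))
) (.node (nat_lit 0x10770df) (.leaf (nat_lit 0x10770dd) (nat_lit 2817))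
 (.node (nat_lit 0x1077101) (.leaf (nat_lit 0x10770df) (nat_lit 3073))
 (.leaf (nat_lit 0x1077101) (nat_lit 2306))
)))) (.node (nat_lit 0x107710d) (.node (nat_lit 0x1077107) (.node (nat_lit 0x1077105) (.leaf (nat_lit 0x1077103) (nat_lit 2562))
 (.leaf (nat_lit 0x1077105) (nat_lit 2818))
) (.node (nat_lit 0x1077109) (.leaf (nat_lit 0x1077107) (nat_lit 2562))
 (.node (nat_lit 0x107710b) (.leaf (nat_lit 0x1077109) (nat_lit 2562))
 (.leaf (nat_lit 0x107710b) (nat_lit 2563))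
))) (.node (nat_lit 0x1077113) (.node (nat_lit 0x107710f) (.leaf (nat_lit 0x107710d) (nat_lit 3074))
 (.node (nat_lit 0x1077111) (.leaf (nat_lit 0x107710f) (nat_lit 2818))
 (.leaf (nat_lit 0x1077111) (nat_lit 3329))
)) (.node (nat_lit 0x1077115) (.leaf (nat_lit 0x1077113) (nat_lit 3073))
 (.node (nat_lit 0x1077117) (.leaf (nat_lit 0x1077115) (nat_lit 2817))
 (.leaf (nat_lit 0x1077117) (nat_lit 3073))
))))))) (.node (nat_lit 0x10772cd) (.node (nat_lit 0x1077283) (.node (nat_lit 0x107714d) (.node (nat_lit 0x1077143) (.node (nat_lit 0x107711d) (.node (nat_lit 0x107711b) (.leaf (nat_lit 0x1077119) (nat_lit 3330))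
 (.leaf (nat_lit 0x107711b) (nat_lit 3074))
) (.node (nat_lit 0x107711f) (.leaf (nat_lit 0x107711d) (nat_lit 3077))
 (.node (nat_lit 0x1077141) (.leaf (nat_lit 0x107711f) (nat_lit 3333))
 (.leaf (nat_lit 0x1077141) (nat_lit 2051))
))) (.node (nat_lit 0x1077147) (.node (nat_lit 0x1077145) (.leaf (nat_lit 0x1077143) (nat_lit 2307))
 (.leaf (nat_lit 0x1077145) (nat_lit 2309))
) (.node (nat_lit 0x1077149) (.leaf (nat_lit 0x1077147) (nat_lit 2565))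
 (.node (nat_lit 0x107714b) (.leaf (nat_lit 0x1077149) (nat_lit 2563))
 (.leaf (nat_lit 0x107714b) (nat_lit 2307))
)))) (.node (nat_lit 0x1077157) (.node (nat_lit 0x1077151) (.node (nat_lit 0x107714f) (.leaf (nat_lit 0x107714d) (nat_lit 2821))
 (.leaf (nat_lit 0x107714f) (nat_lit 2565))
) (.node (nat_lit 0x1077153) (.leaf (nat_lit 0x1077151) (nat_lit 3330))
 (.node (nat_lit 0x1077155) (.leaf (nat_lit 0x1077153) (nat_lit 3074))
 (.leaf (nat_lit 0x1077155) (nat_lit 3075))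
))) (.node (nat_lit 0x107715d) (.node (nat_lit 0x1077159) (.leaf (nat_lit 0x1077157) (nat_lit 2819))
 (.node (nat_lit 0x107715b) (.leaf (nat_lit 0x1077159) (nat_lit 3077))
 (.leaf (nat_lit 0x107715b) (nat_lit 3333))
)) (.node (nat_lit 0x107715f) (.leaf (nat_lit 0x107715d) (nat_lit 2821))
 (.node (nat_lit 0x1077281) (.leaf (nat_lit 0x107715f) (nat_lit 3077))
 (.leaf (nat_lit 0x1077281) (nat_lit 2306))
))))) (.node (nat_lit 0x1077297) (.node (nat_lit 0x107728d) (.node (nat_lit 0x1077287) (.node (nat_lit 0x1077285) (.leaf (nat_lit 0x1077283) (nat_lit 2562))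
 (.leaf (nat_lit 0x1077285) (nat_lit 2818))
) (.node (nat_lit 0x1077289) (.leaf (nat_lit 0x1077287) (nat_lit 2562))
 (.node (nat_lit 0x107728b) (.leaf (nat_lit 0x1077289) (nat_lit 2817))
 (.leaf (nat_lit 0x107728b) (nat_lit 2819))
))) (.node (nat_lit 0x1077291) (.node (nat_lit 0x107728f) (.leaf (nat_lit 0x107728d) (nat_lit 3329))
 (.leaf (nat_lit 0x107728f) (nat_lit 3073))
) (.node (nat_lit 0x1077293) (.leaf (nat_lit 0x1077291) (nat_lit 3074))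
 (.node (nat_lit 0x1077295) (.leaf (nat_lit 0x1077293) (nat_lit 2818))
 (.leaf (nat_lit 0x1077295) (nat_lit 2562))
)))) (.node (nat_lit 0x10772c1) (.node (nat_lit 0x107729b) (.node (nat_lit 0x1077299) (.leaf (nat_lit 0x1077297) (nat_lit 2818))
 (.leaf (nat_lit 0x1077299) (nat_lit 3333))
) (.node (nat_lit 0x107729d) (.leaf (nat_lit 0x107729b) (nat_lit 3077))
 (.node (nat_lit 0x107729f) (.leaf (nat_lit 0x107729d) (nat_lit 2821))
 (.leaf (nat_lit 0x107729f) (nat_lit 3077))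
))) (.node (nat_lit 0x10772c7) (.node (nat_lit 0x10772c3) (.leaf (nat_lit 0x10772c1) (nat_lit 2307))
 (.node (nat_lit 0x10772c5) (.leaf (nat_lit 0x10772c3) (nat_lit 2563))
 (.leaf (nat_lit 0x10772c5) (nat_lit 2561))
)) (.node (nat_lit 0x10772c9) (.leaf (nat_lit 0x10772c7) (nat_lit 2817))
 (.node (nat_lit 0x10772cb) (.leaf (nat_lit 0x10772c9) (nat_lit 2819))
 (.leaf (nat_lit 0x10772cb) (nat_lit 2563))
)))))) (.node (nat_lit 0x1077317) (.node (nat_lit 0x1077301) (.node (nat_lit 0x10772d7) (.node (nat_lit 0x10772d1) (.node (nat_lit 0x10772cf) (.leaf (nat_lit 0x10772cd) (nat_lit 3073))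
 (.leaf (nat_lit 0x10772cf) (nat_lit 2817))
) (.node (nat_lit 0x10772d3) (.leaf (nat_lit 0x10772d1) (nat_lit 3072))
 (.node (nat_lit 0x10772d5) (.leaf (nat_lit 0x10772d3) (nat_lit 2816))
 (.leaf (nat_lit 0x10772d5) (nat_lit 2819))
))) (.node (nat_lit 0x10772db) (.node (nat_lit 0x10772d9) (.leaf (nat_lit 0x10772d7) (nat_lit 2563))
 (.leaf (nat_lit 0x10772d9) (nat_lit 3072))
) (.node (nat_lit 0x10772dd) (.leaf (nat_lit 0x10772db) (nat_lit 3328))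
 (.node (nat_lit 0x10772df) (.leaf (nat_lit 0x10772dd) (nat_lit 2819))
 (.leaf (nat_lit 0x10772df) (nat_lit 3075))
)))) (.node (nat_lit 0x107730b) (.node (nat_lit 0x1077305) (.node (nat_lit 0x1077303) (.leaf (nat_lit 0x1077301) (nat_lit 2049))
 (.leaf (nat_lit 0x1077303) (nat_lit 2305))
) (.node (nat_lit 0x1077307) (.leaf (nat_lit 0x1077305) (nat_lit 2305))
 (.node (nat_lit 0x1077309) (.leaf (nat_lit 0x1077307) (nat_lit 2561))
 (.leaf (nat_lit 0x1077309) (nat_lit 3074))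
))) (.node (nat_lit 0x1077311) (.node (nat_lit 0x107730d) (.leaf (nat_lit 0x107730b) (nat_lit 2818))
 (.node (nat_lit 0x107730f) (.leaf (nat_lit 0x107730d) (nat_lit 3330))
 (.leaf (nat_lit 0x107730f) (nat_lit 3074))
)) (.node (nat_lit 0x1077313) (.leaf (nat_lit 0x1077311) (nat_lit 3330))
 (.node (nat_lit 0x1077315) (.leaf (nat_lit 0x1077313) (nat_lit 3074))
 (.leaf (nat_lit 0x1077315) (nat_lit 3329))
))))) (.node (nat_lit 0x107734b) (.node (nat_lit 0x1077341) (.node (nat_lit 0x107731b) (.node (nat_lit 0x1077319) (.leaf (nat_lit 0x1077317) (nat_lit 3073))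
 (.leaf (nat_lit 0x1077319) (nat_lit 2304))
) (.node (nat_lit 0x107731d) (.leaf (nat_lit 0x107731b) (nat_lit 2560))
 (.node (nat_lit 0x107731f) (.leaf (nat_lit 0x107731d) (nat_lit 2560))
 (.leaf (nat_lit 0x107731f) (nat_lit 2816))
))) (.node (nat_lit 0x1077345) (.node (nat_lit 0x1077343) (.leaf (nat_lit 0x1077341) (nat_lit 2053))
 (.leaf (nat_lit 0x1077343) (nat_lit 2309))
) (.node (nat_lit 0x1077347) (.leaf (nat_lit 0x1077345) (nat_lit 2565))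
 (.node (nat_lit 0x1077349) (.leaf (nat_lit 0x1077347) (nat_lit 2309))
 (.leaf (nat_lit 0x1077349) (nat_lit 2818))
)))) (.node (nat_lit 0x1077355) (.node (nat_lit 0x107734f) (.node (nat_lit 0x107734d) (.leaf (nat_lit 0x107734b) (nat_lit 3074))
 (.leaf (nat_lit 0x107734d) (nat_lit 3077))
) (.node (nat_lit 0x1077351) (.leaf (nat_lit 0x107734f) (nat_lit 2821))
 (.node (nat_lit 0x1077353) (.leaf (nat_lit 0x1077351) (nat_lit 3329))
 (.leaf (nat_lit 0x1077353) (nat_lit 3073))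
))) (.node (nat_lit 0x107735b) (.node (nat_lit 0x1077357) (.leaf (nat_lit 0x1077355) (nat_lit 3073))
 (.node (nat_lit 0x1077359) (.leaf (nat_lit 0x1077357) (nat_lit 3329))
 (.leaf (nat_lit 0x1077359) (nat_lit 2565))
)) (.node (nat_lit 0x107735d) (.leaf (nat_lit 0x107735b) (nat_lit 2309))
 (.node (nat_lit 0x107735f) (.leaf (nat_lit 0x107735d) (nat_lit 2565))
 (.leaf (nat_lit 0x107735f) (nat_lit 2821))
)))))))))))))) (.node (nat_lit 0x10c4881) (.node (nat_lit 0x10a6841) (.node (nat_lit 0x1097281) (.node (nat_lit 0x1093901) (.node (nat_lit 0x10922c1) (.node (nat_lit 0x1091991) (.node (nat_lit 0x1091349) (.node (nat_lit 0x1091195) (.node (nat_lit 0x109114b) (.node (nat_lit 0x1091115) (.node (nat_lit 0x109110b) (.node (nat_lit 0x1091105) (.node (nat_lit 0x1091103) (.leaf (nat_lit 0x1091101) (nat_lit 2305))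
 (.leaf (nat_lit 0x1091103) (nat_lit 2561))
) (.node (nat_lit 0x1091107) (.leaf (nat_lit 0x1091105) (nat_lit 2565))
 (.node (nat_lit 0x1091109) (.leaf (nat_lit 0x1091107) (nat_lit 2561))
 (.leaf (nat_lit 0x1091109) (nat_lit 2560))
))) (.node (nat_lit 0x109110f) (.node (nat_lit 0x109110d) (.leaf (nat_lit 0x109110b) (nat_lit 2816))
 (.leaf (nat_lit 0x109110d) (nat_lit 2561))
) (.node (nat_lit 0x1091111) (.leaf (nat_lit 0x109110f) (nat_lit 2563))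
 (.node (nat_lit 0x1091113) (.leaf (nat_lit 0x1091111) (nat_lit 3840))
 (.leaf (nat_lit 0x1091113) (nat_lit 3584))
)))) (.node (nat_lit 0x109111f) (.node (nat_lit 0x1091119) (.node (nat_lit 0x1091117) (.leaf (nat_lit 0x1091115) (nat_lit 3585))
 (.leaf (nat_lit 0x1091117) (nat_lit 3329))
) (.node (nat_lit 0x109111b) (.leaf (nat_lit 0x1091119) (nat_lit 3585))
 (.node (nat_lit 0x109111d) (.leaf (nat_lit 0x109111b) (nat_lit 3329))
 (.leaf (nat_lit 0x109111d) (nat_lit 3330))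
))) (.node (nat_lit 0x1091145) (.node (nat_lit 0x1091141) (.leaf (nat_lit 0x109111f) (nat_lit 3074))
 (.node (nat_lit 0x1091143) (.leaf (nat_lit 0x1091141) (nat_lit 2051))
 (.leaf (nat_lit 0x1091143) (nat_lit 2307))
)) (.node (nat_lit 0x1091147) (.leaf (nat_lit 0x1091145) (nat_lit 2308))
 (.node (nat_lit 0x1091149) (.leaf (nat_lit 0x1091147) (nat_lit 2307))
 (.leaf (nat_lit 0x1091149) (nat_lit 2563))
))))) (.node (nat_lit 0x109115f) (.node (nat_lit 0x1091155) (.node (nat_lit 0x109114f) (.node (nat_lit 0x109114d) (.leaf (nat_lit 0x109114b) (nat_lit 2307))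
 (.leaf (nat_lit 0x109114d) (nat_lit 2561))
) (.node (nat_lit 0x1091151) (.leaf (nat_lit 0x109114f) (nat_lit 2305))
 (.node (nat_lit 0x1091153) (.leaf (nat_lit 0x1091151) (nat_lit 3585))
 (.leaf (nat_lit 0x1091153) (nat_lit 3329))
))) (.node (nat_lit 0x1091159) (.node (nat_lit 0x1091157) (.leaf (nat_lit 0x1091155) (nat_lit 3586))
 (.leaf (nat_lit 0x1091157) (nat_lit 3330))
) (.node (nat_lit 0x109115b) (.leaf (nat_lit 0x1091159) (nat_lit 3329))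
 (.node (nat_lit 0x109115d) (.leaf (nat_lit 0x109115b) (nat_lit 3585))
 (.leaf (nat_lit 0x109115d) (nat_lit 3330))
)))) (.node (nat_lit 0x1091189) (.node (nat_lit 0x1091183) (.node (nat_lit 0x1091181) (.leaf (nat_lit 0x109115f) (nat_lit 3330))
 (.leaf (nat_lit 0x1091181) (nat_lit 2053))
) (.node (nat_lit 0x1091185) (.leaf (nat_lit 0x1091183) (nat_lit 2309))
 (.node (nat_lit 0x1091187) (.leaf (nat_lit 0x1091185) (nat_lit 2565))
 (.leaf (nat_lit 0x1091187) (nat_lit 2309))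
))) (.node (nat_lit 0x109118f) (.node (nat_lit 0x109118b) (.leaf (nat_lit 0x1091189) (nat_lit 2821))
 (.node (nat_lit 0x109118d) (.leaf (nat_lit 0x109118b) (nat_lit 2565))
 (.leaf (nat_lit 0x109118d) (nat_lit 2309))
)) (.node (nat_lit 0x1091191) (.leaf (nat_lit 0x109118f) (nat_lit 2565))
 (.node (nat_lit 0x1091193) (.leaf (nat_lit 0x1091191) (nat_lit 3588))
 (.leaf (nat_lit 0x1091193) (nat_lit 3332))
)))))) (.node (nat_lit 0x10911df) (.node (nat_lit 0x10911c9) (.node (nat_lit 0x109119f) (.node (nat_lit 0x1091199) (.node (nat_lit 0x1091197) (.leaf (nat_lit 0x1091195) (nat_lit 3333))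
 (.leaf (nat_lit 0x1091197) (nat_lit 3077))
) (.node (nat_lit 0x109119b) (.leaf (nat_lit 0x1091199) (nat_lit 3330))
 (.node (nat_lit 0x109119d) (.leaf (nat_lit 0x109119b) (nat_lit 3074))
 (.leaf (nat_lit 0x109119d) (nat_lit 3333))
))) (.node (nat_lit 0x10911c3) (.node (nat_lit 0x10911c1) (.leaf (nat_lit 0x109119f) (nat_lit 3077))
 (.leaf (nat_lit 0x10911c1) (nat_lit 1797))
) (.node (nat_lit 0x10911c5) (.leaf (nat_lit 0x10911c3) (nat_lit 2053))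
 (.node (nat_lit 0x10911c7) (.leaf (nat_lit 0x10911c5) (nat_lit 2309))
 (.leaf (nat_lit 0x10911c7) (nat_lit 2309))
)))) (.node (nat_lit 0x10911d3) (.node (nat_lit 0x10911cd) (.node (nat_lit 0x10911cb) (.leaf (nat_lit 0x10911c9) (nat_lit 2565))
 (.leaf (nat_lit 0x10911cb) (nat_lit 2565))
) (.node (nat_lit 0x10911cf) (.leaf (nat_lit 0x10911cd) (nat_lit 2309))
 (.node (nat_lit 0x10911d1) (.leaf (nat_lit 0x10911cf) (nat_lit 2053))
 (.leaf (nat_lit 0x10911d1) (nat_lit 3333))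
))) (.node (nat_lit 0x10911d9) (.node (nat_lit 0x10911d5) (.leaf (nat_lit 0x10911d3) (nat_lit 3077))
 (.node (nat_lit 0x10911d7) (.leaf (nat_lit 0x10911d5) (nat_lit 3333))
 (.leaf (nat_lit 0x10911d7) (nat_lit 3077))
)) (.node (nat_lit 0x10911db) (.leaf (nat_lit 0x10911d9) (nat_lit 3074))
 (.node (nat_lit 0x10911dd) (.leaf (nat_lit 0x10911db) (nat_lit 3330))
 (.leaf (nat_lit 0x10911dd) (nat_lit 3077))
))))) (.node (nat_lit 0x1091313) (.node (nat_lit 0x1091309) (.node (nat_lit 0x1091303) (.node (nat_lit 0x1091301) (.leaf (nat_lit 0x10911df) (nat_lit 3333))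
 (.leaf (nat_lit 0x1091301) (nat_lit 2561))
) (.node (nat_lit 0x1091305) (.leaf (nat_lit 0x1091303) (nat_lit 2817))
 (.node (nat_lit 0x1091307) (.leaf (nat_lit 0x1091305) (nat_lit 2821))
 (.leaf (nat_lit 0x1091307) (nat_lit 2817))
))) (.node (nat_lit 0x109130d) (.node (nat_lit 0x109130b) (.leaf (nat_lit 0x1091309) (nat_lit 3333))
 (.leaf (nat_lit 0x109130b) (nat_lit 3077))
) (.node (nat_lit 0x109130f) (.leaf (nat_lit 0x109130d) (nat_lit 3074))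
 (.node (nat_lit 0x1091311) (.leaf (nat_lit 0x109130f) (nat_lit 2818))
 (.leaf (nat_lit 0x1091311) (nat_lit 3585))
)))) (.node (nat_lit 0x109131d) (.node (nat_lit 0x1091317) (.node (nat_lit 0x1091315) (.leaf (nat_lit 0x1091313) (nat_lit 3329))
 (.leaf (nat_lit 0x1091315) (nat_lit 3330))
) (.node (nat_lit 0x1091319) (.leaf (nat_lit 0x1091317) (nat_lit 3074))
 (.node (nat_lit 0x109131b) (.leaf (nat_lit 0x1091319) (nat_lit 2816))
 (.leaf (nat_lit 0x109131b) (nat_lit 3072))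
))) (.node (nat_lit 0x1091343) (.node (nat_lit 0x109131f) (.leaf (nat_lit 0x109131d) (nat_lit 2817))
 (.node (nat_lit 0x1091341) (.leaf (nat_lit 0x109131f) (nat_lit 2819))
 (.leaf (nat_lit 0x1091341) (nat_lit 2307))
)) (.node (nat_lit 0x1091345) (.leaf (nat_lit 0x1091343) (nat_lit 2563))
 (.node (nat_lit 0x1091347) (.leaf (nat_lit 0x1091345) (nat_lit 2564))
 (.leaf (nat_lit 0x1091347) (nat_lit 2563))
))))))) (.node (nat_lit 0x10913dd) (.node (nat_lit 0x1091393) (.node (nat_lit 0x109135d) (.node (nat_lit 0x1091353) (.node (nat_lit 0x109134d) (.node (nat_lit 0x109134b) (.leaf (nat_lit 0x1091349) (nat_lit 3333))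
 (.leaf (nat_lit 0x109134b) (nat_lit 3330))
) (.node (nat_lit 0x109134f) (.leaf (nat_lit 0x109134d) (nat_lit 3074))
 (.node (nat_lit 0x1091351) (.leaf (nat_lit 0x109134f) (nat_lit 3074))
 (.leaf (nat_lit 0x1091351) (nat_lit 3586))
))) (.node (nat_lit 0x1091357) (.node (nat_lit 0x1091355) (.leaf (nat_lit 0x1091353) (nat_lit 3585))
 (.leaf (nat_lit 0x1091355) (nat_lit 3330))
) (.node (nat_lit 0x1091359) (.leaf (nat_lit 0x1091357) (nat_lit 3074))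
 (.node (nat_lit 0x109135b) (.leaf (nat_lit 0x1091359) (nat_lit 2819))
 (.leaf (nat_lit 0x109135b) (nat_lit 2563))
)))) (.node (nat_lit 0x1091387) (.node (nat_lit 0x1091381) (.node (nat_lit 0x109135f) (.leaf (nat_lit 0x109135d) (nat_lit 2817))
 (.leaf (nat_lit 0x109135f) (nat_lit 2561))
) (.node (nat_lit 0x1091383) (.leaf (nat_lit 0x1091381) (nat_lit 2309))
 (.node (nat_lit 0x1091385) (.leaf (nat_lit 0x1091383) (nat_lit 2565))
 (.leaf (nat_lit 0x1091385) (nat_lit 2565))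
))) (.node (nat_lit 0x109138d) (.node (nat_lit 0x1091389) (.leaf (nat_lit 0x1091387) (nat_lit 2565))
 (.node (nat_lit 0x109138b) (.leaf (nat_lit 0x1091389) (nat_lit 3330))
 (.leaf (nat_lit 0x109138b) (nat_lit 3074))
)) (.node (nat_lit 0x109138f) (.leaf (nat_lit 0x109138d) (nat_lit 3077))
 (.node (nat_lit 0x1091391) (.leaf (nat_lit 0x109138f) (nat_lit 2821))
 (.leaf (nat_lit 0x1091391) (nat_lit 3333))
))))) (.node (nat_lit 0x10913c7) (.node (nat_lit 0x109139d) (.node (nat_lit 0x1091397) (.node (nat_lit 0x1091395) (.leaf (nat_lit 0x1091393) (nat_lit 3077))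
 (.leaf (nat_lit 0x1091395) (nat_lit 3586))
) (.node (nat_lit 0x1091399) (.leaf (nat_lit 0x1091397) (nat_lit 3330))
 (.node (nat_lit 0x109139b) (.leaf (nat_lit 0x1091399) (nat_lit 2821))
 (.leaf (nat_lit 0x109139b) (nat_lit 2821))
))) (.node (nat_lit 0x10913c1) (.node (nat_lit 0x109139f) (.leaf (nat_lit 0x109139d) (nat_lit 2565))
 (.leaf (nat_lit 0x109139f) (nat_lit 2821))
) (.node (nat_lit 0x10913c3) (.leaf (nat_lit 0x10913c1) (nat_lit 2053))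
 (.node (nat_lit 0x10913c5) (.leaf (nat_lit 0x10913c3) (nat_lit 2309))
 (.leaf (nat_lit 0x10913c5) (nat_lit 2565))
)))) (.node (nat_lit 0x10913d1) (.node (nat_lit 0x10913cb) (.node (nat_lit 0x10913c9) (.leaf (nat_lit 0x10913c7) (nat_lit 2565))
 (.leaf (nat_lit 0x10913c9) (nat_lit 3333))
) (.node (nat_lit 0x10913cd) (.leaf (nat_lit 0x10913cb) (nat_lit 3333))
 (.node (nat_lit 0x10913cf) (.leaf (nat_lit 0x10913cd) (nat_lit 3077))
 (.leaf (nat_lit 0x10913cf) (nat_lit 3077))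
))) (.node (nat_lit 0x10913d7) (.node (nat_lit 0x10913d3) (.leaf (nat_lit 0x10913d1) (nat_lit 3333))
 (.node (nat_lit 0x10913d5) (.leaf (nat_lit 0x10913d3) (nat_lit 3333))
 (.leaf (nat_lit 0x10913d5) (nat_lit 3589))
)) (.node (nat_lit 0x10913d9) (.leaf (nat_lit 0x10913d7) (nat_lit 3333))
 (.node (nat_lit 0x10913db) (.leaf (nat_lit 0x10913d9) (nat_lit 2821))
 (.leaf (nat_lit 0x10913db) (nat_lit 2821))
)))))) (.node (nat_lit 0x1091947) (.node (nat_lit 0x1091911) (.node (nat_lit 0x1091907) (.node (nat_lit 0x1091901) (.node (nat_lit 0x10913df) (.leaf (nat_lit 0x10913dd) (nat_lit 2565))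
 (.leaf (nat_lit 0x10913df) (nat_lit 2309))
) (.node (nat_lit 0x1091903) (.leaf (nat_lit 0x1091901) (nat_lit 2053))
 (.node (nat_lit 0x1091905) (.leaf (nat_lit 0x1091903) (nat_lit 2309))
 (.leaf (nat_lit 0x1091905) (nat_lit 2565))
))) (.node (nat_lit 0x109190b) (.node (nat_lit 0x1091909) (.leaf (nat_lit 0x1091907) (nat_lit 2309))
 (.leaf (nat_lit 0x1091909) (nat_lit 2309))
) (.node (nat_lit 0x109190d) (.leaf (nat_lit 0x109190b) (nat_lit 2565))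
 (.node (nat_lit 0x109190f) (.leaf (nat_lit 0x109190d) (nat_lit 2564))
 (.leaf (nat_lit 0x109190f) (nat_lit 2308))
)))) (.node (nat_lit 0x109191b) (.node (nat_lit 0x1091915) (.node (nat_lit 0x1091913) (.leaf (nat_lit 0x1091911) (nat_lit 3588))
 (.leaf (nat_lit 0x1091913) (nat_lit 3332))
) (.node (nat_lit 0x1091917) (.leaf (nat_lit 0x1091915) (nat_lit 3330))
 (.node (nat_lit 0x1091919) (.leaf (nat_lit 0x1091917) (nat_lit 3586))
 (.leaf (nat_lit 0x1091919) (nat_lit 3332))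
))) (.node (nat_lit 0x1091941) (.node (nat_lit 0x109191d) (.leaf (nat_lit 0x109191b) (nat_lit 3076))
 (.node (nat_lit 0x109191f) (.leaf (nat_lit 0x109191d) (nat_lit 3074))
 (.leaf (nat_lit 0x109191f) (nat_lit 3330))
)) (.node (nat_lit 0x1091943) (.leaf (nat_lit 0x1091941) (nat_lit 1796))
 (.node (nat_lit 0x1091945) (.leaf (nat_lit 0x1091943) (nat_lit 2052))
 (.leaf (nat_lit 0x1091945) (nat_lit 2308))
))))) (.node (nat_lit 0x109195b) (.node (nat_lit 0x1091951) (.node (nat_lit 0x109194b) (.node (nat_lit 0x1091949) (.leaf (nat_lit 0x1091947) (nat_lit 2052))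
 (.leaf (nat_lit 0x1091949) (nat_lit 2308))
) (.node (nat_lit 0x109194d) (.leaf (nat_lit 0x109194b) (nat_lit 2052))
 (.node (nat_lit 0x109194f) (.leaf (nat_lit 0x109194d) (nat_lit 2308))
 (.leaf (nat_lit 0x109194f) (nat_lit 2564))
))) (.node (nat_lit 0x1091955) (.node (nat_lit 0x1091953) (.leaf (nat_lit 0x1091951) (nat_lit 3332))
 (.leaf (nat_lit 0x1091953) (nat_lit 3076))
) (.node (nat_lit 0x1091957) (.leaf (nat_lit 0x1091955) (nat_lit 3332))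
 (.node (nat_lit 0x1091959) (.leaf (nat_lit 0x1091957) (nat_lit 3588))
 (.leaf (nat_lit 0x1091959) (nat_lit 3076))
)))) (.node (nat_lit 0x1091985) (.node (nat_lit 0x109195f) (.node (nat_lit 0x109195d) (.leaf (nat_lit 0x109195b) (nat_lit 3332))
 (.leaf (nat_lit 0x109195d) (nat_lit 3332))
) (.node (nat_lit 0x1091981) (.leaf (nat_lit 0x109195f) (nat_lit 3076))
 (.node (nat_lit 0x1091983) (.leaf (nat_lit 0x1091981) (nat_lit 1797))
 (.leaf (nat_lit 0x1091983) (nat_lit 2053))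
))) (.node (nat_lit 0x109198b) (.node (nat_lit 0x1091987) (.leaf (nat_lit 0x1091985) (nat_lit 2309))
 (.node (nat_lit 0x1091989) (.leaf (nat_lit 0x1091987) (nat_lit 2053))
 (.leaf (nat_lit 0x1091989) (nat_lit 2565))
)) (.node (nat_lit 0x109198d) (.leaf (nat_lit 0x109198b) (nat_lit 2309))
 (.node (nat_lit 0x109198f) (.leaf (nat_lit 0x109198d) (nat_lit 2053))
 (.leaf (nat_lit 0x109198f) (nat_lit 2309))
)))))))) (.node (nat_lit 0x1091bd9) (.node (nat_lit 0x1091b45) (.node (nat_lit 0x10919db) (.node (nat_lit 0x10919c5) (.node (nat_lit 0x109199b) (.node (nat_lit 0x1091995) (.node (nat_lit 0x1091993) (.leaf (nat_lit 0x1091991) (nat_lit 3333))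
 (.leaf (nat_lit 0x1091993) (nat_lit 3077))
) (.node (nat_lit 0x1091997) (.leaf (nat_lit 0x1091995) (nat_lit 3077))
 (.node (nat_lit 0x1091999) (.leaf (nat_lit 0x1091997) (nat_lit 3333))
 (.leaf (nat_lit 0x1091999) (nat_lit 3074))
))) (.node (nat_lit 0x109199f) (.node (nat_lit 0x109199d) (.leaf (nat_lit 0x109199b) (nat_lit 3330))
 (.leaf (nat_lit 0x109199d) (nat_lit 3332))
) (.node (nat_lit 0x10919c1) (.leaf (nat_lit 0x109199f) (nat_lit 3076))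
 (.node (nat_lit 0x10919c3) (.leaf (nat_lit 0x10919c1) (nat_lit 1796))
 (.leaf (nat_lit 0x10919c3) (nat_lit 2052))
)))) (.node (nat_lit 0x10919cf) (.node (nat_lit 0x10919c9) (.node (nat_lit 0x10919c7) (.leaf (nat_lit 0x10919c5) (nat_lit 2564))
 (.leaf (nat_lit 0x10919c7) (nat_lit 2308))
) (.node (nat_lit 0x10919cb) (.leaf (nat_lit 0x10919c9) (nat_lit 2564))
 (.node (nat_lit 0x10919cd) (.leaf (nat_lit 0x10919cb) (nat_lit 2820))
 (.leaf (nat_lit 0x10919cd) (nat_lit 2308))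
))) (.node (nat_lit 0x10919d5) (.node (nat_lit 0x10919d1) (.leaf (nat_lit 0x10919cf) (nat_lit 2052))
 (.node (nat_lit 0x10919d3) (.leaf (nat_lit 0x10919d1) (nat_lit 3332))
 (.leaf (nat_lit 0x10919d3) (nat_lit 3076))
)) (.node (nat_lit 0x10919d7) (.leaf (nat_lit 0x10919d5) (nat_lit 3077))
 (.node (nat_lit 0x10919d9) (.leaf (nat_lit 0x10919d7) (nat_lit 3333))
 (.leaf (nat_lit 0x10919d9) (nat_lit 3332))
))))) (.node (nat_lit 0x1091b0f) (.node (nat_lit 0x1091b05) (.node (nat_lit 0x10919df) (.node (nat_lit 0x10919dd) (.leaf (nat_lit 0x10919db) (nat_lit 3076))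
 (.leaf (nat_lit 0x10919dd) (nat_lit 3077))
) (.node (nat_lit 0x1091b01) (.leaf (nat_lit 0x10919df) (nat_lit 3333))
 (.node (nat_lit 0x1091b03) (.leaf (nat_lit 0x1091b01) (nat_lit 2308))
 (.leaf (nat_lit 0x1091b03) (nat_lit 2564))
))) (.node (nat_lit 0x1091b09) (.node (nat_lit 0x1091b07) (.leaf (nat_lit 0x1091b05) (nat_lit 2820))
 (.leaf (nat_lit 0x1091b07) (nat_lit 2564))
) (.node (nat_lit 0x1091b0b) (.leaf (nat_lit 0x1091b09) (nat_lit 3076))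
 (.node (nat_lit 0x1091b0d) (.leaf (nat_lit 0x1091b0b) (nat_lit 2820))
 (.leaf (nat_lit 0x1091b0d) (nat_lit 2818))
)))) (.node (nat_lit 0x1091b19) (.node (nat_lit 0x1091b13) (.node (nat_lit 0x1091b11) (.leaf (nat_lit 0x1091b0f) (nat_lit 3074))
 (.leaf (nat_lit 0x1091b11) (nat_lit 3332))
) (.node (nat_lit 0x1091b15) (.leaf (nat_lit 0x1091b13) (nat_lit 3076))
 (.node (nat_lit 0x1091b17) (.leaf (nat_lit 0x1091b15) (nat_lit 3074))
 (.leaf (nat_lit 0x1091b17) (nat_lit 3330))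
))) (.node (nat_lit 0x1091b1f) (.node (nat_lit 0x1091b1b) (.leaf (nat_lit 0x1091b19) (nat_lit 2564))
 (.node (nat_lit 0x1091b1d) (.leaf (nat_lit 0x1091b1b) (nat_lit 2820))
 (.leaf (nat_lit 0x1091b1d) (nat_lit 2820))
)) (.node (nat_lit 0x1091b41) (.leaf (nat_lit 0x1091b1f) (nat_lit 2564))
 (.node (nat_lit 0x1091b43) (.leaf (nat_lit 0x1091b41) (nat_lit 2052))
 (.leaf (nat_lit 0x1091b43) (nat_lit 2308))
)))))) (.node (nat_lit 0x1091b8f) (.node (nat_lit 0x1091b59) (.node (nat_lit 0x1091b4f) (.node (nat_lit 0x1091b49) (.node (nat_lit 0x1091b47) (.leaf (nat_lit 0x1091b45) (nat_lit 2564))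
 (.leaf (nat_lit 0x1091b47) (nat_lit 2308))
) (.node (nat_lit 0x1091b4b) (.leaf (nat_lit 0x1091b49) (nat_lit 3077))
 (.node (nat_lit 0x1091b4d) (.leaf (nat_lit 0x1091b4b) (nat_lit 3076))
 (.leaf (nat_lit 0x1091b4d) (nat_lit 3076))
))) (.node (nat_lit 0x1091b53) (.node (nat_lit 0x1091b51) (.leaf (nat_lit 0x1091b4f) (nat_lit 2820))
 (.leaf (nat_lit 0x1091b51) (nat_lit 3332))
) (.node (nat_lit 0x1091b55) (.leaf (nat_lit 0x1091b53) (nat_lit 3332))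
 (.node (nat_lit 0x1091b57) (.leaf (nat_lit 0x1091b55) (nat_lit 3076))
 (.leaf (nat_lit 0x1091b57) (nat_lit 3332))
)))) (.node (nat_lit 0x1091b83) (.node (nat_lit 0x1091b5d) (.node (nat_lit 0x1091b5b) (.leaf (nat_lit 0x1091b59) (nat_lit 2564))
 (.leaf (nat_lit 0x1091b5b) (nat_lit 2308))
) (.node (nat_lit 0x1091b5f) (.leaf (nat_lit 0x1091b5d) (nat_lit 2564))
 (.node (nat_lit 0x1091b81) (.leaf (nat_lit 0x1091b5f) (nat_lit 2820))
 (.leaf (nat_lit 0x1091b81) (nat_lit 2053))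
))) (.node (nat_lit 0x1091b89) (.node (nat_lit 0x1091b85) (.leaf (nat_lit 0x1091b83) (nat_lit 2309))
 (.node (nat_lit 0x1091b87) (.leaf (nat_lit 0x1091b85) (nat_lit 2565))
 (.leaf (nat_lit 0x1091b87) (nat_lit 2309))
)) (.node (nat_lit 0x1091b8b) (.leaf (nat_lit 0x1091b89) (nat_lit 3074))
 (.node (nat_lit 0x1091b8d) (.leaf (nat_lit 0x1091b8b) (nat_lit 3077))
 (.leaf (nat_lit 0x1091b8d) (nat_lit 3076))
))))) (.node (nat_lit 0x1091bc3) (.node (nat_lit 0x1091b99) (.node (nat_lit 0x1091b93) (.node (nat_lit 0x1091b91) (.leaf (nat_lit 0x1091b8f) (nat_lit 2820))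
 (.leaf (nat_lit 0x1091b91) (nat_lit 3332))
) (.node (nat_lit 0x1091b95) (.leaf (nat_lit 0x1091b93) (nat_lit 3076))
 (.node (nat_lit 0x1091b97) (.leaf (nat_lit 0x1091b95) (nat_lit 3333))
 (.leaf (nat_lit 0x1091b97) (nat_lit 3333))
))) (.node (nat_lit 0x1091b9d) (.node (nat_lit 0x1091b9b) (.leaf (nat_lit 0x1091b99) (nat_lit 2821))
 (.leaf (nat_lit 0x1091b9b) (nat_lit 2565))
) (.node (nat_lit 0x1091b9f) (.leaf (nat_lit 0x1091b9d) (nat_lit 2309))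
 (.node (nat_lit 0x1091bc1) (.leaf (nat_lit 0x1091b9f) (nat_lit 2565))
 (.leaf (nat_lit 0x1091bc1) (nat_lit 2052))
)))) (.node (nat_lit 0x1091bcd) (.node (nat_lit 0x1091bc7) (.node (nat_lit 0x1091bc5) (.leaf (nat_lit 0x1091bc3) (nat_lit 2308))
 (.leaf (nat_lit 0x1091bc5) (nat_lit 2564))
) (.node (nat_lit 0x1091bc9) (.leaf (nat_lit 0x1091bc7) (nat_lit 2308))
 (.node (nat_lit 0x1091bcb) (.leaf (nat_lit 0x1091bc9) (nat_lit 3076))
 (.leaf (nat_lit 0x1091bcb) (nat_lit 2820))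
))) (.node (nat_lit 0x1091bd3) (.node (nat_lit 0x1091bcf) (.leaf (nat_lit 0x1091bcd) (nat_lit 2821))
 (.node (nat_lit 0x1091bd1) (.leaf (nat_lit 0x1091bcf) (nat_lit 3077))
 (.leaf (nat_lit 0x1091bd1) (nat_lit 3332))
)) (.node (nat_lit 0x1091bd5) (.leaf (nat_lit 0x1091bd3) (nat_lit 3076))
 (.node (nat_lit 0x1091bd7) (.leaf (nat_lit 0x1091bd5) (nat_lit 3076))
 (.leaf (nat_lit 0x1091bd7) (nat_lit 3332))
))))))) (.node (nat_lit 0x109218d) (.node (nat_lit 0x10920c3) (.node (nat_lit 0x109208d) (.node (nat_lit 0x1092083) (.node (nat_lit 0x1091bdd) (.node (nat_lit 0x1091bdb) (.leaf (nat_lit 0x1091bd9) (nat_lit 2564))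
 (.leaf (nat_lit 0x1091bdb) (nat_lit 2820))
) (.node (nat_lit 0x1091bdf) (.leaf (nat_lit 0x1091bdd) (nat_lit 2564))
 (.node (nat_lit 0x1092081) (.leaf (nat_lit 0x1091bdf) (nat_lit 2308))
 (.leaf (nat_lit 0x1092081) (nat_lit 1795))
))) (.node (nat_lit 0x1092087) (.node (nat_lit 0x1092085) (.leaf (nat_lit 0x1092083) (nat_lit 2051))
 (.leaf (nat_lit 0x1092085) (nat_lit 2051))
) (.node (nat_lit 0x1092089) (.leaf (nat_lit 0x1092087) (nat_lit 2051))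
 (.node (nat_lit 0x109208b) (.leaf (nat_lit 0x1092089) (nat_lit 2563))
 (.leaf (nat_lit 0x109208b) (nat_lit 2563))
)))) (.node (nat_lit 0x1092097) (.node (nat_lit 0x1092091) (.node (nat_lit 0x109208f) (.leaf (nat_lit 0x109208d) (nat_lit 2307))
 (.leaf (nat_lit 0x109208f) (nat_lit 2307))
) (.node (nat_lit 0x1092093) (.leaf (nat_lit 0x1092091) (nat_lit 3332))
 (.node (nat_lit 0x1092095) (.leaf (nat_lit 0x1092093) (nat_lit 3332))
 (.leaf (nat_lit 0x1092095) (nat_lit 3332))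
))) (.node (nat_lit 0x109209d) (.node (nat_lit 0x1092099) (.leaf (nat_lit 0x1092097) (nat_lit 3076))
 (.node (nat_lit 0x109209b) (.leaf (nat_lit 0x1092099) (nat_lit 3074))
 (.leaf (nat_lit 0x109209b) (nat_lit 2818))
)) (.node (nat_lit 0x109209f) (.leaf (nat_lit 0x109209d) (nat_lit 2818))
 (.node (nat_lit 0x10920c1) (.leaf (nat_lit 0x109209f) (nat_lit 2562))
 (.leaf (nat_lit 0x10920c1) (nat_lit 1539))
))))) (.node (nat_lit 0x10920d7) (.node (nat_lit 0x10920cd) (.node (nat_lit 0x10920c7) (.node (nat_lit 0x10920c5) (.leaf (nat_lit 0x10920c3) (nat_lit 1795))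
 (.leaf (nat_lit 0x10920c5) (nat_lit 2051))
) (.node (nat_lit 0x10920c9) (.leaf (nat_lit 0x10920c7) (nat_lit 1795))
 (.node (nat_lit 0x10920cb) (.leaf (nat_lit 0x10920c9) (nat_lit 2563))
 (.leaf (nat_lit 0x10920cb) (nat_lit 2307))
))) (.node (nat_lit 0x10920d1) (.node (nat_lit 0x10920cf) (.leaf (nat_lit 0x10920cd) (nat_lit 2307))
 (.leaf (nat_lit 0x10920cf) (nat_lit 2307))
) (.node (nat_lit 0x10920d3) (.leaf (nat_lit 0x10920d1) (nat_lit 3332))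
 (.node (nat_lit 0x10920d5) (.leaf (nat_lit 0x10920d3) (nat_lit 3076))
 (.leaf (nat_lit 0x10920d5) (nat_lit 2820))
)))) (.node (nat_lit 0x1092181) (.node (nat_lit 0x10920db) (.node (nat_lit 0x10920d9) (.leaf (nat_lit 0x10920d7) (nat_lit 3076))
 (.leaf (nat_lit 0x10920d9) (nat_lit 2818))
) (.node (nat_lit 0x10920dd) (.leaf (nat_lit 0x10920db) (nat_lit 2562))
 (.node (nat_lit 0x10920df) (.leaf (nat_lit 0x10920dd) (nat_lit 2562))
 (.leaf (nat_lit 0x10920df) (nat_lit 2818))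
))) (.node (nat_lit 0x1092187) (.node (nat_lit 0x1092183) (.leaf (nat_lit 0x1092181) (nat_lit 1795))
 (.node (nat_lit 0x1092185) (.leaf (nat_lit 0x1092183) (nat_lit 2051))
 (.leaf (nat_lit 0x1092185) (nat_lit 2307))
)) (.node (nat_lit 0x1092189) (.leaf (nat_lit 0x1092187) (nat_lit 2051))
 (.node (nat_lit 0x109218b) (.leaf (nat_lit 0x1092189) (nat_lit 2563))
 (.leaf (nat_lit 0x109218b) (nat_lit 2307))
)))))) (.node (nat_lit 0x10921d7) (.node (nat_lit 0x10921c1) (.node (nat_lit 0x1092197) (.node (nat_lit 0x1092191) (.node (nat_lit 0x109218f) (.leaf (nat_lit 0x109218d) (nat_lit 2051))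
 (.leaf (nat_lit 0x109218f) (nat_lit 2307))
) (.node (nat_lit 0x1092193) (.leaf (nat_lit 0x1092191) (nat_lit 3328))
 (.node (nat_lit 0x1092195) (.leaf (nat_lit 0x1092193) (nat_lit 3072))
 (.leaf (nat_lit 0x1092195) (nat_lit 3074))
))) (.node (nat_lit 0x109219b) (.node (nat_lit 0x1092199) (.leaf (nat_lit 0x1092197) (nat_lit 2818))
 (.leaf (nat_lit 0x1092199) (nat_lit 3330))
) (.node (nat_lit 0x109219d) (.leaf (nat_lit 0x109219b) (nat_lit 3074))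
 (.node (nat_lit 0x109219f) (.leaf (nat_lit 0x109219d) (nat_lit 3073))
 (.leaf (nat_lit 0x109219f) (nat_lit 2817))
)))) (.node (nat_lit 0x10921cb) (.node (nat_lit 0x10921c5) (.node (nat_lit 0x10921c3) (.leaf (nat_lit 0x10921c1) (nat_lit 1795))
 (.leaf (nat_lit 0x10921c3) (nat_lit 2051))
) (.node (nat_lit 0x10921c7) (.leaf (nat_lit 0x10921c5) (nat_lit 2307))
 (.node (nat_lit 0x10921c9) (.leaf (nat_lit 0x10921c7) (nat_lit 2051))
 (.leaf (nat_lit 0x10921c9) (nat_lit 2307))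
))) (.node (nat_lit 0x10921d1) (.node (nat_lit 0x10921cd) (.leaf (nat_lit 0x10921cb) (nat_lit 2563))
 (.node (nat_lit 0x10921cf) (.leaf (nat_lit 0x10921cd) (nat_lit 2307))
 (.leaf (nat_lit 0x10921cf) (nat_lit 2051))
)) (.node (nat_lit 0x10921d3) (.leaf (nat_lit 0x10921d1) (nat_lit 3328))
 (.node (nat_lit 0x10921d5) (.leaf (nat_lit 0x10921d3) (nat_lit 3072))
 (.leaf (nat_lit 0x10921d5) (nat_lit 2818))
))))) (.node (nat_lit 0x109228b) (.node (nat_lit 0x1092281) (.node (nat_lit 0x10921db) (.node (nat_lit 0x10921d9) (.leaf (nat_lit 0x10921d7) (nat_lit 3074))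
 (.leaf (nat_lit 0x10921d9) (nat_lit 3073))
) (.node (nat_lit 0x10921dd) (.leaf (nat_lit 0x10921db) (nat_lit 2817))
 (.node (nat_lit 0x10921df) (.leaf (nat_lit 0x10921dd) (nat_lit 2817))
 (.leaf (nat_lit 0x10921df) (nat_lit 3073))
))) (.node (nat_lit 0x1092285) (.node (nat_lit 0x1092283) (.leaf (nat_lit 0x1092281) (nat_lit 2305))
 (.leaf (nat_lit 0x1092283) (nat_lit 2561))
) (.node (nat_lit 0x1092287) (.leaf (nat_lit 0x1092285) (nat_lit 2817))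
 (.node (nat_lit 0x1092289) (.leaf (nat_lit 0x1092287) (nat_lit 2561))
 (.leaf (nat_lit 0x1092289) (nat_lit 2816))
)))) (.node (nat_lit 0x1092295) (.node (nat_lit 0x109228f) (.node (nat_lit 0x109228d) (.leaf (nat_lit 0x109228b) (nat_lit 3072))
 (.leaf (nat_lit 0x109228d) (nat_lit 2818))
) (.node (nat_lit 0x1092291) (.leaf (nat_lit 0x109228f) (nat_lit 2562))
 (.node (nat_lit 0x1092293) (.leaf (nat_lit 0x1092291) (nat_lit 3072))
 (.leaf (nat_lit 0x1092293) (nat_lit 2816))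
))) (.node (nat_lit 0x109229b) (.node (nat_lit 0x1092297) (.leaf (nat_lit 0x1092295) (nat_lit 2560))
 (.node (nat_lit 0x1092299) (.leaf (nat_lit 0x1092297) (nat_lit 2816))
 (.leaf (nat_lit 0x1092299) (nat_lit 3073))
)) (.node (nat_lit 0x109229d) (.leaf (nat_lit 0x109229b) (nat_lit 2817))
 (.node (nat_lit 0x109229f) (.leaf (nat_lit 0x109229d) (nat_lit 2561))
 (.leaf (nat_lit 0x109229f) (nat_lit 2817))
))))))))) (.node (nat_lit 0x1092bd1) (.node (nat_lit 0x1092989) (.node (nat_lit 0x10923d5) (.node (nat_lit 0x109238b) (.node (nat_lit 0x10922d5) (.node (nat_lit 0x10922cb) (.node (nat_lit 0x10922c5) (.node (nat_lit 0x10922c3) (.leaf (nat_lit 0x10922c1) (nat_lit 2306))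
 (.leaf (nat_lit 0x10922c3) (nat_lit 2562))
) (.node (nat_lit 0x10922c7) (.leaf (nat_lit 0x10922c5) (nat_lit 2817))
 (.node (nat_lit 0x10922c9) (.leaf (nat_lit 0x10922c7) (nat_lit 2818))
 (.leaf (nat_lit 0x10922c9) (nat_lit 2816))
))) (.node (nat_lit 0x10922cf) (.node (nat_lit 0x10922cd) (.leaf (nat_lit 0x10922cb) (nat_lit 3072))
 (.leaf (nat_lit 0x10922cd) (nat_lit 2818))
) (.node (nat_lit 0x10922d1) (.leaf (nat_lit 0x10922cf) (nat_lit 2818))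
 (.node (nat_lit 0x10922d3) (.leaf (nat_lit 0x10922d1) (nat_lit 3074))
 (.leaf (nat_lit 0x10922d3) (nat_lit 3072))
)))) (.node (nat_lit 0x10922df) (.node (nat_lit 0x10922d9) (.node (nat_lit 0x10922d7) (.leaf (nat_lit 0x10922d5) (nat_lit 2818))
 (.leaf (nat_lit 0x10922d7) (nat_lit 2562))
) (.node (nat_lit 0x10922db) (.leaf (nat_lit 0x10922d9) (nat_lit 3073))
 (.node (nat_lit 0x10922dd) (.leaf (nat_lit 0x10922db) (nat_lit 3074))
 (.leaf (nat_lit 0x10922dd) (nat_lit 2817))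
))) (.node (nat_lit 0x1092385) (.node (nat_lit 0x1092381) (.leaf (nat_lit 0x10922df) (nat_lit 2561))
 (.node (nat_lit 0x1092383) (.leaf (nat_lit 0x1092381) (nat_lit 2050))
 (.leaf (nat_lit 0x1092383) (nat_lit 2306))
)) (.node (nat_lit 0x1092387) (.leaf (nat_lit 0x1092385) (nat_lit 2562))
 (.node (nat_lit 0x1092389) (.leaf (nat_lit 0x1092387) (nat_lit 2306))
 (.leaf (nat_lit 0x1092389) (nat_lit 3076))
))))) (.node (nat_lit 0x109239f) (.node (nat_lit 0x1092395) (.node (nat_lit 0x109238f) (.node (nat_lit 0x109238d) (.leaf (nat_lit 0x109238b) (nat_lit 3074))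
 (.leaf (nat_lit 0x109238d) (nat_lit 3076))
) (.node (nat_lit 0x1092391) (.leaf (nat_lit 0x109238f) (nat_lit 2820))
 (.node (nat_lit 0x1092393) (.leaf (nat_lit 0x1092391) (nat_lit 3329))
 (.leaf (nat_lit 0x1092393) (nat_lit 3073))
))) (.node (nat_lit 0x1092399) (.node (nat_lit 0x1092397) (.leaf (nat_lit 0x1092395) (nat_lit 2817))
 (.leaf (nat_lit 0x1092397) (nat_lit 3073))
) (.node (nat_lit 0x109239b) (.leaf (nat_lit 0x1092399) (nat_lit 2818))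
 (.node (nat_lit 0x109239d) (.leaf (nat_lit 0x109239b) (nat_lit 2562))
 (.leaf (nat_lit 0x109239d) (nat_lit 2306))
)))) (.node (nat_lit 0x10923c9) (.node (nat_lit 0x10923c3) (.node (nat_lit 0x10923c1) (.leaf (nat_lit 0x109239f) (nat_lit 2562))
 (.leaf (nat_lit 0x10923c1) (nat_lit 2050))
) (.node (nat_lit 0x10923c5) (.leaf (nat_lit 0x10923c3) (nat_lit 2306))
 (.node (nat_lit 0x10923c7) (.leaf (nat_lit 0x10923c5) (nat_lit 2562))
 (.leaf (nat_lit 0x10923c7) (nat_lit 2562))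
))) (.node (nat_lit 0x10923cf) (.node (nat_lit 0x10923cb) (.leaf (nat_lit 0x10923c9) (nat_lit 3072))
 (.node (nat_lit 0x10923cd) (.leaf (nat_lit 0x10923cb) (nat_lit 3075))
 (.leaf (nat_lit 0x10923cd) (nat_lit 3074))
)) (.node (nat_lit 0x10923d1) (.leaf (nat_lit 0x10923cf) (nat_lit 3074))
 (.node (nat_lit 0x10923d3) (.leaf (nat_lit 0x10923d1) (nat_lit 3329))
 (.leaf (nat_lit 0x10923d3) (nat_lit 3330))
)))))) (.node (nat_lit 0x109289f) (.node (nat_lit 0x1092889) (.node (nat_lit 0x10923df) (.node (nat_lit 0x10923d9) (.node (nat_lit 0x10923d7) (.leaf (nat_lit 0x10923d5) (nat_lit 3073))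
 (.leaf (nat_lit 0x10923d7) (nat_lit 2817))
) (.node (nat_lit 0x10923db) (.leaf (nat_lit 0x10923d9) (nat_lit 2818))
 (.node (nat_lit 0x10923dd) (.leaf (nat_lit 0x10923db) (nat_lit 2818))
 (.leaf (nat_lit 0x10923dd) (nat_lit 2562))
))) (.node (nat_lit 0x1092883) (.node (nat_lit 0x1092881) (.leaf (nat_lit 0x10923df) (nat_lit 2306))
 (.leaf (nat_lit 0x1092881) (nat_lit 1540))
) (.node (nat_lit 0x1092885) (.leaf (nat_lit 0x1092883) (nat_lit 1796))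
 (.node (nat_lit 0x1092887) (.leaf (nat_lit 0x1092885) (nat_lit 1796))
 (.leaf (nat_lit 0x1092887) (nat_lit 1796))
)))) (.node (nat_lit 0x1092893) (.node (nat_lit 0x109288d) (.node (nat_lit 0x109288b) (.leaf (nat_lit 0x1092889) (nat_lit 2564))
 (.leaf (nat_lit 0x109288b) (nat_lit 2308))
) (.node (nat_lit 0x109288f) (.leaf (nat_lit 0x109288d) (nat_lit 2308))
 (.node (nat_lit 0x1092891) (.leaf (nat_lit 0x109288f) (nat_lit 2052))
 (.leaf (nat_lit 0x1092891) (nat_lit 3076))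
))) (.node (nat_lit 0x1092899) (.node (nat_lit 0x1092895) (.leaf (nat_lit 0x1092893) (nat_lit 2820))
 (.node (nat_lit 0x1092897) (.leaf (nat_lit 0x1092895) (nat_lit 3076))
 (.leaf (nat_lit 0x1092897) (nat_lit 2820))
)) (.node (nat_lit 0x109289b) (.leaf (nat_lit 0x1092899) (nat_lit 3074))
 (.node (nat_lit 0x109289d) (.leaf (nat_lit 0x109289b) (nat_lit 3074))
 (.leaf (nat_lit 0x109289d) (nat_lit 2818))
))))) (.node (nat_lit 0x10928d3) (.node (nat_lit 0x10928c9) (.node (nat_lit 0x10928c3) (.node (nat_lit 0x10928c1) (.leaf (nat_lit 0x109289f) (nat_lit 2818))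
 (.leaf (nat_lit 0x10928c1) (nat_lit 1284))
) (.node (nat_lit 0x10928c5) (.leaf (nat_lit 0x10928c3) (nat_lit 1540))
 (.node (nat_lit 0x10928c7) (.leaf (nat_lit 0x10928c5) (nat_lit 1796))
 (.leaf (nat_lit 0x10928c7) (nat_lit 1540))
))) (.node (nat_lit 0x10928cd) (.node (nat_lit 0x10928cb) (.leaf (nat_lit 0x10928c9) (nat_lit 2308))
 (.leaf (nat_lit 0x10928cb) (nat_lit 2052))
) (.node (nat_lit 0x10928cf) (.leaf (nat_lit 0x10928cd) (nat_lit 2052))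
 (.node (nat_lit 0x10928d1) (.leaf (nat_lit 0x10928cf) (nat_lit 2308))
 (.leaf (nat_lit 0x10928d1) (nat_lit 2820))
)))) (.node (nat_lit 0x10928dd) (.node (nat_lit 0x10928d7) (.node (nat_lit 0x10928d5) (.leaf (nat_lit 0x10928d3) (nat_lit 2564))
 (.leaf (nat_lit 0x10928d5) (nat_lit 2564))
) (.node (nat_lit 0x10928d9) (.leaf (nat_lit 0x10928d7) (nat_lit 2820))
 (.node (nat_lit 0x10928db) (.leaf (nat_lit 0x10928d9) (nat_lit 2818))
 (.leaf (nat_lit 0x10928db) (nat_lit 2818))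
))) (.node (nat_lit 0x1092983) (.node (nat_lit 0x10928df) (.leaf (nat_lit 0x10928dd) (nat_lit 2818))
 (.node (nat_lit 0x1092981) (.leaf (nat_lit 0x10928df) (nat_lit 2562))
 (.leaf (nat_lit 0x1092981) (nat_lit 1540))
)) (.node (nat_lit 0x1092985) (.leaf (nat_lit 0x1092983) (nat_lit 1796))
 (.node (nat_lit 0x1092987) (.leaf (nat_lit 0x1092985) (nat_lit 2052))
 (.leaf (nat_lit 0x1092987) (nat_lit 1796))
))))))) (.node (nat_lit 0x1092a9d) (.node (nat_lit 0x10929d3) (.node (nat_lit 0x109299d) (.node (nat_lit 0x1092993) (.node (nat_lit 0x109298d) (.node (nat_lit 0x109298b) (.leaf (nat_lit 0x1092989) (nat_lit 2308))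
 (.leaf (nat_lit 0x109298b) (nat_lit 2052))
) (.node (nat_lit 0x109298f) (.leaf (nat_lit 0x109298d) (nat_lit 1796))
 (.node (nat_lit 0x1092991) (.leaf (nat_lit 0x109298f) (nat_lit 2052))
 (.leaf (nat_lit 0x1092991) (nat_lit 3076))
))) (.node (nat_lit 0x1092997) (.node (nat_lit 0x1092995) (.leaf (nat_lit 0x1092993) (nat_lit 2820))
 (.leaf (nat_lit 0x1092995) (nat_lit 2820))
) (.node (nat_lit 0x1092999) (.leaf (nat_lit 0x1092997) (nat_lit 3076))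
 (.node (nat_lit 0x109299b) (.leaf (nat_lit 0x1092999) (nat_lit 3076))
 (.leaf (nat_lit 0x109299b) (nat_lit 3073))
)))) (.node (nat_lit 0x10929c7) (.node (nat_lit 0x10929c1) (.node (nat_lit 0x109299f) (.leaf (nat_lit 0x109299d) (nat_lit 3076))
 (.leaf (nat_lit 0x109299f) (nat_lit 2820))
) (.node (nat_lit 0x10929c3) (.leaf (nat_lit 0x10929c1) (nat_lit 1540))
 (.node (nat_lit 0x10929c5) (.leaf (nat_lit 0x10929c3) (nat_lit 1796))
 (.leaf (nat_lit 0x10929c5) (nat_lit 2052))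
))) (.node (nat_lit 0x10929cd) (.node (nat_lit 0x10929c9) (.leaf (nat_lit 0x10929c7) (nat_lit 2052))
 (.node (nat_lit 0x10929cb) (.leaf (nat_lit 0x10929c9) (nat_lit 2308))
 (.leaf (nat_lit 0x10929cb) (nat_lit 2308))
)) (.node (nat_lit 0x10929cf) (.leaf (nat_lit 0x10929cd) (nat_lit 2052))
 (.node (nat_lit 0x10929d1) (.leaf (nat_lit 0x10929cf) (nat_lit 1796))
 (.leaf (nat_lit 0x10929d1) (nat_lit 3076))
))))) (.node (nat_lit 0x1092a87) (.node (nat_lit 0x10929dd) (.node (nat_lit 0x10929d7) (.node (nat_lit 0x10929d5) (.leaf (nat_lit 0x10929d3) (nat_lit 2820))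
 (.leaf (nat_lit 0x10929d5) (nat_lit 3074))
) (.node (nat_lit 0x10929d9) (.leaf (nat_lit 0x10929d7) (nat_lit 2818))
 (.node (nat_lit 0x10929db) (.leaf (nat_lit 0x10929d9) (nat_lit 3074))
 (.leaf (nat_lit 0x10929db) (nat_lit 3074))
))) (.node (nat_lit 0x1092a81) (.node (nat_lit 0x10929df) (.leaf (nat_lit 0x10929dd) (nat_lit 2820))
 (.leaf (nat_lit 0x10929df) (nat_lit 3076))
) (.node (nat_lit 0x1092a83) (.leaf (nat_lit 0x1092a81) (nat_lit 2052))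
 (.node (nat_lit 0x1092a85) (.leaf (nat_lit 0x1092a83) (nat_lit 2308))
 (.leaf (nat_lit 0x1092a85) (nat_lit 2564))
)))) (.node (nat_lit 0x1092a91) (.node (nat_lit 0x1092a8b) (.node (nat_lit 0x1092a89) (.leaf (nat_lit 0x1092a87) (nat_lit 2308))
 (.leaf (nat_lit 0x1092a89) (nat_lit 2820))
) (.node (nat_lit 0x1092a8d) (.leaf (nat_lit 0x1092a8b) (nat_lit 2564))
 (.node (nat_lit 0x1092a8f) (.leaf (nat_lit 0x1092a8d) (nat_lit 2562))
 (.leaf (nat_lit 0x1092a8f) (nat_lit 2818))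
))) (.node (nat_lit 0x1092a97) (.node (nat_lit 0x1092a93) (.leaf (nat_lit 0x1092a91) (nat_lit 2820))
 (.node (nat_lit 0x1092a95) (.leaf (nat_lit 0x1092a93) (nat_lit 2564))
 (.leaf (nat_lit 0x1092a95) (nat_lit 2308))
)) (.node (nat_lit 0x1092a99) (.leaf (nat_lit 0x1092a97) (nat_lit 2564))
 (.node (nat_lit 0x1092a9b) (.leaf (nat_lit 0x1092a99) (nat_lit 2820))
 (.leaf (nat_lit 0x1092a9b) (nat_lit 3076))
)))))) (.node (nat_lit 0x1092b87) (.node (nat_lit 0x1092ad1) (.node (nat_lit 0x1092ac7) (.node (nat_lit 0x1092ac1) (.node (nat_lit 0x1092a9f) (.leaf (nat_lit 0x1092a9d) (nat_lit 2820))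
 (.leaf (nat_lit 0x1092a9f) (nat_lit 2564))
) (.node (nat_lit 0x1092ac3) (.leaf (nat_lit 0x1092ac1) (nat_lit 2308))
 (.node (nat_lit 0x1092ac5) (.leaf (nat_lit 0x1092ac3) (nat_lit 2564))
 (.leaf (nat_lit 0x1092ac5) (nat_lit 2564))
))) (.node (nat_lit 0x1092acb) (.node (nat_lit 0x1092ac9) (.leaf (nat_lit 0x1092ac7) (nat_lit 2564))
 (.leaf (nat_lit 0x1092ac9) (nat_lit 2820))
) (.node (nat_lit 0x1092acd) (.leaf (nat_lit 0x1092acb) (nat_lit 2564))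
 (.node (nat_lit 0x1092acf) (.leaf (nat_lit 0x1092acd) (nat_lit 2820))
 (.leaf (nat_lit 0x1092acf) (nat_lit 2564))
)))) (.node (nat_lit 0x1092adb) (.node (nat_lit 0x1092ad5) (.node (nat_lit 0x1092ad3) (.leaf (nat_lit 0x1092ad1) (nat_lit 2820))
 (.leaf (nat_lit 0x1092ad3) (nat_lit 2820))
) (.node (nat_lit 0x1092ad7) (.leaf (nat_lit 0x1092ad5) (nat_lit 2820))
 (.node (nat_lit 0x1092ad9) (.leaf (nat_lit 0x1092ad7) (nat_lit 2564))
 (.leaf (nat_lit 0x1092ad9) (nat_lit 2820))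
))) (.node (nat_lit 0x1092b81) (.node (nat_lit 0x1092add) (.leaf (nat_lit 0x1092adb) (nat_lit 3076))
 (.node (nat_lit 0x1092adf) (.leaf (nat_lit 0x1092add) (nat_lit 2820))
 (.leaf (nat_lit 0x1092adf) (nat_lit 2820))
)) (.node (nat_lit 0x1092b83) (.leaf (nat_lit 0x1092b81) (nat_lit 2306))
 (.node (nat_lit 0x1092b85) (.leaf (nat_lit 0x1092b83) (nat_lit 2562))
 (.leaf (nat_lit 0x1092b85) (nat_lit 2562))
))))) (.node (nat_lit 0x1092b9b) (.node (nat_lit 0x1092b91) (.node (nat_lit 0x1092b8b) (.node (nat_lit 0x1092b89) (.leaf (nat_lit 0x1092b87) (nat_lit 2562))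
 (.leaf (nat_lit 0x1092b89) (nat_lit 2820))
) (.node (nat_lit 0x1092b8d) (.leaf (nat_lit 0x1092b8b) (nat_lit 2564))
 (.node (nat_lit 0x1092b8f) (.leaf (nat_lit 0x1092b8d) (nat_lit 2820))
 (.leaf (nat_lit 0x1092b8f) (nat_lit 2564))
))) (.node (nat_lit 0x1092b95) (.node (nat_lit 0x1092b93) (.leaf (nat_lit 0x1092b91) (nat_lit 3076))
 (.leaf (nat_lit 0x1092b93) (nat_lit 2820))
) (.node (nat_lit 0x1092b97) (.leaf (nat_lit 0x1092b95) (nat_lit 3076))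
 (.node (nat_lit 0x1092b99) (.leaf (nat_lit 0x1092b97) (nat_lit 2820))
 (.leaf (nat_lit 0x1092b99) (nat_lit 2818))
)))) (.node (nat_lit 0x1092bc5) (.node (nat_lit 0x1092b9f) (.node (nat_lit 0x1092b9d) (.leaf (nat_lit 0x1092b9b) (nat_lit 2818))
 (.leaf (nat_lit 0x1092b9d) (nat_lit 2562))
) (.node (nat_lit 0x1092bc1) (.leaf (nat_lit 0x1092b9f) (nat_lit 2564))
 (.node (nat_lit 0x1092bc3) (.leaf (nat_lit 0x1092bc1) (nat_lit 2052))
 (.leaf (nat_lit 0x1092bc3) (nat_lit 2308))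
))) (.node (nat_lit 0x1092bcb) (.node (nat_lit 0x1092bc7) (.leaf (nat_lit 0x1092bc5) (nat_lit 2564))
 (.node (nat_lit 0x1092bc9) (.leaf (nat_lit 0x1092bc7) (nat_lit 2308))
 (.leaf (nat_lit 0x1092bc9) (nat_lit 2564))
)) (.node (nat_lit 0x1092bcd) (.leaf (nat_lit 0x1092bcb) (nat_lit 2308))
 (.node (nat_lit 0x1092bcf) (.leaf (nat_lit 0x1092bcd) (nat_lit 2564))
 (.leaf (nat_lit 0x1092bcf) (nat_lit 2820))
)))))))) (.node (nat_lit 0x1093299) (.node (nat_lit 0x1093105) (.node (nat_lit 0x109309b) (.node (nat_lit 0x1093085) (.node (nat_lit 0x1092bdb) (.node (nat_lit 0x1092bd5) (.node (nat_lit 0x1092bd3) (.leaf (nat_lit 0x1092bd1) (nat_lit 3076))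
 (.leaf (nat_lit 0x1092bd3) (nat_lit 2820))
) (.node (nat_lit 0x1092bd7) (.leaf (nat_lit 0x1092bd5) (nat_lit 2564))
 (.node (nat_lit 0x1092bd9) (.leaf (nat_lit 0x1092bd7) (nat_lit 2820))
 (.leaf (nat_lit 0x1092bd9) (nat_lit 2564))
))) (.node (nat_lit 0x1092bdf) (.node (nat_lit 0x1092bdd) (.leaf (nat_lit 0x1092bdb) (nat_lit 2820))
 (.leaf (nat_lit 0x1092bdd) (nat_lit 2564))
) (.node (nat_lit 0x1093081) (.leaf (nat_lit 0x1092bdf) (nat_lit 2308))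
 (.node (nat_lit 0x1093083) (.leaf (nat_lit 0x1093081) (nat_lit 1796))
 (.leaf (nat_lit 0x1093083) (nat_lit 2052))
)))) (.node (nat_lit 0x109308f) (.node (nat_lit 0x1093089) (.node (nat_lit 0x1093087) (.leaf (nat_lit 0x1093085) (nat_lit 2052))
 (.leaf (nat_lit 0x1093087) (nat_lit 2308))
) (.node (nat_lit 0x109308b) (.leaf (nat_lit 0x1093089) (nat_lit 2563))
 (.node (nat_lit 0x109308d) (.leaf (nat_lit 0x109308b) (nat_lit 2563))
 (.leaf (nat_lit 0x109308d) (nat_lit 2565))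
))) (.node (nat_lit 0x1093095) (.node (nat_lit 0x1093091) (.leaf (nat_lit 0x109308f) (nat_lit 2565))
 (.node (nat_lit 0x1093093) (.leaf (nat_lit 0x1093091) (nat_lit 3332))
 (.leaf (nat_lit 0x1093093) (nat_lit 3076))
)) (.node (nat_lit 0x1093097) (.leaf (nat_lit 0x1093095) (nat_lit 3332))
 (.node (nat_lit 0x1093099) (.leaf (nat_lit 0x1093097) (nat_lit 3076))
 (.leaf (nat_lit 0x1093099) (nat_lit 3074))
))))) (.node (nat_lit 0x10930cf) (.node (nat_lit 0x10930c5) (.node (nat_lit 0x109309f) (.node (nat_lit 0x109309d) (.leaf (nat_lit 0x109309b) (nat_lit 2818))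
 (.leaf (nat_lit 0x109309d) (nat_lit 3077))
) (.node (nat_lit 0x10930c1) (.leaf (nat_lit 0x109309f) (nat_lit 2821))
 (.node (nat_lit 0x10930c3) (.leaf (nat_lit 0x10930c1) (nat_lit 1541))
 (.leaf (nat_lit 0x10930c3) (nat_lit 1797))
))) (.node (nat_lit 0x10930c9) (.node (nat_lit 0x10930c7) (.leaf (nat_lit 0x10930c5) (nat_lit 2053))
 (.leaf (nat_lit 0x10930c7) (nat_lit 1797))
) (.node (nat_lit 0x10930cb) (.leaf (nat_lit 0x10930c9) (nat_lit 2565))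
 (.node (nat_lit 0x10930cd) (.leaf (nat_lit 0x10930cb) (nat_lit 2309))
 (.leaf (nat_lit 0x10930cd) (nat_lit 2309))
)))) (.node (nat_lit 0x10930d9) (.node (nat_lit 0x10930d3) (.node (nat_lit 0x10930d1) (.leaf (nat_lit 0x10930cf) (nat_lit 2565))
 (.leaf (nat_lit 0x10930d1) (nat_lit 3077))
) (.node (nat_lit 0x10930d5) (.leaf (nat_lit 0x10930d3) (nat_lit 2821))
 (.node (nat_lit 0x10930d7) (.leaf (nat_lit 0x10930d5) (nat_lit 2821))
 (.leaf (nat_lit 0x10930d7) (nat_lit 3077))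
))) (.node (nat_lit 0x10930df) (.node (nat_lit 0x10930db) (.leaf (nat_lit 0x10930d9) (nat_lit 2818))
 (.node (nat_lit 0x10930dd) (.leaf (nat_lit 0x10930db) (nat_lit 3074))
 (.leaf (nat_lit 0x10930dd) (nat_lit 3077))
)) (.node (nat_lit 0x1093101) (.leaf (nat_lit 0x10930df) (nat_lit 2821))
 (.node (nat_lit 0x1093103) (.leaf (nat_lit 0x1093101) (nat_lit 2051))
 (.leaf (nat_lit 0x1093103) (nat_lit 2307))
)))))) (.node (nat_lit 0x109314f) (.node (nat_lit 0x1093119) (.node (nat_lit 0x109310f) (.node (nat_lit 0x1093109) (.node (nat_lit 0x1093107) (.leaf (nat_lit 0x1093105) (nat_lit 2308))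
 (.leaf (nat_lit 0x1093107) (nat_lit 2307))
) (.node (nat_lit 0x109310b) (.leaf (nat_lit 0x1093109) (nat_lit 2307))
 (.node (nat_lit 0x109310d) (.leaf (nat_lit 0x109310b) (nat_lit 2563))
 (.leaf (nat_lit 0x109310d) (nat_lit 2564))
))) (.node (nat_lit 0x1093113) (.node (nat_lit 0x1093111) (.leaf (nat_lit 0x109310f) (nat_lit 2563))
 (.leaf (nat_lit 0x1093111) (nat_lit 3584))
) (.node (nat_lit 0x1093115) (.leaf (nat_lit 0x1093113) (nat_lit 3328))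
 (.node (nat_lit 0x1093117) (.leaf (nat_lit 0x1093115) (nat_lit 3330))
 (.leaf (nat_lit 0x1093117) (nat_lit 3074))
)))) (.node (nat_lit 0x1093143) (.node (nat_lit 0x109311d) (.node (nat_lit 0x109311b) (.leaf (nat_lit 0x1093119) (nat_lit 3329))
 (.leaf (nat_lit 0x109311b) (nat_lit 3073))
) (.node (nat_lit 0x109311f) (.leaf (nat_lit 0x109311d) (nat_lit 3329))
 (.node (nat_lit 0x1093141) (.leaf (nat_lit 0x109311f) (nat_lit 3073))
 (.leaf (nat_lit 0x1093141) (nat_lit 1793))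
))) (.node (nat_lit 0x1093149) (.node (nat_lit 0x1093145) (.leaf (nat_lit 0x1093143) (nat_lit 2049))
 (.node (nat_lit 0x1093147) (.leaf (nat_lit 0x1093145) (nat_lit 2305))
 (.leaf (nat_lit 0x1093147) (nat_lit 2049))
)) (.node (nat_lit 0x109314b) (.leaf (nat_lit 0x1093149) (nat_lit 2304))
 (.node (nat_lit 0x109314d) (.leaf (nat_lit 0x109314b) (nat_lit 2048))
 (.leaf (nat_lit 0x109314d) (nat_lit 2304))
))))) (.node (nat_lit 0x1093283) (.node (nat_lit 0x1093159) (.node (nat_lit 0x1093153) (.node (nat_lit 0x1093151) (.leaf (nat_lit 0x109314f) (nat_lit 2560))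
 (.leaf (nat_lit 0x1093151) (nat_lit 3329))
) (.node (nat_lit 0x1093155) (.leaf (nat_lit 0x1093153) (nat_lit 3073))
 (.node (nat_lit 0x1093157) (.leaf (nat_lit 0x1093155) (nat_lit 3074))
 (.leaf (nat_lit 0x1093157) (nat_lit 3330))
))) (.node (nat_lit 0x109315d) (.node (nat_lit 0x109315b) (.leaf (nat_lit 0x1093159) (nat_lit 3073))
 (.leaf (nat_lit 0x109315b) (nat_lit 3329))
) (.node (nat_lit 0x109315f) (.leaf (nat_lit 0x109315d) (nat_lit 3330))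
 (.node (nat_lit 0x1093281) (.leaf (nat_lit 0x109315f) (nat_lit 3074))
 (.leaf (nat_lit 0x1093281) (nat_lit 2309))
)))) (.node (nat_lit 0x109328d) (.node (nat_lit 0x1093287) (.node (nat_lit 0x1093285) (.leaf (nat_lit 0x1093283) (nat_lit 2565))
 (.leaf (nat_lit 0x1093285) (nat_lit 2821))
) (.node (nat_lit 0x1093289) (.leaf (nat_lit 0x1093287) (nat_lit 2565))
 (.node (nat_lit 0x109328b) (.leaf (nat_lit 0x1093289) (nat_lit 3077))
 (.leaf (nat_lit 0x109328b) (nat_lit 2821))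
))) (.node (nat_lit 0x1093293) (.node (nat_lit 0x109328f) (.leaf (nat_lit 0x109328d) (nat_lit 2565))
 (.node (nat_lit 0x1093291) (.leaf (nat_lit 0x109328f) (nat_lit 2821))
 (.leaf (nat_lit 0x1093291) (nat_lit 3077))
)) (.node (nat_lit 0x1093295) (.leaf (nat_lit 0x1093293) (nat_lit 2821))
 (.node (nat_lit 0x1093297) (.leaf (nat_lit 0x1093295) (nat_lit 2565))
 (.leaf (nat_lit 0x1093297) (nat_lit 2821))
))))))) (.node (nat_lit 0x109334d) (.node (nat_lit 0x1093303) (.node (nat_lit 0x10932cd) (.node (nat_lit 0x10932c3) (.node (nat_lit 0x109329d) (.node (nat_lit 0x109329b) (.leaf (nat_lit 0x1093299) (nat_lit 2821))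
 (.leaf (nat_lit 0x109329b) (nat_lit 3077))
) (.node (nat_lit 0x109329f) (.leaf (nat_lit 0x109329d) (nat_lit 3333))
 (.node (nat_lit 0x10932c1) (.leaf (nat_lit 0x109329f) (nat_lit 3077))
 (.leaf (nat_lit 0x10932c1) (nat_lit 2309))
))) (.node (nat_lit 0x10932c7) (.node (nat_lit 0x10932c5) (.leaf (nat_lit 0x10932c3) (nat_lit 2565))
 (.leaf (nat_lit 0x10932c5) (nat_lit 2820))
) (.node (nat_lit 0x10932c9) (.leaf (nat_lit 0x10932c7) (nat_lit 2821))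
 (.node (nat_lit 0x10932cb) (.leaf (nat_lit 0x10932c9) (nat_lit 3074))
 (.leaf (nat_lit 0x10932cb) (nat_lit 3077))
)))) (.node (nat_lit 0x10932d7) (.node (nat_lit 0x10932d1) (.node (nat_lit 0x10932cf) (.leaf (nat_lit 0x10932cd) (nat_lit 2821))
 (.leaf (nat_lit 0x10932cf) (nat_lit 2821))
) (.node (nat_lit 0x10932d3) (.leaf (nat_lit 0x10932d1) (nat_lit 3077))
 (.node (nat_lit 0x10932d5) (.leaf (nat_lit 0x10932d3) (nat_lit 3076))
 (.leaf (nat_lit 0x10932d5) (nat_lit 2821))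
))) (.node (nat_lit 0x10932dd) (.node (nat_lit 0x10932d9) (.leaf (nat_lit 0x10932d7) (nat_lit 2565))
 (.node (nat_lit 0x10932db) (.leaf (nat_lit 0x10932d9) (nat_lit 3073))
 (.leaf (nat_lit 0x10932db) (nat_lit 2817))
)) (.node (nat_lit 0x10932df) (.leaf (nat_lit 0x10932dd) (nat_lit 3333))
 (.node (nat_lit 0x1093301) (.leaf (nat_lit 0x10932df) (nat_lit 3077))
 (.leaf (nat_lit 0x1093301) (nat_lit 2306))
))))) (.node (nat_lit 0x1093317) (.node (nat_lit 0x109330d) (.node (nat_lit 0x1093307) (.node (nat_lit 0x1093305) (.leaf (nat_lit 0x1093303) (nat_lit 2562))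
 (.leaf (nat_lit 0x1093305) (nat_lit 2818))
) (.node (nat_lit 0x1093309) (.leaf (nat_lit 0x1093307) (nat_lit 2562))
 (.node (nat_lit 0x109330b) (.leaf (nat_lit 0x1093309) (nat_lit 3329))
 (.leaf (nat_lit 0x109330b) (nat_lit 3073))
))) (.node (nat_lit 0x1093311) (.node (nat_lit 0x109330f) (.leaf (nat_lit 0x109330d) (nat_lit 2817))
 (.leaf (nat_lit 0x109330f) (nat_lit 3073))
) (.node (nat_lit 0x1093313) (.leaf (nat_lit 0x1093311) (nat_lit 3329))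
 (.node (nat_lit 0x1093315) (.leaf (nat_lit 0x1093313) (nat_lit 3073))
 (.leaf (nat_lit 0x1093315) (nat_lit 2817))
)))) (.node (nat_lit 0x1093341) (.node (nat_lit 0x109331b) (.node (nat_lit 0x1093319) (.leaf (nat_lit 0x1093317) (nat_lit 3073))
 (.leaf (nat_lit 0x1093319) (nat_lit 2562))
) (.node (nat_lit 0x109331d) (.leaf (nat_lit 0x109331b) (nat_lit 2818))
 (.node (nat_lit 0x109331f) (.leaf (nat_lit 0x109331d) (nat_lit 3074))
 (.leaf (nat_lit 0x109331f) (nat_lit 2818))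
))) (.node (nat_lit 0x1093347) (.node (nat_lit 0x1093343) (.leaf (nat_lit 0x1093341) (nat_lit 2306))
 (.node (nat_lit 0x1093345) (.leaf (nat_lit 0x1093343) (nat_lit 2562))
 (.leaf (nat_lit 0x1093345) (nat_lit 2818))
)) (.node (nat_lit 0x1093349) (.leaf (nat_lit 0x1093347) (nat_lit 2818))
 (.node (nat_lit 0x109334b) (.leaf (nat_lit 0x1093349) (nat_lit 3076))
 (.leaf (nat_lit 0x109334b) (nat_lit 3332))
)))))) (.node (nat_lit 0x1093897) (.node (nat_lit 0x1093881) (.node (nat_lit 0x1093357) (.node (nat_lit 0x1093351) (.node (nat_lit 0x109334f) (.leaf (nat_lit 0x109334d) (nat_lit 2820))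
 (.leaf (nat_lit 0x109334f) (nat_lit 2819))
) (.node (nat_lit 0x1093353) (.leaf (nat_lit 0x1093351) (nat_lit 3329))
 (.node (nat_lit 0x1093355) (.leaf (nat_lit 0x1093353) (nat_lit 3332))
 (.leaf (nat_lit 0x1093355) (nat_lit 3073))
))) (.node (nat_lit 0x109335b) (.node (nat_lit 0x1093359) (.leaf (nat_lit 0x1093357) (nat_lit 2817))
 (.leaf (nat_lit 0x1093359) (nat_lit 2818))
) (.node (nat_lit 0x109335d) (.leaf (nat_lit 0x109335b) (nat_lit 2562))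
 (.node (nat_lit 0x109335f) (.leaf (nat_lit 0x109335d) (nat_lit 3074))
 (.leaf (nat_lit 0x109335f) (nat_lit 2818))
)))) (.node (nat_lit 0x109388b) (.node (nat_lit 0x1093885) (.node (nat_lit 0x1093883) (.leaf (nat_lit 0x1093881) (nat_lit 1796))
 (.leaf (nat_lit 0x1093883) (nat_lit 2052))
) (.node (nat_lit 0x1093887) (.leaf (nat_lit 0x1093885) (nat_lit 2052))
 (.node (nat_lit 0x1093889) (.leaf (nat_lit 0x1093887) (nat_lit 2052))
 (.leaf (nat_lit 0x1093889) (nat_lit 2564))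
))) (.node (nat_lit 0x1093891) (.node (nat_lit 0x109388d) (.leaf (nat_lit 0x109388b) (nat_lit 2308))
 (.node (nat_lit 0x109388f) (.leaf (nat_lit 0x109388d) (nat_lit 2565))
 (.leaf (nat_lit 0x109388f) (nat_lit 2309))
)) (.node (nat_lit 0x1093893) (.leaf (nat_lit 0x1093891) (nat_lit 3332))
 (.node (nat_lit 0x1093895) (.leaf (nat_lit 0x1093893) (nat_lit 3076))
 (.leaf (nat_lit 0x1093895) (nat_lit 3332))
))))) (.node (nat_lit 0x10938cb) (.node (nat_lit 0x10938c1) (.node (nat_lit 0x109389b) (.node (nat_lit 0x1093899) (.leaf (nat_lit 0x1093897) (nat_lit 3076))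
 (.leaf (nat_lit 0x1093899) (nat_lit 3074))
) (.node (nat_lit 0x109389d) (.leaf (nat_lit 0x109389b) (nat_lit 3074))
 (.node (nat_lit 0x109389f) (.leaf (nat_lit 0x109389d) (nat_lit 3077))
 (.leaf (nat_lit 0x109389f) (nat_lit 3077))
))) (.node (nat_lit 0x10938c5) (.node (nat_lit 0x10938c3) (.leaf (nat_lit 0x10938c1) (nat_lit 1540))
 (.leaf (nat_lit 0x10938c3) (nat_lit 1796))
) (.node (nat_lit 0x10938c7) (.leaf (nat_lit 0x10938c5) (nat_lit 2052))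
 (.node (nat_lit 0x10938c9) (.leaf (nat_lit 0x10938c7) (nat_lit 1796))
 (.leaf (nat_lit 0x10938c9) (nat_lit 2308))
)))) (.node (nat_lit 0x10938d5) (.node (nat_lit 0x10938cf) (.node (nat_lit 0x10938cd) (.leaf (nat_lit 0x10938cb) (nat_lit 2564))
 (.leaf (nat_lit 0x10938cd) (nat_lit 2564))
) (.node (nat_lit 0x10938d1) (.leaf (nat_lit 0x10938cf) (nat_lit 2308))
 (.node (nat_lit 0x10938d3) (.leaf (nat_lit 0x10938d1) (nat_lit 3076))
 (.leaf (nat_lit 0x10938d3) (nat_lit 2820))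
))) (.node (nat_lit 0x10938db) (.node (nat_lit 0x10938d7) (.leaf (nat_lit 0x10938d5) (nat_lit 2820))
 (.node (nat_lit 0x10938d9) (.leaf (nat_lit 0x10938d7) (nat_lit 3076))
 (.leaf (nat_lit 0x10938d9) (nat_lit 3077))
)) (.node (nat_lit 0x10938dd) (.leaf (nat_lit 0x10938db) (nat_lit 2821))
 (.node (nat_lit 0x10938df) (.leaf (nat_lit 0x10938dd) (nat_lit 2821))
 (.leaf (nat_lit 0x10938df) (nat_lit 3077))
)))))))))) (.node (nat_lit 0x1095bc1) (.node (nat_lit 0x1095311) (.node (nat_lit 0x1093b49) (.node (nat_lit 0x1093a95) (.node (nat_lit 0x109394b) (.node (nat_lit 0x1093915) (.node (nat_lit 0x109390b) (.node (nat_lit 0x1093905) (.node (nat_lit 0x1093903) (.leaf (nat_lit 0x1093901) (nat_lit 1796))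
 (.leaf (nat_lit 0x1093903) (nat_lit 2052))
) (.node (nat_lit 0x1093907) (.leaf (nat_lit 0x1093905) (nat_lit 2308))
 (.node (nat_lit 0x1093909) (.leaf (nat_lit 0x1093907) (nat_lit 2052))
 (.leaf (nat_lit 0x1093909) (nat_lit 2052))
))) (.node (nat_lit 0x109390f) (.node (nat_lit 0x109390d) (.leaf (nat_lit 0x109390b) (nat_lit 2308))
 (.leaf (nat_lit 0x109390d) (nat_lit 2564))
) (.node (nat_lit 0x1093911) (.leaf (nat_lit 0x109390f) (nat_lit 2308))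
 (.node (nat_lit 0x1093913) (.leaf (nat_lit 0x1093911) (nat_lit 3332))
 (.leaf (nat_lit 0x1093913) (nat_lit 3076))
)))) (.node (nat_lit 0x109391f) (.node (nat_lit 0x1093919) (.node (nat_lit 0x1093917) (.leaf (nat_lit 0x1093915) (nat_lit 3076))
 (.leaf (nat_lit 0x1093917) (nat_lit 3332))
) (.node (nat_lit 0x109391b) (.leaf (nat_lit 0x1093919) (nat_lit 3329))
 (.node (nat_lit 0x109391d) (.leaf (nat_lit 0x109391b) (nat_lit 3073))
 (.leaf (nat_lit 0x109391d) (nat_lit 3073))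
))) (.node (nat_lit 0x1093945) (.node (nat_lit 0x1093941) (.leaf (nat_lit 0x109391f) (nat_lit 3329))
 (.node (nat_lit 0x1093943) (.leaf (nat_lit 0x1093941) (nat_lit 1796))
 (.leaf (nat_lit 0x1093943) (nat_lit 2052))
)) (.node (nat_lit 0x1093947) (.leaf (nat_lit 0x1093945) (nat_lit 2308))
 (.node (nat_lit 0x1093949) (.leaf (nat_lit 0x1093947) (nat_lit 2308))
 (.leaf (nat_lit 0x1093949) (nat_lit 2308))
))))) (.node (nat_lit 0x109395f) (.node (nat_lit 0x1093955) (.node (nat_lit 0x109394f) (.node (nat_lit 0x109394d) (.leaf (nat_lit 0x109394b) (nat_lit 2052))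
 (.leaf (nat_lit 0x109394d) (nat_lit 2564))
) (.node (nat_lit 0x1093951) (.leaf (nat_lit 0x109394f) (nat_lit 2308))
 (.node (nat_lit 0x1093953) (.leaf (nat_lit 0x1093951) (nat_lit 3332))
 (.leaf (nat_lit 0x1093953) (nat_lit 3076))
))) (.node (nat_lit 0x1093959) (.node (nat_lit 0x1093957) (.leaf (nat_lit 0x1093955) (nat_lit 3330))
 (.leaf (nat_lit 0x1093957) (nat_lit 3074))
) (.node (nat_lit 0x109395b) (.leaf (nat_lit 0x1093959) (nat_lit 3076))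
 (.node (nat_lit 0x109395d) (.leaf (nat_lit 0x109395b) (nat_lit 3332))
 (.leaf (nat_lit 0x109395d) (nat_lit 3329))
)))) (.node (nat_lit 0x1093a89) (.node (nat_lit 0x1093a83) (.node (nat_lit 0x1093a81) (.leaf (nat_lit 0x109395f) (nat_lit 3329))
 (.leaf (nat_lit 0x1093a81) (nat_lit 2308))
) (.node (nat_lit 0x1093a85) (.leaf (nat_lit 0x1093a83) (nat_lit 2564))
 (.node (nat_lit 0x1093a87) (.leaf (nat_lit 0x1093a85) (nat_lit 2820))
 (.leaf (nat_lit 0x1093a87) (nat_lit 2564))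
))) (.node (nat_lit 0x1093a8f) (.node (nat_lit 0x1093a8b) (.leaf (nat_lit 0x1093a89) (nat_lit 2818))
 (.node (nat_lit 0x1093a8d) (.leaf (nat_lit 0x1093a8b) (nat_lit 3074))
 (.leaf (nat_lit 0x1093a8d) (nat_lit 2821))
)) (.node (nat_lit 0x1093a91) (.leaf (nat_lit 0x1093a8f) (nat_lit 2565))
 (.node (nat_lit 0x1093a93) (.leaf (nat_lit 0x1093a91) (nat_lit 3076))
 (.leaf (nat_lit 0x1093a93) (nat_lit 2820))
)))))) (.node (nat_lit 0x1093adf) (.node (nat_lit 0x1093ac9) (.node (nat_lit 0x1093a9f) (.node (nat_lit 0x1093a99) (.node (nat_lit 0x1093a97) (.leaf (nat_lit 0x1093a95) (nat_lit 2564))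
 (.leaf (nat_lit 0x1093a97) (nat_lit 2820))
) (.node (nat_lit 0x1093a9b) (.leaf (nat_lit 0x1093a99) (nat_lit 3076))
 (.node (nat_lit 0x1093a9d) (.leaf (nat_lit 0x1093a9b) (nat_lit 2820))
 (.leaf (nat_lit 0x1093a9d) (nat_lit 3076))
))) (.node (nat_lit 0x1093ac3) (.node (nat_lit 0x1093ac1) (.leaf (nat_lit 0x1093a9f) (nat_lit 3332))
 (.leaf (nat_lit 0x1093ac1) (nat_lit 2308))
) (.node (nat_lit 0x1093ac5) (.leaf (nat_lit 0x1093ac3) (nat_lit 2564))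
 (.node (nat_lit 0x1093ac7) (.leaf (nat_lit 0x1093ac5) (nat_lit 2820))
 (.leaf (nat_lit 0x1093ac7) (nat_lit 2820))
)))) (.node (nat_lit 0x1093ad3) (.node (nat_lit 0x1093acd) (.node (nat_lit 0x1093acb) (.leaf (nat_lit 0x1093ac9) (nat_lit 3076))
 (.leaf (nat_lit 0x1093acb) (nat_lit 2820))
) (.node (nat_lit 0x1093acf) (.leaf (nat_lit 0x1093acd) (nat_lit 2820))
 (.node (nat_lit 0x1093ad1) (.leaf (nat_lit 0x1093acf) (nat_lit 2564))
 (.leaf (nat_lit 0x1093ad1) (nat_lit 3076))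
))) (.node (nat_lit 0x1093ad9) (.node (nat_lit 0x1093ad5) (.leaf (nat_lit 0x1093ad3) (nat_lit 3076))
 (.node (nat_lit 0x1093ad7) (.leaf (nat_lit 0x1093ad5) (nat_lit 2820))
 (.leaf (nat_lit 0x1093ad7) (nat_lit 2564))
)) (.node (nat_lit 0x1093adb) (.leaf (nat_lit 0x1093ad9) (nat_lit 2820))
 (.node (nat_lit 0x1093add) (.leaf (nat_lit 0x1093adb) (nat_lit 3076))
 (.leaf (nat_lit 0x1093add) (nat_lit 3076))
))))) (.node (nat_lit 0x1093b13) (.node (nat_lit 0x1093b09) (.node (nat_lit 0x1093b03) (.node (nat_lit 0x1093b01) (.leaf (nat_lit 0x1093adf) (nat_lit 3332))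
 (.leaf (nat_lit 0x1093b01) (nat_lit 2562))
) (.node (nat_lit 0x1093b05) (.leaf (nat_lit 0x1093b03) (nat_lit 2818))
 (.node (nat_lit 0x1093b07) (.leaf (nat_lit 0x1093b05) (nat_lit 2818))
 (.leaf (nat_lit 0x1093b07) (nat_lit 2818))
))) (.node (nat_lit 0x1093b0d) (.node (nat_lit 0x1093b0b) (.leaf (nat_lit 0x1093b09) (nat_lit 3076))
 (.leaf (nat_lit 0x1093b0b) (nat_lit 2820))
) (.node (nat_lit 0x1093b0f) (.leaf (nat_lit 0x1093b0d) (nat_lit 3076))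
 (.node (nat_lit 0x1093b11) (.leaf (nat_lit 0x1093b0f) (nat_lit 2820))
 (.leaf (nat_lit 0x1093b11) (nat_lit 3332))
)))) (.node (nat_lit 0x1093b1d) (.node (nat_lit 0x1093b17) (.node (nat_lit 0x1093b15) (.leaf (nat_lit 0x1093b13) (nat_lit 3076))
 (.leaf (nat_lit 0x1093b15) (nat_lit 3076))
) (.node (nat_lit 0x1093b19) (.leaf (nat_lit 0x1093b17) (nat_lit 2820))
 (.node (nat_lit 0x1093b1b) (.leaf (nat_lit 0x1093b19) (nat_lit 2818))
 (.leaf (nat_lit 0x1093b1b) (nat_lit 2820))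
))) (.node (nat_lit 0x1093b43) (.node (nat_lit 0x1093b1f) (.leaf (nat_lit 0x1093b1d) (nat_lit 3074))
 (.node (nat_lit 0x1093b41) (.leaf (nat_lit 0x1093b1f) (nat_lit 3074))
 (.leaf (nat_lit 0x1093b41) (nat_lit 2308))
)) (.node (nat_lit 0x1093b45) (.leaf (nat_lit 0x1093b43) (nat_lit 2564))
 (.node (nat_lit 0x1093b47) (.leaf (nat_lit 0x1093b45) (nat_lit 2820))
 (.leaf (nat_lit 0x1093b47) (nat_lit 2564))
))))))) (.node (nat_lit 0x109515d) (.node (nat_lit 0x1095113) (.node (nat_lit 0x1093b5d) (.node (nat_lit 0x1093b53) (.node (nat_lit 0x1093b4d) (.node (nat_lit 0x1093b4b) (.leaf (nat_lit 0x1093b49) (nat_lit 2820))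
 (.leaf (nat_lit 0x1093b4b) (nat_lit 3076))
) (.node (nat_lit 0x1093b4f) (.leaf (nat_lit 0x1093b4d) (nat_lit 2820))
 (.node (nat_lit 0x1093b51) (.leaf (nat_lit 0x1093b4f) (nat_lit 2564))
 (.leaf (nat_lit 0x1093b51) (nat_lit 3332))
))) (.node (nat_lit 0x1093b57) (.node (nat_lit 0x1093b55) (.leaf (nat_lit 0x1093b53) (nat_lit 3076))
 (.leaf (nat_lit 0x1093b55) (nat_lit 2820))
) (.node (nat_lit 0x1093b59) (.leaf (nat_lit 0x1093b57) (nat_lit 3076))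
 (.node (nat_lit 0x1093b5b) (.leaf (nat_lit 0x1093b59) (nat_lit 2820))
 (.leaf (nat_lit 0x1093b5b) (nat_lit 2564))
)))) (.node (nat_lit 0x1095107) (.node (nat_lit 0x1095101) (.node (nat_lit 0x1093b5f) (.leaf (nat_lit 0x1093b5d) (nat_lit 2820))
 (.leaf (nat_lit 0x1093b5f) (nat_lit 3076))
) (.node (nat_lit 0x1095103) (.leaf (nat_lit 0x1095101) (nat_lit 2309))
 (.node (nat_lit 0x1095105) (.leaf (nat_lit 0x1095103) (nat_lit 2565))
 (.leaf (nat_lit 0x1095105) (nat_lit 2821))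
))) (.node (nat_lit 0x109510d) (.node (nat_lit 0x1095109) (.leaf (nat_lit 0x1095107) (nat_lit 2565))
 (.node (nat_lit 0x109510b) (.leaf (nat_lit 0x1095109) (nat_lit 2565))
 (.leaf (nat_lit 0x109510b) (nat_lit 2821))
)) (.node (nat_lit 0x109510f) (.leaf (nat_lit 0x109510d) (nat_lit 2818))
 (.node (nat_lit 0x1095111) (.leaf (nat_lit 0x109510f) (nat_lit 2562))
 (.leaf (nat_lit 0x1095111) (nat_lit 3584))
))))) (.node (nat_lit 0x1095147) (.node (nat_lit 0x109511d) (.node (nat_lit 0x1095117) (.node (nat_lit 0x1095115) (.leaf (nat_lit 0x1095113) (nat_lit 3328))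
 (.leaf (nat_lit 0x1095115) (nat_lit 3072))
) (.node (nat_lit 0x1095119) (.leaf (nat_lit 0x1095117) (nat_lit 3328))
 (.node (nat_lit 0x109511b) (.leaf (nat_lit 0x1095119) (nat_lit 3329))
 (.leaf (nat_lit 0x109511b) (nat_lit 3073))
))) (.node (nat_lit 0x1095141) (.node (nat_lit 0x109511f) (.leaf (nat_lit 0x109511d) (nat_lit 2817))
 (.leaf (nat_lit 0x109511f) (nat_lit 3073))
) (.node (nat_lit 0x1095143) (.leaf (nat_lit 0x1095141) (nat_lit 2050))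
 (.node (nat_lit 0x1095145) (.leaf (nat_lit 0x1095143) (nat_lit 2306))
 (.leaf (nat_lit 0x1095145) (nat_lit 2562))
)))) (.node (nat_lit 0x1095151) (.node (nat_lit 0x109514b) (.node (nat_lit 0x1095149) (.leaf (nat_lit 0x1095147) (nat_lit 2306))
 (.leaf (nat_lit 0x1095149) (nat_lit 2562))
) (.node (nat_lit 0x109514d) (.leaf (nat_lit 0x109514b) (nat_lit 2306))
 (.node (nat_lit 0x109514f) (.leaf (nat_lit 0x109514d) (nat_lit 2562))
 (.leaf (nat_lit 0x109514f) (nat_lit 2818))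
))) (.node (nat_lit 0x1095157) (.node (nat_lit 0x1095153) (.leaf (nat_lit 0x1095151) (nat_lit 3585))
 (.node (nat_lit 0x1095155) (.leaf (nat_lit 0x1095153) (nat_lit 3329))
 (.leaf (nat_lit 0x1095155) (nat_lit 3073))
)) (.node (nat_lit 0x1095159) (.leaf (nat_lit 0x1095157) (nat_lit 3329))
 (.node (nat_lit 0x109515b) (.leaf (nat_lit 0x1095159) (nat_lit 3073))
 (.leaf (nat_lit 0x109515b) (nat_lit 3329))
)))))) (.node (nat_lit 0x10951c7) (.node (nat_lit 0x1095191) (.node (nat_lit 0x1095187) (.node (nat_lit 0x1095181) (.node (nat_lit 0x109515f) (.leaf (nat_lit 0x109515d) (nat_lit 3073))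
 (.leaf (nat_lit 0x109515f) (nat_lit 2817))
) (.node (nat_lit 0x1095183) (.leaf (nat_lit 0x1095181) (nat_lit 2053))
 (.node (nat_lit 0x1095185) (.leaf (nat_lit 0x1095183) (nat_lit 2309))
 (.leaf (nat_lit 0x1095185) (nat_lit 2565))
))) (.node (nat_lit 0x109518b) (.node (nat_lit 0x1095189) (.leaf (nat_lit 0x1095187) (nat_lit 2309))
 (.leaf (nat_lit 0x1095189) (nat_lit 2821))
) (.node (nat_lit 0x109518d) (.leaf (nat_lit 0x109518b) (nat_lit 2565))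
 (.node (nat_lit 0x109518f) (.leaf (nat_lit 0x109518d) (nat_lit 2309))
 (.leaf (nat_lit 0x109518f) (nat_lit 2565))
)))) (.node (nat_lit 0x109519b) (.node (nat_lit 0x1095195) (.node (nat_lit 0x1095193) (.leaf (nat_lit 0x1095191) (nat_lit 3333))
 (.leaf (nat_lit 0x1095193) (nat_lit 3077))
) (.node (nat_lit 0x1095197) (.leaf (nat_lit 0x1095195) (nat_lit 2821))
 (.node (nat_lit 0x1095199) (.leaf (nat_lit 0x1095197) (nat_lit 3077))
 (.leaf (nat_lit 0x1095199) (nat_lit 2817))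
))) (.node (nat_lit 0x10951c1) (.node (nat_lit 0x109519d) (.leaf (nat_lit 0x109519b) (nat_lit 3073))
 (.node (nat_lit 0x109519f) (.leaf (nat_lit 0x109519d) (nat_lit 3329))
 (.leaf (nat_lit 0x109519f) (nat_lit 3073))
)) (.node (nat_lit 0x10951c3) (.leaf (nat_lit 0x10951c1) (nat_lit 2053))
 (.node (nat_lit 0x10951c5) (.leaf (nat_lit 0x10951c3) (nat_lit 2309))
 (.leaf (nat_lit 0x10951c5) (nat_lit 2818))
))))) (.node (nat_lit 0x10951db) (.node (nat_lit 0x10951d1) (.node (nat_lit 0x10951cb) (.node (nat_lit 0x10951c9) (.leaf (nat_lit 0x10951c7) (nat_lit 2562))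
 (.leaf (nat_lit 0x10951c9) (nat_lit 2818))
) (.node (nat_lit 0x10951cd) (.leaf (nat_lit 0x10951cb) (nat_lit 3074))
 (.node (nat_lit 0x10951cf) (.leaf (nat_lit 0x10951cd) (nat_lit 2565))
 (.leaf (nat_lit 0x10951cf) (nat_lit 2309))
))) (.node (nat_lit 0x10951d5) (.node (nat_lit 0x10951d3) (.leaf (nat_lit 0x10951d1) (nat_lit 3589))
 (.leaf (nat_lit 0x10951d3) (nat_lit 3333))
) (.node (nat_lit 0x10951d7) (.leaf (nat_lit 0x10951d5) (nat_lit 2821))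
 (.node (nat_lit 0x10951d9) (.leaf (nat_lit 0x10951d7) (nat_lit 3077))
 (.leaf (nat_lit 0x10951d9) (nat_lit 3077))
)))) (.node (nat_lit 0x1095305) (.node (nat_lit 0x10951df) (.node (nat_lit 0x10951dd) (.leaf (nat_lit 0x10951db) (nat_lit 2821))
 (.leaf (nat_lit 0x10951dd) (nat_lit 3077))
) (.node (nat_lit 0x1095301) (.leaf (nat_lit 0x10951df) (nat_lit 3333))
 (.node (nat_lit 0x1095303) (.leaf (nat_lit 0x1095301) (nat_lit 2305))
 (.leaf (nat_lit 0x1095303) (nat_lit 2561))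
))) (.node (nat_lit 0x109530b) (.node (nat_lit 0x1095307) (.leaf (nat_lit 0x1095305) (nat_lit 2817))
 (.node (nat_lit 0x1095309) (.leaf (nat_lit 0x1095307) (nat_lit 2561))
 (.leaf (nat_lit 0x1095309) (nat_lit 3073))
)) (.node (nat_lit 0x109530d) (.leaf (nat_lit 0x109530b) (nat_lit 2817))
 (.node (nat_lit 0x109530f) (.leaf (nat_lit 0x109530d) (nat_lit 2561))
 (.leaf (nat_lit 0x109530f) (nat_lit 2817))
)))))))) (.node (nat_lit 0x1095959) (.node (nat_lit 0x10953c5) (.node (nat_lit 0x109535b) (.node (nat_lit 0x1095345) (.node (nat_lit 0x109531b) (.node (nat_lit 0x1095315) (.node (nat_lit 0x1095313) (.leaf (nat_lit 0x1095311) (nat_lit 3328))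
 (.leaf (nat_lit 0x1095313) (nat_lit 3072))
) (.node (nat_lit 0x1095317) (.leaf (nat_lit 0x1095315) (nat_lit 2816))
 (.node (nat_lit 0x1095319) (.leaf (nat_lit 0x1095317) (nat_lit 3072))
 (.leaf (nat_lit 0x1095319) (nat_lit 2560))
))) (.node (nat_lit 0x109531f) (.node (nat_lit 0x109531d) (.leaf (nat_lit 0x109531b) (nat_lit 2816))
 (.leaf (nat_lit 0x109531d) (nat_lit 3072))
) (.node (nat_lit 0x1095341) (.leaf (nat_lit 0x109531f) (nat_lit 2816))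
 (.node (nat_lit 0x1095343) (.leaf (nat_lit 0x1095341) (nat_lit 2306))
 (.leaf (nat_lit 0x1095343) (nat_lit 2562))
)))) (.node (nat_lit 0x109534f) (.node (nat_lit 0x1095349) (.node (nat_lit 0x1095347) (.leaf (nat_lit 0x1095345) (nat_lit 2818))
 (.leaf (nat_lit 0x1095347) (nat_lit 2562))
) (.node (nat_lit 0x109534b) (.leaf (nat_lit 0x1095349) (nat_lit 3073))
 (.node (nat_lit 0x109534d) (.leaf (nat_lit 0x109534b) (nat_lit 3329))
 (.leaf (nat_lit 0x109534d) (nat_lit 2817))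
))) (.node (nat_lit 0x1095355) (.node (nat_lit 0x1095351) (.leaf (nat_lit 0x109534f) (nat_lit 2561))
 (.node (nat_lit 0x1095353) (.leaf (nat_lit 0x1095351) (nat_lit 3584))
 (.leaf (nat_lit 0x1095353) (nat_lit 3328))
)) (.node (nat_lit 0x1095357) (.leaf (nat_lit 0x1095355) (nat_lit 2816))
 (.node (nat_lit 0x1095359) (.leaf (nat_lit 0x1095357) (nat_lit 3072))
 (.leaf (nat_lit 0x1095359) (nat_lit 2818))
))))) (.node (nat_lit 0x109538f) (.node (nat_lit 0x1095385) (.node (nat_lit 0x109535f) (.node (nat_lit 0x109535d) (.leaf (nat_lit 0x109535b) (nat_lit 2562))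
 (.leaf (nat_lit 0x109535d) (nat_lit 2818))
) (.node (nat_lit 0x1095381) (.leaf (nat_lit 0x109535f) (nat_lit 3074))
 (.node (nat_lit 0x1095383) (.leaf (nat_lit 0x1095381) (nat_lit 2309))
 (.leaf (nat_lit 0x1095383) (nat_lit 2565))
))) (.node (nat_lit 0x1095389) (.node (nat_lit 0x1095387) (.leaf (nat_lit 0x1095385) (nat_lit 2821))
 (.leaf (nat_lit 0x1095387) (nat_lit 2565))
) (.node (nat_lit 0x109538b) (.leaf (nat_lit 0x1095389) (nat_lit 2817))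
 (.node (nat_lit 0x109538d) (.leaf (nat_lit 0x109538b) (nat_lit 3073))
 (.leaf (nat_lit 0x109538d) (nat_lit 3073))
)))) (.node (nat_lit 0x1095399) (.node (nat_lit 0x1095393) (.node (nat_lit 0x1095391) (.leaf (nat_lit 0x109538f) (nat_lit 2817))
 (.leaf (nat_lit 0x1095391) (nat_lit 3328))
) (.node (nat_lit 0x1095395) (.leaf (nat_lit 0x1095393) (nat_lit 3072))
 (.node (nat_lit 0x1095397) (.leaf (nat_lit 0x1095395) (nat_lit 3077))
 (.leaf (nat_lit 0x1095397) (nat_lit 3333))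
))) (.node (nat_lit 0x109539f) (.node (nat_lit 0x109539b) (.leaf (nat_lit 0x1095399) (nat_lit 3077))
 (.node (nat_lit 0x109539d) (.leaf (nat_lit 0x109539b) (nat_lit 2821))
 (.leaf (nat_lit 0x109539d) (nat_lit 2565))
)) (.node (nat_lit 0x10953c1) (.leaf (nat_lit 0x109539f) (nat_lit 2821))
 (.node (nat_lit 0x10953c3) (.leaf (nat_lit 0x10953c1) (nat_lit 2309))
 (.leaf (nat_lit 0x10953c3) (nat_lit 2565))
)))))) (.node (nat_lit 0x109590f) (.node (nat_lit 0x10953d9) (.node (nat_lit 0x10953cf) (.node (nat_lit 0x10953c9) (.node (nat_lit 0x10953c7) (.leaf (nat_lit 0x10953c5) (nat_lit 2821))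
 (.leaf (nat_lit 0x10953c7) (nat_lit 2565))
) (.node (nat_lit 0x10953cb) (.leaf (nat_lit 0x10953c9) (nat_lit 2821))
 (.node (nat_lit 0x10953cd) (.leaf (nat_lit 0x10953cb) (nat_lit 2565))
 (.leaf (nat_lit 0x10953cd) (nat_lit 2821))
))) (.node (nat_lit 0x10953d3) (.node (nat_lit 0x10953d1) (.leaf (nat_lit 0x10953cf) (nat_lit 3077))
 (.leaf (nat_lit 0x10953d1) (nat_lit 3333))
) (.node (nat_lit 0x10953d5) (.leaf (nat_lit 0x10953d3) (nat_lit 3077))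
 (.node (nat_lit 0x10953d7) (.leaf (nat_lit 0x10953d5) (nat_lit 2821))
 (.leaf (nat_lit 0x10953d7) (nat_lit 3077))
)))) (.node (nat_lit 0x1095903) (.node (nat_lit 0x10953dd) (.node (nat_lit 0x10953db) (.leaf (nat_lit 0x10953d9) (nat_lit 2821))
 (.leaf (nat_lit 0x10953db) (nat_lit 3077))
) (.node (nat_lit 0x10953df) (.leaf (nat_lit 0x10953dd) (nat_lit 2821))
 (.node (nat_lit 0x1095901) (.leaf (nat_lit 0x10953df) (nat_lit 2565))
 (.leaf (nat_lit 0x1095901) (nat_lit 2562))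
))) (.node (nat_lit 0x1095909) (.node (nat_lit 0x1095905) (.leaf (nat_lit 0x1095903) (nat_lit 2818))
 (.node (nat_lit 0x1095907) (.leaf (nat_lit 0x1095905) (nat_lit 2821))
 (.leaf (nat_lit 0x1095907) (nat_lit 2818))
)) (.node (nat_lit 0x109590b) (.leaf (nat_lit 0x1095909) (nat_lit 2818))
 (.node (nat_lit 0x109590d) (.leaf (nat_lit 0x109590b) (nat_lit 2820))
 (.leaf (nat_lit 0x109590d) (nat_lit 2818))
))))) (.node (nat_lit 0x1095943) (.node (nat_lit 0x1095919) (.node (nat_lit 0x1095913) (.node (nat_lit 0x1095911) (.leaf (nat_lit 0x109590f) (nat_lit 2818))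
 (.leaf (nat_lit 0x1095911) (nat_lit 3584))
) (.node (nat_lit 0x1095915) (.leaf (nat_lit 0x1095913) (nat_lit 3588))
 (.node (nat_lit 0x1095917) (.leaf (nat_lit 0x1095915) (nat_lit 3328))
 (.leaf (nat_lit 0x1095917) (nat_lit 3072))
))) (.node (nat_lit 0x109591d) (.node (nat_lit 0x109591b) (.leaf (nat_lit 0x1095919) (nat_lit 3329))
 (.leaf (nat_lit 0x109591b) (nat_lit 3329))
) (.node (nat_lit 0x109591f) (.leaf (nat_lit 0x109591d) (nat_lit 3073))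
 (.node (nat_lit 0x1095941) (.leaf (nat_lit 0x109591f) (nat_lit 2817))
 (.leaf (nat_lit 0x1095941) (nat_lit 2308))
)))) (.node (nat_lit 0x109594d) (.node (nat_lit 0x1095947) (.node (nat_lit 0x1095945) (.leaf (nat_lit 0x1095943) (nat_lit 2564))
 (.leaf (nat_lit 0x1095945) (nat_lit 2562))
) (.node (nat_lit 0x1095949) (.leaf (nat_lit 0x1095947) (nat_lit 2564))
 (.node (nat_lit 0x109594b) (.leaf (nat_lit 0x1095949) (nat_lit 2820))
 (.leaf (nat_lit 0x109594b) (nat_lit 2564))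
))) (.node (nat_lit 0x1095953) (.node (nat_lit 0x109594f) (.leaf (nat_lit 0x109594d) (nat_lit 2820))
 (.node (nat_lit 0x1095951) (.leaf (nat_lit 0x109594f) (nat_lit 2564))
 (.leaf (nat_lit 0x1095951) (nat_lit 3332))
)) (.node (nat_lit 0x1095955) (.leaf (nat_lit 0x1095953) (nat_lit 3332))
 (.node (nat_lit 0x1095957) (.leaf (nat_lit 0x1095955) (nat_lit 3332))
 (.leaf (nat_lit 0x1095957) (nat_lit 3076))
))))))) (.node (nat_lit 0x1095b0d) (.node (nat_lit 0x10959c3) (.node (nat_lit 0x109598d) (.node (nat_lit 0x1095983) (.node (nat_lit 0x109595d) (.node (nat_lit 0x109595b) (.leaf (nat_lit 0x1095959) (nat_lit 3332))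
 (.leaf (nat_lit 0x109595b) (nat_lit 3332))
) (.node (nat_lit 0x109595f) (.leaf (nat_lit 0x109595d) (nat_lit 3076))
 (.node (nat_lit 0x1095981) (.leaf (nat_lit 0x109595f) (nat_lit 3076))
 (.leaf (nat_lit 0x1095981) (nat_lit 2309))
))) (.node (nat_lit 0x1095987) (.node (nat_lit 0x1095985) (.leaf (nat_lit 0x1095983) (nat_lit 2565))
 (.leaf (nat_lit 0x1095985) (nat_lit 2821))
) (.node (nat_lit 0x1095989) (.leaf (nat_lit 0x1095987) (nat_lit 2565))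
 (.node (nat_lit 0x109598b) (.leaf (nat_lit 0x1095989) (nat_lit 3077))
 (.leaf (nat_lit 0x109598b) (nat_lit 2821))
)))) (.node (nat_lit 0x1095997) (.node (nat_lit 0x1095991) (.node (nat_lit 0x109598f) (.leaf (nat_lit 0x109598d) (nat_lit 2565))
 (.leaf (nat_lit 0x109598f) (nat_lit 2564))
) (.node (nat_lit 0x1095993) (.leaf (nat_lit 0x1095991) (nat_lit 3333))
 (.node (nat_lit 0x1095995) (.leaf (nat_lit 0x1095993) (nat_lit 3332))
 (.leaf (nat_lit 0x1095995) (nat_lit 3077))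
))) (.node (nat_lit 0x109599d) (.node (nat_lit 0x1095999) (.leaf (nat_lit 0x1095997) (nat_lit 2821))
 (.node (nat_lit 0x109599b) (.leaf (nat_lit 0x1095999) (nat_lit 3076))
 (.leaf (nat_lit 0x109599b) (nat_lit 2820))
)) (.node (nat_lit 0x109599f) (.leaf (nat_lit 0x109599d) (nat_lit 3332))
 (.node (nat_lit 0x10959c1) (.leaf (nat_lit 0x109599f) (nat_lit 3076))
 (.leaf (nat_lit 0x10959c1) (nat_lit 2053))
))))) (.node (nat_lit 0x10959d7) (.node (nat_lit 0x10959cd) (.node (nat_lit 0x10959c7) (.node (nat_lit 0x10959c5) (.leaf (nat_lit 0x10959c3) (nat_lit 2309))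
 (.leaf (nat_lit 0x10959c5) (nat_lit 2565))
) (.node (nat_lit 0x10959c9) (.leaf (nat_lit 0x10959c7) (nat_lit 2565))
 (.node (nat_lit 0x10959cb) (.leaf (nat_lit 0x10959c9) (nat_lit 2821))
 (.leaf (nat_lit 0x10959cb) (nat_lit 2821))
))) (.node (nat_lit 0x10959d1) (.node (nat_lit 0x10959cf) (.leaf (nat_lit 0x10959cd) (nat_lit 2565))
 (.leaf (nat_lit 0x10959cf) (nat_lit 2309))
) (.node (nat_lit 0x10959d3) (.leaf (nat_lit 0x10959d1) (nat_lit 3332))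
 (.node (nat_lit 0x10959d5) (.leaf (nat_lit 0x10959d3) (nat_lit 3076))
 (.leaf (nat_lit 0x10959d5) (nat_lit 3077))
)))) (.node (nat_lit 0x1095b01) (.node (nat_lit 0x10959db) (.node (nat_lit 0x10959d9) (.leaf (nat_lit 0x10959d7) (nat_lit 2821))
 (.leaf (nat_lit 0x10959d9) (nat_lit 2817))
) (.node (nat_lit 0x10959dd) (.leaf (nat_lit 0x10959db) (nat_lit 3073))
 (.node (nat_lit 0x10959df) (.leaf (nat_lit 0x10959dd) (nat_lit 3076))
 (.leaf (nat_lit 0x10959df) (nat_lit 3332))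
))) (.node (nat_lit 0x1095b07) (.node (nat_lit 0x1095b03) (.leaf (nat_lit 0x1095b01) (nat_lit 2305))
 (.node (nat_lit 0x1095b05) (.leaf (nat_lit 0x1095b03) (nat_lit 2561))
 (.leaf (nat_lit 0x1095b05) (nat_lit 2817))
)) (.node (nat_lit 0x1095b09) (.leaf (nat_lit 0x1095b07) (nat_lit 2817))
 (.node (nat_lit 0x1095b0b) (.leaf (nat_lit 0x1095b09) (nat_lit 3073))
 (.leaf (nat_lit 0x1095b0b) (nat_lit 3073))
)))))) (.node (nat_lit 0x1095b57) (.node (nat_lit 0x1095b41) (.node (nat_lit 0x1095b17) (.node (nat_lit 0x1095b11) (.node (nat_lit 0x1095b0f) (.leaf (nat_lit 0x1095b0d) (nat_lit 2817))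
 (.leaf (nat_lit 0x1095b0f) (nat_lit 2561))
) (.node (nat_lit 0x1095b13) (.leaf (nat_lit 0x1095b11) (nat_lit 3328))
 (.node (nat_lit 0x1095b15) (.leaf (nat_lit 0x1095b13) (nat_lit 3328))
 (.leaf (nat_lit 0x1095b15) (nat_lit 3072))
))) (.node (nat_lit 0x1095b1b) (.node (nat_lit 0x1095b19) (.leaf (nat_lit 0x1095b17) (nat_lit 2816))
 (.leaf (nat_lit 0x1095b19) (nat_lit 2560))
) (.node (nat_lit 0x1095b1d) (.leaf (nat_lit 0x1095b1b) (nat_lit 2816))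
 (.node (nat_lit 0x1095b1f) (.leaf (nat_lit 0x1095b1d) (nat_lit 3074))
 (.leaf (nat_lit 0x1095b1f) (nat_lit 3072))
)))) (.node (nat_lit 0x1095b4b) (.node (nat_lit 0x1095b45) (.node (nat_lit 0x1095b43) (.leaf (nat_lit 0x1095b41) (nat_lit 2308))
 (.leaf (nat_lit 0x1095b43) (nat_lit 2564))
) (.node (nat_lit 0x1095b47) (.leaf (nat_lit 0x1095b45) (nat_lit 2818))
 (.node (nat_lit 0x1095b49) (.leaf (nat_lit 0x1095b47) (nat_lit 2817))
 (.leaf (nat_lit 0x1095b49) (nat_lit 3329))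
))) (.node (nat_lit 0x1095b51) (.node (nat_lit 0x1095b4d) (.leaf (nat_lit 0x1095b4b) (nat_lit 3073))
 (.node (nat_lit 0x1095b4f) (.leaf (nat_lit 0x1095b4d) (nat_lit 2817))
 (.leaf (nat_lit 0x1095b4f) (nat_lit 2820))
)) (.node (nat_lit 0x1095b53) (.leaf (nat_lit 0x1095b51) (nat_lit 3328))
 (.node (nat_lit 0x1095b55) (.leaf (nat_lit 0x1095b53) (nat_lit 3584))
 (.leaf (nat_lit 0x1095b55) (nat_lit 3076))
))))) (.node (nat_lit 0x1095b8b) (.node (nat_lit 0x1095b81) (.node (nat_lit 0x1095b5b) (.node (nat_lit 0x1095b59) (.leaf (nat_lit 0x1095b57) (nat_lit 2820))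
 (.leaf (nat_lit 0x1095b59) (nat_lit 2820))
) (.node (nat_lit 0x1095b5d) (.leaf (nat_lit 0x1095b5b) (nat_lit 2564))
 (.node (nat_lit 0x1095b5f) (.leaf (nat_lit 0x1095b5d) (nat_lit 3076))
 (.leaf (nat_lit 0x1095b5f) (nat_lit 2820))
))) (.node (nat_lit 0x1095b85) (.node (nat_lit 0x1095b83) (.leaf (nat_lit 0x1095b81) (nat_lit 2564))
 (.leaf (nat_lit 0x1095b83) (nat_lit 2820))
) (.node (nat_lit 0x1095b87) (.leaf (nat_lit 0x1095b85) (nat_lit 2821))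
 (.node (nat_lit 0x1095b89) (.leaf (nat_lit 0x1095b87) (nat_lit 2820))
 (.leaf (nat_lit 0x1095b89) (nat_lit 3076))
)))) (.node (nat_lit 0x1095b95) (.node (nat_lit 0x1095b8f) (.node (nat_lit 0x1095b8d) (.leaf (nat_lit 0x1095b8b) (nat_lit 2820))
 (.leaf (nat_lit 0x1095b8d) (nat_lit 3076))
) (.node (nat_lit 0x1095b91) (.leaf (nat_lit 0x1095b8f) (nat_lit 2820))
 (.node (nat_lit 0x1095b93) (.leaf (nat_lit 0x1095b91) (nat_lit 3332))
 (.leaf (nat_lit 0x1095b93) (nat_lit 3076))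
))) (.node (nat_lit 0x1095b9b) (.node (nat_lit 0x1095b97) (.leaf (nat_lit 0x1095b95) (nat_lit 3332))
 (.node (nat_lit 0x1095b99) (.leaf (nat_lit 0x1095b97) (nat_lit 3076))
 (.leaf (nat_lit 0x1095b99) (nat_lit 3077))
)) (.node (nat_lit 0x1095b9d) (.leaf (nat_lit 0x1095b9b) (nat_lit 3076))
 (.node (nat_lit 0x1095b9f) (.leaf (nat_lit 0x1095b9d) (nat_lit 2820))
 (.leaf (nat_lit 0x1095b9f) (nat_lit 2820))
))))))))) (.node (nat_lit 0x10968d1) (.node (nat_lit 0x1096289) (.node (nat_lit 0x10960d5) (.node (nat_lit 0x109608b) (.node (nat_lit 0x1095bd5) (.node (nat_lit 0x1095bcb) (.node (nat_lit 0x1095bc5) (.node (nat_lit 0x1095bc3) (.leaf (nat_lit 0x1095bc1) (nat_lit 2309))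
 (.leaf (nat_lit 0x1095bc3) (nat_lit 2565))
) (.node (nat_lit 0x1095bc7) (.leaf (nat_lit 0x1095bc5) (nat_lit 2821))
 (.node (nat_lit 0x1095bc9) (.leaf (nat_lit 0x1095bc7) (nat_lit 2821))
 (.leaf (nat_lit 0x1095bc9) (nat_lit 3073))
))) (.node (nat_lit 0x1095bcf) (.node (nat_lit 0x1095bcd) (.leaf (nat_lit 0x1095bcb) (nat_lit 3076))
 (.leaf (nat_lit 0x1095bcd) (nat_lit 3073))
) (.node (nat_lit 0x1095bd1) (.leaf (nat_lit 0x1095bcf) (nat_lit 3073))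
 (.node (nat_lit 0x1095bd3) (.leaf (nat_lit 0x1095bd1) (nat_lit 3328))
 (.leaf (nat_lit 0x1095bd3) (nat_lit 3332))
)))) (.node (nat_lit 0x1095bdf) (.node (nat_lit 0x1095bd9) (.node (nat_lit 0x1095bd7) (.leaf (nat_lit 0x1095bd5) (nat_lit 3332))
 (.leaf (nat_lit 0x1095bd7) (nat_lit 3076))
) (.node (nat_lit 0x1095bdb) (.leaf (nat_lit 0x1095bd9) (nat_lit 3077))
 (.node (nat_lit 0x1095bdd) (.leaf (nat_lit 0x1095bdb) (nat_lit 3077))
 (.leaf (nat_lit 0x1095bdd) (nat_lit 2821))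
))) (.node (nat_lit 0x1096085) (.node (nat_lit 0x1096081) (.leaf (nat_lit 0x1095bdf) (nat_lit 2565))
 (.node (nat_lit 0x1096083) (.leaf (nat_lit 0x1096081) (nat_lit 1794))
 (.leaf (nat_lit 0x1096083) (nat_lit 2050))
)) (.node (nat_lit 0x1096087) (.leaf (nat_lit 0x1096085) (nat_lit 2050))
 (.node (nat_lit 0x1096089) (.leaf (nat_lit 0x1096087) (nat_lit 2050))
 (.leaf (nat_lit 0x1096089) (nat_lit 2818))
))))) (.node (nat_lit 0x109609f) (.node (nat_lit 0x1096095) (.node (nat_lit 0x109608f) (.node (nat_lit 0x109608d) (.leaf (nat_lit 0x109608b) (nat_lit 2562))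
 (.leaf (nat_lit 0x109608d) (nat_lit 2562))
) (.node (nat_lit 0x1096091) (.leaf (nat_lit 0x109608f) (nat_lit 2306))
 (.node (nat_lit 0x1096093) (.leaf (nat_lit 0x1096091) (nat_lit 3329))
 (.leaf (nat_lit 0x1096093) (nat_lit 3073))
))) (.node (nat_lit 0x1096099) (.node (nat_lit 0x1096097) (.leaf (nat_lit 0x1096095) (nat_lit 3330))
 (.leaf (nat_lit 0x1096097) (nat_lit 3074))
) (.node (nat_lit 0x109609b) (.leaf (nat_lit 0x1096099) (nat_lit 2819))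
 (.node (nat_lit 0x109609d) (.leaf (nat_lit 0x109609b) (nat_lit 2819))
 (.leaf (nat_lit 0x109609d) (nat_lit 2563))
)))) (.node (nat_lit 0x10960c9) (.node (nat_lit 0x10960c3) (.node (nat_lit 0x10960c1) (.leaf (nat_lit 0x109609f) (nat_lit 2563))
 (.leaf (nat_lit 0x10960c1) (nat_lit 1538))
) (.node (nat_lit 0x10960c5) (.leaf (nat_lit 0x10960c3) (nat_lit 1794))
 (.node (nat_lit 0x10960c7) (.leaf (nat_lit 0x10960c5) (nat_lit 2050))
 (.leaf (nat_lit 0x10960c7) (nat_lit 1794))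
))) (.node (nat_lit 0x10960cf) (.node (nat_lit 0x10960cb) (.leaf (nat_lit 0x10960c9) (nat_lit 2562))
 (.node (nat_lit 0x10960cd) (.leaf (nat_lit 0x10960cb) (nat_lit 2306))
 (.leaf (nat_lit 0x10960cd) (nat_lit 2306))
)) (.node (nat_lit 0x10960d1) (.leaf (nat_lit 0x10960cf) (nat_lit 2562))
 (.node (nat_lit 0x10960d3) (.leaf (nat_lit 0x10960d1) (nat_lit 3074))
 (.leaf (nat_lit 0x10960d3) (nat_lit 2818))
)))))) (.node (nat_lit 0x109619f) (.node (nat_lit 0x1096189) (.node (nat_lit 0x10960df) (.node (nat_lit 0x10960d9) (.node (nat_lit 0x10960d7) (.leaf (nat_lit 0x10960d5) (nat_lit 2818))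
 (.leaf (nat_lit 0x10960d7) (nat_lit 3074))
) (.node (nat_lit 0x10960db) (.leaf (nat_lit 0x10960d9) (nat_lit 2561))
 (.node (nat_lit 0x10960dd) (.leaf (nat_lit 0x10960db) (nat_lit 2563))
 (.leaf (nat_lit 0x10960dd) (nat_lit 2561))
))) (.node (nat_lit 0x1096183) (.node (nat_lit 0x1096181) (.leaf (nat_lit 0x10960df) (nat_lit 2305))
 (.leaf (nat_lit 0x1096181) (nat_lit 1794))
) (.node (nat_lit 0x1096185) (.leaf (nat_lit 0x1096183) (nat_lit 2050))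
 (.node (nat_lit 0x1096187) (.leaf (nat_lit 0x1096185) (nat_lit 2306))
 (.leaf (nat_lit 0x1096187) (nat_lit 2050))
)))) (.node (nat_lit 0x1096193) (.node (nat_lit 0x109618d) (.node (nat_lit 0x109618b) (.leaf (nat_lit 0x1096189) (nat_lit 2562))
 (.leaf (nat_lit 0x109618b) (nat_lit 2306))
) (.node (nat_lit 0x109618f) (.leaf (nat_lit 0x109618d) (nat_lit 2050))
 (.node (nat_lit 0x1096191) (.leaf (nat_lit 0x109618f) (nat_lit 2306))
 (.leaf (nat_lit 0x1096191) (nat_lit 3073))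
))) (.node (nat_lit 0x1096199) (.node (nat_lit 0x1096195) (.leaf (nat_lit 0x1096193) (nat_lit 2817))
 (.node (nat_lit 0x1096197) (.leaf (nat_lit 0x1096195) (nat_lit 2561))
 (.leaf (nat_lit 0x1096197) (nat_lit 2817))
)) (.node (nat_lit 0x109619b) (.leaf (nat_lit 0x1096199) (nat_lit 2817))
 (.node (nat_lit 0x109619d) (.leaf (nat_lit 0x109619b) (nat_lit 3073))
 (.leaf (nat_lit 0x109619d) (nat_lit 3329))
))))) (.node (nat_lit 0x10961d3) (.node (nat_lit 0x10961c9) (.node (nat_lit 0x10961c3) (.node (nat_lit 0x10961c1) (.leaf (nat_lit 0x109619f) (nat_lit 3073))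
 (.leaf (nat_lit 0x10961c1) (nat_lit 1794))
) (.node (nat_lit 0x10961c5) (.leaf (nat_lit 0x10961c3) (nat_lit 2050))
 (.node (nat_lit 0x10961c7) (.leaf (nat_lit 0x10961c5) (nat_lit 2306))
 (.leaf (nat_lit 0x10961c7) (nat_lit 2306))
))) (.node (nat_lit 0x10961cd) (.node (nat_lit 0x10961cb) (.leaf (nat_lit 0x10961c9) (nat_lit 2562))
 (.leaf (nat_lit 0x10961cb) (nat_lit 2562))
) (.node (nat_lit 0x10961cf) (.leaf (nat_lit 0x10961cd) (nat_lit 2306))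
 (.node (nat_lit 0x10961d1) (.leaf (nat_lit 0x10961cf) (nat_lit 2050))
 (.leaf (nat_lit 0x10961d1) (nat_lit 3073))
)))) (.node (nat_lit 0x10961dd) (.node (nat_lit 0x10961d7) (.node (nat_lit 0x10961d5) (.leaf (nat_lit 0x10961d3) (nat_lit 3073))
 (.leaf (nat_lit 0x10961d5) (nat_lit 2817))
) (.node (nat_lit 0x10961d9) (.leaf (nat_lit 0x10961d7) (nat_lit 2561))
 (.node (nat_lit 0x10961db) (.leaf (nat_lit 0x10961d9) (nat_lit 2817))
 (.leaf (nat_lit 0x10961db) (nat_lit 2819))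
))) (.node (nat_lit 0x1096283) (.node (nat_lit 0x10961df) (.leaf (nat_lit 0x10961dd) (nat_lit 3074))
 (.node (nat_lit 0x1096281) (.leaf (nat_lit 0x10961df) (nat_lit 3330))
 (.leaf (nat_lit 0x1096281) (nat_lit 2049))
)) (.node (nat_lit 0x1096285) (.leaf (nat_lit 0x1096283) (nat_lit 2305))
 (.node (nat_lit 0x1096287) (.leaf (nat_lit 0x1096285) (nat_lit 2561))
 (.leaf (nat_lit 0x1096287) (nat_lit 2305))
))))))) (.node (nat_lit 0x109639d) (.node (nat_lit 0x10962d3) (.node (nat_lit 0x109629d) (.node (nat_lit 0x1096293) (.node (nat_lit 0x109628d) (.node (nat_lit 0x109628b) (.leaf (nat_lit 0x1096289) (nat_lit 2817))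
 (.leaf (nat_lit 0x109628b) (nat_lit 2561))
) (.node (nat_lit 0x109628f) (.leaf (nat_lit 0x109628d) (nat_lit 2305))
 (.node (nat_lit 0x1096291) (.leaf (nat_lit 0x109628f) (nat_lit 2561))
 (.leaf (nat_lit 0x1096291) (nat_lit 2816))
))) (.node (nat_lit 0x1096297) (.node (nat_lit 0x1096295) (.leaf (nat_lit 0x1096293) (nat_lit 2560))
 (.leaf (nat_lit 0x1096295) (nat_lit 2304))
) (.node (nat_lit 0x1096299) (.leaf (nat_lit 0x1096297) (nat_lit 2560))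
 (.node (nat_lit 0x109629b) (.leaf (nat_lit 0x1096299) (nat_lit 2560))
 (.leaf (nat_lit 0x109629b) (nat_lit 2816))
)))) (.node (nat_lit 0x10962c7) (.node (nat_lit 0x10962c1) (.node (nat_lit 0x109629f) (.leaf (nat_lit 0x109629d) (nat_lit 3072))
 (.leaf (nat_lit 0x109629f) (nat_lit 2816))
) (.node (nat_lit 0x10962c3) (.leaf (nat_lit 0x10962c1) (nat_lit 2049))
 (.node (nat_lit 0x10962c5) (.leaf (nat_lit 0x10962c3) (nat_lit 2305))
 (.leaf (nat_lit 0x10962c5) (nat_lit 2561))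
))) (.node (nat_lit 0x10962cd) (.node (nat_lit 0x10962c9) (.leaf (nat_lit 0x10962c7) (nat_lit 2561))
 (.node (nat_lit 0x10962cb) (.leaf (nat_lit 0x10962c9) (nat_lit 2817))
 (.leaf (nat_lit 0x10962cb) (nat_lit 2817))
)) (.node (nat_lit 0x10962cf) (.leaf (nat_lit 0x10962cd) (nat_lit 2561))
 (.node (nat_lit 0x10962d1) (.leaf (nat_lit 0x10962cf) (nat_lit 2305))
 (.leaf (nat_lit 0x10962d1) (nat_lit 2816))
))))) (.node (nat_lit 0x1096387) (.node (nat_lit 0x10962dd) (.node (nat_lit 0x10962d7) (.node (nat_lit 0x10962d5) (.leaf (nat_lit 0x10962d3) (nat_lit 2816))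
 (.leaf (nat_lit 0x10962d5) (nat_lit 2560))
) (.node (nat_lit 0x10962d9) (.leaf (nat_lit 0x10962d7) (nat_lit 2304))
 (.node (nat_lit 0x10962db) (.leaf (nat_lit 0x10962d9) (nat_lit 2560))
 (.leaf (nat_lit 0x10962db) (nat_lit 2816))
))) (.node (nat_lit 0x1096381) (.node (nat_lit 0x10962df) (.leaf (nat_lit 0x10962dd) (nat_lit 3072))
 (.leaf (nat_lit 0x10962df) (nat_lit 3072))
) (.node (nat_lit 0x1096383) (.leaf (nat_lit 0x1096381) (nat_lit 2051))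
 (.node (nat_lit 0x1096385) (.leaf (nat_lit 0x1096383) (nat_lit 2307))
 (.leaf (nat_lit 0x1096385) (nat_lit 2305))
)))) (.node (nat_lit 0x1096391) (.node (nat_lit 0x109638b) (.node (nat_lit 0x1096389) (.leaf (nat_lit 0x1096387) (nat_lit 2307))
 (.leaf (nat_lit 0x1096389) (nat_lit 3073))
) (.node (nat_lit 0x109638d) (.leaf (nat_lit 0x109638b) (nat_lit 2817))
 (.node (nat_lit 0x109638f) (.leaf (nat_lit 0x109638d) (nat_lit 2817))
 (.leaf (nat_lit 0x109638f) (nat_lit 2561))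
))) (.node (nat_lit 0x1096397) (.node (nat_lit 0x1096393) (.leaf (nat_lit 0x1096391) (nat_lit 3072))
 (.node (nat_lit 0x1096395) (.leaf (nat_lit 0x1096393) (nat_lit 2816))
 (.leaf (nat_lit 0x1096395) (nat_lit 3330))
)) (.node (nat_lit 0x1096399) (.leaf (nat_lit 0x1096397) (nat_lit 3074))
 (.node (nat_lit 0x109639b) (.leaf (nat_lit 0x1096399) (nat_lit 2560))
 (.leaf (nat_lit 0x109639b) (nat_lit 2563))
)))))) (.node (nat_lit 0x1096887) (.node (nat_lit 0x10963d1) (.node (nat_lit 0x10963c7) (.node (nat_lit 0x10963c1) (.node (nat_lit 0x109639f) (.leaf (nat_lit 0x109639d) (nat_lit 2307))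
 (.leaf (nat_lit 0x109639f) (nat_lit 2563))
) (.node (nat_lit 0x10963c3) (.leaf (nat_lit 0x10963c1) (nat_lit 1793))
 (.node (nat_lit 0x10963c5) (.leaf (nat_lit 0x10963c3) (nat_lit 2049))
 (.leaf (nat_lit 0x10963c5) (nat_lit 2305))
))) (.node (nat_lit 0x10963cb) (.node (nat_lit 0x10963c9) (.leaf (nat_lit 0x10963c7) (nat_lit 2049))
 (.leaf (nat_lit 0x10963c9) (nat_lit 2817))
) (.node (nat_lit 0x10963cd) (.leaf (nat_lit 0x10963cb) (nat_lit 2561))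
 (.node (nat_lit 0x10963cf) (.leaf (nat_lit 0x10963cd) (nat_lit 2561))
 (.leaf (nat_lit 0x10963cf) (nat_lit 2817))
)))) (.node (nat_lit 0x10963db) (.node (nat_lit 0x10963d5) (.node (nat_lit 0x10963d3) (.leaf (nat_lit 0x10963d1) (nat_lit 3072))
 (.leaf (nat_lit 0x10963d3) (nat_lit 2816))
) (.node (nat_lit 0x10963d7) (.leaf (nat_lit 0x10963d5) (nat_lit 2816))
 (.node (nat_lit 0x10963d9) (.leaf (nat_lit 0x10963d7) (nat_lit 3072))
 (.leaf (nat_lit 0x10963d9) (nat_lit 2304))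
))) (.node (nat_lit 0x1096881) (.node (nat_lit 0x10963dd) (.leaf (nat_lit 0x10963db) (nat_lit 2560))
 (.node (nat_lit 0x10963df) (.leaf (nat_lit 0x10963dd) (nat_lit 2304))
 (.leaf (nat_lit 0x10963df) (nat_lit 2048))
)) (.node (nat_lit 0x1096883) (.leaf (nat_lit 0x1096881) (nat_lit 1796))
 (.node (nat_lit 0x1096885) (.leaf (nat_lit 0x1096883) (nat_lit 2052))
 (.leaf (nat_lit 0x1096885) (nat_lit 2052))
))))) (.node (nat_lit 0x109689b) (.node (nat_lit 0x1096891) (.node (nat_lit 0x109688b) (.node (nat_lit 0x1096889) (.leaf (nat_lit 0x1096887) (nat_lit 2052))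
 (.leaf (nat_lit 0x1096889) (nat_lit 2818))
) (.node (nat_lit 0x109688d) (.leaf (nat_lit 0x109688b) (nat_lit 2818))
 (.node (nat_lit 0x109688f) (.leaf (nat_lit 0x109688d) (nat_lit 2562))
 (.leaf (nat_lit 0x109688f) (nat_lit 2562))
))) (.node (nat_lit 0x1096895) (.node (nat_lit 0x1096893) (.leaf (nat_lit 0x1096891) (nat_lit 3332))
 (.leaf (nat_lit 0x1096893) (nat_lit 3076))
) (.node (nat_lit 0x1096897) (.leaf (nat_lit 0x1096895) (nat_lit 3332))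
 (.node (nat_lit 0x1096899) (.leaf (nat_lit 0x1096897) (nat_lit 3076))
 (.leaf (nat_lit 0x1096899) (nat_lit 2820))
)))) (.node (nat_lit 0x10968c5) (.node (nat_lit 0x109689f) (.node (nat_lit 0x109689d) (.leaf (nat_lit 0x109689b) (nat_lit 2564))
 (.leaf (nat_lit 0x109689d) (nat_lit 2564))
) (.node (nat_lit 0x10968c1) (.leaf (nat_lit 0x109689f) (nat_lit 2308))
 (.node (nat_lit 0x10968c3) (.leaf (nat_lit 0x10968c1) (nat_lit 1540))
 (.leaf (nat_lit 0x10968c3) (nat_lit 1796))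
))) (.node (nat_lit 0x10968cb) (.node (nat_lit 0x10968c7) (.leaf (nat_lit 0x10968c5) (nat_lit 2052))
 (.node (nat_lit 0x10968c9) (.leaf (nat_lit 0x10968c7) (nat_lit 1796))
 (.leaf (nat_lit 0x10968c9) (nat_lit 2818))
)) (.node (nat_lit 0x10968cd) (.leaf (nat_lit 0x10968cb) (nat_lit 2562))
 (.node (nat_lit 0x10968cf) (.leaf (nat_lit 0x10968cd) (nat_lit 2562))
 (.leaf (nat_lit 0x10968cf) (nat_lit 2562))
)))))))) (.node (nat_lit 0x1096b99) (.node (nat_lit 0x1096a85) (.node (nat_lit 0x109699b) (.node (nat_lit 0x1096985) (.node (nat_lit 0x10968db) (.node (nat_lit 0x10968d5) (.node (nat_lit 0x10968d3) (.leaf (nat_lit 0x10968d1) (nat_lit 3076))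
 (.leaf (nat_lit 0x10968d3) (nat_lit 2820))
) (.node (nat_lit 0x10968d7) (.leaf (nat_lit 0x10968d5) (nat_lit 2820))
 (.node (nat_lit 0x10968d9) (.leaf (nat_lit 0x10968d7) (nat_lit 3076))
 (.leaf (nat_lit 0x10968d9) (nat_lit 2564))
))) (.node (nat_lit 0x10968df) (.node (nat_lit 0x10968dd) (.leaf (nat_lit 0x10968db) (nat_lit 2308))
 (.leaf (nat_lit 0x10968dd) (nat_lit 2308))
) (.node (nat_lit 0x1096981) (.leaf (nat_lit 0x10968df) (nat_lit 2564))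
 (.node (nat_lit 0x1096983) (.leaf (nat_lit 0x1096981) (nat_lit 2050))
 (.leaf (nat_lit 0x1096983) (nat_lit 2306))
)))) (.node (nat_lit 0x109698f) (.node (nat_lit 0x1096989) (.node (nat_lit 0x1096987) (.leaf (nat_lit 0x1096985) (nat_lit 2562))
 (.leaf (nat_lit 0x1096987) (nat_lit 2306))
) (.node (nat_lit 0x109698b) (.leaf (nat_lit 0x1096989) (nat_lit 2818))
 (.node (nat_lit 0x109698d) (.leaf (nat_lit 0x109698b) (nat_lit 2562))
 (.leaf (nat_lit 0x109698d) (nat_lit 2306))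
))) (.node (nat_lit 0x1096995) (.node (nat_lit 0x1096991) (.leaf (nat_lit 0x109698f) (nat_lit 2308))
 (.node (nat_lit 0x1096993) (.leaf (nat_lit 0x1096991) (nat_lit 3073))
 (.leaf (nat_lit 0x1096993) (nat_lit 3076))
)) (.node (nat_lit 0x1096997) (.leaf (nat_lit 0x1096995) (nat_lit 2820))
 (.node (nat_lit 0x1096999) (.leaf (nat_lit 0x1096997) (nat_lit 2564))
 (.leaf (nat_lit 0x1096999) (nat_lit 3076))
))))) (.node (nat_lit 0x10969cf) (.node (nat_lit 0x10969c5) (.node (nat_lit 0x109699f) (.node (nat_lit 0x109699d) (.leaf (nat_lit 0x109699b) (nat_lit 2820))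
 (.leaf (nat_lit 0x109699d) (nat_lit 3076))
) (.node (nat_lit 0x10969c1) (.leaf (nat_lit 0x109699f) (nat_lit 2820))
 (.node (nat_lit 0x10969c3) (.leaf (nat_lit 0x10969c1) (nat_lit 1796))
 (.leaf (nat_lit 0x10969c3) (nat_lit 2052))
))) (.node (nat_lit 0x10969c9) (.node (nat_lit 0x10969c7) (.leaf (nat_lit 0x10969c5) (nat_lit 2562))
 (.leaf (nat_lit 0x10969c7) (nat_lit 2306))
) (.node (nat_lit 0x10969cb) (.leaf (nat_lit 0x10969c9) (nat_lit 2562))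
 (.node (nat_lit 0x10969cd) (.leaf (nat_lit 0x10969cb) (nat_lit 2818))
 (.leaf (nat_lit 0x10969cd) (nat_lit 2308))
)))) (.node (nat_lit 0x10969d9) (.node (nat_lit 0x10969d3) (.node (nat_lit 0x10969d1) (.leaf (nat_lit 0x10969cf) (nat_lit 2052))
 (.leaf (nat_lit 0x10969d1) (nat_lit 3332))
) (.node (nat_lit 0x10969d5) (.leaf (nat_lit 0x10969d3) (nat_lit 3076))
 (.node (nat_lit 0x10969d7) (.leaf (nat_lit 0x10969d5) (nat_lit 2564))
 (.leaf (nat_lit 0x10969d7) (nat_lit 2820))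
))) (.node (nat_lit 0x10969df) (.node (nat_lit 0x10969db) (.leaf (nat_lit 0x10969d9) (nat_lit 2820))
 (.node (nat_lit 0x10969dd) (.leaf (nat_lit 0x10969db) (nat_lit 2564))
 (.leaf (nat_lit 0x10969dd) (nat_lit 2820))
)) (.node (nat_lit 0x1096a81) (.leaf (nat_lit 0x10969df) (nat_lit 3076))
 (.node (nat_lit 0x1096a83) (.leaf (nat_lit 0x1096a81) (nat_lit 2052))
 (.leaf (nat_lit 0x1096a83) (nat_lit 2308))
)))))) (.node (nat_lit 0x1096acf) (.node (nat_lit 0x1096a99) (.node (nat_lit 0x1096a8f) (.node (nat_lit 0x1096a89) (.node (nat_lit 0x1096a87) (.leaf (nat_lit 0x1096a85) (nat_lit 2820))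
 (.leaf (nat_lit 0x1096a87) (nat_lit 2564))
) (.node (nat_lit 0x1096a8b) (.leaf (nat_lit 0x1096a89) (nat_lit 2817))
 (.node (nat_lit 0x1096a8d) (.leaf (nat_lit 0x1096a8b) (nat_lit 3073))
 (.leaf (nat_lit 0x1096a8d) (nat_lit 2564))
))) (.node (nat_lit 0x1096a93) (.node (nat_lit 0x1096a91) (.leaf (nat_lit 0x1096a8f) (nat_lit 2308))
 (.leaf (nat_lit 0x1096a91) (nat_lit 3076))
) (.node (nat_lit 0x1096a95) (.leaf (nat_lit 0x1096a93) (nat_lit 2820))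
 (.node (nat_lit 0x1096a97) (.leaf (nat_lit 0x1096a95) (nat_lit 2308))
 (.leaf (nat_lit 0x1096a97) (nat_lit 2564))
)))) (.node (nat_lit 0x1096ac3) (.node (nat_lit 0x1096a9d) (.node (nat_lit 0x1096a9b) (.leaf (nat_lit 0x1096a99) (nat_lit 2820))
 (.leaf (nat_lit 0x1096a9b) (nat_lit 2564))
) (.node (nat_lit 0x1096a9f) (.leaf (nat_lit 0x1096a9d) (nat_lit 2818))
 (.node (nat_lit 0x1096ac1) (.leaf (nat_lit 0x1096a9f) (nat_lit 3074))
 (.leaf (nat_lit 0x1096ac1) (nat_lit 2052))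
))) (.node (nat_lit 0x1096ac9) (.node (nat_lit 0x1096ac5) (.leaf (nat_lit 0x1096ac3) (nat_lit 2308))
 (.node (nat_lit 0x1096ac7) (.leaf (nat_lit 0x1096ac5) (nat_lit 2817))
 (.leaf (nat_lit 0x1096ac7) (nat_lit 2561))
)) (.node (nat_lit 0x1096acb) (.leaf (nat_lit 0x1096ac9) (nat_lit 3073))
 (.node (nat_lit 0x1096acd) (.leaf (nat_lit 0x1096acb) (nat_lit 2817))
 (.leaf (nat_lit 0x1096acd) (nat_lit 2561))
))))) (.node (nat_lit 0x1096b83) (.node (nat_lit 0x1096ad9) (.node (nat_lit 0x1096ad3) (.node (nat_lit 0x1096ad1) (.leaf (nat_lit 0x1096acf) (nat_lit 2564))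
 (.leaf (nat_lit 0x1096ad1) (nat_lit 2816))
) (.node (nat_lit 0x1096ad5) (.leaf (nat_lit 0x1096ad3) (nat_lit 3072))
 (.node (nat_lit 0x1096ad7) (.leaf (nat_lit 0x1096ad5) (nat_lit 2564))
 (.leaf (nat_lit 0x1096ad7) (nat_lit 2308))
))) (.node (nat_lit 0x1096add) (.node (nat_lit 0x1096adb) (.leaf (nat_lit 0x1096ad9) (nat_lit 2820))
 (.leaf (nat_lit 0x1096adb) (nat_lit 2816))
) (.node (nat_lit 0x1096adf) (.leaf (nat_lit 0x1096add) (nat_lit 3076))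
 (.node (nat_lit 0x1096b81) (.leaf (nat_lit 0x1096adf) (nat_lit 2820))
 (.leaf (nat_lit 0x1096b81) (nat_lit 1796))
)))) (.node (nat_lit 0x1096b8d) (.node (nat_lit 0x1096b87) (.node (nat_lit 0x1096b85) (.leaf (nat_lit 0x1096b83) (nat_lit 2052))
 (.leaf (nat_lit 0x1096b85) (nat_lit 2308))
) (.node (nat_lit 0x1096b89) (.leaf (nat_lit 0x1096b87) (nat_lit 2052))
 (.node (nat_lit 0x1096b8b) (.leaf (nat_lit 0x1096b89) (nat_lit 3073))
 (.leaf (nat_lit 0x1096b8b) (nat_lit 2817))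
))) (.node (nat_lit 0x1096b93) (.node (nat_lit 0x1096b8f) (.leaf (nat_lit 0x1096b8d) (nat_lit 2817))
 (.node (nat_lit 0x1096b91) (.leaf (nat_lit 0x1096b8f) (nat_lit 2817))
 (.leaf (nat_lit 0x1096b91) (nat_lit 3072))
)) (.node (nat_lit 0x1096b95) (.leaf (nat_lit 0x1096b93) (nat_lit 3076))
 (.node (nat_lit 0x1096b97) (.leaf (nat_lit 0x1096b95) (nat_lit 3076))
 (.leaf (nat_lit 0x1096b97) (nat_lit 3072))
))))))) (.node (nat_lit 0x10970cd) (.node (nat_lit 0x1097083) (.node (nat_lit 0x1096bcd) (.node (nat_lit 0x1096bc3) (.node (nat_lit 0x1096b9d) (.node (nat_lit 0x1096b9b) (.leaf (nat_lit 0x1096b99) (nat_lit 2564))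
 (.leaf (nat_lit 0x1096b9b) (nat_lit 2308))
) (.node (nat_lit 0x1096b9f) (.leaf (nat_lit 0x1096b9d) (nat_lit 2052))
 (.node (nat_lit 0x1096bc1) (.leaf (nat_lit 0x1096b9f) (nat_lit 2308))
 (.leaf (nat_lit 0x1096bc1) (nat_lit 1796))
))) (.node (nat_lit 0x1096bc7) (.node (nat_lit 0x1096bc5) (.leaf (nat_lit 0x1096bc3) (nat_lit 2052))
 (.leaf (nat_lit 0x1096bc5) (nat_lit 2308))
) (.node (nat_lit 0x1096bc9) (.leaf (nat_lit 0x1096bc7) (nat_lit 2308))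
 (.node (nat_lit 0x1096bcb) (.leaf (nat_lit 0x1096bc9) (nat_lit 3073))
 (.leaf (nat_lit 0x1096bcb) (nat_lit 3076))
)))) (.node (nat_lit 0x1096bd7) (.node (nat_lit 0x1096bd1) (.node (nat_lit 0x1096bcf) (.leaf (nat_lit 0x1096bcd) (nat_lit 2820))
 (.leaf (nat_lit 0x1096bcf) (nat_lit 2817))
) (.node (nat_lit 0x1096bd3) (.leaf (nat_lit 0x1096bd1) (nat_lit 3072))
 (.node (nat_lit 0x1096bd5) (.leaf (nat_lit 0x1096bd3) (nat_lit 3076))
 (.leaf (nat_lit 0x1096bd5) (nat_lit 3332))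
))) (.node (nat_lit 0x1096bdd) (.node (nat_lit 0x1096bd9) (.leaf (nat_lit 0x1096bd7) (nat_lit 3076))
 (.node (nat_lit 0x1096bdb) (.leaf (nat_lit 0x1096bd9) (nat_lit 2564))
 (.leaf (nat_lit 0x1096bdb) (nat_lit 2564))
)) (.node (nat_lit 0x1096bdf) (.leaf (nat_lit 0x1096bdd) (nat_lit 2308))
 (.node (nat_lit 0x1097081) (.leaf (nat_lit 0x1096bdf) (nat_lit 2052))
 (.leaf (nat_lit 0x1097081) (nat_lit 2050))
))))) (.node (nat_lit 0x1097097) (.node (nat_lit 0x109708d) (.node (nat_lit 0x1097087) (.node (nat_lit 0x1097085) (.leaf (nat_lit 0x1097083) (nat_lit 2306))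
 (.leaf (nat_lit 0x1097085) (nat_lit 2306))
) (.node (nat_lit 0x1097089) (.leaf (nat_lit 0x1097087) (nat_lit 2306))
 (.node (nat_lit 0x109708b) (.leaf (nat_lit 0x1097089) (nat_lit 2818))
 (.leaf (nat_lit 0x109708b) (nat_lit 2562))
))) (.node (nat_lit 0x1097091) (.node (nat_lit 0x109708f) (.leaf (nat_lit 0x109708d) (nat_lit 2821))
 (.leaf (nat_lit 0x109708f) (nat_lit 2565))
) (.node (nat_lit 0x1097093) (.leaf (nat_lit 0x1097091) (nat_lit 3332))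
 (.node (nat_lit 0x1097095) (.leaf (nat_lit 0x1097093) (nat_lit 3076))
 (.leaf (nat_lit 0x1097095) (nat_lit 3332))
)))) (.node (nat_lit 0x10970c1) (.node (nat_lit 0x109709b) (.node (nat_lit 0x1097099) (.leaf (nat_lit 0x1097097) (nat_lit 3076))
 (.leaf (nat_lit 0x1097099) (nat_lit 2819))
) (.node (nat_lit 0x109709d) (.leaf (nat_lit 0x109709b) (nat_lit 2819))
 (.node (nat_lit 0x109709f) (.leaf (nat_lit 0x109709d) (nat_lit 2821))
 (.leaf (nat_lit 0x109709f) (nat_lit 2821))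
))) (.node (nat_lit 0x10970c7) (.node (nat_lit 0x10970c3) (.leaf (nat_lit 0x10970c1) (nat_lit 1797))
 (.node (nat_lit 0x10970c5) (.leaf (nat_lit 0x10970c3) (nat_lit 2053))
 (.leaf (nat_lit 0x10970c5) (nat_lit 2309))
)) (.node (nat_lit 0x10970c9) (.leaf (nat_lit 0x10970c7) (nat_lit 2053))
 (.node (nat_lit 0x10970cb) (.leaf (nat_lit 0x10970c9) (nat_lit 2562))
 (.leaf (nat_lit 0x10970cb) (nat_lit 2818))
)))))) (.node (nat_lit 0x1097117) (.node (nat_lit 0x1097101) (.node (nat_lit 0x10970d7) (.node (nat_lit 0x10970d1) (.node (nat_lit 0x10970cf) (.leaf (nat_lit 0x10970cd) (nat_lit 2818))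
 (.leaf (nat_lit 0x10970cf) (nat_lit 2562))
) (.node (nat_lit 0x10970d3) (.leaf (nat_lit 0x10970d1) (nat_lit 3333))
 (.node (nat_lit 0x10970d5) (.leaf (nat_lit 0x10970d3) (nat_lit 3077))
 (.leaf (nat_lit 0x10970d5) (nat_lit 3077))
))) (.node (nat_lit 0x10970db) (.node (nat_lit 0x10970d9) (.leaf (nat_lit 0x10970d7) (nat_lit 3333))
 (.leaf (nat_lit 0x10970d9) (nat_lit 2821))
) (.node (nat_lit 0x10970dd) (.leaf (nat_lit 0x10970db) (nat_lit 2565))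
 (.node (nat_lit 0x10970df) (.leaf (nat_lit 0x10970dd) (nat_lit 2565))
 (.leaf (nat_lit 0x10970df) (nat_lit 2821))
)))) (.node (nat_lit 0x109710b) (.node (nat_lit 0x1097105) (.node (nat_lit 0x1097103) (.leaf (nat_lit 0x1097101) (nat_lit 2050))
 (.leaf (nat_lit 0x1097103) (nat_lit 2306))
) (.node (nat_lit 0x1097107) (.leaf (nat_lit 0x1097105) (nat_lit 2562))
 (.node (nat_lit 0x1097109) (.leaf (nat_lit 0x1097107) (nat_lit 2306))
 (.leaf (nat_lit 0x1097109) (nat_lit 2306))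
))) (.node (nat_lit 0x1097111) (.node (nat_lit 0x109710d) (.leaf (nat_lit 0x109710b) (nat_lit 2562))
 (.node (nat_lit 0x109710f) (.leaf (nat_lit 0x109710d) (nat_lit 2818))
 (.leaf (nat_lit 0x109710f) (nat_lit 2562))
)) (.node (nat_lit 0x1097113) (.leaf (nat_lit 0x1097111) (nat_lit 3329))
 (.node (nat_lit 0x1097115) (.leaf (nat_lit 0x1097113) (nat_lit 3073))
 (.leaf (nat_lit 0x1097115) (nat_lit 2817))
))))) (.node (nat_lit 0x109714b) (.node (nat_lit 0x1097141) (.node (nat_lit 0x109711b) (.node (nat_lit 0x1097119) (.leaf (nat_lit 0x1097117) (nat_lit 3073))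
 (.leaf (nat_lit 0x1097119) (nat_lit 3585))
) (.node (nat_lit 0x109711d) (.leaf (nat_lit 0x109711b) (nat_lit 3329))
 (.node (nat_lit 0x109711f) (.leaf (nat_lit 0x109711d) (nat_lit 3073))
 (.leaf (nat_lit 0x109711f) (nat_lit 3329))
))) (.node (nat_lit 0x1097145) (.node (nat_lit 0x1097143) (.leaf (nat_lit 0x1097141) (nat_lit 2050))
 (.leaf (nat_lit 0x1097143) (nat_lit 2306))
) (.node (nat_lit 0x1097147) (.leaf (nat_lit 0x1097145) (nat_lit 2562))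
 (.node (nat_lit 0x1097149) (.leaf (nat_lit 0x1097147) (nat_lit 2562))
 (.leaf (nat_lit 0x1097149) (nat_lit 2562))
)))) (.node (nat_lit 0x1097155) (.node (nat_lit 0x109714f) (.node (nat_lit 0x109714d) (.leaf (nat_lit 0x109714b) (nat_lit 2306))
 (.leaf (nat_lit 0x109714d) (nat_lit 2818))
) (.node (nat_lit 0x1097151) (.leaf (nat_lit 0x109714f) (nat_lit 2562))
 (.node (nat_lit 0x1097153) (.leaf (nat_lit 0x1097151) (nat_lit 3329))
 (.leaf (nat_lit 0x1097153) (nat_lit 3329))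
))) (.node (nat_lit 0x109715b) (.node (nat_lit 0x1097157) (.leaf (nat_lit 0x1097155) (nat_lit 3073))
 (.node (nat_lit 0x1097159) (.leaf (nat_lit 0x1097157) (nat_lit 2817))
 (.leaf (nat_lit 0x1097159) (nat_lit 3329))
)) (.node (nat_lit 0x109715d) (.leaf (nat_lit 0x109715b) (nat_lit 3585))
 (.node (nat_lit 0x109715f) (.leaf (nat_lit 0x109715d) (nat_lit 3076))
 (.leaf (nat_lit 0x109715f) (nat_lit 3075))
))))))))))) (.node (nat_lit 0x10a2b01) (.node (nat_lit 0x10a1941) (.node (nat_lit 0x1097b11) (.node (nat_lit 0x10978c9) (.node (nat_lit 0x1097315) (.node (nat_lit 0x10972cb) (.node (nat_lit 0x1097295) (.node (nat_lit 0x109728b) (.node (nat_lit 0x1097285) (.node (nat_lit 0x1097283) (.leaf (nat_lit 0x1097281) (nat_lit 2305))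
 (.leaf (nat_lit 0x1097283) (nat_lit 2561))
) (.node (nat_lit 0x1097287) (.leaf (nat_lit 0x1097285) (nat_lit 2817))
 (.node (nat_lit 0x1097289) (.leaf (nat_lit 0x1097287) (nat_lit 2561))
 (.leaf (nat_lit 0x1097289) (nat_lit 2561))
))) (.node (nat_lit 0x109728f) (.node (nat_lit 0x109728d) (.leaf (nat_lit 0x109728b) (nat_lit 2817))
 (.leaf (nat_lit 0x109728d) (nat_lit 3073))
) (.node (nat_lit 0x1097291) (.leaf (nat_lit 0x109728f) (nat_lit 2817))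
 (.node (nat_lit 0x1097293) (.leaf (nat_lit 0x1097291) (nat_lit 3072))
 (.leaf (nat_lit 0x1097293) (nat_lit 2816))
)))) (.node (nat_lit 0x109729f) (.node (nat_lit 0x1097299) (.node (nat_lit 0x1097297) (.leaf (nat_lit 0x1097295) (nat_lit 2560))
 (.leaf (nat_lit 0x1097297) (nat_lit 2816))
) (.node (nat_lit 0x109729b) (.leaf (nat_lit 0x1097299) (nat_lit 3333))
 (.node (nat_lit 0x109729d) (.leaf (nat_lit 0x109729b) (nat_lit 3077))
 (.leaf (nat_lit 0x109729d) (nat_lit 2821))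
))) (.node (nat_lit 0x10972c5) (.node (nat_lit 0x10972c1) (.leaf (nat_lit 0x109729f) (nat_lit 3077))
 (.node (nat_lit 0x10972c3) (.leaf (nat_lit 0x10972c1) (nat_lit 2305))
 (.leaf (nat_lit 0x10972c3) (nat_lit 2561))
)) (.node (nat_lit 0x10972c7) (.leaf (nat_lit 0x10972c5) (nat_lit 2817))
 (.node (nat_lit 0x10972c9) (.leaf (nat_lit 0x10972c7) (nat_lit 2821))
 (.leaf (nat_lit 0x10972c9) (nat_lit 2817))
))))) (.node (nat_lit 0x10972df) (.node (nat_lit 0x10972d5) (.node (nat_lit 0x10972cf) (.node (nat_lit 0x10972cd) (.leaf (nat_lit 0x10972cb) (nat_lit 2561))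
 (.leaf (nat_lit 0x10972cd) (nat_lit 3077))
) (.node (nat_lit 0x10972d1) (.leaf (nat_lit 0x10972cf) (nat_lit 2821))
 (.node (nat_lit 0x10972d3) (.leaf (nat_lit 0x10972d1) (nat_lit 3077))
 (.leaf (nat_lit 0x10972d3) (nat_lit 3072))
))) (.node (nat_lit 0x10972d9) (.node (nat_lit 0x10972d7) (.leaf (nat_lit 0x10972d5) (nat_lit 2816))
 (.leaf (nat_lit 0x10972d7) (nat_lit 2560))
) (.node (nat_lit 0x10972db) (.leaf (nat_lit 0x10972d9) (nat_lit 3077))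
 (.node (nat_lit 0x10972dd) (.leaf (nat_lit 0x10972db) (nat_lit 3333))
 (.leaf (nat_lit 0x10972dd) (nat_lit 2816))
)))) (.node (nat_lit 0x1097309) (.node (nat_lit 0x1097303) (.node (nat_lit 0x1097301) (.leaf (nat_lit 0x10972df) (nat_lit 3072))
 (.leaf (nat_lit 0x1097301) (nat_lit 2307))
) (.node (nat_lit 0x1097305) (.leaf (nat_lit 0x1097303) (nat_lit 2563))
 (.node (nat_lit 0x1097307) (.leaf (nat_lit 0x1097305) (nat_lit 2561))
 (.leaf (nat_lit 0x1097307) (nat_lit 2563))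
))) (.node (nat_lit 0x109730f) (.node (nat_lit 0x109730b) (.leaf (nat_lit 0x1097309) (nat_lit 3073))
 (.node (nat_lit 0x109730d) (.leaf (nat_lit 0x109730b) (nat_lit 2817))
 (.leaf (nat_lit 0x109730d) (nat_lit 3073))
)) (.node (nat_lit 0x1097311) (.leaf (nat_lit 0x109730f) (nat_lit 2817))
 (.node (nat_lit 0x1097313) (.leaf (nat_lit 0x1097311) (nat_lit 3328))
 (.leaf (nat_lit 0x1097313) (nat_lit 3072))
)))))) (.node (nat_lit 0x109735f) (.node (nat_lit 0x1097349) (.node (nat_lit 0x109731f) (.node (nat_lit 0x1097319) (.node (nat_lit 0x1097317) (.leaf (nat_lit 0x1097315) (nat_lit 3328))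
 (.leaf (nat_lit 0x1097317) (nat_lit 3072))
) (.node (nat_lit 0x109731b) (.leaf (nat_lit 0x1097319) (nat_lit 2563))
 (.node (nat_lit 0x109731d) (.leaf (nat_lit 0x109731b) (nat_lit 2819))
 (.leaf (nat_lit 0x109731d) (nat_lit 2816))
))) (.node (nat_lit 0x1097343) (.node (nat_lit 0x1097341) (.leaf (nat_lit 0x109731f) (nat_lit 2819))
 (.leaf (nat_lit 0x1097341) (nat_lit 2049))
) (.node (nat_lit 0x1097345) (.leaf (nat_lit 0x1097343) (nat_lit 2305))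
 (.node (nat_lit 0x1097347) (.leaf (nat_lit 0x1097345) (nat_lit 2561))
 (.leaf (nat_lit 0x1097347) (nat_lit 2305))
)))) (.node (nat_lit 0x1097353) (.node (nat_lit 0x109734d) (.node (nat_lit 0x109734b) (.leaf (nat_lit 0x1097349) (nat_lit 2817))
 (.leaf (nat_lit 0x109734b) (nat_lit 3073))
) (.node (nat_lit 0x109734f) (.leaf (nat_lit 0x109734d) (nat_lit 3073))
 (.node (nat_lit 0x1097351) (.leaf (nat_lit 0x109734f) (nat_lit 2817))
 (.leaf (nat_lit 0x1097351) (nat_lit 3328))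
))) (.node (nat_lit 0x1097359) (.node (nat_lit 0x1097355) (.leaf (nat_lit 0x1097353) (nat_lit 3072))
 (.node (nat_lit 0x1097357) (.leaf (nat_lit 0x1097355) (nat_lit 3072))
 (.leaf (nat_lit 0x1097357) (nat_lit 3328))
)) (.node (nat_lit 0x109735b) (.leaf (nat_lit 0x1097359) (nat_lit 2560))
 (.node (nat_lit 0x109735d) (.leaf (nat_lit 0x109735b) (nat_lit 2304))
 (.leaf (nat_lit 0x109735d) (nat_lit 2560))
))))) (.node (nat_lit 0x1097893) (.node (nat_lit 0x1097889) (.node (nat_lit 0x1097883) (.node (nat_lit 0x1097881) (.leaf (nat_lit 0x109735f) (nat_lit 2816))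
 (.leaf (nat_lit 0x1097881) (nat_lit 2052))
) (.node (nat_lit 0x1097885) (.leaf (nat_lit 0x1097883) (nat_lit 2308))
 (.node (nat_lit 0x1097887) (.leaf (nat_lit 0x1097885) (nat_lit 2308))
 (.leaf (nat_lit 0x1097887) (nat_lit 2308))
))) (.node (nat_lit 0x109788d) (.node (nat_lit 0x109788b) (.leaf (nat_lit 0x1097889) (nat_lit 2818))
 (.leaf (nat_lit 0x109788b) (nat_lit 2818))
) (.node (nat_lit 0x109788f) (.leaf (nat_lit 0x109788d) (nat_lit 2821))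
 (.node (nat_lit 0x1097891) (.leaf (nat_lit 0x109788f) (nat_lit 2821))
 (.leaf (nat_lit 0x1097891) (nat_lit 3588))
)))) (.node (nat_lit 0x109789d) (.node (nat_lit 0x1097897) (.node (nat_lit 0x1097895) (.leaf (nat_lit 0x1097893) (nat_lit 3332))
 (.leaf (nat_lit 0x1097895) (nat_lit 3588))
) (.node (nat_lit 0x1097899) (.leaf (nat_lit 0x1097897) (nat_lit 3332))
 (.node (nat_lit 0x109789b) (.leaf (nat_lit 0x1097899) (nat_lit 2820))
 (.leaf (nat_lit 0x109789b) (nat_lit 2564))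
))) (.node (nat_lit 0x10978c3) (.node (nat_lit 0x109789f) (.leaf (nat_lit 0x109789d) (nat_lit 2821))
 (.node (nat_lit 0x10978c1) (.leaf (nat_lit 0x109789f) (nat_lit 2565))
 (.leaf (nat_lit 0x10978c1) (nat_lit 1797))
)) (.node (nat_lit 0x10978c5) (.leaf (nat_lit 0x10978c3) (nat_lit 2053))
 (.node (nat_lit 0x10978c7) (.leaf (nat_lit 0x10978c5) (nat_lit 2309))
 (.leaf (nat_lit 0x10978c7) (nat_lit 2053))
))))))) (.node (nat_lit 0x109795d) (.node (nat_lit 0x1097913) (.node (nat_lit 0x10978dd) (.node (nat_lit 0x10978d3) (.node (nat_lit 0x10978cd) (.node (nat_lit 0x10978cb) (.leaf (nat_lit 0x10978c9) (nat_lit 2821))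
 (.leaf (nat_lit 0x10978cb) (nat_lit 2565))
) (.node (nat_lit 0x10978cf) (.leaf (nat_lit 0x10978cd) (nat_lit 2565))
 (.node (nat_lit 0x10978d1) (.leaf (nat_lit 0x10978cf) (nat_lit 2821))
 (.leaf (nat_lit 0x10978d1) (nat_lit 3076))
))) (.node (nat_lit 0x10978d7) (.node (nat_lit 0x10978d5) (.leaf (nat_lit 0x10978d3) (nat_lit 2820))
 (.leaf (nat_lit 0x10978d5) (nat_lit 2820))
) (.node (nat_lit 0x10978d9) (.leaf (nat_lit 0x10978d7) (nat_lit 3076))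
 (.node (nat_lit 0x10978db) (.leaf (nat_lit 0x10978d9) (nat_lit 2561))
 (.leaf (nat_lit 0x10978db) (nat_lit 2817))
)))) (.node (nat_lit 0x1097907) (.node (nat_lit 0x1097901) (.node (nat_lit 0x10978df) (.leaf (nat_lit 0x10978dd) (nat_lit 2821))
 (.leaf (nat_lit 0x10978df) (nat_lit 2565))
) (.node (nat_lit 0x1097903) (.leaf (nat_lit 0x1097901) (nat_lit 2306))
 (.node (nat_lit 0x1097905) (.leaf (nat_lit 0x1097903) (nat_lit 2562))
 (.leaf (nat_lit 0x1097905) (nat_lit 2562))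
))) (.node (nat_lit 0x109790d) (.node (nat_lit 0x1097909) (.leaf (nat_lit 0x1097907) (nat_lit 2562))
 (.node (nat_lit 0x109790b) (.leaf (nat_lit 0x1097909) (nat_lit 2562))
 (.leaf (nat_lit 0x109790b) (nat_lit 2564))
)) (.node (nat_lit 0x109790f) (.leaf (nat_lit 0x109790d) (nat_lit 2818))
 (.node (nat_lit 0x1097911) (.leaf (nat_lit 0x109790f) (nat_lit 2818))
 (.leaf (nat_lit 0x1097911) (nat_lit 3329))
))))) (.node (nat_lit 0x1097947) (.node (nat_lit 0x109791d) (.node (nat_lit 0x1097917) (.node (nat_lit 0x1097915) (.leaf (nat_lit 0x1097913) (nat_lit 3332))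
 (.leaf (nat_lit 0x1097915) (nat_lit 3076))
) (.node (nat_lit 0x1097919) (.leaf (nat_lit 0x1097917) (nat_lit 2820))
 (.node (nat_lit 0x109791b) (.leaf (nat_lit 0x1097919) (nat_lit 3332))
 (.leaf (nat_lit 0x109791b) (nat_lit 3076))
))) (.node (nat_lit 0x1097941) (.node (nat_lit 0x109791f) (.leaf (nat_lit 0x109791d) (nat_lit 3332))
 (.leaf (nat_lit 0x109791f) (nat_lit 3076))
) (.node (nat_lit 0x1097943) (.leaf (nat_lit 0x1097941) (nat_lit 2052))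
 (.node (nat_lit 0x1097945) (.leaf (nat_lit 0x1097943) (nat_lit 2308))
 (.leaf (nat_lit 0x1097945) (nat_lit 2564))
)))) (.node (nat_lit 0x1097951) (.node (nat_lit 0x109794b) (.node (nat_lit 0x1097949) (.leaf (nat_lit 0x1097947) (nat_lit 2308))
 (.leaf (nat_lit 0x1097949) (nat_lit 2564))
) (.node (nat_lit 0x109794d) (.leaf (nat_lit 0x109794b) (nat_lit 2308))
 (.node (nat_lit 0x109794f) (.leaf (nat_lit 0x109794d) (nat_lit 2564))
 (.leaf (nat_lit 0x109794f) (nat_lit 2820))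
))) (.node (nat_lit 0x1097957) (.node (nat_lit 0x1097953) (.leaf (nat_lit 0x1097951) (nat_lit 3332))
 (.node (nat_lit 0x1097955) (.leaf (nat_lit 0x1097953) (nat_lit 3076))
 (.leaf (nat_lit 0x1097955) (nat_lit 2820))
)) (.node (nat_lit 0x1097959) (.leaf (nat_lit 0x1097957) (nat_lit 3076))
 (.node (nat_lit 0x109795b) (.leaf (nat_lit 0x1097959) (nat_lit 3076))
 (.leaf (nat_lit 0x109795b) (nat_lit 3332))
)))))) (.node (nat_lit 0x1097ac7) (.node (nat_lit 0x1097a91) (.node (nat_lit 0x1097a87) (.node (nat_lit 0x1097a81) (.node (nat_lit 0x109795f) (.leaf (nat_lit 0x109795d) (nat_lit 3076))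
 (.leaf (nat_lit 0x109795f) (nat_lit 2820))
) (.node (nat_lit 0x1097a83) (.leaf (nat_lit 0x1097a81) (nat_lit 2308))
 (.node (nat_lit 0x1097a85) (.leaf (nat_lit 0x1097a83) (nat_lit 2564))
 (.leaf (nat_lit 0x1097a85) (nat_lit 2820))
))) (.node (nat_lit 0x1097a8b) (.node (nat_lit 0x1097a89) (.leaf (nat_lit 0x1097a87) (nat_lit 2564))
 (.leaf (nat_lit 0x1097a89) (nat_lit 2820))
) (.node (nat_lit 0x1097a8d) (.leaf (nat_lit 0x1097a8b) (nat_lit 2564))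
 (.node (nat_lit 0x1097a8f) (.leaf (nat_lit 0x1097a8d) (nat_lit 2820))
 (.leaf (nat_lit 0x1097a8f) (nat_lit 3076))
)))) (.node (nat_lit 0x1097a9b) (.node (nat_lit 0x1097a95) (.node (nat_lit 0x1097a93) (.leaf (nat_lit 0x1097a91) (nat_lit 3076))
 (.leaf (nat_lit 0x1097a93) (nat_lit 2820))
) (.node (nat_lit 0x1097a97) (.leaf (nat_lit 0x1097a95) (nat_lit 2564))
 (.node (nat_lit 0x1097a99) (.leaf (nat_lit 0x1097a97) (nat_lit 2820))
 (.leaf (nat_lit 0x1097a99) (nat_lit 3076))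
))) (.node (nat_lit 0x1097ac1) (.node (nat_lit 0x1097a9d) (.leaf (nat_lit 0x1097a9b) (nat_lit 3332))
 (.node (nat_lit 0x1097a9f) (.leaf (nat_lit 0x1097a9d) (nat_lit 3076))
 (.leaf (nat_lit 0x1097a9f) (nat_lit 2820))
)) (.node (nat_lit 0x1097ac3) (.leaf (nat_lit 0x1097ac1) (nat_lit 2308))
 (.node (nat_lit 0x1097ac5) (.leaf (nat_lit 0x1097ac3) (nat_lit 2564))
 (.leaf (nat_lit 0x1097ac5) (nat_lit 2817))
))))) (.node (nat_lit 0x1097adb) (.node (nat_lit 0x1097ad1) (.node (nat_lit 0x1097acb) (.node (nat_lit 0x1097ac9) (.leaf (nat_lit 0x1097ac7) (nat_lit 2817))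
 (.leaf (nat_lit 0x1097ac9) (nat_lit 2817))
) (.node (nat_lit 0x1097acd) (.leaf (nat_lit 0x1097acb) (nat_lit 2820))
 (.node (nat_lit 0x1097acf) (.leaf (nat_lit 0x1097acd) (nat_lit 3077))
 (.leaf (nat_lit 0x1097acf) (nat_lit 3073))
))) (.node (nat_lit 0x1097ad5) (.node (nat_lit 0x1097ad3) (.leaf (nat_lit 0x1097ad1) (nat_lit 3072))
 (.leaf (nat_lit 0x1097ad3) (nat_lit 3072))
) (.node (nat_lit 0x1097ad7) (.leaf (nat_lit 0x1097ad5) (nat_lit 2820))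
 (.node (nat_lit 0x1097ad9) (.leaf (nat_lit 0x1097ad7) (nat_lit 2564))
 (.leaf (nat_lit 0x1097ad9) (nat_lit 3332))
)))) (.node (nat_lit 0x1097b05) (.node (nat_lit 0x1097adf) (.node (nat_lit 0x1097add) (.leaf (nat_lit 0x1097adb) (nat_lit 3076))
 (.leaf (nat_lit 0x1097add) (nat_lit 3076))
) (.node (nat_lit 0x1097b01) (.leaf (nat_lit 0x1097adf) (nat_lit 2820))
 (.node (nat_lit 0x1097b03) (.leaf (nat_lit 0x1097b01) (nat_lit 2049))
 (.leaf (nat_lit 0x1097b03) (nat_lit 2305))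
))) (.node (nat_lit 0x1097b0b) (.node (nat_lit 0x1097b07) (.leaf (nat_lit 0x1097b05) (nat_lit 2561))
 (.node (nat_lit 0x1097b09) (.leaf (nat_lit 0x1097b07) (nat_lit 2305))
 (.leaf (nat_lit 0x1097b09) (nat_lit 3073))
)) (.node (nat_lit 0x1097b0d) (.leaf (nat_lit 0x1097b0b) (nat_lit 2817))
 (.node (nat_lit 0x1097b0f) (.leaf (nat_lit 0x1097b0d) (nat_lit 2817))
 (.leaf (nat_lit 0x1097b0f) (nat_lit 3073))
)))))))) (.node (nat_lit 0x10a09d9) (.node (nat_lit 0x10a0945) (.node (nat_lit 0x1097b5b) (.node (nat_lit 0x1097b45) (.node (nat_lit 0x1097b1b) (.node (nat_lit 0x1097b15) (.node (nat_lit 0x1097b13) (.leaf (nat_lit 0x1097b11) (nat_lit 3328))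
 (.leaf (nat_lit 0x1097b13) (nat_lit 3072))
) (.node (nat_lit 0x1097b17) (.leaf (nat_lit 0x1097b15) (nat_lit 3076))
 (.node (nat_lit 0x1097b19) (.leaf (nat_lit 0x1097b17) (nat_lit 3332))
 (.leaf (nat_lit 0x1097b19) (nat_lit 2304))
))) (.node (nat_lit 0x1097b1f) (.node (nat_lit 0x1097b1d) (.leaf (nat_lit 0x1097b1b) (nat_lit 2560))
 (.leaf (nat_lit 0x1097b1d) (nat_lit 2816))
) (.node (nat_lit 0x1097b41) (.leaf (nat_lit 0x1097b1f) (nat_lit 2560))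
 (.node (nat_lit 0x1097b43) (.leaf (nat_lit 0x1097b41) (nat_lit 2052))
 (.leaf (nat_lit 0x1097b43) (nat_lit 2308))
)))) (.node (nat_lit 0x1097b4f) (.node (nat_lit 0x1097b49) (.node (nat_lit 0x1097b47) (.leaf (nat_lit 0x1097b45) (nat_lit 2564))
 (.leaf (nat_lit 0x1097b47) (nat_lit 2564))
) (.node (nat_lit 0x1097b4b) (.leaf (nat_lit 0x1097b49) (nat_lit 3076))
 (.node (nat_lit 0x1097b4d) (.leaf (nat_lit 0x1097b4b) (nat_lit 3073))
 (.leaf (nat_lit 0x1097b4d) (nat_lit 3073))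
))) (.node (nat_lit 0x1097b55) (.node (nat_lit 0x1097b51) (.leaf (nat_lit 0x1097b4f) (nat_lit 3073))
 (.node (nat_lit 0x1097b53) (.leaf (nat_lit 0x1097b51) (nat_lit 3328))
 (.leaf (nat_lit 0x1097b53) (nat_lit 3332))
)) (.node (nat_lit 0x1097b57) (.leaf (nat_lit 0x1097b55) (nat_lit 3332))
 (.node (nat_lit 0x1097b59) (.leaf (nat_lit 0x1097b57) (nat_lit 3076))
 (.leaf (nat_lit 0x1097b59) (nat_lit 2564))
))))) (.node (nat_lit 0x10a090f) (.node (nat_lit 0x10a0905) (.node (nat_lit 0x1097b5f) (.node (nat_lit 0x1097b5d) (.leaf (nat_lit 0x1097b5b) (nat_lit 2308))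
 (.leaf (nat_lit 0x1097b5d) (nat_lit 2820))
) (.node (nat_lit 0x10a0901) (.leaf (nat_lit 0x1097b5f) (nat_lit 2564))
 (.node (nat_lit 0x10a0903) (.leaf (nat_lit 0x10a0901) (nat_lit 1793))
 (.leaf (nat_lit 0x10a0903) (nat_lit 2049))
))) (.node (nat_lit 0x10a0909) (.node (nat_lit 0x10a0907) (.leaf (nat_lit 0x10a0905) (nat_lit 2561))
 (.leaf (nat_lit 0x10a0907) (nat_lit 2305))
) (.node (nat_lit 0x10a090b) (.leaf (nat_lit 0x10a0909) (nat_lit 2048))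
 (.node (nat_lit 0x10a090d) (.leaf (nat_lit 0x10a090b) (nat_lit 2049))
 (.leaf (nat_lit 0x10a090d) (nat_lit 2563))
)))) (.node (nat_lit 0x10a0919) (.node (nat_lit 0x10a0913) (.node (nat_lit 0x10a0911) (.leaf (nat_lit 0x10a090f) (nat_lit 2307))
 (.leaf (nat_lit 0x10a0911) (nat_lit 3586))
) (.node (nat_lit 0x10a0915) (.leaf (nat_lit 0x10a0913) (nat_lit 3584))
 (.node (nat_lit 0x10a0917) (.leaf (nat_lit 0x10a0915) (nat_lit 3074))
 (.leaf (nat_lit 0x10a0917) (nat_lit 2818))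
))) (.node (nat_lit 0x10a091f) (.node (nat_lit 0x10a091b) (.leaf (nat_lit 0x10a0919) (nat_lit 3330))
 (.node (nat_lit 0x10a091d) (.leaf (nat_lit 0x10a091b) (nat_lit 3329))
 (.leaf (nat_lit 0x10a091d) (nat_lit 2818))
)) (.node (nat_lit 0x10a0941) (.leaf (nat_lit 0x10a091f) (nat_lit 2562))
 (.node (nat_lit 0x10a0943) (.leaf (nat_lit 0x10a0941) (nat_lit 1541))
 (.leaf (nat_lit 0x10a0943) (nat_lit 1797))
)))))) (.node (nat_lit 0x10a098f) (.node (nat_lit 0x10a0959) (.node (nat_lit 0x10a094f) (.node (nat_lit 0x10a0949) (.node (nat_lit 0x10a0947) (.leaf (nat_lit 0x10a0945) (nat_lit 2309))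
 (.leaf (nat_lit 0x10a0947) (nat_lit 2053))
) (.node (nat_lit 0x10a094b) (.leaf (nat_lit 0x10a0949) (nat_lit 2053))
 (.node (nat_lit 0x10a094d) (.leaf (nat_lit 0x10a094b) (nat_lit 1797))
 (.leaf (nat_lit 0x10a094d) (nat_lit 2309))
))) (.node (nat_lit 0x10a0953) (.node (nat_lit 0x10a0951) (.leaf (nat_lit 0x10a094f) (nat_lit 2309))
 (.leaf (nat_lit 0x10a0951) (nat_lit 3333))
) (.node (nat_lit 0x10a0955) (.leaf (nat_lit 0x10a0953) (nat_lit 3589))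
 (.node (nat_lit 0x10a0957) (.leaf (nat_lit 0x10a0955) (nat_lit 2821))
 (.leaf (nat_lit 0x10a0957) (nat_lit 2821))
)))) (.node (nat_lit 0x10a0983) (.node (nat_lit 0x10a095d) (.node (nat_lit 0x10a095b) (.leaf (nat_lit 0x10a0959) (nat_lit 3333))
 (.leaf (nat_lit 0x10a095b) (nat_lit 3077))
) (.node (nat_lit 0x10a095f) (.leaf (nat_lit 0x10a095d) (nat_lit 2821))
 (.node (nat_lit 0x10a0981) (.leaf (nat_lit 0x10a095f) (nat_lit 2565))
 (.leaf (nat_lit 0x10a0981) (nat_lit 1537))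
))) (.node (nat_lit 0x10a0989) (.node (nat_lit 0x10a0985) (.leaf (nat_lit 0x10a0983) (nat_lit 1793))
 (.node (nat_lit 0x10a0987) (.leaf (nat_lit 0x10a0985) (nat_lit 2561))
 (.leaf (nat_lit 0x10a0987) (nat_lit 2305))
)) (.node (nat_lit 0x10a098b) (.leaf (nat_lit 0x10a0989) (nat_lit 2563))
 (.node (nat_lit 0x10a098d) (.leaf (nat_lit 0x10a098b) (nat_lit 2307))
 (.leaf (nat_lit 0x10a098d) (nat_lit 1792))
))))) (.node (nat_lit 0x10a09c3) (.node (nat_lit 0x10a0999) (.node (nat_lit 0x10a0993) (.node (nat_lit 0x10a0991) (.leaf (nat_lit 0x10a098f) (nat_lit 1793))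
 (.leaf (nat_lit 0x10a0991) (nat_lit 3329))
) (.node (nat_lit 0x10a0995) (.leaf (nat_lit 0x10a0993) (nat_lit 3328))
 (.node (nat_lit 0x10a0997) (.leaf (nat_lit 0x10a0995) (nat_lit 3073))
 (.leaf (nat_lit 0x10a0997) (nat_lit 2817))
))) (.node (nat_lit 0x10a099d) (.node (nat_lit 0x10a099b) (.leaf (nat_lit 0x10a0999) (nat_lit 2818))
 (.leaf (nat_lit 0x10a099b) (nat_lit 2562))
) (.node (nat_lit 0x10a099f) (.leaf (nat_lit 0x10a099d) (nat_lit 3077))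
 (.node (nat_lit 0x10a09c1) (.leaf (nat_lit 0x10a099f) (nat_lit 3073))
 (.leaf (nat_lit 0x10a09c1) (nat_lit 1285))
)))) (.node (nat_lit 0x10a09cd) (.node (nat_lit 0x10a09c7) (.node (nat_lit 0x10a09c5) (.leaf (nat_lit 0x10a09c3) (nat_lit 1541))
 (.leaf (nat_lit 0x10a09c5) (nat_lit 2309))
) (.node (nat_lit 0x10a09c9) (.leaf (nat_lit 0x10a09c7) (nat_lit 2053))
 (.node (nat_lit 0x10a09cb) (.leaf (nat_lit 0x10a09c9) (nat_lit 2309))
 (.leaf (nat_lit 0x10a09cb) (nat_lit 2565))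
))) (.node (nat_lit 0x10a09d3) (.node (nat_lit 0x10a09cf) (.leaf (nat_lit 0x10a09cd) (nat_lit 1797))
 (.node (nat_lit 0x10a09d1) (.leaf (nat_lit 0x10a09cf) (nat_lit 1541))
 (.leaf (nat_lit 0x10a09d1) (nat_lit 3077))
)) (.node (nat_lit 0x10a09d5) (.leaf (nat_lit 0x10a09d3) (nat_lit 3333))
 (.node (nat_lit 0x10a09d7) (.leaf (nat_lit 0x10a09d5) (nat_lit 2821))
 (.leaf (nat_lit 0x10a09d7) (nat_lit 2565))
))))))) (.node (nat_lit 0x10a0b8d) (.node (nat_lit 0x10a0b43) (.node (nat_lit 0x10a0b0d) (.node (nat_lit 0x10a0b03) (.node (nat_lit 0x10a09dd) (.node (nat_lit 0x10a09db) (.leaf (nat_lit 0x10a09d9) (nat_lit 2562))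
 (.leaf (nat_lit 0x10a09db) (nat_lit 2565))
) (.node (nat_lit 0x10a09df) (.leaf (nat_lit 0x10a09dd) (nat_lit 3077))
 (.node (nat_lit 0x10a0b01) (.leaf (nat_lit 0x10a09df) (nat_lit 2821))
 (.leaf (nat_lit 0x10a0b01) (nat_lit 1793))
))) (.node (nat_lit 0x10a0b07) (.node (nat_lit 0x10a0b05) (.leaf (nat_lit 0x10a0b03) (nat_lit 2049))
 (.leaf (nat_lit 0x10a0b05) (nat_lit 2817))
) (.node (nat_lit 0x10a0b09) (.leaf (nat_lit 0x10a0b07) (nat_lit 2561))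
 (.node (nat_lit 0x10a0b0b) (.leaf (nat_lit 0x10a0b09) (nat_lit 3074))
 (.leaf (nat_lit 0x10a0b0b) (nat_lit 3073))
)))) (.node (nat_lit 0x10a0b17) (.node (nat_lit 0x10a0b11) (.node (nat_lit 0x10a0b0f) (.leaf (nat_lit 0x10a0b0d) (nat_lit 2562))
 (.leaf (nat_lit 0x10a0b0f) (nat_lit 2306))
) (.node (nat_lit 0x10a0b13) (.leaf (nat_lit 0x10a0b11) (nat_lit 3330))
 (.node (nat_lit 0x10a0b15) (.leaf (nat_lit 0x10a0b13) (nat_lit 3328))
 (.leaf (nat_lit 0x10a0b15) (nat_lit 2818))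
))) (.node (nat_lit 0x10a0b1d) (.node (nat_lit 0x10a0b19) (.leaf (nat_lit 0x10a0b17) (nat_lit 2562))
 (.node (nat_lit 0x10a0b1b) (.leaf (nat_lit 0x10a0b19) (nat_lit 2048))
 (.leaf (nat_lit 0x10a0b1b) (nat_lit 2049))
)) (.node (nat_lit 0x10a0b1f) (.leaf (nat_lit 0x10a0b1d) (nat_lit 2819))
 (.node (nat_lit 0x10a0b41) (.leaf (nat_lit 0x10a0b1f) (nat_lit 2563))
 (.leaf (nat_lit 0x10a0b41) (nat_lit 1541))
))))) (.node (nat_lit 0x10a0b57) (.node (nat_lit 0x10a0b4d) (.node (nat_lit 0x10a0b47) (.node (nat_lit 0x10a0b45) (.leaf (nat_lit 0x10a0b43) (nat_lit 1797))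
 (.leaf (nat_lit 0x10a0b45) (nat_lit 2565))
) (.node (nat_lit 0x10a0b49) (.leaf (nat_lit 0x10a0b47) (nat_lit 2309))
 (.node (nat_lit 0x10a0b4b) (.leaf (nat_lit 0x10a0b49) (nat_lit 3077))
 (.leaf (nat_lit 0x10a0b4b) (nat_lit 2821))
))) (.node (nat_lit 0x10a0b51) (.node (nat_lit 0x10a0b4f) (.leaf (nat_lit 0x10a0b4d) (nat_lit 2565))
 (.leaf (nat_lit 0x10a0b4f) (nat_lit 2309))
) (.node (nat_lit 0x10a0b53) (.leaf (nat_lit 0x10a0b51) (nat_lit 3077))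
 (.node (nat_lit 0x10a0b55) (.leaf (nat_lit 0x10a0b53) (nat_lit 3333))
 (.leaf (nat_lit 0x10a0b55) (nat_lit 2565))
)))) (.node (nat_lit 0x10a0b81) (.node (nat_lit 0x10a0b5b) (.node (nat_lit 0x10a0b59) (.leaf (nat_lit 0x10a0b57) (nat_lit 2565))
 (.leaf (nat_lit 0x10a0b59) (nat_lit 2053))
) (.node (nat_lit 0x10a0b5d) (.leaf (nat_lit 0x10a0b5b) (nat_lit 1797))
 (.node (nat_lit 0x10a0b5f) (.leaf (nat_lit 0x10a0b5d) (nat_lit 2565))
 (.leaf (nat_lit 0x10a0b5f) (nat_lit 2565))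
))) (.node (nat_lit 0x10a0b87) (.node (nat_lit 0x10a0b83) (.leaf (nat_lit 0x10a0b81) (nat_lit 1793))
 (.node (nat_lit 0x10a0b85) (.leaf (nat_lit 0x10a0b83) (nat_lit 2049))
 (.leaf (nat_lit 0x10a0b85) (nat_lit 2817))
)) (.node (nat_lit 0x10a0b89) (.leaf (nat_lit 0x10a0b87) (nat_lit 2561))
 (.node (nat_lit 0x10a0b8b) (.leaf (nat_lit 0x10a0b89) (nat_lit 2818))
 (.leaf (nat_lit 0x10a0b8b) (nat_lit 2562))
)))))) (.node (nat_lit 0x10a0bd7) (.node (nat_lit 0x10a0bc1) (.node (nat_lit 0x10a0b97) (.node (nat_lit 0x10a0b91) (.node (nat_lit 0x10a0b8f) (.leaf (nat_lit 0x10a0b8d) (nat_lit 2821))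
 (.leaf (nat_lit 0x10a0b8f) (nat_lit 2817))
) (.node (nat_lit 0x10a0b93) (.leaf (nat_lit 0x10a0b91) (nat_lit 3073))
 (.node (nat_lit 0x10a0b95) (.leaf (nat_lit 0x10a0b93) (nat_lit 3072))
 (.leaf (nat_lit 0x10a0b95) (nat_lit 3074))
))) (.node (nat_lit 0x10a0b9b) (.node (nat_lit 0x10a0b99) (.leaf (nat_lit 0x10a0b97) (nat_lit 2818))
 (.leaf (nat_lit 0x10a0b99) (nat_lit 2819))
) (.node (nat_lit 0x10a0b9d) (.leaf (nat_lit 0x10a0b9b) (nat_lit 2563))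
 (.node (nat_lit 0x10a0b9f) (.leaf (nat_lit 0x10a0b9d) (nat_lit 2048))
 (.leaf (nat_lit 0x10a0b9f) (nat_lit 2049))
)))) (.node (nat_lit 0x10a0bcb) (.node (nat_lit 0x10a0bc5) (.node (nat_lit 0x10a0bc3) (.leaf (nat_lit 0x10a0bc1) (nat_lit 1541))
 (.leaf (nat_lit 0x10a0bc3) (nat_lit 1797))
) (.node (nat_lit 0x10a0bc7) (.leaf (nat_lit 0x10a0bc5) (nat_lit 2565))
 (.node (nat_lit 0x10a0bc9) (.leaf (nat_lit 0x10a0bc7) (nat_lit 2309))
 (.leaf (nat_lit 0x10a0bc9) (nat_lit 2821))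
))) (.node (nat_lit 0x10a0bd1) (.node (nat_lit 0x10a0bcd) (.leaf (nat_lit 0x10a0bcb) (nat_lit 2565))
 (.node (nat_lit 0x10a0bcf) (.leaf (nat_lit 0x10a0bcd) (nat_lit 2821))
 (.leaf (nat_lit 0x10a0bcf) (nat_lit 2565))
)) (.node (nat_lit 0x10a0bd3) (.leaf (nat_lit 0x10a0bd1) (nat_lit 2821))
 (.node (nat_lit 0x10a0bd5) (.leaf (nat_lit 0x10a0bd3) (nat_lit 3077))
 (.leaf (nat_lit 0x10a0bd5) (nat_lit 2821))
))))) (.node (nat_lit 0x10a190b) (.node (nat_lit 0x10a1901) (.node (nat_lit 0x10a0bdb) (.node (nat_lit 0x10a0bd9) (.leaf (nat_lit 0x10a0bd7) (nat_lit 2821))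
 (.leaf (nat_lit 0x10a0bd9) (nat_lit 2565))
) (.node (nat_lit 0x10a0bdd) (.leaf (nat_lit 0x10a0bdb) (nat_lit 2821))
 (.node (nat_lit 0x10a0bdf) (.leaf (nat_lit 0x10a0bdd) (nat_lit 2053))
 (.leaf (nat_lit 0x10a0bdf) (nat_lit 1797))
))) (.node (nat_lit 0x10a1905) (.node (nat_lit 0x10a1903) (.leaf (nat_lit 0x10a1901) (nat_lit 1793))
 (.leaf (nat_lit 0x10a1903) (nat_lit 2049))
) (.node (nat_lit 0x10a1907) (.leaf (nat_lit 0x10a1905) (nat_lit 2561))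
 (.node (nat_lit 0x10a1909) (.leaf (nat_lit 0x10a1907) (nat_lit 2305))
 (.leaf (nat_lit 0x10a1909) (nat_lit 2048))
)))) (.node (nat_lit 0x10a1915) (.node (nat_lit 0x10a190f) (.node (nat_lit 0x10a190d) (.leaf (nat_lit 0x10a190b) (nat_lit 2304))
 (.leaf (nat_lit 0x10a190d) (nat_lit 2305))
) (.node (nat_lit 0x10a1911) (.leaf (nat_lit 0x10a190f) (nat_lit 2049))
 (.node (nat_lit 0x10a1913) (.leaf (nat_lit 0x10a1911) (nat_lit 3330))
 (.leaf (nat_lit 0x10a1913) (nat_lit 3074))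
))) (.node (nat_lit 0x10a191b) (.node (nat_lit 0x10a1917) (.leaf (nat_lit 0x10a1915) (nat_lit 3330))
 (.node (nat_lit 0x10a1919) (.leaf (nat_lit 0x10a1917) (nat_lit 3586))
 (.leaf (nat_lit 0x10a1919) (nat_lit 3074))
)) (.node (nat_lit 0x10a191d) (.leaf (nat_lit 0x10a191b) (nat_lit 2818))
 (.node (nat_lit 0x10a191f) (.leaf (nat_lit 0x10a191d) (nat_lit 3074))
 (.leaf (nat_lit 0x10a191f) (nat_lit 3330))
))))))))) (.node (nat_lit 0x10a21d1) (.node (nat_lit 0x10a1b89) (.node (nat_lit 0x10a19d5) (.node (nat_lit 0x10a198b) (.node (nat_lit 0x10a1955) (.node (nat_lit 0x10a194b) (.node (nat_lit 0x10a1945) (.node (nat_lit 0x10a1943) (.leaf (nat_lit 0x10a1941) (nat_lit 1541))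
 (.leaf (nat_lit 0x10a1943) (nat_lit 1797))
) (.node (nat_lit 0x10a1947) (.leaf (nat_lit 0x10a1945) (nat_lit 2053))
 (.node (nat_lit 0x10a1949) (.leaf (nat_lit 0x10a1947) (nat_lit 1797))
 (.leaf (nat_lit 0x10a1949) (nat_lit 2053))
))) (.node (nat_lit 0x10a194f) (.node (nat_lit 0x10a194d) (.leaf (nat_lit 0x10a194b) (nat_lit 1797))
 (.leaf (nat_lit 0x10a194d) (nat_lit 2053))
) (.node (nat_lit 0x10a1951) (.leaf (nat_lit 0x10a194f) (nat_lit 2309))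
 (.node (nat_lit 0x10a1953) (.leaf (nat_lit 0x10a1951) (nat_lit 3077))
 (.leaf (nat_lit 0x10a1953) (nat_lit 2821))
)))) (.node (nat_lit 0x10a195f) (.node (nat_lit 0x10a1959) (.node (nat_lit 0x10a1957) (.leaf (nat_lit 0x10a1955) (nat_lit 3077))
 (.leaf (nat_lit 0x10a1957) (nat_lit 3333))
) (.node (nat_lit 0x10a195b) (.leaf (nat_lit 0x10a1959) (nat_lit 2818))
 (.node (nat_lit 0x10a195d) (.leaf (nat_lit 0x10a195b) (nat_lit 3074))
 (.leaf (nat_lit 0x10a195d) (nat_lit 3077))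
))) (.node (nat_lit 0x10a1985) (.node (nat_lit 0x10a1981) (.leaf (nat_lit 0x10a195f) (nat_lit 2821))
 (.node (nat_lit 0x10a1983) (.leaf (nat_lit 0x10a1981) (nat_lit 1793))
 (.leaf (nat_lit 0x10a1983) (nat_lit 2049))
)) (.node (nat_lit 0x10a1987) (.leaf (nat_lit 0x10a1985) (nat_lit 2305))
 (.node (nat_lit 0x10a1989) (.leaf (nat_lit 0x10a1987) (nat_lit 2049))
 (.leaf (nat_lit 0x10a1989) (nat_lit 2305))
))))) (.node (nat_lit 0x10a199f) (.node (nat_lit 0x10a1995) (.node (nat_lit 0x10a198f) (.node (nat_lit 0x10a198d) (.leaf (nat_lit 0x10a198b) (nat_lit 2049))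
 (.leaf (nat_lit 0x10a198d) (nat_lit 2048))
) (.node (nat_lit 0x10a1991) (.leaf (nat_lit 0x10a198f) (nat_lit 2051))
 (.node (nat_lit 0x10a1993) (.leaf (nat_lit 0x10a1991) (nat_lit 3329))
 (.leaf (nat_lit 0x10a1993) (nat_lit 3073))
))) (.node (nat_lit 0x10a1999) (.node (nat_lit 0x10a1997) (.leaf (nat_lit 0x10a1995) (nat_lit 3329))
 (.leaf (nat_lit 0x10a1997) (nat_lit 3585))
) (.node (nat_lit 0x10a199b) (.leaf (nat_lit 0x10a1999) (nat_lit 3074))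
 (.node (nat_lit 0x10a199d) (.leaf (nat_lit 0x10a199b) (nat_lit 3330))
 (.leaf (nat_lit 0x10a199d) (nat_lit 3074))
)))) (.node (nat_lit 0x10a19c9) (.node (nat_lit 0x10a19c3) (.node (nat_lit 0x10a19c1) (.leaf (nat_lit 0x10a199f) (nat_lit 2818))
 (.leaf (nat_lit 0x10a19c1) (nat_lit 1541))
) (.node (nat_lit 0x10a19c5) (.leaf (nat_lit 0x10a19c3) (nat_lit 1797))
 (.node (nat_lit 0x10a19c7) (.leaf (nat_lit 0x10a19c5) (nat_lit 2309))
 (.leaf (nat_lit 0x10a19c7) (nat_lit 2053))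
))) (.node (nat_lit 0x10a19cf) (.node (nat_lit 0x10a19cb) (.leaf (nat_lit 0x10a19c9) (nat_lit 2309))
 (.node (nat_lit 0x10a19cd) (.leaf (nat_lit 0x10a19cb) (nat_lit 2565))
 (.leaf (nat_lit 0x10a19cd) (nat_lit 2053))
)) (.node (nat_lit 0x10a19d1) (.leaf (nat_lit 0x10a19cf) (nat_lit 1797))
 (.node (nat_lit 0x10a19d3) (.leaf (nat_lit 0x10a19d1) (nat_lit 3077))
 (.leaf (nat_lit 0x10a19d3) (nat_lit 2821))
)))))) (.node (nat_lit 0x10a1b1f) (.node (nat_lit 0x10a1b09) (.node (nat_lit 0x10a19df) (.node (nat_lit 0x10a19d9) (.node (nat_lit 0x10a19d7) (.leaf (nat_lit 0x10a19d5) (nat_lit 3077))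
 (.leaf (nat_lit 0x10a19d7) (nat_lit 3333))
) (.node (nat_lit 0x10a19db) (.leaf (nat_lit 0x10a19d9) (nat_lit 3077))
 (.node (nat_lit 0x10a19dd) (.leaf (nat_lit 0x10a19db) (nat_lit 2821))
 (.leaf (nat_lit 0x10a19dd) (nat_lit 2818))
))) (.node (nat_lit 0x10a1b03) (.node (nat_lit 0x10a1b01) (.leaf (nat_lit 0x10a19df) (nat_lit 3074))
 (.leaf (nat_lit 0x10a1b01) (nat_lit 2049))
) (.node (nat_lit 0x10a1b05) (.leaf (nat_lit 0x10a1b03) (nat_lit 2305))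
 (.node (nat_lit 0x10a1b07) (.leaf (nat_lit 0x10a1b05) (nat_lit 2561))
 (.leaf (nat_lit 0x10a1b07) (nat_lit 2305))
)))) (.node (nat_lit 0x10a1b13) (.node (nat_lit 0x10a1b0d) (.node (nat_lit 0x10a1b0b) (.leaf (nat_lit 0x10a1b09) (nat_lit 2818))
 (.leaf (nat_lit 0x10a1b0b) (nat_lit 2562))
) (.node (nat_lit 0x10a1b0f) (.leaf (nat_lit 0x10a1b0d) (nat_lit 2818))
 (.node (nat_lit 0x10a1b11) (.leaf (nat_lit 0x10a1b0f) (nat_lit 3074))
 (.leaf (nat_lit 0x10a1b11) (nat_lit 3074))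
))) (.node (nat_lit 0x10a1b19) (.node (nat_lit 0x10a1b15) (.leaf (nat_lit 0x10a1b13) (nat_lit 2818))
 (.node (nat_lit 0x10a1b17) (.leaf (nat_lit 0x10a1b15) (nat_lit 3074))
 (.leaf (nat_lit 0x10a1b17) (nat_lit 3330))
)) (.node (nat_lit 0x10a1b1b) (.leaf (nat_lit 0x10a1b19) (nat_lit 2304))
 (.node (nat_lit 0x10a1b1d) (.leaf (nat_lit 0x10a1b1b) (nat_lit 2560))
 (.leaf (nat_lit 0x10a1b1d) (nat_lit 2561))
))))) (.node (nat_lit 0x10a1b53) (.node (nat_lit 0x10a1b49) (.node (nat_lit 0x10a1b43) (.node (nat_lit 0x10a1b41) (.leaf (nat_lit 0x10a1b1f) (nat_lit 2305))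
 (.leaf (nat_lit 0x10a1b41) (nat_lit 1797))
) (.node (nat_lit 0x10a1b45) (.leaf (nat_lit 0x10a1b43) (nat_lit 2053))
 (.node (nat_lit 0x10a1b47) (.leaf (nat_lit 0x10a1b45) (nat_lit 2309))
 (.leaf (nat_lit 0x10a1b47) (nat_lit 2053))
))) (.node (nat_lit 0x10a1b4d) (.node (nat_lit 0x10a1b4b) (.leaf (nat_lit 0x10a1b49) (nat_lit 2821))
 (.leaf (nat_lit 0x10a1b4b) (nat_lit 2821))
) (.node (nat_lit 0x10a1b4f) (.leaf (nat_lit 0x10a1b4d) (nat_lit 2821))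
 (.node (nat_lit 0x10a1b51) (.leaf (nat_lit 0x10a1b4f) (nat_lit 2565))
 (.leaf (nat_lit 0x10a1b51) (nat_lit 3077))
)))) (.node (nat_lit 0x10a1b5d) (.node (nat_lit 0x10a1b57) (.node (nat_lit 0x10a1b55) (.leaf (nat_lit 0x10a1b53) (nat_lit 3077))
 (.leaf (nat_lit 0x10a1b55) (nat_lit 2821))
) (.node (nat_lit 0x10a1b59) (.leaf (nat_lit 0x10a1b57) (nat_lit 3077))
 (.node (nat_lit 0x10a1b5b) (.leaf (nat_lit 0x10a1b59) (nat_lit 2309))
 (.leaf (nat_lit 0x10a1b5b) (nat_lit 2053))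
))) (.node (nat_lit 0x10a1b83) (.node (nat_lit 0x10a1b5f) (.leaf (nat_lit 0x10a1b5d) (nat_lit 2309))
 (.node (nat_lit 0x10a1b81) (.leaf (nat_lit 0x10a1b5f) (nat_lit 2565))
 (.leaf (nat_lit 0x10a1b81) (nat_lit 2049))
)) (.node (nat_lit 0x10a1b85) (.leaf (nat_lit 0x10a1b83) (nat_lit 2305))
 (.node (nat_lit 0x10a1b87) (.leaf (nat_lit 0x10a1b85) (nat_lit 2561))
 (.leaf (nat_lit 0x10a1b87) (nat_lit 2305))
))))))) (.node (nat_lit 0x10a205d) (.node (nat_lit 0x10a1bd3) (.node (nat_lit 0x10a1b9d) (.node (nat_lit 0x10a1b93) (.node (nat_lit 0x10a1b8d) (.node (nat_lit 0x10a1b8b) (.leaf (nat_lit 0x10a1b89) (nat_lit 3074))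
 (.leaf (nat_lit 0x10a1b8b) (nat_lit 3073))
) (.node (nat_lit 0x10a1b8f) (.leaf (nat_lit 0x10a1b8d) (nat_lit 2818))
 (.node (nat_lit 0x10a1b91) (.leaf (nat_lit 0x10a1b8f) (nat_lit 2562))
 (.leaf (nat_lit 0x10a1b91) (nat_lit 3074))
))) (.node (nat_lit 0x10a1b97) (.node (nat_lit 0x10a1b95) (.leaf (nat_lit 0x10a1b93) (nat_lit 2818))
 (.leaf (nat_lit 0x10a1b95) (nat_lit 3073))
) (.node (nat_lit 0x10a1b99) (.leaf (nat_lit 0x10a1b97) (nat_lit 3329))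
 (.node (nat_lit 0x10a1b9b) (.leaf (nat_lit 0x10a1b99) (nat_lit 2561))
 (.leaf (nat_lit 0x10a1b9b) (nat_lit 2305))
)))) (.node (nat_lit 0x10a1bc7) (.node (nat_lit 0x10a1bc1) (.node (nat_lit 0x10a1b9f) (.leaf (nat_lit 0x10a1b9d) (nat_lit 2304))
 (.leaf (nat_lit 0x10a1b9f) (nat_lit 2307))
) (.node (nat_lit 0x10a1bc3) (.leaf (nat_lit 0x10a1bc1) (nat_lit 1797))
 (.node (nat_lit 0x10a1bc5) (.leaf (nat_lit 0x10a1bc3) (nat_lit 2053))
 (.leaf (nat_lit 0x10a1bc5) (nat_lit 2309))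
))) (.node (nat_lit 0x10a1bcd) (.node (nat_lit 0x10a1bc9) (.leaf (nat_lit 0x10a1bc7) (nat_lit 2053))
 (.node (nat_lit 0x10a1bcb) (.leaf (nat_lit 0x10a1bc9) (nat_lit 2821))
 (.leaf (nat_lit 0x10a1bcb) (nat_lit 2565))
)) (.node (nat_lit 0x10a1bcf) (.leaf (nat_lit 0x10a1bcd) (nat_lit 2821))
 (.node (nat_lit 0x10a1bd1) (.leaf (nat_lit 0x10a1bcf) (nat_lit 2821))
 (.leaf (nat_lit 0x10a1bd1) (nat_lit 3077))
))))) (.node (nat_lit 0x10a2047) (.node (nat_lit 0x10a1bdd) (.node (nat_lit 0x10a1bd7) (.node (nat_lit 0x10a1bd5) (.leaf (nat_lit 0x10a1bd3) (nat_lit 2821))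
 (.leaf (nat_lit 0x10a1bd5) (nat_lit 2821))
) (.node (nat_lit 0x10a1bd9) (.leaf (nat_lit 0x10a1bd7) (nat_lit 3077))
 (.node (nat_lit 0x10a1bdb) (.leaf (nat_lit 0x10a1bd9) (nat_lit 2309))
 (.leaf (nat_lit 0x10a1bdb) (nat_lit 2565))
))) (.node (nat_lit 0x10a2041) (.node (nat_lit 0x10a1bdf) (.leaf (nat_lit 0x10a1bdd) (nat_lit 2309))
 (.leaf (nat_lit 0x10a1bdf) (nat_lit 2053))
) (.node (nat_lit 0x10a2043) (.leaf (nat_lit 0x10a2041) (nat_lit 1027))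
 (.node (nat_lit 0x10a2045) (.leaf (nat_lit 0x10a2043) (nat_lit 1283))
 (.leaf (nat_lit 0x10a2045) (nat_lit 2051))
)))) (.node (nat_lit 0x10a2051) (.node (nat_lit 0x10a204b) (.node (nat_lit 0x10a2049) (.leaf (nat_lit 0x10a2047) (nat_lit 1795))
 (.leaf (nat_lit 0x10a2049) (nat_lit 2051))
) (.node (nat_lit 0x10a204d) (.leaf (nat_lit 0x10a204b) (nat_lit 1795))
 (.node (nat_lit 0x10a204f) (.leaf (nat_lit 0x10a204d) (nat_lit 2051))
 (.leaf (nat_lit 0x10a204f) (nat_lit 1795))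
))) (.node (nat_lit 0x10a2057) (.node (nat_lit 0x10a2053) (.leaf (nat_lit 0x10a2051) (nat_lit 3076))
 (.node (nat_lit 0x10a2055) (.leaf (nat_lit 0x10a2053) (nat_lit 3332))
 (.leaf (nat_lit 0x10a2055) (nat_lit 2564))
)) (.node (nat_lit 0x10a2059) (.leaf (nat_lit 0x10a2057) (nat_lit 2308))
 (.node (nat_lit 0x10a205b) (.leaf (nat_lit 0x10a2059) (nat_lit 2818))
 (.leaf (nat_lit 0x10a205b) (nat_lit 2562))
)))))) (.node (nat_lit 0x10a2147) (.node (nat_lit 0x10a20d1) (.node (nat_lit 0x10a20c7) (.node (nat_lit 0x10a20c1) (.node (nat_lit 0x10a205f) (.leaf (nat_lit 0x10a205d) (nat_lit 2306))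
 (.leaf (nat_lit 0x10a205f) (nat_lit 2050))
) (.node (nat_lit 0x10a20c3) (.leaf (nat_lit 0x10a20c1) (nat_lit 1283))
 (.node (nat_lit 0x10a20c5) (.leaf (nat_lit 0x10a20c3) (nat_lit 1539))
 (.leaf (nat_lit 0x10a20c5) (nat_lit 1795))
))) (.node (nat_lit 0x10a20cb) (.node (nat_lit 0x10a20c9) (.leaf (nat_lit 0x10a20c7) (nat_lit 1539))
 (.leaf (nat_lit 0x10a20c9) (nat_lit 2051))
) (.node (nat_lit 0x10a20cd) (.leaf (nat_lit 0x10a20cb) (nat_lit 2051))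
 (.node (nat_lit 0x10a20cf) (.leaf (nat_lit 0x10a20cd) (nat_lit 2051))
 (.leaf (nat_lit 0x10a20cf) (nat_lit 1795))
)))) (.node (nat_lit 0x10a20db) (.node (nat_lit 0x10a20d5) (.node (nat_lit 0x10a20d3) (.leaf (nat_lit 0x10a20d1) (nat_lit 2820))
 (.leaf (nat_lit 0x10a20d3) (nat_lit 2564))
) (.node (nat_lit 0x10a20d7) (.leaf (nat_lit 0x10a20d5) (nat_lit 2820))
 (.node (nat_lit 0x10a20d9) (.leaf (nat_lit 0x10a20d7) (nat_lit 3076))
 (.leaf (nat_lit 0x10a20d9) (nat_lit 2562))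
))) (.node (nat_lit 0x10a2141) (.node (nat_lit 0x10a20dd) (.leaf (nat_lit 0x10a20db) (nat_lit 2306))
 (.node (nat_lit 0x10a20df) (.leaf (nat_lit 0x10a20dd) (nat_lit 2562))
 (.leaf (nat_lit 0x10a20df) (nat_lit 2562))
)) (.node (nat_lit 0x10a2143) (.leaf (nat_lit 0x10a2141) (nat_lit 1283))
 (.node (nat_lit 0x10a2145) (.leaf (nat_lit 0x10a2143) (nat_lit 1539))
 (.leaf (nat_lit 0x10a2145) (nat_lit 2051))
))))) (.node (nat_lit 0x10a215b) (.node (nat_lit 0x10a2151) (.node (nat_lit 0x10a214b) (.node (nat_lit 0x10a2149) (.leaf (nat_lit 0x10a2147) (nat_lit 1795))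
 (.leaf (nat_lit 0x10a2149) (nat_lit 1795))
) (.node (nat_lit 0x10a214d) (.leaf (nat_lit 0x10a214b) (nat_lit 1539))
 (.node (nat_lit 0x10a214f) (.leaf (nat_lit 0x10a214d) (nat_lit 2051))
 (.leaf (nat_lit 0x10a214f) (nat_lit 2051))
))) (.node (nat_lit 0x10a2155) (.node (nat_lit 0x10a2153) (.leaf (nat_lit 0x10a2151) (nat_lit 3074))
 (.leaf (nat_lit 0x10a2153) (nat_lit 3330))
) (.node (nat_lit 0x10a2157) (.leaf (nat_lit 0x10a2155) (nat_lit 2560))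
 (.node (nat_lit 0x10a2159) (.leaf (nat_lit 0x10a2157) (nat_lit 2562))
 (.leaf (nat_lit 0x10a2159) (nat_lit 3073))
)))) (.node (nat_lit 0x10a21c5) (.node (nat_lit 0x10a215f) (.node (nat_lit 0x10a215d) (.leaf (nat_lit 0x10a215b) (nat_lit 2817))
 (.leaf (nat_lit 0x10a215d) (nat_lit 2561))
) (.node (nat_lit 0x10a21c1) (.leaf (nat_lit 0x10a215f) (nat_lit 2305))
 (.node (nat_lit 0x10a21c3) (.leaf (nat_lit 0x10a21c1) (nat_lit 1283))
 (.leaf (nat_lit 0x10a21c3) (nat_lit 1539))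
))) (.node (nat_lit 0x10a21cb) (.node (nat_lit 0x10a21c7) (.leaf (nat_lit 0x10a21c5) (nat_lit 2051))
 (.node (nat_lit 0x10a21c9) (.leaf (nat_lit 0x10a21c7) (nat_lit 1795))
 (.leaf (nat_lit 0x10a21c9) (nat_lit 2051))
)) (.node (nat_lit 0x10a21cd) (.leaf (nat_lit 0x10a21cb) (nat_lit 2307))
 (.node (nat_lit 0x10a21cf) (.leaf (nat_lit 0x10a21cd) (nat_lit 1795))
 (.leaf (nat_lit 0x10a21cf) (nat_lit 1539))
)))))))) (.node (nat_lit 0x10a2859) (.node (nat_lit 0x10a2345) (.node (nat_lit 0x10a225b) (.node (nat_lit 0x10a2245) (.node (nat_lit 0x10a21db) (.node (nat_lit 0x10a21d5) (.node (nat_lit 0x10a21d3) (.leaf (nat_lit 0x10a21d1) (nat_lit 2818))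
 (.leaf (nat_lit 0x10a21d3) (nat_lit 2562))
) (.node (nat_lit 0x10a21d7) (.leaf (nat_lit 0x10a21d5) (nat_lit 2816))
 (.node (nat_lit 0x10a21d9) (.leaf (nat_lit 0x10a21d7) (nat_lit 3072))
 (.leaf (nat_lit 0x10a21d9) (nat_lit 2817))
))) (.node (nat_lit 0x10a21df) (.node (nat_lit 0x10a21dd) (.leaf (nat_lit 0x10a21db) (nat_lit 2561))
 (.leaf (nat_lit 0x10a21dd) (nat_lit 2817))
) (.node (nat_lit 0x10a2241) (.leaf (nat_lit 0x10a21df) (nat_lit 2817))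
 (.node (nat_lit 0x10a2243) (.leaf (nat_lit 0x10a2241) (nat_lit 2049))
 (.leaf (nat_lit 0x10a2243) (nat_lit 2305))
)))) (.node (nat_lit 0x10a224f) (.node (nat_lit 0x10a2249) (.node (nat_lit 0x10a2247) (.leaf (nat_lit 0x10a2245) (nat_lit 2561))
 (.leaf (nat_lit 0x10a2247) (nat_lit 2305))
) (.node (nat_lit 0x10a224b) (.leaf (nat_lit 0x10a2249) (nat_lit 2560))
 (.node (nat_lit 0x10a224d) (.leaf (nat_lit 0x10a224b) (nat_lit 2816))
 (.leaf (nat_lit 0x10a224d) (nat_lit 2562))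
))) (.node (nat_lit 0x10a2255) (.node (nat_lit 0x10a2251) (.leaf (nat_lit 0x10a224f) (nat_lit 2306))
 (.node (nat_lit 0x10a2253) (.leaf (nat_lit 0x10a2251) (nat_lit 2560))
 (.leaf (nat_lit 0x10a2253) (nat_lit 2304))
)) (.node (nat_lit 0x10a2257) (.leaf (nat_lit 0x10a2255) (nat_lit 2560))
 (.node (nat_lit 0x10a2259) (.leaf (nat_lit 0x10a2257) (nat_lit 2816))
 (.leaf (nat_lit 0x10a2259) (nat_lit 2561))
))))) (.node (nat_lit 0x10a22cf) (.node (nat_lit 0x10a22c5) (.node (nat_lit 0x10a225f) (.node (nat_lit 0x10a225d) (.leaf (nat_lit 0x10a225b) (nat_lit 2305))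
 (.leaf (nat_lit 0x10a225d) (nat_lit 2561))
) (.node (nat_lit 0x10a22c1) (.leaf (nat_lit 0x10a225f) (nat_lit 2817))
 (.node (nat_lit 0x10a22c3) (.leaf (nat_lit 0x10a22c1) (nat_lit 1793))
 (.leaf (nat_lit 0x10a22c3) (nat_lit 2049))
))) (.node (nat_lit 0x10a22c9) (.node (nat_lit 0x10a22c7) (.leaf (nat_lit 0x10a22c5) (nat_lit 2817))
 (.leaf (nat_lit 0x10a22c7) (nat_lit 2561))
) (.node (nat_lit 0x10a22cb) (.leaf (nat_lit 0x10a22c9) (nat_lit 2304))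
 (.node (nat_lit 0x10a22cd) (.leaf (nat_lit 0x10a22cb) (nat_lit 2306))
 (.leaf (nat_lit 0x10a22cd) (nat_lit 2818))
)))) (.node (nat_lit 0x10a22d9) (.node (nat_lit 0x10a22d3) (.node (nat_lit 0x10a22d1) (.leaf (nat_lit 0x10a22cf) (nat_lit 2818))
 (.leaf (nat_lit 0x10a22d1) (nat_lit 2816))
) (.node (nat_lit 0x10a22d5) (.leaf (nat_lit 0x10a22d3) (nat_lit 3072))
 (.node (nat_lit 0x10a22d7) (.leaf (nat_lit 0x10a22d5) (nat_lit 2304))
 (.leaf (nat_lit 0x10a22d7) (nat_lit 2048))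
))) (.node (nat_lit 0x10a22df) (.node (nat_lit 0x10a22db) (.leaf (nat_lit 0x10a22d9) (nat_lit 2817))
 (.node (nat_lit 0x10a22dd) (.leaf (nat_lit 0x10a22db) (nat_lit 2819))
 (.leaf (nat_lit 0x10a22dd) (nat_lit 2305))
)) (.node (nat_lit 0x10a2341) (.leaf (nat_lit 0x10a22df) (nat_lit 2049))
 (.node (nat_lit 0x10a2343) (.leaf (nat_lit 0x10a2341) (nat_lit 1794))
 (.leaf (nat_lit 0x10a2343) (nat_lit 2050))
)))))) (.node (nat_lit 0x10a23cf) (.node (nat_lit 0x10a2359) (.node (nat_lit 0x10a234f) (.node (nat_lit 0x10a2349) (.node (nat_lit 0x10a2347) (.leaf (nat_lit 0x10a2345) (nat_lit 2306))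
 (.leaf (nat_lit 0x10a2347) (nat_lit 2050))
) (.node (nat_lit 0x10a234b) (.leaf (nat_lit 0x10a2349) (nat_lit 2820))
 (.node (nat_lit 0x10a234d) (.leaf (nat_lit 0x10a234b) (nat_lit 2818))
 (.leaf (nat_lit 0x10a234d) (nat_lit 2820))
))) (.node (nat_lit 0x10a2353) (.node (nat_lit 0x10a2351) (.leaf (nat_lit 0x10a234f) (nat_lit 2564))
 (.leaf (nat_lit 0x10a2351) (nat_lit 2817))
) (.node (nat_lit 0x10a2355) (.leaf (nat_lit 0x10a2353) (nat_lit 2561))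
 (.node (nat_lit 0x10a2357) (.leaf (nat_lit 0x10a2355) (nat_lit 2817))
 (.leaf (nat_lit 0x10a2357) (nat_lit 2819))
)))) (.node (nat_lit 0x10a23c3) (.node (nat_lit 0x10a235d) (.node (nat_lit 0x10a235b) (.leaf (nat_lit 0x10a2359) (nat_lit 2306))
 (.leaf (nat_lit 0x10a235b) (nat_lit 2050))
) (.node (nat_lit 0x10a235f) (.leaf (nat_lit 0x10a235d) (nat_lit 2306))
 (.node (nat_lit 0x10a23c1) (.leaf (nat_lit 0x10a235f) (nat_lit 2562))
 (.leaf (nat_lit 0x10a23c1) (nat_lit 1538))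
))) (.node (nat_lit 0x10a23c9) (.node (nat_lit 0x10a23c5) (.leaf (nat_lit 0x10a23c3) (nat_lit 1794))
 (.node (nat_lit 0x10a23c7) (.leaf (nat_lit 0x10a23c5) (nat_lit 2562))
 (.leaf (nat_lit 0x10a23c7) (nat_lit 2306))
)) (.node (nat_lit 0x10a23cb) (.leaf (nat_lit 0x10a23c9) (nat_lit 2564))
 (.node (nat_lit 0x10a23cd) (.leaf (nat_lit 0x10a23cb) (nat_lit 2308))
 (.leaf (nat_lit 0x10a23cd) (nat_lit 2818))
))))) (.node (nat_lit 0x10a2843) (.node (nat_lit 0x10a23d9) (.node (nat_lit 0x10a23d3) (.node (nat_lit 0x10a23d1) (.leaf (nat_lit 0x10a23cf) (nat_lit 2562))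
 (.leaf (nat_lit 0x10a23d1) (nat_lit 2818))
) (.node (nat_lit 0x10a23d5) (.leaf (nat_lit 0x10a23d3) (nat_lit 3074))
 (.node (nat_lit 0x10a23d7) (.leaf (nat_lit 0x10a23d5) (nat_lit 2561))
 (.leaf (nat_lit 0x10a23d7) (nat_lit 2305))
))) (.node (nat_lit 0x10a23dd) (.node (nat_lit 0x10a23db) (.leaf (nat_lit 0x10a23d9) (nat_lit 2562))
 (.leaf (nat_lit 0x10a23db) (nat_lit 2818))
) (.node (nat_lit 0x10a23df) (.leaf (nat_lit 0x10a23dd) (nat_lit 2050))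
 (.node (nat_lit 0x10a2841) (.leaf (nat_lit 0x10a23df) (nat_lit 1794))
 (.leaf (nat_lit 0x10a2841) (nat_lit 1285))
)))) (.node (nat_lit 0x10a284d) (.node (nat_lit 0x10a2847) (.node (nat_lit 0x10a2845) (.leaf (nat_lit 0x10a2843) (nat_lit 1541))
 (.leaf (nat_lit 0x10a2845) (nat_lit 2309))
) (.node (nat_lit 0x10a2849) (.leaf (nat_lit 0x10a2847) (nat_lit 2053))
 (.node (nat_lit 0x10a284b) (.leaf (nat_lit 0x10a2849) (nat_lit 2049))
 (.leaf (nat_lit 0x10a284b) (nat_lit 2053))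
))) (.node (nat_lit 0x10a2853) (.node (nat_lit 0x10a284f) (.leaf (nat_lit 0x10a284d) (nat_lit 2051))
 (.node (nat_lit 0x10a2851) (.leaf (nat_lit 0x10a284f) (nat_lit 2053))
 (.leaf (nat_lit 0x10a2851) (nat_lit 3333))
)) (.node (nat_lit 0x10a2855) (.leaf (nat_lit 0x10a2853) (nat_lit 3330))
 (.node (nat_lit 0x10a2857) (.leaf (nat_lit 0x10a2855) (nat_lit 2821))
 (.leaf (nat_lit 0x10a2857) (nat_lit 2565))
))))))) (.node (nat_lit 0x10a298d) (.node (nat_lit 0x10a2903) (.node (nat_lit 0x10a28cd) (.node (nat_lit 0x10a28c3) (.node (nat_lit 0x10a285d) (.node (nat_lit 0x10a285b) (.leaf (nat_lit 0x10a2859) (nat_lit 2818))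
 (.leaf (nat_lit 0x10a285b) (nat_lit 2821))
) (.node (nat_lit 0x10a285f) (.leaf (nat_lit 0x10a285d) (nat_lit 2306))
 (.node (nat_lit 0x10a28c1) (.leaf (nat_lit 0x10a285f) (nat_lit 2309))
 (.leaf (nat_lit 0x10a28c1) (nat_lit 1285))
))) (.node (nat_lit 0x10a28c7) (.node (nat_lit 0x10a28c5) (.leaf (nat_lit 0x10a28c3) (nat_lit 1541))
 (.leaf (nat_lit 0x10a28c5) (nat_lit 1797))
) (.node (nat_lit 0x10a28c9) (.leaf (nat_lit 0x10a28c7) (nat_lit 1541))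
 (.node (nat_lit 0x10a28cb) (.leaf (nat_lit 0x10a28c9) (nat_lit 2309))
 (.leaf (nat_lit 0x10a28cb) (nat_lit 2053))
)))) (.node (nat_lit 0x10a28d7) (.node (nat_lit 0x10a28d1) (.node (nat_lit 0x10a28cf) (.leaf (nat_lit 0x10a28cd) (nat_lit 2049))
 (.leaf (nat_lit 0x10a28cf) (nat_lit 2305))
) (.node (nat_lit 0x10a28d3) (.leaf (nat_lit 0x10a28d1) (nat_lit 2821))
 (.node (nat_lit 0x10a28d5) (.leaf (nat_lit 0x10a28d3) (nat_lit 2565))
 (.leaf (nat_lit 0x10a28d5) (nat_lit 2821))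
))) (.node (nat_lit 0x10a28dd) (.node (nat_lit 0x10a28d9) (.leaf (nat_lit 0x10a28d7) (nat_lit 3077))
 (.node (nat_lit 0x10a28db) (.leaf (nat_lit 0x10a28d9) (nat_lit 2562))
 (.leaf (nat_lit 0x10a28db) (nat_lit 2818))
)) (.node (nat_lit 0x10a28df) (.leaf (nat_lit 0x10a28dd) (nat_lit 2821))
 (.node (nat_lit 0x10a2901) (.leaf (nat_lit 0x10a28df) (nat_lit 2565))
 (.leaf (nat_lit 0x10a2901) (nat_lit 1537))
))))) (.node (nat_lit 0x10a2917) (.node (nat_lit 0x10a290d) (.node (nat_lit 0x10a2907) (.node (nat_lit 0x10a2905) (.leaf (nat_lit 0x10a2903) (nat_lit 1793))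
 (.leaf (nat_lit 0x10a2905) (nat_lit 2561))
) (.node (nat_lit 0x10a2909) (.leaf (nat_lit 0x10a2907) (nat_lit 2305))
 (.node (nat_lit 0x10a290b) (.leaf (nat_lit 0x10a2909) (nat_lit 1792))
 (.leaf (nat_lit 0x10a290b) (nat_lit 2048))
))) (.node (nat_lit 0x10a2911) (.node (nat_lit 0x10a290f) (.leaf (nat_lit 0x10a290d) (nat_lit 2307))
 (.leaf (nat_lit 0x10a290f) (nat_lit 2305))
) (.node (nat_lit 0x10a2913) (.leaf (nat_lit 0x10a2911) (nat_lit 3328))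
 (.node (nat_lit 0x10a2915) (.leaf (nat_lit 0x10a2913) (nat_lit 3328))
 (.leaf (nat_lit 0x10a2915) (nat_lit 2816))
)))) (.node (nat_lit 0x10a2981) (.node (nat_lit 0x10a291b) (.node (nat_lit 0x10a2919) (.leaf (nat_lit 0x10a2917) (nat_lit 2818))
 (.leaf (nat_lit 0x10a2919) (nat_lit 3073))
) (.node (nat_lit 0x10a291d) (.leaf (nat_lit 0x10a291b) (nat_lit 3073))
 (.node (nat_lit 0x10a291f) (.leaf (nat_lit 0x10a291d) (nat_lit 2561))
 (.leaf (nat_lit 0x10a291f) (nat_lit 2561))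
))) (.node (nat_lit 0x10a2987) (.node (nat_lit 0x10a2983) (.leaf (nat_lit 0x10a2981) (nat_lit 1537))
 (.node (nat_lit 0x10a2985) (.leaf (nat_lit 0x10a2983) (nat_lit 1793))
 (.leaf (nat_lit 0x10a2985) (nat_lit 2049))
)) (.node (nat_lit 0x10a2989) (.leaf (nat_lit 0x10a2987) (nat_lit 1793))
 (.node (nat_lit 0x10a298b) (.leaf (nat_lit 0x10a2989) (nat_lit 2304))
 (.leaf (nat_lit 0x10a298b) (nat_lit 2048))
)))))) (.node (nat_lit 0x10a2a57) (.node (nat_lit 0x10a2a41) (.node (nat_lit 0x10a2997) (.node (nat_lit 0x10a2991) (.node (nat_lit 0x10a298f) (.leaf (nat_lit 0x10a298d) (nat_lit 1792))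
 (.leaf (nat_lit 0x10a298f) (nat_lit 2048))
) (.node (nat_lit 0x10a2993) (.leaf (nat_lit 0x10a2991) (nat_lit 3073))
 (.node (nat_lit 0x10a2995) (.leaf (nat_lit 0x10a2993) (nat_lit 2817))
 (.leaf (nat_lit 0x10a2995) (nat_lit 3073))
))) (.node (nat_lit 0x10a299b) (.node (nat_lit 0x10a2999) (.leaf (nat_lit 0x10a2997) (nat_lit 3329))
 (.leaf (nat_lit 0x10a2999) (nat_lit 2817))
) (.node (nat_lit 0x10a299d) (.leaf (nat_lit 0x10a299b) (nat_lit 3073))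
 (.node (nat_lit 0x10a299f) (.leaf (nat_lit 0x10a299d) (nat_lit 3073))
 (.leaf (nat_lit 0x10a299f) (nat_lit 2817))
)))) (.node (nat_lit 0x10a2a4b) (.node (nat_lit 0x10a2a45) (.node (nat_lit 0x10a2a43) (.leaf (nat_lit 0x10a2a41) (nat_lit 2053))
 (.leaf (nat_lit 0x10a2a43) (nat_lit 2309))
) (.node (nat_lit 0x10a2a47) (.leaf (nat_lit 0x10a2a45) (nat_lit 2565))
 (.node (nat_lit 0x10a2a49) (.leaf (nat_lit 0x10a2a47) (nat_lit 2309))
 (.leaf (nat_lit 0x10a2a49) (nat_lit 2565))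
))) (.node (nat_lit 0x10a2a51) (.node (nat_lit 0x10a2a4d) (.leaf (nat_lit 0x10a2a4b) (nat_lit 2309))
 (.node (nat_lit 0x10a2a4f) (.leaf (nat_lit 0x10a2a4d) (nat_lit 2565))
 (.leaf (nat_lit 0x10a2a4f) (nat_lit 2821))
)) (.node (nat_lit 0x10a2a53) (.leaf (nat_lit 0x10a2a51) (nat_lit 2565))
 (.node (nat_lit 0x10a2a55) (.leaf (nat_lit 0x10a2a53) (nat_lit 2309))
 (.leaf (nat_lit 0x10a2a55) (nat_lit 2565))
))))) (.node (nat_lit 0x10a2acb) (.node (nat_lit 0x10a2ac1) (.node (nat_lit 0x10a2a5b) (.node (nat_lit 0x10a2a59) (.leaf (nat_lit 0x10a2a57) (nat_lit 2821))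
 (.leaf (nat_lit 0x10a2a59) (nat_lit 2565))
) (.node (nat_lit 0x10a2a5d) (.leaf (nat_lit 0x10a2a5b) (nat_lit 2821))
 (.node (nat_lit 0x10a2a5f) (.leaf (nat_lit 0x10a2a5d) (nat_lit 3077))
 (.leaf (nat_lit 0x10a2a5f) (nat_lit 2821))
))) (.node (nat_lit 0x10a2ac5) (.node (nat_lit 0x10a2ac3) (.leaf (nat_lit 0x10a2ac1) (nat_lit 2053))
 (.leaf (nat_lit 0x10a2ac3) (nat_lit 2309))
) (.node (nat_lit 0x10a2ac7) (.leaf (nat_lit 0x10a2ac5) (nat_lit 2821))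
 (.node (nat_lit 0x10a2ac9) (.leaf (nat_lit 0x10a2ac7) (nat_lit 2565))
 (.leaf (nat_lit 0x10a2ac9) (nat_lit 2565))
)))) (.node (nat_lit 0x10a2ad5) (.node (nat_lit 0x10a2acf) (.node (nat_lit 0x10a2acd) (.leaf (nat_lit 0x10a2acb) (nat_lit 2309))
 (.leaf (nat_lit 0x10a2acd) (nat_lit 2821))
) (.node (nat_lit 0x10a2ad1) (.leaf (nat_lit 0x10a2acf) (nat_lit 2821))
 (.node (nat_lit 0x10a2ad3) (.leaf (nat_lit 0x10a2ad1) (nat_lit 2821))
 (.leaf (nat_lit 0x10a2ad3) (nat_lit 3077))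
))) (.node (nat_lit 0x10a2adb) (.node (nat_lit 0x10a2ad7) (.leaf (nat_lit 0x10a2ad5) (nat_lit 2565))
 (.node (nat_lit 0x10a2ad9) (.leaf (nat_lit 0x10a2ad7) (nat_lit 2309))
 (.leaf (nat_lit 0x10a2ad9) (nat_lit 3077))
)) (.node (nat_lit 0x10a2add) (.leaf (nat_lit 0x10a2adb) (nat_lit 3073))
 (.node (nat_lit 0x10a2adf) (.leaf (nat_lit 0x10a2add) (nat_lit 2305))
 (.leaf (nat_lit 0x10a2adf) (nat_lit 2561))
)))))))))) (.node (nat_lit 0x10a49c1) (.node (nat_lit 0x10a3851) (.node (nat_lit 0x10a31c9) (.node (nat_lit 0x10a3055) (.node (nat_lit 0x10a2b8b) (.node (nat_lit 0x10a2b15) (.node (nat_lit 0x10a2b0b) (.node (nat_lit 0x10a2b05) (.node (nat_lit 0x10a2b03) (.leaf (nat_lit 0x10a2b01) (nat_lit 2050))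
 (.leaf (nat_lit 0x10a2b03) (nat_lit 2306))
) (.node (nat_lit 0x10a2b07) (.leaf (nat_lit 0x10a2b05) (nat_lit 2562))
 (.node (nat_lit 0x10a2b09) (.leaf (nat_lit 0x10a2b07) (nat_lit 2306))
 (.leaf (nat_lit 0x10a2b09) (nat_lit 2817))
))) (.node (nat_lit 0x10a2b0f) (.node (nat_lit 0x10a2b0d) (.leaf (nat_lit 0x10a2b0b) (nat_lit 2561))
 (.leaf (nat_lit 0x10a2b0d) (nat_lit 2817))
) (.node (nat_lit 0x10a2b11) (.leaf (nat_lit 0x10a2b0f) (nat_lit 3073))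
 (.node (nat_lit 0x10a2b13) (.leaf (nat_lit 0x10a2b11) (nat_lit 2817))
 (.leaf (nat_lit 0x10a2b13) (nat_lit 2561))
)))) (.node (nat_lit 0x10a2b1f) (.node (nat_lit 0x10a2b19) (.node (nat_lit 0x10a2b17) (.leaf (nat_lit 0x10a2b15) (nat_lit 2817))
 (.leaf (nat_lit 0x10a2b17) (nat_lit 3073))
) (.node (nat_lit 0x10a2b1b) (.leaf (nat_lit 0x10a2b19) (nat_lit 2306))
 (.node (nat_lit 0x10a2b1d) (.leaf (nat_lit 0x10a2b1b) (nat_lit 2562))
 (.leaf (nat_lit 0x10a2b1d) (nat_lit 2818))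
))) (.node (nat_lit 0x10a2b85) (.node (nat_lit 0x10a2b81) (.leaf (nat_lit 0x10a2b1f) (nat_lit 2562))
 (.node (nat_lit 0x10a2b83) (.leaf (nat_lit 0x10a2b81) (nat_lit 1794))
 (.leaf (nat_lit 0x10a2b83) (nat_lit 2050))
)) (.node (nat_lit 0x10a2b87) (.leaf (nat_lit 0x10a2b85) (nat_lit 2818))
 (.node (nat_lit 0x10a2b89) (.leaf (nat_lit 0x10a2b87) (nat_lit 2562))
 (.leaf (nat_lit 0x10a2b89) (nat_lit 2817))
))))) (.node (nat_lit 0x10a2b9f) (.node (nat_lit 0x10a2b95) (.node (nat_lit 0x10a2b8f) (.node (nat_lit 0x10a2b8d) (.leaf (nat_lit 0x10a2b8b) (nat_lit 2561))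
 (.leaf (nat_lit 0x10a2b8d) (nat_lit 2818))
) (.node (nat_lit 0x10a2b91) (.leaf (nat_lit 0x10a2b8f) (nat_lit 2818))
 (.node (nat_lit 0x10a2b93) (.leaf (nat_lit 0x10a2b91) (nat_lit 3073))
 (.leaf (nat_lit 0x10a2b93) (nat_lit 3074))
))) (.node (nat_lit 0x10a2b99) (.node (nat_lit 0x10a2b97) (.leaf (nat_lit 0x10a2b95) (nat_lit 2817))
 (.leaf (nat_lit 0x10a2b97) (nat_lit 2561))
) (.node (nat_lit 0x10a2b9b) (.leaf (nat_lit 0x10a2b99) (nat_lit 3074))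
 (.node (nat_lit 0x10a2b9d) (.leaf (nat_lit 0x10a2b9b) (nat_lit 2818))
 (.leaf (nat_lit 0x10a2b9d) (nat_lit 2050))
)))) (.node (nat_lit 0x10a3049) (.node (nat_lit 0x10a3043) (.node (nat_lit 0x10a3041) (.leaf (nat_lit 0x10a2b9f) (nat_lit 2306))
 (.leaf (nat_lit 0x10a3041) (nat_lit 772))
) (.node (nat_lit 0x10a3045) (.leaf (nat_lit 0x10a3043) (nat_lit 1028))
 (.node (nat_lit 0x10a3047) (.leaf (nat_lit 0x10a3045) (nat_lit 1796))
 (.leaf (nat_lit 0x10a3047) (nat_lit 1540))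
))) (.node (nat_lit 0x10a304f) (.node (nat_lit 0x10a304b) (.leaf (nat_lit 0x10a3049) (nat_lit 2307))
 (.node (nat_lit 0x10a304d) (.leaf (nat_lit 0x10a304b) (nat_lit 2051))
 (.leaf (nat_lit 0x10a304d) (nat_lit 1796))
)) (.node (nat_lit 0x10a3051) (.leaf (nat_lit 0x10a304f) (nat_lit 1540))
 (.node (nat_lit 0x10a3053) (.leaf (nat_lit 0x10a3051) (nat_lit 2820))
 (.leaf (nat_lit 0x10a3053) (nat_lit 3076))
)))))) (.node (nat_lit 0x10a30df) (.node (nat_lit 0x10a30c9) (.node (nat_lit 0x10a305f) (.node (nat_lit 0x10a3059) (.node (nat_lit 0x10a3057) (.leaf (nat_lit 0x10a3055) (nat_lit 2308))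
 (.leaf (nat_lit 0x10a3057) (nat_lit 2052))
) (.node (nat_lit 0x10a305b) (.leaf (nat_lit 0x10a3059) (nat_lit 2306))
 (.node (nat_lit 0x10a305d) (.leaf (nat_lit 0x10a305b) (nat_lit 2050))
 (.leaf (nat_lit 0x10a305d) (nat_lit 2562))
))) (.node (nat_lit 0x10a30c3) (.node (nat_lit 0x10a30c1) (.leaf (nat_lit 0x10a305f) (nat_lit 2306))
 (.leaf (nat_lit 0x10a30c1) (nat_lit 1028))
) (.node (nat_lit 0x10a30c5) (.leaf (nat_lit 0x10a30c3) (nat_lit 1284))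
 (.node (nat_lit 0x10a30c7) (.leaf (nat_lit 0x10a30c5) (nat_lit 1540))
 (.leaf (nat_lit 0x10a30c7) (nat_lit 1284))
)))) (.node (nat_lit 0x10a30d3) (.node (nat_lit 0x10a30cd) (.node (nat_lit 0x10a30cb) (.leaf (nat_lit 0x10a30c9) (nat_lit 2052))
 (.leaf (nat_lit 0x10a30cb) (nat_lit 1796))
) (.node (nat_lit 0x10a30cf) (.leaf (nat_lit 0x10a30cd) (nat_lit 2052))
 (.node (nat_lit 0x10a30d1) (.leaf (nat_lit 0x10a30cf) (nat_lit 2051))
 (.leaf (nat_lit 0x10a30d1) (nat_lit 2564))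
))) (.node (nat_lit 0x10a30d9) (.node (nat_lit 0x10a30d5) (.leaf (nat_lit 0x10a30d3) (nat_lit 2308))
 (.node (nat_lit 0x10a30d7) (.leaf (nat_lit 0x10a30d5) (nat_lit 2564))
 (.leaf (nat_lit 0x10a30d7) (nat_lit 2820))
)) (.node (nat_lit 0x10a30db) (.leaf (nat_lit 0x10a30d9) (nat_lit 2562))
 (.node (nat_lit 0x10a30dd) (.leaf (nat_lit 0x10a30db) (nat_lit 2562))
 (.leaf (nat_lit 0x10a30dd) (nat_lit 2562))
))))) (.node (nat_lit 0x10a3153) (.node (nat_lit 0x10a3149) (.node (nat_lit 0x10a3143) (.node (nat_lit 0x10a3141) (.leaf (nat_lit 0x10a30df) (nat_lit 2306))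
 (.leaf (nat_lit 0x10a3141) (nat_lit 1284))
) (.node (nat_lit 0x10a3145) (.leaf (nat_lit 0x10a3143) (nat_lit 1540))
 (.node (nat_lit 0x10a3147) (.leaf (nat_lit 0x10a3145) (nat_lit 1796))
 (.leaf (nat_lit 0x10a3147) (nat_lit 1540))
))) (.node (nat_lit 0x10a314d) (.node (nat_lit 0x10a314b) (.leaf (nat_lit 0x10a3149) (nat_lit 1796))
 (.leaf (nat_lit 0x10a314b) (nat_lit 1540))
) (.node (nat_lit 0x10a314f) (.leaf (nat_lit 0x10a314d) (nat_lit 1796))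
 (.node (nat_lit 0x10a3151) (.leaf (nat_lit 0x10a314f) (nat_lit 2052))
 (.leaf (nat_lit 0x10a3151) (nat_lit 2818))
)))) (.node (nat_lit 0x10a315d) (.node (nat_lit 0x10a3157) (.node (nat_lit 0x10a3155) (.leaf (nat_lit 0x10a3153) (nat_lit 2562))
 (.leaf (nat_lit 0x10a3155) (nat_lit 2818))
) (.node (nat_lit 0x10a3159) (.leaf (nat_lit 0x10a3157) (nat_lit 3074))
 (.node (nat_lit 0x10a315b) (.leaf (nat_lit 0x10a3159) (nat_lit 2820))
 (.leaf (nat_lit 0x10a315b) (nat_lit 2817))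
))) (.node (nat_lit 0x10a31c3) (.node (nat_lit 0x10a315f) (.leaf (nat_lit 0x10a315d) (nat_lit 2820))
 (.node (nat_lit 0x10a31c1) (.leaf (nat_lit 0x10a315f) (nat_lit 2564))
 (.leaf (nat_lit 0x10a31c1) (nat_lit 1028))
)) (.node (nat_lit 0x10a31c5) (.leaf (nat_lit 0x10a31c3) (nat_lit 1284))
 (.node (nat_lit 0x10a31c7) (.leaf (nat_lit 0x10a31c5) (nat_lit 2052))
 (.leaf (nat_lit 0x10a31c7) (nat_lit 1796))
))))))) (.node (nat_lit 0x10a32dd) (.node (nat_lit 0x10a3253) (.node (nat_lit 0x10a31dd) (.node (nat_lit 0x10a31d3) (.node (nat_lit 0x10a31cd) (.node (nat_lit 0x10a31cb) (.leaf (nat_lit 0x10a31c9) (nat_lit 2052))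
 (.leaf (nat_lit 0x10a31cb) (nat_lit 2308))
) (.node (nat_lit 0x10a31cf) (.leaf (nat_lit 0x10a31cd) (nat_lit 1540))
 (.node (nat_lit 0x10a31d1) (.leaf (nat_lit 0x10a31cf) (nat_lit 1284))
 (.leaf (nat_lit 0x10a31d1) (nat_lit 2816))
))) (.node (nat_lit 0x10a31d7) (.node (nat_lit 0x10a31d5) (.leaf (nat_lit 0x10a31d3) (nat_lit 3072))
 (.leaf (nat_lit 0x10a31d5) (nat_lit 2562))
) (.node (nat_lit 0x10a31d9) (.leaf (nat_lit 0x10a31d7) (nat_lit 2306))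
 (.node (nat_lit 0x10a31db) (.leaf (nat_lit 0x10a31d9) (nat_lit 2564))
 (.leaf (nat_lit 0x10a31db) (nat_lit 2308))
)))) (.node (nat_lit 0x10a3247) (.node (nat_lit 0x10a3241) (.node (nat_lit 0x10a31df) (.leaf (nat_lit 0x10a31dd) (nat_lit 2817))
 (.leaf (nat_lit 0x10a31df) (nat_lit 2561))
) (.node (nat_lit 0x10a3243) (.leaf (nat_lit 0x10a3241) (nat_lit 1796))
 (.node (nat_lit 0x10a3245) (.leaf (nat_lit 0x10a3243) (nat_lit 2052))
 (.leaf (nat_lit 0x10a3245) (nat_lit 2308))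
))) (.node (nat_lit 0x10a324d) (.node (nat_lit 0x10a3249) (.leaf (nat_lit 0x10a3247) (nat_lit 2052))
 (.node (nat_lit 0x10a324b) (.leaf (nat_lit 0x10a3249) (nat_lit 2562))
 (.leaf (nat_lit 0x10a324b) (nat_lit 2306))
)) (.node (nat_lit 0x10a324f) (.leaf (nat_lit 0x10a324d) (nat_lit 2562))
 (.node (nat_lit 0x10a3251) (.leaf (nat_lit 0x10a324f) (nat_lit 2818))
 (.leaf (nat_lit 0x10a3251) (nat_lit 2308))
))))) (.node (nat_lit 0x10a32c7) (.node (nat_lit 0x10a325d) (.node (nat_lit 0x10a3257) (.node (nat_lit 0x10a3255) (.leaf (nat_lit 0x10a3253) (nat_lit 2052))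
 (.leaf (nat_lit 0x10a3255) (nat_lit 2308))
) (.node (nat_lit 0x10a3259) (.leaf (nat_lit 0x10a3257) (nat_lit 2564))
 (.node (nat_lit 0x10a325b) (.leaf (nat_lit 0x10a3259) (nat_lit 2561))
 (.leaf (nat_lit 0x10a325b) (nat_lit 2817))
))) (.node (nat_lit 0x10a32c1) (.node (nat_lit 0x10a325f) (.leaf (nat_lit 0x10a325d) (nat_lit 2561))
 (.leaf (nat_lit 0x10a325f) (nat_lit 2305))
) (.node (nat_lit 0x10a32c3) (.leaf (nat_lit 0x10a32c1) (nat_lit 1540))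
 (.node (nat_lit 0x10a32c5) (.leaf (nat_lit 0x10a32c3) (nat_lit 1796))
 (.leaf (nat_lit 0x10a32c5) (nat_lit 2564))
)))) (.node (nat_lit 0x10a32d1) (.node (nat_lit 0x10a32cb) (.node (nat_lit 0x10a32c9) (.leaf (nat_lit 0x10a32c7) (nat_lit 2308))
 (.leaf (nat_lit 0x10a32c9) (nat_lit 2818))
) (.node (nat_lit 0x10a32cd) (.leaf (nat_lit 0x10a32cb) (nat_lit 3074))
 (.node (nat_lit 0x10a32cf) (.leaf (nat_lit 0x10a32cd) (nat_lit 2306))
 (.leaf (nat_lit 0x10a32cf) (nat_lit 2050))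
))) (.node (nat_lit 0x10a32d7) (.node (nat_lit 0x10a32d3) (.leaf (nat_lit 0x10a32d1) (nat_lit 2564))
 (.node (nat_lit 0x10a32d5) (.leaf (nat_lit 0x10a32d3) (nat_lit 2820))
 (.leaf (nat_lit 0x10a32d5) (nat_lit 2052))
)) (.node (nat_lit 0x10a32d9) (.leaf (nat_lit 0x10a32d7) (nat_lit 1796))
 (.node (nat_lit 0x10a32db) (.leaf (nat_lit 0x10a32d9) (nat_lit 2305))
 (.leaf (nat_lit 0x10a32db) (nat_lit 2049))
)))))) (.node (nat_lit 0x10a33c7) (.node (nat_lit 0x10a3351) (.node (nat_lit 0x10a3347) (.node (nat_lit 0x10a3341) (.node (nat_lit 0x10a32df) (.leaf (nat_lit 0x10a32dd) (nat_lit 2817))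
 (.leaf (nat_lit 0x10a32df) (nat_lit 2820))
) (.node (nat_lit 0x10a3343) (.leaf (nat_lit 0x10a3341) (nat_lit 1538))
 (.node (nat_lit 0x10a3345) (.leaf (nat_lit 0x10a3343) (nat_lit 1794))
 (.leaf (nat_lit 0x10a3345) (nat_lit 2562))
))) (.node (nat_lit 0x10a334b) (.node (nat_lit 0x10a3349) (.leaf (nat_lit 0x10a3347) (nat_lit 2306))
 (.leaf (nat_lit 0x10a3349) (nat_lit 2820))
) (.node (nat_lit 0x10a334d) (.leaf (nat_lit 0x10a334b) (nat_lit 2818))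
 (.node (nat_lit 0x10a334f) (.leaf (nat_lit 0x10a334d) (nat_lit 2308))
 (.leaf (nat_lit 0x10a334f) (nat_lit 2052))
)))) (.node (nat_lit 0x10a335b) (.node (nat_lit 0x10a3355) (.node (nat_lit 0x10a3353) (.leaf (nat_lit 0x10a3351) (nat_lit 2820))
 (.leaf (nat_lit 0x10a3353) (nat_lit 3076))
) (.node (nat_lit 0x10a3357) (.leaf (nat_lit 0x10a3355) (nat_lit 2308))
 (.node (nat_lit 0x10a3359) (.leaf (nat_lit 0x10a3357) (nat_lit 2052))
 (.leaf (nat_lit 0x10a3359) (nat_lit 2050))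
))) (.node (nat_lit 0x10a33c1) (.node (nat_lit 0x10a335d) (.leaf (nat_lit 0x10a335b) (nat_lit 1794))
 (.node (nat_lit 0x10a335f) (.leaf (nat_lit 0x10a335d) (nat_lit 2562))
 (.leaf (nat_lit 0x10a335f) (nat_lit 2562))
)) (.node (nat_lit 0x10a33c3) (.leaf (nat_lit 0x10a33c1) (nat_lit 1794))
 (.node (nat_lit 0x10a33c5) (.leaf (nat_lit 0x10a33c3) (nat_lit 2050))
 (.leaf (nat_lit 0x10a33c5) (nat_lit 2306))
))))) (.node (nat_lit 0x10a33db) (.node (nat_lit 0x10a33d1) (.node (nat_lit 0x10a33cb) (.node (nat_lit 0x10a33c9) (.leaf (nat_lit 0x10a33c7) (nat_lit 2050))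
 (.leaf (nat_lit 0x10a33c9) (nat_lit 2564))
) (.node (nat_lit 0x10a33cd) (.leaf (nat_lit 0x10a33cb) (nat_lit 2308))
 (.node (nat_lit 0x10a33cf) (.leaf (nat_lit 0x10a33cd) (nat_lit 2564))
 (.leaf (nat_lit 0x10a33cf) (nat_lit 2820))
))) (.node (nat_lit 0x10a33d5) (.node (nat_lit 0x10a33d3) (.leaf (nat_lit 0x10a33d1) (nat_lit 2564))
 (.leaf (nat_lit 0x10a33d3) (nat_lit 2308))
) (.node (nat_lit 0x10a33d7) (.leaf (nat_lit 0x10a33d5) (nat_lit 2564))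
 (.node (nat_lit 0x10a33d9) (.leaf (nat_lit 0x10a33d7) (nat_lit 2820))
 (.leaf (nat_lit 0x10a33d9) (nat_lit 2306))
)))) (.node (nat_lit 0x10a3845) (.node (nat_lit 0x10a33df) (.node (nat_lit 0x10a33dd) (.leaf (nat_lit 0x10a33db) (nat_lit 2562))
 (.leaf (nat_lit 0x10a33dd) (nat_lit 2306))
) (.node (nat_lit 0x10a3841) (.leaf (nat_lit 0x10a33df) (nat_lit 2050))
 (.node (nat_lit 0x10a3843) (.leaf (nat_lit 0x10a3841) (nat_lit 1029))
 (.leaf (nat_lit 0x10a3843) (nat_lit 1285))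
))) (.node (nat_lit 0x10a384b) (.node (nat_lit 0x10a3847) (.leaf (nat_lit 0x10a3845) (nat_lit 2053))
 (.node (nat_lit 0x10a3849) (.leaf (nat_lit 0x10a3847) (nat_lit 1797))
 (.leaf (nat_lit 0x10a3849) (nat_lit 2307))
)) (.node (nat_lit 0x10a384d) (.leaf (nat_lit 0x10a384b) (nat_lit 2309))
 (.node (nat_lit 0x10a384f) (.leaf (nat_lit 0x10a384d) (nat_lit 1793))
 (.leaf (nat_lit 0x10a384f) (nat_lit 1797))
)))))))) (.node (nat_lit 0x10a3ad9) (.node (nat_lit 0x10a3985) (.node (nat_lit 0x10a38db) (.node (nat_lit 0x10a38c5) (.node (nat_lit 0x10a385b) (.node (nat_lit 0x10a3855) (.node (nat_lit 0x10a3853) (.leaf (nat_lit 0x10a3851) (nat_lit 3077))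
 (.leaf (nat_lit 0x10a3853) (nat_lit 3333))
) (.node (nat_lit 0x10a3857) (.leaf (nat_lit 0x10a3855) (nat_lit 2565))
 (.node (nat_lit 0x10a3859) (.leaf (nat_lit 0x10a3857) (nat_lit 2309))
 (.leaf (nat_lit 0x10a3859) (nat_lit 2306))
))) (.node (nat_lit 0x10a385f) (.node (nat_lit 0x10a385d) (.leaf (nat_lit 0x10a385b) (nat_lit 2309))
 (.leaf (nat_lit 0x10a385d) (nat_lit 2562))
) (.node (nat_lit 0x10a38c1) (.leaf (nat_lit 0x10a385f) (nat_lit 2565))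
 (.node (nat_lit 0x10a38c3) (.leaf (nat_lit 0x10a38c1) (nat_lit 1541))
 (.leaf (nat_lit 0x10a38c3) (nat_lit 1797))
)))) (.node (nat_lit 0x10a38cf) (.node (nat_lit 0x10a38c9) (.node (nat_lit 0x10a38c7) (.leaf (nat_lit 0x10a38c5) (nat_lit 2053))
 (.leaf (nat_lit 0x10a38c7) (nat_lit 1797))
) (.node (nat_lit 0x10a38cb) (.leaf (nat_lit 0x10a38c9) (nat_lit 2305))
 (.node (nat_lit 0x10a38cd) (.leaf (nat_lit 0x10a38cb) (nat_lit 2309))
 (.leaf (nat_lit 0x10a38cd) (nat_lit 2309))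
))) (.node (nat_lit 0x10a38d5) (.node (nat_lit 0x10a38d1) (.leaf (nat_lit 0x10a38cf) (nat_lit 2053))
 (.node (nat_lit 0x10a38d3) (.leaf (nat_lit 0x10a38d1) (nat_lit 3077))
 (.leaf (nat_lit 0x10a38d3) (nat_lit 2821))
)) (.node (nat_lit 0x10a38d7) (.leaf (nat_lit 0x10a38d5) (nat_lit 3077))
 (.node (nat_lit 0x10a38d9) (.leaf (nat_lit 0x10a38d7) (nat_lit 3333))
 (.leaf (nat_lit 0x10a38d9) (nat_lit 2821))
))))) (.node (nat_lit 0x10a390f) (.node (nat_lit 0x10a3905) (.node (nat_lit 0x10a38df) (.node (nat_lit 0x10a38dd) (.leaf (nat_lit 0x10a38db) (nat_lit 2565))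
 (.leaf (nat_lit 0x10a38dd) (nat_lit 2562))
) (.node (nat_lit 0x10a3901) (.leaf (nat_lit 0x10a38df) (nat_lit 2818))
 (.node (nat_lit 0x10a3903) (.leaf (nat_lit 0x10a3901) (nat_lit 1793))
 (.leaf (nat_lit 0x10a3903) (nat_lit 2049))
))) (.node (nat_lit 0x10a3909) (.node (nat_lit 0x10a3907) (.leaf (nat_lit 0x10a3905) (nat_lit 2305))
 (.leaf (nat_lit 0x10a3907) (nat_lit 2049))
) (.node (nat_lit 0x10a390b) (.leaf (nat_lit 0x10a3909) (nat_lit 2048))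
 (.node (nat_lit 0x10a390d) (.leaf (nat_lit 0x10a390b) (nat_lit 2304))
 (.leaf (nat_lit 0x10a390d) (nat_lit 2560))
)))) (.node (nat_lit 0x10a3919) (.node (nat_lit 0x10a3913) (.node (nat_lit 0x10a3911) (.leaf (nat_lit 0x10a390f) (nat_lit 2304))
 (.leaf (nat_lit 0x10a3911) (nat_lit 3330))
) (.node (nat_lit 0x10a3915) (.leaf (nat_lit 0x10a3913) (nat_lit 3074))
 (.node (nat_lit 0x10a3917) (.leaf (nat_lit 0x10a3915) (nat_lit 3072))
 (.leaf (nat_lit 0x10a3917) (nat_lit 3328))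
))) (.node (nat_lit 0x10a391f) (.node (nat_lit 0x10a391b) (.leaf (nat_lit 0x10a3919) (nat_lit 3073))
 (.node (nat_lit 0x10a391d) (.leaf (nat_lit 0x10a391b) (nat_lit 2817))
 (.leaf (nat_lit 0x10a391d) (nat_lit 2817))
)) (.node (nat_lit 0x10a3981) (.leaf (nat_lit 0x10a391f) (nat_lit 3073))
 (.node (nat_lit 0x10a3983) (.leaf (nat_lit 0x10a3981) (nat_lit 1281))
 (.leaf (nat_lit 0x10a3983) (nat_lit 1537))
)))))) (.node (nat_lit 0x10a3a4f) (.node (nat_lit 0x10a3999) (.node (nat_lit 0x10a398f) (.node (nat_lit 0x10a3989) (.node (nat_lit 0x10a3987) (.leaf (nat_lit 0x10a3985) (nat_lit 2305))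
 (.leaf (nat_lit 0x10a3987) (nat_lit 2049))
) (.node (nat_lit 0x10a398b) (.leaf (nat_lit 0x10a3989) (nat_lit 2560))
 (.node (nat_lit 0x10a398d) (.leaf (nat_lit 0x10a398b) (nat_lit 2304))
 (.leaf (nat_lit 0x10a398d) (nat_lit 1536))
))) (.node (nat_lit 0x10a3993) (.node (nat_lit 0x10a3991) (.leaf (nat_lit 0x10a398f) (nat_lit 1792))
 (.leaf (nat_lit 0x10a3991) (nat_lit 3072))
) (.node (nat_lit 0x10a3995) (.leaf (nat_lit 0x10a3993) (nat_lit 3072))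
 (.node (nat_lit 0x10a3997) (.leaf (nat_lit 0x10a3995) (nat_lit 2817))
 (.leaf (nat_lit 0x10a3997) (nat_lit 2561))
)))) (.node (nat_lit 0x10a3a43) (.node (nat_lit 0x10a399d) (.node (nat_lit 0x10a399b) (.leaf (nat_lit 0x10a3999) (nat_lit 2561))
 (.leaf (nat_lit 0x10a399b) (nat_lit 2561))
) (.node (nat_lit 0x10a399f) (.leaf (nat_lit 0x10a399d) (nat_lit 2817))
 (.node (nat_lit 0x10a3a41) (.leaf (nat_lit 0x10a399f) (nat_lit 2817))
 (.leaf (nat_lit 0x10a3a41) (nat_lit 2053))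
))) (.node (nat_lit 0x10a3a49) (.node (nat_lit 0x10a3a45) (.leaf (nat_lit 0x10a3a43) (nat_lit 2309))
 (.node (nat_lit 0x10a3a47) (.leaf (nat_lit 0x10a3a45) (nat_lit 2821))
 (.leaf (nat_lit 0x10a3a47) (nat_lit 2565))
)) (.node (nat_lit 0x10a3a4b) (.leaf (nat_lit 0x10a3a49) (nat_lit 2821))
 (.node (nat_lit 0x10a3a4d) (.leaf (nat_lit 0x10a3a4b) (nat_lit 3077))
 (.leaf (nat_lit 0x10a3a4d) (nat_lit 2565))
))))) (.node (nat_lit 0x10a3ac3) (.node (nat_lit 0x10a3a59) (.node (nat_lit 0x10a3a53) (.node (nat_lit 0x10a3a51) (.leaf (nat_lit 0x10a3a4f) (nat_lit 2309))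
 (.leaf (nat_lit 0x10a3a51) (nat_lit 2565))
) (.node (nat_lit 0x10a3a55) (.leaf (nat_lit 0x10a3a53) (nat_lit 2309))
 (.node (nat_lit 0x10a3a57) (.leaf (nat_lit 0x10a3a55) (nat_lit 2821))
 (.leaf (nat_lit 0x10a3a57) (nat_lit 3077))
))) (.node (nat_lit 0x10a3a5d) (.node (nat_lit 0x10a3a5b) (.leaf (nat_lit 0x10a3a59) (nat_lit 3073))
 (.leaf (nat_lit 0x10a3a5b) (nat_lit 2817))
) (.node (nat_lit 0x10a3a5f) (.leaf (nat_lit 0x10a3a5d) (nat_lit 2561))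
 (.node (nat_lit 0x10a3ac1) (.leaf (nat_lit 0x10a3a5f) (nat_lit 2817))
 (.leaf (nat_lit 0x10a3ac1) (nat_lit 1797))
)))) (.node (nat_lit 0x10a3acd) (.node (nat_lit 0x10a3ac7) (.node (nat_lit 0x10a3ac5) (.leaf (nat_lit 0x10a3ac3) (nat_lit 2053))
 (.leaf (nat_lit 0x10a3ac5) (nat_lit 2821))
) (.node (nat_lit 0x10a3ac9) (.leaf (nat_lit 0x10a3ac7) (nat_lit 2565))
 (.node (nat_lit 0x10a3acb) (.leaf (nat_lit 0x10a3ac9) (nat_lit 2821))
 (.leaf (nat_lit 0x10a3acb) (nat_lit 3077))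
))) (.node (nat_lit 0x10a3ad3) (.node (nat_lit 0x10a3acf) (.leaf (nat_lit 0x10a3acd) (nat_lit 2309))
 (.node (nat_lit 0x10a3ad1) (.leaf (nat_lit 0x10a3acf) (nat_lit 2053))
 (.leaf (nat_lit 0x10a3ad1) (nat_lit 2821))
)) (.node (nat_lit 0x10a3ad5) (.leaf (nat_lit 0x10a3ad3) (nat_lit 3077))
 (.node (nat_lit 0x10a3ad7) (.leaf (nat_lit 0x10a3ad5) (nat_lit 2309))
 (.leaf (nat_lit 0x10a3ad7) (nat_lit 2053))
))))))) (.node (nat_lit 0x10a490d) (.node (nat_lit 0x10a3b83) (.node (nat_lit 0x10a3b0d) (.node (nat_lit 0x10a3b03) (.node (nat_lit 0x10a3add) (.node (nat_lit 0x10a3adb) (.leaf (nat_lit 0x10a3ad9) (nat_lit 2309))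
 (.leaf (nat_lit 0x10a3adb) (nat_lit 2565))
) (.node (nat_lit 0x10a3adf) (.leaf (nat_lit 0x10a3add) (nat_lit 3075))
 (.node (nat_lit 0x10a3b01) (.leaf (nat_lit 0x10a3adf) (nat_lit 3077))
 (.leaf (nat_lit 0x10a3b01) (nat_lit 1794))
))) (.node (nat_lit 0x10a3b07) (.node (nat_lit 0x10a3b05) (.leaf (nat_lit 0x10a3b03) (nat_lit 2050))
 (.leaf (nat_lit 0x10a3b05) (nat_lit 2818))
) (.node (nat_lit 0x10a3b09) (.leaf (nat_lit 0x10a3b07) (nat_lit 2562))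
 (.node (nat_lit 0x10a3b0b) (.leaf (nat_lit 0x10a3b09) (nat_lit 3073))
 (.leaf (nat_lit 0x10a3b0b) (nat_lit 3074))
)))) (.node (nat_lit 0x10a3b17) (.node (nat_lit 0x10a3b11) (.node (nat_lit 0x10a3b0f) (.leaf (nat_lit 0x10a3b0d) (nat_lit 2561))
 (.leaf (nat_lit 0x10a3b0f) (nat_lit 2305))
) (.node (nat_lit 0x10a3b13) (.leaf (nat_lit 0x10a3b11) (nat_lit 3073))
 (.node (nat_lit 0x10a3b15) (.leaf (nat_lit 0x10a3b13) (nat_lit 3329))
 (.leaf (nat_lit 0x10a3b15) (nat_lit 2561))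
))) (.node (nat_lit 0x10a3b1d) (.node (nat_lit 0x10a3b19) (.leaf (nat_lit 0x10a3b17) (nat_lit 2305))
 (.node (nat_lit 0x10a3b1b) (.leaf (nat_lit 0x10a3b19) (nat_lit 2050))
 (.leaf (nat_lit 0x10a3b1b) (nat_lit 2306))
)) (.node (nat_lit 0x10a3b1f) (.leaf (nat_lit 0x10a3b1d) (nat_lit 2818))
 (.node (nat_lit 0x10a3b81) (.leaf (nat_lit 0x10a3b1f) (nat_lit 2818))
 (.leaf (nat_lit 0x10a3b81) (nat_lit 2050))
))))) (.node (nat_lit 0x10a3b97) (.node (nat_lit 0x10a3b8d) (.node (nat_lit 0x10a3b87) (.node (nat_lit 0x10a3b85) (.leaf (nat_lit 0x10a3b83) (nat_lit 2306))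
 (.leaf (nat_lit 0x10a3b85) (nat_lit 2562))
) (.node (nat_lit 0x10a3b89) (.leaf (nat_lit 0x10a3b87) (nat_lit 2306))
 (.node (nat_lit 0x10a3b8b) (.leaf (nat_lit 0x10a3b89) (nat_lit 3073))
 (.leaf (nat_lit 0x10a3b8b) (nat_lit 3074))
))) (.node (nat_lit 0x10a3b91) (.node (nat_lit 0x10a3b8f) (.leaf (nat_lit 0x10a3b8d) (nat_lit 2817))
 (.leaf (nat_lit 0x10a3b8f) (nat_lit 2561))
) (.node (nat_lit 0x10a3b93) (.leaf (nat_lit 0x10a3b91) (nat_lit 2817))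
 (.node (nat_lit 0x10a3b95) (.leaf (nat_lit 0x10a3b93) (nat_lit 2561))
 (.leaf (nat_lit 0x10a3b95) (nat_lit 3073))
)))) (.node (nat_lit 0x10a4901) (.node (nat_lit 0x10a3b9b) (.node (nat_lit 0x10a3b99) (.leaf (nat_lit 0x10a3b97) (nat_lit 3329))
 (.leaf (nat_lit 0x10a3b99) (nat_lit 2818))
) (.node (nat_lit 0x10a3b9d) (.leaf (nat_lit 0x10a3b9b) (nat_lit 2562))
 (.node (nat_lit 0x10a3b9f) (.leaf (nat_lit 0x10a3b9d) (nat_lit 2306))
 (.leaf (nat_lit 0x10a3b9f) (nat_lit 2562))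
))) (.node (nat_lit 0x10a4907) (.node (nat_lit 0x10a4903) (.leaf (nat_lit 0x10a4901) (nat_lit 2050))
 (.node (nat_lit 0x10a4905) (.leaf (nat_lit 0x10a4903) (nat_lit 2306))
 (.leaf (nat_lit 0x10a4905) (nat_lit 2818))
)) (.node (nat_lit 0x10a4909) (.leaf (nat_lit 0x10a4907) (nat_lit 2562))
 (.node (nat_lit 0x10a490b) (.leaf (nat_lit 0x10a4909) (nat_lit 2306))
 (.leaf (nat_lit 0x10a490b) (nat_lit 2562))
)))))) (.node (nat_lit 0x10a4957) (.node (nat_lit 0x10a4941) (.node (nat_lit 0x10a4917) (.node (nat_lit 0x10a4911) (.node (nat_lit 0x10a490f) (.leaf (nat_lit 0x10a490d) (nat_lit 2562))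
 (.leaf (nat_lit 0x10a490f) (nat_lit 2306))
) (.node (nat_lit 0x10a4913) (.leaf (nat_lit 0x10a4911) (nat_lit 3072))
 (.node (nat_lit 0x10a4915) (.leaf (nat_lit 0x10a4913) (nat_lit 2816))
 (.leaf (nat_lit 0x10a4915) (nat_lit 3072))
))) (.node (nat_lit 0x10a491b) (.node (nat_lit 0x10a4919) (.leaf (nat_lit 0x10a4917) (nat_lit 3328))
 (.leaf (nat_lit 0x10a4919) (nat_lit 2817))
) (.node (nat_lit 0x10a491d) (.leaf (nat_lit 0x10a491b) (nat_lit 2561))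
 (.node (nat_lit 0x10a491f) (.leaf (nat_lit 0x10a491d) (nat_lit 2817))
 (.leaf (nat_lit 0x10a491f) (nat_lit 3073))
)))) (.node (nat_lit 0x10a494b) (.node (nat_lit 0x10a4945) (.node (nat_lit 0x10a4943) (.leaf (nat_lit 0x10a4941) (nat_lit 1797))
 (.leaf (nat_lit 0x10a4943) (nat_lit 2053))
) (.node (nat_lit 0x10a4947) (.leaf (nat_lit 0x10a4945) (nat_lit 2309))
 (.node (nat_lit 0x10a4949) (.leaf (nat_lit 0x10a4947) (nat_lit 2053))
 (.leaf (nat_lit 0x10a4949) (nat_lit 2309))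
))) (.node (nat_lit 0x10a4951) (.node (nat_lit 0x10a494d) (.leaf (nat_lit 0x10a494b) (nat_lit 2053))
 (.node (nat_lit 0x10a494f) (.leaf (nat_lit 0x10a494d) (nat_lit 2309))
 (.leaf (nat_lit 0x10a494f) (nat_lit 2565))
)) (.node (nat_lit 0x10a4953) (.leaf (nat_lit 0x10a4951) (nat_lit 2821))
 (.node (nat_lit 0x10a4955) (.leaf (nat_lit 0x10a4953) (nat_lit 2565))
 (.leaf (nat_lit 0x10a4955) (nat_lit 2821))
))))) (.node (nat_lit 0x10a498b) (.node (nat_lit 0x10a4981) (.node (nat_lit 0x10a495b) (.node (nat_lit 0x10a4959) (.leaf (nat_lit 0x10a4957) (nat_lit 3077))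
 (.leaf (nat_lit 0x10a4959) (nat_lit 2561))
) (.node (nat_lit 0x10a495d) (.leaf (nat_lit 0x10a495b) (nat_lit 2817))
 (.node (nat_lit 0x10a495f) (.leaf (nat_lit 0x10a495d) (nat_lit 3073))
 (.leaf (nat_lit 0x10a495f) (nat_lit 2817))
))) (.node (nat_lit 0x10a4985) (.node (nat_lit 0x10a4983) (.leaf (nat_lit 0x10a4981) (nat_lit 2050))
 (.leaf (nat_lit 0x10a4983) (nat_lit 2306))
) (.node (nat_lit 0x10a4987) (.leaf (nat_lit 0x10a4985) (nat_lit 2562))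
 (.node (nat_lit 0x10a4989) (.leaf (nat_lit 0x10a4987) (nat_lit 2306))
 (.leaf (nat_lit 0x10a4989) (nat_lit 2562))
)))) (.node (nat_lit 0x10a4995) (.node (nat_lit 0x10a498f) (.node (nat_lit 0x10a498d) (.leaf (nat_lit 0x10a498b) (nat_lit 2306))
 (.leaf (nat_lit 0x10a498d) (nat_lit 2306))
) (.node (nat_lit 0x10a4991) (.leaf (nat_lit 0x10a498f) (nat_lit 2306))
 (.node (nat_lit 0x10a4993) (.leaf (nat_lit 0x10a4991) (nat_lit 3073))
 (.leaf (nat_lit 0x10a4993) (nat_lit 2817))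
))) (.node (nat_lit 0x10a499b) (.node (nat_lit 0x10a4997) (.leaf (nat_lit 0x10a4995) (nat_lit 3073))
 (.node (nat_lit 0x10a4999) (.leaf (nat_lit 0x10a4997) (nat_lit 3329))
 (.leaf (nat_lit 0x10a4999) (nat_lit 2817))
)) (.node (nat_lit 0x10a499d) (.leaf (nat_lit 0x10a499b) (nat_lit 3073))
 (.node (nat_lit 0x10a499f) (.leaf (nat_lit 0x10a499d) (nat_lit 2817))
 (.leaf (nat_lit 0x10a499f) (nat_lit 2561))
))))))))) (.node (nat_lit 0x10a5b51) (.node (nat_lit 0x10a5909) (.node (nat_lit 0x10a4b55) (.node (nat_lit 0x10a4b0b) (.node (nat_lit 0x10a49d5) (.node (nat_lit 0x10a49cb) (.node (nat_lit 0x10a49c5) (.node (nat_lit 0x10a49c3) (.leaf (nat_lit 0x10a49c1) (nat_lit 1797))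
 (.leaf (nat_lit 0x10a49c3) (nat_lit 2053))
) (.node (nat_lit 0x10a49c7) (.leaf (nat_lit 0x10a49c5) (nat_lit 2565))
 (.node (nat_lit 0x10a49c9) (.leaf (nat_lit 0x10a49c7) (nat_lit 2309))
 (.leaf (nat_lit 0x10a49c9) (nat_lit 2565))
))) (.node (nat_lit 0x10a49cf) (.node (nat_lit 0x10a49cd) (.leaf (nat_lit 0x10a49cb) (nat_lit 2821))
 (.leaf (nat_lit 0x10a49cd) (nat_lit 2309))
) (.node (nat_lit 0x10a49d1) (.leaf (nat_lit 0x10a49cf) (nat_lit 2053))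
 (.node (nat_lit 0x10a49d3) (.leaf (nat_lit 0x10a49d1) (nat_lit 2821))
 (.leaf (nat_lit 0x10a49d3) (nat_lit 2565))
)))) (.node (nat_lit 0x10a49df) (.node (nat_lit 0x10a49d9) (.node (nat_lit 0x10a49d7) (.leaf (nat_lit 0x10a49d5) (nat_lit 3077))
 (.leaf (nat_lit 0x10a49d7) (nat_lit 3077))
) (.node (nat_lit 0x10a49db) (.leaf (nat_lit 0x10a49d9) (nat_lit 3077))
 (.node (nat_lit 0x10a49dd) (.leaf (nat_lit 0x10a49db) (nat_lit 2821))
 (.leaf (nat_lit 0x10a49dd) (nat_lit 2561))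
))) (.node (nat_lit 0x10a4b05) (.node (nat_lit 0x10a4b01) (.leaf (nat_lit 0x10a49df) (nat_lit 2817))
 (.node (nat_lit 0x10a4b03) (.leaf (nat_lit 0x10a4b01) (nat_lit 2049))
 (.leaf (nat_lit 0x10a4b03) (nat_lit 2305))
)) (.node (nat_lit 0x10a4b07) (.leaf (nat_lit 0x10a4b05) (nat_lit 2561))
 (.node (nat_lit 0x10a4b09) (.leaf (nat_lit 0x10a4b07) (nat_lit 2305))
 (.leaf (nat_lit 0x10a4b09) (nat_lit 2561))
))))) (.node (nat_lit 0x10a4b1f) (.node (nat_lit 0x10a4b15) (.node (nat_lit 0x10a4b0f) (.node (nat_lit 0x10a4b0d) (.leaf (nat_lit 0x10a4b0b) (nat_lit 2305))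
 (.leaf (nat_lit 0x10a4b0d) (nat_lit 2561))
) (.node (nat_lit 0x10a4b11) (.leaf (nat_lit 0x10a4b0f) (nat_lit 2817))
 (.node (nat_lit 0x10a4b13) (.leaf (nat_lit 0x10a4b11) (nat_lit 2816))
 (.leaf (nat_lit 0x10a4b13) (nat_lit 2560))
))) (.node (nat_lit 0x10a4b19) (.node (nat_lit 0x10a4b17) (.leaf (nat_lit 0x10a4b15) (nat_lit 2816))
 (.leaf (nat_lit 0x10a4b17) (nat_lit 3072))
) (.node (nat_lit 0x10a4b1b) (.leaf (nat_lit 0x10a4b19) (nat_lit 2304))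
 (.node (nat_lit 0x10a4b1d) (.leaf (nat_lit 0x10a4b1b) (nat_lit 2560))
 (.leaf (nat_lit 0x10a4b1d) (nat_lit 2816))
)))) (.node (nat_lit 0x10a4b49) (.node (nat_lit 0x10a4b43) (.node (nat_lit 0x10a4b41) (.leaf (nat_lit 0x10a4b1f) (nat_lit 2560))
 (.leaf (nat_lit 0x10a4b41) (nat_lit 2053))
) (.node (nat_lit 0x10a4b45) (.leaf (nat_lit 0x10a4b43) (nat_lit 2309))
 (.node (nat_lit 0x10a4b47) (.leaf (nat_lit 0x10a4b45) (nat_lit 2565))
 (.leaf (nat_lit 0x10a4b47) (nat_lit 2309))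
))) (.node (nat_lit 0x10a4b4f) (.node (nat_lit 0x10a4b4b) (.leaf (nat_lit 0x10a4b49) (nat_lit 2561))
 (.node (nat_lit 0x10a4b4d) (.leaf (nat_lit 0x10a4b4b) (nat_lit 2817))
 (.leaf (nat_lit 0x10a4b4d) (nat_lit 2817))
)) (.node (nat_lit 0x10a4b51) (.leaf (nat_lit 0x10a4b4f) (nat_lit 2561))
 (.node (nat_lit 0x10a4b53) (.leaf (nat_lit 0x10a4b51) (nat_lit 3077))
 (.leaf (nat_lit 0x10a4b53) (nat_lit 2821))
)))))) (.node (nat_lit 0x10a4b9f) (.node (nat_lit 0x10a4b89) (.node (nat_lit 0x10a4b5f) (.node (nat_lit 0x10a4b59) (.node (nat_lit 0x10a4b57) (.leaf (nat_lit 0x10a4b55) (nat_lit 2816))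
 (.leaf (nat_lit 0x10a4b57) (nat_lit 3072))
) (.node (nat_lit 0x10a4b5b) (.leaf (nat_lit 0x10a4b59) (nat_lit 2565))
 (.node (nat_lit 0x10a4b5d) (.leaf (nat_lit 0x10a4b5b) (nat_lit 2309))
 (.leaf (nat_lit 0x10a4b5d) (nat_lit 2565))
))) (.node (nat_lit 0x10a4b83) (.node (nat_lit 0x10a4b81) (.leaf (nat_lit 0x10a4b5f) (nat_lit 2821))
 (.leaf (nat_lit 0x10a4b81) (nat_lit 2049))
) (.node (nat_lit 0x10a4b85) (.leaf (nat_lit 0x10a4b83) (nat_lit 2305))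
 (.node (nat_lit 0x10a4b87) (.leaf (nat_lit 0x10a4b85) (nat_lit 2817))
 (.leaf (nat_lit 0x10a4b87) (nat_lit 2561))
)))) (.node (nat_lit 0x10a4b93) (.node (nat_lit 0x10a4b8d) (.node (nat_lit 0x10a4b8b) (.leaf (nat_lit 0x10a4b89) (nat_lit 2817))
 (.leaf (nat_lit 0x10a4b8b) (nat_lit 3073))
) (.node (nat_lit 0x10a4b8f) (.leaf (nat_lit 0x10a4b8d) (nat_lit 2561))
 (.node (nat_lit 0x10a4b91) (.leaf (nat_lit 0x10a4b8f) (nat_lit 2305))
 (.leaf (nat_lit 0x10a4b91) (nat_lit 2816))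
))) (.node (nat_lit 0x10a4b99) (.node (nat_lit 0x10a4b95) (.leaf (nat_lit 0x10a4b93) (nat_lit 2560))
 (.node (nat_lit 0x10a4b97) (.leaf (nat_lit 0x10a4b95) (nat_lit 3072))
 (.leaf (nat_lit 0x10a4b97) (nat_lit 3328))
)) (.node (nat_lit 0x10a4b9b) (.leaf (nat_lit 0x10a4b99) (nat_lit 2818))
 (.node (nat_lit 0x10a4b9d) (.leaf (nat_lit 0x10a4b9b) (nat_lit 2562))
 (.leaf (nat_lit 0x10a4b9d) (nat_lit 2304))
))))) (.node (nat_lit 0x10a4bd3) (.node (nat_lit 0x10a4bc9) (.node (nat_lit 0x10a4bc3) (.node (nat_lit 0x10a4bc1) (.leaf (nat_lit 0x10a4b9f) (nat_lit 2560))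
 (.leaf (nat_lit 0x10a4bc1) (nat_lit 2053))
) (.node (nat_lit 0x10a4bc5) (.leaf (nat_lit 0x10a4bc3) (nat_lit 2309))
 (.node (nat_lit 0x10a4bc7) (.leaf (nat_lit 0x10a4bc5) (nat_lit 2565))
 (.leaf (nat_lit 0x10a4bc7) (nat_lit 2309))
))) (.node (nat_lit 0x10a4bcd) (.node (nat_lit 0x10a4bcb) (.leaf (nat_lit 0x10a4bc9) (nat_lit 2821))
 (.leaf (nat_lit 0x10a4bcb) (nat_lit 2565))
) (.node (nat_lit 0x10a4bcf) (.leaf (nat_lit 0x10a4bcd) (nat_lit 2561))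
 (.node (nat_lit 0x10a4bd1) (.leaf (nat_lit 0x10a4bcf) (nat_lit 2561))
 (.leaf (nat_lit 0x10a4bd1) (nat_lit 2821))
)))) (.node (nat_lit 0x10a4bdd) (.node (nat_lit 0x10a4bd7) (.node (nat_lit 0x10a4bd5) (.leaf (nat_lit 0x10a4bd3) (nat_lit 2565))
 (.leaf (nat_lit 0x10a4bd5) (nat_lit 2821))
) (.node (nat_lit 0x10a4bd9) (.leaf (nat_lit 0x10a4bd7) (nat_lit 3077))
 (.node (nat_lit 0x10a4bdb) (.leaf (nat_lit 0x10a4bd9) (nat_lit 2565))
 (.leaf (nat_lit 0x10a4bdb) (nat_lit 2821))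
))) (.node (nat_lit 0x10a5903) (.node (nat_lit 0x10a4bdf) (.leaf (nat_lit 0x10a4bdd) (nat_lit 2565))
 (.node (nat_lit 0x10a5901) (.leaf (nat_lit 0x10a4bdf) (nat_lit 2309))
 (.leaf (nat_lit 0x10a5901) (nat_lit 2050))
)) (.node (nat_lit 0x10a5905) (.leaf (nat_lit 0x10a5903) (nat_lit 2306))
 (.node (nat_lit 0x10a5907) (.leaf (nat_lit 0x10a5905) (nat_lit 2818))
 (.leaf (nat_lit 0x10a5907) (nat_lit 2562))
))))))) (.node (nat_lit 0x10a599d) (.node (nat_lit 0x10a5953) (.node (nat_lit 0x10a591d) (.node (nat_lit 0x10a5913) (.node (nat_lit 0x10a590d) (.node (nat_lit 0x10a590b) (.leaf (nat_lit 0x10a5909) (nat_lit 2306))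
 (.leaf (nat_lit 0x10a590b) (nat_lit 2306))
) (.node (nat_lit 0x10a590f) (.leaf (nat_lit 0x10a590d) (nat_lit 2818))
 (.node (nat_lit 0x10a5911) (.leaf (nat_lit 0x10a590f) (nat_lit 2562))
 (.leaf (nat_lit 0x10a5911) (nat_lit 3328))
))) (.node (nat_lit 0x10a5917) (.node (nat_lit 0x10a5915) (.leaf (nat_lit 0x10a5913) (nat_lit 3584))
 (.leaf (nat_lit 0x10a5915) (nat_lit 2816))
) (.node (nat_lit 0x10a5919) (.leaf (nat_lit 0x10a5917) (nat_lit 2560))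
 (.node (nat_lit 0x10a591b) (.leaf (nat_lit 0x10a5919) (nat_lit 3073))
 (.leaf (nat_lit 0x10a591b) (nat_lit 3329))
)))) (.node (nat_lit 0x10a5947) (.node (nat_lit 0x10a5941) (.node (nat_lit 0x10a591f) (.leaf (nat_lit 0x10a591d) (nat_lit 2561))
 (.leaf (nat_lit 0x10a591f) (nat_lit 2305))
) (.node (nat_lit 0x10a5943) (.leaf (nat_lit 0x10a5941) (nat_lit 1797))
 (.node (nat_lit 0x10a5945) (.leaf (nat_lit 0x10a5943) (nat_lit 2053))
 (.leaf (nat_lit 0x10a5945) (nat_lit 2565))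
))) (.node (nat_lit 0x10a594d) (.node (nat_lit 0x10a5949) (.leaf (nat_lit 0x10a5947) (nat_lit 2309))
 (.node (nat_lit 0x10a594b) (.leaf (nat_lit 0x10a5949) (nat_lit 2309))
 (.leaf (nat_lit 0x10a594b) (nat_lit 2053))
)) (.node (nat_lit 0x10a594f) (.leaf (nat_lit 0x10a594d) (nat_lit 2565))
 (.node (nat_lit 0x10a5951) (.leaf (nat_lit 0x10a594f) (nat_lit 2565))
 (.leaf (nat_lit 0x10a5951) (nat_lit 3077))
))))) (.node (nat_lit 0x10a5987) (.node (nat_lit 0x10a595d) (.node (nat_lit 0x10a5957) (.node (nat_lit 0x10a5955) (.leaf (nat_lit 0x10a5953) (nat_lit 3333))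
 (.leaf (nat_lit 0x10a5955) (nat_lit 2821))
) (.node (nat_lit 0x10a5959) (.leaf (nat_lit 0x10a5957) (nat_lit 2565))
 (.node (nat_lit 0x10a595b) (.leaf (nat_lit 0x10a5959) (nat_lit 3329))
 (.leaf (nat_lit 0x10a595b) (nat_lit 3073))
))) (.node (nat_lit 0x10a5981) (.node (nat_lit 0x10a595f) (.leaf (nat_lit 0x10a595d) (nat_lit 2561))
 (.leaf (nat_lit 0x10a595f) (nat_lit 2565))
) (.node (nat_lit 0x10a5983) (.leaf (nat_lit 0x10a5981) (nat_lit 1794))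
 (.node (nat_lit 0x10a5985) (.leaf (nat_lit 0x10a5983) (nat_lit 2050))
 (.leaf (nat_lit 0x10a5985) (nat_lit 2818))
)))) (.node (nat_lit 0x10a5991) (.node (nat_lit 0x10a598b) (.node (nat_lit 0x10a5989) (.leaf (nat_lit 0x10a5987) (nat_lit 2562))
 (.leaf (nat_lit 0x10a5989) (nat_lit 2818))
) (.node (nat_lit 0x10a598d) (.leaf (nat_lit 0x10a598b) (nat_lit 2562))
 (.node (nat_lit 0x10a598f) (.leaf (nat_lit 0x10a598d) (nat_lit 2050))
 (.leaf (nat_lit 0x10a598f) (nat_lit 2050))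
))) (.node (nat_lit 0x10a5997) (.node (nat_lit 0x10a5993) (.leaf (nat_lit 0x10a5991) (nat_lit 3329))
 (.node (nat_lit 0x10a5995) (.leaf (nat_lit 0x10a5993) (nat_lit 3328))
 (.leaf (nat_lit 0x10a5995) (nat_lit 2817))
)) (.node (nat_lit 0x10a5999) (.leaf (nat_lit 0x10a5997) (nat_lit 2561))
 (.node (nat_lit 0x10a599b) (.leaf (nat_lit 0x10a5999) (nat_lit 2561))
 (.leaf (nat_lit 0x10a599b) (nat_lit 2305))
)))))) (.node (nat_lit 0x10a5b07) (.node (nat_lit 0x10a59d1) (.node (nat_lit 0x10a59c7) (.node (nat_lit 0x10a59c1) (.node (nat_lit 0x10a599f) (.leaf (nat_lit 0x10a599d) (nat_lit 3073))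
 (.leaf (nat_lit 0x10a599f) (nat_lit 3073))
) (.node (nat_lit 0x10a59c3) (.leaf (nat_lit 0x10a59c1) (nat_lit 1541))
 (.node (nat_lit 0x10a59c5) (.leaf (nat_lit 0x10a59c3) (nat_lit 1797))
 (.leaf (nat_lit 0x10a59c5) (nat_lit 2565))
))) (.node (nat_lit 0x10a59cb) (.node (nat_lit 0x10a59c9) (.leaf (nat_lit 0x10a59c7) (nat_lit 2309))
 (.leaf (nat_lit 0x10a59c9) (nat_lit 2565))
) (.node (nat_lit 0x10a59cd) (.leaf (nat_lit 0x10a59cb) (nat_lit 2821))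
 (.node (nat_lit 0x10a59cf) (.leaf (nat_lit 0x10a59cd) (nat_lit 2053))
 (.leaf (nat_lit 0x10a59cf) (nat_lit 1797))
)))) (.node (nat_lit 0x10a59db) (.node (nat_lit 0x10a59d5) (.node (nat_lit 0x10a59d3) (.leaf (nat_lit 0x10a59d1) (nat_lit 3077))
 (.leaf (nat_lit 0x10a59d3) (nat_lit 3077))
) (.node (nat_lit 0x10a59d7) (.leaf (nat_lit 0x10a59d5) (nat_lit 2565))
 (.node (nat_lit 0x10a59d9) (.leaf (nat_lit 0x10a59d7) (nat_lit 2309))
 (.leaf (nat_lit 0x10a59d9) (nat_lit 2305))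
))) (.node (nat_lit 0x10a5b01) (.node (nat_lit 0x10a59dd) (.leaf (nat_lit 0x10a59db) (nat_lit 2561))
 (.node (nat_lit 0x10a59df) (.leaf (nat_lit 0x10a59dd) (nat_lit 3075))
 (.leaf (nat_lit 0x10a59df) (nat_lit 3073))
)) (.node (nat_lit 0x10a5b03) (.leaf (nat_lit 0x10a5b01) (nat_lit 1793))
 (.node (nat_lit 0x10a5b05) (.leaf (nat_lit 0x10a5b03) (nat_lit 2049))
 (.leaf (nat_lit 0x10a5b05) (nat_lit 2817))
))))) (.node (nat_lit 0x10a5b1b) (.node (nat_lit 0x10a5b11) (.node (nat_lit 0x10a5b0b) (.node (nat_lit 0x10a5b09) (.leaf (nat_lit 0x10a5b07) (nat_lit 2561))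
 (.leaf (nat_lit 0x10a5b09) (nat_lit 2817))
) (.node (nat_lit 0x10a5b0d) (.leaf (nat_lit 0x10a5b0b) (nat_lit 3073))
 (.node (nat_lit 0x10a5b0f) (.leaf (nat_lit 0x10a5b0d) (nat_lit 2305))
 (.leaf (nat_lit 0x10a5b0f) (nat_lit 2049))
))) (.node (nat_lit 0x10a5b15) (.node (nat_lit 0x10a5b13) (.leaf (nat_lit 0x10a5b11) (nat_lit 3072))
 (.leaf (nat_lit 0x10a5b13) (nat_lit 3328))
) (.node (nat_lit 0x10a5b17) (.leaf (nat_lit 0x10a5b15) (nat_lit 2560))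
 (.node (nat_lit 0x10a5b19) (.leaf (nat_lit 0x10a5b17) (nat_lit 2304))
 (.leaf (nat_lit 0x10a5b19) (nat_lit 2048))
)))) (.node (nat_lit 0x10a5b45) (.node (nat_lit 0x10a5b1f) (.node (nat_lit 0x10a5b1d) (.leaf (nat_lit 0x10a5b1b) (nat_lit 2304))
 (.leaf (nat_lit 0x10a5b1d) (nat_lit 3072))
) (.node (nat_lit 0x10a5b41) (.leaf (nat_lit 0x10a5b1f) (nat_lit 2816))
 (.node (nat_lit 0x10a5b43) (.leaf (nat_lit 0x10a5b41) (nat_lit 1797))
 (.leaf (nat_lit 0x10a5b43) (nat_lit 2053))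
))) (.node (nat_lit 0x10a5b4b) (.node (nat_lit 0x10a5b47) (.leaf (nat_lit 0x10a5b45) (nat_lit 2821))
 (.node (nat_lit 0x10a5b49) (.leaf (nat_lit 0x10a5b47) (nat_lit 2565))
 (.leaf (nat_lit 0x10a5b49) (nat_lit 3073))
)) (.node (nat_lit 0x10a5b4d) (.leaf (nat_lit 0x10a5b4b) (nat_lit 2817))
 (.node (nat_lit 0x10a5b4f) (.leaf (nat_lit 0x10a5b4d) (nat_lit 2305))
 (.leaf (nat_lit 0x10a5b4f) (nat_lit 2309))
)))))))) (.node (nat_lit 0x10a6159) (.node (nat_lit 0x10a6045) (.node (nat_lit 0x10a5b9b) (.node (nat_lit 0x10a5b85) (.node (nat_lit 0x10a5b5b) (.node (nat_lit 0x10a5b55) (.node (nat_lit 0x10a5b53) (.leaf (nat_lit 0x10a5b51) (nat_lit 3077))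
 (.leaf (nat_lit 0x10a5b53) (nat_lit 3333))
) (.node (nat_lit 0x10a5b57) (.leaf (nat_lit 0x10a5b55) (nat_lit 2565))
 (.node (nat_lit 0x10a5b59) (.leaf (nat_lit 0x10a5b57) (nat_lit 2309))
 (.leaf (nat_lit 0x10a5b59) (nat_lit 2309))
))) (.node (nat_lit 0x10a5b5f) (.node (nat_lit 0x10a5b5d) (.leaf (nat_lit 0x10a5b5b) (nat_lit 2053))
 (.leaf (nat_lit 0x10a5b5d) (nat_lit 2821))
) (.node (nat_lit 0x10a5b81) (.leaf (nat_lit 0x10a5b5f) (nat_lit 2821))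
 (.node (nat_lit 0x10a5b83) (.leaf (nat_lit 0x10a5b81) (nat_lit 2049))
 (.leaf (nat_lit 0x10a5b83) (nat_lit 2305))
)))) (.node (nat_lit 0x10a5b8f) (.node (nat_lit 0x10a5b89) (.node (nat_lit 0x10a5b87) (.leaf (nat_lit 0x10a5b85) (nat_lit 2817))
 (.leaf (nat_lit 0x10a5b87) (nat_lit 2561))
) (.node (nat_lit 0x10a5b8b) (.leaf (nat_lit 0x10a5b89) (nat_lit 2561))
 (.node (nat_lit 0x10a5b8d) (.leaf (nat_lit 0x10a5b8b) (nat_lit 2305))
 (.leaf (nat_lit 0x10a5b8d) (nat_lit 2817))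
))) (.node (nat_lit 0x10a5b95) (.node (nat_lit 0x10a5b91) (.leaf (nat_lit 0x10a5b8f) (nat_lit 2817))
 (.node (nat_lit 0x10a5b93) (.leaf (nat_lit 0x10a5b91) (nat_lit 3072))
 (.leaf (nat_lit 0x10a5b93) (nat_lit 3072))
)) (.node (nat_lit 0x10a5b97) (.leaf (nat_lit 0x10a5b95) (nat_lit 2816))
 (.node (nat_lit 0x10a5b99) (.leaf (nat_lit 0x10a5b97) (nat_lit 2560))
 (.leaf (nat_lit 0x10a5b99) (nat_lit 3072))
))))) (.node (nat_lit 0x10a5bcf) (.node (nat_lit 0x10a5bc5) (.node (nat_lit 0x10a5b9f) (.node (nat_lit 0x10a5b9d) (.leaf (nat_lit 0x10a5b9b) (nat_lit 2816))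
 (.leaf (nat_lit 0x10a5b9d) (nat_lit 2304))
) (.node (nat_lit 0x10a5bc1) (.leaf (nat_lit 0x10a5b9f) (nat_lit 2306))
 (.node (nat_lit 0x10a5bc3) (.leaf (nat_lit 0x10a5bc1) (nat_lit 1797))
 (.leaf (nat_lit 0x10a5bc3) (nat_lit 2053))
))) (.node (nat_lit 0x10a5bc9) (.node (nat_lit 0x10a5bc7) (.leaf (nat_lit 0x10a5bc5) (nat_lit 2821))
 (.leaf (nat_lit 0x10a5bc7) (nat_lit 2565))
) (.node (nat_lit 0x10a5bcb) (.leaf (nat_lit 0x10a5bc9) (nat_lit 2561))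
 (.node (nat_lit 0x10a5bcd) (.leaf (nat_lit 0x10a5bcb) (nat_lit 2561))
 (.leaf (nat_lit 0x10a5bcd) (nat_lit 3077))
)))) (.node (nat_lit 0x10a5bd9) (.node (nat_lit 0x10a5bd3) (.node (nat_lit 0x10a5bd1) (.leaf (nat_lit 0x10a5bcf) (nat_lit 2821))
 (.leaf (nat_lit 0x10a5bd1) (nat_lit 3077))
) (.node (nat_lit 0x10a5bd5) (.leaf (nat_lit 0x10a5bd3) (nat_lit 3333))
 (.node (nat_lit 0x10a5bd7) (.leaf (nat_lit 0x10a5bd5) (nat_lit 2821))
 (.leaf (nat_lit 0x10a5bd7) (nat_lit 2565))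
))) (.node (nat_lit 0x10a5bdf) (.node (nat_lit 0x10a5bdb) (.leaf (nat_lit 0x10a5bd9) (nat_lit 2821))
 (.node (nat_lit 0x10a5bdd) (.leaf (nat_lit 0x10a5bdb) (nat_lit 3077))
 (.leaf (nat_lit 0x10a5bdd) (nat_lit 2309))
)) (.node (nat_lit 0x10a6041) (.leaf (nat_lit 0x10a5bdf) (nat_lit 2053))
 (.node (nat_lit 0x10a6043) (.leaf (nat_lit 0x10a6041) (nat_lit 1026))
 (.leaf (nat_lit 0x10a6043) (nat_lit 1282))
)))))) (.node (nat_lit 0x10a60cf) (.node (nat_lit 0x10a6059) (.node (nat_lit 0x10a604f) (.node (nat_lit 0x10a6049) (.node (nat_lit 0x10a6047) (.leaf (nat_lit 0x10a6045) (nat_lit 2050))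
 (.leaf (nat_lit 0x10a6047) (nat_lit 1794))
) (.node (nat_lit 0x10a604b) (.leaf (nat_lit 0x10a6049) (nat_lit 2562))
 (.node (nat_lit 0x10a604d) (.leaf (nat_lit 0x10a604b) (nat_lit 2306))
 (.leaf (nat_lit 0x10a604d) (nat_lit 2050))
))) (.node (nat_lit 0x10a6053) (.node (nat_lit 0x10a6051) (.leaf (nat_lit 0x10a604f) (nat_lit 1794))
 (.leaf (nat_lit 0x10a6051) (nat_lit 3074))
) (.node (nat_lit 0x10a6055) (.leaf (nat_lit 0x10a6053) (nat_lit 3330))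
 (.node (nat_lit 0x10a6057) (.leaf (nat_lit 0x10a6055) (nat_lit 2562))
 (.leaf (nat_lit 0x10a6057) (nat_lit 2306))
)))) (.node (nat_lit 0x10a60c3) (.node (nat_lit 0x10a605d) (.node (nat_lit 0x10a605b) (.leaf (nat_lit 0x10a6059) (nat_lit 2049))
 (.leaf (nat_lit 0x10a605b) (nat_lit 1793))
) (.node (nat_lit 0x10a605f) (.leaf (nat_lit 0x10a605d) (nat_lit 2307))
 (.node (nat_lit 0x10a60c1) (.leaf (nat_lit 0x10a605f) (nat_lit 2051))
 (.leaf (nat_lit 0x10a60c1) (nat_lit 1282))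
))) (.node (nat_lit 0x10a60c9) (.node (nat_lit 0x10a60c5) (.leaf (nat_lit 0x10a60c3) (nat_lit 1538))
 (.node (nat_lit 0x10a60c7) (.leaf (nat_lit 0x10a60c5) (nat_lit 1794))
 (.leaf (nat_lit 0x10a60c7) (nat_lit 1538))
)) (.node (nat_lit 0x10a60cb) (.leaf (nat_lit 0x10a60c9) (nat_lit 2306))
 (.node (nat_lit 0x10a60cd) (.leaf (nat_lit 0x10a60cb) (nat_lit 2050))
 (.leaf (nat_lit 0x10a60cd) (nat_lit 2306))
))))) (.node (nat_lit 0x10a6143) (.node (nat_lit 0x10a60d9) (.node (nat_lit 0x10a60d3) (.node (nat_lit 0x10a60d1) (.leaf (nat_lit 0x10a60cf) (nat_lit 2306))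
 (.leaf (nat_lit 0x10a60d1) (nat_lit 2818))
) (.node (nat_lit 0x10a60d5) (.leaf (nat_lit 0x10a60d3) (nat_lit 2562))
 (.node (nat_lit 0x10a60d7) (.leaf (nat_lit 0x10a60d5) (nat_lit 2818))
 (.leaf (nat_lit 0x10a60d7) (nat_lit 3074))
))) (.node (nat_lit 0x10a60dd) (.node (nat_lit 0x10a60db) (.leaf (nat_lit 0x10a60d9) (nat_lit 2305))
 (.leaf (nat_lit 0x10a60db) (nat_lit 2307))
) (.node (nat_lit 0x10a60df) (.leaf (nat_lit 0x10a60dd) (nat_lit 2305))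
 (.node (nat_lit 0x10a6141) (.leaf (nat_lit 0x10a60df) (nat_lit 2049))
 (.leaf (nat_lit 0x10a6141) (nat_lit 1538))
)))) (.node (nat_lit 0x10a614d) (.node (nat_lit 0x10a6147) (.node (nat_lit 0x10a6145) (.leaf (nat_lit 0x10a6143) (nat_lit 1794))
 (.leaf (nat_lit 0x10a6145) (nat_lit 2050))
) (.node (nat_lit 0x10a6149) (.leaf (nat_lit 0x10a6147) (nat_lit 1794))
 (.node (nat_lit 0x10a614b) (.leaf (nat_lit 0x10a6149) (nat_lit 2050))
 (.leaf (nat_lit 0x10a614b) (nat_lit 1794))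
))) (.node (nat_lit 0x10a6153) (.node (nat_lit 0x10a614f) (.leaf (nat_lit 0x10a614d) (nat_lit 2050))
 (.node (nat_lit 0x10a6151) (.leaf (nat_lit 0x10a614f) (nat_lit 2306))
 (.leaf (nat_lit 0x10a6151) (nat_lit 2561))
)) (.node (nat_lit 0x10a6155) (.leaf (nat_lit 0x10a6153) (nat_lit 2305))
 (.node (nat_lit 0x10a6157) (.leaf (nat_lit 0x10a6155) (nat_lit 2561))
 (.leaf (nat_lit 0x10a6157) (nat_lit 2817))
))))))) (.node (nat_lit 0x10a62cd) (.node (nat_lit 0x10a6243) (.node (nat_lit 0x10a61cd) (.node (nat_lit 0x10a61c3) (.node (nat_lit 0x10a615d) (.node (nat_lit 0x10a615b) (.leaf (nat_lit 0x10a6159) (nat_lit 2561))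
 (.leaf (nat_lit 0x10a615b) (nat_lit 2817))
) (.node (nat_lit 0x10a615f) (.leaf (nat_lit 0x10a615d) (nat_lit 3073))
 (.node (nat_lit 0x10a61c1) (.leaf (nat_lit 0x10a615f) (nat_lit 2817))
 (.leaf (nat_lit 0x10a61c1) (nat_lit 1282))
))) (.node (nat_lit 0x10a61c7) (.node (nat_lit 0x10a61c5) (.leaf (nat_lit 0x10a61c3) (nat_lit 1538))
 (.leaf (nat_lit 0x10a61c5) (nat_lit 2306))
) (.node (nat_lit 0x10a61c9) (.leaf (nat_lit 0x10a61c7) (nat_lit 2050))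
 (.node (nat_lit 0x10a61cb) (.leaf (nat_lit 0x10a61c9) (nat_lit 2306))
 (.leaf (nat_lit 0x10a61cb) (nat_lit 2562))
)))) (.node (nat_lit 0x10a61d7) (.node (nat_lit 0x10a61d1) (.node (nat_lit 0x10a61cf) (.leaf (nat_lit 0x10a61cd) (nat_lit 1794))
 (.leaf (nat_lit 0x10a61cf) (nat_lit 1538))
) (.node (nat_lit 0x10a61d3) (.leaf (nat_lit 0x10a61d1) (nat_lit 2817))
 (.node (nat_lit 0x10a61d5) (.leaf (nat_lit 0x10a61d3) (nat_lit 2819))
 (.leaf (nat_lit 0x10a61d5) (nat_lit 2305))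
))) (.node (nat_lit 0x10a61dd) (.node (nat_lit 0x10a61d9) (.leaf (nat_lit 0x10a61d7) (nat_lit 2049))
 (.node (nat_lit 0x10a61db) (.leaf (nat_lit 0x10a61d9) (nat_lit 2305))
 (.leaf (nat_lit 0x10a61db) (nat_lit 2561))
)) (.node (nat_lit 0x10a61df) (.leaf (nat_lit 0x10a61dd) (nat_lit 3074))
 (.node (nat_lit 0x10a6241) (.leaf (nat_lit 0x10a61df) (nat_lit 2818))
 (.leaf (nat_lit 0x10a6241) (nat_lit 1793))
))))) (.node (nat_lit 0x10a6257) (.node (nat_lit 0x10a624d) (.node (nat_lit 0x10a6247) (.node (nat_lit 0x10a6245) (.leaf (nat_lit 0x10a6243) (nat_lit 2049))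
 (.leaf (nat_lit 0x10a6245) (nat_lit 2305))
) (.node (nat_lit 0x10a6249) (.leaf (nat_lit 0x10a6247) (nat_lit 2049))
 (.node (nat_lit 0x10a624b) (.leaf (nat_lit 0x10a6249) (nat_lit 2305))
 (.leaf (nat_lit 0x10a624b) (nat_lit 2049))
))) (.node (nat_lit 0x10a6251) (.node (nat_lit 0x10a624f) (.leaf (nat_lit 0x10a624d) (nat_lit 2305))
 (.leaf (nat_lit 0x10a624f) (nat_lit 2561))
) (.node (nat_lit 0x10a6253) (.leaf (nat_lit 0x10a6251) (nat_lit 2304))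
 (.node (nat_lit 0x10a6255) (.leaf (nat_lit 0x10a6253) (nat_lit 2048))
 (.leaf (nat_lit 0x10a6255) (nat_lit 2304))
)))) (.node (nat_lit 0x10a62c1) (.node (nat_lit 0x10a625b) (.node (nat_lit 0x10a6259) (.leaf (nat_lit 0x10a6257) (nat_lit 2560))
 (.leaf (nat_lit 0x10a6259) (nat_lit 2304))
) (.node (nat_lit 0x10a625d) (.leaf (nat_lit 0x10a625b) (nat_lit 2560))
 (.node (nat_lit 0x10a625f) (.leaf (nat_lit 0x10a625d) (nat_lit 2816))
 (.leaf (nat_lit 0x10a625f) (nat_lit 2560))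
))) (.node (nat_lit 0x10a62c7) (.node (nat_lit 0x10a62c3) (.leaf (nat_lit 0x10a62c1) (nat_lit 1537))
 (.node (nat_lit 0x10a62c5) (.leaf (nat_lit 0x10a62c3) (nat_lit 1793))
 (.leaf (nat_lit 0x10a62c5) (nat_lit 2561))
)) (.node (nat_lit 0x10a62c9) (.leaf (nat_lit 0x10a62c7) (nat_lit 2305))
 (.node (nat_lit 0x10a62cb) (.leaf (nat_lit 0x10a62c9) (nat_lit 2561))
 (.leaf (nat_lit 0x10a62cb) (nat_lit 2817))
)))))) (.node (nat_lit 0x10a6357) (.node (nat_lit 0x10a6341) (.node (nat_lit 0x10a62d7) (.node (nat_lit 0x10a62d1) (.node (nat_lit 0x10a62cf) (.leaf (nat_lit 0x10a62cd) (nat_lit 2049))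
 (.leaf (nat_lit 0x10a62cf) (nat_lit 1793))
) (.node (nat_lit 0x10a62d3) (.leaf (nat_lit 0x10a62d1) (nat_lit 2560))
 (.node (nat_lit 0x10a62d5) (.leaf (nat_lit 0x10a62d3) (nat_lit 2816))
 (.leaf (nat_lit 0x10a62d5) (nat_lit 2048))
))) (.node (nat_lit 0x10a62db) (.node (nat_lit 0x10a62d9) (.leaf (nat_lit 0x10a62d7) (nat_lit 1792))
 (.leaf (nat_lit 0x10a62d9) (nat_lit 2048))
) (.node (nat_lit 0x10a62dd) (.leaf (nat_lit 0x10a62db) (nat_lit 2304))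
 (.node (nat_lit 0x10a62df) (.leaf (nat_lit 0x10a62dd) (nat_lit 3072))
 (.leaf (nat_lit 0x10a62df) (nat_lit 2816))
)))) (.node (nat_lit 0x10a634b) (.node (nat_lit 0x10a6345) (.node (nat_lit 0x10a6343) (.leaf (nat_lit 0x10a6341) (nat_lit 1281))
 (.leaf (nat_lit 0x10a6343) (nat_lit 1537))
) (.node (nat_lit 0x10a6347) (.leaf (nat_lit 0x10a6345) (nat_lit 2305))
 (.node (nat_lit 0x10a6349) (.leaf (nat_lit 0x10a6347) (nat_lit 2049))
 (.leaf (nat_lit 0x10a6349) (nat_lit 2817))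
))) (.node (nat_lit 0x10a6351) (.node (nat_lit 0x10a634d) (.leaf (nat_lit 0x10a634b) (nat_lit 2561))
 (.node (nat_lit 0x10a634f) (.leaf (nat_lit 0x10a634d) (nat_lit 2305))
 (.leaf (nat_lit 0x10a634f) (nat_lit 2049))
)) (.node (nat_lit 0x10a6353) (.leaf (nat_lit 0x10a6351) (nat_lit 2816))
 (.node (nat_lit 0x10a6355) (.leaf (nat_lit 0x10a6353) (nat_lit 3072))
 (.leaf (nat_lit 0x10a6355) (nat_lit 2304))
))))) (.node (nat_lit 0x10a63cb) (.node (nat_lit 0x10a63c1) (.node (nat_lit 0x10a635b) (.node (nat_lit 0x10a6359) (.leaf (nat_lit 0x10a6357) (nat_lit 2306))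
 (.leaf (nat_lit 0x10a6359) (nat_lit 1792))
) (.node (nat_lit 0x10a635d) (.leaf (nat_lit 0x10a635b) (nat_lit 1536))
 (.node (nat_lit 0x10a635f) (.leaf (nat_lit 0x10a635d) (nat_lit 2304))
 (.leaf (nat_lit 0x10a635f) (nat_lit 2307))
))) (.node (nat_lit 0x10a63c5) (.node (nat_lit 0x10a63c3) (.leaf (nat_lit 0x10a63c1) (nat_lit 1537))
 (.leaf (nat_lit 0x10a63c3) (nat_lit 1793))
) (.node (nat_lit 0x10a63c7) (.leaf (nat_lit 0x10a63c5) (nat_lit 2049))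
 (.node (nat_lit 0x10a63c9) (.leaf (nat_lit 0x10a63c7) (nat_lit 1793))
 (.leaf (nat_lit 0x10a63c9) (nat_lit 2561))
)))) (.node (nat_lit 0x10a63d5) (.node (nat_lit 0x10a63cf) (.node (nat_lit 0x10a63cd) (.leaf (nat_lit 0x10a63cb) (nat_lit 2305))
 (.leaf (nat_lit 0x10a63cd) (nat_lit 2561))
) (.node (nat_lit 0x10a63d1) (.leaf (nat_lit 0x10a63cf) (nat_lit 2561))
 (.node (nat_lit 0x10a63d3) (.leaf (nat_lit 0x10a63d1) (nat_lit 2818))
 (.leaf (nat_lit 0x10a63d3) (nat_lit 2562))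
))) (.node (nat_lit 0x10a63db) (.node (nat_lit 0x10a63d7) (.leaf (nat_lit 0x10a63d5) (nat_lit 2560))
 (.node (nat_lit 0x10a63d9) (.leaf (nat_lit 0x10a63d7) (nat_lit 2816))
 (.leaf (nat_lit 0x10a63d9) (nat_lit 2048))
)) (.node (nat_lit 0x10a63dd) (.leaf (nat_lit 0x10a63db) (nat_lit 2304))
 (.node (nat_lit 0x10a63df) (.leaf (nat_lit 0x10a63dd) (nat_lit 2048))
 (.leaf (nat_lit 0x10a63df) (nat_lit 1792))
)))))))))))) (.node (nat_lit 0x10b5301) (.node (nat_lit 0x10b2141) (.node (nat_lit 0x10a7ac1) (.node (nat_lit 0x10a7151) (.node (nat_lit 0x10a6ac9) (.node (nat_lit 0x10a6915) (.node (nat_lit 0x10a68cb) (.node (nat_lit 0x10a6855) (.node (nat_lit 0x10a684b) (.node (nat_lit 0x10a6845) (.node (nat_lit 0x10a6843) (.leaf (nat_lit 0x10a6841) (nat_lit 1285))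
 (.leaf (nat_lit 0x10a6843) (nat_lit 1541))
) (.node (nat_lit 0x10a6847) (.leaf (nat_lit 0x10a6845) (nat_lit 2309))
 (.node (nat_lit 0x10a6849) (.leaf (nat_lit 0x10a6847) (nat_lit 2053))
 (.leaf (nat_lit 0x10a6849) (nat_lit 2562))
))) (.node (nat_lit 0x10a684f) (.node (nat_lit 0x10a684d) (.leaf (nat_lit 0x10a684b) (nat_lit 2565))
 (.leaf (nat_lit 0x10a684d) (nat_lit 2050))
) (.node (nat_lit 0x10a6851) (.leaf (nat_lit 0x10a684f) (nat_lit 2053))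
 (.node (nat_lit 0x10a6853) (.leaf (nat_lit 0x10a6851) (nat_lit 3333))
 (.leaf (nat_lit 0x10a6853) (nat_lit 3329))
)))) (.node (nat_lit 0x10a685f) (.node (nat_lit 0x10a6859) (.node (nat_lit 0x10a6857) (.leaf (nat_lit 0x10a6855) (nat_lit 2821))
 (.leaf (nat_lit 0x10a6857) (nat_lit 2565))
) (.node (nat_lit 0x10a685b) (.leaf (nat_lit 0x10a6859) (nat_lit 2049))
 (.node (nat_lit 0x10a685d) (.leaf (nat_lit 0x10a685b) (nat_lit 2053))
 (.leaf (nat_lit 0x10a685d) (nat_lit 2307))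
))) (.node (nat_lit 0x10a68c5) (.node (nat_lit 0x10a68c1) (.leaf (nat_lit 0x10a685f) (nat_lit 2309))
 (.node (nat_lit 0x10a68c3) (.leaf (nat_lit 0x10a68c1) (nat_lit 1541))
 (.leaf (nat_lit 0x10a68c3) (nat_lit 1797))
)) (.node (nat_lit 0x10a68c7) (.leaf (nat_lit 0x10a68c5) (nat_lit 2053))
 (.node (nat_lit 0x10a68c9) (.leaf (nat_lit 0x10a68c7) (nat_lit 1797))
 (.leaf (nat_lit 0x10a68c9) (nat_lit 2562))
))))) (.node (nat_lit 0x10a68df) (.node (nat_lit 0x10a68d5) (.node (nat_lit 0x10a68cf) (.node (nat_lit 0x10a68cd) (.leaf (nat_lit 0x10a68cb) (nat_lit 2565))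
 (.leaf (nat_lit 0x10a68cd) (nat_lit 2565))
) (.node (nat_lit 0x10a68d1) (.leaf (nat_lit 0x10a68cf) (nat_lit 2309))
 (.node (nat_lit 0x10a68d3) (.leaf (nat_lit 0x10a68d1) (nat_lit 3077))
 (.leaf (nat_lit 0x10a68d3) (nat_lit 2821))
))) (.node (nat_lit 0x10a68d9) (.node (nat_lit 0x10a68d7) (.leaf (nat_lit 0x10a68d5) (nat_lit 3077))
 (.leaf (nat_lit 0x10a68d7) (nat_lit 3333))
) (.node (nat_lit 0x10a68db) (.leaf (nat_lit 0x10a68d9) (nat_lit 2565))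
 (.node (nat_lit 0x10a68dd) (.leaf (nat_lit 0x10a68db) (nat_lit 2309))
 (.leaf (nat_lit 0x10a68dd) (nat_lit 2305))
)))) (.node (nat_lit 0x10a6909) (.node (nat_lit 0x10a6903) (.node (nat_lit 0x10a6901) (.leaf (nat_lit 0x10a68df) (nat_lit 2561))
 (.leaf (nat_lit 0x10a6901) (nat_lit 2050))
) (.node (nat_lit 0x10a6905) (.leaf (nat_lit 0x10a6903) (nat_lit 2306))
 (.node (nat_lit 0x10a6907) (.leaf (nat_lit 0x10a6905) (nat_lit 2562))
 (.leaf (nat_lit 0x10a6907) (nat_lit 2306))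
))) (.node (nat_lit 0x10a690f) (.node (nat_lit 0x10a690b) (.leaf (nat_lit 0x10a6909) (nat_lit 2306))
 (.node (nat_lit 0x10a690d) (.leaf (nat_lit 0x10a690b) (nat_lit 2562))
 (.leaf (nat_lit 0x10a690d) (nat_lit 2818))
)) (.node (nat_lit 0x10a6911) (.leaf (nat_lit 0x10a690f) (nat_lit 2562))
 (.node (nat_lit 0x10a6913) (.leaf (nat_lit 0x10a6911) (nat_lit 3073))
 (.leaf (nat_lit 0x10a6913) (nat_lit 2817))
)))))) (.node (nat_lit 0x10a699f) (.node (nat_lit 0x10a6989) (.node (nat_lit 0x10a691f) (.node (nat_lit 0x10a6919) (.node (nat_lit 0x10a6917) (.leaf (nat_lit 0x10a6915) (nat_lit 3073))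
 (.leaf (nat_lit 0x10a6917) (nat_lit 3329))
) (.node (nat_lit 0x10a691b) (.leaf (nat_lit 0x10a6919) (nat_lit 3073))
 (.node (nat_lit 0x10a691d) (.leaf (nat_lit 0x10a691b) (nat_lit 2817))
 (.leaf (nat_lit 0x10a691d) (nat_lit 3073))
))) (.node (nat_lit 0x10a6983) (.node (nat_lit 0x10a6981) (.leaf (nat_lit 0x10a691f) (nat_lit 3329))
 (.leaf (nat_lit 0x10a6981) (nat_lit 1538))
) (.node (nat_lit 0x10a6985) (.leaf (nat_lit 0x10a6983) (nat_lit 1794))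
 (.node (nat_lit 0x10a6987) (.leaf (nat_lit 0x10a6985) (nat_lit 2562))
 (.leaf (nat_lit 0x10a6987) (nat_lit 2306))
)))) (.node (nat_lit 0x10a6993) (.node (nat_lit 0x10a698d) (.node (nat_lit 0x10a698b) (.leaf (nat_lit 0x10a6989) (nat_lit 2818))
 (.leaf (nat_lit 0x10a698b) (nat_lit 2562))
) (.node (nat_lit 0x10a698f) (.leaf (nat_lit 0x10a698d) (nat_lit 1794))
 (.node (nat_lit 0x10a6991) (.leaf (nat_lit 0x10a698f) (nat_lit 2050))
 (.leaf (nat_lit 0x10a6991) (nat_lit 3073))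
))) (.node (nat_lit 0x10a6999) (.node (nat_lit 0x10a6995) (.leaf (nat_lit 0x10a6993) (nat_lit 3329))
 (.node (nat_lit 0x10a6997) (.leaf (nat_lit 0x10a6995) (nat_lit 2561))
 (.leaf (nat_lit 0x10a6997) (nat_lit 2305))
)) (.node (nat_lit 0x10a699b) (.leaf (nat_lit 0x10a6999) (nat_lit 2816))
 (.node (nat_lit 0x10a699d) (.leaf (nat_lit 0x10a699b) (nat_lit 2560))
 (.leaf (nat_lit 0x10a699d) (nat_lit 3074))
))))) (.node (nat_lit 0x10a6a53) (.node (nat_lit 0x10a6a49) (.node (nat_lit 0x10a6a43) (.node (nat_lit 0x10a6a41) (.leaf (nat_lit 0x10a699f) (nat_lit 3074))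
 (.leaf (nat_lit 0x10a6a41) (nat_lit 2305))
) (.node (nat_lit 0x10a6a45) (.leaf (nat_lit 0x10a6a43) (nat_lit 2561))
 (.node (nat_lit 0x10a6a47) (.leaf (nat_lit 0x10a6a45) (nat_lit 2817))
 (.leaf (nat_lit 0x10a6a47) (nat_lit 2561))
))) (.node (nat_lit 0x10a6a4d) (.node (nat_lit 0x10a6a4b) (.leaf (nat_lit 0x10a6a49) (nat_lit 2561))
 (.leaf (nat_lit 0x10a6a4b) (nat_lit 2817))
) (.node (nat_lit 0x10a6a4f) (.leaf (nat_lit 0x10a6a4d) (nat_lit 2821))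
 (.node (nat_lit 0x10a6a51) (.leaf (nat_lit 0x10a6a4f) (nat_lit 2565))
 (.leaf (nat_lit 0x10a6a51) (nat_lit 2816))
)))) (.node (nat_lit 0x10a6a5d) (.node (nat_lit 0x10a6a57) (.node (nat_lit 0x10a6a55) (.leaf (nat_lit 0x10a6a53) (nat_lit 2560))
 (.leaf (nat_lit 0x10a6a55) (nat_lit 2816))
) (.node (nat_lit 0x10a6a59) (.leaf (nat_lit 0x10a6a57) (nat_lit 3072))
 (.node (nat_lit 0x10a6a5b) (.leaf (nat_lit 0x10a6a59) (nat_lit 2821))
 (.leaf (nat_lit 0x10a6a5b) (nat_lit 2565))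
))) (.node (nat_lit 0x10a6ac3) (.node (nat_lit 0x10a6a5f) (.leaf (nat_lit 0x10a6a5d) (nat_lit 2821))
 (.node (nat_lit 0x10a6ac1) (.leaf (nat_lit 0x10a6a5f) (nat_lit 3077))
 (.leaf (nat_lit 0x10a6ac1) (nat_lit 1797))
)) (.node (nat_lit 0x10a6ac5) (.leaf (nat_lit 0x10a6ac3) (nat_lit 2053))
 (.node (nat_lit 0x10a6ac7) (.leaf (nat_lit 0x10a6ac5) (nat_lit 2821))
 (.leaf (nat_lit 0x10a6ac7) (nat_lit 2565))
))))))) (.node (nat_lit 0x10a6b9d) (.node (nat_lit 0x10a6b13) (.node (nat_lit 0x10a6add) (.node (nat_lit 0x10a6ad3) (.node (nat_lit 0x10a6acd) (.node (nat_lit 0x10a6acb) (.leaf (nat_lit 0x10a6ac9) (nat_lit 3073))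
 (.leaf (nat_lit 0x10a6acb) (nat_lit 2817))
) (.node (nat_lit 0x10a6acf) (.leaf (nat_lit 0x10a6acd) (nat_lit 2049))
 (.node (nat_lit 0x10a6ad1) (.leaf (nat_lit 0x10a6acf) (nat_lit 2305))
 (.leaf (nat_lit 0x10a6ad1) (nat_lit 2821))
))) (.node (nat_lit 0x10a6ad7) (.node (nat_lit 0x10a6ad5) (.leaf (nat_lit 0x10a6ad3) (nat_lit 3077))
 (.leaf (nat_lit 0x10a6ad5) (nat_lit 2309))
) (.node (nat_lit 0x10a6ad9) (.leaf (nat_lit 0x10a6ad7) (nat_lit 2053))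
 (.node (nat_lit 0x10a6adb) (.leaf (nat_lit 0x10a6ad9) (nat_lit 2565))
 (.leaf (nat_lit 0x10a6adb) (nat_lit 2309))
)))) (.node (nat_lit 0x10a6b07) (.node (nat_lit 0x10a6b01) (.node (nat_lit 0x10a6adf) (.leaf (nat_lit 0x10a6add) (nat_lit 3077))
 (.leaf (nat_lit 0x10a6adf) (nat_lit 3077))
) (.node (nat_lit 0x10a6b03) (.leaf (nat_lit 0x10a6b01) (nat_lit 1537))
 (.node (nat_lit 0x10a6b05) (.leaf (nat_lit 0x10a6b03) (nat_lit 1793))
 (.leaf (nat_lit 0x10a6b05) (nat_lit 2561))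
))) (.node (nat_lit 0x10a6b0d) (.node (nat_lit 0x10a6b09) (.leaf (nat_lit 0x10a6b07) (nat_lit 2305))
 (.node (nat_lit 0x10a6b0b) (.leaf (nat_lit 0x10a6b09) (nat_lit 2817))
 (.leaf (nat_lit 0x10a6b0b) (nat_lit 2817))
)) (.node (nat_lit 0x10a6b0f) (.leaf (nat_lit 0x10a6b0d) (nat_lit 2305))
 (.node (nat_lit 0x10a6b11) (.leaf (nat_lit 0x10a6b0f) (nat_lit 2305))
 (.leaf (nat_lit 0x10a6b11) (nat_lit 3072))
))))) (.node (nat_lit 0x10a6b87) (.node (nat_lit 0x10a6b1d) (.node (nat_lit 0x10a6b17) (.node (nat_lit 0x10a6b15) (.leaf (nat_lit 0x10a6b13) (nat_lit 3072))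
 (.leaf (nat_lit 0x10a6b15) (nat_lit 2560))
) (.node (nat_lit 0x10a6b19) (.leaf (nat_lit 0x10a6b17) (nat_lit 2560))
 (.node (nat_lit 0x10a6b1b) (.leaf (nat_lit 0x10a6b19) (nat_lit 1792))
 (.leaf (nat_lit 0x10a6b1b) (nat_lit 2048))
))) (.node (nat_lit 0x10a6b81) (.node (nat_lit 0x10a6b1f) (.leaf (nat_lit 0x10a6b1d) (nat_lit 2563))
 (.leaf (nat_lit 0x10a6b1f) (nat_lit 2560))
) (.node (nat_lit 0x10a6b83) (.leaf (nat_lit 0x10a6b81) (nat_lit 1793))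
 (.node (nat_lit 0x10a6b85) (.leaf (nat_lit 0x10a6b83) (nat_lit 2049))
 (.leaf (nat_lit 0x10a6b85) (nat_lit 2305))
)))) (.node (nat_lit 0x10a6b91) (.node (nat_lit 0x10a6b8b) (.node (nat_lit 0x10a6b89) (.leaf (nat_lit 0x10a6b87) (nat_lit 2049))
 (.leaf (nat_lit 0x10a6b89) (nat_lit 2817))
) (.node (nat_lit 0x10a6b8d) (.leaf (nat_lit 0x10a6b8b) (nat_lit 2817))
 (.node (nat_lit 0x10a6b8f) (.leaf (nat_lit 0x10a6b8d) (nat_lit 2817))
 (.leaf (nat_lit 0x10a6b8f) (nat_lit 2561))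
))) (.node (nat_lit 0x10a6b97) (.node (nat_lit 0x10a6b93) (.leaf (nat_lit 0x10a6b91) (nat_lit 3072))
 (.node (nat_lit 0x10a6b95) (.leaf (nat_lit 0x10a6b93) (nat_lit 2816))
 (.leaf (nat_lit 0x10a6b95) (nat_lit 3072))
)) (.node (nat_lit 0x10a6b99) (.leaf (nat_lit 0x10a6b97) (nat_lit 3072))
 (.node (nat_lit 0x10a6b9b) (.leaf (nat_lit 0x10a6b99) (nat_lit 2560))
 (.leaf (nat_lit 0x10a6b9b) (nat_lit 2304))
)))))) (.node (nat_lit 0x10a70c7) (.node (nat_lit 0x10a7051) (.node (nat_lit 0x10a7047) (.node (nat_lit 0x10a7041) (.node (nat_lit 0x10a6b9f) (.leaf (nat_lit 0x10a6b9d) (nat_lit 2048))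
 (.leaf (nat_lit 0x10a6b9f) (nat_lit 2304))
) (.node (nat_lit 0x10a7043) (.leaf (nat_lit 0x10a7041) (nat_lit 1028))
 (.node (nat_lit 0x10a7045) (.leaf (nat_lit 0x10a7043) (nat_lit 1284))
 (.leaf (nat_lit 0x10a7045) (nat_lit 2052))
))) (.node (nat_lit 0x10a704b) (.node (nat_lit 0x10a7049) (.leaf (nat_lit 0x10a7047) (nat_lit 1796))
 (.leaf (nat_lit 0x10a7049) (nat_lit 2306))
) (.node (nat_lit 0x10a704d) (.leaf (nat_lit 0x10a704b) (nat_lit 2050))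
 (.node (nat_lit 0x10a704f) (.leaf (nat_lit 0x10a704d) (nat_lit 2306))
 (.leaf (nat_lit 0x10a704f) (nat_lit 2050))
)))) (.node (nat_lit 0x10a705b) (.node (nat_lit 0x10a7055) (.node (nat_lit 0x10a7053) (.leaf (nat_lit 0x10a7051) (nat_lit 2817))
 (.leaf (nat_lit 0x10a7053) (nat_lit 3073))
) (.node (nat_lit 0x10a7057) (.leaf (nat_lit 0x10a7055) (nat_lit 2564))
 (.node (nat_lit 0x10a7059) (.leaf (nat_lit 0x10a7057) (nat_lit 2308))
 (.leaf (nat_lit 0x10a7059) (nat_lit 2563))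
))) (.node (nat_lit 0x10a70c1) (.node (nat_lit 0x10a705d) (.leaf (nat_lit 0x10a705b) (nat_lit 2307))
 (.node (nat_lit 0x10a705f) (.leaf (nat_lit 0x10a705d) (nat_lit 2052))
 (.leaf (nat_lit 0x10a705f) (nat_lit 1796))
)) (.node (nat_lit 0x10a70c3) (.leaf (nat_lit 0x10a70c1) (nat_lit 1284))
 (.node (nat_lit 0x10a70c5) (.leaf (nat_lit 0x10a70c3) (nat_lit 1540))
 (.leaf (nat_lit 0x10a70c5) (nat_lit 1796))
))))) (.node (nat_lit 0x10a70db) (.node (nat_lit 0x10a70d1) (.node (nat_lit 0x10a70cb) (.node (nat_lit 0x10a70c9) (.leaf (nat_lit 0x10a70c7) (nat_lit 1540))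
 (.leaf (nat_lit 0x10a70c9) (nat_lit 2306))
) (.node (nat_lit 0x10a70cd) (.leaf (nat_lit 0x10a70cb) (nat_lit 2306))
 (.node (nat_lit 0x10a70cf) (.leaf (nat_lit 0x10a70cd) (nat_lit 2306))
 (.leaf (nat_lit 0x10a70cf) (nat_lit 2050))
))) (.node (nat_lit 0x10a70d5) (.node (nat_lit 0x10a70d3) (.leaf (nat_lit 0x10a70d1) (nat_lit 2820))
 (.leaf (nat_lit 0x10a70d3) (nat_lit 2564))
) (.node (nat_lit 0x10a70d7) (.leaf (nat_lit 0x10a70d5) (nat_lit 2820))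
 (.node (nat_lit 0x10a70d9) (.leaf (nat_lit 0x10a70d7) (nat_lit 3076))
 (.leaf (nat_lit 0x10a70d9) (nat_lit 2308))
)))) (.node (nat_lit 0x10a7145) (.node (nat_lit 0x10a70df) (.node (nat_lit 0x10a70dd) (.leaf (nat_lit 0x10a70db) (nat_lit 2052))
 (.leaf (nat_lit 0x10a70dd) (nat_lit 2308))
) (.node (nat_lit 0x10a7141) (.leaf (nat_lit 0x10a70df) (nat_lit 2307))
 (.node (nat_lit 0x10a7143) (.leaf (nat_lit 0x10a7141) (nat_lit 1538))
 (.leaf (nat_lit 0x10a7143) (nat_lit 1794))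
))) (.node (nat_lit 0x10a714b) (.node (nat_lit 0x10a7147) (.leaf (nat_lit 0x10a7145) (nat_lit 2306))
 (.node (nat_lit 0x10a7149) (.leaf (nat_lit 0x10a7147) (nat_lit 2050))
 (.leaf (nat_lit 0x10a7149) (nat_lit 2050))
)) (.node (nat_lit 0x10a714d) (.leaf (nat_lit 0x10a714b) (nat_lit 1794))
 (.node (nat_lit 0x10a714f) (.leaf (nat_lit 0x10a714d) (nat_lit 2306))
 (.leaf (nat_lit 0x10a714f) (nat_lit 2306))
)))))))) (.node (nat_lit 0x10a73d9) (.node (nat_lit 0x10a72c5) (.node (nat_lit 0x10a71db) (.node (nat_lit 0x10a71c5) (.node (nat_lit 0x10a715b) (.node (nat_lit 0x10a7155) (.node (nat_lit 0x10a7153) (.leaf (nat_lit 0x10a7151) (nat_lit 2817))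
 (.leaf (nat_lit 0x10a7153) (nat_lit 3073))
) (.node (nat_lit 0x10a7157) (.leaf (nat_lit 0x10a7155) (nat_lit 2564))
 (.node (nat_lit 0x10a7159) (.leaf (nat_lit 0x10a7157) (nat_lit 2308))
 (.leaf (nat_lit 0x10a7159) (nat_lit 3076))
))) (.node (nat_lit 0x10a715f) (.node (nat_lit 0x10a715d) (.leaf (nat_lit 0x10a715b) (nat_lit 3073))
 (.leaf (nat_lit 0x10a715d) (nat_lit 2564))
) (.node (nat_lit 0x10a71c1) (.leaf (nat_lit 0x10a715f) (nat_lit 2308))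
 (.node (nat_lit 0x10a71c3) (.leaf (nat_lit 0x10a71c1) (nat_lit 1538))
 (.leaf (nat_lit 0x10a71c3) (nat_lit 1794))
)))) (.node (nat_lit 0x10a71cf) (.node (nat_lit 0x10a71c9) (.node (nat_lit 0x10a71c7) (.leaf (nat_lit 0x10a71c5) (nat_lit 2306))
 (.leaf (nat_lit 0x10a71c7) (nat_lit 2050))
) (.node (nat_lit 0x10a71cb) (.leaf (nat_lit 0x10a71c9) (nat_lit 2306))
 (.node (nat_lit 0x10a71cd) (.leaf (nat_lit 0x10a71cb) (nat_lit 2562))
 (.leaf (nat_lit 0x10a71cd) (nat_lit 2050))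
))) (.node (nat_lit 0x10a71d5) (.node (nat_lit 0x10a71d1) (.leaf (nat_lit 0x10a71cf) (nat_lit 1794))
 (.node (nat_lit 0x10a71d3) (.leaf (nat_lit 0x10a71d1) (nat_lit 2561))
 (.leaf (nat_lit 0x10a71d3) (nat_lit 2305))
)) (.node (nat_lit 0x10a71d7) (.leaf (nat_lit 0x10a71d5) (nat_lit 2820))
 (.node (nat_lit 0x10a71d9) (.leaf (nat_lit 0x10a71d7) (nat_lit 2819))
 (.leaf (nat_lit 0x10a71d9) (nat_lit 2820))
))))) (.node (nat_lit 0x10a724f) (.node (nat_lit 0x10a7245) (.node (nat_lit 0x10a71df) (.node (nat_lit 0x10a71dd) (.leaf (nat_lit 0x10a71db) (nat_lit 2564))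
 (.leaf (nat_lit 0x10a71dd) (nat_lit 2561))
) (.node (nat_lit 0x10a7241) (.leaf (nat_lit 0x10a71df) (nat_lit 2817))
 (.node (nat_lit 0x10a7243) (.leaf (nat_lit 0x10a7241) (nat_lit 1793))
 (.leaf (nat_lit 0x10a7243) (nat_lit 2049))
))) (.node (nat_lit 0x10a7249) (.node (nat_lit 0x10a7247) (.leaf (nat_lit 0x10a7245) (nat_lit 2564))
 (.leaf (nat_lit 0x10a7247) (nat_lit 2308))
) (.node (nat_lit 0x10a724b) (.leaf (nat_lit 0x10a7249) (nat_lit 2561))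
 (.node (nat_lit 0x10a724d) (.leaf (nat_lit 0x10a724b) (nat_lit 2817))
 (.leaf (nat_lit 0x10a724d) (nat_lit 2305))
)))) (.node (nat_lit 0x10a7259) (.node (nat_lit 0x10a7253) (.node (nat_lit 0x10a7251) (.leaf (nat_lit 0x10a724f) (nat_lit 2049))
 (.leaf (nat_lit 0x10a7251) (nat_lit 2304))
) (.node (nat_lit 0x10a7255) (.leaf (nat_lit 0x10a7253) (nat_lit 2048))
 (.node (nat_lit 0x10a7257) (.leaf (nat_lit 0x10a7255) (nat_lit 2564))
 (.leaf (nat_lit 0x10a7257) (nat_lit 2820))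
))) (.node (nat_lit 0x10a725f) (.node (nat_lit 0x10a725b) (.leaf (nat_lit 0x10a7259) (nat_lit 2818))
 (.node (nat_lit 0x10a725d) (.leaf (nat_lit 0x10a725b) (nat_lit 2562))
 (.leaf (nat_lit 0x10a725d) (nat_lit 2304))
)) (.node (nat_lit 0x10a72c1) (.leaf (nat_lit 0x10a725f) (nat_lit 2560))
 (.node (nat_lit 0x10a72c3) (.leaf (nat_lit 0x10a72c1) (nat_lit 1796))
 (.leaf (nat_lit 0x10a72c3) (nat_lit 2052))
)))))) (.node (nat_lit 0x10a734f) (.node (nat_lit 0x10a72d9) (.node (nat_lit 0x10a72cf) (.node (nat_lit 0x10a72c9) (.node (nat_lit 0x10a72c7) (.leaf (nat_lit 0x10a72c5) (nat_lit 2561))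
 (.leaf (nat_lit 0x10a72c7) (nat_lit 2305))
) (.node (nat_lit 0x10a72cb) (.leaf (nat_lit 0x10a72c9) (nat_lit 2305))
 (.node (nat_lit 0x10a72cd) (.leaf (nat_lit 0x10a72cb) (nat_lit 2049))
 (.leaf (nat_lit 0x10a72cd) (nat_lit 2561))
))) (.node (nat_lit 0x10a72d3) (.node (nat_lit 0x10a72d1) (.leaf (nat_lit 0x10a72cf) (nat_lit 2564))
 (.leaf (nat_lit 0x10a72d1) (nat_lit 2560))
) (.node (nat_lit 0x10a72d5) (.leaf (nat_lit 0x10a72d3) (nat_lit 2816))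
 (.node (nat_lit 0x10a72d7) (.leaf (nat_lit 0x10a72d5) (nat_lit 2308))
 (.leaf (nat_lit 0x10a72d7) (nat_lit 2052))
)))) (.node (nat_lit 0x10a7343) (.node (nat_lit 0x10a72dd) (.node (nat_lit 0x10a72db) (.leaf (nat_lit 0x10a72d9) (nat_lit 2820))
 (.leaf (nat_lit 0x10a72db) (nat_lit 2816))
) (.node (nat_lit 0x10a72df) (.leaf (nat_lit 0x10a72dd) (nat_lit 2304))
 (.node (nat_lit 0x10a7341) (.leaf (nat_lit 0x10a72df) (nat_lit 2306))
 (.leaf (nat_lit 0x10a7341) (nat_lit 1540))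
))) (.node (nat_lit 0x10a7349) (.node (nat_lit 0x10a7345) (.leaf (nat_lit 0x10a7343) (nat_lit 1796))
 (.node (nat_lit 0x10a7347) (.leaf (nat_lit 0x10a7345) (nat_lit 2052))
 (.leaf (nat_lit 0x10a7347) (nat_lit 1796))
)) (.node (nat_lit 0x10a734b) (.leaf (nat_lit 0x10a7349) (nat_lit 2561))
 (.node (nat_lit 0x10a734d) (.leaf (nat_lit 0x10a734b) (nat_lit 2561))
 (.leaf (nat_lit 0x10a734d) (nat_lit 2564))
))))) (.node (nat_lit 0x10a73c3) (.node (nat_lit 0x10a7359) (.node (nat_lit 0x10a7353) (.node (nat_lit 0x10a7351) (.leaf (nat_lit 0x10a734f) (nat_lit 2308))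
 (.leaf (nat_lit 0x10a7351) (nat_lit 2816))
) (.node (nat_lit 0x10a7355) (.leaf (nat_lit 0x10a7353) (nat_lit 2820))
 (.node (nat_lit 0x10a7357) (.leaf (nat_lit 0x10a7355) (nat_lit 2564))
 (.leaf (nat_lit 0x10a7357) (nat_lit 2820))
))) (.node (nat_lit 0x10a735d) (.node (nat_lit 0x10a735b) (.leaf (nat_lit 0x10a7359) (nat_lit 2052))
 (.leaf (nat_lit 0x10a735b) (nat_lit 1796))
) (.node (nat_lit 0x10a735f) (.leaf (nat_lit 0x10a735d) (nat_lit 2052))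
 (.node (nat_lit 0x10a73c1) (.leaf (nat_lit 0x10a735f) (nat_lit 2308))
 (.leaf (nat_lit 0x10a73c1) (nat_lit 1284))
)))) (.node (nat_lit 0x10a73cd) (.node (nat_lit 0x10a73c7) (.node (nat_lit 0x10a73c5) (.leaf (nat_lit 0x10a73c3) (nat_lit 1540))
 (.leaf (nat_lit 0x10a73c5) (nat_lit 2308))
) (.node (nat_lit 0x10a73c9) (.leaf (nat_lit 0x10a73c7) (nat_lit 2052))
 (.node (nat_lit 0x10a73cb) (.leaf (nat_lit 0x10a73c9) (nat_lit 2561))
 (.leaf (nat_lit 0x10a73cb) (nat_lit 2305))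
))) (.node (nat_lit 0x10a73d3) (.node (nat_lit 0x10a73cf) (.leaf (nat_lit 0x10a73cd) (nat_lit 2561))
 (.node (nat_lit 0x10a73d1) (.leaf (nat_lit 0x10a73cf) (nat_lit 2305))
 (.leaf (nat_lit 0x10a73d1) (nat_lit 2560))
)) (.node (nat_lit 0x10a73d5) (.leaf (nat_lit 0x10a73d3) (nat_lit 2816))
 (.node (nat_lit 0x10a73d7) (.leaf (nat_lit 0x10a73d5) (nat_lit 2560))
 (.leaf (nat_lit 0x10a73d7) (nat_lit 2564))
))))))) (.node (nat_lit 0x10a790d) (.node (nat_lit 0x10a78c3) (.node (nat_lit 0x10a784d) (.node (nat_lit 0x10a7843) (.node (nat_lit 0x10a73dd) (.node (nat_lit 0x10a73db) (.leaf (nat_lit 0x10a73d9) (nat_lit 2308))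
 (.leaf (nat_lit 0x10a73db) (nat_lit 2564))
) (.node (nat_lit 0x10a73df) (.leaf (nat_lit 0x10a73dd) (nat_lit 1796))
 (.node (nat_lit 0x10a7841) (.leaf (nat_lit 0x10a73df) (nat_lit 1540))
 (.leaf (nat_lit 0x10a7841) (nat_lit 1285))
))) (.node (nat_lit 0x10a7847) (.node (nat_lit 0x10a7845) (.leaf (nat_lit 0x10a7843) (nat_lit 1541))
 (.leaf (nat_lit 0x10a7845) (nat_lit 2309))
) (.node (nat_lit 0x10a7849) (.leaf (nat_lit 0x10a7847) (nat_lit 2053))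
 (.node (nat_lit 0x10a784b) (.leaf (nat_lit 0x10a7849) (nat_lit 2306))
 (.leaf (nat_lit 0x10a784b) (nat_lit 2309))
)))) (.node (nat_lit 0x10a7857) (.node (nat_lit 0x10a7851) (.node (nat_lit 0x10a784f) (.leaf (nat_lit 0x10a784d) (nat_lit 2306))
 (.leaf (nat_lit 0x10a784f) (nat_lit 2309))
) (.node (nat_lit 0x10a7853) (.leaf (nat_lit 0x10a7851) (nat_lit 3077))
 (.node (nat_lit 0x10a7855) (.leaf (nat_lit 0x10a7853) (nat_lit 3073))
 (.leaf (nat_lit 0x10a7855) (nat_lit 2821))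
))) (.node (nat_lit 0x10a785d) (.node (nat_lit 0x10a7859) (.leaf (nat_lit 0x10a7857) (nat_lit 2565))
 (.node (nat_lit 0x10a785b) (.leaf (nat_lit 0x10a7859) (nat_lit 2563))
 (.leaf (nat_lit 0x10a785b) (nat_lit 2565))
)) (.node (nat_lit 0x10a785f) (.leaf (nat_lit 0x10a785d) (nat_lit 2049))
 (.node (nat_lit 0x10a78c1) (.leaf (nat_lit 0x10a785f) (nat_lit 2053))
 (.leaf (nat_lit 0x10a78c1) (nat_lit 1541))
))))) (.node (nat_lit 0x10a78d7) (.node (nat_lit 0x10a78cd) (.node (nat_lit 0x10a78c7) (.node (nat_lit 0x10a78c5) (.leaf (nat_lit 0x10a78c3) (nat_lit 1797))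
 (.leaf (nat_lit 0x10a78c5) (nat_lit 2053))
) (.node (nat_lit 0x10a78c9) (.leaf (nat_lit 0x10a78c7) (nat_lit 1797))
 (.node (nat_lit 0x10a78cb) (.leaf (nat_lit 0x10a78c9) (nat_lit 2565))
 (.leaf (nat_lit 0x10a78cb) (nat_lit 2309))
))) (.node (nat_lit 0x10a78d1) (.node (nat_lit 0x10a78cf) (.leaf (nat_lit 0x10a78cd) (nat_lit 2306))
 (.leaf (nat_lit 0x10a78cf) (nat_lit 2562))
) (.node (nat_lit 0x10a78d3) (.leaf (nat_lit 0x10a78d1) (nat_lit 3077))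
 (.node (nat_lit 0x10a78d5) (.leaf (nat_lit 0x10a78d3) (nat_lit 2821))
 (.leaf (nat_lit 0x10a78d5) (nat_lit 3077))
)))) (.node (nat_lit 0x10a7901) (.node (nat_lit 0x10a78db) (.node (nat_lit 0x10a78d9) (.leaf (nat_lit 0x10a78d7) (nat_lit 3333))
 (.leaf (nat_lit 0x10a78d9) (nat_lit 2305))
) (.node (nat_lit 0x10a78dd) (.leaf (nat_lit 0x10a78db) (nat_lit 2561))
 (.node (nat_lit 0x10a78df) (.leaf (nat_lit 0x10a78dd) (nat_lit 2565))
 (.leaf (nat_lit 0x10a78df) (nat_lit 2309))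
))) (.node (nat_lit 0x10a7907) (.node (nat_lit 0x10a7903) (.leaf (nat_lit 0x10a7901) (nat_lit 1794))
 (.node (nat_lit 0x10a7905) (.leaf (nat_lit 0x10a7903) (nat_lit 2050))
 (.leaf (nat_lit 0x10a7905) (nat_lit 2818))
)) (.node (nat_lit 0x10a7909) (.leaf (nat_lit 0x10a7907) (nat_lit 2562))
 (.node (nat_lit 0x10a790b) (.leaf (nat_lit 0x10a7909) (nat_lit 2050))
 (.leaf (nat_lit 0x10a790b) (nat_lit 2306))
)))))) (.node (nat_lit 0x10a7997) (.node (nat_lit 0x10a7981) (.node (nat_lit 0x10a7917) (.node (nat_lit 0x10a7911) (.node (nat_lit 0x10a790f) (.leaf (nat_lit 0x10a790d) (nat_lit 2562))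
 (.leaf (nat_lit 0x10a790f) (nat_lit 2562))
) (.node (nat_lit 0x10a7913) (.leaf (nat_lit 0x10a7911) (nat_lit 3329))
 (.node (nat_lit 0x10a7915) (.leaf (nat_lit 0x10a7913) (nat_lit 3585))
 (.leaf (nat_lit 0x10a7915) (nat_lit 2817))
))) (.node (nat_lit 0x10a791b) (.node (nat_lit 0x10a7919) (.leaf (nat_lit 0x10a7917) (nat_lit 2561))
 (.leaf (nat_lit 0x10a7919) (nat_lit 3329))
) (.node (nat_lit 0x10a791d) (.leaf (nat_lit 0x10a791b) (nat_lit 3329))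
 (.node (nat_lit 0x10a791f) (.leaf (nat_lit 0x10a791d) (nat_lit 2817))
 (.leaf (nat_lit 0x10a791f) (nat_lit 2561))
)))) (.node (nat_lit 0x10a798b) (.node (nat_lit 0x10a7985) (.node (nat_lit 0x10a7983) (.leaf (nat_lit 0x10a7981) (nat_lit 1794))
 (.leaf (nat_lit 0x10a7983) (nat_lit 2050))
) (.node (nat_lit 0x10a7987) (.leaf (nat_lit 0x10a7985) (nat_lit 2306))
 (.node (nat_lit 0x10a7989) (.leaf (nat_lit 0x10a7987) (nat_lit 2050))
 (.leaf (nat_lit 0x10a7989) (nat_lit 2562))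
))) (.node (nat_lit 0x10a7991) (.node (nat_lit 0x10a798d) (.leaf (nat_lit 0x10a798b) (nat_lit 2306))
 (.node (nat_lit 0x10a798f) (.leaf (nat_lit 0x10a798d) (nat_lit 2050))
 (.leaf (nat_lit 0x10a798f) (nat_lit 2306))
)) (.node (nat_lit 0x10a7993) (.leaf (nat_lit 0x10a7991) (nat_lit 2817))
 (.node (nat_lit 0x10a7995) (.leaf (nat_lit 0x10a7993) (nat_lit 2561))
 (.leaf (nat_lit 0x10a7995) (nat_lit 2817))
))))) (.node (nat_lit 0x10a7a4b) (.node (nat_lit 0x10a7a41) (.node (nat_lit 0x10a799b) (.node (nat_lit 0x10a7999) (.leaf (nat_lit 0x10a7997) (nat_lit 3073))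
 (.leaf (nat_lit 0x10a7999) (nat_lit 3072))
) (.node (nat_lit 0x10a799d) (.leaf (nat_lit 0x10a799b) (nat_lit 3328))
 (.node (nat_lit 0x10a799f) (.leaf (nat_lit 0x10a799d) (nat_lit 3072))
 (.leaf (nat_lit 0x10a799f) (nat_lit 2816))
))) (.node (nat_lit 0x10a7a45) (.node (nat_lit 0x10a7a43) (.leaf (nat_lit 0x10a7a41) (nat_lit 2053))
 (.leaf (nat_lit 0x10a7a43) (nat_lit 2309))
) (.node (nat_lit 0x10a7a47) (.leaf (nat_lit 0x10a7a45) (nat_lit 2565))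
 (.node (nat_lit 0x10a7a49) (.leaf (nat_lit 0x10a7a47) (nat_lit 2309))
 (.leaf (nat_lit 0x10a7a49) (nat_lit 2817))
)))) (.node (nat_lit 0x10a7a55) (.node (nat_lit 0x10a7a4f) (.node (nat_lit 0x10a7a4d) (.leaf (nat_lit 0x10a7a4b) (nat_lit 2561))
 (.leaf (nat_lit 0x10a7a4d) (nat_lit 2305))
) (.node (nat_lit 0x10a7a51) (.leaf (nat_lit 0x10a7a4f) (nat_lit 2561))
 (.node (nat_lit 0x10a7a53) (.leaf (nat_lit 0x10a7a51) (nat_lit 2565))
 (.leaf (nat_lit 0x10a7a53) (nat_lit 2309))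
))) (.node (nat_lit 0x10a7a5b) (.node (nat_lit 0x10a7a57) (.leaf (nat_lit 0x10a7a55) (nat_lit 2565))
 (.node (nat_lit 0x10a7a59) (.leaf (nat_lit 0x10a7a57) (nat_lit 2821))
 (.leaf (nat_lit 0x10a7a59) (nat_lit 2821))
)) (.node (nat_lit 0x10a7a5d) (.leaf (nat_lit 0x10a7a5b) (nat_lit 3077))
 (.node (nat_lit 0x10a7a5f) (.leaf (nat_lit 0x10a7a5d) (nat_lit 2821))
 (.leaf (nat_lit 0x10a7a5f) (nat_lit 2565))
))))))))) (.node (nat_lit 0x10b0bd1) (.node (nat_lit 0x10b0989) (.node (nat_lit 0x10a7b95) (.node (nat_lit 0x10a7b0b) (.node (nat_lit 0x10a7ad5) (.node (nat_lit 0x10a7acb) (.node (nat_lit 0x10a7ac5) (.node (nat_lit 0x10a7ac3) (.leaf (nat_lit 0x10a7ac1) (nat_lit 2049))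
 (.leaf (nat_lit 0x10a7ac3) (nat_lit 2305))
) (.node (nat_lit 0x10a7ac7) (.leaf (nat_lit 0x10a7ac5) (nat_lit 3073))
 (.node (nat_lit 0x10a7ac9) (.leaf (nat_lit 0x10a7ac7) (nat_lit 2817))
 (.leaf (nat_lit 0x10a7ac9) (nat_lit 2305))
))) (.node (nat_lit 0x10a7acf) (.node (nat_lit 0x10a7acd) (.leaf (nat_lit 0x10a7acb) (nat_lit 2561))
 (.leaf (nat_lit 0x10a7acd) (nat_lit 2819))
) (.node (nat_lit 0x10a7ad1) (.leaf (nat_lit 0x10a7acf) (nat_lit 2817))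
 (.node (nat_lit 0x10a7ad3) (.leaf (nat_lit 0x10a7ad1) (nat_lit 3072))
 (.leaf (nat_lit 0x10a7ad3) (nat_lit 3328))
)))) (.node (nat_lit 0x10a7adf) (.node (nat_lit 0x10a7ad9) (.node (nat_lit 0x10a7ad7) (.leaf (nat_lit 0x10a7ad5) (nat_lit 2560))
 (.leaf (nat_lit 0x10a7ad7) (nat_lit 2304))
) (.node (nat_lit 0x10a7adb) (.leaf (nat_lit 0x10a7ad9) (nat_lit 3077))
 (.node (nat_lit 0x10a7add) (.leaf (nat_lit 0x10a7adb) (nat_lit 3077))
 (.leaf (nat_lit 0x10a7add) (nat_lit 2565))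
))) (.node (nat_lit 0x10a7b05) (.node (nat_lit 0x10a7b01) (.leaf (nat_lit 0x10a7adf) (nat_lit 2309))
 (.node (nat_lit 0x10a7b03) (.leaf (nat_lit 0x10a7b01) (nat_lit 1793))
 (.leaf (nat_lit 0x10a7b03) (nat_lit 2049))
)) (.node (nat_lit 0x10a7b07) (.leaf (nat_lit 0x10a7b05) (nat_lit 2305))
 (.node (nat_lit 0x10a7b09) (.leaf (nat_lit 0x10a7b07) (nat_lit 2049))
 (.leaf (nat_lit 0x10a7b09) (nat_lit 2817))
))))) (.node (nat_lit 0x10a7b1f) (.node (nat_lit 0x10a7b15) (.node (nat_lit 0x10a7b0f) (.node (nat_lit 0x10a7b0d) (.leaf (nat_lit 0x10a7b0b) (nat_lit 2561))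
 (.leaf (nat_lit 0x10a7b0d) (nat_lit 2561))
) (.node (nat_lit 0x10a7b11) (.leaf (nat_lit 0x10a7b0f) (nat_lit 2817))
 (.node (nat_lit 0x10a7b13) (.leaf (nat_lit 0x10a7b11) (nat_lit 3072))
 (.leaf (nat_lit 0x10a7b13) (nat_lit 2816))
))) (.node (nat_lit 0x10a7b19) (.node (nat_lit 0x10a7b17) (.leaf (nat_lit 0x10a7b15) (nat_lit 2816))
 (.leaf (nat_lit 0x10a7b17) (nat_lit 3072))
) (.node (nat_lit 0x10a7b1b) (.leaf (nat_lit 0x10a7b19) (nat_lit 2048))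
 (.node (nat_lit 0x10a7b1d) (.leaf (nat_lit 0x10a7b1b) (nat_lit 2304))
 (.leaf (nat_lit 0x10a7b1d) (nat_lit 2560))
)))) (.node (nat_lit 0x10a7b89) (.node (nat_lit 0x10a7b83) (.node (nat_lit 0x10a7b81) (.leaf (nat_lit 0x10a7b1f) (nat_lit 2304))
 (.leaf (nat_lit 0x10a7b81) (nat_lit 1537))
) (.node (nat_lit 0x10a7b85) (.leaf (nat_lit 0x10a7b83) (nat_lit 1793))
 (.node (nat_lit 0x10a7b87) (.leaf (nat_lit 0x10a7b85) (nat_lit 2561))
 (.leaf (nat_lit 0x10a7b87) (nat_lit 2305))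
))) (.node (nat_lit 0x10a7b8f) (.node (nat_lit 0x10a7b8b) (.leaf (nat_lit 0x10a7b89) (nat_lit 2561))
 (.node (nat_lit 0x10a7b8d) (.leaf (nat_lit 0x10a7b8b) (nat_lit 2561))
 (.leaf (nat_lit 0x10a7b8d) (nat_lit 2561))
)) (.node (nat_lit 0x10a7b91) (.leaf (nat_lit 0x10a7b8f) (nat_lit 2561))
 (.node (nat_lit 0x10a7b93) (.leaf (nat_lit 0x10a7b91) (nat_lit 2816))
 (.leaf (nat_lit 0x10a7b93) (nat_lit 2816))
)))))) (.node (nat_lit 0x10b091f) (.node (nat_lit 0x10b0909) (.node (nat_lit 0x10a7b9f) (.node (nat_lit 0x10a7b99) (.node (nat_lit 0x10a7b97) (.leaf (nat_lit 0x10a7b95) (nat_lit 2816))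
 (.leaf (nat_lit 0x10a7b97) (nat_lit 2817))
) (.node (nat_lit 0x10a7b9b) (.leaf (nat_lit 0x10a7b99) (nat_lit 2816))
 (.node (nat_lit 0x10a7b9d) (.leaf (nat_lit 0x10a7b9b) (nat_lit 2560))
 (.leaf (nat_lit 0x10a7b9d) (nat_lit 1792))
))) (.node (nat_lit 0x10b0903) (.node (nat_lit 0x10b0901) (.leaf (nat_lit 0x10a7b9f) (nat_lit 2048))
 (.leaf (nat_lit 0x10b0901) (nat_lit 1797))
) (.node (nat_lit 0x10b0905) (.leaf (nat_lit 0x10b0903) (nat_lit 2053))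
 (.node (nat_lit 0x10b0907) (.leaf (nat_lit 0x10b0905) (nat_lit 2565))
 (.leaf (nat_lit 0x10b0907) (nat_lit 2565))
)))) (.node (nat_lit 0x10b0913) (.node (nat_lit 0x10b090d) (.node (nat_lit 0x10b090b) (.leaf (nat_lit 0x10b0909) (nat_lit 2053))
 (.leaf (nat_lit 0x10b090b) (nat_lit 2309))
) (.node (nat_lit 0x10b090f) (.leaf (nat_lit 0x10b090d) (nat_lit 2563))
 (.node (nat_lit 0x10b0911) (.leaf (nat_lit 0x10b090f) (nat_lit 2564))
 (.leaf (nat_lit 0x10b0911) (nat_lit 3589))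
))) (.node (nat_lit 0x10b0919) (.node (nat_lit 0x10b0915) (.leaf (nat_lit 0x10b0913) (nat_lit 3589))
 (.node (nat_lit 0x10b0917) (.leaf (nat_lit 0x10b0915) (nat_lit 3074))
 (.leaf (nat_lit 0x10b0917) (nat_lit 3076))
)) (.node (nat_lit 0x10b091b) (.leaf (nat_lit 0x10b0919) (nat_lit 3333))
 (.node (nat_lit 0x10b091d) (.leaf (nat_lit 0x10b091b) (nat_lit 3333))
 (.leaf (nat_lit 0x10b091d) (nat_lit 2818))
))))) (.node (nat_lit 0x10b0953) (.node (nat_lit 0x10b0949) (.node (nat_lit 0x10b0943) (.node (nat_lit 0x10b0941) (.leaf (nat_lit 0x10b091f) (nat_lit 2820))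
 (.leaf (nat_lit 0x10b0941) (nat_lit 1796))
) (.node (nat_lit 0x10b0945) (.leaf (nat_lit 0x10b0943) (nat_lit 2052))
 (.node (nat_lit 0x10b0947) (.leaf (nat_lit 0x10b0945) (nat_lit 2309))
 (.leaf (nat_lit 0x10b0947) (nat_lit 2308))
))) (.node (nat_lit 0x10b094d) (.node (nat_lit 0x10b094b) (.leaf (nat_lit 0x10b0949) (nat_lit 2308))
 (.leaf (nat_lit 0x10b094b) (nat_lit 2052))
) (.node (nat_lit 0x10b094f) (.leaf (nat_lit 0x10b094d) (nat_lit 2564))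
 (.node (nat_lit 0x10b0951) (.leaf (nat_lit 0x10b094f) (nat_lit 2564))
 (.leaf (nat_lit 0x10b0951) (nat_lit 3588))
)))) (.node (nat_lit 0x10b095d) (.node (nat_lit 0x10b0957) (.node (nat_lit 0x10b0955) (.leaf (nat_lit 0x10b0953) (nat_lit 3589))
 (.leaf (nat_lit 0x10b0955) (nat_lit 3077))
) (.node (nat_lit 0x10b0959) (.leaf (nat_lit 0x10b0957) (nat_lit 3076))
 (.node (nat_lit 0x10b095b) (.leaf (nat_lit 0x10b0959) (nat_lit 3588))
 (.leaf (nat_lit 0x10b095b) (nat_lit 3332))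
))) (.node (nat_lit 0x10b0983) (.node (nat_lit 0x10b095f) (.leaf (nat_lit 0x10b095d) (nat_lit 2821))
 (.node (nat_lit 0x10b0981) (.leaf (nat_lit 0x10b095f) (nat_lit 2820))
 (.leaf (nat_lit 0x10b0981) (nat_lit 1541))
)) (.node (nat_lit 0x10b0985) (.leaf (nat_lit 0x10b0983) (nat_lit 1797))
 (.node (nat_lit 0x10b0987) (.leaf (nat_lit 0x10b0985) (nat_lit 2309))
 (.leaf (nat_lit 0x10b0987) (nat_lit 2309))
))))))) (.node (nat_lit 0x10b0b1d) (.node (nat_lit 0x10b09d3) (.node (nat_lit 0x10b099d) (.node (nat_lit 0x10b0993) (.node (nat_lit 0x10b098d) (.node (nat_lit 0x10b098b) (.leaf (nat_lit 0x10b0989) (nat_lit 2565))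
 (.leaf (nat_lit 0x10b098b) (nat_lit 2565))
) (.node (nat_lit 0x10b098f) (.leaf (nat_lit 0x10b098d) (nat_lit 1797))
 (.node (nat_lit 0x10b0991) (.leaf (nat_lit 0x10b098f) (nat_lit 2053))
 (.leaf (nat_lit 0x10b0991) (nat_lit 3333))
))) (.node (nat_lit 0x10b0997) (.node (nat_lit 0x10b0995) (.leaf (nat_lit 0x10b0993) (nat_lit 3333))
 (.leaf (nat_lit 0x10b0995) (nat_lit 2821))
) (.node (nat_lit 0x10b0999) (.leaf (nat_lit 0x10b0997) (nat_lit 2821))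
 (.node (nat_lit 0x10b099b) (.leaf (nat_lit 0x10b0999) (nat_lit 2818))
 (.leaf (nat_lit 0x10b099b) (nat_lit 2820))
)))) (.node (nat_lit 0x10b09c7) (.node (nat_lit 0x10b09c1) (.node (nat_lit 0x10b099f) (.leaf (nat_lit 0x10b099d) (nat_lit 3077))
 (.leaf (nat_lit 0x10b099f) (nat_lit 3077))
) (.node (nat_lit 0x10b09c3) (.leaf (nat_lit 0x10b09c1) (nat_lit 1540))
 (.node (nat_lit 0x10b09c5) (.leaf (nat_lit 0x10b09c3) (nat_lit 1796))
 (.leaf (nat_lit 0x10b09c5) (nat_lit 2564))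
))) (.node (nat_lit 0x10b09cd) (.node (nat_lit 0x10b09c9) (.leaf (nat_lit 0x10b09c7) (nat_lit 2308))
 (.node (nat_lit 0x10b09cb) (.leaf (nat_lit 0x10b09c9) (nat_lit 2564))
 (.leaf (nat_lit 0x10b09cb) (nat_lit 2563))
)) (.node (nat_lit 0x10b09cf) (.leaf (nat_lit 0x10b09cd) (nat_lit 2052))
 (.node (nat_lit 0x10b09d1) (.leaf (nat_lit 0x10b09cf) (nat_lit 1796))
 (.leaf (nat_lit 0x10b09d1) (nat_lit 3332))
))))) (.node (nat_lit 0x10b0b07) (.node (nat_lit 0x10b09dd) (.node (nat_lit 0x10b09d7) (.node (nat_lit 0x10b09d5) (.leaf (nat_lit 0x10b09d3) (nat_lit 3588))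
 (.leaf (nat_lit 0x10b09d5) (nat_lit 3076))
) (.node (nat_lit 0x10b09d9) (.leaf (nat_lit 0x10b09d7) (nat_lit 2820))
 (.node (nat_lit 0x10b09db) (.leaf (nat_lit 0x10b09d9) (nat_lit 2820))
 (.leaf (nat_lit 0x10b09db) (nat_lit 2820))
))) (.node (nat_lit 0x10b0b01) (.node (nat_lit 0x10b09df) (.leaf (nat_lit 0x10b09dd) (nat_lit 3332))
 (.leaf (nat_lit 0x10b09df) (nat_lit 3076))
) (.node (nat_lit 0x10b0b03) (.leaf (nat_lit 0x10b0b01) (nat_lit 2052))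
 (.node (nat_lit 0x10b0b05) (.leaf (nat_lit 0x10b0b03) (nat_lit 2308))
 (.leaf (nat_lit 0x10b0b05) (nat_lit 2821))
)))) (.node (nat_lit 0x10b0b11) (.node (nat_lit 0x10b0b0b) (.node (nat_lit 0x10b0b09) (.leaf (nat_lit 0x10b0b07) (nat_lit 2820))
 (.leaf (nat_lit 0x10b0b09) (nat_lit 3077))
) (.node (nat_lit 0x10b0b0d) (.leaf (nat_lit 0x10b0b0b) (nat_lit 3077))
 (.node (nat_lit 0x10b0b0f) (.leaf (nat_lit 0x10b0b0d) (nat_lit 2562))
 (.leaf (nat_lit 0x10b0b0f) (nat_lit 2564))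
))) (.node (nat_lit 0x10b0b17) (.node (nat_lit 0x10b0b13) (.leaf (nat_lit 0x10b0b11) (nat_lit 3333))
 (.node (nat_lit 0x10b0b15) (.leaf (nat_lit 0x10b0b13) (nat_lit 3333))
 (.leaf (nat_lit 0x10b0b15) (nat_lit 2818))
)) (.node (nat_lit 0x10b0b19) (.leaf (nat_lit 0x10b0b17) (nat_lit 2820))
 (.node (nat_lit 0x10b0b1b) (.leaf (nat_lit 0x10b0b19) (nat_lit 2308))
 (.leaf (nat_lit 0x10b0b1b) (nat_lit 2308))
)))))) (.node (nat_lit 0x10b0b87) (.node (nat_lit 0x10b0b51) (.node (nat_lit 0x10b0b47) (.node (nat_lit 0x10b0b41) (.node (nat_lit 0x10b0b1f) (.leaf (nat_lit 0x10b0b1d) (nat_lit 2819))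
 (.leaf (nat_lit 0x10b0b1f) (nat_lit 2820))
) (.node (nat_lit 0x10b0b43) (.leaf (nat_lit 0x10b0b41) (nat_lit 1796))
 (.node (nat_lit 0x10b0b45) (.leaf (nat_lit 0x10b0b43) (nat_lit 2052))
 (.leaf (nat_lit 0x10b0b45) (nat_lit 2565))
))) (.node (nat_lit 0x10b0b4b) (.node (nat_lit 0x10b0b49) (.leaf (nat_lit 0x10b0b47) (nat_lit 2564))
 (.leaf (nat_lit 0x10b0b49) (nat_lit 3332))
) (.node (nat_lit 0x10b0b4d) (.leaf (nat_lit 0x10b0b4b) (nat_lit 3076))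
 (.node (nat_lit 0x10b0b4f) (.leaf (nat_lit 0x10b0b4d) (nat_lit 2565))
 (.leaf (nat_lit 0x10b0b4f) (nat_lit 2564))
)))) (.node (nat_lit 0x10b0b5b) (.node (nat_lit 0x10b0b55) (.node (nat_lit 0x10b0b53) (.leaf (nat_lit 0x10b0b51) (nat_lit 3332))
 (.leaf (nat_lit 0x10b0b53) (nat_lit 3588))
) (.node (nat_lit 0x10b0b57) (.leaf (nat_lit 0x10b0b55) (nat_lit 2820))
 (.node (nat_lit 0x10b0b59) (.leaf (nat_lit 0x10b0b57) (nat_lit 2820))
 (.leaf (nat_lit 0x10b0b59) (nat_lit 2308))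
))) (.node (nat_lit 0x10b0b81) (.node (nat_lit 0x10b0b5d) (.leaf (nat_lit 0x10b0b5b) (nat_lit 2052))
 (.node (nat_lit 0x10b0b5f) (.leaf (nat_lit 0x10b0b5d) (nat_lit 2820))
 (.leaf (nat_lit 0x10b0b5f) (nat_lit 2820))
)) (.node (nat_lit 0x10b0b83) (.leaf (nat_lit 0x10b0b81) (nat_lit 1797))
 (.node (nat_lit 0x10b0b85) (.leaf (nat_lit 0x10b0b83) (nat_lit 2053))
 (.leaf (nat_lit 0x10b0b85) (nat_lit 2565))
))))) (.node (nat_lit 0x10b0b9b) (.node (nat_lit 0x10b0b91) (.node (nat_lit 0x10b0b8b) (.node (nat_lit 0x10b0b89) (.leaf (nat_lit 0x10b0b87) (nat_lit 2565))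
 (.leaf (nat_lit 0x10b0b89) (nat_lit 2818))
) (.node (nat_lit 0x10b0b8d) (.leaf (nat_lit 0x10b0b8b) (nat_lit 2820))
 (.node (nat_lit 0x10b0b8f) (.leaf (nat_lit 0x10b0b8d) (nat_lit 2821))
 (.leaf (nat_lit 0x10b0b8f) (nat_lit 2821))
))) (.node (nat_lit 0x10b0b95) (.node (nat_lit 0x10b0b93) (.leaf (nat_lit 0x10b0b91) (nat_lit 3077))
 (.leaf (nat_lit 0x10b0b93) (nat_lit 3077))
) (.node (nat_lit 0x10b0b97) (.leaf (nat_lit 0x10b0b95) (nat_lit 3077))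
 (.node (nat_lit 0x10b0b99) (.leaf (nat_lit 0x10b0b97) (nat_lit 3077))
 (.leaf (nat_lit 0x10b0b99) (nat_lit 2821))
)))) (.node (nat_lit 0x10b0bc5) (.node (nat_lit 0x10b0b9f) (.node (nat_lit 0x10b0b9d) (.leaf (nat_lit 0x10b0b9b) (nat_lit 2821))
 (.leaf (nat_lit 0x10b0b9d) (nat_lit 2053))
) (.node (nat_lit 0x10b0bc1) (.leaf (nat_lit 0x10b0b9f) (nat_lit 2309))
 (.node (nat_lit 0x10b0bc3) (.leaf (nat_lit 0x10b0bc1) (nat_lit 1796))
 (.leaf (nat_lit 0x10b0bc3) (nat_lit 2052))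
))) (.node (nat_lit 0x10b0bcb) (.node (nat_lit 0x10b0bc7) (.leaf (nat_lit 0x10b0bc5) (nat_lit 2820))
 (.node (nat_lit 0x10b0bc9) (.leaf (nat_lit 0x10b0bc7) (nat_lit 2564))
 (.leaf (nat_lit 0x10b0bc9) (nat_lit 2821))
)) (.node (nat_lit 0x10b0bcd) (.leaf (nat_lit 0x10b0bcb) (nat_lit 2820))
 (.node (nat_lit 0x10b0bcf) (.leaf (nat_lit 0x10b0bcd) (nat_lit 3076))
 (.leaf (nat_lit 0x10b0bcf) (nat_lit 2820))
)))))))) (.node (nat_lit 0x10b1319) (.node (nat_lit 0x10b1185) (.node (nat_lit 0x10b111b) (.node (nat_lit 0x10b1105) (.node (nat_lit 0x10b0bdb) (.node (nat_lit 0x10b0bd5) (.node (nat_lit 0x10b0bd3) (.leaf (nat_lit 0x10b0bd1) (nat_lit 3076))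
 (.leaf (nat_lit 0x10b0bd3) (nat_lit 3332))
) (.node (nat_lit 0x10b0bd7) (.leaf (nat_lit 0x10b0bd5) (nat_lit 3076))
 (.node (nat_lit 0x10b0bd9) (.leaf (nat_lit 0x10b0bd7) (nat_lit 3076))
 (.leaf (nat_lit 0x10b0bd9) (nat_lit 2820))
))) (.node (nat_lit 0x10b0bdf) (.node (nat_lit 0x10b0bdd) (.leaf (nat_lit 0x10b0bdb) (nat_lit 2819))
 (.leaf (nat_lit 0x10b0bdd) (nat_lit 2308))
) (.node (nat_lit 0x10b1101) (.leaf (nat_lit 0x10b0bdf) (nat_lit 2052))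
 (.node (nat_lit 0x10b1103) (.leaf (nat_lit 0x10b1101) (nat_lit 2049))
 (.leaf (nat_lit 0x10b1103) (nat_lit 2305))
)))) (.node (nat_lit 0x10b110f) (.node (nat_lit 0x10b1109) (.node (nat_lit 0x10b1107) (.leaf (nat_lit 0x10b1105) (nat_lit 2560))
 (.leaf (nat_lit 0x10b1107) (nat_lit 2816))
) (.node (nat_lit 0x10b110b) (.leaf (nat_lit 0x10b1109) (nat_lit 2304))
 (.node (nat_lit 0x10b110d) (.leaf (nat_lit 0x10b110b) (nat_lit 2560))
 (.leaf (nat_lit 0x10b110d) (nat_lit 2305))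
))) (.node (nat_lit 0x10b1115) (.node (nat_lit 0x10b1111) (.leaf (nat_lit 0x10b110f) (nat_lit 2561))
 (.node (nat_lit 0x10b1113) (.leaf (nat_lit 0x10b1111) (nat_lit 3585))
 (.leaf (nat_lit 0x10b1113) (nat_lit 3329))
)) (.node (nat_lit 0x10b1117) (.leaf (nat_lit 0x10b1115) (nat_lit 3842))
 (.node (nat_lit 0x10b1119) (.leaf (nat_lit 0x10b1117) (nat_lit 3586))
 (.leaf (nat_lit 0x10b1119) (nat_lit 3330))
))))) (.node (nat_lit 0x10b114f) (.node (nat_lit 0x10b1145) (.node (nat_lit 0x10b111f) (.node (nat_lit 0x10b111d) (.leaf (nat_lit 0x10b111b) (nat_lit 3074))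
 (.leaf (nat_lit 0x10b111d) (nat_lit 3585))
) (.node (nat_lit 0x10b1141) (.leaf (nat_lit 0x10b111f) (nat_lit 3329))
 (.node (nat_lit 0x10b1143) (.leaf (nat_lit 0x10b1141) (nat_lit 1797))
 (.leaf (nat_lit 0x10b1143) (nat_lit 2053))
))) (.node (nat_lit 0x10b1149) (.node (nat_lit 0x10b1147) (.leaf (nat_lit 0x10b1145) (nat_lit 2053))
 (.leaf (nat_lit 0x10b1147) (nat_lit 2309))
) (.node (nat_lit 0x10b114b) (.leaf (nat_lit 0x10b1149) (nat_lit 2309))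
 (.node (nat_lit 0x10b114d) (.leaf (nat_lit 0x10b114b) (nat_lit 2053))
 (.leaf (nat_lit 0x10b114d) (nat_lit 2565))
)))) (.node (nat_lit 0x10b1159) (.node (nat_lit 0x10b1153) (.node (nat_lit 0x10b1151) (.leaf (nat_lit 0x10b114f) (nat_lit 2309))
 (.leaf (nat_lit 0x10b1151) (nat_lit 3333))
) (.node (nat_lit 0x10b1155) (.leaf (nat_lit 0x10b1153) (nat_lit 3077))
 (.node (nat_lit 0x10b1157) (.leaf (nat_lit 0x10b1155) (nat_lit 3589))
 (.leaf (nat_lit 0x10b1157) (nat_lit 3333))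
))) (.node (nat_lit 0x10b115f) (.node (nat_lit 0x10b115b) (.leaf (nat_lit 0x10b1159) (nat_lit 3074))
 (.node (nat_lit 0x10b115d) (.leaf (nat_lit 0x10b115b) (nat_lit 3330))
 (.leaf (nat_lit 0x10b115d) (nat_lit 3077))
)) (.node (nat_lit 0x10b1181) (.leaf (nat_lit 0x10b115f) (nat_lit 3333))
 (.node (nat_lit 0x10b1183) (.leaf (nat_lit 0x10b1181) (nat_lit 1797))
 (.leaf (nat_lit 0x10b1183) (nat_lit 2053))
)))))) (.node (nat_lit 0x10b11cf) (.node (nat_lit 0x10b1199) (.node (nat_lit 0x10b118f) (.node (nat_lit 0x10b1189) (.node (nat_lit 0x10b1187) (.leaf (nat_lit 0x10b1185) (nat_lit 2309))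
 (.leaf (nat_lit 0x10b1187) (nat_lit 2565))
) (.node (nat_lit 0x10b118b) (.leaf (nat_lit 0x10b1189) (nat_lit 2561))
 (.node (nat_lit 0x10b118d) (.leaf (nat_lit 0x10b118b) (nat_lit 2817))
 (.leaf (nat_lit 0x10b118d) (nat_lit 2053))
))) (.node (nat_lit 0x10b1193) (.node (nat_lit 0x10b1191) (.leaf (nat_lit 0x10b118f) (nat_lit 2309))
 (.leaf (nat_lit 0x10b1191) (nat_lit 3333))
) (.node (nat_lit 0x10b1195) (.leaf (nat_lit 0x10b1193) (nat_lit 3077))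
 (.node (nat_lit 0x10b1197) (.leaf (nat_lit 0x10b1195) (nat_lit 3588))
 (.leaf (nat_lit 0x10b1197) (nat_lit 3332))
)))) (.node (nat_lit 0x10b11c3) (.node (nat_lit 0x10b119d) (.node (nat_lit 0x10b119b) (.leaf (nat_lit 0x10b1199) (nat_lit 3333))
 (.leaf (nat_lit 0x10b119b) (nat_lit 3077))
) (.node (nat_lit 0x10b119f) (.leaf (nat_lit 0x10b119d) (nat_lit 3330))
 (.node (nat_lit 0x10b11c1) (.leaf (nat_lit 0x10b119f) (nat_lit 3074))
 (.leaf (nat_lit 0x10b11c1) (nat_lit 1795))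
))) (.node (nat_lit 0x10b11c9) (.node (nat_lit 0x10b11c5) (.leaf (nat_lit 0x10b11c3) (nat_lit 2051))
 (.node (nat_lit 0x10b11c7) (.leaf (nat_lit 0x10b11c5) (nat_lit 2309))
 (.leaf (nat_lit 0x10b11c7) (nat_lit 2565))
)) (.node (nat_lit 0x10b11cb) (.leaf (nat_lit 0x10b11c9) (nat_lit 2561))
 (.node (nat_lit 0x10b11cd) (.leaf (nat_lit 0x10b11cb) (nat_lit 2305))
 (.leaf (nat_lit 0x10b11cd) (nat_lit 2307))
))))) (.node (nat_lit 0x10b1303) (.node (nat_lit 0x10b11d9) (.node (nat_lit 0x10b11d3) (.node (nat_lit 0x10b11d1) (.leaf (nat_lit 0x10b11cf) (nat_lit 2051))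
 (.leaf (nat_lit 0x10b11d1) (nat_lit 3330))
) (.node (nat_lit 0x10b11d5) (.leaf (nat_lit 0x10b11d3) (nat_lit 3074))
 (.node (nat_lit 0x10b11d7) (.leaf (nat_lit 0x10b11d5) (nat_lit 3589))
 (.leaf (nat_lit 0x10b11d7) (nat_lit 3333))
))) (.node (nat_lit 0x10b11dd) (.node (nat_lit 0x10b11db) (.leaf (nat_lit 0x10b11d9) (nat_lit 3333))
 (.leaf (nat_lit 0x10b11db) (nat_lit 3589))
) (.node (nat_lit 0x10b11df) (.leaf (nat_lit 0x10b11dd) (nat_lit 3074))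
 (.node (nat_lit 0x10b1301) (.leaf (nat_lit 0x10b11df) (nat_lit 3330))
 (.leaf (nat_lit 0x10b1301) (nat_lit 2305))
)))) (.node (nat_lit 0x10b130d) (.node (nat_lit 0x10b1307) (.node (nat_lit 0x10b1305) (.leaf (nat_lit 0x10b1303) (nat_lit 2561))
 (.leaf (nat_lit 0x10b1305) (nat_lit 2565))
) (.node (nat_lit 0x10b1309) (.leaf (nat_lit 0x10b1307) (nat_lit 2821))
 (.node (nat_lit 0x10b130b) (.leaf (nat_lit 0x10b1309) (nat_lit 3074))
 (.leaf (nat_lit 0x10b130b) (nat_lit 2818))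
))) (.node (nat_lit 0x10b1313) (.node (nat_lit 0x10b130f) (.leaf (nat_lit 0x10b130d) (nat_lit 3330))
 (.node (nat_lit 0x10b1311) (.leaf (nat_lit 0x10b130f) (nat_lit 3074))
 (.leaf (nat_lit 0x10b1311) (nat_lit 3330))
)) (.node (nat_lit 0x10b1315) (.leaf (nat_lit 0x10b1313) (nat_lit 3074))
 (.node (nat_lit 0x10b1317) (.leaf (nat_lit 0x10b1315) (nat_lit 3586))
 (.leaf (nat_lit 0x10b1317) (nat_lit 3330))
))))))) (.node (nat_lit 0x10b13cd) (.node (nat_lit 0x10b1383) (.node (nat_lit 0x10b134d) (.node (nat_lit 0x10b1343) (.node (nat_lit 0x10b131d) (.node (nat_lit 0x10b131b) (.leaf (nat_lit 0x10b1319) (nat_lit 2560))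
 (.leaf (nat_lit 0x10b131b) (nat_lit 2816))
) (.node (nat_lit 0x10b131f) (.leaf (nat_lit 0x10b131d) (nat_lit 2561))
 (.node (nat_lit 0x10b1341) (.leaf (nat_lit 0x10b131f) (nat_lit 2817))
 (.leaf (nat_lit 0x10b1341) (nat_lit 2053))
))) (.node (nat_lit 0x10b1347) (.node (nat_lit 0x10b1345) (.leaf (nat_lit 0x10b1343) (nat_lit 2309))
 (.leaf (nat_lit 0x10b1345) (nat_lit 2309))
) (.node (nat_lit 0x10b1349) (.leaf (nat_lit 0x10b1347) (nat_lit 2565))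
 (.node (nat_lit 0x10b134b) (.leaf (nat_lit 0x10b1349) (nat_lit 3077))
 (.leaf (nat_lit 0x10b134b) (nat_lit 3077))
)))) (.node (nat_lit 0x10b1357) (.node (nat_lit 0x10b1351) (.node (nat_lit 0x10b134f) (.leaf (nat_lit 0x10b134d) (nat_lit 2821))
 (.leaf (nat_lit 0x10b134f) (nat_lit 3077))
) (.node (nat_lit 0x10b1353) (.leaf (nat_lit 0x10b1351) (nat_lit 3333))
 (.node (nat_lit 0x10b1355) (.leaf (nat_lit 0x10b1353) (nat_lit 3333))
 (.leaf (nat_lit 0x10b1355) (nat_lit 3333))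
))) (.node (nat_lit 0x10b135d) (.node (nat_lit 0x10b1359) (.leaf (nat_lit 0x10b1357) (nat_lit 3077))
 (.node (nat_lit 0x10b135b) (.leaf (nat_lit 0x10b1359) (nat_lit 2565))
 (.leaf (nat_lit 0x10b135b) (nat_lit 2309))
)) (.node (nat_lit 0x10b135f) (.leaf (nat_lit 0x10b135d) (nat_lit 2821))
 (.node (nat_lit 0x10b1381) (.leaf (nat_lit 0x10b135f) (nat_lit 2565))
 (.leaf (nat_lit 0x10b1381) (nat_lit 2053))
))))) (.node (nat_lit 0x10b1397) (.node (nat_lit 0x10b138d) (.node (nat_lit 0x10b1387) (.node (nat_lit 0x10b1385) (.leaf (nat_lit 0x10b1383) (nat_lit 2309))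
 (.leaf (nat_lit 0x10b1385) (nat_lit 2309))
) (.node (nat_lit 0x10b1389) (.leaf (nat_lit 0x10b1387) (nat_lit 2565))
 (.node (nat_lit 0x10b138b) (.leaf (nat_lit 0x10b1389) (nat_lit 3077))
 (.leaf (nat_lit 0x10b138b) (nat_lit 2821))
))) (.node (nat_lit 0x10b1391) (.node (nat_lit 0x10b138f) (.leaf (nat_lit 0x10b138d) (nat_lit 3074))
 (.leaf (nat_lit 0x10b138f) (nat_lit 2818))
) (.node (nat_lit 0x10b1393) (.leaf (nat_lit 0x10b1391) (nat_lit 3330))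
 (.node (nat_lit 0x10b1395) (.leaf (nat_lit 0x10b1393) (nat_lit 3074))
 (.leaf (nat_lit 0x10b1395) (nat_lit 3333))
)))) (.node (nat_lit 0x10b13c1) (.node (nat_lit 0x10b139b) (.node (nat_lit 0x10b1399) (.leaf (nat_lit 0x10b1397) (nat_lit 3077))
 (.leaf (nat_lit 0x10b1399) (nat_lit 2565))
) (.node (nat_lit 0x10b139d) (.leaf (nat_lit 0x10b139b) (nat_lit 2821))
 (.node (nat_lit 0x10b139f) (.leaf (nat_lit 0x10b139d) (nat_lit 2309))
 (.leaf (nat_lit 0x10b139f) (nat_lit 2565))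
))) (.node (nat_lit 0x10b13c7) (.node (nat_lit 0x10b13c3) (.leaf (nat_lit 0x10b13c1) (nat_lit 2051))
 (.node (nat_lit 0x10b13c5) (.leaf (nat_lit 0x10b13c3) (nat_lit 2307))
 (.leaf (nat_lit 0x10b13c5) (nat_lit 2565))
)) (.node (nat_lit 0x10b13c9) (.leaf (nat_lit 0x10b13c7) (nat_lit 2821))
 (.node (nat_lit 0x10b13cb) (.leaf (nat_lit 0x10b13c9) (nat_lit 3077))
 (.leaf (nat_lit 0x10b13cb) (nat_lit 3333))
)))))) (.node (nat_lit 0x10b2057) (.node (nat_lit 0x10b2041) (.node (nat_lit 0x10b13d7) (.node (nat_lit 0x10b13d1) (.node (nat_lit 0x10b13cf) (.leaf (nat_lit 0x10b13cd) (nat_lit 2818))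
 (.leaf (nat_lit 0x10b13cf) (nat_lit 3074))
) (.node (nat_lit 0x10b13d3) (.leaf (nat_lit 0x10b13d1) (nat_lit 3330))
 (.node (nat_lit 0x10b13d5) (.leaf (nat_lit 0x10b13d3) (nat_lit 3074))
 (.leaf (nat_lit 0x10b13d5) (nat_lit 3585))
))) (.node (nat_lit 0x10b13db) (.node (nat_lit 0x10b13d9) (.leaf (nat_lit 0x10b13d7) (nat_lit 3329))
 (.leaf (nat_lit 0x10b13d9) (nat_lit 2817))
) (.node (nat_lit 0x10b13dd) (.leaf (nat_lit 0x10b13db) (nat_lit 2561))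
 (.node (nat_lit 0x10b13df) (.leaf (nat_lit 0x10b13dd) (nat_lit 2563))
 (.leaf (nat_lit 0x10b13df) (nat_lit 2307))
)))) (.node (nat_lit 0x10b204b) (.node (nat_lit 0x10b2045) (.node (nat_lit 0x10b2043) (.leaf (nat_lit 0x10b2041) (nat_lit 1283))
 (.leaf (nat_lit 0x10b2043) (nat_lit 1539))
) (.node (nat_lit 0x10b2047) (.leaf (nat_lit 0x10b2045) (nat_lit 2051))
 (.node (nat_lit 0x10b2049) (.leaf (nat_lit 0x10b2047) (nat_lit 2051))
 (.leaf (nat_lit 0x10b2049) (nat_lit 2307))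
))) (.node (nat_lit 0x10b2051) (.node (nat_lit 0x10b204d) (.leaf (nat_lit 0x10b204b) (nat_lit 2051))
 (.node (nat_lit 0x10b204f) (.leaf (nat_lit 0x10b204d) (nat_lit 2051))
 (.leaf (nat_lit 0x10b204f) (nat_lit 2051))
)) (.node (nat_lit 0x10b2053) (.leaf (nat_lit 0x10b2051) (nat_lit 3330))
 (.node (nat_lit 0x10b2055) (.leaf (nat_lit 0x10b2053) (nat_lit 3332))
 (.leaf (nat_lit 0x10b2055) (nat_lit 2564))
))))) (.node (nat_lit 0x10b208b) (.node (nat_lit 0x10b2081) (.node (nat_lit 0x10b205b) (.node (nat_lit 0x10b2059) (.leaf (nat_lit 0x10b2057) (nat_lit 2820))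
 (.leaf (nat_lit 0x10b2059) (nat_lit 3074))
) (.node (nat_lit 0x10b205d) (.leaf (nat_lit 0x10b205b) (nat_lit 2818))
 (.node (nat_lit 0x10b205f) (.leaf (nat_lit 0x10b205d) (nat_lit 2306))
 (.leaf (nat_lit 0x10b205f) (nat_lit 2306))
))) (.node (nat_lit 0x10b2085) (.node (nat_lit 0x10b2083) (.leaf (nat_lit 0x10b2081) (nat_lit 1539))
 (.leaf (nat_lit 0x10b2083) (nat_lit 1795))
) (.node (nat_lit 0x10b2087) (.leaf (nat_lit 0x10b2085) (nat_lit 1795))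
 (.node (nat_lit 0x10b2089) (.leaf (nat_lit 0x10b2087) (nat_lit 2051))
 (.leaf (nat_lit 0x10b2089) (nat_lit 2307))
)))) (.node (nat_lit 0x10b2095) (.node (nat_lit 0x10b208f) (.node (nat_lit 0x10b208d) (.leaf (nat_lit 0x10b208b) (nat_lit 2307))
 (.leaf (nat_lit 0x10b208d) (nat_lit 2051))
) (.node (nat_lit 0x10b2091) (.leaf (nat_lit 0x10b208f) (nat_lit 2307))
 (.node (nat_lit 0x10b2093) (.leaf (nat_lit 0x10b2091) (nat_lit 3076))
 (.leaf (nat_lit 0x10b2093) (nat_lit 2820))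
))) (.node (nat_lit 0x10b209b) (.node (nat_lit 0x10b2097) (.leaf (nat_lit 0x10b2095) (nat_lit 3332))
 (.node (nat_lit 0x10b2099) (.leaf (nat_lit 0x10b2097) (nat_lit 3076))
 (.leaf (nat_lit 0x10b2099) (nat_lit 2818))
)) (.node (nat_lit 0x10b209d) (.leaf (nat_lit 0x10b209b) (nat_lit 2562))
 (.node (nat_lit 0x10b209f) (.leaf (nat_lit 0x10b209d) (nat_lit 2818))
 (.leaf (nat_lit 0x10b209f) (nat_lit 2818))
)))))))))) (.node (nat_lit 0x10b33c1) (.node (nat_lit 0x10b2a51) (.node (nat_lit 0x10b2389) (.node (nat_lit 0x10b2255) (.node (nat_lit 0x10b218b) (.node (nat_lit 0x10b2155) (.node (nat_lit 0x10b214b) (.node (nat_lit 0x10b2145) (.node (nat_lit 0x10b2143) (.leaf (nat_lit 0x10b2141) (nat_lit 1539))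
 (.leaf (nat_lit 0x10b2143) (nat_lit 1795))
) (.node (nat_lit 0x10b2147) (.leaf (nat_lit 0x10b2145) (nat_lit 2051))
 (.node (nat_lit 0x10b2149) (.leaf (nat_lit 0x10b2147) (nat_lit 2307))
 (.leaf (nat_lit 0x10b2149) (nat_lit 2051))
))) (.node (nat_lit 0x10b214f) (.node (nat_lit 0x10b214d) (.leaf (nat_lit 0x10b214b) (nat_lit 1795))
 (.leaf (nat_lit 0x10b214d) (nat_lit 2307))
) (.node (nat_lit 0x10b2151) (.leaf (nat_lit 0x10b214f) (nat_lit 2307))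
 (.node (nat_lit 0x10b2153) (.leaf (nat_lit 0x10b2151) (nat_lit 3328))
 (.leaf (nat_lit 0x10b2153) (nat_lit 3330))
)))) (.node (nat_lit 0x10b215f) (.node (nat_lit 0x10b2159) (.node (nat_lit 0x10b2157) (.leaf (nat_lit 0x10b2155) (nat_lit 2818))
 (.leaf (nat_lit 0x10b2157) (nat_lit 2816))
) (.node (nat_lit 0x10b215b) (.leaf (nat_lit 0x10b2159) (nat_lit 3329))
 (.node (nat_lit 0x10b215d) (.leaf (nat_lit 0x10b215b) (nat_lit 3073))
 (.leaf (nat_lit 0x10b215d) (nat_lit 2561))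
))) (.node (nat_lit 0x10b2185) (.node (nat_lit 0x10b2181) (.leaf (nat_lit 0x10b215f) (nat_lit 2561))
 (.node (nat_lit 0x10b2183) (.leaf (nat_lit 0x10b2181) (nat_lit 1539))
 (.leaf (nat_lit 0x10b2183) (nat_lit 1795))
)) (.node (nat_lit 0x10b2187) (.leaf (nat_lit 0x10b2185) (nat_lit 2051))
 (.node (nat_lit 0x10b2189) (.leaf (nat_lit 0x10b2187) (nat_lit 2307))
 (.leaf (nat_lit 0x10b2189) (nat_lit 2307))
))))) (.node (nat_lit 0x10b219f) (.node (nat_lit 0x10b2195) (.node (nat_lit 0x10b218f) (.node (nat_lit 0x10b218d) (.leaf (nat_lit 0x10b218b) (nat_lit 2563))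
 (.leaf (nat_lit 0x10b218d) (nat_lit 1795))
) (.node (nat_lit 0x10b2191) (.leaf (nat_lit 0x10b218f) (nat_lit 2051))
 (.node (nat_lit 0x10b2193) (.leaf (nat_lit 0x10b2191) (nat_lit 3074))
 (.leaf (nat_lit 0x10b2193) (nat_lit 2818))
))) (.node (nat_lit 0x10b2199) (.node (nat_lit 0x10b2197) (.leaf (nat_lit 0x10b2195) (nat_lit 3328))
 (.leaf (nat_lit 0x10b2197) (nat_lit 3072))
) (.node (nat_lit 0x10b219b) (.leaf (nat_lit 0x10b2199) (nat_lit 3073))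
 (.node (nat_lit 0x10b219d) (.leaf (nat_lit 0x10b219b) (nat_lit 2817))
 (.leaf (nat_lit 0x10b219d) (nat_lit 3073))
)))) (.node (nat_lit 0x10b2249) (.node (nat_lit 0x10b2243) (.node (nat_lit 0x10b2241) (.leaf (nat_lit 0x10b219f) (nat_lit 3074))
 (.leaf (nat_lit 0x10b2241) (nat_lit 2306))
) (.node (nat_lit 0x10b2245) (.leaf (nat_lit 0x10b2243) (nat_lit 2562))
 (.node (nat_lit 0x10b2247) (.leaf (nat_lit 0x10b2245) (nat_lit 2561))
 (.leaf (nat_lit 0x10b2247) (nat_lit 2817))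
))) (.node (nat_lit 0x10b224f) (.node (nat_lit 0x10b224b) (.leaf (nat_lit 0x10b2249) (nat_lit 2816))
 (.node (nat_lit 0x10b224d) (.leaf (nat_lit 0x10b224b) (nat_lit 3072))
 (.leaf (nat_lit 0x10b224d) (nat_lit 2562))
)) (.node (nat_lit 0x10b2251) (.leaf (nat_lit 0x10b224f) (nat_lit 2818))
 (.node (nat_lit 0x10b2253) (.leaf (nat_lit 0x10b2251) (nat_lit 2818))
 (.leaf (nat_lit 0x10b2253) (nat_lit 2562))
)))))) (.node (nat_lit 0x10b229f) (.node (nat_lit 0x10b2289) (.node (nat_lit 0x10b225f) (.node (nat_lit 0x10b2259) (.node (nat_lit 0x10b2257) (.leaf (nat_lit 0x10b2255) (nat_lit 3072))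
 (.leaf (nat_lit 0x10b2257) (nat_lit 2816))
) (.node (nat_lit 0x10b225b) (.leaf (nat_lit 0x10b2259) (nat_lit 2817))
 (.node (nat_lit 0x10b225d) (.leaf (nat_lit 0x10b225b) (nat_lit 2561))
 (.leaf (nat_lit 0x10b225d) (nat_lit 3074))
))) (.node (nat_lit 0x10b2283) (.node (nat_lit 0x10b2281) (.leaf (nat_lit 0x10b225f) (nat_lit 2818))
 (.leaf (nat_lit 0x10b2281) (nat_lit 2049))
) (.node (nat_lit 0x10b2285) (.leaf (nat_lit 0x10b2283) (nat_lit 2305))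
 (.node (nat_lit 0x10b2287) (.leaf (nat_lit 0x10b2285) (nat_lit 2817))
 (.leaf (nat_lit 0x10b2287) (nat_lit 2817))
)))) (.node (nat_lit 0x10b2293) (.node (nat_lit 0x10b228d) (.node (nat_lit 0x10b228b) (.leaf (nat_lit 0x10b2289) (nat_lit 2560))
 (.leaf (nat_lit 0x10b228b) (nat_lit 2562))
) (.node (nat_lit 0x10b228f) (.leaf (nat_lit 0x10b228d) (nat_lit 3074))
 (.node (nat_lit 0x10b2291) (.leaf (nat_lit 0x10b228f) (nat_lit 3074))
 (.leaf (nat_lit 0x10b2291) (nat_lit 3072))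
))) (.node (nat_lit 0x10b2299) (.node (nat_lit 0x10b2295) (.leaf (nat_lit 0x10b2293) (nat_lit 3072))
 (.node (nat_lit 0x10b2297) (.leaf (nat_lit 0x10b2295) (nat_lit 2304))
 (.leaf (nat_lit 0x10b2297) (nat_lit 2560))
)) (.node (nat_lit 0x10b229b) (.leaf (nat_lit 0x10b2299) (nat_lit 3073))
 (.node (nat_lit 0x10b229d) (.leaf (nat_lit 0x10b229b) (nat_lit 3073))
 (.leaf (nat_lit 0x10b229d) (nat_lit 2305))
))))) (.node (nat_lit 0x10b2353) (.node (nat_lit 0x10b2349) (.node (nat_lit 0x10b2343) (.node (nat_lit 0x10b2341) (.leaf (nat_lit 0x10b229f) (nat_lit 2561))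
 (.leaf (nat_lit 0x10b2341) (nat_lit 2050))
) (.node (nat_lit 0x10b2345) (.leaf (nat_lit 0x10b2343) (nat_lit 2306))
 (.node (nat_lit 0x10b2347) (.leaf (nat_lit 0x10b2345) (nat_lit 2306))
 (.leaf (nat_lit 0x10b2347) (nat_lit 2562))
))) (.node (nat_lit 0x10b234d) (.node (nat_lit 0x10b234b) (.leaf (nat_lit 0x10b2349) (nat_lit 3074))
 (.leaf (nat_lit 0x10b234b) (nat_lit 3074))
) (.node (nat_lit 0x10b234f) (.leaf (nat_lit 0x10b234d) (nat_lit 2818))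
 (.node (nat_lit 0x10b2351) (.leaf (nat_lit 0x10b234f) (nat_lit 2819))
 (.leaf (nat_lit 0x10b2351) (nat_lit 3073))
)))) (.node (nat_lit 0x10b235d) (.node (nat_lit 0x10b2357) (.node (nat_lit 0x10b2355) (.leaf (nat_lit 0x10b2353) (nat_lit 2817))
 (.leaf (nat_lit 0x10b2355) (nat_lit 3075))
) (.node (nat_lit 0x10b2359) (.leaf (nat_lit 0x10b2357) (nat_lit 3074))
 (.node (nat_lit 0x10b235b) (.leaf (nat_lit 0x10b2359) (nat_lit 2562))
 (.leaf (nat_lit 0x10b235b) (nat_lit 2306))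
))) (.node (nat_lit 0x10b2383) (.node (nat_lit 0x10b235f) (.leaf (nat_lit 0x10b235d) (nat_lit 2818))
 (.node (nat_lit 0x10b2381) (.leaf (nat_lit 0x10b235f) (nat_lit 2562))
 (.leaf (nat_lit 0x10b2381) (nat_lit 1794))
)) (.node (nat_lit 0x10b2385) (.leaf (nat_lit 0x10b2383) (nat_lit 2050))
 (.node (nat_lit 0x10b2387) (.leaf (nat_lit 0x10b2385) (nat_lit 2562))
 (.leaf (nat_lit 0x10b2387) (nat_lit 2562))
))))))) (.node (nat_lit 0x10b289d) (.node (nat_lit 0x10b2853) (.node (nat_lit 0x10b239d) (.node (nat_lit 0x10b2393) (.node (nat_lit 0x10b238d) (.node (nat_lit 0x10b238b) (.leaf (nat_lit 0x10b2389) (nat_lit 2820))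
 (.leaf (nat_lit 0x10b238b) (nat_lit 2564))
) (.node (nat_lit 0x10b238f) (.leaf (nat_lit 0x10b238d) (nat_lit 2818))
 (.node (nat_lit 0x10b2391) (.leaf (nat_lit 0x10b238f) (nat_lit 2818))
 (.leaf (nat_lit 0x10b2391) (nat_lit 3074))
))) (.node (nat_lit 0x10b2397) (.node (nat_lit 0x10b2395) (.leaf (nat_lit 0x10b2393) (nat_lit 3074))
 (.leaf (nat_lit 0x10b2395) (nat_lit 2561))
) (.node (nat_lit 0x10b2399) (.leaf (nat_lit 0x10b2397) (nat_lit 2817))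
 (.node (nat_lit 0x10b239b) (.leaf (nat_lit 0x10b2399) (nat_lit 2818))
 (.leaf (nat_lit 0x10b239b) (nat_lit 2818))
)))) (.node (nat_lit 0x10b2847) (.node (nat_lit 0x10b2841) (.node (nat_lit 0x10b239f) (.leaf (nat_lit 0x10b239d) (nat_lit 2050))
 (.leaf (nat_lit 0x10b239f) (nat_lit 2306))
) (.node (nat_lit 0x10b2843) (.leaf (nat_lit 0x10b2841) (nat_lit 1284))
 (.node (nat_lit 0x10b2845) (.leaf (nat_lit 0x10b2843) (nat_lit 1540))
 (.leaf (nat_lit 0x10b2845) (nat_lit 2052))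
))) (.node (nat_lit 0x10b284d) (.node (nat_lit 0x10b2849) (.leaf (nat_lit 0x10b2847) (nat_lit 2052))
 (.node (nat_lit 0x10b284b) (.leaf (nat_lit 0x10b2849) (nat_lit 2052))
 (.leaf (nat_lit 0x10b284b) (nat_lit 2052))
)) (.node (nat_lit 0x10b284f) (.leaf (nat_lit 0x10b284d) (nat_lit 2309))
 (.node (nat_lit 0x10b2851) (.leaf (nat_lit 0x10b284f) (nat_lit 2309))
 (.leaf (nat_lit 0x10b2851) (nat_lit 3332))
))))) (.node (nat_lit 0x10b2887) (.node (nat_lit 0x10b285d) (.node (nat_lit 0x10b2857) (.node (nat_lit 0x10b2855) (.leaf (nat_lit 0x10b2853) (nat_lit 3332))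
 (.leaf (nat_lit 0x10b2855) (nat_lit 2564))
) (.node (nat_lit 0x10b2859) (.leaf (nat_lit 0x10b2857) (nat_lit 2564))
 (.node (nat_lit 0x10b285b) (.leaf (nat_lit 0x10b2859) (nat_lit 2818))
 (.leaf (nat_lit 0x10b285b) (nat_lit 2818))
))) (.node (nat_lit 0x10b2881) (.node (nat_lit 0x10b285f) (.leaf (nat_lit 0x10b285d) (nat_lit 2565))
 (.leaf (nat_lit 0x10b285f) (nat_lit 2565))
) (.node (nat_lit 0x10b2883) (.leaf (nat_lit 0x10b2881) (nat_lit 1540))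
 (.node (nat_lit 0x10b2885) (.leaf (nat_lit 0x10b2883) (nat_lit 1796))
 (.leaf (nat_lit 0x10b2885) (nat_lit 1796))
)))) (.node (nat_lit 0x10b2891) (.node (nat_lit 0x10b288b) (.node (nat_lit 0x10b2889) (.leaf (nat_lit 0x10b2887) (nat_lit 2052))
 (.leaf (nat_lit 0x10b2889) (nat_lit 2565))
) (.node (nat_lit 0x10b288d) (.leaf (nat_lit 0x10b288b) (nat_lit 2309))
 (.node (nat_lit 0x10b288f) (.leaf (nat_lit 0x10b288d) (nat_lit 2564))
 (.leaf (nat_lit 0x10b288f) (nat_lit 2308))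
))) (.node (nat_lit 0x10b2897) (.node (nat_lit 0x10b2893) (.leaf (nat_lit 0x10b2891) (nat_lit 3076))
 (.node (nat_lit 0x10b2895) (.leaf (nat_lit 0x10b2893) (nat_lit 2820))
 (.leaf (nat_lit 0x10b2895) (nat_lit 3332))
)) (.node (nat_lit 0x10b2899) (.leaf (nat_lit 0x10b2897) (nat_lit 3076))
 (.node (nat_lit 0x10b289b) (.leaf (nat_lit 0x10b2899) (nat_lit 2818))
 (.leaf (nat_lit 0x10b289b) (nat_lit 3074))
)))))) (.node (nat_lit 0x10b29c7) (.node (nat_lit 0x10b2911) (.node (nat_lit 0x10b2907) (.node (nat_lit 0x10b2901) (.node (nat_lit 0x10b289f) (.leaf (nat_lit 0x10b289d) (nat_lit 2821))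
 (.leaf (nat_lit 0x10b289f) (nat_lit 3077))
) (.node (nat_lit 0x10b2903) (.leaf (nat_lit 0x10b2901) (nat_lit 1540))
 (.node (nat_lit 0x10b2905) (.leaf (nat_lit 0x10b2903) (nat_lit 1796))
 (.leaf (nat_lit 0x10b2905) (nat_lit 2308))
))) (.node (nat_lit 0x10b290b) (.node (nat_lit 0x10b2909) (.leaf (nat_lit 0x10b2907) (nat_lit 2308))
 (.leaf (nat_lit 0x10b2909) (nat_lit 1796))
) (.node (nat_lit 0x10b290d) (.leaf (nat_lit 0x10b290b) (nat_lit 2052))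
 (.node (nat_lit 0x10b290f) (.leaf (nat_lit 0x10b290d) (nat_lit 2561))
 (.leaf (nat_lit 0x10b290f) (nat_lit 2564))
)))) (.node (nat_lit 0x10b291b) (.node (nat_lit 0x10b2915) (.node (nat_lit 0x10b2913) (.leaf (nat_lit 0x10b2911) (nat_lit 3328))
 (.leaf (nat_lit 0x10b2913) (nat_lit 3328))
) (.node (nat_lit 0x10b2917) (.leaf (nat_lit 0x10b2915) (nat_lit 2820))
 (.node (nat_lit 0x10b2919) (.leaf (nat_lit 0x10b2917) (nat_lit 2820))
 (.leaf (nat_lit 0x10b2919) (nat_lit 3073))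
))) (.node (nat_lit 0x10b29c1) (.node (nat_lit 0x10b291d) (.leaf (nat_lit 0x10b291b) (nat_lit 3073))
 (.node (nat_lit 0x10b291f) (.leaf (nat_lit 0x10b291d) (nat_lit 2817))
 (.leaf (nat_lit 0x10b291f) (nat_lit 2817))
)) (.node (nat_lit 0x10b29c3) (.leaf (nat_lit 0x10b29c1) (nat_lit 1796))
 (.node (nat_lit 0x10b29c5) (.leaf (nat_lit 0x10b29c3) (nat_lit 2052))
 (.leaf (nat_lit 0x10b29c5) (nat_lit 2052))
))))) (.node (nat_lit 0x10b29db) (.node (nat_lit 0x10b29d1) (.node (nat_lit 0x10b29cb) (.node (nat_lit 0x10b29c9) (.leaf (nat_lit 0x10b29c7) (nat_lit 2308))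
 (.leaf (nat_lit 0x10b29c9) (nat_lit 2564))
) (.node (nat_lit 0x10b29cd) (.leaf (nat_lit 0x10b29cb) (nat_lit 2308))
 (.node (nat_lit 0x10b29cf) (.leaf (nat_lit 0x10b29cd) (nat_lit 2308))
 (.leaf (nat_lit 0x10b29cf) (nat_lit 2052))
))) (.node (nat_lit 0x10b29d5) (.node (nat_lit 0x10b29d3) (.leaf (nat_lit 0x10b29d1) (nat_lit 3332))
 (.leaf (nat_lit 0x10b29d3) (nat_lit 3076))
) (.node (nat_lit 0x10b29d7) (.leaf (nat_lit 0x10b29d5) (nat_lit 3332))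
 (.node (nat_lit 0x10b29d9) (.leaf (nat_lit 0x10b29d7) (nat_lit 3076))
 (.leaf (nat_lit 0x10b29d9) (nat_lit 3076))
)))) (.node (nat_lit 0x10b2a45) (.node (nat_lit 0x10b29df) (.node (nat_lit 0x10b29dd) (.leaf (nat_lit 0x10b29db) (nat_lit 3332))
 (.leaf (nat_lit 0x10b29dd) (nat_lit 3073))
) (.node (nat_lit 0x10b2a41) (.leaf (nat_lit 0x10b29df) (nat_lit 3329))
 (.node (nat_lit 0x10b2a43) (.leaf (nat_lit 0x10b2a41) (nat_lit 2308))
 (.leaf (nat_lit 0x10b2a43) (nat_lit 2564))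
))) (.node (nat_lit 0x10b2a4b) (.node (nat_lit 0x10b2a47) (.leaf (nat_lit 0x10b2a45) (nat_lit 2564))
 (.node (nat_lit 0x10b2a49) (.leaf (nat_lit 0x10b2a47) (nat_lit 2820))
 (.leaf (nat_lit 0x10b2a49) (nat_lit 2820))
)) (.node (nat_lit 0x10b2a4d) (.leaf (nat_lit 0x10b2a4b) (nat_lit 2564))
 (.node (nat_lit 0x10b2a4f) (.leaf (nat_lit 0x10b2a4d) (nat_lit 3076))
 (.leaf (nat_lit 0x10b2a4f) (nat_lit 2820))
)))))))) (.node (nat_lit 0x10b3099) (.node (nat_lit 0x10b2bc5) (.node (nat_lit 0x10b2a9b) (.node (nat_lit 0x10b2a85) (.node (nat_lit 0x10b2a5b) (.node (nat_lit 0x10b2a55) (.node (nat_lit 0x10b2a53) (.leaf (nat_lit 0x10b2a51) (nat_lit 2820))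
 (.leaf (nat_lit 0x10b2a53) (nat_lit 2564))
) (.node (nat_lit 0x10b2a57) (.leaf (nat_lit 0x10b2a55) (nat_lit 3076))
 (.node (nat_lit 0x10b2a59) (.leaf (nat_lit 0x10b2a57) (nat_lit 2820))
 (.leaf (nat_lit 0x10b2a59) (nat_lit 2817))
))) (.node (nat_lit 0x10b2a5f) (.node (nat_lit 0x10b2a5d) (.leaf (nat_lit 0x10b2a5b) (nat_lit 3073))
 (.leaf (nat_lit 0x10b2a5d) (nat_lit 3076))
) (.node (nat_lit 0x10b2a81) (.leaf (nat_lit 0x10b2a5f) (nat_lit 3332))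
 (.node (nat_lit 0x10b2a83) (.leaf (nat_lit 0x10b2a81) (nat_lit 2052))
 (.leaf (nat_lit 0x10b2a83) (nat_lit 2308))
)))) (.node (nat_lit 0x10b2a8f) (.node (nat_lit 0x10b2a89) (.node (nat_lit 0x10b2a87) (.leaf (nat_lit 0x10b2a85) (nat_lit 2820))
 (.leaf (nat_lit 0x10b2a87) (nat_lit 2820))
) (.node (nat_lit 0x10b2a8b) (.leaf (nat_lit 0x10b2a89) (nat_lit 2562))
 (.node (nat_lit 0x10b2a8d) (.leaf (nat_lit 0x10b2a8b) (nat_lit 2565))
 (.leaf (nat_lit 0x10b2a8d) (nat_lit 3077))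
))) (.node (nat_lit 0x10b2a95) (.node (nat_lit 0x10b2a91) (.leaf (nat_lit 0x10b2a8f) (nat_lit 3076))
 (.node (nat_lit 0x10b2a93) (.leaf (nat_lit 0x10b2a91) (nat_lit 3076))
 (.leaf (nat_lit 0x10b2a93) (nat_lit 3076))
)) (.node (nat_lit 0x10b2a97) (.leaf (nat_lit 0x10b2a95) (nat_lit 2308))
 (.node (nat_lit 0x10b2a99) (.leaf (nat_lit 0x10b2a97) (nat_lit 2564))
 (.leaf (nat_lit 0x10b2a99) (nat_lit 3332))
))))) (.node (nat_lit 0x10b2b0f) (.node (nat_lit 0x10b2b05) (.node (nat_lit 0x10b2a9f) (.node (nat_lit 0x10b2a9d) (.leaf (nat_lit 0x10b2a9b) (nat_lit 3332))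
 (.leaf (nat_lit 0x10b2a9d) (nat_lit 2820))
) (.node (nat_lit 0x10b2b01) (.leaf (nat_lit 0x10b2a9f) (nat_lit 2564))
 (.node (nat_lit 0x10b2b03) (.leaf (nat_lit 0x10b2b01) (nat_lit 2306))
 (.leaf (nat_lit 0x10b2b03) (nat_lit 2562))
))) (.node (nat_lit 0x10b2b09) (.node (nat_lit 0x10b2b07) (.leaf (nat_lit 0x10b2b05) (nat_lit 2562))
 (.leaf (nat_lit 0x10b2b07) (nat_lit 2818))
) (.node (nat_lit 0x10b2b0b) (.leaf (nat_lit 0x10b2b09) (nat_lit 3076))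
 (.node (nat_lit 0x10b2b0d) (.leaf (nat_lit 0x10b2b0b) (nat_lit 2820))
 (.leaf (nat_lit 0x10b2b0d) (nat_lit 3076))
)))) (.node (nat_lit 0x10b2b19) (.node (nat_lit 0x10b2b13) (.node (nat_lit 0x10b2b11) (.leaf (nat_lit 0x10b2b0f) (nat_lit 2820))
 (.leaf (nat_lit 0x10b2b11) (nat_lit 3076))
) (.node (nat_lit 0x10b2b15) (.leaf (nat_lit 0x10b2b13) (nat_lit 2820))
 (.node (nat_lit 0x10b2b17) (.leaf (nat_lit 0x10b2b15) (nat_lit 3332))
 (.leaf (nat_lit 0x10b2b17) (nat_lit 3076))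
))) (.node (nat_lit 0x10b2b1f) (.node (nat_lit 0x10b2b1b) (.leaf (nat_lit 0x10b2b19) (nat_lit 2562))
 (.node (nat_lit 0x10b2b1d) (.leaf (nat_lit 0x10b2b1b) (nat_lit 2818))
 (.leaf (nat_lit 0x10b2b1d) (nat_lit 2818))
)) (.node (nat_lit 0x10b2bc1) (.leaf (nat_lit 0x10b2b1f) (nat_lit 3074))
 (.node (nat_lit 0x10b2bc3) (.leaf (nat_lit 0x10b2bc1) (nat_lit 2052))
 (.leaf (nat_lit 0x10b2bc3) (nat_lit 2308))
)))))) (.node (nat_lit 0x10b304f) (.node (nat_lit 0x10b2bd9) (.node (nat_lit 0x10b2bcf) (.node (nat_lit 0x10b2bc9) (.node (nat_lit 0x10b2bc7) (.leaf (nat_lit 0x10b2bc5) (nat_lit 2818))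
 (.leaf (nat_lit 0x10b2bc7) (nat_lit 2820))
) (.node (nat_lit 0x10b2bcb) (.leaf (nat_lit 0x10b2bc9) (nat_lit 2564))
 (.node (nat_lit 0x10b2bcd) (.leaf (nat_lit 0x10b2bcb) (nat_lit 2308))
 (.leaf (nat_lit 0x10b2bcd) (nat_lit 3076))
))) (.node (nat_lit 0x10b2bd3) (.node (nat_lit 0x10b2bd1) (.leaf (nat_lit 0x10b2bcf) (nat_lit 3074))
 (.leaf (nat_lit 0x10b2bd1) (nat_lit 3330))
) (.node (nat_lit 0x10b2bd5) (.leaf (nat_lit 0x10b2bd3) (nat_lit 3332))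
 (.node (nat_lit 0x10b2bd7) (.leaf (nat_lit 0x10b2bd5) (nat_lit 2564))
 (.leaf (nat_lit 0x10b2bd7) (nat_lit 2820))
)))) (.node (nat_lit 0x10b3043) (.node (nat_lit 0x10b2bdd) (.node (nat_lit 0x10b2bdb) (.leaf (nat_lit 0x10b2bd9) (nat_lit 3076))
 (.leaf (nat_lit 0x10b2bdb) (nat_lit 3074))
) (.node (nat_lit 0x10b2bdf) (.leaf (nat_lit 0x10b2bdd) (nat_lit 2564))
 (.node (nat_lit 0x10b3041) (.leaf (nat_lit 0x10b2bdf) (nat_lit 2308))
 (.leaf (nat_lit 0x10b3041) (nat_lit 1285))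
))) (.node (nat_lit 0x10b3049) (.node (nat_lit 0x10b3045) (.leaf (nat_lit 0x10b3043) (nat_lit 1541))
 (.node (nat_lit 0x10b3047) (.leaf (nat_lit 0x10b3045) (nat_lit 2053))
 (.leaf (nat_lit 0x10b3047) (nat_lit 2053))
)) (.node (nat_lit 0x10b304b) (.leaf (nat_lit 0x10b3049) (nat_lit 2307))
 (.node (nat_lit 0x10b304d) (.leaf (nat_lit 0x10b304b) (nat_lit 2307))
 (.leaf (nat_lit 0x10b304d) (nat_lit 2053))
))))) (.node (nat_lit 0x10b3083) (.node (nat_lit 0x10b3059) (.node (nat_lit 0x10b3053) (.node (nat_lit 0x10b3051) (.leaf (nat_lit 0x10b304f) (nat_lit 2053))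
 (.leaf (nat_lit 0x10b3051) (nat_lit 3333))
) (.node (nat_lit 0x10b3055) (.leaf (nat_lit 0x10b3053) (nat_lit 3333))
 (.node (nat_lit 0x10b3057) (.leaf (nat_lit 0x10b3055) (nat_lit 2565))
 (.leaf (nat_lit 0x10b3057) (nat_lit 2565))
))) (.node (nat_lit 0x10b305d) (.node (nat_lit 0x10b305b) (.leaf (nat_lit 0x10b3059) (nat_lit 2562))
 (.leaf (nat_lit 0x10b305b) (nat_lit 2565))
) (.node (nat_lit 0x10b305f) (.leaf (nat_lit 0x10b305d) (nat_lit 2821))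
 (.node (nat_lit 0x10b3081) (.leaf (nat_lit 0x10b305f) (nat_lit 2821))
 (.leaf (nat_lit 0x10b3081) (nat_lit 1795))
)))) (.node (nat_lit 0x10b308d) (.node (nat_lit 0x10b3087) (.node (nat_lit 0x10b3085) (.leaf (nat_lit 0x10b3083) (nat_lit 2051))
 (.leaf (nat_lit 0x10b3085) (nat_lit 2051))
) (.node (nat_lit 0x10b3089) (.leaf (nat_lit 0x10b3087) (nat_lit 2307))
 (.node (nat_lit 0x10b308b) (.leaf (nat_lit 0x10b3089) (nat_lit 2307))
 (.leaf (nat_lit 0x10b308b) (nat_lit 2563))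
))) (.node (nat_lit 0x10b3093) (.node (nat_lit 0x10b308f) (.leaf (nat_lit 0x10b308d) (nat_lit 2309))
 (.node (nat_lit 0x10b3091) (.leaf (nat_lit 0x10b308f) (nat_lit 2565))
 (.leaf (nat_lit 0x10b3091) (nat_lit 3332))
)) (.node (nat_lit 0x10b3095) (.leaf (nat_lit 0x10b3093) (nat_lit 3076))
 (.node (nat_lit 0x10b3097) (.leaf (nat_lit 0x10b3095) (nat_lit 3588))
 (.leaf (nat_lit 0x10b3097) (nat_lit 3332))
))))))) (.node (nat_lit 0x10b324d) (.node (nat_lit 0x10b31c3) (.node (nat_lit 0x10b310d) (.node (nat_lit 0x10b3103) (.node (nat_lit 0x10b309d) (.node (nat_lit 0x10b309b) (.leaf (nat_lit 0x10b3099) (nat_lit 3077))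
 (.leaf (nat_lit 0x10b309b) (nat_lit 2821))
) (.node (nat_lit 0x10b309f) (.leaf (nat_lit 0x10b309d) (nat_lit 3074))
 (.node (nat_lit 0x10b3101) (.leaf (nat_lit 0x10b309f) (nat_lit 2818))
 (.leaf (nat_lit 0x10b3101) (nat_lit 1795))
))) (.node (nat_lit 0x10b3107) (.node (nat_lit 0x10b3105) (.leaf (nat_lit 0x10b3103) (nat_lit 2051))
 (.leaf (nat_lit 0x10b3105) (nat_lit 2307))
) (.node (nat_lit 0x10b3109) (.leaf (nat_lit 0x10b3107) (nat_lit 2563))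
 (.node (nat_lit 0x10b310b) (.leaf (nat_lit 0x10b3109) (nat_lit 2051))
 (.leaf (nat_lit 0x10b310b) (nat_lit 2307))
)))) (.node (nat_lit 0x10b3117) (.node (nat_lit 0x10b3111) (.node (nat_lit 0x10b310f) (.leaf (nat_lit 0x10b310d) (nat_lit 2561))
 (.leaf (nat_lit 0x10b310f) (nat_lit 2817))
) (.node (nat_lit 0x10b3113) (.leaf (nat_lit 0x10b3111) (nat_lit 3330))
 (.node (nat_lit 0x10b3115) (.leaf (nat_lit 0x10b3113) (nat_lit 3074))
 (.leaf (nat_lit 0x10b3115) (nat_lit 3584))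
))) (.node (nat_lit 0x10b311d) (.node (nat_lit 0x10b3119) (.leaf (nat_lit 0x10b3117) (nat_lit 3328))
 (.node (nat_lit 0x10b311b) (.leaf (nat_lit 0x10b3119) (nat_lit 3329))
 (.leaf (nat_lit 0x10b311b) (nat_lit 3073))
)) (.node (nat_lit 0x10b311f) (.leaf (nat_lit 0x10b311d) (nat_lit 3329))
 (.node (nat_lit 0x10b31c1) (.leaf (nat_lit 0x10b311f) (nat_lit 3073))
 (.leaf (nat_lit 0x10b31c1) (nat_lit 1537))
))))) (.node (nat_lit 0x10b31d7) (.node (nat_lit 0x10b31cd) (.node (nat_lit 0x10b31c7) (.node (nat_lit 0x10b31c5) (.leaf (nat_lit 0x10b31c3) (nat_lit 1793))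
 (.leaf (nat_lit 0x10b31c5) (nat_lit 2307))
) (.node (nat_lit 0x10b31c9) (.leaf (nat_lit 0x10b31c7) (nat_lit 2305))
 (.node (nat_lit 0x10b31cb) (.leaf (nat_lit 0x10b31c9) (nat_lit 2560))
 (.leaf (nat_lit 0x10b31cb) (nat_lit 2563))
))) (.node (nat_lit 0x10b31d1) (.node (nat_lit 0x10b31cf) (.leaf (nat_lit 0x10b31cd) (nat_lit 2048))
 (.leaf (nat_lit 0x10b31cf) (nat_lit 1792))
) (.node (nat_lit 0x10b31d3) (.leaf (nat_lit 0x10b31d1) (nat_lit 3328))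
 (.node (nat_lit 0x10b31d5) (.leaf (nat_lit 0x10b31d3) (nat_lit 3328))
 (.leaf (nat_lit 0x10b31d5) (nat_lit 2818))
)))) (.node (nat_lit 0x10b3241) (.node (nat_lit 0x10b31db) (.node (nat_lit 0x10b31d9) (.leaf (nat_lit 0x10b31d7) (nat_lit 2817))
 (.leaf (nat_lit 0x10b31d9) (nat_lit 2817))
) (.node (nat_lit 0x10b31dd) (.leaf (nat_lit 0x10b31db) (nat_lit 2818))
 (.node (nat_lit 0x10b31df) (.leaf (nat_lit 0x10b31dd) (nat_lit 3073))
 (.leaf (nat_lit 0x10b31df) (nat_lit 3073))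
))) (.node (nat_lit 0x10b3247) (.node (nat_lit 0x10b3243) (.leaf (nat_lit 0x10b3241) (nat_lit 2309))
 (.node (nat_lit 0x10b3245) (.leaf (nat_lit 0x10b3243) (nat_lit 2565))
 (.leaf (nat_lit 0x10b3245) (nat_lit 2817))
)) (.node (nat_lit 0x10b3249) (.leaf (nat_lit 0x10b3247) (nat_lit 2821))
 (.node (nat_lit 0x10b324b) (.leaf (nat_lit 0x10b3249) (nat_lit 2818))
 (.leaf (nat_lit 0x10b324b) (nat_lit 3074))
)))))) (.node (nat_lit 0x10b3297) (.node (nat_lit 0x10b3281) (.node (nat_lit 0x10b3257) (.node (nat_lit 0x10b3251) (.node (nat_lit 0x10b324f) (.leaf (nat_lit 0x10b324d) (nat_lit 2565))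
 (.leaf (nat_lit 0x10b324f) (nat_lit 2821))
) (.node (nat_lit 0x10b3253) (.leaf (nat_lit 0x10b3251) (nat_lit 2821))
 (.node (nat_lit 0x10b3255) (.leaf (nat_lit 0x10b3253) (nat_lit 2565))
 (.leaf (nat_lit 0x10b3255) (nat_lit 3077))
))) (.node (nat_lit 0x10b325b) (.node (nat_lit 0x10b3259) (.leaf (nat_lit 0x10b3257) (nat_lit 3072))
 (.leaf (nat_lit 0x10b3259) (nat_lit 3329))
) (.node (nat_lit 0x10b325d) (.leaf (nat_lit 0x10b325b) (nat_lit 3073))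
 (.node (nat_lit 0x10b325f) (.leaf (nat_lit 0x10b325d) (nat_lit 3077))
 (.leaf (nat_lit 0x10b325f) (nat_lit 2821))
)))) (.node (nat_lit 0x10b328b) (.node (nat_lit 0x10b3285) (.node (nat_lit 0x10b3283) (.leaf (nat_lit 0x10b3281) (nat_lit 2053))
 (.leaf (nat_lit 0x10b3283) (nat_lit 2309))
) (.node (nat_lit 0x10b3287) (.leaf (nat_lit 0x10b3285) (nat_lit 2821))
 (.node (nat_lit 0x10b3289) (.leaf (nat_lit 0x10b3287) (nat_lit 2821))
 (.leaf (nat_lit 0x10b3289) (nat_lit 3077))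
))) (.node (nat_lit 0x10b3291) (.node (nat_lit 0x10b328d) (.leaf (nat_lit 0x10b328b) (nat_lit 3077))
 (.node (nat_lit 0x10b328f) (.leaf (nat_lit 0x10b328d) (nat_lit 2309))
 (.leaf (nat_lit 0x10b328f) (nat_lit 2565))
)) (.node (nat_lit 0x10b3293) (.leaf (nat_lit 0x10b3291) (nat_lit 3077))
 (.node (nat_lit 0x10b3295) (.leaf (nat_lit 0x10b3293) (nat_lit 3077))
 (.leaf (nat_lit 0x10b3295) (nat_lit 2309))
))))) (.node (nat_lit 0x10b330b) (.node (nat_lit 0x10b3301) (.node (nat_lit 0x10b329b) (.node (nat_lit 0x10b3299) (.leaf (nat_lit 0x10b3297) (nat_lit 2565))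
 (.leaf (nat_lit 0x10b3299) (nat_lit 2565))
) (.node (nat_lit 0x10b329d) (.leaf (nat_lit 0x10b329b) (nat_lit 2821))
 (.node (nat_lit 0x10b329f) (.leaf (nat_lit 0x10b329d) (nat_lit 3329))
 (.leaf (nat_lit 0x10b329f) (nat_lit 3333))
))) (.node (nat_lit 0x10b3305) (.node (nat_lit 0x10b3303) (.leaf (nat_lit 0x10b3301) (nat_lit 2050))
 (.leaf (nat_lit 0x10b3303) (nat_lit 2306))
) (.node (nat_lit 0x10b3307) (.leaf (nat_lit 0x10b3305) (nat_lit 2818))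
 (.node (nat_lit 0x10b3309) (.leaf (nat_lit 0x10b3307) (nat_lit 2818))
 (.leaf (nat_lit 0x10b3309) (nat_lit 3074))
)))) (.node (nat_lit 0x10b3315) (.node (nat_lit 0x10b330f) (.node (nat_lit 0x10b330d) (.leaf (nat_lit 0x10b330b) (nat_lit 3074))
 (.leaf (nat_lit 0x10b330d) (nat_lit 2561))
) (.node (nat_lit 0x10b3311) (.leaf (nat_lit 0x10b330f) (nat_lit 2817))
 (.node (nat_lit 0x10b3313) (.leaf (nat_lit 0x10b3311) (nat_lit 3330))
 (.leaf (nat_lit 0x10b3313) (nat_lit 3329))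
))) (.node (nat_lit 0x10b331b) (.node (nat_lit 0x10b3317) (.leaf (nat_lit 0x10b3315) (nat_lit 2561))
 (.node (nat_lit 0x10b3319) (.leaf (nat_lit 0x10b3317) (nat_lit 2817))
 (.leaf (nat_lit 0x10b3319) (nat_lit 2306))
)) (.node (nat_lit 0x10b331d) (.leaf (nat_lit 0x10b331b) (nat_lit 2562))
 (.node (nat_lit 0x10b331f) (.leaf (nat_lit 0x10b331d) (nat_lit 3074))
 (.leaf (nat_lit 0x10b331f) (nat_lit 3074))
))))))))) (.node (nat_lit 0x10b4951) (.node (nat_lit 0x10b3a49) (.node (nat_lit 0x10b3895) (.node (nat_lit 0x10b384b) (.node (nat_lit 0x10b33d5) (.node (nat_lit 0x10b33cb) (.node (nat_lit 0x10b33c5) (.node (nat_lit 0x10b33c3) (.leaf (nat_lit 0x10b33c1) (nat_lit 2306))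
 (.leaf (nat_lit 0x10b33c3) (nat_lit 2562))
) (.node (nat_lit 0x10b33c7) (.leaf (nat_lit 0x10b33c5) (nat_lit 2562))
 (.node (nat_lit 0x10b33c9) (.leaf (nat_lit 0x10b33c7) (nat_lit 2818))
 (.leaf (nat_lit 0x10b33c9) (nat_lit 3074))
))) (.node (nat_lit 0x10b33cf) (.node (nat_lit 0x10b33cd) (.leaf (nat_lit 0x10b33cb) (nat_lit 3075))
 (.leaf (nat_lit 0x10b33cd) (nat_lit 2817))
) (.node (nat_lit 0x10b33d1) (.leaf (nat_lit 0x10b33cf) (nat_lit 3073))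
 (.node (nat_lit 0x10b33d3) (.leaf (nat_lit 0x10b33d1) (nat_lit 3073))
 (.leaf (nat_lit 0x10b33d3) (nat_lit 2817))
)))) (.node (nat_lit 0x10b33df) (.node (nat_lit 0x10b33d9) (.node (nat_lit 0x10b33d7) (.leaf (nat_lit 0x10b33d5) (nat_lit 3329))
 (.leaf (nat_lit 0x10b33d7) (nat_lit 3329))
) (.node (nat_lit 0x10b33db) (.leaf (nat_lit 0x10b33d9) (nat_lit 3074))
 (.node (nat_lit 0x10b33dd) (.leaf (nat_lit 0x10b33db) (nat_lit 2818))
 (.leaf (nat_lit 0x10b33dd) (nat_lit 2818))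
))) (.node (nat_lit 0x10b3845) (.node (nat_lit 0x10b3841) (.leaf (nat_lit 0x10b33df) (nat_lit 2562))
 (.node (nat_lit 0x10b3843) (.leaf (nat_lit 0x10b3841) (nat_lit 1028))
 (.leaf (nat_lit 0x10b3843) (nat_lit 1284))
)) (.node (nat_lit 0x10b3847) (.leaf (nat_lit 0x10b3845) (nat_lit 1796))
 (.node (nat_lit 0x10b3849) (.leaf (nat_lit 0x10b3847) (nat_lit 1796))
 (.leaf (nat_lit 0x10b3849) (nat_lit 2563))
))))) (.node (nat_lit 0x10b385f) (.node (nat_lit 0x10b3855) (.node (nat_lit 0x10b384f) (.node (nat_lit 0x10b384d) (.leaf (nat_lit 0x10b384b) (nat_lit 2307))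
 (.leaf (nat_lit 0x10b384d) (nat_lit 1796))
) (.node (nat_lit 0x10b3851) (.leaf (nat_lit 0x10b384f) (nat_lit 1796))
 (.node (nat_lit 0x10b3853) (.leaf (nat_lit 0x10b3851) (nat_lit 3076))
 (.leaf (nat_lit 0x10b3853) (nat_lit 3076))
))) (.node (nat_lit 0x10b3859) (.node (nat_lit 0x10b3857) (.leaf (nat_lit 0x10b3855) (nat_lit 2308))
 (.leaf (nat_lit 0x10b3857) (nat_lit 2308))
) (.node (nat_lit 0x10b385b) (.leaf (nat_lit 0x10b3859) (nat_lit 2562))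
 (.node (nat_lit 0x10b385d) (.leaf (nat_lit 0x10b385b) (nat_lit 2306))
 (.leaf (nat_lit 0x10b385d) (nat_lit 2562))
)))) (.node (nat_lit 0x10b3889) (.node (nat_lit 0x10b3883) (.node (nat_lit 0x10b3881) (.leaf (nat_lit 0x10b385f) (nat_lit 2562))
 (.leaf (nat_lit 0x10b3881) (nat_lit 1284))
) (.node (nat_lit 0x10b3885) (.leaf (nat_lit 0x10b3883) (nat_lit 1540))
 (.node (nat_lit 0x10b3887) (.leaf (nat_lit 0x10b3885) (nat_lit 1540))
 (.leaf (nat_lit 0x10b3887) (nat_lit 1796))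
))) (.node (nat_lit 0x10b388f) (.node (nat_lit 0x10b388b) (.leaf (nat_lit 0x10b3889) (nat_lit 2308))
 (.node (nat_lit 0x10b388d) (.leaf (nat_lit 0x10b388b) (nat_lit 2052))
 (.leaf (nat_lit 0x10b388d) (nat_lit 2307))
)) (.node (nat_lit 0x10b3891) (.leaf (nat_lit 0x10b388f) (nat_lit 2308))
 (.node (nat_lit 0x10b3893) (.leaf (nat_lit 0x10b3891) (nat_lit 2820))
 (.leaf (nat_lit 0x10b3893) (nat_lit 2564))
)))))) (.node (nat_lit 0x10b395f) (.node (nat_lit 0x10b3949) (.node (nat_lit 0x10b389f) (.node (nat_lit 0x10b3899) (.node (nat_lit 0x10b3897) (.leaf (nat_lit 0x10b3895) (nat_lit 3076))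
 (.leaf (nat_lit 0x10b3897) (nat_lit 2820))
) (.node (nat_lit 0x10b389b) (.leaf (nat_lit 0x10b3899) (nat_lit 2818))
 (.node (nat_lit 0x10b389d) (.leaf (nat_lit 0x10b389b) (nat_lit 2818))
 (.leaf (nat_lit 0x10b389d) (nat_lit 2562))
))) (.node (nat_lit 0x10b3943) (.node (nat_lit 0x10b3941) (.leaf (nat_lit 0x10b389f) (nat_lit 2818))
 (.leaf (nat_lit 0x10b3941) (nat_lit 1540))
) (.node (nat_lit 0x10b3945) (.leaf (nat_lit 0x10b3943) (nat_lit 1796))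
 (.node (nat_lit 0x10b3947) (.leaf (nat_lit 0x10b3945) (nat_lit 1796))
 (.leaf (nat_lit 0x10b3947) (nat_lit 2052))
)))) (.node (nat_lit 0x10b3953) (.node (nat_lit 0x10b394d) (.node (nat_lit 0x10b394b) (.leaf (nat_lit 0x10b3949) (nat_lit 2052))
 (.leaf (nat_lit 0x10b394b) (nat_lit 1796))
) (.node (nat_lit 0x10b394f) (.leaf (nat_lit 0x10b394d) (nat_lit 2308))
 (.node (nat_lit 0x10b3951) (.leaf (nat_lit 0x10b394f) (nat_lit 2052))
 (.leaf (nat_lit 0x10b3951) (nat_lit 3074))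
))) (.node (nat_lit 0x10b3959) (.node (nat_lit 0x10b3955) (.leaf (nat_lit 0x10b3953) (nat_lit 2818))
 (.node (nat_lit 0x10b3957) (.leaf (nat_lit 0x10b3955) (nat_lit 3332))
 (.leaf (nat_lit 0x10b3957) (nat_lit 3076))
)) (.node (nat_lit 0x10b395b) (.leaf (nat_lit 0x10b3959) (nat_lit 3073))
 (.node (nat_lit 0x10b395d) (.leaf (nat_lit 0x10b395b) (nat_lit 3073))
 (.leaf (nat_lit 0x10b395d) (nat_lit 2820))
))))) (.node (nat_lit 0x10b3993) (.node (nat_lit 0x10b3989) (.node (nat_lit 0x10b3983) (.node (nat_lit 0x10b3981) (.leaf (nat_lit 0x10b395f) (nat_lit 3076))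
 (.leaf (nat_lit 0x10b3981) (nat_lit 1284))
) (.node (nat_lit 0x10b3985) (.leaf (nat_lit 0x10b3983) (nat_lit 1540))
 (.node (nat_lit 0x10b3987) (.leaf (nat_lit 0x10b3985) (nat_lit 2052))
 (.leaf (nat_lit 0x10b3987) (nat_lit 2052))
))) (.node (nat_lit 0x10b398d) (.node (nat_lit 0x10b398b) (.leaf (nat_lit 0x10b3989) (nat_lit 2308))
 (.leaf (nat_lit 0x10b398b) (nat_lit 2308))
) (.node (nat_lit 0x10b398f) (.leaf (nat_lit 0x10b398d) (nat_lit 1540))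
 (.node (nat_lit 0x10b3991) (.leaf (nat_lit 0x10b398f) (nat_lit 1796))
 (.leaf (nat_lit 0x10b3991) (nat_lit 3072))
)))) (.node (nat_lit 0x10b399d) (.node (nat_lit 0x10b3997) (.node (nat_lit 0x10b3995) (.leaf (nat_lit 0x10b3993) (nat_lit 3072))
 (.leaf (nat_lit 0x10b3995) (nat_lit 2564))
) (.node (nat_lit 0x10b3999) (.leaf (nat_lit 0x10b3997) (nat_lit 2564))
 (.node (nat_lit 0x10b399b) (.leaf (nat_lit 0x10b3999) (nat_lit 2820))
 (.leaf (nat_lit 0x10b399b) (nat_lit 2564))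
))) (.node (nat_lit 0x10b3a43) (.node (nat_lit 0x10b399f) (.leaf (nat_lit 0x10b399d) (nat_lit 2817))
 (.node (nat_lit 0x10b3a41) (.leaf (nat_lit 0x10b399f) (nat_lit 2817))
 (.leaf (nat_lit 0x10b3a41) (nat_lit 2052))
)) (.node (nat_lit 0x10b3a45) (.leaf (nat_lit 0x10b3a43) (nat_lit 2308))
 (.node (nat_lit 0x10b3a47) (.leaf (nat_lit 0x10b3a45) (nat_lit 2308))
 (.leaf (nat_lit 0x10b3a47) (nat_lit 2564))
))))))) (.node (nat_lit 0x10b3b5d) (.node (nat_lit 0x10b3a93) (.node (nat_lit 0x10b3a5d) (.node (nat_lit 0x10b3a53) (.node (nat_lit 0x10b3a4d) (.node (nat_lit 0x10b3a4b) (.leaf (nat_lit 0x10b3a49) (nat_lit 2818))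
 (.leaf (nat_lit 0x10b3a4b) (nat_lit 2562))
) (.node (nat_lit 0x10b3a4f) (.leaf (nat_lit 0x10b3a4d) (nat_lit 2564))
 (.node (nat_lit 0x10b3a51) (.leaf (nat_lit 0x10b3a4f) (nat_lit 2308))
 (.leaf (nat_lit 0x10b3a51) (nat_lit 2564))
))) (.node (nat_lit 0x10b3a57) (.node (nat_lit 0x10b3a55) (.leaf (nat_lit 0x10b3a53) (nat_lit 2308))
 (.leaf (nat_lit 0x10b3a55) (nat_lit 2820))
) (.node (nat_lit 0x10b3a59) (.leaf (nat_lit 0x10b3a57) (nat_lit 2564))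
 (.node (nat_lit 0x10b3a5b) (.leaf (nat_lit 0x10b3a59) (nat_lit 2817))
 (.leaf (nat_lit 0x10b3a5b) (nat_lit 3073))
)))) (.node (nat_lit 0x10b3a87) (.node (nat_lit 0x10b3a81) (.node (nat_lit 0x10b3a5f) (.leaf (nat_lit 0x10b3a5d) (nat_lit 2564))
 (.leaf (nat_lit 0x10b3a5f) (nat_lit 2820))
) (.node (nat_lit 0x10b3a83) (.leaf (nat_lit 0x10b3a81) (nat_lit 1796))
 (.node (nat_lit 0x10b3a85) (.leaf (nat_lit 0x10b3a83) (nat_lit 2052))
 (.leaf (nat_lit 0x10b3a85) (nat_lit 2564))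
))) (.node (nat_lit 0x10b3a8d) (.node (nat_lit 0x10b3a89) (.leaf (nat_lit 0x10b3a87) (nat_lit 2564))
 (.node (nat_lit 0x10b3a8b) (.leaf (nat_lit 0x10b3a89) (nat_lit 3076))
 (.leaf (nat_lit 0x10b3a8b) (nat_lit 3074))
)) (.node (nat_lit 0x10b3a8f) (.leaf (nat_lit 0x10b3a8d) (nat_lit 2306))
 (.node (nat_lit 0x10b3a91) (.leaf (nat_lit 0x10b3a8f) (nat_lit 2308))
 (.leaf (nat_lit 0x10b3a91) (nat_lit 2820))
))))) (.node (nat_lit 0x10b3b47) (.node (nat_lit 0x10b3a9d) (.node (nat_lit 0x10b3a97) (.node (nat_lit 0x10b3a95) (.leaf (nat_lit 0x10b3a93) (nat_lit 2820))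
 (.leaf (nat_lit 0x10b3a95) (nat_lit 2052))
) (.node (nat_lit 0x10b3a99) (.leaf (nat_lit 0x10b3a97) (nat_lit 2308))
 (.node (nat_lit 0x10b3a9b) (.leaf (nat_lit 0x10b3a99) (nat_lit 2564))
 (.leaf (nat_lit 0x10b3a9b) (nat_lit 2308))
))) (.node (nat_lit 0x10b3b41) (.node (nat_lit 0x10b3a9f) (.leaf (nat_lit 0x10b3a9d) (nat_lit 3076))
 (.leaf (nat_lit 0x10b3a9f) (nat_lit 3076))
) (.node (nat_lit 0x10b3b43) (.leaf (nat_lit 0x10b3b41) (nat_lit 1796))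
 (.node (nat_lit 0x10b3b45) (.leaf (nat_lit 0x10b3b43) (nat_lit 2052))
 (.leaf (nat_lit 0x10b3b45) (nat_lit 2562))
)))) (.node (nat_lit 0x10b3b51) (.node (nat_lit 0x10b3b4b) (.node (nat_lit 0x10b3b49) (.leaf (nat_lit 0x10b3b47) (nat_lit 2564))
 (.leaf (nat_lit 0x10b3b49) (nat_lit 2820))
) (.node (nat_lit 0x10b3b4d) (.leaf (nat_lit 0x10b3b4b) (nat_lit 3076))
 (.node (nat_lit 0x10b3b4f) (.leaf (nat_lit 0x10b3b4d) (nat_lit 2308))
 (.leaf (nat_lit 0x10b3b4f) (nat_lit 2052))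
))) (.node (nat_lit 0x10b3b57) (.node (nat_lit 0x10b3b53) (.leaf (nat_lit 0x10b3b51) (nat_lit 3076))
 (.node (nat_lit 0x10b3b55) (.leaf (nat_lit 0x10b3b53) (nat_lit 3076))
 (.leaf (nat_lit 0x10b3b55) (nat_lit 2308))
)) (.node (nat_lit 0x10b3b59) (.leaf (nat_lit 0x10b3b57) (nat_lit 2564))
 (.node (nat_lit 0x10b3b5b) (.leaf (nat_lit 0x10b3b59) (nat_lit 2308))
 (.leaf (nat_lit 0x10b3b5b) (nat_lit 2052))
)))))) (.node (nat_lit 0x10b4907) (.node (nat_lit 0x10b3b91) (.node (nat_lit 0x10b3b87) (.node (nat_lit 0x10b3b81) (.node (nat_lit 0x10b3b5f) (.leaf (nat_lit 0x10b3b5d) (nat_lit 2820))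
 (.leaf (nat_lit 0x10b3b5f) (nat_lit 2818))
) (.node (nat_lit 0x10b3b83) (.leaf (nat_lit 0x10b3b81) (nat_lit 2050))
 (.node (nat_lit 0x10b3b85) (.leaf (nat_lit 0x10b3b83) (nat_lit 2306))
 (.leaf (nat_lit 0x10b3b85) (nat_lit 2306))
))) (.node (nat_lit 0x10b3b8b) (.node (nat_lit 0x10b3b89) (.leaf (nat_lit 0x10b3b87) (nat_lit 2562))
 (.leaf (nat_lit 0x10b3b89) (nat_lit 2820))
) (.node (nat_lit 0x10b3b8d) (.leaf (nat_lit 0x10b3b8b) (nat_lit 2564))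
 (.node (nat_lit 0x10b3b8f) (.leaf (nat_lit 0x10b3b8d) (nat_lit 2820))
 (.leaf (nat_lit 0x10b3b8f) (nat_lit 2564))
)))) (.node (nat_lit 0x10b3b9b) (.node (nat_lit 0x10b3b95) (.node (nat_lit 0x10b3b93) (.leaf (nat_lit 0x10b3b91) (nat_lit 2820))
 (.leaf (nat_lit 0x10b3b93) (nat_lit 2564))
) (.node (nat_lit 0x10b3b97) (.leaf (nat_lit 0x10b3b95) (nat_lit 3076))
 (.node (nat_lit 0x10b3b99) (.leaf (nat_lit 0x10b3b97) (nat_lit 2820))
 (.leaf (nat_lit 0x10b3b99) (nat_lit 2562))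
))) (.node (nat_lit 0x10b4901) (.node (nat_lit 0x10b3b9d) (.leaf (nat_lit 0x10b3b9b) (nat_lit 2818))
 (.node (nat_lit 0x10b3b9f) (.leaf (nat_lit 0x10b3b9d) (nat_lit 2306))
 (.leaf (nat_lit 0x10b3b9f) (nat_lit 2562))
)) (.node (nat_lit 0x10b4903) (.leaf (nat_lit 0x10b4901) (nat_lit 2306))
 (.node (nat_lit 0x10b4905) (.leaf (nat_lit 0x10b4903) (nat_lit 2562))
 (.leaf (nat_lit 0x10b4905) (nat_lit 2818))
))))) (.node (nat_lit 0x10b491b) (.node (nat_lit 0x10b4911) (.node (nat_lit 0x10b490b) (.node (nat_lit 0x10b4909) (.leaf (nat_lit 0x10b4907) (nat_lit 3074))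
 (.leaf (nat_lit 0x10b4909) (nat_lit 2562))
) (.node (nat_lit 0x10b490d) (.leaf (nat_lit 0x10b490b) (nat_lit 2818))
 (.node (nat_lit 0x10b490f) (.leaf (nat_lit 0x10b490d) (nat_lit 2562))
 (.leaf (nat_lit 0x10b490f) (nat_lit 2818))
))) (.node (nat_lit 0x10b4915) (.node (nat_lit 0x10b4913) (.leaf (nat_lit 0x10b4911) (nat_lit 3328))
 (.leaf (nat_lit 0x10b4913) (nat_lit 3072))
) (.node (nat_lit 0x10b4917) (.leaf (nat_lit 0x10b4915) (nat_lit 3588))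
 (.node (nat_lit 0x10b4919) (.leaf (nat_lit 0x10b4917) (nat_lit 3332))
 (.leaf (nat_lit 0x10b4919) (nat_lit 3073))
)))) (.node (nat_lit 0x10b4945) (.node (nat_lit 0x10b491f) (.node (nat_lit 0x10b491d) (.leaf (nat_lit 0x10b491b) (nat_lit 2817))
 (.leaf (nat_lit 0x10b491d) (nat_lit 3329))
) (.node (nat_lit 0x10b4941) (.leaf (nat_lit 0x10b491f) (nat_lit 3073))
 (.node (nat_lit 0x10b4943) (.leaf (nat_lit 0x10b4941) (nat_lit 2053))
 (.leaf (nat_lit 0x10b4943) (nat_lit 2309))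
))) (.node (nat_lit 0x10b494b) (.node (nat_lit 0x10b4947) (.leaf (nat_lit 0x10b4945) (nat_lit 2309))
 (.node (nat_lit 0x10b4949) (.leaf (nat_lit 0x10b4947) (nat_lit 2565))
 (.leaf (nat_lit 0x10b4949) (nat_lit 2565))
)) (.node (nat_lit 0x10b494d) (.leaf (nat_lit 0x10b494b) (nat_lit 2309))
 (.node (nat_lit 0x10b494f) (.leaf (nat_lit 0x10b494d) (nat_lit 2821))
 (.leaf (nat_lit 0x10b494f) (nat_lit 2565))
)))))))) (.node (nat_lit 0x10b4b99) (.node (nat_lit 0x10b4b05) (.node (nat_lit 0x10b499b) (.node (nat_lit 0x10b4985) (.node (nat_lit 0x10b495b) (.node (nat_lit 0x10b4955) (.node (nat_lit 0x10b4953) (.leaf (nat_lit 0x10b4951) (nat_lit 3077))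
 (.leaf (nat_lit 0x10b4953) (nat_lit 2821))
) (.node (nat_lit 0x10b4957) (.leaf (nat_lit 0x10b4955) (nat_lit 3333))
 (.node (nat_lit 0x10b4959) (.leaf (nat_lit 0x10b4957) (nat_lit 3077))
 (.leaf (nat_lit 0x10b4959) (nat_lit 2817))
))) (.node (nat_lit 0x10b495f) (.node (nat_lit 0x10b495d) (.leaf (nat_lit 0x10b495b) (nat_lit 3073))
 (.leaf (nat_lit 0x10b495d) (nat_lit 3073))
) (.node (nat_lit 0x10b4981) (.leaf (nat_lit 0x10b495f) (nat_lit 3329))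
 (.node (nat_lit 0x10b4983) (.leaf (nat_lit 0x10b4981) (nat_lit 2053))
 (.leaf (nat_lit 0x10b4983) (nat_lit 2309))
)))) (.node (nat_lit 0x10b498f) (.node (nat_lit 0x10b4989) (.node (nat_lit 0x10b4987) (.leaf (nat_lit 0x10b4985) (nat_lit 2565))
 (.leaf (nat_lit 0x10b4987) (nat_lit 2821))
) (.node (nat_lit 0x10b498b) (.leaf (nat_lit 0x10b4989) (nat_lit 2818))
 (.node (nat_lit 0x10b498d) (.leaf (nat_lit 0x10b498b) (nat_lit 2820))
 (.leaf (nat_lit 0x10b498d) (nat_lit 2309))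
))) (.node (nat_lit 0x10b4995) (.node (nat_lit 0x10b4991) (.leaf (nat_lit 0x10b498f) (nat_lit 2565))
 (.node (nat_lit 0x10b4993) (.leaf (nat_lit 0x10b4991) (nat_lit 3077))
 (.leaf (nat_lit 0x10b4993) (nat_lit 2821))
)) (.node (nat_lit 0x10b4997) (.leaf (nat_lit 0x10b4995) (nat_lit 3333))
 (.node (nat_lit 0x10b4999) (.leaf (nat_lit 0x10b4997) (nat_lit 3332))
 (.leaf (nat_lit 0x10b4999) (nat_lit 3332))
))))) (.node (nat_lit 0x10b49cf) (.node (nat_lit 0x10b49c5) (.node (nat_lit 0x10b499f) (.node (nat_lit 0x10b499d) (.leaf (nat_lit 0x10b499b) (nat_lit 3076))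
 (.leaf (nat_lit 0x10b499d) (nat_lit 3073))
) (.node (nat_lit 0x10b49c1) (.leaf (nat_lit 0x10b499f) (nat_lit 2817))
 (.node (nat_lit 0x10b49c3) (.leaf (nat_lit 0x10b49c1) (nat_lit 2052))
 (.leaf (nat_lit 0x10b49c3) (nat_lit 2308))
))) (.node (nat_lit 0x10b49c9) (.node (nat_lit 0x10b49c7) (.leaf (nat_lit 0x10b49c5) (nat_lit 2565))
 (.leaf (nat_lit 0x10b49c7) (nat_lit 2821))
) (.node (nat_lit 0x10b49cb) (.leaf (nat_lit 0x10b49c9) (nat_lit 2818))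
 (.node (nat_lit 0x10b49cd) (.leaf (nat_lit 0x10b49cb) (nat_lit 2562))
 (.leaf (nat_lit 0x10b49cd) (nat_lit 2564))
)))) (.node (nat_lit 0x10b49d9) (.node (nat_lit 0x10b49d3) (.node (nat_lit 0x10b49d1) (.leaf (nat_lit 0x10b49cf) (nat_lit 2308))
 (.leaf (nat_lit 0x10b49d1) (nat_lit 3076))
) (.node (nat_lit 0x10b49d5) (.leaf (nat_lit 0x10b49d3) (nat_lit 2820))
 (.node (nat_lit 0x10b49d7) (.leaf (nat_lit 0x10b49d5) (nat_lit 3332))
 (.leaf (nat_lit 0x10b49d7) (nat_lit 3076))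
))) (.node (nat_lit 0x10b49df) (.node (nat_lit 0x10b49db) (.leaf (nat_lit 0x10b49d9) (nat_lit 3076))
 (.node (nat_lit 0x10b49dd) (.leaf (nat_lit 0x10b49db) (nat_lit 3332))
 (.leaf (nat_lit 0x10b49dd) (nat_lit 2820))
)) (.node (nat_lit 0x10b4b01) (.leaf (nat_lit 0x10b49df) (nat_lit 3076))
 (.node (nat_lit 0x10b4b03) (.leaf (nat_lit 0x10b4b01) (nat_lit 2305))
 (.leaf (nat_lit 0x10b4b03) (nat_lit 2561))
)))))) (.node (nat_lit 0x10b4b4f) (.node (nat_lit 0x10b4b19) (.node (nat_lit 0x10b4b0f) (.node (nat_lit 0x10b4b09) (.node (nat_lit 0x10b4b07) (.leaf (nat_lit 0x10b4b05) (nat_lit 2561))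
 (.leaf (nat_lit 0x10b4b07) (nat_lit 2817))
) (.node (nat_lit 0x10b4b0b) (.leaf (nat_lit 0x10b4b09) (nat_lit 2817))
 (.node (nat_lit 0x10b4b0d) (.leaf (nat_lit 0x10b4b0b) (nat_lit 2561))
 (.leaf (nat_lit 0x10b4b0d) (nat_lit 3073))
))) (.node (nat_lit 0x10b4b13) (.node (nat_lit 0x10b4b11) (.leaf (nat_lit 0x10b4b0f) (nat_lit 2817))
 (.leaf (nat_lit 0x10b4b11) (nat_lit 3072))
) (.node (nat_lit 0x10b4b15) (.leaf (nat_lit 0x10b4b13) (nat_lit 2816))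
 (.node (nat_lit 0x10b4b17) (.leaf (nat_lit 0x10b4b15) (nat_lit 3328))
 (.leaf (nat_lit 0x10b4b17) (nat_lit 3072))
)))) (.node (nat_lit 0x10b4b43) (.node (nat_lit 0x10b4b1d) (.node (nat_lit 0x10b4b1b) (.leaf (nat_lit 0x10b4b19) (nat_lit 2560))
 (.leaf (nat_lit 0x10b4b1b) (nat_lit 2816))
) (.node (nat_lit 0x10b4b1f) (.leaf (nat_lit 0x10b4b1d) (nat_lit 2818))
 (.node (nat_lit 0x10b4b41) (.leaf (nat_lit 0x10b4b1f) (nat_lit 3074))
 (.leaf (nat_lit 0x10b4b41) (nat_lit 2309))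
))) (.node (nat_lit 0x10b4b49) (.node (nat_lit 0x10b4b45) (.leaf (nat_lit 0x10b4b43) (nat_lit 2565))
 (.node (nat_lit 0x10b4b47) (.leaf (nat_lit 0x10b4b45) (nat_lit 2565))
 (.leaf (nat_lit 0x10b4b47) (nat_lit 2821))
)) (.node (nat_lit 0x10b4b4b) (.leaf (nat_lit 0x10b4b49) (nat_lit 2817))
 (.node (nat_lit 0x10b4b4d) (.leaf (nat_lit 0x10b4b4b) (nat_lit 3073))
 (.leaf (nat_lit 0x10b4b4d) (nat_lit 2817))
))))) (.node (nat_lit 0x10b4b83) (.node (nat_lit 0x10b4b59) (.node (nat_lit 0x10b4b53) (.node (nat_lit 0x10b4b51) (.leaf (nat_lit 0x10b4b4f) (nat_lit 3073))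
 (.leaf (nat_lit 0x10b4b51) (nat_lit 3333))
) (.node (nat_lit 0x10b4b55) (.leaf (nat_lit 0x10b4b53) (nat_lit 3077))
 (.node (nat_lit 0x10b4b57) (.leaf (nat_lit 0x10b4b55) (nat_lit 3332))
 (.leaf (nat_lit 0x10b4b57) (nat_lit 3076))
))) (.node (nat_lit 0x10b4b5d) (.node (nat_lit 0x10b4b5b) (.leaf (nat_lit 0x10b4b59) (nat_lit 2821))
 (.leaf (nat_lit 0x10b4b5b) (nat_lit 2565))
) (.node (nat_lit 0x10b4b5f) (.leaf (nat_lit 0x10b4b5d) (nat_lit 3077))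
 (.node (nat_lit 0x10b4b81) (.leaf (nat_lit 0x10b4b5f) (nat_lit 2821))
 (.leaf (nat_lit 0x10b4b81) (nat_lit 2308))
)))) (.node (nat_lit 0x10b4b8d) (.node (nat_lit 0x10b4b87) (.node (nat_lit 0x10b4b85) (.leaf (nat_lit 0x10b4b83) (nat_lit 2564))
 (.leaf (nat_lit 0x10b4b85) (nat_lit 2565))
) (.node (nat_lit 0x10b4b89) (.leaf (nat_lit 0x10b4b87) (nat_lit 2821))
 (.node (nat_lit 0x10b4b8b) (.leaf (nat_lit 0x10b4b89) (nat_lit 3077))
 (.leaf (nat_lit 0x10b4b8b) (nat_lit 2821))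
))) (.node (nat_lit 0x10b4b93) (.node (nat_lit 0x10b4b8f) (.leaf (nat_lit 0x10b4b8d) (nat_lit 2820))
 (.node (nat_lit 0x10b4b91) (.leaf (nat_lit 0x10b4b8f) (nat_lit 2564))
 (.leaf (nat_lit 0x10b4b91) (nat_lit 3076))
)) (.node (nat_lit 0x10b4b95) (.leaf (nat_lit 0x10b4b93) (nat_lit 2820))
 (.node (nat_lit 0x10b4b97) (.leaf (nat_lit 0x10b4b95) (nat_lit 3333))
 (.leaf (nat_lit 0x10b4b97) (nat_lit 3077))
))))))) (.node (nat_lit 0x10b514d) (.node (nat_lit 0x10b5103) (.node (nat_lit 0x10b4bcd) (.node (nat_lit 0x10b4bc3) (.node (nat_lit 0x10b4b9d) (.node (nat_lit 0x10b4b9b) (.leaf (nat_lit 0x10b4b99) (nat_lit 2821))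
 (.leaf (nat_lit 0x10b4b9b) (nat_lit 3077))
) (.node (nat_lit 0x10b4b9f) (.leaf (nat_lit 0x10b4b9d) (nat_lit 2564))
 (.node (nat_lit 0x10b4bc1) (.leaf (nat_lit 0x10b4b9f) (nat_lit 2820))
 (.leaf (nat_lit 0x10b4bc1) (nat_lit 2305))
))) (.node (nat_lit 0x10b4bc7) (.node (nat_lit 0x10b4bc5) (.leaf (nat_lit 0x10b4bc3) (nat_lit 2561))
 (.leaf (nat_lit 0x10b4bc5) (nat_lit 2821))
) (.node (nat_lit 0x10b4bc9) (.leaf (nat_lit 0x10b4bc7) (nat_lit 2820))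
 (.node (nat_lit 0x10b4bcb) (.leaf (nat_lit 0x10b4bc9) (nat_lit 3073))
 (.leaf (nat_lit 0x10b4bcb) (nat_lit 3076))
)))) (.node (nat_lit 0x10b4bd7) (.node (nat_lit 0x10b4bd1) (.node (nat_lit 0x10b4bcf) (.leaf (nat_lit 0x10b4bcd) (nat_lit 2561))
 (.leaf (nat_lit 0x10b4bcf) (nat_lit 2817))
) (.node (nat_lit 0x10b4bd3) (.leaf (nat_lit 0x10b4bd1) (nat_lit 3072))
 (.node (nat_lit 0x10b4bd5) (.leaf (nat_lit 0x10b4bd3) (nat_lit 2816))
 (.leaf (nat_lit 0x10b4bd5) (nat_lit 3332))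
))) (.node (nat_lit 0x10b4bdd) (.node (nat_lit 0x10b4bd9) (.leaf (nat_lit 0x10b4bd7) (nat_lit 3332))
 (.node (nat_lit 0x10b4bdb) (.leaf (nat_lit 0x10b4bd9) (nat_lit 3074))
 (.leaf (nat_lit 0x10b4bdb) (nat_lit 2818))
)) (.node (nat_lit 0x10b4bdf) (.leaf (nat_lit 0x10b4bdd) (nat_lit 2816))
 (.node (nat_lit 0x10b5101) (.leaf (nat_lit 0x10b4bdf) (nat_lit 2560))
 (.leaf (nat_lit 0x10b5101) (nat_lit 2053))
))))) (.node (nat_lit 0x10b5117) (.node (nat_lit 0x10b510d) (.node (nat_lit 0x10b5107) (.node (nat_lit 0x10b5105) (.leaf (nat_lit 0x10b5103) (nat_lit 2309))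
 (.leaf (nat_lit 0x10b5105) (nat_lit 2821))
) (.node (nat_lit 0x10b5109) (.leaf (nat_lit 0x10b5107) (nat_lit 2821))
 (.node (nat_lit 0x10b510b) (.leaf (nat_lit 0x10b5109) (nat_lit 2309))
 (.leaf (nat_lit 0x10b510b) (nat_lit 2565))
))) (.node (nat_lit 0x10b5111) (.node (nat_lit 0x10b510f) (.leaf (nat_lit 0x10b510d) (nat_lit 2818))
 (.leaf (nat_lit 0x10b510f) (nat_lit 2818))
) (.node (nat_lit 0x10b5113) (.leaf (nat_lit 0x10b5111) (nat_lit 3585))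
 (.node (nat_lit 0x10b5115) (.leaf (nat_lit 0x10b5113) (nat_lit 3584))
 (.leaf (nat_lit 0x10b5115) (nat_lit 2816))
)))) (.node (nat_lit 0x10b5141) (.node (nat_lit 0x10b511b) (.node (nat_lit 0x10b5119) (.leaf (nat_lit 0x10b5117) (nat_lit 3072))
 (.leaf (nat_lit 0x10b5119) (nat_lit 3329))
) (.node (nat_lit 0x10b511d) (.leaf (nat_lit 0x10b511b) (nat_lit 3329))
 (.node (nat_lit 0x10b511f) (.leaf (nat_lit 0x10b511d) (nat_lit 2561))
 (.leaf (nat_lit 0x10b511f) (nat_lit 2817))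
))) (.node (nat_lit 0x10b5147) (.node (nat_lit 0x10b5143) (.leaf (nat_lit 0x10b5141) (nat_lit 2050))
 (.node (nat_lit 0x10b5145) (.leaf (nat_lit 0x10b5143) (nat_lit 2306))
 (.leaf (nat_lit 0x10b5145) (nat_lit 2565))
)) (.node (nat_lit 0x10b5149) (.leaf (nat_lit 0x10b5147) (nat_lit 2565))
 (.node (nat_lit 0x10b514b) (.leaf (nat_lit 0x10b5149) (nat_lit 2562))
 (.leaf (nat_lit 0x10b514b) (nat_lit 2306))
)))))) (.node (nat_lit 0x10b5197) (.node (nat_lit 0x10b5181) (.node (nat_lit 0x10b5157) (.node (nat_lit 0x10b5151) (.node (nat_lit 0x10b514f) (.leaf (nat_lit 0x10b514d) (nat_lit 2821))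
 (.leaf (nat_lit 0x10b514f) (nat_lit 2818))
) (.node (nat_lit 0x10b5153) (.leaf (nat_lit 0x10b5151) (nat_lit 3333))
 (.node (nat_lit 0x10b5155) (.leaf (nat_lit 0x10b5153) (nat_lit 3333))
 (.leaf (nat_lit 0x10b5155) (nat_lit 2821))
))) (.node (nat_lit 0x10b515b) (.node (nat_lit 0x10b5159) (.leaf (nat_lit 0x10b5157) (nat_lit 3077))
 (.leaf (nat_lit 0x10b5159) (nat_lit 3333))
) (.node (nat_lit 0x10b515d) (.leaf (nat_lit 0x10b515b) (nat_lit 3329))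
 (.node (nat_lit 0x10b515f) (.leaf (nat_lit 0x10b515d) (nat_lit 2821))
 (.leaf (nat_lit 0x10b515f) (nat_lit 2565))
)))) (.node (nat_lit 0x10b518b) (.node (nat_lit 0x10b5185) (.node (nat_lit 0x10b5183) (.leaf (nat_lit 0x10b5181) (nat_lit 1797))
 (.leaf (nat_lit 0x10b5183) (nat_lit 2053))
) (.node (nat_lit 0x10b5187) (.leaf (nat_lit 0x10b5185) (nat_lit 2565))
 (.node (nat_lit 0x10b5189) (.leaf (nat_lit 0x10b5187) (nat_lit 2565))
 (.leaf (nat_lit 0x10b5189) (nat_lit 2821))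
))) (.node (nat_lit 0x10b5191) (.node (nat_lit 0x10b518d) (.leaf (nat_lit 0x10b518b) (nat_lit 2821))
 (.node (nat_lit 0x10b518f) (.leaf (nat_lit 0x10b518d) (nat_lit 2053))
 (.leaf (nat_lit 0x10b518f) (nat_lit 2309))
)) (.node (nat_lit 0x10b5193) (.leaf (nat_lit 0x10b5191) (nat_lit 3333))
 (.node (nat_lit 0x10b5195) (.leaf (nat_lit 0x10b5193) (nat_lit 3333))
 (.leaf (nat_lit 0x10b5195) (nat_lit 2565))
))))) (.node (nat_lit 0x10b51cb) (.node (nat_lit 0x10b51c1) (.node (nat_lit 0x10b519b) (.node (nat_lit 0x10b5199) (.leaf (nat_lit 0x10b5197) (nat_lit 2821))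
 (.leaf (nat_lit 0x10b5199) (nat_lit 2561))
) (.node (nat_lit 0x10b519d) (.leaf (nat_lit 0x10b519b) (nat_lit 2817))
 (.node (nat_lit 0x10b519f) (.leaf (nat_lit 0x10b519d) (nat_lit 3333))
 (.leaf (nat_lit 0x10b519f) (nat_lit 3329))
))) (.node (nat_lit 0x10b51c5) (.node (nat_lit 0x10b51c3) (.leaf (nat_lit 0x10b51c1) (nat_lit 1794))
 (.leaf (nat_lit 0x10b51c3) (nat_lit 2050))
) (.node (nat_lit 0x10b51c7) (.leaf (nat_lit 0x10b51c5) (nat_lit 2818))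
 (.node (nat_lit 0x10b51c9) (.leaf (nat_lit 0x10b51c7) (nat_lit 2562))
 (.leaf (nat_lit 0x10b51c9) (nat_lit 2818))
)))) (.node (nat_lit 0x10b51d5) (.node (nat_lit 0x10b51cf) (.node (nat_lit 0x10b51cd) (.leaf (nat_lit 0x10b51cb) (nat_lit 2818))
 (.leaf (nat_lit 0x10b51cd) (nat_lit 2306))
) (.node (nat_lit 0x10b51d1) (.leaf (nat_lit 0x10b51cf) (nat_lit 2050))
 (.node (nat_lit 0x10b51d3) (.leaf (nat_lit 0x10b51d1) (nat_lit 3587))
 (.leaf (nat_lit 0x10b51d3) (nat_lit 3331))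
))) (.node (nat_lit 0x10b51db) (.node (nat_lit 0x10b51d7) (.leaf (nat_lit 0x10b51d5) (nat_lit 2817))
 (.node (nat_lit 0x10b51d9) (.leaf (nat_lit 0x10b51d7) (nat_lit 3073))
 (.leaf (nat_lit 0x10b51d9) (nat_lit 2817))
)) (.node (nat_lit 0x10b51dd) (.leaf (nat_lit 0x10b51db) (nat_lit 2561))
 (.node (nat_lit 0x10b51df) (.leaf (nat_lit 0x10b51dd) (nat_lit 3329))
 (.leaf (nat_lit 0x10b51df) (nat_lit 3329))
))))))))))) (.node (nat_lit 0x10c0b81) (.node (nat_lit 0x10b7081) (.node (nat_lit 0x10b6351) (.node (nat_lit 0x10b6089) (.node (nat_lit 0x10b5395) (.node (nat_lit 0x10b534b) (.node (nat_lit 0x10b5315) (.node (nat_lit 0x10b530b) (.node (nat_lit 0x10b5305) (.node (nat_lit 0x10b5303) (.leaf (nat_lit 0x10b5301) (nat_lit 2049))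
 (.leaf (nat_lit 0x10b5303) (nat_lit 2305))
) (.node (nat_lit 0x10b5307) (.leaf (nat_lit 0x10b5305) (nat_lit 2817))
 (.node (nat_lit 0x10b5309) (.leaf (nat_lit 0x10b5307) (nat_lit 2817))
 (.leaf (nat_lit 0x10b5309) (nat_lit 3073))
))) (.node (nat_lit 0x10b530f) (.node (nat_lit 0x10b530d) (.leaf (nat_lit 0x10b530b) (nat_lit 3073))
 (.leaf (nat_lit 0x10b530d) (nat_lit 2305))
) (.node (nat_lit 0x10b5311) (.leaf (nat_lit 0x10b530f) (nat_lit 2561))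
 (.node (nat_lit 0x10b5313) (.leaf (nat_lit 0x10b5311) (nat_lit 3328))
 (.leaf (nat_lit 0x10b5313) (nat_lit 3328))
)))) (.node (nat_lit 0x10b531f) (.node (nat_lit 0x10b5319) (.node (nat_lit 0x10b5317) (.leaf (nat_lit 0x10b5315) (nat_lit 2560))
 (.leaf (nat_lit 0x10b5317) (nat_lit 2816))
) (.node (nat_lit 0x10b531b) (.leaf (nat_lit 0x10b5319) (nat_lit 2304))
 (.node (nat_lit 0x10b531d) (.leaf (nat_lit 0x10b531b) (nat_lit 2560))
 (.leaf (nat_lit 0x10b531d) (nat_lit 3074))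
))) (.node (nat_lit 0x10b5345) (.node (nat_lit 0x10b5341) (.leaf (nat_lit 0x10b531f) (nat_lit 3072))
 (.node (nat_lit 0x10b5343) (.leaf (nat_lit 0x10b5341) (nat_lit 2053))
 (.leaf (nat_lit 0x10b5343) (nat_lit 2309))
)) (.node (nat_lit 0x10b5347) (.leaf (nat_lit 0x10b5345) (nat_lit 2821))
 (.node (nat_lit 0x10b5349) (.leaf (nat_lit 0x10b5347) (nat_lit 2821))
 (.leaf (nat_lit 0x10b5349) (nat_lit 3077))
))))) (.node (nat_lit 0x10b535f) (.node (nat_lit 0x10b5355) (.node (nat_lit 0x10b534f) (.node (nat_lit 0x10b534d) (.leaf (nat_lit 0x10b534b) (nat_lit 3073))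
 (.leaf (nat_lit 0x10b534d) (nat_lit 2565))
) (.node (nat_lit 0x10b5351) (.leaf (nat_lit 0x10b534f) (nat_lit 2309))
 (.node (nat_lit 0x10b5353) (.leaf (nat_lit 0x10b5351) (nat_lit 3333))
 (.leaf (nat_lit 0x10b5353) (nat_lit 3333))
))) (.node (nat_lit 0x10b5359) (.node (nat_lit 0x10b5357) (.leaf (nat_lit 0x10b5355) (nat_lit 2565))
 (.leaf (nat_lit 0x10b5357) (nat_lit 2821))
) (.node (nat_lit 0x10b535b) (.leaf (nat_lit 0x10b5359) (nat_lit 2565))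
 (.node (nat_lit 0x10b535d) (.leaf (nat_lit 0x10b535b) (nat_lit 2309))
 (.leaf (nat_lit 0x10b535d) (nat_lit 3077))
)))) (.node (nat_lit 0x10b5389) (.node (nat_lit 0x10b5383) (.node (nat_lit 0x10b5381) (.leaf (nat_lit 0x10b535f) (nat_lit 3074))
 (.leaf (nat_lit 0x10b5381) (nat_lit 2053))
) (.node (nat_lit 0x10b5385) (.leaf (nat_lit 0x10b5383) (nat_lit 2309))
 (.node (nat_lit 0x10b5387) (.leaf (nat_lit 0x10b5385) (nat_lit 2821))
 (.leaf (nat_lit 0x10b5387) (nat_lit 2821))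
))) (.node (nat_lit 0x10b538f) (.node (nat_lit 0x10b538b) (.leaf (nat_lit 0x10b5389) (nat_lit 2561))
 (.node (nat_lit 0x10b538d) (.leaf (nat_lit 0x10b538b) (nat_lit 2817))
 (.leaf (nat_lit 0x10b538d) (nat_lit 3077))
)) (.node (nat_lit 0x10b5391) (.leaf (nat_lit 0x10b538f) (nat_lit 3077))
 (.node (nat_lit 0x10b5393) (.leaf (nat_lit 0x10b5391) (nat_lit 3333))
 (.leaf (nat_lit 0x10b5393) (nat_lit 3333))
)))))) (.node (nat_lit 0x10b53df) (.node (nat_lit 0x10b53c9) (.node (nat_lit 0x10b539f) (.node (nat_lit 0x10b5399) (.node (nat_lit 0x10b5397) (.leaf (nat_lit 0x10b5395) (nat_lit 2821))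
 (.leaf (nat_lit 0x10b5397) (nat_lit 3077))
) (.node (nat_lit 0x10b539b) (.leaf (nat_lit 0x10b5399) (nat_lit 3077))
 (.node (nat_lit 0x10b539d) (.leaf (nat_lit 0x10b539b) (nat_lit 3077))
 (.leaf (nat_lit 0x10b539d) (nat_lit 2309))
))) (.node (nat_lit 0x10b53c3) (.node (nat_lit 0x10b53c1) (.leaf (nat_lit 0x10b539f) (nat_lit 2565))
 (.leaf (nat_lit 0x10b53c1) (nat_lit 2050))
) (.node (nat_lit 0x10b53c5) (.leaf (nat_lit 0x10b53c3) (nat_lit 2306))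
 (.node (nat_lit 0x10b53c7) (.leaf (nat_lit 0x10b53c5) (nat_lit 2817))
 (.leaf (nat_lit 0x10b53c7) (nat_lit 2818))
)))) (.node (nat_lit 0x10b53d3) (.node (nat_lit 0x10b53cd) (.node (nat_lit 0x10b53cb) (.leaf (nat_lit 0x10b53c9) (nat_lit 2817))
 (.leaf (nat_lit 0x10b53cb) (nat_lit 2561))
) (.node (nat_lit 0x10b53cf) (.leaf (nat_lit 0x10b53cd) (nat_lit 3073))
 (.node (nat_lit 0x10b53d1) (.leaf (nat_lit 0x10b53cf) (nat_lit 3073))
 (.leaf (nat_lit 0x10b53d1) (nat_lit 3328))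
))) (.node (nat_lit 0x10b53d9) (.node (nat_lit 0x10b53d5) (.leaf (nat_lit 0x10b53d3) (nat_lit 3328))
 (.node (nat_lit 0x10b53d7) (.leaf (nat_lit 0x10b53d5) (nat_lit 2816))
 (.leaf (nat_lit 0x10b53d7) (nat_lit 3072))
)) (.node (nat_lit 0x10b53db) (.leaf (nat_lit 0x10b53d9) (nat_lit 3074))
 (.node (nat_lit 0x10b53dd) (.leaf (nat_lit 0x10b53db) (nat_lit 3074))
 (.leaf (nat_lit 0x10b53dd) (nat_lit 2562))
))))) (.node (nat_lit 0x10b6053) (.node (nat_lit 0x10b6049) (.node (nat_lit 0x10b6043) (.node (nat_lit 0x10b6041) (.leaf (nat_lit 0x10b53df) (nat_lit 2306))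
 (.leaf (nat_lit 0x10b6041) (nat_lit 1282))
) (.node (nat_lit 0x10b6045) (.leaf (nat_lit 0x10b6043) (nat_lit 1538))
 (.node (nat_lit 0x10b6047) (.leaf (nat_lit 0x10b6045) (nat_lit 2050))
 (.leaf (nat_lit 0x10b6047) (nat_lit 2050))
))) (.node (nat_lit 0x10b604d) (.node (nat_lit 0x10b604b) (.leaf (nat_lit 0x10b6049) (nat_lit 2818))
 (.leaf (nat_lit 0x10b604b) (nat_lit 2562))
) (.node (nat_lit 0x10b604f) (.leaf (nat_lit 0x10b604d) (nat_lit 2050))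
 (.node (nat_lit 0x10b6051) (.leaf (nat_lit 0x10b604f) (nat_lit 2050))
 (.leaf (nat_lit 0x10b6051) (nat_lit 3330))
)))) (.node (nat_lit 0x10b605d) (.node (nat_lit 0x10b6057) (.node (nat_lit 0x10b6055) (.leaf (nat_lit 0x10b6053) (nat_lit 3330))
 (.leaf (nat_lit 0x10b6055) (nat_lit 2562))
) (.node (nat_lit 0x10b6059) (.leaf (nat_lit 0x10b6057) (nat_lit 2562))
 (.node (nat_lit 0x10b605b) (.leaf (nat_lit 0x10b6059) (nat_lit 2305))
 (.leaf (nat_lit 0x10b605b) (nat_lit 2049))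
))) (.node (nat_lit 0x10b6083) (.node (nat_lit 0x10b605f) (.leaf (nat_lit 0x10b605d) (nat_lit 2307))
 (.node (nat_lit 0x10b6081) (.leaf (nat_lit 0x10b605f) (nat_lit 2307))
 (.leaf (nat_lit 0x10b6081) (nat_lit 1538))
)) (.node (nat_lit 0x10b6085) (.leaf (nat_lit 0x10b6083) (nat_lit 1794))
 (.node (nat_lit 0x10b6087) (.leaf (nat_lit 0x10b6085) (nat_lit 1794))
 (.leaf (nat_lit 0x10b6087) (nat_lit 2050))
))))))) (.node (nat_lit 0x10b619d) (.node (nat_lit 0x10b6153) (.node (nat_lit 0x10b609d) (.node (nat_lit 0x10b6093) (.node (nat_lit 0x10b608d) (.node (nat_lit 0x10b608b) (.leaf (nat_lit 0x10b6089) (nat_lit 2562))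
 (.leaf (nat_lit 0x10b608b) (nat_lit 2306))
) (.node (nat_lit 0x10b608f) (.leaf (nat_lit 0x10b608d) (nat_lit 2562))
 (.node (nat_lit 0x10b6091) (.leaf (nat_lit 0x10b608f) (nat_lit 2562))
 (.leaf (nat_lit 0x10b6091) (nat_lit 3074))
))) (.node (nat_lit 0x10b6097) (.node (nat_lit 0x10b6095) (.leaf (nat_lit 0x10b6093) (nat_lit 2818))
 (.leaf (nat_lit 0x10b6095) (nat_lit 3330))
) (.node (nat_lit 0x10b6099) (.leaf (nat_lit 0x10b6097) (nat_lit 3074))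
 (.node (nat_lit 0x10b609b) (.leaf (nat_lit 0x10b6099) (nat_lit 2563))
 (.leaf (nat_lit 0x10b609b) (nat_lit 2563))
)))) (.node (nat_lit 0x10b6147) (.node (nat_lit 0x10b6141) (.node (nat_lit 0x10b609f) (.leaf (nat_lit 0x10b609d) (nat_lit 2307))
 (.leaf (nat_lit 0x10b609f) (nat_lit 2563))
) (.node (nat_lit 0x10b6143) (.leaf (nat_lit 0x10b6141) (nat_lit 1794))
 (.node (nat_lit 0x10b6145) (.leaf (nat_lit 0x10b6143) (nat_lit 2050))
 (.leaf (nat_lit 0x10b6145) (nat_lit 2050))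
))) (.node (nat_lit 0x10b614d) (.node (nat_lit 0x10b6149) (.leaf (nat_lit 0x10b6147) (nat_lit 2306))
 (.node (nat_lit 0x10b614b) (.leaf (nat_lit 0x10b6149) (nat_lit 2306))
 (.leaf (nat_lit 0x10b614b) (nat_lit 2050))
)) (.node (nat_lit 0x10b614f) (.leaf (nat_lit 0x10b614d) (nat_lit 2562))
 (.node (nat_lit 0x10b6151) (.leaf (nat_lit 0x10b614f) (nat_lit 2306))
 (.leaf (nat_lit 0x10b6151) (nat_lit 2817))
))))) (.node (nat_lit 0x10b6187) (.node (nat_lit 0x10b615d) (.node (nat_lit 0x10b6157) (.node (nat_lit 0x10b6155) (.leaf (nat_lit 0x10b6153) (nat_lit 2561))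
 (.leaf (nat_lit 0x10b6155) (nat_lit 3073))
) (.node (nat_lit 0x10b6159) (.leaf (nat_lit 0x10b6157) (nat_lit 2817))
 (.node (nat_lit 0x10b615b) (.leaf (nat_lit 0x10b6159) (nat_lit 2817))
 (.leaf (nat_lit 0x10b615b) (nat_lit 3073))
))) (.node (nat_lit 0x10b6181) (.node (nat_lit 0x10b615f) (.leaf (nat_lit 0x10b615d) (nat_lit 3073))
 (.leaf (nat_lit 0x10b615f) (nat_lit 3075))
) (.node (nat_lit 0x10b6183) (.leaf (nat_lit 0x10b6181) (nat_lit 1538))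
 (.node (nat_lit 0x10b6185) (.leaf (nat_lit 0x10b6183) (nat_lit 1794))
 (.leaf (nat_lit 0x10b6185) (nat_lit 2306))
)))) (.node (nat_lit 0x10b6191) (.node (nat_lit 0x10b618b) (.node (nat_lit 0x10b6189) (.leaf (nat_lit 0x10b6187) (nat_lit 2306))
 (.leaf (nat_lit 0x10b6189) (nat_lit 2562))
) (.node (nat_lit 0x10b618d) (.leaf (nat_lit 0x10b618b) (nat_lit 2562))
 (.node (nat_lit 0x10b618f) (.leaf (nat_lit 0x10b618d) (nat_lit 1794))
 (.leaf (nat_lit 0x10b618f) (nat_lit 2050))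
))) (.node (nat_lit 0x10b6197) (.node (nat_lit 0x10b6193) (.leaf (nat_lit 0x10b6191) (nat_lit 3073))
 (.node (nat_lit 0x10b6195) (.leaf (nat_lit 0x10b6193) (nat_lit 3073))
 (.leaf (nat_lit 0x10b6195) (nat_lit 2305))
)) (.node (nat_lit 0x10b6199) (.leaf (nat_lit 0x10b6197) (nat_lit 2561))
 (.node (nat_lit 0x10b619b) (.leaf (nat_lit 0x10b6199) (nat_lit 2561))
 (.leaf (nat_lit 0x10b619b) (nat_lit 2817))
)))))) (.node (nat_lit 0x10b6287) (.node (nat_lit 0x10b6251) (.node (nat_lit 0x10b6247) (.node (nat_lit 0x10b6241) (.node (nat_lit 0x10b619f) (.leaf (nat_lit 0x10b619d) (nat_lit 3074))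
 (.leaf (nat_lit 0x10b619f) (nat_lit 3074))
) (.node (nat_lit 0x10b6243) (.leaf (nat_lit 0x10b6241) (nat_lit 2049))
 (.node (nat_lit 0x10b6245) (.leaf (nat_lit 0x10b6243) (nat_lit 2305))
 (.leaf (nat_lit 0x10b6245) (nat_lit 2305))
))) (.node (nat_lit 0x10b624b) (.node (nat_lit 0x10b6249) (.leaf (nat_lit 0x10b6247) (nat_lit 2561))
 (.leaf (nat_lit 0x10b6249) (nat_lit 2561))
) (.node (nat_lit 0x10b624d) (.leaf (nat_lit 0x10b624b) (nat_lit 2305))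
 (.node (nat_lit 0x10b624f) (.leaf (nat_lit 0x10b624d) (nat_lit 2817))
 (.leaf (nat_lit 0x10b624f) (nat_lit 2561))
)))) (.node (nat_lit 0x10b625b) (.node (nat_lit 0x10b6255) (.node (nat_lit 0x10b6253) (.leaf (nat_lit 0x10b6251) (nat_lit 2560))
 (.leaf (nat_lit 0x10b6253) (nat_lit 2304))
) (.node (nat_lit 0x10b6257) (.leaf (nat_lit 0x10b6255) (nat_lit 2816))
 (.node (nat_lit 0x10b6259) (.leaf (nat_lit 0x10b6257) (nat_lit 2560))
 (.leaf (nat_lit 0x10b6259) (nat_lit 2560))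
))) (.node (nat_lit 0x10b6281) (.node (nat_lit 0x10b625d) (.leaf (nat_lit 0x10b625b) (nat_lit 2816))
 (.node (nat_lit 0x10b625f) (.leaf (nat_lit 0x10b625d) (nat_lit 2816))
 (.leaf (nat_lit 0x10b625f) (nat_lit 3072))
)) (.node (nat_lit 0x10b6283) (.leaf (nat_lit 0x10b6281) (nat_lit 1793))
 (.node (nat_lit 0x10b6285) (.leaf (nat_lit 0x10b6283) (nat_lit 2049))
 (.leaf (nat_lit 0x10b6285) (nat_lit 2561))
))))) (.node (nat_lit 0x10b629b) (.node (nat_lit 0x10b6291) (.node (nat_lit 0x10b628b) (.node (nat_lit 0x10b6289) (.leaf (nat_lit 0x10b6287) (nat_lit 2561))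
 (.leaf (nat_lit 0x10b6289) (nat_lit 2817))
) (.node (nat_lit 0x10b628d) (.leaf (nat_lit 0x10b628b) (nat_lit 2817))
 (.node (nat_lit 0x10b628f) (.leaf (nat_lit 0x10b628d) (nat_lit 2049))
 (.leaf (nat_lit 0x10b628f) (nat_lit 2305))
))) (.node (nat_lit 0x10b6295) (.node (nat_lit 0x10b6293) (.leaf (nat_lit 0x10b6291) (nat_lit 2816))
 (.leaf (nat_lit 0x10b6293) (nat_lit 2816))
) (.node (nat_lit 0x10b6297) (.leaf (nat_lit 0x10b6295) (nat_lit 2048))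
 (.node (nat_lit 0x10b6299) (.leaf (nat_lit 0x10b6297) (nat_lit 2304))
 (.leaf (nat_lit 0x10b6299) (nat_lit 2304))
)))) (.node (nat_lit 0x10b6345) (.node (nat_lit 0x10b629f) (.node (nat_lit 0x10b629d) (.leaf (nat_lit 0x10b629b) (nat_lit 2560))
 (.leaf (nat_lit 0x10b629d) (nat_lit 3072))
) (.node (nat_lit 0x10b6341) (.leaf (nat_lit 0x10b629f) (nat_lit 3072))
 (.node (nat_lit 0x10b6343) (.leaf (nat_lit 0x10b6341) (nat_lit 1537))
 (.leaf (nat_lit 0x10b6343) (nat_lit 1793))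
))) (.node (nat_lit 0x10b634b) (.node (nat_lit 0x10b6347) (.leaf (nat_lit 0x10b6345) (nat_lit 2307))
 (.node (nat_lit 0x10b6349) (.leaf (nat_lit 0x10b6347) (nat_lit 2305))
 (.leaf (nat_lit 0x10b6349) (nat_lit 3073))
)) (.node (nat_lit 0x10b634d) (.leaf (nat_lit 0x10b634b) (nat_lit 2817))
 (.node (nat_lit 0x10b634f) (.leaf (nat_lit 0x10b634d) (nat_lit 2305))
 (.leaf (nat_lit 0x10b634f) (nat_lit 2305))
)))))))) (.node (nat_lit 0x10b69d9) (.node (nat_lit 0x10b6885) (.node (nat_lit 0x10b639b) (.node (nat_lit 0x10b6385) (.node (nat_lit 0x10b635b) (.node (nat_lit 0x10b6355) (.node (nat_lit 0x10b6353) (.leaf (nat_lit 0x10b6351) (nat_lit 3072))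
 (.leaf (nat_lit 0x10b6353) (nat_lit 3328))
) (.node (nat_lit 0x10b6357) (.leaf (nat_lit 0x10b6355) (nat_lit 2560))
 (.node (nat_lit 0x10b6359) (.leaf (nat_lit 0x10b6357) (nat_lit 2560))
 (.leaf (nat_lit 0x10b6359) (nat_lit 2048))
))) (.node (nat_lit 0x10b635f) (.node (nat_lit 0x10b635d) (.leaf (nat_lit 0x10b635b) (nat_lit 1792))
 (.leaf (nat_lit 0x10b635d) (nat_lit 2560))
) (.node (nat_lit 0x10b6381) (.leaf (nat_lit 0x10b635f) (nat_lit 2563))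
 (.node (nat_lit 0x10b6383) (.leaf (nat_lit 0x10b6381) (nat_lit 1795))
 (.leaf (nat_lit 0x10b6383) (nat_lit 2051))
)))) (.node (nat_lit 0x10b638f) (.node (nat_lit 0x10b6389) (.node (nat_lit 0x10b6387) (.leaf (nat_lit 0x10b6385) (nat_lit 2049))
 (.leaf (nat_lit 0x10b6387) (nat_lit 2305))
) (.node (nat_lit 0x10b638b) (.leaf (nat_lit 0x10b6389) (nat_lit 2817))
 (.node (nat_lit 0x10b638d) (.leaf (nat_lit 0x10b638b) (nat_lit 2561))
 (.leaf (nat_lit 0x10b638d) (nat_lit 2817))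
))) (.node (nat_lit 0x10b6395) (.node (nat_lit 0x10b6391) (.leaf (nat_lit 0x10b638f) (nat_lit 2817))
 (.node (nat_lit 0x10b6393) (.leaf (nat_lit 0x10b6391) (nat_lit 3074))
 (.leaf (nat_lit 0x10b6393) (nat_lit 2818))
)) (.node (nat_lit 0x10b6397) (.leaf (nat_lit 0x10b6395) (nat_lit 3072))
 (.node (nat_lit 0x10b6399) (.leaf (nat_lit 0x10b6397) (nat_lit 2816))
 (.leaf (nat_lit 0x10b6399) (nat_lit 2304))
))))) (.node (nat_lit 0x10b684f) (.node (nat_lit 0x10b6845) (.node (nat_lit 0x10b639f) (.node (nat_lit 0x10b639d) (.leaf (nat_lit 0x10b639b) (nat_lit 2560))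
 (.leaf (nat_lit 0x10b639d) (nat_lit 2051))
) (.node (nat_lit 0x10b6841) (.leaf (nat_lit 0x10b639f) (nat_lit 2307))
 (.node (nat_lit 0x10b6843) (.leaf (nat_lit 0x10b6841) (nat_lit 1541))
 (.leaf (nat_lit 0x10b6843) (nat_lit 1797))
))) (.node (nat_lit 0x10b6849) (.node (nat_lit 0x10b6847) (.leaf (nat_lit 0x10b6845) (nat_lit 2308))
 (.leaf (nat_lit 0x10b6847) (nat_lit 2309))
) (.node (nat_lit 0x10b684b) (.leaf (nat_lit 0x10b6849) (nat_lit 2562))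
 (.node (nat_lit 0x10b684d) (.leaf (nat_lit 0x10b684b) (nat_lit 2562))
 (.leaf (nat_lit 0x10b684d) (nat_lit 2309))
)))) (.node (nat_lit 0x10b6859) (.node (nat_lit 0x10b6853) (.node (nat_lit 0x10b6851) (.leaf (nat_lit 0x10b684f) (nat_lit 2309))
 (.leaf (nat_lit 0x10b6851) (nat_lit 3332))
) (.node (nat_lit 0x10b6855) (.leaf (nat_lit 0x10b6853) (nat_lit 3332))
 (.node (nat_lit 0x10b6857) (.leaf (nat_lit 0x10b6855) (nat_lit 2564))
 (.leaf (nat_lit 0x10b6857) (nat_lit 2564))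
))) (.node (nat_lit 0x10b685f) (.node (nat_lit 0x10b685b) (.leaf (nat_lit 0x10b6859) (nat_lit 2305))
 (.node (nat_lit 0x10b685d) (.leaf (nat_lit 0x10b685b) (nat_lit 2309))
 (.leaf (nat_lit 0x10b685d) (nat_lit 2565))
)) (.node (nat_lit 0x10b6881) (.leaf (nat_lit 0x10b685f) (nat_lit 2565))
 (.node (nat_lit 0x10b6883) (.leaf (nat_lit 0x10b6881) (nat_lit 1796))
 (.leaf (nat_lit 0x10b6883) (nat_lit 2052))
)))))) (.node (nat_lit 0x10b690f) (.node (nat_lit 0x10b6899) (.node (nat_lit 0x10b688f) (.node (nat_lit 0x10b6889) (.node (nat_lit 0x10b6887) (.leaf (nat_lit 0x10b6885) (nat_lit 2052))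
 (.leaf (nat_lit 0x10b6887) (nat_lit 2308))
) (.node (nat_lit 0x10b688b) (.leaf (nat_lit 0x10b6889) (nat_lit 2562))
 (.node (nat_lit 0x10b688d) (.leaf (nat_lit 0x10b688b) (nat_lit 2818))
 (.leaf (nat_lit 0x10b688d) (nat_lit 2565))
))) (.node (nat_lit 0x10b6893) (.node (nat_lit 0x10b6891) (.leaf (nat_lit 0x10b688f) (nat_lit 2821))
 (.leaf (nat_lit 0x10b6891) (nat_lit 3332))
) (.node (nat_lit 0x10b6895) (.leaf (nat_lit 0x10b6893) (nat_lit 3076))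
 (.node (nat_lit 0x10b6897) (.leaf (nat_lit 0x10b6895) (nat_lit 3589))
 (.leaf (nat_lit 0x10b6897) (nat_lit 3333))
)))) (.node (nat_lit 0x10b6903) (.node (nat_lit 0x10b689d) (.node (nat_lit 0x10b689b) (.leaf (nat_lit 0x10b6899) (nat_lit 2821))
 (.leaf (nat_lit 0x10b689b) (nat_lit 2565))
) (.node (nat_lit 0x10b689f) (.leaf (nat_lit 0x10b689d) (nat_lit 2820))
 (.node (nat_lit 0x10b6901) (.leaf (nat_lit 0x10b689f) (nat_lit 2564))
 (.leaf (nat_lit 0x10b6901) (nat_lit 2050))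
))) (.node (nat_lit 0x10b6909) (.node (nat_lit 0x10b6905) (.leaf (nat_lit 0x10b6903) (nat_lit 2306))
 (.node (nat_lit 0x10b6907) (.leaf (nat_lit 0x10b6905) (nat_lit 2562))
 (.leaf (nat_lit 0x10b6907) (nat_lit 2818))
)) (.node (nat_lit 0x10b690b) (.leaf (nat_lit 0x10b6909) (nat_lit 2306))
 (.node (nat_lit 0x10b690d) (.leaf (nat_lit 0x10b690b) (nat_lit 2562))
 (.leaf (nat_lit 0x10b690d) (nat_lit 2818))
))))) (.node (nat_lit 0x10b69c3) (.node (nat_lit 0x10b6919) (.node (nat_lit 0x10b6913) (.node (nat_lit 0x10b6911) (.leaf (nat_lit 0x10b690f) (nat_lit 2820))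
 (.leaf (nat_lit 0x10b6911) (nat_lit 3073))
) (.node (nat_lit 0x10b6915) (.leaf (nat_lit 0x10b6913) (nat_lit 2817))
 (.node (nat_lit 0x10b6917) (.leaf (nat_lit 0x10b6915) (nat_lit 3332))
 (.leaf (nat_lit 0x10b6917) (nat_lit 3332))
))) (.node (nat_lit 0x10b691d) (.node (nat_lit 0x10b691b) (.leaf (nat_lit 0x10b6919) (nat_lit 3332))
 (.leaf (nat_lit 0x10b691b) (nat_lit 3076))
) (.node (nat_lit 0x10b691f) (.leaf (nat_lit 0x10b691d) (nat_lit 3332))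
 (.node (nat_lit 0x10b69c1) (.leaf (nat_lit 0x10b691f) (nat_lit 3076))
 (.leaf (nat_lit 0x10b69c1) (nat_lit 1796))
)))) (.node (nat_lit 0x10b69cd) (.node (nat_lit 0x10b69c7) (.node (nat_lit 0x10b69c5) (.leaf (nat_lit 0x10b69c3) (nat_lit 2052))
 (.leaf (nat_lit 0x10b69c5) (nat_lit 2562))
) (.node (nat_lit 0x10b69c9) (.leaf (nat_lit 0x10b69c7) (nat_lit 2564))
 (.node (nat_lit 0x10b69cb) (.leaf (nat_lit 0x10b69c9) (nat_lit 2820))
 (.leaf (nat_lit 0x10b69cb) (nat_lit 2818))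
))) (.node (nat_lit 0x10b69d3) (.node (nat_lit 0x10b69cf) (.leaf (nat_lit 0x10b69cd) (nat_lit 2308))
 (.node (nat_lit 0x10b69d1) (.leaf (nat_lit 0x10b69cf) (nat_lit 2052))
 (.leaf (nat_lit 0x10b69d1) (nat_lit 3329))
)) (.node (nat_lit 0x10b69d5) (.leaf (nat_lit 0x10b69d3) (nat_lit 3332))
 (.node (nat_lit 0x10b69d7) (.leaf (nat_lit 0x10b69d5) (nat_lit 2564))
 (.leaf (nat_lit 0x10b69d7) (nat_lit 2820))
))))))) (.node (nat_lit 0x10b6b0d) (.node (nat_lit 0x10b6a83) (.node (nat_lit 0x10b6a4d) (.node (nat_lit 0x10b6a43) (.node (nat_lit 0x10b69dd) (.node (nat_lit 0x10b69db) (.leaf (nat_lit 0x10b69d9) (nat_lit 2820))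
 (.leaf (nat_lit 0x10b69db) (nat_lit 2564))
) (.node (nat_lit 0x10b69df) (.leaf (nat_lit 0x10b69dd) (nat_lit 3332))
 (.node (nat_lit 0x10b6a41) (.leaf (nat_lit 0x10b69df) (nat_lit 3330))
 (.leaf (nat_lit 0x10b6a41) (nat_lit 2305))
))) (.node (nat_lit 0x10b6a47) (.node (nat_lit 0x10b6a45) (.leaf (nat_lit 0x10b6a43) (nat_lit 2561))
 (.leaf (nat_lit 0x10b6a45) (nat_lit 2820))
) (.node (nat_lit 0x10b6a49) (.leaf (nat_lit 0x10b6a47) (nat_lit 2820))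
 (.node (nat_lit 0x10b6a4b) (.leaf (nat_lit 0x10b6a49) (nat_lit 2561))
 (.leaf (nat_lit 0x10b6a4b) (nat_lit 2817))
)))) (.node (nat_lit 0x10b6a57) (.node (nat_lit 0x10b6a51) (.node (nat_lit 0x10b6a4f) (.leaf (nat_lit 0x10b6a4d) (nat_lit 2821))
 (.leaf (nat_lit 0x10b6a4f) (nat_lit 3077))
) (.node (nat_lit 0x10b6a53) (.leaf (nat_lit 0x10b6a51) (nat_lit 2816))
 (.node (nat_lit 0x10b6a55) (.leaf (nat_lit 0x10b6a53) (nat_lit 2560))
 (.leaf (nat_lit 0x10b6a55) (nat_lit 3076))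
))) (.node (nat_lit 0x10b6a5d) (.node (nat_lit 0x10b6a59) (.leaf (nat_lit 0x10b6a57) (nat_lit 3076))
 (.node (nat_lit 0x10b6a5b) (.leaf (nat_lit 0x10b6a59) (nat_lit 3076))
 (.leaf (nat_lit 0x10b6a5b) (nat_lit 2820))
)) (.node (nat_lit 0x10b6a5f) (.leaf (nat_lit 0x10b6a5d) (nat_lit 3333))
 (.node (nat_lit 0x10b6a81) (.leaf (nat_lit 0x10b6a5f) (nat_lit 3077))
 (.leaf (nat_lit 0x10b6a81) (nat_lit 2052))
))))) (.node (nat_lit 0x10b6a97) (.node (nat_lit 0x10b6a8d) (.node (nat_lit 0x10b6a87) (.node (nat_lit 0x10b6a85) (.leaf (nat_lit 0x10b6a83) (nat_lit 2308))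
 (.leaf (nat_lit 0x10b6a85) (nat_lit 2817))
) (.node (nat_lit 0x10b6a89) (.leaf (nat_lit 0x10b6a87) (nat_lit 2820))
 (.node (nat_lit 0x10b6a8b) (.leaf (nat_lit 0x10b6a89) (nat_lit 3076))
 (.leaf (nat_lit 0x10b6a8b) (nat_lit 3076))
))) (.node (nat_lit 0x10b6a91) (.node (nat_lit 0x10b6a8f) (.leaf (nat_lit 0x10b6a8d) (nat_lit 2564))
 (.leaf (nat_lit 0x10b6a8f) (nat_lit 2308))
) (.node (nat_lit 0x10b6a93) (.leaf (nat_lit 0x10b6a91) (nat_lit 3072))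
 (.node (nat_lit 0x10b6a95) (.leaf (nat_lit 0x10b6a93) (nat_lit 3076))
 (.leaf (nat_lit 0x10b6a95) (nat_lit 2308))
)))) (.node (nat_lit 0x10b6b01) (.node (nat_lit 0x10b6a9b) (.node (nat_lit 0x10b6a99) (.leaf (nat_lit 0x10b6a97) (nat_lit 2564))
 (.leaf (nat_lit 0x10b6a99) (nat_lit 2820))
) (.node (nat_lit 0x10b6a9d) (.leaf (nat_lit 0x10b6a9b) (nat_lit 2564))
 (.node (nat_lit 0x10b6a9f) (.leaf (nat_lit 0x10b6a9d) (nat_lit 3332))
 (.leaf (nat_lit 0x10b6a9f) (nat_lit 3332))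
))) (.node (nat_lit 0x10b6b07) (.node (nat_lit 0x10b6b03) (.leaf (nat_lit 0x10b6b01) (nat_lit 1793))
 (.node (nat_lit 0x10b6b05) (.leaf (nat_lit 0x10b6b03) (nat_lit 2049))
 (.leaf (nat_lit 0x10b6b05) (nat_lit 2564))
)) (.node (nat_lit 0x10b6b09) (.leaf (nat_lit 0x10b6b07) (nat_lit 2561))
 (.node (nat_lit 0x10b6b0b) (.leaf (nat_lit 0x10b6b09) (nat_lit 2817))
 (.leaf (nat_lit 0x10b6b0b) (nat_lit 2817))
)))))) (.node (nat_lit 0x10b6bd7) (.node (nat_lit 0x10b6bc1) (.node (nat_lit 0x10b6b17) (.node (nat_lit 0x10b6b11) (.node (nat_lit 0x10b6b0f) (.leaf (nat_lit 0x10b6b0d) (nat_lit 2561))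
 (.leaf (nat_lit 0x10b6b0f) (nat_lit 2561))
) (.node (nat_lit 0x10b6b13) (.leaf (nat_lit 0x10b6b11) (nat_lit 3072))
 (.node (nat_lit 0x10b6b15) (.leaf (nat_lit 0x10b6b13) (nat_lit 3072))
 (.leaf (nat_lit 0x10b6b15) (nat_lit 2820))
))) (.node (nat_lit 0x10b6b1b) (.node (nat_lit 0x10b6b19) (.leaf (nat_lit 0x10b6b17) (nat_lit 2816))
 (.leaf (nat_lit 0x10b6b19) (nat_lit 2048))
) (.node (nat_lit 0x10b6b1d) (.leaf (nat_lit 0x10b6b1b) (nat_lit 2304))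
 (.node (nat_lit 0x10b6b1f) (.leaf (nat_lit 0x10b6b1d) (nat_lit 2817))
 (.leaf (nat_lit 0x10b6b1f) (nat_lit 2816))
)))) (.node (nat_lit 0x10b6bcb) (.node (nat_lit 0x10b6bc5) (.node (nat_lit 0x10b6bc3) (.leaf (nat_lit 0x10b6bc1) (nat_lit 2052))
 (.leaf (nat_lit 0x10b6bc3) (nat_lit 2308))
) (.node (nat_lit 0x10b6bc7) (.leaf (nat_lit 0x10b6bc5) (nat_lit 2308))
 (.node (nat_lit 0x10b6bc9) (.leaf (nat_lit 0x10b6bc7) (nat_lit 2564))
 (.leaf (nat_lit 0x10b6bc9) (nat_lit 2820))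
))) (.node (nat_lit 0x10b6bd1) (.node (nat_lit 0x10b6bcd) (.leaf (nat_lit 0x10b6bcb) (nat_lit 3076))
 (.node (nat_lit 0x10b6bcf) (.leaf (nat_lit 0x10b6bcd) (nat_lit 2817))
 (.leaf (nat_lit 0x10b6bcf) (nat_lit 3073))
)) (.node (nat_lit 0x10b6bd3) (.leaf (nat_lit 0x10b6bd1) (nat_lit 3328))
 (.node (nat_lit 0x10b6bd5) (.leaf (nat_lit 0x10b6bd3) (nat_lit 3072))
 (.leaf (nat_lit 0x10b6bd5) (nat_lit 3332))
))))) (.node (nat_lit 0x10b704b) (.node (nat_lit 0x10b7041) (.node (nat_lit 0x10b6bdb) (.node (nat_lit 0x10b6bd9) (.leaf (nat_lit 0x10b6bd7) (nat_lit 3076))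
 (.leaf (nat_lit 0x10b6bd9) (nat_lit 2820))
) (.node (nat_lit 0x10b6bdd) (.leaf (nat_lit 0x10b6bdb) (nat_lit 2564))
 (.node (nat_lit 0x10b6bdf) (.leaf (nat_lit 0x10b6bdd) (nat_lit 2564))
 (.leaf (nat_lit 0x10b6bdf) (nat_lit 2308))
))) (.node (nat_lit 0x10b7045) (.node (nat_lit 0x10b7043) (.leaf (nat_lit 0x10b7041) (nat_lit 1541))
 (.leaf (nat_lit 0x10b7043) (nat_lit 1797))
) (.node (nat_lit 0x10b7047) (.leaf (nat_lit 0x10b7045) (nat_lit 2309))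
 (.node (nat_lit 0x10b7049) (.leaf (nat_lit 0x10b7047) (nat_lit 2309))
 (.leaf (nat_lit 0x10b7049) (nat_lit 2306))
)))) (.node (nat_lit 0x10b7055) (.node (nat_lit 0x10b704f) (.node (nat_lit 0x10b704d) (.leaf (nat_lit 0x10b704b) (nat_lit 2306))
 (.leaf (nat_lit 0x10b704d) (nat_lit 2565))
) (.node (nat_lit 0x10b7051) (.leaf (nat_lit 0x10b704f) (nat_lit 2565))
 (.node (nat_lit 0x10b7053) (.leaf (nat_lit 0x10b7051) (nat_lit 3329))
 (.leaf (nat_lit 0x10b7053) (nat_lit 3333))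
))) (.node (nat_lit 0x10b705b) (.node (nat_lit 0x10b7057) (.leaf (nat_lit 0x10b7055) (nat_lit 2821))
 (.node (nat_lit 0x10b7059) (.leaf (nat_lit 0x10b7057) (nat_lit 2821))
 (.leaf (nat_lit 0x10b7059) (nat_lit 2563))
)) (.node (nat_lit 0x10b705d) (.leaf (nat_lit 0x10b705b) (nat_lit 2563))
 (.node (nat_lit 0x10b705f) (.leaf (nat_lit 0x10b705d) (nat_lit 2309))
 (.leaf (nat_lit 0x10b705f) (nat_lit 2309))
))))))))) (.node (nat_lit 0x10b7991) (.node (nat_lit 0x10b7309) (.node (nat_lit 0x10b71d5) (.node (nat_lit 0x10b710b) (.node (nat_lit 0x10b7095) (.node (nat_lit 0x10b708b) (.node (nat_lit 0x10b7085) (.node (nat_lit 0x10b7083) (.leaf (nat_lit 0x10b7081) (nat_lit 1794))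
 (.leaf (nat_lit 0x10b7083) (nat_lit 2050))
) (.node (nat_lit 0x10b7087) (.leaf (nat_lit 0x10b7085) (nat_lit 2050))
 (.node (nat_lit 0x10b7089) (.leaf (nat_lit 0x10b7087) (nat_lit 2306))
 (.leaf (nat_lit 0x10b7089) (nat_lit 2821))
))) (.node (nat_lit 0x10b708f) (.node (nat_lit 0x10b708d) (.leaf (nat_lit 0x10b708b) (nat_lit 2565))
 (.leaf (nat_lit 0x10b708d) (nat_lit 2818))
) (.node (nat_lit 0x10b7091) (.leaf (nat_lit 0x10b708f) (nat_lit 2562))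
 (.node (nat_lit 0x10b7093) (.leaf (nat_lit 0x10b7091) (nat_lit 3330))
 (.leaf (nat_lit 0x10b7093) (nat_lit 3074))
)))) (.node (nat_lit 0x10b709f) (.node (nat_lit 0x10b7099) (.node (nat_lit 0x10b7097) (.leaf (nat_lit 0x10b7095) (nat_lit 3588))
 (.leaf (nat_lit 0x10b7097) (nat_lit 3332))
) (.node (nat_lit 0x10b709b) (.leaf (nat_lit 0x10b7099) (nat_lit 2563))
 (.node (nat_lit 0x10b709d) (.leaf (nat_lit 0x10b709b) (nat_lit 2819))
 (.leaf (nat_lit 0x10b709d) (nat_lit 2565))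
))) (.node (nat_lit 0x10b7105) (.node (nat_lit 0x10b7101) (.leaf (nat_lit 0x10b709f) (nat_lit 2821))
 (.node (nat_lit 0x10b7103) (.leaf (nat_lit 0x10b7101) (nat_lit 1794))
 (.leaf (nat_lit 0x10b7103) (nat_lit 2050))
)) (.node (nat_lit 0x10b7107) (.leaf (nat_lit 0x10b7105) (nat_lit 2562))
 (.node (nat_lit 0x10b7109) (.leaf (nat_lit 0x10b7107) (nat_lit 2562))
 (.leaf (nat_lit 0x10b7109) (nat_lit 2050))
))))) (.node (nat_lit 0x10b711f) (.node (nat_lit 0x10b7115) (.node (nat_lit 0x10b710f) (.node (nat_lit 0x10b710d) (.leaf (nat_lit 0x10b710b) (nat_lit 2306))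
 (.leaf (nat_lit 0x10b710d) (nat_lit 2818))
) (.node (nat_lit 0x10b7111) (.leaf (nat_lit 0x10b710f) (nat_lit 2818))
 (.node (nat_lit 0x10b7113) (.leaf (nat_lit 0x10b7111) (nat_lit 3329))
 (.leaf (nat_lit 0x10b7113) (nat_lit 3329))
))) (.node (nat_lit 0x10b7119) (.node (nat_lit 0x10b7117) (.leaf (nat_lit 0x10b7115) (nat_lit 2561))
 (.leaf (nat_lit 0x10b7117) (nat_lit 2817))
) (.node (nat_lit 0x10b711b) (.leaf (nat_lit 0x10b7119) (nat_lit 3330))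
 (.node (nat_lit 0x10b711d) (.leaf (nat_lit 0x10b711b) (nat_lit 3330))
 (.leaf (nat_lit 0x10b711d) (nat_lit 2817))
)))) (.node (nat_lit 0x10b71c9) (.node (nat_lit 0x10b71c3) (.node (nat_lit 0x10b71c1) (.leaf (nat_lit 0x10b711f) (nat_lit 3073))
 (.leaf (nat_lit 0x10b71c1) (nat_lit 2050))
) (.node (nat_lit 0x10b71c5) (.leaf (nat_lit 0x10b71c3) (nat_lit 2306))
 (.node (nat_lit 0x10b71c7) (.leaf (nat_lit 0x10b71c5) (nat_lit 2306))
 (.leaf (nat_lit 0x10b71c7) (nat_lit 2562))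
))) (.node (nat_lit 0x10b71cf) (.node (nat_lit 0x10b71cb) (.leaf (nat_lit 0x10b71c9) (nat_lit 2818))
 (.node (nat_lit 0x10b71cd) (.leaf (nat_lit 0x10b71cb) (nat_lit 2562))
 (.leaf (nat_lit 0x10b71cd) (nat_lit 2562))
)) (.node (nat_lit 0x10b71d1) (.leaf (nat_lit 0x10b71cf) (nat_lit 2306))
 (.node (nat_lit 0x10b71d3) (.leaf (nat_lit 0x10b71d1) (nat_lit 3073))
 (.leaf (nat_lit 0x10b71d3) (nat_lit 2817))
)))))) (.node (nat_lit 0x10b725f) (.node (nat_lit 0x10b7249) (.node (nat_lit 0x10b71df) (.node (nat_lit 0x10b71d9) (.node (nat_lit 0x10b71d7) (.leaf (nat_lit 0x10b71d5) (nat_lit 3329))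
 (.leaf (nat_lit 0x10b71d7) (nat_lit 3073))
) (.node (nat_lit 0x10b71db) (.leaf (nat_lit 0x10b71d9) (nat_lit 3330))
 (.node (nat_lit 0x10b71dd) (.leaf (nat_lit 0x10b71db) (nat_lit 3331))
 (.leaf (nat_lit 0x10b71dd) (nat_lit 3073))
))) (.node (nat_lit 0x10b7243) (.node (nat_lit 0x10b7241) (.leaf (nat_lit 0x10b71df) (nat_lit 3329))
 (.leaf (nat_lit 0x10b7241) (nat_lit 2309))
) (.node (nat_lit 0x10b7245) (.leaf (nat_lit 0x10b7243) (nat_lit 2565))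
 (.node (nat_lit 0x10b7247) (.leaf (nat_lit 0x10b7245) (nat_lit 2561))
 (.leaf (nat_lit 0x10b7247) (nat_lit 2817))
)))) (.node (nat_lit 0x10b7253) (.node (nat_lit 0x10b724d) (.node (nat_lit 0x10b724b) (.leaf (nat_lit 0x10b7249) (nat_lit 3073))
 (.leaf (nat_lit 0x10b724b) (nat_lit 2817))
) (.node (nat_lit 0x10b724f) (.leaf (nat_lit 0x10b724d) (nat_lit 2821))
 (.node (nat_lit 0x10b7251) (.leaf (nat_lit 0x10b724f) (nat_lit 2565))
 (.leaf (nat_lit 0x10b7251) (nat_lit 2821))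
))) (.node (nat_lit 0x10b7259) (.node (nat_lit 0x10b7255) (.leaf (nat_lit 0x10b7253) (nat_lit 2565))
 (.node (nat_lit 0x10b7257) (.leaf (nat_lit 0x10b7255) (nat_lit 3072))
 (.leaf (nat_lit 0x10b7257) (nat_lit 2816))
)) (.node (nat_lit 0x10b725b) (.leaf (nat_lit 0x10b7259) (nat_lit 3074))
 (.node (nat_lit 0x10b725d) (.leaf (nat_lit 0x10b725b) (nat_lit 3330))
 (.leaf (nat_lit 0x10b725d) (nat_lit 2821))
))))) (.node (nat_lit 0x10b7293) (.node (nat_lit 0x10b7289) (.node (nat_lit 0x10b7283) (.node (nat_lit 0x10b7281) (.leaf (nat_lit 0x10b725f) (nat_lit 3077))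
 (.leaf (nat_lit 0x10b7281) (nat_lit 2049))
) (.node (nat_lit 0x10b7285) (.leaf (nat_lit 0x10b7283) (nat_lit 2305))
 (.node (nat_lit 0x10b7287) (.leaf (nat_lit 0x10b7285) (nat_lit 2817))
 (.leaf (nat_lit 0x10b7287) (nat_lit 2817))
))) (.node (nat_lit 0x10b728d) (.node (nat_lit 0x10b728b) (.leaf (nat_lit 0x10b7289) (nat_lit 2305))
 (.leaf (nat_lit 0x10b728b) (nat_lit 2561))
) (.node (nat_lit 0x10b728f) (.leaf (nat_lit 0x10b728d) (nat_lit 3073))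
 (.node (nat_lit 0x10b7291) (.leaf (nat_lit 0x10b728f) (nat_lit 3073))
 (.leaf (nat_lit 0x10b7291) (nat_lit 3072))
)))) (.node (nat_lit 0x10b729d) (.node (nat_lit 0x10b7297) (.node (nat_lit 0x10b7295) (.leaf (nat_lit 0x10b7293) (nat_lit 3072))
 (.leaf (nat_lit 0x10b7295) (nat_lit 2304))
) (.node (nat_lit 0x10b7299) (.leaf (nat_lit 0x10b7297) (nat_lit 2560))
 (.node (nat_lit 0x10b729b) (.leaf (nat_lit 0x10b7299) (nat_lit 3328))
 (.leaf (nat_lit 0x10b729b) (nat_lit 3333))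
))) (.node (nat_lit 0x10b7303) (.node (nat_lit 0x10b729f) (.leaf (nat_lit 0x10b729d) (nat_lit 2565))
 (.node (nat_lit 0x10b7301) (.leaf (nat_lit 0x10b729f) (nat_lit 2821))
 (.leaf (nat_lit 0x10b7301) (nat_lit 2051))
)) (.node (nat_lit 0x10b7305) (.leaf (nat_lit 0x10b7303) (nat_lit 2307))
 (.node (nat_lit 0x10b7307) (.leaf (nat_lit 0x10b7305) (nat_lit 2305))
 (.leaf (nat_lit 0x10b7307) (nat_lit 2561))
))))))) (.node (nat_lit 0x10b785d) (.node (nat_lit 0x10b73d3) (.node (nat_lit 0x10b731d) (.node (nat_lit 0x10b7313) (.node (nat_lit 0x10b730d) (.node (nat_lit 0x10b730b) (.leaf (nat_lit 0x10b7309) (nat_lit 3073))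
 (.leaf (nat_lit 0x10b730b) (nat_lit 2817))
) (.node (nat_lit 0x10b730f) (.leaf (nat_lit 0x10b730d) (nat_lit 3073))
 (.node (nat_lit 0x10b7311) (.leaf (nat_lit 0x10b730f) (nat_lit 2817))
 (.leaf (nat_lit 0x10b7311) (nat_lit 3330))
))) (.node (nat_lit 0x10b7317) (.node (nat_lit 0x10b7315) (.leaf (nat_lit 0x10b7313) (nat_lit 3074))
 (.leaf (nat_lit 0x10b7315) (nat_lit 3328))
) (.node (nat_lit 0x10b7319) (.leaf (nat_lit 0x10b7317) (nat_lit 3072))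
 (.node (nat_lit 0x10b731b) (.leaf (nat_lit 0x10b7319) (nat_lit 2307))
 (.leaf (nat_lit 0x10b731b) (nat_lit 2563))
)))) (.node (nat_lit 0x10b73c7) (.node (nat_lit 0x10b73c1) (.node (nat_lit 0x10b731f) (.leaf (nat_lit 0x10b731d) (nat_lit 2560))
 (.leaf (nat_lit 0x10b731f) (nat_lit 2816))
) (.node (nat_lit 0x10b73c3) (.leaf (nat_lit 0x10b73c1) (nat_lit 1793))
 (.node (nat_lit 0x10b73c5) (.leaf (nat_lit 0x10b73c3) (nat_lit 2049))
 (.leaf (nat_lit 0x10b73c5) (nat_lit 2563))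
))) (.node (nat_lit 0x10b73cd) (.node (nat_lit 0x10b73c9) (.leaf (nat_lit 0x10b73c7) (nat_lit 2561))
 (.node (nat_lit 0x10b73cb) (.leaf (nat_lit 0x10b73c9) (nat_lit 2561))
 (.leaf (nat_lit 0x10b73cb) (nat_lit 2561))
)) (.node (nat_lit 0x10b73cf) (.leaf (nat_lit 0x10b73cd) (nat_lit 2817))
 (.node (nat_lit 0x10b73d1) (.leaf (nat_lit 0x10b73cf) (nat_lit 2817))
 (.leaf (nat_lit 0x10b73d1) (nat_lit 3072))
))))) (.node (nat_lit 0x10b7847) (.node (nat_lit 0x10b73dd) (.node (nat_lit 0x10b73d7) (.node (nat_lit 0x10b73d5) (.leaf (nat_lit 0x10b73d3) (nat_lit 3072))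
 (.leaf (nat_lit 0x10b73d5) (nat_lit 2816))
) (.node (nat_lit 0x10b73d9) (.leaf (nat_lit 0x10b73d7) (nat_lit 2816))
 (.node (nat_lit 0x10b73db) (.leaf (nat_lit 0x10b73d9) (nat_lit 2816))
 (.leaf (nat_lit 0x10b73db) (nat_lit 2819))
))) (.node (nat_lit 0x10b7841) (.node (nat_lit 0x10b73df) (.leaf (nat_lit 0x10b73dd) (nat_lit 2304))
 (.leaf (nat_lit 0x10b73df) (nat_lit 2048))
) (.node (nat_lit 0x10b7843) (.leaf (nat_lit 0x10b7841) (nat_lit 1284))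
 (.node (nat_lit 0x10b7845) (.leaf (nat_lit 0x10b7843) (nat_lit 1540))
 (.leaf (nat_lit 0x10b7845) (nat_lit 2052))
)))) (.node (nat_lit 0x10b7851) (.node (nat_lit 0x10b784b) (.node (nat_lit 0x10b7849) (.leaf (nat_lit 0x10b7847) (nat_lit 2052))
 (.leaf (nat_lit 0x10b7849) (nat_lit 2562))
) (.node (nat_lit 0x10b784d) (.leaf (nat_lit 0x10b784b) (nat_lit 2306))
 (.node (nat_lit 0x10b784f) (.leaf (nat_lit 0x10b784d) (nat_lit 2306))
 (.leaf (nat_lit 0x10b784f) (nat_lit 2306))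
))) (.node (nat_lit 0x10b7857) (.node (nat_lit 0x10b7853) (.leaf (nat_lit 0x10b7851) (nat_lit 3073))
 (.node (nat_lit 0x10b7855) (.leaf (nat_lit 0x10b7853) (nat_lit 3073))
 (.leaf (nat_lit 0x10b7855) (nat_lit 2564))
)) (.node (nat_lit 0x10b7859) (.leaf (nat_lit 0x10b7857) (nat_lit 2564))
 (.node (nat_lit 0x10b785b) (.leaf (nat_lit 0x10b7859) (nat_lit 2819))
 (.leaf (nat_lit 0x10b785b) (nat_lit 2563))
)))))) (.node (nat_lit 0x10b7947) (.node (nat_lit 0x10b7891) (.node (nat_lit 0x10b7887) (.node (nat_lit 0x10b7881) (.node (nat_lit 0x10b785f) (.leaf (nat_lit 0x10b785d) (nat_lit 2052))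
 (.leaf (nat_lit 0x10b785f) (nat_lit 2052))
) (.node (nat_lit 0x10b7883) (.leaf (nat_lit 0x10b7881) (nat_lit 1540))
 (.node (nat_lit 0x10b7885) (.leaf (nat_lit 0x10b7883) (nat_lit 1796))
 (.leaf (nat_lit 0x10b7885) (nat_lit 1796))
))) (.node (nat_lit 0x10b788b) (.node (nat_lit 0x10b7889) (.leaf (nat_lit 0x10b7887) (nat_lit 2052))
 (.leaf (nat_lit 0x10b7889) (nat_lit 2562))
) (.node (nat_lit 0x10b788d) (.leaf (nat_lit 0x10b788b) (nat_lit 2562))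
 (.node (nat_lit 0x10b788f) (.leaf (nat_lit 0x10b788d) (nat_lit 2306))
 (.leaf (nat_lit 0x10b788f) (nat_lit 2562))
)))) (.node (nat_lit 0x10b789b) (.node (nat_lit 0x10b7895) (.node (nat_lit 0x10b7893) (.leaf (nat_lit 0x10b7891) (nat_lit 3076))
 (.leaf (nat_lit 0x10b7893) (nat_lit 2820))
) (.node (nat_lit 0x10b7897) (.leaf (nat_lit 0x10b7895) (nat_lit 3332))
 (.node (nat_lit 0x10b7899) (.leaf (nat_lit 0x10b7897) (nat_lit 3076))
 (.leaf (nat_lit 0x10b7899) (nat_lit 2564))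
))) (.node (nat_lit 0x10b7941) (.node (nat_lit 0x10b789d) (.leaf (nat_lit 0x10b789b) (nat_lit 2308))
 (.node (nat_lit 0x10b789f) (.leaf (nat_lit 0x10b789d) (nat_lit 2563))
 (.leaf (nat_lit 0x10b789f) (nat_lit 2564))
)) (.node (nat_lit 0x10b7943) (.leaf (nat_lit 0x10b7941) (nat_lit 1794))
 (.node (nat_lit 0x10b7945) (.leaf (nat_lit 0x10b7943) (nat_lit 2050))
 (.leaf (nat_lit 0x10b7945) (nat_lit 2306))
))))) (.node (nat_lit 0x10b795b) (.node (nat_lit 0x10b7951) (.node (nat_lit 0x10b794b) (.node (nat_lit 0x10b7949) (.leaf (nat_lit 0x10b7947) (nat_lit 2308))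
 (.leaf (nat_lit 0x10b7949) (nat_lit 2306))
) (.node (nat_lit 0x10b794d) (.leaf (nat_lit 0x10b794b) (nat_lit 2050))
 (.node (nat_lit 0x10b794f) (.leaf (nat_lit 0x10b794d) (nat_lit 2564))
 (.leaf (nat_lit 0x10b794f) (nat_lit 2562))
))) (.node (nat_lit 0x10b7955) (.node (nat_lit 0x10b7953) (.leaf (nat_lit 0x10b7951) (nat_lit 3073))
 (.leaf (nat_lit 0x10b7953) (nat_lit 3076))
) (.node (nat_lit 0x10b7957) (.leaf (nat_lit 0x10b7955) (nat_lit 2564))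
 (.node (nat_lit 0x10b7959) (.leaf (nat_lit 0x10b7957) (nat_lit 2820))
 (.leaf (nat_lit 0x10b7959) (nat_lit 3076))
)))) (.node (nat_lit 0x10b7985) (.node (nat_lit 0x10b795f) (.node (nat_lit 0x10b795d) (.leaf (nat_lit 0x10b795b) (nat_lit 3332))
 (.leaf (nat_lit 0x10b795d) (nat_lit 2564))
) (.node (nat_lit 0x10b7981) (.leaf (nat_lit 0x10b795f) (nat_lit 2308))
 (.node (nat_lit 0x10b7983) (.leaf (nat_lit 0x10b7981) (nat_lit 1794))
 (.leaf (nat_lit 0x10b7983) (nat_lit 2050))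
))) (.node (nat_lit 0x10b798b) (.node (nat_lit 0x10b7987) (.leaf (nat_lit 0x10b7985) (nat_lit 2306))
 (.node (nat_lit 0x10b7989) (.leaf (nat_lit 0x10b7987) (nat_lit 2562))
 (.leaf (nat_lit 0x10b7989) (nat_lit 2562))
)) (.node (nat_lit 0x10b798d) (.leaf (nat_lit 0x10b798b) (nat_lit 2564))
 (.node (nat_lit 0x10b798f) (.leaf (nat_lit 0x10b798d) (nat_lit 2050))
 (.leaf (nat_lit 0x10b798f) (nat_lit 2306))
)))))))) (.node (nat_lit 0x10c0899) (.node (nat_lit 0x10b7b45) (.node (nat_lit 0x10b7a5b) (.node (nat_lit 0x10b7a45) (.node (nat_lit 0x10b799b) (.node (nat_lit 0x10b7995) (.node (nat_lit 0x10b7993) (.leaf (nat_lit 0x10b7991) (nat_lit 2817))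
 (.leaf (nat_lit 0x10b7993) (nat_lit 2561))
) (.node (nat_lit 0x10b7997) (.leaf (nat_lit 0x10b7995) (nat_lit 3076))
 (.node (nat_lit 0x10b7999) (.leaf (nat_lit 0x10b7997) (nat_lit 3076))
 (.leaf (nat_lit 0x10b7999) (nat_lit 3076))
))) (.node (nat_lit 0x10b799f) (.node (nat_lit 0x10b799d) (.leaf (nat_lit 0x10b799b) (nat_lit 2820))
 (.leaf (nat_lit 0x10b799d) (nat_lit 3073))
) (.node (nat_lit 0x10b7a41) (.leaf (nat_lit 0x10b799f) (nat_lit 2817))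
 (.node (nat_lit 0x10b7a43) (.leaf (nat_lit 0x10b7a41) (nat_lit 2049))
 (.leaf (nat_lit 0x10b7a43) (nat_lit 2305))
)))) (.node (nat_lit 0x10b7a4f) (.node (nat_lit 0x10b7a49) (.node (nat_lit 0x10b7a47) (.leaf (nat_lit 0x10b7a45) (nat_lit 2564))
 (.leaf (nat_lit 0x10b7a47) (nat_lit 2564))
) (.node (nat_lit 0x10b7a4b) (.leaf (nat_lit 0x10b7a49) (nat_lit 2817))
 (.node (nat_lit 0x10b7a4d) (.leaf (nat_lit 0x10b7a4b) (nat_lit 2820))
 (.leaf (nat_lit 0x10b7a4d) (nat_lit 2305))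
))) (.node (nat_lit 0x10b7a55) (.node (nat_lit 0x10b7a51) (.leaf (nat_lit 0x10b7a4f) (nat_lit 2561))
 (.node (nat_lit 0x10b7a53) (.leaf (nat_lit 0x10b7a51) (nat_lit 2560))
 (.leaf (nat_lit 0x10b7a53) (nat_lit 2304))
)) (.node (nat_lit 0x10b7a57) (.leaf (nat_lit 0x10b7a55) (nat_lit 2820))
 (.node (nat_lit 0x10b7a59) (.leaf (nat_lit 0x10b7a57) (nat_lit 2820))
 (.leaf (nat_lit 0x10b7a59) (nat_lit 3074))
))))) (.node (nat_lit 0x10b7a8f) (.node (nat_lit 0x10b7a85) (.node (nat_lit 0x10b7a5f) (.node (nat_lit 0x10b7a5d) (.leaf (nat_lit 0x10b7a5b) (nat_lit 2818))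
 (.leaf (nat_lit 0x10b7a5d) (nat_lit 2816))
) (.node (nat_lit 0x10b7a81) (.leaf (nat_lit 0x10b7a5f) (nat_lit 2560))
 (.node (nat_lit 0x10b7a83) (.leaf (nat_lit 0x10b7a81) (nat_lit 2052))
 (.leaf (nat_lit 0x10b7a83) (nat_lit 2308))
))) (.node (nat_lit 0x10b7a89) (.node (nat_lit 0x10b7a87) (.leaf (nat_lit 0x10b7a85) (nat_lit 2561))
 (.leaf (nat_lit 0x10b7a87) (nat_lit 2564))
) (.node (nat_lit 0x10b7a8b) (.leaf (nat_lit 0x10b7a89) (nat_lit 2561))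
 (.node (nat_lit 0x10b7a8d) (.leaf (nat_lit 0x10b7a8b) (nat_lit 2305))
 (.leaf (nat_lit 0x10b7a8d) (nat_lit 2820))
)))) (.node (nat_lit 0x10b7a99) (.node (nat_lit 0x10b7a93) (.node (nat_lit 0x10b7a91) (.leaf (nat_lit 0x10b7a8f) (nat_lit 2820))
 (.leaf (nat_lit 0x10b7a91) (nat_lit 2816))
) (.node (nat_lit 0x10b7a95) (.leaf (nat_lit 0x10b7a93) (nat_lit 2820))
 (.node (nat_lit 0x10b7a97) (.leaf (nat_lit 0x10b7a95) (nat_lit 2308))
 (.leaf (nat_lit 0x10b7a97) (nat_lit 2564))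
))) (.node (nat_lit 0x10b7a9f) (.node (nat_lit 0x10b7a9b) (.leaf (nat_lit 0x10b7a99) (nat_lit 3076))
 (.node (nat_lit 0x10b7a9d) (.leaf (nat_lit 0x10b7a9b) (nat_lit 3076))
 (.leaf (nat_lit 0x10b7a9d) (nat_lit 2562))
)) (.node (nat_lit 0x10b7b41) (.leaf (nat_lit 0x10b7a9f) (nat_lit 2560))
 (.node (nat_lit 0x10b7b43) (.leaf (nat_lit 0x10b7b41) (nat_lit 1796))
 (.leaf (nat_lit 0x10b7b43) (nat_lit 2052))
)))))) (.node (nat_lit 0x10b7b8f) (.node (nat_lit 0x10b7b59) (.node (nat_lit 0x10b7b4f) (.node (nat_lit 0x10b7b49) (.node (nat_lit 0x10b7b47) (.leaf (nat_lit 0x10b7b45) (nat_lit 2052))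
 (.leaf (nat_lit 0x10b7b47) (nat_lit 2308))
) (.node (nat_lit 0x10b7b4b) (.leaf (nat_lit 0x10b7b49) (nat_lit 2817))
 (.node (nat_lit 0x10b7b4d) (.leaf (nat_lit 0x10b7b4b) (nat_lit 2817))
 (.leaf (nat_lit 0x10b7b4d) (nat_lit 2564))
))) (.node (nat_lit 0x10b7b53) (.node (nat_lit 0x10b7b51) (.leaf (nat_lit 0x10b7b4f) (nat_lit 2820))
 (.leaf (nat_lit 0x10b7b51) (nat_lit 3072))
) (.node (nat_lit 0x10b7b55) (.leaf (nat_lit 0x10b7b53) (nat_lit 3072))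
 (.node (nat_lit 0x10b7b57) (.leaf (nat_lit 0x10b7b55) (nat_lit 3076))
 (.leaf (nat_lit 0x10b7b57) (nat_lit 2820))
)))) (.node (nat_lit 0x10b7b83) (.node (nat_lit 0x10b7b5d) (.node (nat_lit 0x10b7b5b) (.leaf (nat_lit 0x10b7b59) (nat_lit 2308))
 (.leaf (nat_lit 0x10b7b5b) (nat_lit 2052))
) (.node (nat_lit 0x10b7b5f) (.leaf (nat_lit 0x10b7b5d) (nat_lit 2564))
 (.node (nat_lit 0x10b7b81) (.leaf (nat_lit 0x10b7b5f) (nat_lit 2308))
 (.leaf (nat_lit 0x10b7b81) (nat_lit 1540))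
))) (.node (nat_lit 0x10b7b89) (.node (nat_lit 0x10b7b85) (.leaf (nat_lit 0x10b7b83) (nat_lit 1796))
 (.node (nat_lit 0x10b7b87) (.leaf (nat_lit 0x10b7b85) (nat_lit 2308))
 (.leaf (nat_lit 0x10b7b87) (nat_lit 2308))
)) (.node (nat_lit 0x10b7b8b) (.leaf (nat_lit 0x10b7b89) (nat_lit 2817))
 (.node (nat_lit 0x10b7b8d) (.leaf (nat_lit 0x10b7b8b) (nat_lit 2561))
 (.leaf (nat_lit 0x10b7b8d) (nat_lit 2561))
))))) (.node (nat_lit 0x10c0883) (.node (nat_lit 0x10b7b99) (.node (nat_lit 0x10b7b93) (.node (nat_lit 0x10b7b91) (.leaf (nat_lit 0x10b7b8f) (nat_lit 2561))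
 (.leaf (nat_lit 0x10b7b91) (nat_lit 2816))
) (.node (nat_lit 0x10b7b95) (.leaf (nat_lit 0x10b7b93) (nat_lit 2816))
 (.node (nat_lit 0x10b7b97) (.leaf (nat_lit 0x10b7b95) (nat_lit 2820))
 (.leaf (nat_lit 0x10b7b97) (nat_lit 2820))
))) (.node (nat_lit 0x10b7b9d) (.node (nat_lit 0x10b7b9b) (.leaf (nat_lit 0x10b7b99) (nat_lit 2564))
 (.leaf (nat_lit 0x10b7b9b) (nat_lit 2564))
) (.node (nat_lit 0x10b7b9f) (.leaf (nat_lit 0x10b7b9d) (nat_lit 1796))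
 (.node (nat_lit 0x10c0881) (.leaf (nat_lit 0x10b7b9f) (nat_lit 2052))
 (.leaf (nat_lit 0x10c0881) (nat_lit 1025))
)))) (.node (nat_lit 0x10c088d) (.node (nat_lit 0x10c0887) (.node (nat_lit 0x10c0885) (.leaf (nat_lit 0x10c0883) (nat_lit 1281))
 (.leaf (nat_lit 0x10c0885) (nat_lit 1280))
) (.node (nat_lit 0x10c0889) (.leaf (nat_lit 0x10c0887) (nat_lit 1281))
 (.node (nat_lit 0x10c088b) (.leaf (nat_lit 0x10c0889) (nat_lit 2561))
 (.leaf (nat_lit 0x10c088b) (nat_lit 2305))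
))) (.node (nat_lit 0x10c0893) (.node (nat_lit 0x10c088f) (.leaf (nat_lit 0x10c088d) (nat_lit 2307))
 (.node (nat_lit 0x10c0891) (.leaf (nat_lit 0x10c088f) (nat_lit 2051))
 (.leaf (nat_lit 0x10c0891) (nat_lit 3330))
)) (.node (nat_lit 0x10c0895) (.leaf (nat_lit 0x10c0893) (nat_lit 3329))
 (.node (nat_lit 0x10c0897) (.leaf (nat_lit 0x10c0895) (nat_lit 3329))
 (.leaf (nat_lit 0x10c0897) (nat_lit 3330))
))))))) (.node (nat_lit 0x10c09cd) (.node (nat_lit 0x10c0983) (.node (nat_lit 0x10c08cd) (.node (nat_lit 0x10c08c3) (.node (nat_lit 0x10c089d) (.node (nat_lit 0x10c089b) (.leaf (nat_lit 0x10c0899) (nat_lit 2561))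
 (.leaf (nat_lit 0x10c089b) (nat_lit 2305))
) (.node (nat_lit 0x10c089f) (.leaf (nat_lit 0x10c089d) (nat_lit 2306))
 (.node (nat_lit 0x10c08c1) (.leaf (nat_lit 0x10c089f) (nat_lit 2050))
 (.leaf (nat_lit 0x10c08c1) (nat_lit 773))
))) (.node (nat_lit 0x10c08c7) (.node (nat_lit 0x10c08c5) (.leaf (nat_lit 0x10c08c3) (nat_lit 1029))
 (.leaf (nat_lit 0x10c08c5) (nat_lit 1285))
) (.node (nat_lit 0x10c08c9) (.leaf (nat_lit 0x10c08c7) (nat_lit 1029))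
 (.node (nat_lit 0x10c08cb) (.leaf (nat_lit 0x10c08c9) (nat_lit 2309))
 (.leaf (nat_lit 0x10c08cb) (nat_lit 2053))
)))) (.node (nat_lit 0x10c08d7) (.node (nat_lit 0x10c08d1) (.node (nat_lit 0x10c08cf) (.leaf (nat_lit 0x10c08cd) (nat_lit 2051))
 (.leaf (nat_lit 0x10c08cf) (nat_lit 2053))
) (.node (nat_lit 0x10c08d3) (.leaf (nat_lit 0x10c08d1) (nat_lit 3333))
 (.node (nat_lit 0x10c08d5) (.leaf (nat_lit 0x10c08d3) (nat_lit 3077))
 (.leaf (nat_lit 0x10c08d5) (nat_lit 3074))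
))) (.node (nat_lit 0x10c08dd) (.node (nat_lit 0x10c08d9) (.leaf (nat_lit 0x10c08d7) (nat_lit 3077))
 (.node (nat_lit 0x10c08db) (.leaf (nat_lit 0x10c08d9) (nat_lit 2309))
 (.leaf (nat_lit 0x10c08db) (nat_lit 2053))
)) (.node (nat_lit 0x10c08df) (.leaf (nat_lit 0x10c08dd) (nat_lit 2050))
 (.node (nat_lit 0x10c0981) (.leaf (nat_lit 0x10c08df) (nat_lit 2053))
 (.leaf (nat_lit 0x10c0981) (nat_lit 1281))
))))) (.node (nat_lit 0x10c0997) (.node (nat_lit 0x10c098d) (.node (nat_lit 0x10c0987) (.node (nat_lit 0x10c0985) (.leaf (nat_lit 0x10c0983) (nat_lit 1537))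
 (.leaf (nat_lit 0x10c0985) (nat_lit 2051))
) (.node (nat_lit 0x10c0989) (.leaf (nat_lit 0x10c0987) (nat_lit 1795))
 (.node (nat_lit 0x10c098b) (.leaf (nat_lit 0x10c0989) (nat_lit 2307))
 (.leaf (nat_lit 0x10c098b) (nat_lit 2051))
))) (.node (nat_lit 0x10c0991) (.node (nat_lit 0x10c098f) (.leaf (nat_lit 0x10c098d) (nat_lit 1536))
 (.leaf (nat_lit 0x10c098f) (nat_lit 1537))
) (.node (nat_lit 0x10c0993) (.leaf (nat_lit 0x10c0991) (nat_lit 3074))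
 (.node (nat_lit 0x10c0995) (.leaf (nat_lit 0x10c0993) (nat_lit 3330))
 (.leaf (nat_lit 0x10c0995) (nat_lit 2562))
)))) (.node (nat_lit 0x10c09c1) (.node (nat_lit 0x10c099b) (.node (nat_lit 0x10c0999) (.leaf (nat_lit 0x10c0997) (nat_lit 2306))
 (.leaf (nat_lit 0x10c0999) (nat_lit 2817))
) (.node (nat_lit 0x10c099d) (.leaf (nat_lit 0x10c099b) (nat_lit 2561))
 (.node (nat_lit 0x10c099f) (.leaf (nat_lit 0x10c099d) (nat_lit 3077))
 (.leaf (nat_lit 0x10c099f) (nat_lit 3073))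
))) (.node (nat_lit 0x10c09c7) (.node (nat_lit 0x10c09c3) (.leaf (nat_lit 0x10c09c1) (nat_lit 1029))
 (.node (nat_lit 0x10c09c5) (.leaf (nat_lit 0x10c09c3) (nat_lit 1285))
 (.leaf (nat_lit 0x10c09c5) (nat_lit 2053))
)) (.node (nat_lit 0x10c09c9) (.leaf (nat_lit 0x10c09c7) (nat_lit 1797))
 (.node (nat_lit 0x10c09cb) (.leaf (nat_lit 0x10c09c9) (nat_lit 2053))
 (.leaf (nat_lit 0x10c09cb) (nat_lit 2309))
)))))) (.node (nat_lit 0x10c0a97) (.node (nat_lit 0x10c0a81) (.node (nat_lit 0x10c09d7) (.node (nat_lit 0x10c09d1) (.node (nat_lit 0x10c09cf) (.leaf (nat_lit 0x10c09cd) (nat_lit 1541))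
 (.leaf (nat_lit 0x10c09cf) (nat_lit 1285))
) (.node (nat_lit 0x10c09d3) (.leaf (nat_lit 0x10c09d1) (nat_lit 3077))
 (.node (nat_lit 0x10c09d5) (.leaf (nat_lit 0x10c09d3) (nat_lit 3074))
 (.leaf (nat_lit 0x10c09d5) (nat_lit 2306))
))) (.node (nat_lit 0x10c09db) (.node (nat_lit 0x10c09d9) (.leaf (nat_lit 0x10c09d7) (nat_lit 2309))
 (.leaf (nat_lit 0x10c09d9) (nat_lit 2565))
) (.node (nat_lit 0x10c09dd) (.leaf (nat_lit 0x10c09db) (nat_lit 2309))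
 (.node (nat_lit 0x10c09df) (.leaf (nat_lit 0x10c09dd) (nat_lit 3077))
 (.leaf (nat_lit 0x10c09df) (nat_lit 2821))
)))) (.node (nat_lit 0x10c0a8b) (.node (nat_lit 0x10c0a85) (.node (nat_lit 0x10c0a83) (.leaf (nat_lit 0x10c0a81) (nat_lit 1537))
 (.leaf (nat_lit 0x10c0a83) (nat_lit 1793))
) (.node (nat_lit 0x10c0a87) (.leaf (nat_lit 0x10c0a85) (nat_lit 2309))
 (.node (nat_lit 0x10c0a89) (.leaf (nat_lit 0x10c0a87) (nat_lit 2305))
 (.leaf (nat_lit 0x10c0a89) (nat_lit 2818))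
))) (.node (nat_lit 0x10c0a91) (.node (nat_lit 0x10c0a8d) (.leaf (nat_lit 0x10c0a8b) (nat_lit 2819))
 (.node (nat_lit 0x10c0a8f) (.leaf (nat_lit 0x10c0a8d) (nat_lit 2306))
 (.leaf (nat_lit 0x10c0a8f) (nat_lit 2050))
)) (.node (nat_lit 0x10c0a93) (.leaf (nat_lit 0x10c0a91) (nat_lit 2561))
 (.node (nat_lit 0x10c0a95) (.leaf (nat_lit 0x10c0a93) (nat_lit 2560))
 (.leaf (nat_lit 0x10c0a95) (nat_lit 1792))
))))) (.node (nat_lit 0x10c0acb) (.node (nat_lit 0x10c0ac1) (.node (nat_lit 0x10c0a9b) (.node (nat_lit 0x10c0a99) (.leaf (nat_lit 0x10c0a97) (nat_lit 1793))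
 (.leaf (nat_lit 0x10c0a99) (nat_lit 2562))
) (.node (nat_lit 0x10c0a9d) (.leaf (nat_lit 0x10c0a9b) (nat_lit 2306))
 (.node (nat_lit 0x10c0a9f) (.leaf (nat_lit 0x10c0a9d) (nat_lit 2819))
 (.leaf (nat_lit 0x10c0a9f) (nat_lit 2563))
))) (.node (nat_lit 0x10c0ac5) (.node (nat_lit 0x10c0ac3) (.leaf (nat_lit 0x10c0ac1) (nat_lit 1285))
 (.leaf (nat_lit 0x10c0ac3) (nat_lit 1541))
) (.node (nat_lit 0x10c0ac7) (.leaf (nat_lit 0x10c0ac5) (nat_lit 2309))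
 (.node (nat_lit 0x10c0ac9) (.leaf (nat_lit 0x10c0ac7) (nat_lit 2053))
 (.leaf (nat_lit 0x10c0ac9) (nat_lit 2821))
)))) (.node (nat_lit 0x10c0ad5) (.node (nat_lit 0x10c0acf) (.node (nat_lit 0x10c0acd) (.leaf (nat_lit 0x10c0acb) (nat_lit 2818))
 (.leaf (nat_lit 0x10c0acd) (nat_lit 2309))
) (.node (nat_lit 0x10c0ad1) (.leaf (nat_lit 0x10c0acf) (nat_lit 2053))
 (.node (nat_lit 0x10c0ad3) (.leaf (nat_lit 0x10c0ad1) (nat_lit 2309))
 (.leaf (nat_lit 0x10c0ad3) (nat_lit 2565))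
))) (.node (nat_lit 0x10c0adb) (.node (nat_lit 0x10c0ad7) (.leaf (nat_lit 0x10c0ad5) (nat_lit 1797))
 (.node (nat_lit 0x10c0ad9) (.leaf (nat_lit 0x10c0ad7) (nat_lit 1541))
 (.leaf (nat_lit 0x10c0ad9) (nat_lit 2309))
)) (.node (nat_lit 0x10c0add) (.leaf (nat_lit 0x10c0adb) (nat_lit 2565))
 (.node (nat_lit 0x10c0adf) (.leaf (nat_lit 0x10c0add) (nat_lit 2821))
 (.leaf (nat_lit 0x10c0adf) (nat_lit 2565))
)))))))))) (.node (nat_lit 0x10c29c1) (.node (nat_lit 0x10c1851) (.node (nat_lit 0x10c11c9) (.node (nat_lit 0x10c1055) (.node (nat_lit 0x10c0bcb) (.node (nat_lit 0x10c0b95) (.node (nat_lit 0x10c0b8b) (.node (nat_lit 0x10c0b85) (.node (nat_lit 0x10c0b83) (.leaf (nat_lit 0x10c0b81) (nat_lit 1281))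
 (.leaf (nat_lit 0x10c0b83) (nat_lit 1537))
) (.node (nat_lit 0x10c0b87) (.leaf (nat_lit 0x10c0b85) (nat_lit 2050))
 (.node (nat_lit 0x10c0b89) (.leaf (nat_lit 0x10c0b87) (nat_lit 1794))
 (.leaf (nat_lit 0x10c0b89) (nat_lit 3074))
))) (.node (nat_lit 0x10c0b8f) (.node (nat_lit 0x10c0b8d) (.leaf (nat_lit 0x10c0b8b) (nat_lit 2818))
 (.leaf (nat_lit 0x10c0b8d) (nat_lit 2565))
) (.node (nat_lit 0x10c0b91) (.leaf (nat_lit 0x10c0b8f) (nat_lit 2561))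
 (.node (nat_lit 0x10c0b93) (.leaf (nat_lit 0x10c0b91) (nat_lit 2817))
 (.leaf (nat_lit 0x10c0b93) (nat_lit 2816))
)))) (.node (nat_lit 0x10c0b9f) (.node (nat_lit 0x10c0b99) (.node (nat_lit 0x10c0b97) (.leaf (nat_lit 0x10c0b95) (nat_lit 3075))
 (.leaf (nat_lit 0x10c0b97) (nat_lit 2819))
) (.node (nat_lit 0x10c0b9b) (.leaf (nat_lit 0x10c0b99) (nat_lit 2306))
 (.node (nat_lit 0x10c0b9d) (.leaf (nat_lit 0x10c0b9b) (nat_lit 2050))
 (.leaf (nat_lit 0x10c0b9d) (nat_lit 1536))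
))) (.node (nat_lit 0x10c0bc5) (.node (nat_lit 0x10c0bc1) (.leaf (nat_lit 0x10c0b9f) (nat_lit 1537))
 (.node (nat_lit 0x10c0bc3) (.leaf (nat_lit 0x10c0bc1) (nat_lit 1029))
 (.leaf (nat_lit 0x10c0bc3) (nat_lit 1285))
)) (.node (nat_lit 0x10c0bc7) (.leaf (nat_lit 0x10c0bc5) (nat_lit 2053))
 (.node (nat_lit 0x10c0bc9) (.leaf (nat_lit 0x10c0bc7) (nat_lit 1797))
 (.leaf (nat_lit 0x10c0bc9) (nat_lit 3077))
))))) (.node (nat_lit 0x10c0bdf) (.node (nat_lit 0x10c0bd5) (.node (nat_lit 0x10c0bcf) (.node (nat_lit 0x10c0bcd) (.leaf (nat_lit 0x10c0bcb) (nat_lit 2821))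
 (.leaf (nat_lit 0x10c0bcd) (nat_lit 2565))
) (.node (nat_lit 0x10c0bd1) (.leaf (nat_lit 0x10c0bcf) (nat_lit 2309))
 (.node (nat_lit 0x10c0bd3) (.leaf (nat_lit 0x10c0bd1) (nat_lit 2565))
 (.leaf (nat_lit 0x10c0bd3) (nat_lit 2821))
))) (.node (nat_lit 0x10c0bd9) (.node (nat_lit 0x10c0bd7) (.leaf (nat_lit 0x10c0bd5) (nat_lit 2819))
 (.leaf (nat_lit 0x10c0bd7) (nat_lit 2821))
) (.node (nat_lit 0x10c0bdb) (.leaf (nat_lit 0x10c0bd9) (nat_lit 2053))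
 (.node (nat_lit 0x10c0bdd) (.leaf (nat_lit 0x10c0bdb) (nat_lit 2309))
 (.leaf (nat_lit 0x10c0bdd) (nat_lit 1541))
)))) (.node (nat_lit 0x10c1049) (.node (nat_lit 0x10c1043) (.node (nat_lit 0x10c1041) (.leaf (nat_lit 0x10c0bdf) (nat_lit 1285))
 (.leaf (nat_lit 0x10c1041) (nat_lit 259))
) (.node (nat_lit 0x10c1045) (.leaf (nat_lit 0x10c1043) (nat_lit 515))
 (.node (nat_lit 0x10c1047) (.leaf (nat_lit 0x10c1045) (nat_lit 1283))
 (.leaf (nat_lit 0x10c1047) (nat_lit 1027))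
))) (.node (nat_lit 0x10c104f) (.node (nat_lit 0x10c104b) (.leaf (nat_lit 0x10c1049) (nat_lit 2307))
 (.node (nat_lit 0x10c104d) (.leaf (nat_lit 0x10c104b) (nat_lit 2051))
 (.leaf (nat_lit 0x10c104d) (nat_lit 1795))
)) (.node (nat_lit 0x10c1051) (.leaf (nat_lit 0x10c104f) (nat_lit 1539))
 (.node (nat_lit 0x10c1053) (.leaf (nat_lit 0x10c1051) (nat_lit 2818))
 (.leaf (nat_lit 0x10c1053) (nat_lit 3074))
)))))) (.node (nat_lit 0x10c10df) (.node (nat_lit 0x10c10c9) (.node (nat_lit 0x10c105f) (.node (nat_lit 0x10c1059) (.node (nat_lit 0x10c1057) (.leaf (nat_lit 0x10c1055) (nat_lit 2819))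
 (.leaf (nat_lit 0x10c1057) (nat_lit 2563))
) (.node (nat_lit 0x10c105b) (.leaf (nat_lit 0x10c1059) (nat_lit 2305))
 (.node (nat_lit 0x10c105d) (.leaf (nat_lit 0x10c105b) (nat_lit 2049))
 (.leaf (nat_lit 0x10c105d) (nat_lit 1794))
))) (.node (nat_lit 0x10c10c3) (.node (nat_lit 0x10c10c1) (.leaf (nat_lit 0x10c105f) (nat_lit 1538))
 (.leaf (nat_lit 0x10c10c1) (nat_lit 515))
) (.node (nat_lit 0x10c10c5) (.leaf (nat_lit 0x10c10c3) (nat_lit 771))
 (.node (nat_lit 0x10c10c7) (.leaf (nat_lit 0x10c10c5) (nat_lit 1027))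
 (.leaf (nat_lit 0x10c10c7) (nat_lit 771))
)))) (.node (nat_lit 0x10c10d3) (.node (nat_lit 0x10c10cd) (.node (nat_lit 0x10c10cb) (.leaf (nat_lit 0x10c10c9) (nat_lit 2051))
 (.leaf (nat_lit 0x10c10cb) (nat_lit 1795))
) (.node (nat_lit 0x10c10cf) (.leaf (nat_lit 0x10c10cd) (nat_lit 2051))
 (.node (nat_lit 0x10c10d1) (.leaf (nat_lit 0x10c10cf) (nat_lit 1795))
 (.leaf (nat_lit 0x10c10d1) (nat_lit 3075))
))) (.node (nat_lit 0x10c10d9) (.node (nat_lit 0x10c10d5) (.leaf (nat_lit 0x10c10d3) (nat_lit 2819))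
 (.node (nat_lit 0x10c10d7) (.leaf (nat_lit 0x10c10d5) (nat_lit 3075))
 (.leaf (nat_lit 0x10c10d7) (nat_lit 2819))
)) (.node (nat_lit 0x10c10db) (.leaf (nat_lit 0x10c10d9) (nat_lit 2050))
 (.node (nat_lit 0x10c10dd) (.leaf (nat_lit 0x10c10db) (nat_lit 1794))
 (.leaf (nat_lit 0x10c10dd) (nat_lit 2049))
))))) (.node (nat_lit 0x10c1153) (.node (nat_lit 0x10c1149) (.node (nat_lit 0x10c1143) (.node (nat_lit 0x10c1141) (.leaf (nat_lit 0x10c10df) (nat_lit 1793))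
 (.leaf (nat_lit 0x10c1141) (nat_lit 1283))
) (.node (nat_lit 0x10c1145) (.leaf (nat_lit 0x10c1143) (nat_lit 1539))
 (.node (nat_lit 0x10c1147) (.leaf (nat_lit 0x10c1145) (nat_lit 1795))
 (.leaf (nat_lit 0x10c1147) (nat_lit 1539))
))) (.node (nat_lit 0x10c114d) (.node (nat_lit 0x10c114b) (.leaf (nat_lit 0x10c1149) (nat_lit 1795))
 (.leaf (nat_lit 0x10c114b) (nat_lit 1539))
) (.node (nat_lit 0x10c114f) (.leaf (nat_lit 0x10c114d) (nat_lit 1795))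
 (.node (nat_lit 0x10c1151) (.leaf (nat_lit 0x10c114f) (nat_lit 1539))
 (.leaf (nat_lit 0x10c1151) (nat_lit 2817))
)))) (.node (nat_lit 0x10c115d) (.node (nat_lit 0x10c1157) (.node (nat_lit 0x10c1155) (.leaf (nat_lit 0x10c1153) (nat_lit 2561))
 (.leaf (nat_lit 0x10c1155) (nat_lit 2818))
) (.node (nat_lit 0x10c1159) (.leaf (nat_lit 0x10c1157) (nat_lit 2562))
 (.node (nat_lit 0x10c115b) (.leaf (nat_lit 0x10c1159) (nat_lit 2818))
 (.leaf (nat_lit 0x10c115b) (nat_lit 3074))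
))) (.node (nat_lit 0x10c11c3) (.node (nat_lit 0x10c115f) (.leaf (nat_lit 0x10c115d) (nat_lit 2818))
 (.node (nat_lit 0x10c11c1) (.leaf (nat_lit 0x10c115f) (nat_lit 2562))
 (.leaf (nat_lit 0x10c11c1) (nat_lit 1027))
)) (.node (nat_lit 0x10c11c5) (.leaf (nat_lit 0x10c11c3) (nat_lit 1283))
 (.node (nat_lit 0x10c11c7) (.leaf (nat_lit 0x10c11c5) (nat_lit 2051))
 (.leaf (nat_lit 0x10c11c7) (nat_lit 1795))
))))))) (.node (nat_lit 0x10c12dd) (.node (nat_lit 0x10c1253) (.node (nat_lit 0x10c11dd) (.node (nat_lit 0x10c11d3) (.node (nat_lit 0x10c11cd) (.node (nat_lit 0x10c11cb) (.leaf (nat_lit 0x10c11c9) (nat_lit 2051))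
 (.leaf (nat_lit 0x10c11cb) (nat_lit 1795))
) (.node (nat_lit 0x10c11cf) (.leaf (nat_lit 0x10c11cd) (nat_lit 1539))
 (.node (nat_lit 0x10c11d1) (.leaf (nat_lit 0x10c11cf) (nat_lit 1283))
 (.leaf (nat_lit 0x10c11d1) (nat_lit 2562))
))) (.node (nat_lit 0x10c11d7) (.node (nat_lit 0x10c11d5) (.leaf (nat_lit 0x10c11d3) (nat_lit 2306))
 (.leaf (nat_lit 0x10c11d5) (nat_lit 3073))
) (.node (nat_lit 0x10c11d9) (.leaf (nat_lit 0x10c11d7) (nat_lit 2817))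
 (.node (nat_lit 0x10c11db) (.leaf (nat_lit 0x10c11d9) (nat_lit 3074))
 (.leaf (nat_lit 0x10c11db) (nat_lit 2818))
)))) (.node (nat_lit 0x10c1247) (.node (nat_lit 0x10c1241) (.node (nat_lit 0x10c11df) (.leaf (nat_lit 0x10c11dd) (nat_lit 2562))
 (.leaf (nat_lit 0x10c11df) (nat_lit 2818))
) (.node (nat_lit 0x10c1243) (.leaf (nat_lit 0x10c1241) (nat_lit 1794))
 (.node (nat_lit 0x10c1245) (.leaf (nat_lit 0x10c1243) (nat_lit 2050))
 (.leaf (nat_lit 0x10c1245) (nat_lit 2053))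
))) (.node (nat_lit 0x10c124d) (.node (nat_lit 0x10c1249) (.leaf (nat_lit 0x10c1247) (nat_lit 2309))
 (.node (nat_lit 0x10c124b) (.leaf (nat_lit 0x10c1249) (nat_lit 2818))
 (.leaf (nat_lit 0x10c124b) (nat_lit 2562))
)) (.node (nat_lit 0x10c124f) (.leaf (nat_lit 0x10c124d) (nat_lit 2306))
 (.node (nat_lit 0x10c1251) (.leaf (nat_lit 0x10c124f) (nat_lit 2050))
 (.leaf (nat_lit 0x10c1251) (nat_lit 2306))
))))) (.node (nat_lit 0x10c12c7) (.node (nat_lit 0x10c125d) (.node (nat_lit 0x10c1257) (.node (nat_lit 0x10c1255) (.leaf (nat_lit 0x10c1253) (nat_lit 2050))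
 (.leaf (nat_lit 0x10c1255) (nat_lit 2565))
) (.node (nat_lit 0x10c1259) (.leaf (nat_lit 0x10c1257) (nat_lit 2309))
 (.node (nat_lit 0x10c125b) (.leaf (nat_lit 0x10c1259) (nat_lit 2818))
 (.leaf (nat_lit 0x10c125b) (nat_lit 3074))
))) (.node (nat_lit 0x10c12c1) (.node (nat_lit 0x10c125f) (.leaf (nat_lit 0x10c125d) (nat_lit 2306))
 (.leaf (nat_lit 0x10c125f) (nat_lit 2562))
) (.node (nat_lit 0x10c12c3) (.leaf (nat_lit 0x10c12c1) (nat_lit 2050))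
 (.node (nat_lit 0x10c12c5) (.leaf (nat_lit 0x10c12c3) (nat_lit 2306))
 (.leaf (nat_lit 0x10c12c5) (nat_lit 2309))
)))) (.node (nat_lit 0x10c12d1) (.node (nat_lit 0x10c12cb) (.node (nat_lit 0x10c12c9) (.leaf (nat_lit 0x10c12c7) (nat_lit 2306))
 (.leaf (nat_lit 0x10c12c9) (nat_lit 2562))
) (.node (nat_lit 0x10c12cd) (.leaf (nat_lit 0x10c12cb) (nat_lit 2306))
 (.node (nat_lit 0x10c12cf) (.leaf (nat_lit 0x10c12cd) (nat_lit 2562))
 (.leaf (nat_lit 0x10c12cf) (nat_lit 2306))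
))) (.node (nat_lit 0x10c12d7) (.node (nat_lit 0x10c12d3) (.leaf (nat_lit 0x10c12d1) (nat_lit 2561))
 (.node (nat_lit 0x10c12d5) (.leaf (nat_lit 0x10c12d3) (nat_lit 2305))
 (.leaf (nat_lit 0x10c12d5) (nat_lit 2562))
)) (.node (nat_lit 0x10c12d9) (.leaf (nat_lit 0x10c12d7) (nat_lit 2306))
 (.node (nat_lit 0x10c12db) (.leaf (nat_lit 0x10c12d9) (nat_lit 2562))
 (.leaf (nat_lit 0x10c12db) (nat_lit 2818))
)))))) (.node (nat_lit 0x10c13c7) (.node (nat_lit 0x10c1351) (.node (nat_lit 0x10c1347) (.node (nat_lit 0x10c1341) (.node (nat_lit 0x10c12df) (.leaf (nat_lit 0x10c12dd) (nat_lit 2562))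
 (.leaf (nat_lit 0x10c12df) (nat_lit 2818))
) (.node (nat_lit 0x10c1343) (.leaf (nat_lit 0x10c1341) (nat_lit 1282))
 (.node (nat_lit 0x10c1345) (.leaf (nat_lit 0x10c1343) (nat_lit 1538))
 (.leaf (nat_lit 0x10c1345) (nat_lit 1794))
))) (.node (nat_lit 0x10c134b) (.node (nat_lit 0x10c1349) (.leaf (nat_lit 0x10c1347) (nat_lit 1538))
 (.leaf (nat_lit 0x10c1349) (nat_lit 2818))
) (.node (nat_lit 0x10c134d) (.leaf (nat_lit 0x10c134b) (nat_lit 2562))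
 (.node (nat_lit 0x10c134f) (.leaf (nat_lit 0x10c134d) (nat_lit 2818))
 (.leaf (nat_lit 0x10c134f) (nat_lit 2562))
)))) (.node (nat_lit 0x10c135b) (.node (nat_lit 0x10c1355) (.node (nat_lit 0x10c1353) (.leaf (nat_lit 0x10c1351) (nat_lit 2818))
 (.leaf (nat_lit 0x10c1353) (nat_lit 3074))
) (.node (nat_lit 0x10c1357) (.leaf (nat_lit 0x10c1355) (nat_lit 2819))
 (.node (nat_lit 0x10c1359) (.leaf (nat_lit 0x10c1357) (nat_lit 2563))
 (.leaf (nat_lit 0x10c1359) (nat_lit 1794))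
))) (.node (nat_lit 0x10c13c1) (.node (nat_lit 0x10c135d) (.leaf (nat_lit 0x10c135b) (nat_lit 1538))
 (.node (nat_lit 0x10c135f) (.leaf (nat_lit 0x10c135d) (nat_lit 1793))
 (.leaf (nat_lit 0x10c135f) (nat_lit 1537))
)) (.node (nat_lit 0x10c13c3) (.leaf (nat_lit 0x10c13c1) (nat_lit 1026))
 (.node (nat_lit 0x10c13c5) (.leaf (nat_lit 0x10c13c3) (nat_lit 1282))
 (.leaf (nat_lit 0x10c13c5) (nat_lit 2050))
))))) (.node (nat_lit 0x10c13db) (.node (nat_lit 0x10c13d1) (.node (nat_lit 0x10c13cb) (.node (nat_lit 0x10c13c9) (.leaf (nat_lit 0x10c13c7) (nat_lit 1794))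
 (.leaf (nat_lit 0x10c13c9) (nat_lit 3074))
) (.node (nat_lit 0x10c13cd) (.leaf (nat_lit 0x10c13cb) (nat_lit 2818))
 (.node (nat_lit 0x10c13cf) (.leaf (nat_lit 0x10c13cd) (nat_lit 2562))
 (.leaf (nat_lit 0x10c13cf) (nat_lit 2306))
))) (.node (nat_lit 0x10c13d5) (.node (nat_lit 0x10c13d3) (.leaf (nat_lit 0x10c13d1) (nat_lit 2562))
 (.leaf (nat_lit 0x10c13d3) (nat_lit 2818))
) (.node (nat_lit 0x10c13d7) (.leaf (nat_lit 0x10c13d5) (nat_lit 3074))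
 (.node (nat_lit 0x10c13d9) (.leaf (nat_lit 0x10c13d7) (nat_lit 2818))
 (.leaf (nat_lit 0x10c13d9) (nat_lit 2049))
)))) (.node (nat_lit 0x10c1845) (.node (nat_lit 0x10c13df) (.node (nat_lit 0x10c13dd) (.leaf (nat_lit 0x10c13db) (nat_lit 1793))
 (.leaf (nat_lit 0x10c13dd) (nat_lit 1538))
) (.node (nat_lit 0x10c1841) (.leaf (nat_lit 0x10c13df) (nat_lit 1282))
 (.node (nat_lit 0x10c1843) (.leaf (nat_lit 0x10c1841) (nat_lit 517))
 (.leaf (nat_lit 0x10c1843) (nat_lit 773))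
))) (.node (nat_lit 0x10c184b) (.node (nat_lit 0x10c1847) (.leaf (nat_lit 0x10c1845) (nat_lit 1281))
 (.node (nat_lit 0x10c1849) (.leaf (nat_lit 0x10c1847) (nat_lit 1285))
 (.leaf (nat_lit 0x10c1849) (nat_lit 2565))
)) (.node (nat_lit 0x10c184d) (.leaf (nat_lit 0x10c184b) (nat_lit 2309))
 (.node (nat_lit 0x10c184f) (.leaf (nat_lit 0x10c184d) (nat_lit 1795))
 (.leaf (nat_lit 0x10c184f) (nat_lit 1797))
)))))))) (.node (nat_lit 0x10c1a99) (.node (nat_lit 0x10c1985) (.node (nat_lit 0x10c189b) (.node (nat_lit 0x10c1885) (.node (nat_lit 0x10c185b) (.node (nat_lit 0x10c1855) (.node (nat_lit 0x10c1853) (.leaf (nat_lit 0x10c1851) (nat_lit 3077))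
 (.leaf (nat_lit 0x10c1853) (nat_lit 3074))
) (.node (nat_lit 0x10c1857) (.leaf (nat_lit 0x10c1855) (nat_lit 2818))
 (.node (nat_lit 0x10c1859) (.leaf (nat_lit 0x10c1857) (nat_lit 2821))
 (.leaf (nat_lit 0x10c1859) (nat_lit 2565))
))) (.node (nat_lit 0x10c185f) (.node (nat_lit 0x10c185d) (.leaf (nat_lit 0x10c185b) (nat_lit 2309))
 (.leaf (nat_lit 0x10c185d) (nat_lit 1794))
) (.node (nat_lit 0x10c1881) (.leaf (nat_lit 0x10c185f) (nat_lit 1797))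
 (.node (nat_lit 0x10c1883) (.leaf (nat_lit 0x10c1881) (nat_lit 769))
 (.leaf (nat_lit 0x10c1883) (nat_lit 1025))
)))) (.node (nat_lit 0x10c188f) (.node (nat_lit 0x10c1889) (.node (nat_lit 0x10c1887) (.leaf (nat_lit 0x10c1885) (nat_lit 1024))
 (.leaf (nat_lit 0x10c1887) (nat_lit 1280))
) (.node (nat_lit 0x10c188b) (.leaf (nat_lit 0x10c1889) (nat_lit 2307))
 (.node (nat_lit 0x10c188d) (.leaf (nat_lit 0x10c188b) (nat_lit 2051))
 (.leaf (nat_lit 0x10c188d) (nat_lit 2051))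
))) (.node (nat_lit 0x10c1895) (.node (nat_lit 0x10c1891) (.leaf (nat_lit 0x10c188f) (nat_lit 2049))
 (.node (nat_lit 0x10c1893) (.leaf (nat_lit 0x10c1891) (nat_lit 3330))
 (.leaf (nat_lit 0x10c1893) (nat_lit 3074))
)) (.node (nat_lit 0x10c1897) (.leaf (nat_lit 0x10c1895) (nat_lit 3073))
 (.node (nat_lit 0x10c1899) (.leaf (nat_lit 0x10c1897) (nat_lit 3073))
 (.leaf (nat_lit 0x10c1899) (nat_lit 2306))
))))) (.node (nat_lit 0x10c194f) (.node (nat_lit 0x10c1945) (.node (nat_lit 0x10c189f) (.node (nat_lit 0x10c189d) (.leaf (nat_lit 0x10c189b) (nat_lit 2050))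
 (.leaf (nat_lit 0x10c189d) (nat_lit 2049))
) (.node (nat_lit 0x10c1941) (.leaf (nat_lit 0x10c189f) (nat_lit 2049))
 (.node (nat_lit 0x10c1943) (.leaf (nat_lit 0x10c1941) (nat_lit 1285))
 (.leaf (nat_lit 0x10c1943) (nat_lit 1541))
))) (.node (nat_lit 0x10c1949) (.node (nat_lit 0x10c1947) (.leaf (nat_lit 0x10c1945) (nat_lit 1797))
 (.leaf (nat_lit 0x10c1947) (nat_lit 1541))
) (.node (nat_lit 0x10c194b) (.leaf (nat_lit 0x10c1949) (nat_lit 1797))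
 (.node (nat_lit 0x10c194d) (.leaf (nat_lit 0x10c194b) (nat_lit 1541))
 (.leaf (nat_lit 0x10c194d) (nat_lit 1797))
)))) (.node (nat_lit 0x10c1959) (.node (nat_lit 0x10c1953) (.node (nat_lit 0x10c1951) (.leaf (nat_lit 0x10c194f) (nat_lit 2053))
 (.leaf (nat_lit 0x10c1951) (nat_lit 2821))
) (.node (nat_lit 0x10c1955) (.leaf (nat_lit 0x10c1953) (nat_lit 2565))
 (.node (nat_lit 0x10c1957) (.leaf (nat_lit 0x10c1955) (nat_lit 2562))
 (.leaf (nat_lit 0x10c1957) (nat_lit 2818))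
))) (.node (nat_lit 0x10c195f) (.node (nat_lit 0x10c195b) (.leaf (nat_lit 0x10c1959) (nat_lit 2821))
 (.node (nat_lit 0x10c195d) (.leaf (nat_lit 0x10c195b) (nat_lit 3077))
 (.leaf (nat_lit 0x10c195d) (nat_lit 2821))
)) (.node (nat_lit 0x10c1981) (.leaf (nat_lit 0x10c195f) (nat_lit 2565))
 (.node (nat_lit 0x10c1983) (.leaf (nat_lit 0x10c1981) (nat_lit 1283))
 (.leaf (nat_lit 0x10c1983) (nat_lit 1539))
)))))) (.node (nat_lit 0x10c1a4f) (.node (nat_lit 0x10c1999) (.node (nat_lit 0x10c198f) (.node (nat_lit 0x10c1989) (.node (nat_lit 0x10c1987) (.leaf (nat_lit 0x10c1985) (nat_lit 2049))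
 (.leaf (nat_lit 0x10c1987) (nat_lit 1793))
) (.node (nat_lit 0x10c198b) (.leaf (nat_lit 0x10c1989) (nat_lit 2049))
 (.node (nat_lit 0x10c198d) (.leaf (nat_lit 0x10c198b) (nat_lit 1793))
 (.leaf (nat_lit 0x10c198d) (nat_lit 1539))
))) (.node (nat_lit 0x10c1993) (.node (nat_lit 0x10c1991) (.leaf (nat_lit 0x10c198f) (nat_lit 1795))
 (.leaf (nat_lit 0x10c1991) (nat_lit 2818))
) (.node (nat_lit 0x10c1995) (.leaf (nat_lit 0x10c1993) (nat_lit 2562))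
 (.node (nat_lit 0x10c1997) (.leaf (nat_lit 0x10c1995) (nat_lit 2818))
 (.leaf (nat_lit 0x10c1997) (nat_lit 3074))
)))) (.node (nat_lit 0x10c1a43) (.node (nat_lit 0x10c199d) (.node (nat_lit 0x10c199b) (.leaf (nat_lit 0x10c1999) (nat_lit 3073))
 (.leaf (nat_lit 0x10c199b) (nat_lit 3075))
) (.node (nat_lit 0x10c199f) (.leaf (nat_lit 0x10c199d) (nat_lit 3073))
 (.node (nat_lit 0x10c1a41) (.leaf (nat_lit 0x10c199f) (nat_lit 2817))
 (.leaf (nat_lit 0x10c1a41) (nat_lit 1541))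
))) (.node (nat_lit 0x10c1a49) (.node (nat_lit 0x10c1a45) (.leaf (nat_lit 0x10c1a43) (nat_lit 1797))
 (.node (nat_lit 0x10c1a47) (.leaf (nat_lit 0x10c1a45) (nat_lit 2053))
 (.leaf (nat_lit 0x10c1a47) (nat_lit 1797))
)) (.node (nat_lit 0x10c1a4b) (.leaf (nat_lit 0x10c1a49) (nat_lit 2565))
 (.node (nat_lit 0x10c1a4d) (.leaf (nat_lit 0x10c1a4b) (nat_lit 2309))
 (.leaf (nat_lit 0x10c1a4d) (nat_lit 2306))
))))) (.node (nat_lit 0x10c1a83) (.node (nat_lit 0x10c1a59) (.node (nat_lit 0x10c1a53) (.node (nat_lit 0x10c1a51) (.leaf (nat_lit 0x10c1a4f) (nat_lit 2562))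
 (.leaf (nat_lit 0x10c1a51) (nat_lit 2053))
) (.node (nat_lit 0x10c1a55) (.leaf (nat_lit 0x10c1a53) (nat_lit 1797))
 (.node (nat_lit 0x10c1a57) (.leaf (nat_lit 0x10c1a55) (nat_lit 2053))
 (.leaf (nat_lit 0x10c1a57) (nat_lit 2309))
))) (.node (nat_lit 0x10c1a5d) (.node (nat_lit 0x10c1a5b) (.leaf (nat_lit 0x10c1a59) (nat_lit 2565))
 (.leaf (nat_lit 0x10c1a5b) (nat_lit 2821))
) (.node (nat_lit 0x10c1a5f) (.leaf (nat_lit 0x10c1a5d) (nat_lit 2818))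
 (.node (nat_lit 0x10c1a81) (.leaf (nat_lit 0x10c1a5f) (nat_lit 2562))
 (.leaf (nat_lit 0x10c1a81) (nat_lit 1793))
)))) (.node (nat_lit 0x10c1a8d) (.node (nat_lit 0x10c1a87) (.node (nat_lit 0x10c1a85) (.leaf (nat_lit 0x10c1a83) (nat_lit 2049))
 (.leaf (nat_lit 0x10c1a85) (nat_lit 2305))
) (.node (nat_lit 0x10c1a89) (.leaf (nat_lit 0x10c1a87) (nat_lit 2049))
 (.node (nat_lit 0x10c1a8b) (.leaf (nat_lit 0x10c1a89) (nat_lit 2562))
 (.leaf (nat_lit 0x10c1a8b) (nat_lit 2306))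
))) (.node (nat_lit 0x10c1a93) (.node (nat_lit 0x10c1a8f) (.leaf (nat_lit 0x10c1a8d) (nat_lit 2562))
 (.node (nat_lit 0x10c1a91) (.leaf (nat_lit 0x10c1a8f) (nat_lit 2818))
 (.leaf (nat_lit 0x10c1a91) (nat_lit 2305))
)) (.node (nat_lit 0x10c1a95) (.leaf (nat_lit 0x10c1a93) (nat_lit 2049))
 (.node (nat_lit 0x10c1a97) (.leaf (nat_lit 0x10c1a95) (nat_lit 2048))
 (.leaf (nat_lit 0x10c1a97) (nat_lit 2304))
))))))) (.node (nat_lit 0x10c288d) (.node (nat_lit 0x10c1b83) (.node (nat_lit 0x10c1b4d) (.node (nat_lit 0x10c1b43) (.node (nat_lit 0x10c1a9d) (.node (nat_lit 0x10c1a9b) (.leaf (nat_lit 0x10c1a99) (nat_lit 2818))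
 (.leaf (nat_lit 0x10c1a9b) (nat_lit 2819))
) (.node (nat_lit 0x10c1a9f) (.leaf (nat_lit 0x10c1a9d) (nat_lit 2818))
 (.node (nat_lit 0x10c1b41) (.leaf (nat_lit 0x10c1a9f) (nat_lit 2562))
 (.leaf (nat_lit 0x10c1b41) (nat_lit 1285))
))) (.node (nat_lit 0x10c1b47) (.node (nat_lit 0x10c1b45) (.leaf (nat_lit 0x10c1b43) (nat_lit 1541))
 (.leaf (nat_lit 0x10c1b45) (nat_lit 1797))
) (.node (nat_lit 0x10c1b49) (.leaf (nat_lit 0x10c1b47) (nat_lit 1541))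
 (.node (nat_lit 0x10c1b4b) (.leaf (nat_lit 0x10c1b49) (nat_lit 2821))
 (.leaf (nat_lit 0x10c1b4b) (nat_lit 2565))
)))) (.node (nat_lit 0x10c1b57) (.node (nat_lit 0x10c1b51) (.node (nat_lit 0x10c1b4f) (.leaf (nat_lit 0x10c1b4d) (nat_lit 2821))
 (.leaf (nat_lit 0x10c1b4f) (nat_lit 2565))
) (.node (nat_lit 0x10c1b53) (.leaf (nat_lit 0x10c1b51) (nat_lit 2821))
 (.node (nat_lit 0x10c1b55) (.leaf (nat_lit 0x10c1b53) (nat_lit 3077))
 (.leaf (nat_lit 0x10c1b55) (nat_lit 2821))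
))) (.node (nat_lit 0x10c1b5d) (.node (nat_lit 0x10c1b59) (.leaf (nat_lit 0x10c1b57) (nat_lit 3077))
 (.node (nat_lit 0x10c1b5b) (.leaf (nat_lit 0x10c1b59) (nat_lit 1797))
 (.leaf (nat_lit 0x10c1b5b) (nat_lit 1541))
)) (.node (nat_lit 0x10c1b5f) (.leaf (nat_lit 0x10c1b5d) (nat_lit 1797))
 (.node (nat_lit 0x10c1b81) (.leaf (nat_lit 0x10c1b5f) (nat_lit 2053))
 (.leaf (nat_lit 0x10c1b81) (nat_lit 1282))
))))) (.node (nat_lit 0x10c1b97) (.node (nat_lit 0x10c1b8d) (.node (nat_lit 0x10c1b87) (.node (nat_lit 0x10c1b85) (.leaf (nat_lit 0x10c1b83) (nat_lit 1538))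
 (.leaf (nat_lit 0x10c1b85) (nat_lit 2049))
) (.node (nat_lit 0x10c1b89) (.leaf (nat_lit 0x10c1b87) (nat_lit 1793))
 (.node (nat_lit 0x10c1b8b) (.leaf (nat_lit 0x10c1b89) (nat_lit 3073))
 (.leaf (nat_lit 0x10c1b8b) (nat_lit 2817))
))) (.node (nat_lit 0x10c1b91) (.node (nat_lit 0x10c1b8f) (.leaf (nat_lit 0x10c1b8d) (nat_lit 2562))
 (.leaf (nat_lit 0x10c1b8f) (nat_lit 2562))
) (.node (nat_lit 0x10c1b93) (.leaf (nat_lit 0x10c1b91) (nat_lit 2818))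
 (.node (nat_lit 0x10c1b95) (.leaf (nat_lit 0x10c1b93) (nat_lit 2818))
 (.leaf (nat_lit 0x10c1b95) (nat_lit 3073))
)))) (.node (nat_lit 0x10c2881) (.node (nat_lit 0x10c1b9b) (.node (nat_lit 0x10c1b99) (.leaf (nat_lit 0x10c1b97) (nat_lit 3072))
 (.leaf (nat_lit 0x10c1b99) (nat_lit 2049))
) (.node (nat_lit 0x10c1b9d) (.leaf (nat_lit 0x10c1b9b) (nat_lit 1793))
 (.node (nat_lit 0x10c1b9f) (.leaf (nat_lit 0x10c1b9d) (nat_lit 1538))
 (.leaf (nat_lit 0x10c1b9f) (nat_lit 1794))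
))) (.node (nat_lit 0x10c2887) (.node (nat_lit 0x10c2883) (.leaf (nat_lit 0x10c2881) (nat_lit 1283))
 (.node (nat_lit 0x10c2885) (.leaf (nat_lit 0x10c2883) (nat_lit 1539))
 (.leaf (nat_lit 0x10c2885) (nat_lit 1539))
)) (.node (nat_lit 0x10c2889) (.leaf (nat_lit 0x10c2887) (nat_lit 1539))
 (.node (nat_lit 0x10c288b) (.leaf (nat_lit 0x10c2889) (nat_lit 2304))
 (.leaf (nat_lit 0x10c288b) (nat_lit 2048))
)))))) (.node (nat_lit 0x10c28d7) (.node (nat_lit 0x10c28c1) (.node (nat_lit 0x10c2897) (.node (nat_lit 0x10c2891) (.node (nat_lit 0x10c288f) (.leaf (nat_lit 0x10c288d) (nat_lit 2049))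
 (.leaf (nat_lit 0x10c288f) (nat_lit 1793))
) (.node (nat_lit 0x10c2893) (.leaf (nat_lit 0x10c2891) (nat_lit 2821))
 (.node (nat_lit 0x10c2895) (.leaf (nat_lit 0x10c2893) (nat_lit 2565))
 (.leaf (nat_lit 0x10c2895) (nat_lit 2818))
))) (.node (nat_lit 0x10c289b) (.node (nat_lit 0x10c2899) (.leaf (nat_lit 0x10c2897) (nat_lit 2562))
 (.leaf (nat_lit 0x10c2899) (nat_lit 3074))
) (.node (nat_lit 0x10c289d) (.leaf (nat_lit 0x10c289b) (nat_lit 3075))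
 (.node (nat_lit 0x10c289f) (.leaf (nat_lit 0x10c289d) (nat_lit 2817))
 (.leaf (nat_lit 0x10c289f) (nat_lit 2818))
)))) (.node (nat_lit 0x10c28cb) (.node (nat_lit 0x10c28c5) (.node (nat_lit 0x10c28c3) (.leaf (nat_lit 0x10c28c1) (nat_lit 1029))
 (.leaf (nat_lit 0x10c28c3) (nat_lit 1285))
) (.node (nat_lit 0x10c28c7) (.leaf (nat_lit 0x10c28c5) (nat_lit 1541))
 (.node (nat_lit 0x10c28c9) (.leaf (nat_lit 0x10c28c7) (nat_lit 1285))
 (.leaf (nat_lit 0x10c28c9) (nat_lit 2053))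
))) (.node (nat_lit 0x10c28d1) (.node (nat_lit 0x10c28cd) (.leaf (nat_lit 0x10c28cb) (nat_lit 1797))
 (.node (nat_lit 0x10c28cf) (.leaf (nat_lit 0x10c28cd) (nat_lit 1793))
 (.leaf (nat_lit 0x10c28cf) (nat_lit 2049))
)) (.node (nat_lit 0x10c28d3) (.leaf (nat_lit 0x10c28d1) (nat_lit 2565))
 (.node (nat_lit 0x10c28d5) (.leaf (nat_lit 0x10c28d3) (nat_lit 2309))
 (.leaf (nat_lit 0x10c28d5) (nat_lit 2306))
))))) (.node (nat_lit 0x10c298b) (.node (nat_lit 0x10c2981) (.node (nat_lit 0x10c28db) (.node (nat_lit 0x10c28d9) (.leaf (nat_lit 0x10c28d7) (nat_lit 2562))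
 (.leaf (nat_lit 0x10c28d9) (nat_lit 3077))
) (.node (nat_lit 0x10c28dd) (.leaf (nat_lit 0x10c28db) (nat_lit 2821))
 (.node (nat_lit 0x10c28df) (.leaf (nat_lit 0x10c28dd) (nat_lit 2818))
 (.leaf (nat_lit 0x10c28df) (nat_lit 2821))
))) (.node (nat_lit 0x10c2985) (.node (nat_lit 0x10c2983) (.leaf (nat_lit 0x10c2981) (nat_lit 1281))
 (.leaf (nat_lit 0x10c2983) (nat_lit 1537))
) (.node (nat_lit 0x10c2987) (.leaf (nat_lit 0x10c2985) (nat_lit 1793))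
 (.node (nat_lit 0x10c2989) (.leaf (nat_lit 0x10c2987) (nat_lit 1537))
 (.leaf (nat_lit 0x10c2989) (nat_lit 2048))
)))) (.node (nat_lit 0x10c2995) (.node (nat_lit 0x10c298f) (.node (nat_lit 0x10c298d) (.leaf (nat_lit 0x10c298b) (nat_lit 1792))
 (.leaf (nat_lit 0x10c298d) (nat_lit 1536))
) (.node (nat_lit 0x10c2991) (.leaf (nat_lit 0x10c298f) (nat_lit 1792))
 (.node (nat_lit 0x10c2993) (.leaf (nat_lit 0x10c2991) (nat_lit 2817))
 (.leaf (nat_lit 0x10c2993) (nat_lit 2561))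
))) (.node (nat_lit 0x10c299b) (.node (nat_lit 0x10c2997) (.leaf (nat_lit 0x10c2995) (nat_lit 2561))
 (.node (nat_lit 0x10c2999) (.leaf (nat_lit 0x10c2997) (nat_lit 2817))
 (.leaf (nat_lit 0x10c2999) (nat_lit 2818))
)) (.node (nat_lit 0x10c299d) (.leaf (nat_lit 0x10c299b) (nat_lit 3074))
 (.node (nat_lit 0x10c299f) (.leaf (nat_lit 0x10c299d) (nat_lit 2818))
 (.leaf (nat_lit 0x10c299f) (nat_lit 2562))
))))))))) (.node (nat_lit 0x10c32d1) (.node (nat_lit 0x10c3049) (.node (nat_lit 0x10c2ad5) (.node (nat_lit 0x10c2a8b) (.node (nat_lit 0x10c29d5) (.node (nat_lit 0x10c29cb) (.node (nat_lit 0x10c29c5) (.node (nat_lit 0x10c29c3) (.leaf (nat_lit 0x10c29c1) (nat_lit 1285))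
 (.leaf (nat_lit 0x10c29c3) (nat_lit 1541))
) (.node (nat_lit 0x10c29c7) (.leaf (nat_lit 0x10c29c5) (nat_lit 1795))
 (.node (nat_lit 0x10c29c9) (.leaf (nat_lit 0x10c29c7) (nat_lit 1795))
 (.leaf (nat_lit 0x10c29c9) (nat_lit 2051))
))) (.node (nat_lit 0x10c29cf) (.node (nat_lit 0x10c29cd) (.leaf (nat_lit 0x10c29cb) (nat_lit 2053))
 (.leaf (nat_lit 0x10c29cd) (nat_lit 1797))
) (.node (nat_lit 0x10c29d1) (.leaf (nat_lit 0x10c29cf) (nat_lit 1541))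
 (.node (nat_lit 0x10c29d3) (.leaf (nat_lit 0x10c29d1) (nat_lit 2821))
 (.leaf (nat_lit 0x10c29d3) (nat_lit 2565))
)))) (.node (nat_lit 0x10c29df) (.node (nat_lit 0x10c29d9) (.node (nat_lit 0x10c29d7) (.leaf (nat_lit 0x10c29d5) (nat_lit 3073))
 (.leaf (nat_lit 0x10c29d7) (nat_lit 2817))
) (.node (nat_lit 0x10c29db) (.leaf (nat_lit 0x10c29d9) (nat_lit 3074))
 (.node (nat_lit 0x10c29dd) (.leaf (nat_lit 0x10c29db) (nat_lit 3074))
 (.leaf (nat_lit 0x10c29dd) (nat_lit 2562))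
))) (.node (nat_lit 0x10c2a85) (.node (nat_lit 0x10c2a81) (.leaf (nat_lit 0x10c29df) (nat_lit 2818))
 (.node (nat_lit 0x10c2a83) (.leaf (nat_lit 0x10c2a81) (nat_lit 1794))
 (.leaf (nat_lit 0x10c2a83) (nat_lit 2050))
)) (.node (nat_lit 0x10c2a87) (.leaf (nat_lit 0x10c2a85) (nat_lit 2306))
 (.node (nat_lit 0x10c2a89) (.leaf (nat_lit 0x10c2a87) (nat_lit 2050))
 (.leaf (nat_lit 0x10c2a89) (nat_lit 2561))
))))) (.node (nat_lit 0x10c2a9f) (.node (nat_lit 0x10c2a95) (.node (nat_lit 0x10c2a8f) (.node (nat_lit 0x10c2a8d) (.leaf (nat_lit 0x10c2a8b) (nat_lit 2305))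
 (.leaf (nat_lit 0x10c2a8d) (nat_lit 2561))
) (.node (nat_lit 0x10c2a91) (.leaf (nat_lit 0x10c2a8f) (nat_lit 2817))
 (.node (nat_lit 0x10c2a93) (.leaf (nat_lit 0x10c2a91) (nat_lit 2562))
 (.leaf (nat_lit 0x10c2a93) (nat_lit 2306))
))) (.node (nat_lit 0x10c2a99) (.node (nat_lit 0x10c2a97) (.leaf (nat_lit 0x10c2a95) (nat_lit 2050))
 (.leaf (nat_lit 0x10c2a97) (nat_lit 2306))
) (.node (nat_lit 0x10c2a9b) (.leaf (nat_lit 0x10c2a99) (nat_lit 2561))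
 (.node (nat_lit 0x10c2a9d) (.leaf (nat_lit 0x10c2a9b) (nat_lit 2817))
 (.leaf (nat_lit 0x10c2a9d) (nat_lit 2561))
)))) (.node (nat_lit 0x10c2ac9) (.node (nat_lit 0x10c2ac3) (.node (nat_lit 0x10c2ac1) (.leaf (nat_lit 0x10c2a9f) (nat_lit 2305))
 (.leaf (nat_lit 0x10c2ac1) (nat_lit 2053))
) (.node (nat_lit 0x10c2ac5) (.leaf (nat_lit 0x10c2ac3) (nat_lit 2309))
 (.node (nat_lit 0x10c2ac7) (.leaf (nat_lit 0x10c2ac5) (nat_lit 2306))
 (.leaf (nat_lit 0x10c2ac7) (nat_lit 2309))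
))) (.node (nat_lit 0x10c2acf) (.node (nat_lit 0x10c2acb) (.leaf (nat_lit 0x10c2ac9) (nat_lit 2565))
 (.node (nat_lit 0x10c2acd) (.leaf (nat_lit 0x10c2acb) (nat_lit 2309))
 (.leaf (nat_lit 0x10c2acd) (nat_lit 2565))
)) (.node (nat_lit 0x10c2ad1) (.leaf (nat_lit 0x10c2acf) (nat_lit 2309))
 (.node (nat_lit 0x10c2ad3) (.leaf (nat_lit 0x10c2ad1) (nat_lit 2565))
 (.leaf (nat_lit 0x10c2ad3) (nat_lit 2562))
)))))) (.node (nat_lit 0x10c2b9f) (.node (nat_lit 0x10c2b89) (.node (nat_lit 0x10c2adf) (.node (nat_lit 0x10c2ad9) (.node (nat_lit 0x10c2ad7) (.leaf (nat_lit 0x10c2ad5) (nat_lit 2565))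
 (.leaf (nat_lit 0x10c2ad7) (nat_lit 2309))
) (.node (nat_lit 0x10c2adb) (.leaf (nat_lit 0x10c2ad9) (nat_lit 2565))
 (.node (nat_lit 0x10c2add) (.leaf (nat_lit 0x10c2adb) (nat_lit 2821))
 (.leaf (nat_lit 0x10c2add) (nat_lit 2565))
))) (.node (nat_lit 0x10c2b83) (.node (nat_lit 0x10c2b81) (.leaf (nat_lit 0x10c2adf) (nat_lit 2563))
 (.leaf (nat_lit 0x10c2b81) (nat_lit 2050))
) (.node (nat_lit 0x10c2b85) (.leaf (nat_lit 0x10c2b83) (nat_lit 2306))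
 (.node (nat_lit 0x10c2b87) (.leaf (nat_lit 0x10c2b85) (nat_lit 2309))
 (.leaf (nat_lit 0x10c2b87) (nat_lit 2565))
)))) (.node (nat_lit 0x10c2b93) (.node (nat_lit 0x10c2b8d) (.node (nat_lit 0x10c2b8b) (.leaf (nat_lit 0x10c2b89) (nat_lit 2565))
 (.leaf (nat_lit 0x10c2b8b) (nat_lit 2309))
) (.node (nat_lit 0x10c2b8f) (.leaf (nat_lit 0x10c2b8d) (nat_lit 2562))
 (.node (nat_lit 0x10c2b91) (.leaf (nat_lit 0x10c2b8f) (nat_lit 2306))
 (.leaf (nat_lit 0x10c2b91) (nat_lit 2818))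
))) (.node (nat_lit 0x10c2b99) (.node (nat_lit 0x10c2b95) (.leaf (nat_lit 0x10c2b93) (nat_lit 2562))
 (.node (nat_lit 0x10c2b97) (.leaf (nat_lit 0x10c2b95) (nat_lit 2817))
 (.leaf (nat_lit 0x10c2b97) (nat_lit 2561))
)) (.node (nat_lit 0x10c2b9b) (.leaf (nat_lit 0x10c2b99) (nat_lit 2565))
 (.node (nat_lit 0x10c2b9d) (.leaf (nat_lit 0x10c2b9b) (nat_lit 2821))
 (.leaf (nat_lit 0x10c2b9d) (nat_lit 2306))
))))) (.node (nat_lit 0x10c2bd3) (.node (nat_lit 0x10c2bc9) (.node (nat_lit 0x10c2bc3) (.node (nat_lit 0x10c2bc1) (.leaf (nat_lit 0x10c2b9f) (nat_lit 2307))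
 (.leaf (nat_lit 0x10c2bc1) (nat_lit 1797))
) (.node (nat_lit 0x10c2bc5) (.leaf (nat_lit 0x10c2bc3) (nat_lit 2053))
 (.node (nat_lit 0x10c2bc7) (.leaf (nat_lit 0x10c2bc5) (nat_lit 2309))
 (.leaf (nat_lit 0x10c2bc7) (nat_lit 2053))
))) (.node (nat_lit 0x10c2bcd) (.node (nat_lit 0x10c2bcb) (.leaf (nat_lit 0x10c2bc9) (nat_lit 2309))
 (.leaf (nat_lit 0x10c2bcb) (nat_lit 2053))
) (.node (nat_lit 0x10c2bcf) (.leaf (nat_lit 0x10c2bcd) (nat_lit 2309))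
 (.node (nat_lit 0x10c2bd1) (.leaf (nat_lit 0x10c2bcf) (nat_lit 2565))
 (.leaf (nat_lit 0x10c2bd1) (nat_lit 2821))
)))) (.node (nat_lit 0x10c2bdd) (.node (nat_lit 0x10c2bd7) (.node (nat_lit 0x10c2bd5) (.leaf (nat_lit 0x10c2bd3) (nat_lit 2565))
 (.leaf (nat_lit 0x10c2bd5) (nat_lit 2309))
) (.node (nat_lit 0x10c2bd9) (.leaf (nat_lit 0x10c2bd7) (nat_lit 2565))
 (.node (nat_lit 0x10c2bdb) (.leaf (nat_lit 0x10c2bd9) (nat_lit 2309))
 (.leaf (nat_lit 0x10c2bdb) (nat_lit 2565))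
))) (.node (nat_lit 0x10c3043) (.node (nat_lit 0x10c2bdf) (.leaf (nat_lit 0x10c2bdd) (nat_lit 2309))
 (.node (nat_lit 0x10c3041) (.leaf (nat_lit 0x10c2bdf) (nat_lit 2053))
 (.leaf (nat_lit 0x10c3041) (nat_lit 515))
)) (.node (nat_lit 0x10c3045) (.leaf (nat_lit 0x10c3043) (nat_lit 771))
 (.node (nat_lit 0x10c3047) (.leaf (nat_lit 0x10c3045) (nat_lit 1539))
 (.leaf (nat_lit 0x10c3047) (nat_lit 1283))
))))))) (.node (nat_lit 0x10c315d) (.node (nat_lit 0x10c30d3) (.node (nat_lit 0x10c305d) (.node (nat_lit 0x10c3053) (.node (nat_lit 0x10c304d) (.node (nat_lit 0x10c304b) (.leaf (nat_lit 0x10c3049) (nat_lit 2051))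
 (.leaf (nat_lit 0x10c304b) (nat_lit 2307))
) (.node (nat_lit 0x10c304f) (.leaf (nat_lit 0x10c304d) (nat_lit 1539))
 (.node (nat_lit 0x10c3051) (.leaf (nat_lit 0x10c304f) (nat_lit 1283))
 (.leaf (nat_lit 0x10c3051) (nat_lit 2562))
))) (.node (nat_lit 0x10c3057) (.node (nat_lit 0x10c3055) (.leaf (nat_lit 0x10c3053) (nat_lit 2818))
 (.leaf (nat_lit 0x10c3055) (nat_lit 2050))
) (.node (nat_lit 0x10c3059) (.leaf (nat_lit 0x10c3057) (nat_lit 1794))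
 (.node (nat_lit 0x10c305b) (.leaf (nat_lit 0x10c3059) (nat_lit 2561))
 (.leaf (nat_lit 0x10c305b) (nat_lit 2305))
)))) (.node (nat_lit 0x10c30c7) (.node (nat_lit 0x10c30c1) (.node (nat_lit 0x10c305f) (.leaf (nat_lit 0x10c305d) (nat_lit 2563))
 (.leaf (nat_lit 0x10c305f) (nat_lit 2307))
) (.node (nat_lit 0x10c30c3) (.leaf (nat_lit 0x10c30c1) (nat_lit 771))
 (.node (nat_lit 0x10c30c5) (.leaf (nat_lit 0x10c30c3) (nat_lit 1027))
 (.leaf (nat_lit 0x10c30c5) (nat_lit 1283))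
))) (.node (nat_lit 0x10c30cd) (.node (nat_lit 0x10c30c9) (.leaf (nat_lit 0x10c30c7) (nat_lit 1027))
 (.node (nat_lit 0x10c30cb) (.leaf (nat_lit 0x10c30c9) (nat_lit 1795))
 (.leaf (nat_lit 0x10c30cb) (nat_lit 1539))
)) (.node (nat_lit 0x10c30cf) (.leaf (nat_lit 0x10c30cd) (nat_lit 1795))
 (.node (nat_lit 0x10c30d1) (.leaf (nat_lit 0x10c30cf) (nat_lit 2051))
 (.leaf (nat_lit 0x10c30d1) (nat_lit 2306))
))))) (.node (nat_lit 0x10c3147) (.node (nat_lit 0x10c30dd) (.node (nat_lit 0x10c30d7) (.node (nat_lit 0x10c30d5) (.leaf (nat_lit 0x10c30d3) (nat_lit 2050))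
 (.leaf (nat_lit 0x10c30d5) (nat_lit 2306))
) (.node (nat_lit 0x10c30d9) (.leaf (nat_lit 0x10c30d7) (nat_lit 2562))
 (.node (nat_lit 0x10c30db) (.leaf (nat_lit 0x10c30d9) (nat_lit 2819))
 (.leaf (nat_lit 0x10c30db) (nat_lit 2563))
))) (.node (nat_lit 0x10c3141) (.node (nat_lit 0x10c30df) (.leaf (nat_lit 0x10c30dd) (nat_lit 2817))
 (.leaf (nat_lit 0x10c30df) (nat_lit 2561))
) (.node (nat_lit 0x10c3143) (.leaf (nat_lit 0x10c3141) (nat_lit 1027))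
 (.node (nat_lit 0x10c3145) (.leaf (nat_lit 0x10c3143) (nat_lit 1283))
 (.leaf (nat_lit 0x10c3145) (nat_lit 1539))
)))) (.node (nat_lit 0x10c3151) (.node (nat_lit 0x10c314b) (.node (nat_lit 0x10c3149) (.leaf (nat_lit 0x10c3147) (nat_lit 1283))
 (.leaf (nat_lit 0x10c3149) (nat_lit 1539))
) (.node (nat_lit 0x10c314d) (.leaf (nat_lit 0x10c314b) (nat_lit 1283))
 (.node (nat_lit 0x10c314f) (.leaf (nat_lit 0x10c314d) (nat_lit 1539))
 (.leaf (nat_lit 0x10c314f) (nat_lit 1795))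
))) (.node (nat_lit 0x10c3157) (.node (nat_lit 0x10c3153) (.leaf (nat_lit 0x10c3151) (nat_lit 2561))
 (.node (nat_lit 0x10c3155) (.leaf (nat_lit 0x10c3153) (nat_lit 2305))
 (.leaf (nat_lit 0x10c3155) (nat_lit 2561))
)) (.node (nat_lit 0x10c3159) (.leaf (nat_lit 0x10c3157) (nat_lit 2817))
 (.node (nat_lit 0x10c315b) (.leaf (nat_lit 0x10c3159) (nat_lit 2562))
 (.leaf (nat_lit 0x10c315b) (nat_lit 2818))
)))))) (.node (nat_lit 0x10c3247) (.node (nat_lit 0x10c31d1) (.node (nat_lit 0x10c31c7) (.node (nat_lit 0x10c31c1) (.node (nat_lit 0x10c315f) (.leaf (nat_lit 0x10c315d) (nat_lit 2562))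
 (.leaf (nat_lit 0x10c315f) (nat_lit 2306))
) (.node (nat_lit 0x10c31c3) (.leaf (nat_lit 0x10c31c1) (nat_lit 771))
 (.node (nat_lit 0x10c31c5) (.leaf (nat_lit 0x10c31c3) (nat_lit 1027))
 (.leaf (nat_lit 0x10c31c5) (nat_lit 1795))
))) (.node (nat_lit 0x10c31cb) (.node (nat_lit 0x10c31c9) (.leaf (nat_lit 0x10c31c7) (nat_lit 1539))
 (.leaf (nat_lit 0x10c31c9) (nat_lit 1795))
) (.node (nat_lit 0x10c31cd) (.leaf (nat_lit 0x10c31cb) (nat_lit 2051))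
 (.node (nat_lit 0x10c31cf) (.leaf (nat_lit 0x10c31cd) (nat_lit 1283))
 (.leaf (nat_lit 0x10c31cf) (nat_lit 1027))
)))) (.node (nat_lit 0x10c31db) (.node (nat_lit 0x10c31d5) (.node (nat_lit 0x10c31d3) (.leaf (nat_lit 0x10c31d1) (nat_lit 2817))
 (.leaf (nat_lit 0x10c31d3) (nat_lit 3073))
) (.node (nat_lit 0x10c31d7) (.leaf (nat_lit 0x10c31d5) (nat_lit 2305))
 (.node (nat_lit 0x10c31d9) (.leaf (nat_lit 0x10c31d7) (nat_lit 2049))
 (.leaf (nat_lit 0x10c31d9) (nat_lit 2306))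
))) (.node (nat_lit 0x10c3241) (.node (nat_lit 0x10c31dd) (.leaf (nat_lit 0x10c31db) (nat_lit 2050))
 (.node (nat_lit 0x10c31df) (.leaf (nat_lit 0x10c31dd) (nat_lit 2819))
 (.leaf (nat_lit 0x10c31df) (nat_lit 2563))
)) (.node (nat_lit 0x10c3243) (.leaf (nat_lit 0x10c3241) (nat_lit 1538))
 (.node (nat_lit 0x10c3245) (.leaf (nat_lit 0x10c3243) (nat_lit 1794))
 (.leaf (nat_lit 0x10c3245) (nat_lit 2050))
))))) (.node (nat_lit 0x10c325b) (.node (nat_lit 0x10c3251) (.node (nat_lit 0x10c324b) (.node (nat_lit 0x10c3249) (.leaf (nat_lit 0x10c3247) (nat_lit 1794))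
 (.leaf (nat_lit 0x10c3249) (nat_lit 2562))
) (.node (nat_lit 0x10c324d) (.leaf (nat_lit 0x10c324b) (nat_lit 2306))
 (.node (nat_lit 0x10c324f) (.leaf (nat_lit 0x10c324d) (nat_lit 2309))
 (.leaf (nat_lit 0x10c324f) (nat_lit 2565))
))) (.node (nat_lit 0x10c3255) (.node (nat_lit 0x10c3253) (.leaf (nat_lit 0x10c3251) (nat_lit 2050))
 (.leaf (nat_lit 0x10c3253) (nat_lit 1794))
) (.node (nat_lit 0x10c3257) (.leaf (nat_lit 0x10c3255) (nat_lit 2050))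
 (.node (nat_lit 0x10c3259) (.leaf (nat_lit 0x10c3257) (nat_lit 2306))
 (.leaf (nat_lit 0x10c3259) (nat_lit 2561))
)))) (.node (nat_lit 0x10c32c5) (.node (nat_lit 0x10c325f) (.node (nat_lit 0x10c325d) (.leaf (nat_lit 0x10c325b) (nat_lit 2817))
 (.leaf (nat_lit 0x10c325d) (nat_lit 2561))
) (.node (nat_lit 0x10c32c1) (.leaf (nat_lit 0x10c325f) (nat_lit 2305))
 (.node (nat_lit 0x10c32c3) (.leaf (nat_lit 0x10c32c1) (nat_lit 1282))
 (.leaf (nat_lit 0x10c32c3) (nat_lit 1538))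
))) (.node (nat_lit 0x10c32cb) (.node (nat_lit 0x10c32c7) (.leaf (nat_lit 0x10c32c5) (nat_lit 2306))
 (.node (nat_lit 0x10c32c9) (.leaf (nat_lit 0x10c32c7) (nat_lit 2050))
 (.leaf (nat_lit 0x10c32c9) (nat_lit 2818))
)) (.node (nat_lit 0x10c32cd) (.leaf (nat_lit 0x10c32cb) (nat_lit 2821))
 (.node (nat_lit 0x10c32cf) (.leaf (nat_lit 0x10c32cd) (nat_lit 2306))
 (.leaf (nat_lit 0x10c32cf) (nat_lit 2050))
)))))))) (.node (nat_lit 0x10c3959) (.node (nat_lit 0x10c3845) (.node (nat_lit 0x10c335b) (.node (nat_lit 0x10c3345) (.node (nat_lit 0x10c32db) (.node (nat_lit 0x10c32d5) (.node (nat_lit 0x10c32d3) (.leaf (nat_lit 0x10c32d1) (nat_lit 2306))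
 (.leaf (nat_lit 0x10c32d3) (nat_lit 2562))
) (.node (nat_lit 0x10c32d7) (.leaf (nat_lit 0x10c32d5) (nat_lit 1794))
 (.node (nat_lit 0x10c32d9) (.leaf (nat_lit 0x10c32d7) (nat_lit 1538))
 (.leaf (nat_lit 0x10c32d9) (nat_lit 2305))
))) (.node (nat_lit 0x10c32df) (.node (nat_lit 0x10c32dd) (.leaf (nat_lit 0x10c32db) (nat_lit 2049))
 (.leaf (nat_lit 0x10c32dd) (nat_lit 2818))
) (.node (nat_lit 0x10c3341) (.leaf (nat_lit 0x10c32df) (nat_lit 2562))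
 (.node (nat_lit 0x10c3343) (.leaf (nat_lit 0x10c3341) (nat_lit 1538))
 (.leaf (nat_lit 0x10c3343) (nat_lit 1794))
)))) (.node (nat_lit 0x10c334f) (.node (nat_lit 0x10c3349) (.node (nat_lit 0x10c3347) (.leaf (nat_lit 0x10c3345) (nat_lit 2562))
 (.leaf (nat_lit 0x10c3347) (nat_lit 2306))
) (.node (nat_lit 0x10c334b) (.leaf (nat_lit 0x10c3349) (nat_lit 2562))
 (.node (nat_lit 0x10c334d) (.leaf (nat_lit 0x10c334b) (nat_lit 2818))
 (.leaf (nat_lit 0x10c334d) (nat_lit 2050))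
))) (.node (nat_lit 0x10c3355) (.node (nat_lit 0x10c3351) (.leaf (nat_lit 0x10c334f) (nat_lit 1794))
 (.node (nat_lit 0x10c3353) (.leaf (nat_lit 0x10c3351) (nat_lit 2561))
 (.leaf (nat_lit 0x10c3353) (nat_lit 2817))
)) (.node (nat_lit 0x10c3357) (.leaf (nat_lit 0x10c3355) (nat_lit 2049))
 (.node (nat_lit 0x10c3359) (.leaf (nat_lit 0x10c3357) (nat_lit 1793))
 (.leaf (nat_lit 0x10c3359) (nat_lit 2050))
))))) (.node (nat_lit 0x10c33cf) (.node (nat_lit 0x10c33c5) (.node (nat_lit 0x10c335f) (.node (nat_lit 0x10c335d) (.leaf (nat_lit 0x10c335b) (nat_lit 1794))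
 (.leaf (nat_lit 0x10c335d) (nat_lit 2563))
) (.node (nat_lit 0x10c33c1) (.leaf (nat_lit 0x10c335f) (nat_lit 2307))
 (.node (nat_lit 0x10c33c3) (.leaf (nat_lit 0x10c33c1) (nat_lit 1794))
 (.leaf (nat_lit 0x10c33c3) (nat_lit 2050))
))) (.node (nat_lit 0x10c33c9) (.node (nat_lit 0x10c33c7) (.leaf (nat_lit 0x10c33c5) (nat_lit 2306))
 (.leaf (nat_lit 0x10c33c7) (nat_lit 2050))
) (.node (nat_lit 0x10c33cb) (.leaf (nat_lit 0x10c33c9) (nat_lit 2306))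
 (.node (nat_lit 0x10c33cd) (.leaf (nat_lit 0x10c33cb) (nat_lit 2050))
 (.leaf (nat_lit 0x10c33cd) (nat_lit 2306))
)))) (.node (nat_lit 0x10c33d9) (.node (nat_lit 0x10c33d3) (.node (nat_lit 0x10c33d1) (.leaf (nat_lit 0x10c33cf) (nat_lit 2562))
 (.leaf (nat_lit 0x10c33d1) (nat_lit 2305))
) (.node (nat_lit 0x10c33d5) (.leaf (nat_lit 0x10c33d3) (nat_lit 2049))
 (.node (nat_lit 0x10c33d7) (.leaf (nat_lit 0x10c33d5) (nat_lit 2305))
 (.leaf (nat_lit 0x10c33d7) (nat_lit 2561))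
))) (.node (nat_lit 0x10c33df) (.node (nat_lit 0x10c33db) (.leaf (nat_lit 0x10c33d9) (nat_lit 2306))
 (.node (nat_lit 0x10c33dd) (.leaf (nat_lit 0x10c33db) (nat_lit 2562))
 (.leaf (nat_lit 0x10c33dd) (nat_lit 2306))
)) (.node (nat_lit 0x10c3841) (.leaf (nat_lit 0x10c33df) (nat_lit 2050))
 (.node (nat_lit 0x10c3843) (.leaf (nat_lit 0x10c3841) (nat_lit 773))
 (.leaf (nat_lit 0x10c3843) (nat_lit 1029))
)))))) (.node (nat_lit 0x10c388f) (.node (nat_lit 0x10c3859) (.node (nat_lit 0x10c384f) (.node (nat_lit 0x10c3849) (.node (nat_lit 0x10c3847) (.leaf (nat_lit 0x10c3845) (nat_lit 1539))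
 (.leaf (nat_lit 0x10c3847) (nat_lit 1541))
) (.node (nat_lit 0x10c384b) (.leaf (nat_lit 0x10c3849) (nat_lit 2309))
 (.node (nat_lit 0x10c384d) (.leaf (nat_lit 0x10c384b) (nat_lit 2305))
 (.leaf (nat_lit 0x10c384d) (nat_lit 1537))
))) (.node (nat_lit 0x10c3853) (.node (nat_lit 0x10c3851) (.leaf (nat_lit 0x10c384f) (nat_lit 1541))
 (.leaf (nat_lit 0x10c3851) (nat_lit 2821))
) (.node (nat_lit 0x10c3855) (.leaf (nat_lit 0x10c3853) (nat_lit 2818))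
 (.node (nat_lit 0x10c3857) (.leaf (nat_lit 0x10c3855) (nat_lit 2050))
 (.leaf (nat_lit 0x10c3857) (nat_lit 2053))
)))) (.node (nat_lit 0x10c3883) (.node (nat_lit 0x10c385d) (.node (nat_lit 0x10c385b) (.leaf (nat_lit 0x10c3859) (nat_lit 2821))
 (.leaf (nat_lit 0x10c385b) (nat_lit 2565))
) (.node (nat_lit 0x10c385f) (.leaf (nat_lit 0x10c385d) (nat_lit 2562))
 (.node (nat_lit 0x10c3881) (.leaf (nat_lit 0x10c385f) (nat_lit 2565))
 (.leaf (nat_lit 0x10c3881) (nat_lit 1027))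
))) (.node (nat_lit 0x10c3889) (.node (nat_lit 0x10c3885) (.leaf (nat_lit 0x10c3883) (nat_lit 1283))
 (.node (nat_lit 0x10c3887) (.leaf (nat_lit 0x10c3885) (nat_lit 1283))
 (.leaf (nat_lit 0x10c3887) (nat_lit 1539))
)) (.node (nat_lit 0x10c388b) (.leaf (nat_lit 0x10c3889) (nat_lit 2051))
 (.node (nat_lit 0x10c388d) (.leaf (nat_lit 0x10c388b) (nat_lit 1795))
 (.leaf (nat_lit 0x10c388d) (nat_lit 2305))
))))) (.node (nat_lit 0x10c3943) (.node (nat_lit 0x10c3899) (.node (nat_lit 0x10c3893) (.node (nat_lit 0x10c3891) (.leaf (nat_lit 0x10c388f) (nat_lit 2049))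
 (.leaf (nat_lit 0x10c3891) (nat_lit 2562))
) (.node (nat_lit 0x10c3895) (.leaf (nat_lit 0x10c3893) (nat_lit 2306))
 (.node (nat_lit 0x10c3897) (.leaf (nat_lit 0x10c3895) (nat_lit 2818))
 (.leaf (nat_lit 0x10c3897) (nat_lit 2562))
))) (.node (nat_lit 0x10c389d) (.node (nat_lit 0x10c389b) (.leaf (nat_lit 0x10c3899) (nat_lit 3075))
 (.leaf (nat_lit 0x10c389b) (nat_lit 2819))
) (.node (nat_lit 0x10c389f) (.leaf (nat_lit 0x10c389d) (nat_lit 2817))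
 (.node (nat_lit 0x10c3941) (.leaf (nat_lit 0x10c389f) (nat_lit 2819))
 (.leaf (nat_lit 0x10c3941) (nat_lit 1283))
)))) (.node (nat_lit 0x10c394d) (.node (nat_lit 0x10c3947) (.node (nat_lit 0x10c3945) (.leaf (nat_lit 0x10c3943) (nat_lit 1539))
 (.leaf (nat_lit 0x10c3945) (nat_lit 1539))
) (.node (nat_lit 0x10c3949) (.leaf (nat_lit 0x10c3947) (nat_lit 1795))
 (.node (nat_lit 0x10c394b) (.leaf (nat_lit 0x10c3949) (nat_lit 1795))
 (.leaf (nat_lit 0x10c394b) (nat_lit 1539))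
))) (.node (nat_lit 0x10c3953) (.node (nat_lit 0x10c394f) (.leaf (nat_lit 0x10c394d) (nat_lit 2053))
 (.node (nat_lit 0x10c3951) (.leaf (nat_lit 0x10c394f) (nat_lit 1797))
 (.leaf (nat_lit 0x10c3951) (nat_lit 2817))
)) (.node (nat_lit 0x10c3955) (.leaf (nat_lit 0x10c3953) (nat_lit 2561))
 (.node (nat_lit 0x10c3957) (.leaf (nat_lit 0x10c3955) (nat_lit 3077))
 (.leaf (nat_lit 0x10c3957) (nat_lit 2821))
))))))) (.node (nat_lit 0x10c3a8d) (.node (nat_lit 0x10c3a43) (.node (nat_lit 0x10c398d) (.node (nat_lit 0x10c3983) (.node (nat_lit 0x10c395d) (.node (nat_lit 0x10c395b) (.leaf (nat_lit 0x10c3959) (nat_lit 2818))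
 (.leaf (nat_lit 0x10c395b) (nat_lit 3074))
) (.node (nat_lit 0x10c395f) (.leaf (nat_lit 0x10c395d) (nat_lit 2562))
 (.node (nat_lit 0x10c3981) (.leaf (nat_lit 0x10c395f) (nat_lit 2818))
 (.leaf (nat_lit 0x10c3981) (nat_lit 1025))
))) (.node (nat_lit 0x10c3987) (.node (nat_lit 0x10c3985) (.leaf (nat_lit 0x10c3983) (nat_lit 1281))
 (.leaf (nat_lit 0x10c3985) (nat_lit 1795))
) (.node (nat_lit 0x10c3989) (.leaf (nat_lit 0x10c3987) (nat_lit 1793))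
 (.node (nat_lit 0x10c398b) (.leaf (nat_lit 0x10c3989) (nat_lit 2051))
 (.leaf (nat_lit 0x10c398b) (nat_lit 2048))
)))) (.node (nat_lit 0x10c3997) (.node (nat_lit 0x10c3991) (.node (nat_lit 0x10c398f) (.leaf (nat_lit 0x10c398d) (nat_lit 1280))
 (.leaf (nat_lit 0x10c398f) (nat_lit 1536))
) (.node (nat_lit 0x10c3993) (.leaf (nat_lit 0x10c3991) (nat_lit 3073))
 (.node (nat_lit 0x10c3995) (.leaf (nat_lit 0x10c3993) (nat_lit 3073))
 (.leaf (nat_lit 0x10c3995) (nat_lit 2305))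
))) (.node (nat_lit 0x10c399d) (.node (nat_lit 0x10c3999) (.leaf (nat_lit 0x10c3997) (nat_lit 2305))
 (.node (nat_lit 0x10c399b) (.leaf (nat_lit 0x10c3999) (nat_lit 2562))
 (.leaf (nat_lit 0x10c399b) (nat_lit 2306))
)) (.node (nat_lit 0x10c399f) (.leaf (nat_lit 0x10c399d) (nat_lit 2817))
 (.node (nat_lit 0x10c3a41) (.leaf (nat_lit 0x10c399f) (nat_lit 2817))
 (.leaf (nat_lit 0x10c3a41) (nat_lit 1797))
))))) (.node (nat_lit 0x10c3a57) (.node (nat_lit 0x10c3a4d) (.node (nat_lit 0x10c3a47) (.node (nat_lit 0x10c3a45) (.leaf (nat_lit 0x10c3a43) (nat_lit 2053))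
 (.leaf (nat_lit 0x10c3a45) (nat_lit 2050))
) (.node (nat_lit 0x10c3a49) (.leaf (nat_lit 0x10c3a47) (nat_lit 2306))
 (.node (nat_lit 0x10c3a4b) (.leaf (nat_lit 0x10c3a49) (nat_lit 2821))
 (.leaf (nat_lit 0x10c3a4b) (nat_lit 2565))
))) (.node (nat_lit 0x10c3a51) (.node (nat_lit 0x10c3a4f) (.leaf (nat_lit 0x10c3a4d) (nat_lit 2309))
 (.leaf (nat_lit 0x10c3a4f) (nat_lit 2053))
) (.node (nat_lit 0x10c3a53) (.leaf (nat_lit 0x10c3a51) (nat_lit 2309))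
 (.node (nat_lit 0x10c3a55) (.leaf (nat_lit 0x10c3a53) (nat_lit 2053))
 (.leaf (nat_lit 0x10c3a55) (nat_lit 2562))
)))) (.node (nat_lit 0x10c3a81) (.node (nat_lit 0x10c3a5b) (.node (nat_lit 0x10c3a59) (.leaf (nat_lit 0x10c3a57) (nat_lit 2306))
 (.leaf (nat_lit 0x10c3a59) (nat_lit 2821))
) (.node (nat_lit 0x10c3a5d) (.leaf (nat_lit 0x10c3a5b) (nat_lit 2819))
 (.node (nat_lit 0x10c3a5f) (.leaf (nat_lit 0x10c3a5d) (nat_lit 2309))
 (.leaf (nat_lit 0x10c3a5f) (nat_lit 2565))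
))) (.node (nat_lit 0x10c3a87) (.node (nat_lit 0x10c3a83) (.leaf (nat_lit 0x10c3a81) (nat_lit 1538))
 (.node (nat_lit 0x10c3a85) (.leaf (nat_lit 0x10c3a83) (nat_lit 1794))
 (.leaf (nat_lit 0x10c3a85) (nat_lit 2306))
)) (.node (nat_lit 0x10c3a89) (.leaf (nat_lit 0x10c3a87) (nat_lit 2306))
 (.node (nat_lit 0x10c3a8b) (.leaf (nat_lit 0x10c3a89) (nat_lit 2817))
 (.leaf (nat_lit 0x10c3a8b) (nat_lit 3073))
)))))) (.node (nat_lit 0x10c3b57) (.node (nat_lit 0x10c3b41) (.node (nat_lit 0x10c3a97) (.node (nat_lit 0x10c3a91) (.node (nat_lit 0x10c3a8f) (.leaf (nat_lit 0x10c3a8d) (nat_lit 2305))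
 (.leaf (nat_lit 0x10c3a8f) (nat_lit 2049))
) (.node (nat_lit 0x10c3a93) (.leaf (nat_lit 0x10c3a91) (nat_lit 2562))
 (.node (nat_lit 0x10c3a95) (.leaf (nat_lit 0x10c3a93) (nat_lit 2562))
 (.leaf (nat_lit 0x10c3a95) (nat_lit 1794))
))) (.node (nat_lit 0x10c3a9b) (.node (nat_lit 0x10c3a99) (.leaf (nat_lit 0x10c3a97) (nat_lit 2050))
 (.leaf (nat_lit 0x10c3a99) (nat_lit 2305))
) (.node (nat_lit 0x10c3a9d) (.leaf (nat_lit 0x10c3a9b) (nat_lit 2049))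
 (.node (nat_lit 0x10c3a9f) (.leaf (nat_lit 0x10c3a9d) (nat_lit 2817))
 (.leaf (nat_lit 0x10c3a9f) (nat_lit 2818))
)))) (.node (nat_lit 0x10c3b4b) (.node (nat_lit 0x10c3b45) (.node (nat_lit 0x10c3b43) (.leaf (nat_lit 0x10c3b41) (nat_lit 1541))
 (.leaf (nat_lit 0x10c3b43) (nat_lit 1797))
) (.node (nat_lit 0x10c3b47) (.leaf (nat_lit 0x10c3b45) (nat_lit 2565))
 (.node (nat_lit 0x10c3b49) (.leaf (nat_lit 0x10c3b47) (nat_lit 2309))
 (.leaf (nat_lit 0x10c3b49) (nat_lit 2565))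
))) (.node (nat_lit 0x10c3b51) (.node (nat_lit 0x10c3b4d) (.leaf (nat_lit 0x10c3b4b) (nat_lit 2821))
 (.node (nat_lit 0x10c3b4f) (.leaf (nat_lit 0x10c3b4d) (nat_lit 2053))
 (.leaf (nat_lit 0x10c3b4f) (nat_lit 1797))
)) (.node (nat_lit 0x10c3b53) (.leaf (nat_lit 0x10c3b51) (nat_lit 2817))
 (.node (nat_lit 0x10c3b55) (.leaf (nat_lit 0x10c3b53) (nat_lit 2821))
 (.leaf (nat_lit 0x10c3b55) (nat_lit 2053))
))))) (.node (nat_lit 0x10c3b8b) (.node (nat_lit 0x10c3b81) (.node (nat_lit 0x10c3b5b) (.node (nat_lit 0x10c3b59) (.leaf (nat_lit 0x10c3b57) (nat_lit 2309))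
 (.leaf (nat_lit 0x10c3b59) (nat_lit 2053))
) (.node (nat_lit 0x10c3b5d) (.leaf (nat_lit 0x10c3b5b) (nat_lit 1797))
 (.node (nat_lit 0x10c3b5f) (.leaf (nat_lit 0x10c3b5d) (nat_lit 2565))
 (.leaf (nat_lit 0x10c3b5f) (nat_lit 2821))
))) (.node (nat_lit 0x10c3b85) (.node (nat_lit 0x10c3b83) (.leaf (nat_lit 0x10c3b81) (nat_lit 2049))
 (.leaf (nat_lit 0x10c3b83) (nat_lit 2305))
) (.node (nat_lit 0x10c3b87) (.leaf (nat_lit 0x10c3b85) (nat_lit 2306))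
 (.node (nat_lit 0x10c3b89) (.leaf (nat_lit 0x10c3b87) (nat_lit 2562))
 (.leaf (nat_lit 0x10c3b89) (nat_lit 2562))
)))) (.node (nat_lit 0x10c3b95) (.node (nat_lit 0x10c3b8f) (.node (nat_lit 0x10c3b8d) (.leaf (nat_lit 0x10c3b8b) (nat_lit 2306))
 (.leaf (nat_lit 0x10c3b8d) (nat_lit 2561))
) (.node (nat_lit 0x10c3b91) (.leaf (nat_lit 0x10c3b8f) (nat_lit 2305))
 (.node (nat_lit 0x10c3b93) (.leaf (nat_lit 0x10c3b91) (nat_lit 2561))
 (.leaf (nat_lit 0x10c3b93) (nat_lit 2305))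
))) (.node (nat_lit 0x10c3b9b) (.node (nat_lit 0x10c3b97) (.leaf (nat_lit 0x10c3b95) (nat_lit 2817))
 (.node (nat_lit 0x10c3b99) (.leaf (nat_lit 0x10c3b97) (nat_lit 2561))
 (.leaf (nat_lit 0x10c3b99) (nat_lit 2562))
)) (.node (nat_lit 0x10c3b9d) (.leaf (nat_lit 0x10c3b9b) (nat_lit 2563))
 (.node (nat_lit 0x10c3b9f) (.leaf (nat_lit 0x10c3b9d) (nat_lit 2304))
 (.leaf (nat_lit 0x10c3b9f) (nat_lit 2560))
))))))))))))) (.node (nat_lit 0x10e2041) (.node (nat_lit 0x10d3241) (.node (nat_lit 0x10c7941) (.node (nat_lit 0x10c5a81) (.node (nat_lit 0x10c5151) (.node (nat_lit 0x10c4ac9) (.node (nat_lit 0x10c4995) (.node (nat_lit 0x10c48cb) (.node (nat_lit 0x10c4895) (.node (nat_lit 0x10c488b) (.node (nat_lit 0x10c4885) (.node (nat_lit 0x10c4883) (.leaf (nat_lit 0x10c4881) (nat_lit 1538))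
 (.leaf (nat_lit 0x10c4883) (nat_lit 1794))
) (.node (nat_lit 0x10c4887) (.leaf (nat_lit 0x10c4885) (nat_lit 1794))
 (.node (nat_lit 0x10c4889) (.leaf (nat_lit 0x10c4887) (nat_lit 1794))
 (.leaf (nat_lit 0x10c4889) (nat_lit 2562))
))) (.node (nat_lit 0x10c488f) (.node (nat_lit 0x10c488d) (.leaf (nat_lit 0x10c488b) (nat_lit 2306))
 (.leaf (nat_lit 0x10c488d) (nat_lit 2306))
) (.node (nat_lit 0x10c4891) (.leaf (nat_lit 0x10c488f) (nat_lit 2050))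
 (.node (nat_lit 0x10c4893) (.leaf (nat_lit 0x10c4891) (nat_lit 2565))
 (.leaf (nat_lit 0x10c4893) (nat_lit 2309))
)))) (.node (nat_lit 0x10c489f) (.node (nat_lit 0x10c4899) (.node (nat_lit 0x10c4897) (.leaf (nat_lit 0x10c4895) (nat_lit 2561))
 (.leaf (nat_lit 0x10c4897) (nat_lit 2305))
) (.node (nat_lit 0x10c489b) (.leaf (nat_lit 0x10c4899) (nat_lit 2817))
 (.node (nat_lit 0x10c489d) (.leaf (nat_lit 0x10c489b) (nat_lit 2819))
 (.leaf (nat_lit 0x10c489d) (nat_lit 2819))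
))) (.node (nat_lit 0x10c48c5) (.node (nat_lit 0x10c48c1) (.leaf (nat_lit 0x10c489f) (nat_lit 2563))
 (.node (nat_lit 0x10c48c3) (.leaf (nat_lit 0x10c48c1) (nat_lit 1285))
 (.leaf (nat_lit 0x10c48c3) (nat_lit 1541))
)) (.node (nat_lit 0x10c48c7) (.leaf (nat_lit 0x10c48c5) (nat_lit 1797))
 (.node (nat_lit 0x10c48c9) (.leaf (nat_lit 0x10c48c7) (nat_lit 1541))
 (.leaf (nat_lit 0x10c48c9) (nat_lit 2309))
))))) (.node (nat_lit 0x10c48df) (.node (nat_lit 0x10c48d5) (.node (nat_lit 0x10c48cf) (.node (nat_lit 0x10c48cd) (.leaf (nat_lit 0x10c48cb) (nat_lit 2053))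
 (.leaf (nat_lit 0x10c48cd) (nat_lit 2050))
) (.node (nat_lit 0x10c48d1) (.leaf (nat_lit 0x10c48cf) (nat_lit 2306))
 (.node (nat_lit 0x10c48d3) (.leaf (nat_lit 0x10c48d1) (nat_lit 2309))
 (.leaf (nat_lit 0x10c48d3) (nat_lit 2053))
))) (.node (nat_lit 0x10c48d9) (.node (nat_lit 0x10c48d7) (.leaf (nat_lit 0x10c48d5) (nat_lit 2049))
 (.leaf (nat_lit 0x10c48d7) (nat_lit 2305))
) (.node (nat_lit 0x10c48db) (.leaf (nat_lit 0x10c48d9) (nat_lit 2821))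
 (.node (nat_lit 0x10c48dd) (.leaf (nat_lit 0x10c48db) (nat_lit 2565))
 (.leaf (nat_lit 0x10c48dd) (nat_lit 2563))
)))) (.node (nat_lit 0x10c4989) (.node (nat_lit 0x10c4983) (.node (nat_lit 0x10c4981) (.leaf (nat_lit 0x10c48df) (nat_lit 2819))
 (.leaf (nat_lit 0x10c4981) (nat_lit 1538))
) (.node (nat_lit 0x10c4985) (.leaf (nat_lit 0x10c4983) (nat_lit 1794))
 (.node (nat_lit 0x10c4987) (.leaf (nat_lit 0x10c4985) (nat_lit 2050))
 (.leaf (nat_lit 0x10c4987) (nat_lit 1794))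
))) (.node (nat_lit 0x10c498f) (.node (nat_lit 0x10c498b) (.leaf (nat_lit 0x10c4989) (nat_lit 2306))
 (.node (nat_lit 0x10c498d) (.leaf (nat_lit 0x10c498b) (nat_lit 2050))
 (.leaf (nat_lit 0x10c498d) (nat_lit 1794))
)) (.node (nat_lit 0x10c4991) (.leaf (nat_lit 0x10c498f) (nat_lit 2050))
 (.node (nat_lit 0x10c4993) (.leaf (nat_lit 0x10c4991) (nat_lit 2817))
 (.leaf (nat_lit 0x10c4993) (nat_lit 2561))
)))))) (.node (nat_lit 0x10c49df) (.node (nat_lit 0x10c49c9) (.node (nat_lit 0x10c499f) (.node (nat_lit 0x10c4999) (.node (nat_lit 0x10c4997) (.leaf (nat_lit 0x10c4995) (nat_lit 2817))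
 (.leaf (nat_lit 0x10c4997) (nat_lit 2819))
) (.node (nat_lit 0x10c499b) (.leaf (nat_lit 0x10c4999) (nat_lit 2561))
 (.node (nat_lit 0x10c499d) (.leaf (nat_lit 0x10c499b) (nat_lit 2817))
 (.leaf (nat_lit 0x10c499d) (nat_lit 2561))
))) (.node (nat_lit 0x10c49c3) (.node (nat_lit 0x10c49c1) (.leaf (nat_lit 0x10c499f) (nat_lit 2305))
 (.leaf (nat_lit 0x10c49c1) (nat_lit 1541))
) (.node (nat_lit 0x10c49c5) (.leaf (nat_lit 0x10c49c3) (nat_lit 1797))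
 (.node (nat_lit 0x10c49c7) (.leaf (nat_lit 0x10c49c5) (nat_lit 2050))
 (.leaf (nat_lit 0x10c49c7) (nat_lit 2050))
)))) (.node (nat_lit 0x10c49d3) (.node (nat_lit 0x10c49cd) (.node (nat_lit 0x10c49cb) (.leaf (nat_lit 0x10c49c9) (nat_lit 2306))
 (.leaf (nat_lit 0x10c49cb) (nat_lit 2309))
) (.node (nat_lit 0x10c49cf) (.leaf (nat_lit 0x10c49cd) (nat_lit 2053))
 (.node (nat_lit 0x10c49d1) (.leaf (nat_lit 0x10c49cf) (nat_lit 1797))
 (.leaf (nat_lit 0x10c49d1) (nat_lit 2565))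
))) (.node (nat_lit 0x10c49d9) (.node (nat_lit 0x10c49d5) (.leaf (nat_lit 0x10c49d3) (nat_lit 2309))
 (.node (nat_lit 0x10c49d7) (.leaf (nat_lit 0x10c49d5) (nat_lit 2819))
 (.leaf (nat_lit 0x10c49d7) (nat_lit 3075))
)) (.node (nat_lit 0x10c49db) (.leaf (nat_lit 0x10c49d9) (nat_lit 2817))
 (.node (nat_lit 0x10c49dd) (.leaf (nat_lit 0x10c49db) (nat_lit 2819))
 (.leaf (nat_lit 0x10c49dd) (nat_lit 2305))
))))) (.node (nat_lit 0x10c4a93) (.node (nat_lit 0x10c4a89) (.node (nat_lit 0x10c4a83) (.node (nat_lit 0x10c4a81) (.leaf (nat_lit 0x10c49df) (nat_lit 2561))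
 (.leaf (nat_lit 0x10c4a81) (nat_lit 1537))
) (.node (nat_lit 0x10c4a85) (.leaf (nat_lit 0x10c4a83) (nat_lit 1793))
 (.node (nat_lit 0x10c4a87) (.leaf (nat_lit 0x10c4a85) (nat_lit 2049))
 (.leaf (nat_lit 0x10c4a87) (nat_lit 1793))
))) (.node (nat_lit 0x10c4a8d) (.node (nat_lit 0x10c4a8b) (.leaf (nat_lit 0x10c4a89) (nat_lit 2561))
 (.leaf (nat_lit 0x10c4a8b) (nat_lit 2305))
) (.node (nat_lit 0x10c4a8f) (.leaf (nat_lit 0x10c4a8d) (nat_lit 2305))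
 (.node (nat_lit 0x10c4a91) (.leaf (nat_lit 0x10c4a8f) (nat_lit 2561))
 (.leaf (nat_lit 0x10c4a91) (nat_lit 2304))
)))) (.node (nat_lit 0x10c4a9d) (.node (nat_lit 0x10c4a97) (.node (nat_lit 0x10c4a95) (.leaf (nat_lit 0x10c4a93) (nat_lit 2048))
 (.leaf (nat_lit 0x10c4a95) (nat_lit 1792))
) (.node (nat_lit 0x10c4a99) (.leaf (nat_lit 0x10c4a97) (nat_lit 2048))
 (.node (nat_lit 0x10c4a9b) (.leaf (nat_lit 0x10c4a99) (nat_lit 2560))
 (.leaf (nat_lit 0x10c4a9b) (nat_lit 2816))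
))) (.node (nat_lit 0x10c4ac3) (.node (nat_lit 0x10c4a9f) (.leaf (nat_lit 0x10c4a9d) (nat_lit 2816))
 (.node (nat_lit 0x10c4ac1) (.leaf (nat_lit 0x10c4a9f) (nat_lit 2560))
 (.leaf (nat_lit 0x10c4ac1) (nat_lit 1793))
)) (.node (nat_lit 0x10c4ac5) (.leaf (nat_lit 0x10c4ac3) (nat_lit 2049))
 (.node (nat_lit 0x10c4ac7) (.leaf (nat_lit 0x10c4ac5) (nat_lit 2049))
 (.leaf (nat_lit 0x10c4ac7) (nat_lit 2049))
))))))) (.node (nat_lit 0x10c4bdd) (.node (nat_lit 0x10c4b93) (.node (nat_lit 0x10c4add) (.node (nat_lit 0x10c4ad3) (.node (nat_lit 0x10c4acd) (.node (nat_lit 0x10c4acb) (.leaf (nat_lit 0x10c4ac9) (nat_lit 2821))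
 (.leaf (nat_lit 0x10c4acb) (nat_lit 2565))
) (.node (nat_lit 0x10c4acf) (.leaf (nat_lit 0x10c4acd) (nat_lit 2561))
 (.node (nat_lit 0x10c4ad1) (.leaf (nat_lit 0x10c4acf) (nat_lit 2305))
 (.leaf (nat_lit 0x10c4ad1) (nat_lit 2304))
))) (.node (nat_lit 0x10c4ad7) (.node (nat_lit 0x10c4ad5) (.leaf (nat_lit 0x10c4ad3) (nat_lit 2304))
 (.leaf (nat_lit 0x10c4ad5) (nat_lit 2304))
) (.node (nat_lit 0x10c4ad9) (.leaf (nat_lit 0x10c4ad7) (nat_lit 2048))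
 (.node (nat_lit 0x10c4adb) (.leaf (nat_lit 0x10c4ad9) (nat_lit 2560))
 (.leaf (nat_lit 0x10c4adb) (nat_lit 2816))
)))) (.node (nat_lit 0x10c4b87) (.node (nat_lit 0x10c4b81) (.node (nat_lit 0x10c4adf) (.leaf (nat_lit 0x10c4add) (nat_lit 2821))
 (.leaf (nat_lit 0x10c4adf) (nat_lit 2819))
) (.node (nat_lit 0x10c4b83) (.leaf (nat_lit 0x10c4b81) (nat_lit 1793))
 (.node (nat_lit 0x10c4b85) (.leaf (nat_lit 0x10c4b83) (nat_lit 2049))
 (.leaf (nat_lit 0x10c4b85) (nat_lit 2305))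
))) (.node (nat_lit 0x10c4b8d) (.node (nat_lit 0x10c4b89) (.leaf (nat_lit 0x10c4b87) (nat_lit 2307))
 (.node (nat_lit 0x10c4b8b) (.leaf (nat_lit 0x10c4b89) (nat_lit 2561))
 (.leaf (nat_lit 0x10c4b8b) (nat_lit 2561))
)) (.node (nat_lit 0x10c4b8f) (.leaf (nat_lit 0x10c4b8d) (nat_lit 2305))
 (.node (nat_lit 0x10c4b91) (.leaf (nat_lit 0x10c4b8f) (nat_lit 2049))
 (.leaf (nat_lit 0x10c4b91) (nat_lit 2560))
))))) (.node (nat_lit 0x10c4bc7) (.node (nat_lit 0x10c4b9d) (.node (nat_lit 0x10c4b97) (.node (nat_lit 0x10c4b95) (.leaf (nat_lit 0x10c4b93) (nat_lit 2304))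
 (.leaf (nat_lit 0x10c4b95) (nat_lit 2816))
) (.node (nat_lit 0x10c4b99) (.leaf (nat_lit 0x10c4b97) (nat_lit 2816))
 (.node (nat_lit 0x10c4b9b) (.leaf (nat_lit 0x10c4b99) (nat_lit 2560))
 (.leaf (nat_lit 0x10c4b9b) (nat_lit 2563))
))) (.node (nat_lit 0x10c4bc1) (.node (nat_lit 0x10c4b9f) (.leaf (nat_lit 0x10c4b9d) (nat_lit 2048))
 (.leaf (nat_lit 0x10c4b9f) (nat_lit 2304))
) (.node (nat_lit 0x10c4bc3) (.leaf (nat_lit 0x10c4bc1) (nat_lit 1793))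
 (.node (nat_lit 0x10c4bc5) (.leaf (nat_lit 0x10c4bc3) (nat_lit 2049))
 (.leaf (nat_lit 0x10c4bc5) (nat_lit 2305))
)))) (.node (nat_lit 0x10c4bd1) (.node (nat_lit 0x10c4bcb) (.node (nat_lit 0x10c4bc9) (.leaf (nat_lit 0x10c4bc7) (nat_lit 2049))
 (.leaf (nat_lit 0x10c4bc9) (nat_lit 2561))
) (.node (nat_lit 0x10c4bcd) (.leaf (nat_lit 0x10c4bcb) (nat_lit 2305))
 (.node (nat_lit 0x10c4bcf) (.leaf (nat_lit 0x10c4bcd) (nat_lit 2049))
 (.leaf (nat_lit 0x10c4bcf) (nat_lit 2305))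
))) (.node (nat_lit 0x10c4bd7) (.node (nat_lit 0x10c4bd3) (.leaf (nat_lit 0x10c4bd1) (nat_lit 2565))
 (.node (nat_lit 0x10c4bd5) (.leaf (nat_lit 0x10c4bd3) (nat_lit 2309))
 (.leaf (nat_lit 0x10c4bd5) (nat_lit 2565))
)) (.node (nat_lit 0x10c4bd9) (.leaf (nat_lit 0x10c4bd7) (nat_lit 2821))
 (.node (nat_lit 0x10c4bdb) (.leaf (nat_lit 0x10c4bd9) (nat_lit 2304))
 (.leaf (nat_lit 0x10c4bdb) (nat_lit 2560))
)))))) (.node (nat_lit 0x10c50c7) (.node (nat_lit 0x10c5051) (.node (nat_lit 0x10c5047) (.node (nat_lit 0x10c5041) (.node (nat_lit 0x10c4bdf) (.leaf (nat_lit 0x10c4bdd) (nat_lit 2304))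
 (.leaf (nat_lit 0x10c4bdf) (nat_lit 2048))
) (.node (nat_lit 0x10c5043) (.leaf (nat_lit 0x10c5041) (nat_lit 770))
 (.node (nat_lit 0x10c5045) (.leaf (nat_lit 0x10c5043) (nat_lit 1026))
 (.leaf (nat_lit 0x10c5045) (nat_lit 1794))
))) (.node (nat_lit 0x10c504b) (.node (nat_lit 0x10c5049) (.leaf (nat_lit 0x10c5047) (nat_lit 1538))
 (.leaf (nat_lit 0x10c5049) (nat_lit 2306))
) (.node (nat_lit 0x10c504d) (.leaf (nat_lit 0x10c504b) (nat_lit 2308))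
 (.node (nat_lit 0x10c504f) (.leaf (nat_lit 0x10c504d) (nat_lit 1794))
 (.leaf (nat_lit 0x10c504f) (nat_lit 1538))
)))) (.node (nat_lit 0x10c505b) (.node (nat_lit 0x10c5055) (.node (nat_lit 0x10c5053) (.leaf (nat_lit 0x10c5051) (nat_lit 2305))
 (.leaf (nat_lit 0x10c5053) (nat_lit 2561))
) (.node (nat_lit 0x10c5057) (.leaf (nat_lit 0x10c5055) (nat_lit 1793))
 (.node (nat_lit 0x10c5059) (.leaf (nat_lit 0x10c5057) (nat_lit 1537))
 (.leaf (nat_lit 0x10c5059) (nat_lit 2305))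
))) (.node (nat_lit 0x10c50c1) (.node (nat_lit 0x10c505d) (.leaf (nat_lit 0x10c505b) (nat_lit 2308))
 (.node (nat_lit 0x10c505f) (.leaf (nat_lit 0x10c505d) (nat_lit 2307))
 (.leaf (nat_lit 0x10c505f) (nat_lit 2051))
)) (.node (nat_lit 0x10c50c3) (.leaf (nat_lit 0x10c50c1) (nat_lit 1026))
 (.node (nat_lit 0x10c50c5) (.leaf (nat_lit 0x10c50c3) (nat_lit 1282))
 (.leaf (nat_lit 0x10c50c5) (nat_lit 1538))
))))) (.node (nat_lit 0x10c50db) (.node (nat_lit 0x10c50d1) (.node (nat_lit 0x10c50cb) (.node (nat_lit 0x10c50c9) (.leaf (nat_lit 0x10c50c7) (nat_lit 1282))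
 (.leaf (nat_lit 0x10c50c9) (nat_lit 2050))
) (.node (nat_lit 0x10c50cd) (.leaf (nat_lit 0x10c50cb) (nat_lit 1794))
 (.node (nat_lit 0x10c50cf) (.leaf (nat_lit 0x10c50cd) (nat_lit 2050))
 (.leaf (nat_lit 0x10c50cf) (nat_lit 2306))
))) (.node (nat_lit 0x10c50d5) (.node (nat_lit 0x10c50d3) (.leaf (nat_lit 0x10c50d1) (nat_lit 2049))
 (.leaf (nat_lit 0x10c50d3) (nat_lit 1793))
) (.node (nat_lit 0x10c50d7) (.leaf (nat_lit 0x10c50d5) (nat_lit 2049))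
 (.node (nat_lit 0x10c50d9) (.leaf (nat_lit 0x10c50d7) (nat_lit 2305))
 (.leaf (nat_lit 0x10c50d9) (nat_lit 2563))
)))) (.node (nat_lit 0x10c5145) (.node (nat_lit 0x10c50df) (.node (nat_lit 0x10c50dd) (.leaf (nat_lit 0x10c50db) (nat_lit 2307))
 (.leaf (nat_lit 0x10c50dd) (nat_lit 2563))
) (.node (nat_lit 0x10c5141) (.leaf (nat_lit 0x10c50df) (nat_lit 2564))
 (.node (nat_lit 0x10c5143) (.leaf (nat_lit 0x10c5141) (nat_lit 1282))
 (.leaf (nat_lit 0x10c5143) (nat_lit 1538))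
))) (.node (nat_lit 0x10c514b) (.node (nat_lit 0x10c5147) (.leaf (nat_lit 0x10c5145) (nat_lit 1794))
 (.node (nat_lit 0x10c5149) (.leaf (nat_lit 0x10c5147) (nat_lit 1538))
 (.leaf (nat_lit 0x10c5149) (nat_lit 1794))
)) (.node (nat_lit 0x10c514d) (.leaf (nat_lit 0x10c514b) (nat_lit 1538))
 (.node (nat_lit 0x10c514f) (.leaf (nat_lit 0x10c514d) (nat_lit 1794))
 (.leaf (nat_lit 0x10c514f) (nat_lit 2050))
)))))))) (.node (nat_lit 0x10c53d9) (.node (nat_lit 0x10c52c5) (.node (nat_lit 0x10c51db) (.node (nat_lit 0x10c51c5) (.node (nat_lit 0x10c515b) (.node (nat_lit 0x10c5155) (.node (nat_lit 0x10c5153) (.leaf (nat_lit 0x10c5151) (nat_lit 2817))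
 (.leaf (nat_lit 0x10c5153) (nat_lit 2561))
) (.node (nat_lit 0x10c5157) (.leaf (nat_lit 0x10c5155) (nat_lit 2305))
 (.node (nat_lit 0x10c5159) (.leaf (nat_lit 0x10c5157) (nat_lit 2561))
 (.leaf (nat_lit 0x10c5159) (nat_lit 2305))
))) (.node (nat_lit 0x10c515f) (.node (nat_lit 0x10c515d) (.leaf (nat_lit 0x10c515b) (nat_lit 2561))
 (.leaf (nat_lit 0x10c515d) (nat_lit 2305))
) (.node (nat_lit 0x10c51c1) (.leaf (nat_lit 0x10c515f) (nat_lit 2049))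
 (.node (nat_lit 0x10c51c3) (.leaf (nat_lit 0x10c51c1) (nat_lit 1026))
 (.leaf (nat_lit 0x10c51c3) (nat_lit 1282))
)))) (.node (nat_lit 0x10c51cf) (.node (nat_lit 0x10c51c9) (.node (nat_lit 0x10c51c7) (.leaf (nat_lit 0x10c51c5) (nat_lit 2050))
 (.leaf (nat_lit 0x10c51c7) (nat_lit 1794))
) (.node (nat_lit 0x10c51cb) (.leaf (nat_lit 0x10c51c9) (nat_lit 2050))
 (.node (nat_lit 0x10c51cd) (.leaf (nat_lit 0x10c51cb) (nat_lit 2306))
 (.leaf (nat_lit 0x10c51cd) (nat_lit 1538))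
))) (.node (nat_lit 0x10c51d5) (.node (nat_lit 0x10c51d1) (.leaf (nat_lit 0x10c51cf) (nat_lit 1282))
 (.node (nat_lit 0x10c51d3) (.leaf (nat_lit 0x10c51d1) (nat_lit 3073))
 (.leaf (nat_lit 0x10c51d3) (nat_lit 2817))
)) (.node (nat_lit 0x10c51d7) (.leaf (nat_lit 0x10c51d5) (nat_lit 2049))
 (.node (nat_lit 0x10c51d9) (.leaf (nat_lit 0x10c51d7) (nat_lit 2305))
 (.leaf (nat_lit 0x10c51d9) (nat_lit 2049))
))))) (.node (nat_lit 0x10c524f) (.node (nat_lit 0x10c5245) (.node (nat_lit 0x10c51df) (.node (nat_lit 0x10c51dd) (.leaf (nat_lit 0x10c51db) (nat_lit 1793))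
 (.leaf (nat_lit 0x10c51dd) (nat_lit 2561))
) (.node (nat_lit 0x10c5241) (.leaf (nat_lit 0x10c51df) (nat_lit 2817))
 (.node (nat_lit 0x10c5243) (.leaf (nat_lit 0x10c5241) (nat_lit 1281))
 (.leaf (nat_lit 0x10c5243) (nat_lit 1537))
))) (.node (nat_lit 0x10c5249) (.node (nat_lit 0x10c5247) (.leaf (nat_lit 0x10c5245) (nat_lit 1793))
 (.leaf (nat_lit 0x10c5247) (nat_lit 1537))
) (.node (nat_lit 0x10c524b) (.leaf (nat_lit 0x10c5249) (nat_lit 2305))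
 (.node (nat_lit 0x10c524d) (.leaf (nat_lit 0x10c524b) (nat_lit 2049))
 (.leaf (nat_lit 0x10c524d) (nat_lit 2305))
)))) (.node (nat_lit 0x10c5259) (.node (nat_lit 0x10c5253) (.node (nat_lit 0x10c5251) (.leaf (nat_lit 0x10c524f) (nat_lit 2561))
 (.leaf (nat_lit 0x10c5251) (nat_lit 1792))
) (.node (nat_lit 0x10c5255) (.leaf (nat_lit 0x10c5253) (nat_lit 1536))
 (.node (nat_lit 0x10c5257) (.leaf (nat_lit 0x10c5255) (nat_lit 1792))
 (.leaf (nat_lit 0x10c5257) (nat_lit 2048))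
))) (.node (nat_lit 0x10c525f) (.node (nat_lit 0x10c525b) (.leaf (nat_lit 0x10c5259) (nat_lit 2304))
 (.node (nat_lit 0x10c525d) (.leaf (nat_lit 0x10c525b) (nat_lit 2560))
 (.leaf (nat_lit 0x10c525d) (nat_lit 2816))
)) (.node (nat_lit 0x10c52c1) (.leaf (nat_lit 0x10c525f) (nat_lit 2560))
 (.node (nat_lit 0x10c52c3) (.leaf (nat_lit 0x10c52c1) (nat_lit 1025))
 (.leaf (nat_lit 0x10c52c3) (nat_lit 1281))
)))))) (.node (nat_lit 0x10c534f) (.node (nat_lit 0x10c52d9) (.node (nat_lit 0x10c52cf) (.node (nat_lit 0x10c52c9) (.node (nat_lit 0x10c52c7) (.leaf (nat_lit 0x10c52c5) (nat_lit 2049))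
 (.leaf (nat_lit 0x10c52c7) (nat_lit 1793))
) (.node (nat_lit 0x10c52cb) (.leaf (nat_lit 0x10c52c9) (nat_lit 2561))
 (.node (nat_lit 0x10c52cd) (.leaf (nat_lit 0x10c52cb) (nat_lit 2564))
 (.leaf (nat_lit 0x10c52cd) (nat_lit 2049))
))) (.node (nat_lit 0x10c52d3) (.node (nat_lit 0x10c52d1) (.leaf (nat_lit 0x10c52cf) (nat_lit 1793))
 (.leaf (nat_lit 0x10c52d1) (nat_lit 2048))
) (.node (nat_lit 0x10c52d5) (.leaf (nat_lit 0x10c52d3) (nat_lit 2304))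
 (.node (nat_lit 0x10c52d7) (.leaf (nat_lit 0x10c52d5) (nat_lit 1536))
 (.leaf (nat_lit 0x10c52d7) (nat_lit 1280))
)))) (.node (nat_lit 0x10c5343) (.node (nat_lit 0x10c52dd) (.node (nat_lit 0x10c52db) (.leaf (nat_lit 0x10c52d9) (nat_lit 2048))
 (.leaf (nat_lit 0x10c52db) (nat_lit 2304))
) (.node (nat_lit 0x10c52df) (.leaf (nat_lit 0x10c52dd) (nat_lit 2563))
 (.node (nat_lit 0x10c5341) (.leaf (nat_lit 0x10c52df) (nat_lit 2307))
 (.leaf (nat_lit 0x10c5341) (nat_lit 1281))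
))) (.node (nat_lit 0x10c5349) (.node (nat_lit 0x10c5345) (.leaf (nat_lit 0x10c5343) (nat_lit 1537))
 (.node (nat_lit 0x10c5347) (.leaf (nat_lit 0x10c5345) (nat_lit 2305))
 (.leaf (nat_lit 0x10c5347) (nat_lit 2049))
)) (.node (nat_lit 0x10c534b) (.leaf (nat_lit 0x10c5349) (nat_lit 2305))
 (.node (nat_lit 0x10c534d) (.leaf (nat_lit 0x10c534b) (nat_lit 2561))
 (.leaf (nat_lit 0x10c534d) (nat_lit 1793))
))))) (.node (nat_lit 0x10c53c3) (.node (nat_lit 0x10c5359) (.node (nat_lit 0x10c5353) (.node (nat_lit 0x10c5351) (.leaf (nat_lit 0x10c534f) (nat_lit 1537))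
 (.leaf (nat_lit 0x10c5351) (nat_lit 2816))
) (.node (nat_lit 0x10c5355) (.leaf (nat_lit 0x10c5353) (nat_lit 2560))
 (.node (nat_lit 0x10c5357) (.leaf (nat_lit 0x10c5355) (nat_lit 1792))
 (.leaf (nat_lit 0x10c5357) (nat_lit 2048))
))) (.node (nat_lit 0x10c535d) (.node (nat_lit 0x10c535b) (.leaf (nat_lit 0x10c5359) (nat_lit 1792))
 (.leaf (nat_lit 0x10c535b) (nat_lit 1536))
) (.node (nat_lit 0x10c535f) (.leaf (nat_lit 0x10c535d) (nat_lit 2304))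
 (.node (nat_lit 0x10c53c1) (.leaf (nat_lit 0x10c535f) (nat_lit 2560))
 (.leaf (nat_lit 0x10c53c1) (nat_lit 1537))
)))) (.node (nat_lit 0x10c53cd) (.node (nat_lit 0x10c53c7) (.node (nat_lit 0x10c53c5) (.leaf (nat_lit 0x10c53c3) (nat_lit 1793))
 (.leaf (nat_lit 0x10c53c5) (nat_lit 2049))
) (.node (nat_lit 0x10c53c9) (.leaf (nat_lit 0x10c53c7) (nat_lit 1793))
 (.node (nat_lit 0x10c53cb) (.leaf (nat_lit 0x10c53c9) (nat_lit 2049))
 (.leaf (nat_lit 0x10c53cb) (nat_lit 1793))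
))) (.node (nat_lit 0x10c53d3) (.node (nat_lit 0x10c53cf) (.leaf (nat_lit 0x10c53cd) (nat_lit 2049))
 (.node (nat_lit 0x10c53d1) (.leaf (nat_lit 0x10c53cf) (nat_lit 2305))
 (.leaf (nat_lit 0x10c53d1) (nat_lit 2560))
)) (.node (nat_lit 0x10c53d5) (.leaf (nat_lit 0x10c53d3) (nat_lit 2304))
 (.node (nat_lit 0x10c53d7) (.leaf (nat_lit 0x10c53d5) (nat_lit 2048))
 (.leaf (nat_lit 0x10c53d7) (nat_lit 2304))
))))))) (.node (nat_lit 0x10c594d) (.node (nat_lit 0x10c5883) (.node (nat_lit 0x10c584d) (.node (nat_lit 0x10c5843) (.node (nat_lit 0x10c53dd) (.node (nat_lit 0x10c53db) (.leaf (nat_lit 0x10c53d9) (nat_lit 2048))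
 (.leaf (nat_lit 0x10c53db) (nat_lit 2304))
) (.node (nat_lit 0x10c53df) (.leaf (nat_lit 0x10c53dd) (nat_lit 2048))
 (.node (nat_lit 0x10c5841) (.leaf (nat_lit 0x10c53df) (nat_lit 1792))
 (.leaf (nat_lit 0x10c5841) (nat_lit 1029))
))) (.node (nat_lit 0x10c5847) (.node (nat_lit 0x10c5845) (.leaf (nat_lit 0x10c5843) (nat_lit 1285))
 (.leaf (nat_lit 0x10c5845) (nat_lit 1794))
) (.node (nat_lit 0x10c5849) (.leaf (nat_lit 0x10c5847) (nat_lit 1797))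
 (.node (nat_lit 0x10c584b) (.leaf (nat_lit 0x10c5849) (nat_lit 2565))
 (.leaf (nat_lit 0x10c584b) (nat_lit 2562))
)))) (.node (nat_lit 0x10c5857) (.node (nat_lit 0x10c5851) (.node (nat_lit 0x10c584f) (.leaf (nat_lit 0x10c584d) (nat_lit 1794))
 (.leaf (nat_lit 0x10c584f) (nat_lit 1797))
) (.node (nat_lit 0x10c5853) (.leaf (nat_lit 0x10c5851) (nat_lit 2565))
 (.node (nat_lit 0x10c5855) (.leaf (nat_lit 0x10c5853) (nat_lit 2561))
 (.leaf (nat_lit 0x10c5855) (nat_lit 1793))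
))) (.node (nat_lit 0x10c585d) (.node (nat_lit 0x10c5859) (.leaf (nat_lit 0x10c5857) (nat_lit 1797))
 (.node (nat_lit 0x10c585b) (.leaf (nat_lit 0x10c5859) (nat_lit 2565))
 (.leaf (nat_lit 0x10c585b) (nat_lit 2561))
)) (.node (nat_lit 0x10c585f) (.leaf (nat_lit 0x10c585d) (nat_lit 2307))
 (.node (nat_lit 0x10c5881) (.leaf (nat_lit 0x10c585f) (nat_lit 2309))
 (.leaf (nat_lit 0x10c5881) (nat_lit 1282))
))))) (.node (nat_lit 0x10c5897) (.node (nat_lit 0x10c588d) (.node (nat_lit 0x10c5887) (.node (nat_lit 0x10c5885) (.leaf (nat_lit 0x10c5883) (nat_lit 1538))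
 (.leaf (nat_lit 0x10c5885) (nat_lit 1538))
) (.node (nat_lit 0x10c5889) (.leaf (nat_lit 0x10c5887) (nat_lit 1794))
 (.node (nat_lit 0x10c588b) (.leaf (nat_lit 0x10c5889) (nat_lit 2306))
 (.leaf (nat_lit 0x10c588b) (nat_lit 2050))
))) (.node (nat_lit 0x10c5891) (.node (nat_lit 0x10c588f) (.leaf (nat_lit 0x10c588d) (nat_lit 2562))
 (.leaf (nat_lit 0x10c588f) (nat_lit 2306))
) (.node (nat_lit 0x10c5893) (.leaf (nat_lit 0x10c5891) (nat_lit 2305))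
 (.node (nat_lit 0x10c5895) (.leaf (nat_lit 0x10c5893) (nat_lit 2049))
 (.leaf (nat_lit 0x10c5895) (nat_lit 2561))
)))) (.node (nat_lit 0x10c5941) (.node (nat_lit 0x10c589b) (.node (nat_lit 0x10c5899) (.leaf (nat_lit 0x10c5897) (nat_lit 2305))
 (.leaf (nat_lit 0x10c5899) (nat_lit 2819))
) (.node (nat_lit 0x10c589d) (.leaf (nat_lit 0x10c589b) (nat_lit 2563))
 (.node (nat_lit 0x10c589f) (.leaf (nat_lit 0x10c589d) (nat_lit 2817))
 (.leaf (nat_lit 0x10c589f) (nat_lit 2819))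
))) (.node (nat_lit 0x10c5947) (.node (nat_lit 0x10c5943) (.leaf (nat_lit 0x10c5941) (nat_lit 1538))
 (.node (nat_lit 0x10c5945) (.leaf (nat_lit 0x10c5943) (nat_lit 1794))
 (.leaf (nat_lit 0x10c5945) (nat_lit 1794))
)) (.node (nat_lit 0x10c5949) (.leaf (nat_lit 0x10c5947) (nat_lit 2050))
 (.node (nat_lit 0x10c594b) (.leaf (nat_lit 0x10c5949) (nat_lit 2050))
 (.leaf (nat_lit 0x10c594b) (nat_lit 1794))
)))))) (.node (nat_lit 0x10c5997) (.node (nat_lit 0x10c5981) (.node (nat_lit 0x10c5957) (.node (nat_lit 0x10c5951) (.node (nat_lit 0x10c594f) (.leaf (nat_lit 0x10c594d) (nat_lit 2309))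
 (.leaf (nat_lit 0x10c594f) (nat_lit 2053))
) (.node (nat_lit 0x10c5953) (.leaf (nat_lit 0x10c5951) (nat_lit 2821))
 (.node (nat_lit 0x10c5955) (.leaf (nat_lit 0x10c5953) (nat_lit 2817))
 (.leaf (nat_lit 0x10c5955) (nat_lit 2821))
))) (.node (nat_lit 0x10c595b) (.node (nat_lit 0x10c5959) (.leaf (nat_lit 0x10c5957) (nat_lit 2565))
 (.leaf (nat_lit 0x10c5959) (nat_lit 2561))
) (.node (nat_lit 0x10c595d) (.leaf (nat_lit 0x10c595b) (nat_lit 2817))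
 (.node (nat_lit 0x10c595f) (.leaf (nat_lit 0x10c595d) (nat_lit 2307))
 (.leaf (nat_lit 0x10c595f) (nat_lit 2563))
)))) (.node (nat_lit 0x10c598b) (.node (nat_lit 0x10c5985) (.node (nat_lit 0x10c5983) (.leaf (nat_lit 0x10c5981) (nat_lit 1282))
 (.leaf (nat_lit 0x10c5983) (nat_lit 1538))
) (.node (nat_lit 0x10c5987) (.leaf (nat_lit 0x10c5985) (nat_lit 2050))
 (.node (nat_lit 0x10c5989) (.leaf (nat_lit 0x10c5987) (nat_lit 2050))
 (.leaf (nat_lit 0x10c5989) (nat_lit 2306))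
))) (.node (nat_lit 0x10c5991) (.node (nat_lit 0x10c598d) (.leaf (nat_lit 0x10c598b) (nat_lit 2306))
 (.node (nat_lit 0x10c598f) (.leaf (nat_lit 0x10c598d) (nat_lit 1538))
 (.leaf (nat_lit 0x10c598f) (nat_lit 1794))
)) (.node (nat_lit 0x10c5993) (.leaf (nat_lit 0x10c5991) (nat_lit 3073))
 (.node (nat_lit 0x10c5995) (.leaf (nat_lit 0x10c5993) (nat_lit 3075))
 (.leaf (nat_lit 0x10c5995) (nat_lit 2561))
))))) (.node (nat_lit 0x10c5a4b) (.node (nat_lit 0x10c5a41) (.node (nat_lit 0x10c599b) (.node (nat_lit 0x10c5999) (.leaf (nat_lit 0x10c5997) (nat_lit 2305))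
 (.leaf (nat_lit 0x10c5999) (nat_lit 2305))
) (.node (nat_lit 0x10c599d) (.leaf (nat_lit 0x10c599b) (nat_lit 2049))
 (.node (nat_lit 0x10c599f) (.leaf (nat_lit 0x10c599d) (nat_lit 2817))
 (.leaf (nat_lit 0x10c599f) (nat_lit 2817))
))) (.node (nat_lit 0x10c5a45) (.node (nat_lit 0x10c5a43) (.leaf (nat_lit 0x10c5a41) (nat_lit 1537))
 (.leaf (nat_lit 0x10c5a43) (nat_lit 1793))
) (.node (nat_lit 0x10c5a47) (.leaf (nat_lit 0x10c5a45) (nat_lit 1793))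
 (.node (nat_lit 0x10c5a49) (.leaf (nat_lit 0x10c5a47) (nat_lit 2049))
 (.leaf (nat_lit 0x10c5a49) (nat_lit 2561))
)))) (.node (nat_lit 0x10c5a55) (.node (nat_lit 0x10c5a4f) (.node (nat_lit 0x10c5a4d) (.leaf (nat_lit 0x10c5a4b) (nat_lit 2305))
 (.leaf (nat_lit 0x10c5a4d) (nat_lit 2565))
) (.node (nat_lit 0x10c5a51) (.leaf (nat_lit 0x10c5a4f) (nat_lit 2309))
 (.node (nat_lit 0x10c5a53) (.leaf (nat_lit 0x10c5a51) (nat_lit 2048))
 (.leaf (nat_lit 0x10c5a53) (nat_lit 1792))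
))) (.node (nat_lit 0x10c5a5b) (.node (nat_lit 0x10c5a57) (.leaf (nat_lit 0x10c5a55) (nat_lit 2304))
 (.node (nat_lit 0x10c5a59) (.leaf (nat_lit 0x10c5a57) (nat_lit 2048))
 (.leaf (nat_lit 0x10c5a59) (nat_lit 2560))
)) (.node (nat_lit 0x10c5a5d) (.leaf (nat_lit 0x10c5a5b) (nat_lit 2816))
 (.node (nat_lit 0x10c5a5f) (.leaf (nat_lit 0x10c5a5d) (nat_lit 2565))
 (.leaf (nat_lit 0x10c5a5f) (nat_lit 2821))
))))))))) (.node (nat_lit 0x10c6bd1) (.node (nat_lit 0x10c6989) (.node (nat_lit 0x10c5b95) (.node (nat_lit 0x10c5b4b) (.node (nat_lit 0x10c5a95) (.node (nat_lit 0x10c5a8b) (.node (nat_lit 0x10c5a85) (.node (nat_lit 0x10c5a83) (.leaf (nat_lit 0x10c5a81) (nat_lit 1281))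
 (.leaf (nat_lit 0x10c5a83) (nat_lit 1537))
) (.node (nat_lit 0x10c5a87) (.leaf (nat_lit 0x10c5a85) (nat_lit 2049))
 (.node (nat_lit 0x10c5a89) (.leaf (nat_lit 0x10c5a87) (nat_lit 2049))
 (.leaf (nat_lit 0x10c5a89) (nat_lit 2817))
))) (.node (nat_lit 0x10c5a8f) (.node (nat_lit 0x10c5a8d) (.leaf (nat_lit 0x10c5a8b) (nat_lit 2817))
 (.leaf (nat_lit 0x10c5a8d) (nat_lit 2049))
) (.node (nat_lit 0x10c5a91) (.leaf (nat_lit 0x10c5a8f) (nat_lit 2049))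
 (.node (nat_lit 0x10c5a93) (.leaf (nat_lit 0x10c5a91) (nat_lit 2304))
 (.leaf (nat_lit 0x10c5a93) (nat_lit 2304))
)))) (.node (nat_lit 0x10c5a9f) (.node (nat_lit 0x10c5a99) (.node (nat_lit 0x10c5a97) (.leaf (nat_lit 0x10c5a95) (nat_lit 1536))
 (.leaf (nat_lit 0x10c5a97) (nat_lit 1792))
) (.node (nat_lit 0x10c5a9b) (.leaf (nat_lit 0x10c5a99) (nat_lit 2304))
 (.node (nat_lit 0x10c5a9d) (.leaf (nat_lit 0x10c5a9b) (nat_lit 2304))
 (.leaf (nat_lit 0x10c5a9d) (nat_lit 2563))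
))) (.node (nat_lit 0x10c5b45) (.node (nat_lit 0x10c5b41) (.leaf (nat_lit 0x10c5a9f) (nat_lit 2561))
 (.node (nat_lit 0x10c5b43) (.leaf (nat_lit 0x10c5b41) (nat_lit 1537))
 (.leaf (nat_lit 0x10c5b43) (nat_lit 1793))
)) (.node (nat_lit 0x10c5b47) (.leaf (nat_lit 0x10c5b45) (nat_lit 2307))
 (.node (nat_lit 0x10c5b49) (.leaf (nat_lit 0x10c5b47) (nat_lit 2305))
 (.leaf (nat_lit 0x10c5b49) (nat_lit 2561))
))))) (.node (nat_lit 0x10c5b5f) (.node (nat_lit 0x10c5b55) (.node (nat_lit 0x10c5b4f) (.node (nat_lit 0x10c5b4d) (.leaf (nat_lit 0x10c5b4b) (nat_lit 2561))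
 (.leaf (nat_lit 0x10c5b4d) (nat_lit 1793))
) (.node (nat_lit 0x10c5b51) (.leaf (nat_lit 0x10c5b4f) (nat_lit 2049))
 (.node (nat_lit 0x10c5b53) (.leaf (nat_lit 0x10c5b51) (nat_lit 2821))
 (.leaf (nat_lit 0x10c5b53) (nat_lit 2816))
))) (.node (nat_lit 0x10c5b59) (.node (nat_lit 0x10c5b57) (.leaf (nat_lit 0x10c5b55) (nat_lit 2309))
 (.leaf (nat_lit 0x10c5b57) (nat_lit 2053))
) (.node (nat_lit 0x10c5b5b) (.leaf (nat_lit 0x10c5b59) (nat_lit 2048))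
 (.node (nat_lit 0x10c5b5d) (.leaf (nat_lit 0x10c5b5b) (nat_lit 1792))
 (.leaf (nat_lit 0x10c5b5d) (nat_lit 2560))
)))) (.node (nat_lit 0x10c5b89) (.node (nat_lit 0x10c5b83) (.node (nat_lit 0x10c5b81) (.leaf (nat_lit 0x10c5b5f) (nat_lit 2565))
 (.leaf (nat_lit 0x10c5b81) (nat_lit 1795))
) (.node (nat_lit 0x10c5b85) (.leaf (nat_lit 0x10c5b83) (nat_lit 2051))
 (.node (nat_lit 0x10c5b87) (.leaf (nat_lit 0x10c5b85) (nat_lit 2049))
 (.leaf (nat_lit 0x10c5b87) (nat_lit 2305))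
))) (.node (nat_lit 0x10c5b8f) (.node (nat_lit 0x10c5b8b) (.leaf (nat_lit 0x10c5b89) (nat_lit 2305))
 (.node (nat_lit 0x10c5b8d) (.leaf (nat_lit 0x10c5b8b) (nat_lit 2049))
 (.leaf (nat_lit 0x10c5b8d) (nat_lit 2561))
)) (.node (nat_lit 0x10c5b91) (.leaf (nat_lit 0x10c5b8f) (nat_lit 2305))
 (.node (nat_lit 0x10c5b93) (.leaf (nat_lit 0x10c5b91) (nat_lit 2816))
 (.leaf (nat_lit 0x10c5b93) (nat_lit 2560))
)))))) (.node (nat_lit 0x10c689f) (.node (nat_lit 0x10c6889) (.node (nat_lit 0x10c5b9f) (.node (nat_lit 0x10c5b99) (.node (nat_lit 0x10c5b97) (.leaf (nat_lit 0x10c5b95) (nat_lit 2560))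
 (.leaf (nat_lit 0x10c5b97) (nat_lit 2304))
) (.node (nat_lit 0x10c5b9b) (.leaf (nat_lit 0x10c5b99) (nat_lit 2304))
 (.node (nat_lit 0x10c5b9d) (.leaf (nat_lit 0x10c5b9b) (nat_lit 2560))
 (.leaf (nat_lit 0x10c5b9d) (nat_lit 2051))
))) (.node (nat_lit 0x10c6883) (.node (nat_lit 0x10c6881) (.leaf (nat_lit 0x10c5b9f) (nat_lit 2307))
 (.leaf (nat_lit 0x10c6881) (nat_lit 1282))
) (.node (nat_lit 0x10c6885) (.leaf (nat_lit 0x10c6883) (nat_lit 1538))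
 (.node (nat_lit 0x10c6887) (.leaf (nat_lit 0x10c6885) (nat_lit 1538))
 (.leaf (nat_lit 0x10c6887) (nat_lit 1538))
)))) (.node (nat_lit 0x10c6893) (.node (nat_lit 0x10c688d) (.node (nat_lit 0x10c688b) (.leaf (nat_lit 0x10c6889) (nat_lit 2818))
 (.leaf (nat_lit 0x10c688b) (nat_lit 2562))
) (.node (nat_lit 0x10c688f) (.leaf (nat_lit 0x10c688d) (nat_lit 2562))
 (.node (nat_lit 0x10c6891) (.leaf (nat_lit 0x10c688f) (nat_lit 2306))
 (.leaf (nat_lit 0x10c6891) (nat_lit 3073))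
))) (.node (nat_lit 0x10c6899) (.node (nat_lit 0x10c6895) (.leaf (nat_lit 0x10c6893) (nat_lit 3077))
 (.node (nat_lit 0x10c6897) (.leaf (nat_lit 0x10c6895) (nat_lit 3331))
 (.leaf (nat_lit 0x10c6897) (nat_lit 3075))
)) (.node (nat_lit 0x10c689b) (.leaf (nat_lit 0x10c6899) (nat_lit 2304))
 (.node (nat_lit 0x10c689d) (.leaf (nat_lit 0x10c689b) (nat_lit 2048))
 (.leaf (nat_lit 0x10c689d) (nat_lit 2049))
))))) (.node (nat_lit 0x10c68d3) (.node (nat_lit 0x10c68c9) (.node (nat_lit 0x10c68c3) (.node (nat_lit 0x10c68c1) (.leaf (nat_lit 0x10c689f) (nat_lit 1793))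
 (.leaf (nat_lit 0x10c68c1) (nat_lit 1029))
) (.node (nat_lit 0x10c68c5) (.leaf (nat_lit 0x10c68c3) (nat_lit 1285))
 (.node (nat_lit 0x10c68c7) (.leaf (nat_lit 0x10c68c5) (nat_lit 1541))
 (.leaf (nat_lit 0x10c68c7) (nat_lit 1285))
))) (.node (nat_lit 0x10c68cd) (.node (nat_lit 0x10c68cb) (.leaf (nat_lit 0x10c68c9) (nat_lit 2565))
 (.leaf (nat_lit 0x10c68cb) (nat_lit 2309))
) (.node (nat_lit 0x10c68cf) (.leaf (nat_lit 0x10c68cd) (nat_lit 2306))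
 (.node (nat_lit 0x10c68d1) (.leaf (nat_lit 0x10c68cf) (nat_lit 2309))
 (.leaf (nat_lit 0x10c68d1) (nat_lit 3077))
)))) (.node (nat_lit 0x10c68dd) (.node (nat_lit 0x10c68d7) (.node (nat_lit 0x10c68d5) (.leaf (nat_lit 0x10c68d3) (nat_lit 2821))
 (.leaf (nat_lit 0x10c68d5) (nat_lit 2819))
) (.node (nat_lit 0x10c68d9) (.leaf (nat_lit 0x10c68d7) (nat_lit 3075))
 (.node (nat_lit 0x10c68db) (.leaf (nat_lit 0x10c68d9) (nat_lit 2053))
 (.leaf (nat_lit 0x10c68db) (nat_lit 1797))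
))) (.node (nat_lit 0x10c6983) (.node (nat_lit 0x10c68df) (.leaf (nat_lit 0x10c68dd) (nat_lit 1793))
 (.node (nat_lit 0x10c6981) (.leaf (nat_lit 0x10c68df) (nat_lit 2049))
 (.leaf (nat_lit 0x10c6981) (nat_lit 1538))
)) (.node (nat_lit 0x10c6985) (.leaf (nat_lit 0x10c6983) (nat_lit 1794))
 (.node (nat_lit 0x10c6987) (.leaf (nat_lit 0x10c6985) (nat_lit 2306))
 (.leaf (nat_lit 0x10c6987) (nat_lit 2050))
))))))) (.node (nat_lit 0x10c6a9d) (.node (nat_lit 0x10c69d3) (.node (nat_lit 0x10c699d) (.node (nat_lit 0x10c6993) (.node (nat_lit 0x10c698d) (.node (nat_lit 0x10c698b) (.leaf (nat_lit 0x10c6989) (nat_lit 2562))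
 (.leaf (nat_lit 0x10c698b) (nat_lit 2306))
) (.node (nat_lit 0x10c698f) (.leaf (nat_lit 0x10c698d) (nat_lit 1794))
 (.node (nat_lit 0x10c6991) (.leaf (nat_lit 0x10c698f) (nat_lit 1794))
 (.leaf (nat_lit 0x10c6991) (nat_lit 2817))
))) (.node (nat_lit 0x10c6997) (.node (nat_lit 0x10c6995) (.leaf (nat_lit 0x10c6993) (nat_lit 3073))
 (.leaf (nat_lit 0x10c6995) (nat_lit 2305))
) (.node (nat_lit 0x10c6999) (.leaf (nat_lit 0x10c6997) (nat_lit 2049))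
 (.node (nat_lit 0x10c699b) (.leaf (nat_lit 0x10c6999) (nat_lit 2560))
 (.leaf (nat_lit 0x10c699b) (nat_lit 2304))
)))) (.node (nat_lit 0x10c69c7) (.node (nat_lit 0x10c69c1) (.node (nat_lit 0x10c699f) (.leaf (nat_lit 0x10c699d) (nat_lit 3075))
 (.leaf (nat_lit 0x10c699f) (nat_lit 2819))
) (.node (nat_lit 0x10c69c3) (.leaf (nat_lit 0x10c69c1) (nat_lit 1285))
 (.node (nat_lit 0x10c69c5) (.leaf (nat_lit 0x10c69c3) (nat_lit 1541))
 (.leaf (nat_lit 0x10c69c5) (nat_lit 2309))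
))) (.node (nat_lit 0x10c69cd) (.node (nat_lit 0x10c69c9) (.leaf (nat_lit 0x10c69c7) (nat_lit 2053))
 (.node (nat_lit 0x10c69cb) (.leaf (nat_lit 0x10c69c9) (nat_lit 2309))
 (.leaf (nat_lit 0x10c69cb) (nat_lit 2565))
)) (.node (nat_lit 0x10c69cf) (.leaf (nat_lit 0x10c69cd) (nat_lit 1797))
 (.node (nat_lit 0x10c69d1) (.leaf (nat_lit 0x10c69cf) (nat_lit 1541))
 (.leaf (nat_lit 0x10c69d1) (nat_lit 3073))
))))) (.node (nat_lit 0x10c6a87) (.node (nat_lit 0x10c69dd) (.node (nat_lit 0x10c69d7) (.node (nat_lit 0x10c69d5) (.leaf (nat_lit 0x10c69d3) (nat_lit 2817))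
 (.leaf (nat_lit 0x10c69d5) (nat_lit 2049))
) (.node (nat_lit 0x10c69d9) (.leaf (nat_lit 0x10c69d7) (nat_lit 2305))
 (.node (nat_lit 0x10c69db) (.leaf (nat_lit 0x10c69d9) (nat_lit 2309))
 (.leaf (nat_lit 0x10c69db) (nat_lit 2053))
))) (.node (nat_lit 0x10c6a81) (.node (nat_lit 0x10c69df) (.leaf (nat_lit 0x10c69dd) (nat_lit 2821))
 (.leaf (nat_lit 0x10c69df) (nat_lit 3077))
) (.node (nat_lit 0x10c6a83) (.leaf (nat_lit 0x10c6a81) (nat_lit 1537))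
 (.node (nat_lit 0x10c6a85) (.leaf (nat_lit 0x10c6a83) (nat_lit 1793))
 (.leaf (nat_lit 0x10c6a85) (nat_lit 2561))
)))) (.node (nat_lit 0x10c6a91) (.node (nat_lit 0x10c6a8b) (.node (nat_lit 0x10c6a89) (.leaf (nat_lit 0x10c6a87) (nat_lit 2305))
 (.leaf (nat_lit 0x10c6a89) (nat_lit 2561))
) (.node (nat_lit 0x10c6a8d) (.leaf (nat_lit 0x10c6a8b) (nat_lit 2817))
 (.node (nat_lit 0x10c6a8f) (.leaf (nat_lit 0x10c6a8d) (nat_lit 2049))
 (.leaf (nat_lit 0x10c6a8f) (nat_lit 1793))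
))) (.node (nat_lit 0x10c6a97) (.node (nat_lit 0x10c6a93) (.leaf (nat_lit 0x10c6a91) (nat_lit 2816))
 (.node (nat_lit 0x10c6a95) (.leaf (nat_lit 0x10c6a93) (nat_lit 2560))
 (.leaf (nat_lit 0x10c6a95) (nat_lit 1792))
)) (.node (nat_lit 0x10c6a99) (.leaf (nat_lit 0x10c6a97) (nat_lit 2048))
 (.node (nat_lit 0x10c6a9b) (.leaf (nat_lit 0x10c6a99) (nat_lit 2304))
 (.leaf (nat_lit 0x10c6a9b) (nat_lit 2048))
)))))) (.node (nat_lit 0x10c6b87) (.node (nat_lit 0x10c6ad1) (.node (nat_lit 0x10c6ac7) (.node (nat_lit 0x10c6ac1) (.node (nat_lit 0x10c6a9f) (.leaf (nat_lit 0x10c6a9d) (nat_lit 2816))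
 (.leaf (nat_lit 0x10c6a9f) (nat_lit 2818))
) (.node (nat_lit 0x10c6ac3) (.leaf (nat_lit 0x10c6ac1) (nat_lit 1541))
 (.node (nat_lit 0x10c6ac5) (.leaf (nat_lit 0x10c6ac3) (nat_lit 1797))
 (.leaf (nat_lit 0x10c6ac5) (nat_lit 2565))
))) (.node (nat_lit 0x10c6acb) (.node (nat_lit 0x10c6ac9) (.leaf (nat_lit 0x10c6ac7) (nat_lit 2309))
 (.leaf (nat_lit 0x10c6ac9) (nat_lit 2817))
) (.node (nat_lit 0x10c6acd) (.leaf (nat_lit 0x10c6acb) (nat_lit 2561))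
 (.node (nat_lit 0x10c6acf) (.leaf (nat_lit 0x10c6acd) (nat_lit 2049))
 (.leaf (nat_lit 0x10c6acf) (nat_lit 2049))
)))) (.node (nat_lit 0x10c6adb) (.node (nat_lit 0x10c6ad5) (.node (nat_lit 0x10c6ad3) (.leaf (nat_lit 0x10c6ad1) (nat_lit 2565))
 (.leaf (nat_lit 0x10c6ad3) (nat_lit 2821))
) (.node (nat_lit 0x10c6ad7) (.leaf (nat_lit 0x10c6ad5) (nat_lit 2053))
 (.node (nat_lit 0x10c6ad9) (.leaf (nat_lit 0x10c6ad7) (nat_lit 1797))
 (.leaf (nat_lit 0x10c6ad9) (nat_lit 2304))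
))) (.node (nat_lit 0x10c6b81) (.node (nat_lit 0x10c6add) (.leaf (nat_lit 0x10c6adb) (nat_lit 2309))
 (.node (nat_lit 0x10c6adf) (.leaf (nat_lit 0x10c6add) (nat_lit 2816))
 (.leaf (nat_lit 0x10c6adf) (nat_lit 2821))
)) (.node (nat_lit 0x10c6b83) (.leaf (nat_lit 0x10c6b81) (nat_lit 1281))
 (.node (nat_lit 0x10c6b85) (.leaf (nat_lit 0x10c6b83) (nat_lit 1537))
 (.leaf (nat_lit 0x10c6b85) (nat_lit 1793))
))))) (.node (nat_lit 0x10c6b9b) (.node (nat_lit 0x10c6b91) (.node (nat_lit 0x10c6b8b) (.node (nat_lit 0x10c6b89) (.leaf (nat_lit 0x10c6b87) (nat_lit 1537))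
 (.leaf (nat_lit 0x10c6b89) (nat_lit 2817))
) (.node (nat_lit 0x10c6b8d) (.leaf (nat_lit 0x10c6b8b) (nat_lit 2561))
 (.node (nat_lit 0x10c6b8f) (.leaf (nat_lit 0x10c6b8d) (nat_lit 2561))
 (.leaf (nat_lit 0x10c6b8f) (nat_lit 2561))
))) (.node (nat_lit 0x10c6b95) (.node (nat_lit 0x10c6b93) (.leaf (nat_lit 0x10c6b91) (nat_lit 2816))
 (.leaf (nat_lit 0x10c6b93) (nat_lit 2816))
) (.node (nat_lit 0x10c6b97) (.leaf (nat_lit 0x10c6b95) (nat_lit 3072))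
 (.node (nat_lit 0x10c6b99) (.leaf (nat_lit 0x10c6b97) (nat_lit 2816))
 (.leaf (nat_lit 0x10c6b99) (nat_lit 2048))
)))) (.node (nat_lit 0x10c6bc5) (.node (nat_lit 0x10c6b9f) (.node (nat_lit 0x10c6b9d) (.leaf (nat_lit 0x10c6b9b) (nat_lit 1792))
 (.leaf (nat_lit 0x10c6b9d) (nat_lit 1536))
) (.node (nat_lit 0x10c6bc1) (.leaf (nat_lit 0x10c6b9f) (nat_lit 1792))
 (.node (nat_lit 0x10c6bc3) (.leaf (nat_lit 0x10c6bc1) (nat_lit 1285))
 (.leaf (nat_lit 0x10c6bc3) (nat_lit 1541))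
))) (.node (nat_lit 0x10c6bcb) (.node (nat_lit 0x10c6bc7) (.leaf (nat_lit 0x10c6bc5) (nat_lit 1793))
 (.node (nat_lit 0x10c6bc9) (.leaf (nat_lit 0x10c6bc7) (nat_lit 1793))
 (.leaf (nat_lit 0x10c6bc9) (nat_lit 3073))
)) (.node (nat_lit 0x10c6bcd) (.leaf (nat_lit 0x10c6bcb) (nat_lit 2817))
 (.node (nat_lit 0x10c6bcf) (.leaf (nat_lit 0x10c6bcd) (nat_lit 2821))
 (.leaf (nat_lit 0x10c6bcf) (nat_lit 2565))
)))))))) (.node (nat_lit 0x10c7259) (.node (nat_lit 0x10c7145) (.node (nat_lit 0x10c705b) (.node (nat_lit 0x10c7045) (.node (nat_lit 0x10c6bdb) (.node (nat_lit 0x10c6bd5) (.node (nat_lit 0x10c6bd3) (.leaf (nat_lit 0x10c6bd1) (nat_lit 2821))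
 (.leaf (nat_lit 0x10c6bd3) (nat_lit 3077))
) (.node (nat_lit 0x10c6bd7) (.leaf (nat_lit 0x10c6bd5) (nat_lit 3072))
 (.node (nat_lit 0x10c6bd9) (.leaf (nat_lit 0x10c6bd7) (nat_lit 3077))
 (.leaf (nat_lit 0x10c6bd9) (nat_lit 2048))
))) (.node (nat_lit 0x10c6bdf) (.node (nat_lit 0x10c6bdd) (.leaf (nat_lit 0x10c6bdb) (nat_lit 2053))
 (.leaf (nat_lit 0x10c6bdd) (nat_lit 1797))
) (.node (nat_lit 0x10c7041) (.leaf (nat_lit 0x10c6bdf) (nat_lit 1541))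
 (.node (nat_lit 0x10c7043) (.leaf (nat_lit 0x10c7041) (nat_lit 514))
 (.leaf (nat_lit 0x10c7043) (nat_lit 770))
)))) (.node (nat_lit 0x10c704f) (.node (nat_lit 0x10c7049) (.node (nat_lit 0x10c7047) (.leaf (nat_lit 0x10c7045) (nat_lit 1538))
 (.leaf (nat_lit 0x10c7047) (nat_lit 1282))
) (.node (nat_lit 0x10c704b) (.leaf (nat_lit 0x10c7049) (nat_lit 2562))
 (.node (nat_lit 0x10c704d) (.leaf (nat_lit 0x10c704b) (nat_lit 2306))
 (.leaf (nat_lit 0x10c704d) (nat_lit 2050))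
))) (.node (nat_lit 0x10c7055) (.node (nat_lit 0x10c7051) (.leaf (nat_lit 0x10c704f) (nat_lit 1794))
 (.node (nat_lit 0x10c7053) (.leaf (nat_lit 0x10c7051) (nat_lit 2561))
 (.leaf (nat_lit 0x10c7053) (nat_lit 2817))
)) (.node (nat_lit 0x10c7057) (.leaf (nat_lit 0x10c7055) (nat_lit 2563))
 (.node (nat_lit 0x10c7059) (.leaf (nat_lit 0x10c7057) (nat_lit 2307))
 (.leaf (nat_lit 0x10c7059) (nat_lit 2049))
))))) (.node (nat_lit 0x10c70cf) (.node (nat_lit 0x10c70c5) (.node (nat_lit 0x10c705f) (.node (nat_lit 0x10c705d) (.leaf (nat_lit 0x10c705b) (nat_lit 2305))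
 (.leaf (nat_lit 0x10c705d) (nat_lit 1537))
) (.node (nat_lit 0x10c70c1) (.leaf (nat_lit 0x10c705f) (nat_lit 1281))
 (.node (nat_lit 0x10c70c3) (.leaf (nat_lit 0x10c70c1) (nat_lit 770))
 (.leaf (nat_lit 0x10c70c3) (nat_lit 1026))
))) (.node (nat_lit 0x10c70c9) (.node (nat_lit 0x10c70c7) (.leaf (nat_lit 0x10c70c5) (nat_lit 1282))
 (.leaf (nat_lit 0x10c70c7) (nat_lit 1026))
) (.node (nat_lit 0x10c70cb) (.leaf (nat_lit 0x10c70c9) (nat_lit 2306))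
 (.node (nat_lit 0x10c70cd) (.leaf (nat_lit 0x10c70cb) (nat_lit 2050))
 (.leaf (nat_lit 0x10c70cd) (nat_lit 2306))
)))) (.node (nat_lit 0x10c70d9) (.node (nat_lit 0x10c70d3) (.node (nat_lit 0x10c70d1) (.leaf (nat_lit 0x10c70cf) (nat_lit 2050))
 (.leaf (nat_lit 0x10c70d1) (nat_lit 2819))
) (.node (nat_lit 0x10c70d5) (.leaf (nat_lit 0x10c70d3) (nat_lit 2563))
 (.node (nat_lit 0x10c70d7) (.leaf (nat_lit 0x10c70d5) (nat_lit 2819))
 (.leaf (nat_lit 0x10c70d7) (nat_lit 3075))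
))) (.node (nat_lit 0x10c70df) (.node (nat_lit 0x10c70db) (.leaf (nat_lit 0x10c70d9) (nat_lit 1793))
 (.node (nat_lit 0x10c70dd) (.leaf (nat_lit 0x10c70db) (nat_lit 1537))
 (.leaf (nat_lit 0x10c70dd) (nat_lit 1793))
)) (.node (nat_lit 0x10c7141) (.leaf (nat_lit 0x10c70df) (nat_lit 2049))
 (.node (nat_lit 0x10c7143) (.leaf (nat_lit 0x10c7141) (nat_lit 1538))
 (.leaf (nat_lit 0x10c7143) (nat_lit 1794))
)))))) (.node (nat_lit 0x10c71cf) (.node (nat_lit 0x10c7159) (.node (nat_lit 0x10c714f) (.node (nat_lit 0x10c7149) (.node (nat_lit 0x10c7147) (.leaf (nat_lit 0x10c7145) (nat_lit 2050))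
 (.leaf (nat_lit 0x10c7147) (nat_lit 1794))
) (.node (nat_lit 0x10c714b) (.leaf (nat_lit 0x10c7149) (nat_lit 2050))
 (.node (nat_lit 0x10c714d) (.leaf (nat_lit 0x10c714b) (nat_lit 1794))
 (.leaf (nat_lit 0x10c714d) (nat_lit 2050))
))) (.node (nat_lit 0x10c7153) (.node (nat_lit 0x10c7151) (.leaf (nat_lit 0x10c714f) (nat_lit 1794))
 (.leaf (nat_lit 0x10c7151) (nat_lit 2561))
) (.node (nat_lit 0x10c7155) (.leaf (nat_lit 0x10c7153) (nat_lit 2817))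
 (.node (nat_lit 0x10c7157) (.leaf (nat_lit 0x10c7155) (nat_lit 2561))
 (.leaf (nat_lit 0x10c7157) (nat_lit 2305))
)))) (.node (nat_lit 0x10c71c3) (.node (nat_lit 0x10c715d) (.node (nat_lit 0x10c715b) (.leaf (nat_lit 0x10c7159) (nat_lit 2561))
 (.leaf (nat_lit 0x10c715b) (nat_lit 2817))
) (.node (nat_lit 0x10c715f) (.leaf (nat_lit 0x10c715d) (nat_lit 2563))
 (.node (nat_lit 0x10c71c1) (.leaf (nat_lit 0x10c715f) (nat_lit 2307))
 (.leaf (nat_lit 0x10c71c1) (nat_lit 1282))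
))) (.node (nat_lit 0x10c71c9) (.node (nat_lit 0x10c71c5) (.leaf (nat_lit 0x10c71c3) (nat_lit 1538))
 (.node (nat_lit 0x10c71c7) (.leaf (nat_lit 0x10c71c5) (nat_lit 2306))
 (.leaf (nat_lit 0x10c71c7) (nat_lit 2050))
)) (.node (nat_lit 0x10c71cb) (.leaf (nat_lit 0x10c71c9) (nat_lit 2306))
 (.node (nat_lit 0x10c71cd) (.leaf (nat_lit 0x10c71cb) (nat_lit 2050))
 (.leaf (nat_lit 0x10c71cd) (nat_lit 1794))
))))) (.node (nat_lit 0x10c7243) (.node (nat_lit 0x10c71d9) (.node (nat_lit 0x10c71d3) (.node (nat_lit 0x10c71d1) (.leaf (nat_lit 0x10c71cf) (nat_lit 1538))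
 (.leaf (nat_lit 0x10c71d1) (nat_lit 2305))
) (.node (nat_lit 0x10c71d5) (.leaf (nat_lit 0x10c71d3) (nat_lit 2049))
 (.node (nat_lit 0x10c71d7) (.leaf (nat_lit 0x10c71d5) (nat_lit 2817))
 (.leaf (nat_lit 0x10c71d7) (nat_lit 2820))
))) (.node (nat_lit 0x10c71dd) (.node (nat_lit 0x10c71db) (.leaf (nat_lit 0x10c71d9) (nat_lit 2819))
 (.leaf (nat_lit 0x10c71db) (nat_lit 2563))
) (.node (nat_lit 0x10c71df) (.leaf (nat_lit 0x10c71dd) (nat_lit 2305))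
 (.node (nat_lit 0x10c7241) (.leaf (nat_lit 0x10c71df) (nat_lit 2561))
 (.leaf (nat_lit 0x10c7241) (nat_lit 1537))
)))) (.node (nat_lit 0x10c724d) (.node (nat_lit 0x10c7247) (.node (nat_lit 0x10c7245) (.leaf (nat_lit 0x10c7243) (nat_lit 1793))
 (.leaf (nat_lit 0x10c7245) (nat_lit 2309))
) (.node (nat_lit 0x10c7249) (.leaf (nat_lit 0x10c7247) (nat_lit 2305))
 (.node (nat_lit 0x10c724b) (.leaf (nat_lit 0x10c7249) (nat_lit 2561))
 (.leaf (nat_lit 0x10c724b) (nat_lit 2305))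
))) (.node (nat_lit 0x10c7253) (.node (nat_lit 0x10c724f) (.leaf (nat_lit 0x10c724d) (nat_lit 2049))
 (.node (nat_lit 0x10c7251) (.leaf (nat_lit 0x10c724f) (nat_lit 1793))
 (.leaf (nat_lit 0x10c7251) (nat_lit 2048))
)) (.node (nat_lit 0x10c7255) (.leaf (nat_lit 0x10c7253) (nat_lit 1792))
 (.node (nat_lit 0x10c7257) (.leaf (nat_lit 0x10c7255) (nat_lit 2560))
 (.leaf (nat_lit 0x10c7257) (nat_lit 2565))
))))))) (.node (nat_lit 0x10c73cd) (.node (nat_lit 0x10c7343) (.node (nat_lit 0x10c72cd) (.node (nat_lit 0x10c72c3) (.node (nat_lit 0x10c725d) (.node (nat_lit 0x10c725b) (.leaf (nat_lit 0x10c7259) (nat_lit 2560))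
 (.leaf (nat_lit 0x10c725b) (nat_lit 2816))
) (.node (nat_lit 0x10c725f) (.leaf (nat_lit 0x10c725d) (nat_lit 2048))
 (.node (nat_lit 0x10c72c1) (.leaf (nat_lit 0x10c725f) (nat_lit 2304))
 (.leaf (nat_lit 0x10c72c1) (nat_lit 1793))
))) (.node (nat_lit 0x10c72c7) (.node (nat_lit 0x10c72c5) (.leaf (nat_lit 0x10c72c3) (nat_lit 2049))
 (.leaf (nat_lit 0x10c72c5) (nat_lit 2305))
) (.node (nat_lit 0x10c72c9) (.leaf (nat_lit 0x10c72c7) (nat_lit 2049))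
 (.node (nat_lit 0x10c72cb) (.leaf (nat_lit 0x10c72c9) (nat_lit 2305))
 (.leaf (nat_lit 0x10c72cb) (nat_lit 2049))
)))) (.node (nat_lit 0x10c72d7) (.node (nat_lit 0x10c72d1) (.node (nat_lit 0x10c72cf) (.leaf (nat_lit 0x10c72cd) (nat_lit 2305))
 (.leaf (nat_lit 0x10c72cf) (nat_lit 2049))
) (.node (nat_lit 0x10c72d3) (.leaf (nat_lit 0x10c72d1) (nat_lit 2304))
 (.node (nat_lit 0x10c72d5) (.leaf (nat_lit 0x10c72d3) (nat_lit 2560))
 (.leaf (nat_lit 0x10c72d5) (nat_lit 2304))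
))) (.node (nat_lit 0x10c72dd) (.node (nat_lit 0x10c72d9) (.leaf (nat_lit 0x10c72d7) (nat_lit 2048))
 (.node (nat_lit 0x10c72db) (.leaf (nat_lit 0x10c72d9) (nat_lit 2304))
 (.leaf (nat_lit 0x10c72db) (nat_lit 2560))
)) (.node (nat_lit 0x10c72df) (.leaf (nat_lit 0x10c72dd) (nat_lit 2304))
 (.node (nat_lit 0x10c7341) (.leaf (nat_lit 0x10c72df) (nat_lit 2560))
 (.leaf (nat_lit 0x10c7341) (nat_lit 1025))
))))) (.node (nat_lit 0x10c7357) (.node (nat_lit 0x10c734d) (.node (nat_lit 0x10c7347) (.node (nat_lit 0x10c7345) (.leaf (nat_lit 0x10c7343) (nat_lit 1281))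
 (.leaf (nat_lit 0x10c7345) (nat_lit 1537))
) (.node (nat_lit 0x10c7349) (.leaf (nat_lit 0x10c7347) (nat_lit 1281))
 (.node (nat_lit 0x10c734b) (.leaf (nat_lit 0x10c7349) (nat_lit 2561))
 (.leaf (nat_lit 0x10c734b) (nat_lit 2305))
))) (.node (nat_lit 0x10c7351) (.node (nat_lit 0x10c734f) (.leaf (nat_lit 0x10c734d) (nat_lit 2561))
 (.leaf (nat_lit 0x10c734f) (nat_lit 2305))
) (.node (nat_lit 0x10c7353) (.leaf (nat_lit 0x10c7351) (nat_lit 2560))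
 (.node (nat_lit 0x10c7355) (.leaf (nat_lit 0x10c7353) (nat_lit 2816))
 (.leaf (nat_lit 0x10c7355) (nat_lit 2560))
)))) (.node (nat_lit 0x10c73c1) (.node (nat_lit 0x10c735b) (.node (nat_lit 0x10c7359) (.leaf (nat_lit 0x10c7357) (nat_lit 2816))
 (.leaf (nat_lit 0x10c7359) (nat_lit 1536))
) (.node (nat_lit 0x10c735d) (.leaf (nat_lit 0x10c735b) (nat_lit 1280))
 (.node (nat_lit 0x10c735f) (.leaf (nat_lit 0x10c735d) (nat_lit 1536))
 (.leaf (nat_lit 0x10c735f) (nat_lit 1792))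
))) (.node (nat_lit 0x10c73c7) (.node (nat_lit 0x10c73c3) (.leaf (nat_lit 0x10c73c1) (nat_lit 769))
 (.node (nat_lit 0x10c73c5) (.leaf (nat_lit 0x10c73c3) (nat_lit 1025))
 (.leaf (nat_lit 0x10c73c5) (nat_lit 1793))
)) (.node (nat_lit 0x10c73c9) (.leaf (nat_lit 0x10c73c7) (nat_lit 1537))
 (.node (nat_lit 0x10c73cb) (.leaf (nat_lit 0x10c73c9) (nat_lit 2817))
 (.leaf (nat_lit 0x10c73cb) (nat_lit 2561))
)))))) (.node (nat_lit 0x10c7857) (.node (nat_lit 0x10c7841) (.node (nat_lit 0x10c73d7) (.node (nat_lit 0x10c73d1) (.node (nat_lit 0x10c73cf) (.leaf (nat_lit 0x10c73cd) (nat_lit 2305))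
 (.leaf (nat_lit 0x10c73cf) (nat_lit 2049))
) (.node (nat_lit 0x10c73d3) (.leaf (nat_lit 0x10c73d1) (nat_lit 2304))
 (.node (nat_lit 0x10c73d5) (.leaf (nat_lit 0x10c73d3) (nat_lit 2560))
 (.leaf (nat_lit 0x10c73d5) (nat_lit 2819))
))) (.node (nat_lit 0x10c73db) (.node (nat_lit 0x10c73d9) (.leaf (nat_lit 0x10c73d7) (nat_lit 2563))
 (.leaf (nat_lit 0x10c73d9) (nat_lit 1792))
) (.node (nat_lit 0x10c73dd) (.leaf (nat_lit 0x10c73db) (nat_lit 2048))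
 (.node (nat_lit 0x10c73df) (.leaf (nat_lit 0x10c73dd) (nat_lit 1280))
 (.leaf (nat_lit 0x10c73df) (nat_lit 1024))
)))) (.node (nat_lit 0x10c784b) (.node (nat_lit 0x10c7845) (.node (nat_lit 0x10c7843) (.leaf (nat_lit 0x10c7841) (nat_lit 773))
 (.leaf (nat_lit 0x10c7843) (nat_lit 1029))
) (.node (nat_lit 0x10c7847) (.leaf (nat_lit 0x10c7845) (nat_lit 1538))
 (.node (nat_lit 0x10c7849) (.leaf (nat_lit 0x10c7847) (nat_lit 1541))
 (.leaf (nat_lit 0x10c7849) (nat_lit 2821))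
))) (.node (nat_lit 0x10c7851) (.node (nat_lit 0x10c784d) (.leaf (nat_lit 0x10c784b) (nat_lit 2565))
 (.node (nat_lit 0x10c784f) (.leaf (nat_lit 0x10c784d) (nat_lit 2050))
 (.leaf (nat_lit 0x10c784f) (nat_lit 2053))
)) (.node (nat_lit 0x10c7853) (.leaf (nat_lit 0x10c7851) (nat_lit 2821))
 (.node (nat_lit 0x10c7855) (.leaf (nat_lit 0x10c7853) (nat_lit 2817))
 (.leaf (nat_lit 0x10c7855) (nat_lit 2563))
))))) (.node (nat_lit 0x10c788b) (.node (nat_lit 0x10c7881) (.node (nat_lit 0x10c785b) (.node (nat_lit 0x10c7859) (.leaf (nat_lit 0x10c7857) (nat_lit 2565))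
 (.leaf (nat_lit 0x10c7859) (nat_lit 2309))
) (.node (nat_lit 0x10c785d) (.leaf (nat_lit 0x10c785b) (nat_lit 2305))
 (.node (nat_lit 0x10c785f) (.leaf (nat_lit 0x10c785d) (nat_lit 1537))
 (.leaf (nat_lit 0x10c785f) (nat_lit 1541))
))) (.node (nat_lit 0x10c7885) (.node (nat_lit 0x10c7883) (.leaf (nat_lit 0x10c7881) (nat_lit 1026))
 (.leaf (nat_lit 0x10c7883) (nat_lit 1282))
) (.node (nat_lit 0x10c7887) (.leaf (nat_lit 0x10c7885) (nat_lit 1282))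
 (.node (nat_lit 0x10c7889) (.leaf (nat_lit 0x10c7887) (nat_lit 1538))
 (.leaf (nat_lit 0x10c7889) (nat_lit 2562))
)))) (.node (nat_lit 0x10c7895) (.node (nat_lit 0x10c788f) (.node (nat_lit 0x10c788d) (.leaf (nat_lit 0x10c788b) (nat_lit 2306))
 (.leaf (nat_lit 0x10c788d) (nat_lit 2306))
) (.node (nat_lit 0x10c7891) (.leaf (nat_lit 0x10c788f) (nat_lit 2306))
 (.node (nat_lit 0x10c7893) (.leaf (nat_lit 0x10c7891) (nat_lit 3075))
 (.leaf (nat_lit 0x10c7893) (nat_lit 2819))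
))) (.node (nat_lit 0x10c789b) (.node (nat_lit 0x10c7897) (.leaf (nat_lit 0x10c7895) (nat_lit 3073))
 (.node (nat_lit 0x10c7899) (.leaf (nat_lit 0x10c7897) (nat_lit 3073))
 (.leaf (nat_lit 0x10c7899) (nat_lit 2049))
)) (.node (nat_lit 0x10c789d) (.leaf (nat_lit 0x10c789b) (nat_lit 1793))
 (.node (nat_lit 0x10c789f) (.leaf (nat_lit 0x10c789d) (nat_lit 2305))
 (.leaf (nat_lit 0x10c789f) (nat_lit 2049))
)))))))))) (.node (nat_lit 0x10d1381) (.node (nat_lit 0x10d0a91) (.node (nat_lit 0x10c7b89) (.node (nat_lit 0x10c7a55) (.node (nat_lit 0x10c798b) (.node (nat_lit 0x10c7955) (.node (nat_lit 0x10c794b) (.node (nat_lit 0x10c7945) (.node (nat_lit 0x10c7943) (.leaf (nat_lit 0x10c7941) (nat_lit 1541))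
 (.leaf (nat_lit 0x10c7943) (nat_lit 1797))
) (.node (nat_lit 0x10c7947) (.leaf (nat_lit 0x10c7945) (nat_lit 2053))
 (.node (nat_lit 0x10c7949) (.leaf (nat_lit 0x10c7947) (nat_lit 1797))
 (.leaf (nat_lit 0x10c7949) (nat_lit 2053))
))) (.node (nat_lit 0x10c794f) (.node (nat_lit 0x10c794d) (.leaf (nat_lit 0x10c794b) (nat_lit 1797))
 (.leaf (nat_lit 0x10c794d) (nat_lit 2053))
) (.node (nat_lit 0x10c7951) (.leaf (nat_lit 0x10c794f) (nat_lit 2309))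
 (.node (nat_lit 0x10c7953) (.leaf (nat_lit 0x10c7951) (nat_lit 2817))
 (.leaf (nat_lit 0x10c7953) (nat_lit 2561))
)))) (.node (nat_lit 0x10c795f) (.node (nat_lit 0x10c7959) (.node (nat_lit 0x10c7957) (.leaf (nat_lit 0x10c7955) (nat_lit 2305))
 (.leaf (nat_lit 0x10c7957) (nat_lit 2561))
) (.node (nat_lit 0x10c795b) (.leaf (nat_lit 0x10c7959) (nat_lit 2565))
 (.node (nat_lit 0x10c795d) (.leaf (nat_lit 0x10c795b) (nat_lit 2821))
 (.leaf (nat_lit 0x10c795d) (nat_lit 2565))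
))) (.node (nat_lit 0x10c7985) (.node (nat_lit 0x10c7981) (.leaf (nat_lit 0x10c795f) (nat_lit 2309))
 (.node (nat_lit 0x10c7983) (.leaf (nat_lit 0x10c7981) (nat_lit 1538))
 (.leaf (nat_lit 0x10c7983) (nat_lit 1794))
)) (.node (nat_lit 0x10c7987) (.leaf (nat_lit 0x10c7985) (nat_lit 2306))
 (.node (nat_lit 0x10c7989) (.leaf (nat_lit 0x10c7987) (nat_lit 2050))
 (.leaf (nat_lit 0x10c7989) (nat_lit 2306))
))))) (.node (nat_lit 0x10c799f) (.node (nat_lit 0x10c7995) (.node (nat_lit 0x10c798f) (.node (nat_lit 0x10c798d) (.leaf (nat_lit 0x10c798b) (nat_lit 2050))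
 (.leaf (nat_lit 0x10c798d) (nat_lit 1794))
) (.node (nat_lit 0x10c7991) (.leaf (nat_lit 0x10c798f) (nat_lit 2050))
 (.node (nat_lit 0x10c7993) (.leaf (nat_lit 0x10c7991) (nat_lit 2561))
 (.leaf (nat_lit 0x10c7993) (nat_lit 2305))
))) (.node (nat_lit 0x10c7999) (.node (nat_lit 0x10c7997) (.leaf (nat_lit 0x10c7995) (nat_lit 2561))
 (.leaf (nat_lit 0x10c7997) (nat_lit 2817))
) (.node (nat_lit 0x10c799b) (.leaf (nat_lit 0x10c7999) (nat_lit 2816))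
 (.node (nat_lit 0x10c799d) (.leaf (nat_lit 0x10c799b) (nat_lit 2819))
 (.leaf (nat_lit 0x10c799d) (nat_lit 2816))
)))) (.node (nat_lit 0x10c7a49) (.node (nat_lit 0x10c7a43) (.node (nat_lit 0x10c7a41) (.leaf (nat_lit 0x10c799f) (nat_lit 2560))
 (.leaf (nat_lit 0x10c7a41) (nat_lit 1797))
) (.node (nat_lit 0x10c7a45) (.leaf (nat_lit 0x10c7a43) (nat_lit 2053))
 (.node (nat_lit 0x10c7a47) (.leaf (nat_lit 0x10c7a45) (nat_lit 2309))
 (.leaf (nat_lit 0x10c7a47) (nat_lit 2053))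
))) (.node (nat_lit 0x10c7a4f) (.node (nat_lit 0x10c7a4b) (.leaf (nat_lit 0x10c7a49) (nat_lit 2561))
 (.node (nat_lit 0x10c7a4d) (.leaf (nat_lit 0x10c7a4b) (nat_lit 2305))
 (.leaf (nat_lit 0x10c7a4d) (nat_lit 2049))
)) (.node (nat_lit 0x10c7a51) (.leaf (nat_lit 0x10c7a4f) (nat_lit 2305))
 (.node (nat_lit 0x10c7a53) (.leaf (nat_lit 0x10c7a51) (nat_lit 2309))
 (.leaf (nat_lit 0x10c7a53) (nat_lit 2053))
)))))) (.node (nat_lit 0x10c7a9f) (.node (nat_lit 0x10c7a89) (.node (nat_lit 0x10c7a5f) (.node (nat_lit 0x10c7a59) (.node (nat_lit 0x10c7a57) (.leaf (nat_lit 0x10c7a55) (nat_lit 2309))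
 (.leaf (nat_lit 0x10c7a57) (nat_lit 2565))
) (.node (nat_lit 0x10c7a5b) (.leaf (nat_lit 0x10c7a59) (nat_lit 2560))
 (.node (nat_lit 0x10c7a5d) (.leaf (nat_lit 0x10c7a5b) (nat_lit 2816))
 (.leaf (nat_lit 0x10c7a5d) (nat_lit 2560))
))) (.node (nat_lit 0x10c7a83) (.node (nat_lit 0x10c7a81) (.leaf (nat_lit 0x10c7a5f) (nat_lit 2304))
 (.leaf (nat_lit 0x10c7a81) (nat_lit 1793))
) (.node (nat_lit 0x10c7a85) (.leaf (nat_lit 0x10c7a83) (nat_lit 2049))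
 (.node (nat_lit 0x10c7a87) (.leaf (nat_lit 0x10c7a85) (nat_lit 2305))
 (.leaf (nat_lit 0x10c7a87) (nat_lit 2049))
)))) (.node (nat_lit 0x10c7a93) (.node (nat_lit 0x10c7a8d) (.node (nat_lit 0x10c7a8b) (.leaf (nat_lit 0x10c7a89) (nat_lit 2305))
 (.leaf (nat_lit 0x10c7a8b) (nat_lit 2049))
) (.node (nat_lit 0x10c7a8f) (.leaf (nat_lit 0x10c7a8d) (nat_lit 2305))
 (.node (nat_lit 0x10c7a91) (.leaf (nat_lit 0x10c7a8f) (nat_lit 2561))
 (.leaf (nat_lit 0x10c7a91) (nat_lit 2560))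
))) (.node (nat_lit 0x10c7a99) (.node (nat_lit 0x10c7a95) (.leaf (nat_lit 0x10c7a93) (nat_lit 2304))
 (.node (nat_lit 0x10c7a97) (.leaf (nat_lit 0x10c7a95) (nat_lit 2048))
 (.leaf (nat_lit 0x10c7a97) (nat_lit 2304))
)) (.node (nat_lit 0x10c7a9b) (.leaf (nat_lit 0x10c7a99) (nat_lit 2560))
 (.node (nat_lit 0x10c7a9d) (.leaf (nat_lit 0x10c7a9b) (nat_lit 2816))
 (.leaf (nat_lit 0x10c7a9d) (nat_lit 2560))
))))) (.node (nat_lit 0x10c7b53) (.node (nat_lit 0x10c7b49) (.node (nat_lit 0x10c7b43) (.node (nat_lit 0x10c7b41) (.leaf (nat_lit 0x10c7a9f) (nat_lit 2304))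
 (.leaf (nat_lit 0x10c7b41) (nat_lit 1281))
) (.node (nat_lit 0x10c7b45) (.leaf (nat_lit 0x10c7b43) (nat_lit 1537))
 (.node (nat_lit 0x10c7b47) (.leaf (nat_lit 0x10c7b45) (nat_lit 1537))
 (.leaf (nat_lit 0x10c7b47) (nat_lit 1793))
))) (.node (nat_lit 0x10c7b4d) (.node (nat_lit 0x10c7b4b) (.leaf (nat_lit 0x10c7b49) (nat_lit 2817))
 (.leaf (nat_lit 0x10c7b4b) (nat_lit 2561))
) (.node (nat_lit 0x10c7b4f) (.leaf (nat_lit 0x10c7b4d) (nat_lit 2563))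
 (.node (nat_lit 0x10c7b51) (.leaf (nat_lit 0x10c7b4f) (nat_lit 2561))
 (.leaf (nat_lit 0x10c7b51) (nat_lit 2816))
)))) (.node (nat_lit 0x10c7b5d) (.node (nat_lit 0x10c7b57) (.node (nat_lit 0x10c7b55) (.leaf (nat_lit 0x10c7b53) (nat_lit 3072))
 (.leaf (nat_lit 0x10c7b55) (nat_lit 2816))
) (.node (nat_lit 0x10c7b59) (.leaf (nat_lit 0x10c7b57) (nat_lit 2821))
 (.node (nat_lit 0x10c7b5b) (.leaf (nat_lit 0x10c7b59) (nat_lit 1792))
 (.leaf (nat_lit 0x10c7b5b) (nat_lit 1536))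
))) (.node (nat_lit 0x10c7b83) (.node (nat_lit 0x10c7b5f) (.leaf (nat_lit 0x10c7b5d) (nat_lit 2053))
 (.node (nat_lit 0x10c7b81) (.leaf (nat_lit 0x10c7b5f) (nat_lit 1797))
 (.leaf (nat_lit 0x10c7b81) (nat_lit 1025))
)) (.node (nat_lit 0x10c7b85) (.leaf (nat_lit 0x10c7b83) (nat_lit 1281))
 (.node (nat_lit 0x10c7b87) (.leaf (nat_lit 0x10c7b85) (nat_lit 1793))
 (.leaf (nat_lit 0x10c7b87) (nat_lit 1793))
))))))) (.node (nat_lit 0x10d08dd) (.node (nat_lit 0x10d0893) (.node (nat_lit 0x10c7b9d) (.node (nat_lit 0x10c7b93) (.node (nat_lit 0x10c7b8d) (.node (nat_lit 0x10c7b8b) (.leaf (nat_lit 0x10c7b89) (nat_lit 3073))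
 (.leaf (nat_lit 0x10c7b8b) (nat_lit 2817))
) (.node (nat_lit 0x10c7b8f) (.leaf (nat_lit 0x10c7b8d) (nat_lit 2305))
 (.node (nat_lit 0x10c7b91) (.leaf (nat_lit 0x10c7b8f) (nat_lit 2305))
 (.leaf (nat_lit 0x10c7b91) (nat_lit 2560))
))) (.node (nat_lit 0x10c7b97) (.node (nat_lit 0x10c7b95) (.leaf (nat_lit 0x10c7b93) (nat_lit 2560))
 (.leaf (nat_lit 0x10c7b95) (nat_lit 2819))
) (.node (nat_lit 0x10c7b99) (.leaf (nat_lit 0x10c7b97) (nat_lit 2817))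
 (.node (nat_lit 0x10c7b9b) (.leaf (nat_lit 0x10c7b99) (nat_lit 2048))
 (.leaf (nat_lit 0x10c7b9b) (nat_lit 2048))
)))) (.node (nat_lit 0x10d0887) (.node (nat_lit 0x10d0881) (.node (nat_lit 0x10c7b9f) (.leaf (nat_lit 0x10c7b9d) (nat_lit 1280))
 (.leaf (nat_lit 0x10c7b9f) (nat_lit 1536))
) (.node (nat_lit 0x10d0883) (.leaf (nat_lit 0x10d0881) (nat_lit 1284))
 (.node (nat_lit 0x10d0885) (.leaf (nat_lit 0x10d0883) (nat_lit 1540))
 (.leaf (nat_lit 0x10d0885) (nat_lit 1540))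
))) (.node (nat_lit 0x10d088d) (.node (nat_lit 0x10d0889) (.leaf (nat_lit 0x10d0887) (nat_lit 1540))
 (.node (nat_lit 0x10d088b) (.leaf (nat_lit 0x10d0889) (nat_lit 2820))
 (.leaf (nat_lit 0x10d088b) (nat_lit 2564))
)) (.node (nat_lit 0x10d088f) (.leaf (nat_lit 0x10d088d) (nat_lit 2564))
 (.node (nat_lit 0x10d0891) (.leaf (nat_lit 0x10d088f) (nat_lit 2308))
 (.leaf (nat_lit 0x10d0891) (nat_lit 3585))
))))) (.node (nat_lit 0x10d08c7) (.node (nat_lit 0x10d089d) (.node (nat_lit 0x10d0897) (.node (nat_lit 0x10d0895) (.leaf (nat_lit 0x10d0893) (nat_lit 3329))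
 (.leaf (nat_lit 0x10d0895) (nat_lit 3329))
) (.node (nat_lit 0x10d0899) (.leaf (nat_lit 0x10d0897) (nat_lit 3330))
 (.node (nat_lit 0x10d089b) (.leaf (nat_lit 0x10d0899) (nat_lit 2820))
 (.leaf (nat_lit 0x10d089b) (nat_lit 2564))
))) (.node (nat_lit 0x10d08c1) (.node (nat_lit 0x10d089f) (.leaf (nat_lit 0x10d089d) (nat_lit 2564))
 (.leaf (nat_lit 0x10d089f) (nat_lit 2308))
) (.node (nat_lit 0x10d08c3) (.leaf (nat_lit 0x10d08c1) (nat_lit 1028))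
 (.node (nat_lit 0x10d08c5) (.leaf (nat_lit 0x10d08c3) (nat_lit 1284))
 (.leaf (nat_lit 0x10d08c5) (nat_lit 1540))
)))) (.node (nat_lit 0x10d08d1) (.node (nat_lit 0x10d08cb) (.node (nat_lit 0x10d08c9) (.leaf (nat_lit 0x10d08c7) (nat_lit 1284))
 (.leaf (nat_lit 0x10d08c9) (nat_lit 2564))
) (.node (nat_lit 0x10d08cd) (.leaf (nat_lit 0x10d08cb) (nat_lit 2308))
 (.node (nat_lit 0x10d08cf) (.leaf (nat_lit 0x10d08cd) (nat_lit 2308))
 (.leaf (nat_lit 0x10d08cf) (nat_lit 2307))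
))) (.node (nat_lit 0x10d08d7) (.node (nat_lit 0x10d08d3) (.leaf (nat_lit 0x10d08d1) (nat_lit 3330))
 (.node (nat_lit 0x10d08d5) (.leaf (nat_lit 0x10d08d3) (nat_lit 3074))
 (.leaf (nat_lit 0x10d08d5) (nat_lit 3074))
)) (.node (nat_lit 0x10d08d9) (.leaf (nat_lit 0x10d08d7) (nat_lit 3330))
 (.node (nat_lit 0x10d08db) (.leaf (nat_lit 0x10d08d9) (nat_lit 2564))
 (.leaf (nat_lit 0x10d08db) (nat_lit 2308))
)))))) (.node (nat_lit 0x10d09c7) (.node (nat_lit 0x10d0991) (.node (nat_lit 0x10d0987) (.node (nat_lit 0x10d0981) (.node (nat_lit 0x10d08df) (.leaf (nat_lit 0x10d08dd) (nat_lit 2308))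
 (.leaf (nat_lit 0x10d08df) (nat_lit 2306))
) (.node (nat_lit 0x10d0983) (.leaf (nat_lit 0x10d0981) (nat_lit 1540))
 (.node (nat_lit 0x10d0985) (.leaf (nat_lit 0x10d0983) (nat_lit 1796))
 (.leaf (nat_lit 0x10d0985) (nat_lit 2308))
))) (.node (nat_lit 0x10d098b) (.node (nat_lit 0x10d0989) (.leaf (nat_lit 0x10d0987) (nat_lit 2052))
 (.leaf (nat_lit 0x10d0989) (nat_lit 2564))
) (.node (nat_lit 0x10d098d) (.leaf (nat_lit 0x10d098b) (nat_lit 2308))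
 (.node (nat_lit 0x10d098f) (.leaf (nat_lit 0x10d098d) (nat_lit 1796))
 (.leaf (nat_lit 0x10d098f) (nat_lit 1796))
)))) (.node (nat_lit 0x10d099b) (.node (nat_lit 0x10d0995) (.node (nat_lit 0x10d0993) (.leaf (nat_lit 0x10d0991) (nat_lit 3332))
 (.leaf (nat_lit 0x10d0993) (nat_lit 3330))
) (.node (nat_lit 0x10d0997) (.leaf (nat_lit 0x10d0995) (nat_lit 2820))
 (.node (nat_lit 0x10d0999) (.leaf (nat_lit 0x10d0997) (nat_lit 2564))
 (.leaf (nat_lit 0x10d0999) (nat_lit 3076))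
))) (.node (nat_lit 0x10d09c1) (.node (nat_lit 0x10d099d) (.leaf (nat_lit 0x10d099b) (nat_lit 2820))
 (.node (nat_lit 0x10d099f) (.leaf (nat_lit 0x10d099d) (nat_lit 3332))
 (.leaf (nat_lit 0x10d099f) (nat_lit 3330))
)) (.node (nat_lit 0x10d09c3) (.leaf (nat_lit 0x10d09c1) (nat_lit 1284))
 (.node (nat_lit 0x10d09c5) (.leaf (nat_lit 0x10d09c3) (nat_lit 1540))
 (.leaf (nat_lit 0x10d09c5) (nat_lit 2308))
))))) (.node (nat_lit 0x10d09db) (.node (nat_lit 0x10d09d1) (.node (nat_lit 0x10d09cb) (.node (nat_lit 0x10d09c9) (.leaf (nat_lit 0x10d09c7) (nat_lit 2052))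
 (.leaf (nat_lit 0x10d09c9) (nat_lit 2308))
) (.node (nat_lit 0x10d09cd) (.leaf (nat_lit 0x10d09cb) (nat_lit 2564))
 (.node (nat_lit 0x10d09cf) (.leaf (nat_lit 0x10d09cd) (nat_lit 1796))
 (.leaf (nat_lit 0x10d09cf) (nat_lit 1540))
))) (.node (nat_lit 0x10d09d5) (.node (nat_lit 0x10d09d3) (.leaf (nat_lit 0x10d09d1) (nat_lit 3330))
 (.leaf (nat_lit 0x10d09d3) (nat_lit 3332))
) (.node (nat_lit 0x10d09d7) (.leaf (nat_lit 0x10d09d5) (nat_lit 2564))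
 (.node (nat_lit 0x10d09d9) (.leaf (nat_lit 0x10d09d7) (nat_lit 2562))
 (.leaf (nat_lit 0x10d09d9) (nat_lit 2820))
)))) (.node (nat_lit 0x10d0a85) (.node (nat_lit 0x10d09df) (.node (nat_lit 0x10d09dd) (.leaf (nat_lit 0x10d09db) (nat_lit 2564))
 (.leaf (nat_lit 0x10d09dd) (nat_lit 3332))
) (.node (nat_lit 0x10d0a81) (.leaf (nat_lit 0x10d09df) (nat_lit 3076))
 (.node (nat_lit 0x10d0a83) (.leaf (nat_lit 0x10d0a81) (nat_lit 1796))
 (.leaf (nat_lit 0x10d0a83) (nat_lit 2052))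
))) (.node (nat_lit 0x10d0a8b) (.node (nat_lit 0x10d0a87) (.leaf (nat_lit 0x10d0a85) (nat_lit 2564))
 (.node (nat_lit 0x10d0a89) (.leaf (nat_lit 0x10d0a87) (nat_lit 2564))
 (.leaf (nat_lit 0x10d0a89) (nat_lit 3076))
)) (.node (nat_lit 0x10d0a8d) (.leaf (nat_lit 0x10d0a8b) (nat_lit 3074))
 (.node (nat_lit 0x10d0a8f) (.leaf (nat_lit 0x10d0a8d) (nat_lit 2564))
 (.leaf (nat_lit 0x10d0a8f) (nat_lit 2308))
)))))))) (.node (nat_lit 0x10d10d9) (.node (nat_lit 0x10d0bc5) (.node (nat_lit 0x10d0adb) (.node (nat_lit 0x10d0ac5) (.node (nat_lit 0x10d0a9b) (.node (nat_lit 0x10d0a95) (.node (nat_lit 0x10d0a93) (.leaf (nat_lit 0x10d0a91) (nat_lit 2820))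
 (.leaf (nat_lit 0x10d0a93) (nat_lit 2820))
) (.node (nat_lit 0x10d0a97) (.leaf (nat_lit 0x10d0a95) (nat_lit 2052))
 (.node (nat_lit 0x10d0a99) (.leaf (nat_lit 0x10d0a97) (nat_lit 2052))
 (.leaf (nat_lit 0x10d0a99) (nat_lit 2820))
))) (.node (nat_lit 0x10d0a9f) (.node (nat_lit 0x10d0a9d) (.leaf (nat_lit 0x10d0a9b) (nat_lit 2564))
 (.leaf (nat_lit 0x10d0a9d) (nat_lit 3076))
) (.node (nat_lit 0x10d0ac1) (.leaf (nat_lit 0x10d0a9f) (nat_lit 2820))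
 (.node (nat_lit 0x10d0ac3) (.leaf (nat_lit 0x10d0ac1) (nat_lit 1540))
 (.leaf (nat_lit 0x10d0ac3) (nat_lit 1796))
)))) (.node (nat_lit 0x10d0acf) (.node (nat_lit 0x10d0ac9) (.node (nat_lit 0x10d0ac7) (.leaf (nat_lit 0x10d0ac5) (nat_lit 2564))
 (.leaf (nat_lit 0x10d0ac7) (nat_lit 2308))
) (.node (nat_lit 0x10d0acb) (.leaf (nat_lit 0x10d0ac9) (nat_lit 3076))
 (.node (nat_lit 0x10d0acd) (.leaf (nat_lit 0x10d0acb) (nat_lit 3076))
 (.leaf (nat_lit 0x10d0acd) (nat_lit 2564))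
))) (.node (nat_lit 0x10d0ad5) (.node (nat_lit 0x10d0ad1) (.leaf (nat_lit 0x10d0acf) (nat_lit 2308))
 (.node (nat_lit 0x10d0ad3) (.leaf (nat_lit 0x10d0ad1) (nat_lit 2564))
 (.leaf (nat_lit 0x10d0ad3) (nat_lit 2820))
)) (.node (nat_lit 0x10d0ad7) (.leaf (nat_lit 0x10d0ad5) (nat_lit 2052))
 (.node (nat_lit 0x10d0ad9) (.leaf (nat_lit 0x10d0ad7) (nat_lit 1796))
 (.leaf (nat_lit 0x10d0ad9) (nat_lit 2564))
))))) (.node (nat_lit 0x10d0b8f) (.node (nat_lit 0x10d0b85) (.node (nat_lit 0x10d0adf) (.node (nat_lit 0x10d0add) (.leaf (nat_lit 0x10d0adb) (nat_lit 2820))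
 (.leaf (nat_lit 0x10d0add) (nat_lit 3076))
) (.node (nat_lit 0x10d0b81) (.leaf (nat_lit 0x10d0adf) (nat_lit 2820))
 (.node (nat_lit 0x10d0b83) (.leaf (nat_lit 0x10d0b81) (nat_lit 1540))
 (.leaf (nat_lit 0x10d0b83) (nat_lit 1796))
))) (.node (nat_lit 0x10d0b89) (.node (nat_lit 0x10d0b87) (.leaf (nat_lit 0x10d0b85) (nat_lit 2308))
 (.leaf (nat_lit 0x10d0b87) (nat_lit 2052))
) (.node (nat_lit 0x10d0b8b) (.leaf (nat_lit 0x10d0b89) (nat_lit 3332))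
 (.node (nat_lit 0x10d0b8d) (.leaf (nat_lit 0x10d0b8b) (nat_lit 3076))
 (.leaf (nat_lit 0x10d0b8d) (nat_lit 2820))
)))) (.node (nat_lit 0x10d0b99) (.node (nat_lit 0x10d0b93) (.node (nat_lit 0x10d0b91) (.leaf (nat_lit 0x10d0b8f) (nat_lit 2820))
 (.leaf (nat_lit 0x10d0b91) (nat_lit 3076))
) (.node (nat_lit 0x10d0b95) (.leaf (nat_lit 0x10d0b93) (nat_lit 3076))
 (.node (nat_lit 0x10d0b97) (.leaf (nat_lit 0x10d0b95) (nat_lit 3332))
 (.leaf (nat_lit 0x10d0b97) (nat_lit 3076))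
))) (.node (nat_lit 0x10d0b9f) (.node (nat_lit 0x10d0b9b) (.leaf (nat_lit 0x10d0b99) (nat_lit 2564))
 (.node (nat_lit 0x10d0b9d) (.leaf (nat_lit 0x10d0b9b) (nat_lit 2308))
 (.leaf (nat_lit 0x10d0b9d) (nat_lit 1796))
)) (.node (nat_lit 0x10d0bc1) (.leaf (nat_lit 0x10d0b9f) (nat_lit 1796))
 (.node (nat_lit 0x10d0bc3) (.leaf (nat_lit 0x10d0bc1) (nat_lit 1284))
 (.leaf (nat_lit 0x10d0bc3) (nat_lit 1540))
)))))) (.node (nat_lit 0x10d104f) (.node (nat_lit 0x10d0bd9) (.node (nat_lit 0x10d0bcf) (.node (nat_lit 0x10d0bc9) (.node (nat_lit 0x10d0bc7) (.leaf (nat_lit 0x10d0bc5) (nat_lit 2308))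
 (.leaf (nat_lit 0x10d0bc7) (nat_lit 2052))
) (.node (nat_lit 0x10d0bcb) (.leaf (nat_lit 0x10d0bc9) (nat_lit 3077))
 (.node (nat_lit 0x10d0bcd) (.leaf (nat_lit 0x10d0bcb) (nat_lit 3076))
 (.leaf (nat_lit 0x10d0bcd) (nat_lit 2820))
))) (.node (nat_lit 0x10d0bd3) (.node (nat_lit 0x10d0bd1) (.leaf (nat_lit 0x10d0bcf) (nat_lit 2564))
 (.leaf (nat_lit 0x10d0bd1) (nat_lit 2820))
) (.node (nat_lit 0x10d0bd5) (.leaf (nat_lit 0x10d0bd3) (nat_lit 3076))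
 (.node (nat_lit 0x10d0bd7) (.leaf (nat_lit 0x10d0bd5) (nat_lit 3076))
 (.leaf (nat_lit 0x10d0bd7) (nat_lit 3076))
)))) (.node (nat_lit 0x10d1043) (.node (nat_lit 0x10d0bdd) (.node (nat_lit 0x10d0bdb) (.leaf (nat_lit 0x10d0bd9) (nat_lit 2308))
 (.leaf (nat_lit 0x10d0bdb) (nat_lit 2564))
) (.node (nat_lit 0x10d0bdf) (.leaf (nat_lit 0x10d0bdd) (nat_lit 1796))
 (.node (nat_lit 0x10d1041) (.leaf (nat_lit 0x10d0bdf) (nat_lit 1540))
 (.leaf (nat_lit 0x10d1041) (nat_lit 1285))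
))) (.node (nat_lit 0x10d1049) (.node (nat_lit 0x10d1045) (.leaf (nat_lit 0x10d1043) (nat_lit 1541))
 (.node (nat_lit 0x10d1047) (.leaf (nat_lit 0x10d1045) (nat_lit 2049))
 (.leaf (nat_lit 0x10d1047) (nat_lit 1793))
)) (.node (nat_lit 0x10d104b) (.leaf (nat_lit 0x10d1049) (nat_lit 2565))
 (.node (nat_lit 0x10d104d) (.leaf (nat_lit 0x10d104b) (nat_lit 2565))
 (.leaf (nat_lit 0x10d104d) (nat_lit 2307))
))))) (.node (nat_lit 0x10d10c3) (.node (nat_lit 0x10d1059) (.node (nat_lit 0x10d1053) (.node (nat_lit 0x10d1051) (.leaf (nat_lit 0x10d104f) (nat_lit 2307))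
 (.leaf (nat_lit 0x10d1051) (nat_lit 3586))
) (.node (nat_lit 0x10d1055) (.leaf (nat_lit 0x10d1053) (nat_lit 3585))
 (.node (nat_lit 0x10d1057) (.leaf (nat_lit 0x10d1055) (nat_lit 3333))
 (.leaf (nat_lit 0x10d1057) (nat_lit 3331))
))) (.node (nat_lit 0x10d105d) (.node (nat_lit 0x10d105b) (.leaf (nat_lit 0x10d1059) (nat_lit 2565))
 (.leaf (nat_lit 0x10d105b) (nat_lit 2565))
) (.node (nat_lit 0x10d105f) (.leaf (nat_lit 0x10d105d) (nat_lit 2306))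
 (.node (nat_lit 0x10d10c1) (.leaf (nat_lit 0x10d105f) (nat_lit 2306))
 (.leaf (nat_lit 0x10d10c1) (nat_lit 1285))
)))) (.node (nat_lit 0x10d10cd) (.node (nat_lit 0x10d10c7) (.node (nat_lit 0x10d10c5) (.leaf (nat_lit 0x10d10c3) (nat_lit 1541))
 (.leaf (nat_lit 0x10d10c5) (nat_lit 1797))
) (.node (nat_lit 0x10d10c9) (.leaf (nat_lit 0x10d10c7) (nat_lit 1541))
 (.node (nat_lit 0x10d10cb) (.leaf (nat_lit 0x10d10c9) (nat_lit 2563))
 (.leaf (nat_lit 0x10d10cb) (nat_lit 2565))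
))) (.node (nat_lit 0x10d10d3) (.node (nat_lit 0x10d10cf) (.leaf (nat_lit 0x10d10cd) (nat_lit 2565))
 (.node (nat_lit 0x10d10d1) (.leaf (nat_lit 0x10d10cf) (nat_lit 2565))
 (.leaf (nat_lit 0x10d10d1) (nat_lit 3589))
)) (.node (nat_lit 0x10d10d5) (.leaf (nat_lit 0x10d10d3) (nat_lit 3333))
 (.node (nat_lit 0x10d10d7) (.leaf (nat_lit 0x10d10d5) (nat_lit 3333))
 (.leaf (nat_lit 0x10d10d7) (nat_lit 3589))
))))))) (.node (nat_lit 0x10d124d) (.node (nat_lit 0x10d1183) (.node (nat_lit 0x10d110d) (.node (nat_lit 0x10d1103) (.node (nat_lit 0x10d10dd) (.node (nat_lit 0x10d10db) (.leaf (nat_lit 0x10d10d9) (nat_lit 2562))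
 (.leaf (nat_lit 0x10d10db) (nat_lit 2565))
) (.node (nat_lit 0x10d10df) (.leaf (nat_lit 0x10d10dd) (nat_lit 2565))
 (.node (nat_lit 0x10d1101) (.leaf (nat_lit 0x10d10df) (nat_lit 2565))
 (.leaf (nat_lit 0x10d1101) (nat_lit 2051))
))) (.node (nat_lit 0x10d1107) (.node (nat_lit 0x10d1105) (.leaf (nat_lit 0x10d1103) (nat_lit 2307))
 (.leaf (nat_lit 0x10d1105) (nat_lit 2309))
) (.node (nat_lit 0x10d1109) (.leaf (nat_lit 0x10d1107) (nat_lit 2307))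
 (.node (nat_lit 0x10d110b) (.leaf (nat_lit 0x10d1109) (nat_lit 2307))
 (.leaf (nat_lit 0x10d110b) (nat_lit 2563))
)))) (.node (nat_lit 0x10d1117) (.node (nat_lit 0x10d1111) (.node (nat_lit 0x10d110f) (.leaf (nat_lit 0x10d110d) (nat_lit 2307))
 (.leaf (nat_lit 0x10d110f) (nat_lit 2563))
) (.node (nat_lit 0x10d1113) (.leaf (nat_lit 0x10d1111) (nat_lit 3585))
 (.node (nat_lit 0x10d1115) (.leaf (nat_lit 0x10d1113) (nat_lit 3329))
 (.leaf (nat_lit 0x10d1115) (nat_lit 3586))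
))) (.node (nat_lit 0x10d111d) (.node (nat_lit 0x10d1119) (.leaf (nat_lit 0x10d1117) (nat_lit 3330))
 (.node (nat_lit 0x10d111b) (.leaf (nat_lit 0x10d1119) (nat_lit 3842))
 (.leaf (nat_lit 0x10d111b) (nat_lit 3586))
)) (.node (nat_lit 0x10d111f) (.leaf (nat_lit 0x10d111d) (nat_lit 3330))
 (.node (nat_lit 0x10d1181) (.leaf (nat_lit 0x10d111f) (nat_lit 3329))
 (.leaf (nat_lit 0x10d1181) (nat_lit 1795))
))))) (.node (nat_lit 0x10d1197) (.node (nat_lit 0x10d118d) (.node (nat_lit 0x10d1187) (.node (nat_lit 0x10d1185) (.leaf (nat_lit 0x10d1183) (nat_lit 2051))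
 (.leaf (nat_lit 0x10d1185) (nat_lit 2309))
) (.node (nat_lit 0x10d1189) (.leaf (nat_lit 0x10d1187) (nat_lit 2309))
 (.node (nat_lit 0x10d118b) (.leaf (nat_lit 0x10d1189) (nat_lit 2565))
 (.leaf (nat_lit 0x10d118b) (nat_lit 2565))
))) (.node (nat_lit 0x10d1191) (.node (nat_lit 0x10d118f) (.leaf (nat_lit 0x10d118d) (nat_lit 2051))
 (.leaf (nat_lit 0x10d118f) (nat_lit 2307))
) (.node (nat_lit 0x10d1193) (.leaf (nat_lit 0x10d1191) (nat_lit 3330))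
 (.node (nat_lit 0x10d1195) (.leaf (nat_lit 0x10d1193) (nat_lit 3074))
 (.leaf (nat_lit 0x10d1195) (nat_lit 3589))
)))) (.node (nat_lit 0x10d1241) (.node (nat_lit 0x10d119b) (.node (nat_lit 0x10d1199) (.leaf (nat_lit 0x10d1197) (nat_lit 3333))
 (.leaf (nat_lit 0x10d1199) (nat_lit 3588))
) (.node (nat_lit 0x10d119d) (.leaf (nat_lit 0x10d119b) (nat_lit 3332))
 (.node (nat_lit 0x10d119f) (.leaf (nat_lit 0x10d119d) (nat_lit 3333))
 (.leaf (nat_lit 0x10d119f) (nat_lit 3077))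
))) (.node (nat_lit 0x10d1247) (.node (nat_lit 0x10d1243) (.leaf (nat_lit 0x10d1241) (nat_lit 2309))
 (.node (nat_lit 0x10d1245) (.leaf (nat_lit 0x10d1243) (nat_lit 2565))
 (.leaf (nat_lit 0x10d1245) (nat_lit 2565))
)) (.node (nat_lit 0x10d1249) (.leaf (nat_lit 0x10d1247) (nat_lit 2821))
 (.node (nat_lit 0x10d124b) (.leaf (nat_lit 0x10d1249) (nat_lit 3077))
 (.leaf (nat_lit 0x10d124b) (nat_lit 3333))
)))))) (.node (nat_lit 0x10d12d7) (.node (nat_lit 0x10d12c1) (.node (nat_lit 0x10d1257) (.node (nat_lit 0x10d1251) (.node (nat_lit 0x10d124f) (.leaf (nat_lit 0x10d124d) (nat_lit 2818))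
 (.leaf (nat_lit 0x10d124f) (nat_lit 3074))
) (.node (nat_lit 0x10d1253) (.leaf (nat_lit 0x10d1251) (nat_lit 2821))
 (.node (nat_lit 0x10d1255) (.leaf (nat_lit 0x10d1253) (nat_lit 2565))
 (.leaf (nat_lit 0x10d1255) (nat_lit 3073))
))) (.node (nat_lit 0x10d125b) (.node (nat_lit 0x10d1259) (.leaf (nat_lit 0x10d1257) (nat_lit 2817))
 (.leaf (nat_lit 0x10d1259) (nat_lit 3589))
) (.node (nat_lit 0x10d125d) (.leaf (nat_lit 0x10d125b) (nat_lit 3333))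
 (.node (nat_lit 0x10d125f) (.leaf (nat_lit 0x10d125d) (nat_lit 3330))
 (.leaf (nat_lit 0x10d125f) (nat_lit 3074))
)))) (.node (nat_lit 0x10d12cb) (.node (nat_lit 0x10d12c5) (.node (nat_lit 0x10d12c3) (.leaf (nat_lit 0x10d12c1) (nat_lit 2309))
 (.leaf (nat_lit 0x10d12c3) (nat_lit 2565))
) (.node (nat_lit 0x10d12c7) (.leaf (nat_lit 0x10d12c5) (nat_lit 2565))
 (.node (nat_lit 0x10d12c9) (.leaf (nat_lit 0x10d12c7) (nat_lit 2565))
 (.leaf (nat_lit 0x10d12c9) (nat_lit 3074))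
))) (.node (nat_lit 0x10d12d1) (.node (nat_lit 0x10d12cd) (.leaf (nat_lit 0x10d12cb) (nat_lit 3330))
 (.node (nat_lit 0x10d12cf) (.leaf (nat_lit 0x10d12cd) (nat_lit 3077))
 (.leaf (nat_lit 0x10d12cf) (nat_lit 3077))
)) (.node (nat_lit 0x10d12d3) (.leaf (nat_lit 0x10d12d1) (nat_lit 2821))
 (.node (nat_lit 0x10d12d5) (.leaf (nat_lit 0x10d12d3) (nat_lit 2821))
 (.leaf (nat_lit 0x10d12d5) (nat_lit 2821))
))))) (.node (nat_lit 0x10d130b) (.node (nat_lit 0x10d1301) (.node (nat_lit 0x10d12db) (.node (nat_lit 0x10d12d9) (.leaf (nat_lit 0x10d12d7) (nat_lit 2565))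
 (.leaf (nat_lit 0x10d12d9) (nat_lit 3333))
) (.node (nat_lit 0x10d12dd) (.leaf (nat_lit 0x10d12db) (nat_lit 3333))
 (.node (nat_lit 0x10d12df) (.leaf (nat_lit 0x10d12dd) (nat_lit 3333))
 (.leaf (nat_lit 0x10d12df) (nat_lit 3077))
))) (.node (nat_lit 0x10d1305) (.node (nat_lit 0x10d1303) (.leaf (nat_lit 0x10d1301) (nat_lit 2050))
 (.leaf (nat_lit 0x10d1303) (nat_lit 2306))
) (.node (nat_lit 0x10d1307) (.leaf (nat_lit 0x10d1305) (nat_lit 2309))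
 (.node (nat_lit 0x10d1309) (.leaf (nat_lit 0x10d1307) (nat_lit 2306))
 (.leaf (nat_lit 0x10d1309) (nat_lit 3330))
)))) (.node (nat_lit 0x10d1315) (.node (nat_lit 0x10d130f) (.node (nat_lit 0x10d130d) (.leaf (nat_lit 0x10d130b) (nat_lit 3330))
 (.leaf (nat_lit 0x10d130d) (nat_lit 3330))
) (.node (nat_lit 0x10d1311) (.leaf (nat_lit 0x10d130f) (nat_lit 3330))
 (.node (nat_lit 0x10d1313) (.leaf (nat_lit 0x10d1311) (nat_lit 3586))
 (.leaf (nat_lit 0x10d1313) (nat_lit 3586))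
))) (.node (nat_lit 0x10d131b) (.node (nat_lit 0x10d1317) (.leaf (nat_lit 0x10d1315) (nat_lit 3587))
 (.node (nat_lit 0x10d1319) (.leaf (nat_lit 0x10d1317) (nat_lit 3331))
 (.leaf (nat_lit 0x10d1319) (nat_lit 2306))
)) (.node (nat_lit 0x10d131d) (.leaf (nat_lit 0x10d131b) (nat_lit 2562))
 (.node (nat_lit 0x10d131f) (.leaf (nat_lit 0x10d131d) (nat_lit 2305))
 (.leaf (nat_lit 0x10d131f) (nat_lit 2561))
))))))))) (.node (nat_lit 0x10d20d1) (.node (nat_lit 0x10d1a49) (.node (nat_lit 0x10d1895) (.node (nat_lit 0x10d184b) (.node (nat_lit 0x10d1395) (.node (nat_lit 0x10d138b) (.node (nat_lit 0x10d1385) (.node (nat_lit 0x10d1383) (.leaf (nat_lit 0x10d1381) (nat_lit 1794))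
 (.leaf (nat_lit 0x10d1383) (nat_lit 2050))
) (.node (nat_lit 0x10d1387) (.leaf (nat_lit 0x10d1385) (nat_lit 2309))
 (.node (nat_lit 0x10d1389) (.leaf (nat_lit 0x10d1387) (nat_lit 2309))
 (.leaf (nat_lit 0x10d1389) (nat_lit 3330))
))) (.node (nat_lit 0x10d138f) (.node (nat_lit 0x10d138d) (.leaf (nat_lit 0x10d138b) (nat_lit 3333))
 (.leaf (nat_lit 0x10d138d) (nat_lit 3074))
) (.node (nat_lit 0x10d1391) (.leaf (nat_lit 0x10d138f) (nat_lit 3074))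
 (.node (nat_lit 0x10d1393) (.leaf (nat_lit 0x10d1391) (nat_lit 3330))
 (.leaf (nat_lit 0x10d1393) (nat_lit 3330))
)))) (.node (nat_lit 0x10d139f) (.node (nat_lit 0x10d1399) (.node (nat_lit 0x10d1397) (.leaf (nat_lit 0x10d1395) (nat_lit 3586))
 (.leaf (nat_lit 0x10d1397) (nat_lit 3589))
) (.node (nat_lit 0x10d139b) (.leaf (nat_lit 0x10d1399) (nat_lit 2565))
 (.node (nat_lit 0x10d139d) (.leaf (nat_lit 0x10d139b) (nat_lit 2565))
 (.leaf (nat_lit 0x10d139d) (nat_lit 2050))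
))) (.node (nat_lit 0x10d1845) (.node (nat_lit 0x10d1841) (.leaf (nat_lit 0x10d139f) (nat_lit 2306))
 (.node (nat_lit 0x10d1843) (.leaf (nat_lit 0x10d1841) (nat_lit 1028))
 (.leaf (nat_lit 0x10d1843) (nat_lit 1284))
)) (.node (nat_lit 0x10d1847) (.leaf (nat_lit 0x10d1845) (nat_lit 1796))
 (.node (nat_lit 0x10d1849) (.leaf (nat_lit 0x10d1847) (nat_lit 1796))
 (.leaf (nat_lit 0x10d1849) (nat_lit 2308))
))))) (.node (nat_lit 0x10d185f) (.node (nat_lit 0x10d1855) (.node (nat_lit 0x10d184f) (.node (nat_lit 0x10d184d) (.leaf (nat_lit 0x10d184b) (nat_lit 2308))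
 (.leaf (nat_lit 0x10d184d) (nat_lit 2564))
) (.node (nat_lit 0x10d1851) (.leaf (nat_lit 0x10d184f) (nat_lit 2308))
 (.node (nat_lit 0x10d1853) (.leaf (nat_lit 0x10d1851) (nat_lit 3588))
 (.leaf (nat_lit 0x10d1853) (nat_lit 3588))
))) (.node (nat_lit 0x10d1859) (.node (nat_lit 0x10d1857) (.leaf (nat_lit 0x10d1855) (nat_lit 3076))
 (.leaf (nat_lit 0x10d1857) (nat_lit 3076))
) (.node (nat_lit 0x10d185b) (.leaf (nat_lit 0x10d1859) (nat_lit 2308))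
 (.node (nat_lit 0x10d185d) (.leaf (nat_lit 0x10d185b) (nat_lit 2308))
 (.leaf (nat_lit 0x10d185d) (nat_lit 2564))
)))) (.node (nat_lit 0x10d1889) (.node (nat_lit 0x10d1883) (.node (nat_lit 0x10d1881) (.leaf (nat_lit 0x10d185f) (nat_lit 2308))
 (.leaf (nat_lit 0x10d1881) (nat_lit 1284))
) (.node (nat_lit 0x10d1885) (.leaf (nat_lit 0x10d1883) (nat_lit 1540))
 (.node (nat_lit 0x10d1887) (.leaf (nat_lit 0x10d1885) (nat_lit 1540))
 (.leaf (nat_lit 0x10d1887) (nat_lit 1796))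
))) (.node (nat_lit 0x10d188f) (.node (nat_lit 0x10d188b) (.leaf (nat_lit 0x10d1889) (nat_lit 2564))
 (.node (nat_lit 0x10d188d) (.leaf (nat_lit 0x10d188b) (nat_lit 2564))
 (.leaf (nat_lit 0x10d188d) (nat_lit 2820))
)) (.node (nat_lit 0x10d1891) (.leaf (nat_lit 0x10d188f) (nat_lit 2564))
 (.node (nat_lit 0x10d1893) (.leaf (nat_lit 0x10d1891) (nat_lit 3586))
 (.leaf (nat_lit 0x10d1893) (nat_lit 3330))
)))))) (.node (nat_lit 0x10d191f) (.node (nat_lit 0x10d1909) (.node (nat_lit 0x10d189f) (.node (nat_lit 0x10d1899) (.node (nat_lit 0x10d1897) (.leaf (nat_lit 0x10d1895) (nat_lit 3332))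
 (.leaf (nat_lit 0x10d1897) (nat_lit 3332))
) (.node (nat_lit 0x10d189b) (.leaf (nat_lit 0x10d1899) (nat_lit 2564))
 (.node (nat_lit 0x10d189d) (.leaf (nat_lit 0x10d189b) (nat_lit 2564))
 (.leaf (nat_lit 0x10d189d) (nat_lit 2820))
))) (.node (nat_lit 0x10d1903) (.node (nat_lit 0x10d1901) (.leaf (nat_lit 0x10d189f) (nat_lit 2564))
 (.leaf (nat_lit 0x10d1901) (nat_lit 1796))
) (.node (nat_lit 0x10d1905) (.leaf (nat_lit 0x10d1903) (nat_lit 2052))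
 (.node (nat_lit 0x10d1907) (.leaf (nat_lit 0x10d1905) (nat_lit 2307))
 (.leaf (nat_lit 0x10d1907) (nat_lit 2308))
)))) (.node (nat_lit 0x10d1913) (.node (nat_lit 0x10d190d) (.node (nat_lit 0x10d190b) (.leaf (nat_lit 0x10d1909) (nat_lit 2052))
 (.leaf (nat_lit 0x10d190b) (nat_lit 2308))
) (.node (nat_lit 0x10d190f) (.leaf (nat_lit 0x10d190d) (nat_lit 2564))
 (.node (nat_lit 0x10d1911) (.leaf (nat_lit 0x10d190f) (nat_lit 2308))
 (.leaf (nat_lit 0x10d1911) (nat_lit 3332))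
))) (.node (nat_lit 0x10d1919) (.node (nat_lit 0x10d1915) (.leaf (nat_lit 0x10d1913) (nat_lit 3076))
 (.node (nat_lit 0x10d1917) (.leaf (nat_lit 0x10d1915) (nat_lit 3074))
 (.leaf (nat_lit 0x10d1917) (nat_lit 3330))
)) (.node (nat_lit 0x10d191b) (.leaf (nat_lit 0x10d1919) (nat_lit 3589))
 (.node (nat_lit 0x10d191d) (.leaf (nat_lit 0x10d191b) (nat_lit 3333))
 (.leaf (nat_lit 0x10d191d) (nat_lit 3333))
))))) (.node (nat_lit 0x10d19d3) (.node (nat_lit 0x10d19c9) (.node (nat_lit 0x10d19c3) (.node (nat_lit 0x10d19c1) (.leaf (nat_lit 0x10d191f) (nat_lit 3330))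
 (.leaf (nat_lit 0x10d19c1) (nat_lit 1796))
) (.node (nat_lit 0x10d19c5) (.leaf (nat_lit 0x10d19c3) (nat_lit 2052))
 (.node (nat_lit 0x10d19c7) (.leaf (nat_lit 0x10d19c5) (nat_lit 2308))
 (.leaf (nat_lit 0x10d19c7) (nat_lit 2052))
))) (.node (nat_lit 0x10d19cd) (.node (nat_lit 0x10d19cb) (.leaf (nat_lit 0x10d19c9) (nat_lit 2308))
 (.leaf (nat_lit 0x10d19cb) (nat_lit 2564))
) (.node (nat_lit 0x10d19cf) (.leaf (nat_lit 0x10d19cd) (nat_lit 2308))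
 (.node (nat_lit 0x10d19d1) (.leaf (nat_lit 0x10d19cf) (nat_lit 2052))
 (.leaf (nat_lit 0x10d19d1) (nat_lit 3330))
)))) (.node (nat_lit 0x10d19dd) (.node (nat_lit 0x10d19d7) (.node (nat_lit 0x10d19d5) (.leaf (nat_lit 0x10d19d3) (nat_lit 3074))
 (.leaf (nat_lit 0x10d19d5) (nat_lit 3076))
) (.node (nat_lit 0x10d19d9) (.leaf (nat_lit 0x10d19d7) (nat_lit 3332))
 (.node (nat_lit 0x10d19db) (.leaf (nat_lit 0x10d19d9) (nat_lit 3332))
 (.leaf (nat_lit 0x10d19db) (nat_lit 3076))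
))) (.node (nat_lit 0x10d1a43) (.node (nat_lit 0x10d19df) (.leaf (nat_lit 0x10d19dd) (nat_lit 3077))
 (.node (nat_lit 0x10d1a41) (.leaf (nat_lit 0x10d19df) (nat_lit 3333))
 (.leaf (nat_lit 0x10d1a41) (nat_lit 2052))
)) (.node (nat_lit 0x10d1a45) (.leaf (nat_lit 0x10d1a43) (nat_lit 2308))
 (.node (nat_lit 0x10d1a47) (.leaf (nat_lit 0x10d1a45) (nat_lit 2564))
 (.leaf (nat_lit 0x10d1a47) (nat_lit 2308))
))))))) (.node (nat_lit 0x10d1b1d) (.node (nat_lit 0x10d1a93) (.node (nat_lit 0x10d1a5d) (.node (nat_lit 0x10d1a53) (.node (nat_lit 0x10d1a4d) (.node (nat_lit 0x10d1a4b) (.leaf (nat_lit 0x10d1a49) (nat_lit 2820))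
 (.leaf (nat_lit 0x10d1a4b) (nat_lit 3076))
) (.node (nat_lit 0x10d1a4f) (.leaf (nat_lit 0x10d1a4d) (nat_lit 3076))
 (.node (nat_lit 0x10d1a51) (.leaf (nat_lit 0x10d1a4f) (nat_lit 2820))
 (.leaf (nat_lit 0x10d1a51) (nat_lit 2564))
))) (.node (nat_lit 0x10d1a57) (.node (nat_lit 0x10d1a55) (.leaf (nat_lit 0x10d1a53) (nat_lit 2308))
 (.leaf (nat_lit 0x10d1a55) (nat_lit 2564))
) (.node (nat_lit 0x10d1a59) (.leaf (nat_lit 0x10d1a57) (nat_lit 2820))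
 (.node (nat_lit 0x10d1a5b) (.leaf (nat_lit 0x10d1a59) (nat_lit 3332))
 (.leaf (nat_lit 0x10d1a5b) (nat_lit 3076))
)))) (.node (nat_lit 0x10d1a87) (.node (nat_lit 0x10d1a81) (.node (nat_lit 0x10d1a5f) (.leaf (nat_lit 0x10d1a5d) (nat_lit 3076))
 (.leaf (nat_lit 0x10d1a5f) (nat_lit 3332))
) (.node (nat_lit 0x10d1a83) (.leaf (nat_lit 0x10d1a81) (nat_lit 2053))
 (.node (nat_lit 0x10d1a85) (.leaf (nat_lit 0x10d1a83) (nat_lit 2309))
 (.leaf (nat_lit 0x10d1a85) (nat_lit 2565))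
))) (.node (nat_lit 0x10d1a8d) (.node (nat_lit 0x10d1a89) (.leaf (nat_lit 0x10d1a87) (nat_lit 2309))
 (.node (nat_lit 0x10d1a8b) (.leaf (nat_lit 0x10d1a89) (nat_lit 2818))
 (.leaf (nat_lit 0x10d1a8b) (nat_lit 3074))
)) (.node (nat_lit 0x10d1a8f) (.leaf (nat_lit 0x10d1a8d) (nat_lit 3076))
 (.node (nat_lit 0x10d1a91) (.leaf (nat_lit 0x10d1a8f) (nat_lit 2820))
 (.leaf (nat_lit 0x10d1a91) (nat_lit 2821))
))))) (.node (nat_lit 0x10d1b07) (.node (nat_lit 0x10d1a9d) (.node (nat_lit 0x10d1a97) (.node (nat_lit 0x10d1a95) (.leaf (nat_lit 0x10d1a93) (nat_lit 2565))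
 (.leaf (nat_lit 0x10d1a95) (nat_lit 2309))
) (.node (nat_lit 0x10d1a99) (.leaf (nat_lit 0x10d1a97) (nat_lit 2565))
 (.node (nat_lit 0x10d1a9b) (.leaf (nat_lit 0x10d1a99) (nat_lit 3333))
 (.leaf (nat_lit 0x10d1a9b) (nat_lit 3077))
))) (.node (nat_lit 0x10d1b01) (.node (nat_lit 0x10d1a9f) (.leaf (nat_lit 0x10d1a9d) (nat_lit 3077))
 (.leaf (nat_lit 0x10d1a9f) (nat_lit 3333))
) (.node (nat_lit 0x10d1b03) (.leaf (nat_lit 0x10d1b01) (nat_lit 1796))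
 (.node (nat_lit 0x10d1b05) (.leaf (nat_lit 0x10d1b03) (nat_lit 2052))
 (.leaf (nat_lit 0x10d1b05) (nat_lit 2306))
)))) (.node (nat_lit 0x10d1b11) (.node (nat_lit 0x10d1b0b) (.node (nat_lit 0x10d1b09) (.leaf (nat_lit 0x10d1b07) (nat_lit 2308))
 (.leaf (nat_lit 0x10d1b09) (nat_lit 3076))
) (.node (nat_lit 0x10d1b0d) (.leaf (nat_lit 0x10d1b0b) (nat_lit 3076))
 (.node (nat_lit 0x10d1b0f) (.leaf (nat_lit 0x10d1b0d) (nat_lit 3332))
 (.leaf (nat_lit 0x10d1b0f) (nat_lit 3076))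
))) (.node (nat_lit 0x10d1b17) (.node (nat_lit 0x10d1b13) (.leaf (nat_lit 0x10d1b11) (nat_lit 3332))
 (.node (nat_lit 0x10d1b15) (.leaf (nat_lit 0x10d1b13) (nat_lit 3332))
 (.leaf (nat_lit 0x10d1b15) (nat_lit 3331))
)) (.node (nat_lit 0x10d1b19) (.leaf (nat_lit 0x10d1b17) (nat_lit 3332))
 (.node (nat_lit 0x10d1b1b) (.leaf (nat_lit 0x10d1b19) (nat_lit 2052))
 (.leaf (nat_lit 0x10d1b1b) (nat_lit 2308))
)))))) (.node (nat_lit 0x10d2087) (.node (nat_lit 0x10d1bd1) (.node (nat_lit 0x10d1bc7) (.node (nat_lit 0x10d1bc1) (.node (nat_lit 0x10d1b1f) (.leaf (nat_lit 0x10d1b1d) (nat_lit 2564))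
 (.leaf (nat_lit 0x10d1b1f) (nat_lit 2308))
) (.node (nat_lit 0x10d1bc3) (.leaf (nat_lit 0x10d1bc1) (nat_lit 1796))
 (.node (nat_lit 0x10d1bc5) (.leaf (nat_lit 0x10d1bc3) (nat_lit 2052))
 (.leaf (nat_lit 0x10d1bc5) (nat_lit 2308))
))) (.node (nat_lit 0x10d1bcb) (.node (nat_lit 0x10d1bc9) (.leaf (nat_lit 0x10d1bc7) (nat_lit 2052))
 (.leaf (nat_lit 0x10d1bc9) (nat_lit 3074))
) (.node (nat_lit 0x10d1bcd) (.leaf (nat_lit 0x10d1bcb) (nat_lit 3076))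
 (.node (nat_lit 0x10d1bcf) (.leaf (nat_lit 0x10d1bcd) (nat_lit 3077))
 (.leaf (nat_lit 0x10d1bcf) (nat_lit 3076))
)))) (.node (nat_lit 0x10d1bdb) (.node (nat_lit 0x10d1bd5) (.node (nat_lit 0x10d1bd3) (.leaf (nat_lit 0x10d1bd1) (nat_lit 3332))
 (.leaf (nat_lit 0x10d1bd3) (nat_lit 3332))
) (.node (nat_lit 0x10d1bd7) (.leaf (nat_lit 0x10d1bd5) (nat_lit 3332))
 (.node (nat_lit 0x10d1bd9) (.leaf (nat_lit 0x10d1bd7) (nat_lit 3330))
 (.leaf (nat_lit 0x10d1bd9) (nat_lit 2308))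
))) (.node (nat_lit 0x10d2081) (.node (nat_lit 0x10d1bdd) (.leaf (nat_lit 0x10d1bdb) (nat_lit 2564))
 (.node (nat_lit 0x10d1bdf) (.leaf (nat_lit 0x10d1bdd) (nat_lit 2308))
 (.leaf (nat_lit 0x10d1bdf) (nat_lit 2052))
)) (.node (nat_lit 0x10d2083) (.leaf (nat_lit 0x10d2081) (nat_lit 1539))
 (.node (nat_lit 0x10d2085) (.leaf (nat_lit 0x10d2083) (nat_lit 1795))
 (.leaf (nat_lit 0x10d2085) (nat_lit 1795))
))))) (.node (nat_lit 0x10d209b) (.node (nat_lit 0x10d2091) (.node (nat_lit 0x10d208b) (.node (nat_lit 0x10d2089) (.leaf (nat_lit 0x10d2087) (nat_lit 1795))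
 (.leaf (nat_lit 0x10d2089) (nat_lit 2563))
) (.node (nat_lit 0x10d208d) (.leaf (nat_lit 0x10d208b) (nat_lit 2563))
 (.node (nat_lit 0x10d208f) (.leaf (nat_lit 0x10d208d) (nat_lit 2307))
 (.leaf (nat_lit 0x10d208f) (nat_lit 2307))
))) (.node (nat_lit 0x10d2095) (.node (nat_lit 0x10d2093) (.leaf (nat_lit 0x10d2091) (nat_lit 3074))
 (.leaf (nat_lit 0x10d2093) (nat_lit 3074))
) (.node (nat_lit 0x10d2097) (.leaf (nat_lit 0x10d2095) (nat_lit 3074))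
 (.node (nat_lit 0x10d2099) (.leaf (nat_lit 0x10d2097) (nat_lit 2818))
 (.leaf (nat_lit 0x10d2099) (nat_lit 3330))
)))) (.node (nat_lit 0x10d20c5) (.node (nat_lit 0x10d209f) (.node (nat_lit 0x10d209d) (.leaf (nat_lit 0x10d209b) (nat_lit 3074))
 (.leaf (nat_lit 0x10d209d) (nat_lit 3074))
) (.node (nat_lit 0x10d20c1) (.leaf (nat_lit 0x10d209f) (nat_lit 2818))
 (.node (nat_lit 0x10d20c3) (.leaf (nat_lit 0x10d20c1) (nat_lit 1283))
 (.leaf (nat_lit 0x10d20c3) (nat_lit 1539))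
))) (.node (nat_lit 0x10d20cb) (.node (nat_lit 0x10d20c7) (.leaf (nat_lit 0x10d20c5) (nat_lit 1795))
 (.node (nat_lit 0x10d20c9) (.leaf (nat_lit 0x10d20c7) (nat_lit 1539))
 (.leaf (nat_lit 0x10d20c9) (nat_lit 2307))
)) (.node (nat_lit 0x10d20cd) (.leaf (nat_lit 0x10d20cb) (nat_lit 2563))
 (.node (nat_lit 0x10d20cf) (.leaf (nat_lit 0x10d20cd) (nat_lit 2307))
 (.leaf (nat_lit 0x10d20cf) (nat_lit 2051))
)))))))) (.node (nat_lit 0x10d2399) (.node (nat_lit 0x10d2285) (.node (nat_lit 0x10d219b) (.node (nat_lit 0x10d2185) (.node (nat_lit 0x10d20db) (.node (nat_lit 0x10d20d5) (.node (nat_lit 0x10d20d3) (.leaf (nat_lit 0x10d20d1) (nat_lit 3074))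
 (.leaf (nat_lit 0x10d20d3) (nat_lit 2818))
) (.node (nat_lit 0x10d20d7) (.leaf (nat_lit 0x10d20d5) (nat_lit 2562))
 (.node (nat_lit 0x10d20d9) (.leaf (nat_lit 0x10d20d7) (nat_lit 2818))
 (.leaf (nat_lit 0x10d20d9) (nat_lit 3074))
))) (.node (nat_lit 0x10d20df) (.node (nat_lit 0x10d20dd) (.leaf (nat_lit 0x10d20db) (nat_lit 2818))
 (.leaf (nat_lit 0x10d20dd) (nat_lit 2818))
) (.node (nat_lit 0x10d2181) (.leaf (nat_lit 0x10d20df) (nat_lit 3074))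
 (.node (nat_lit 0x10d2183) (.leaf (nat_lit 0x10d2181) (nat_lit 1795))
 (.leaf (nat_lit 0x10d2183) (nat_lit 2051))
)))) (.node (nat_lit 0x10d218f) (.node (nat_lit 0x10d2189) (.node (nat_lit 0x10d2187) (.leaf (nat_lit 0x10d2185) (nat_lit 2051))
 (.leaf (nat_lit 0x10d2187) (nat_lit 2051))
) (.node (nat_lit 0x10d218b) (.leaf (nat_lit 0x10d2189) (nat_lit 2307))
 (.node (nat_lit 0x10d218d) (.leaf (nat_lit 0x10d218b) (nat_lit 2307))
 (.leaf (nat_lit 0x10d218d) (nat_lit 2051))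
))) (.node (nat_lit 0x10d2195) (.node (nat_lit 0x10d2191) (.leaf (nat_lit 0x10d218f) (nat_lit 2051))
 (.node (nat_lit 0x10d2193) (.leaf (nat_lit 0x10d2191) (nat_lit 3330))
 (.leaf (nat_lit 0x10d2193) (nat_lit 3074))
)) (.node (nat_lit 0x10d2197) (.leaf (nat_lit 0x10d2195) (nat_lit 3329))
 (.node (nat_lit 0x10d2199) (.leaf (nat_lit 0x10d2197) (nat_lit 3073))
 (.leaf (nat_lit 0x10d2199) (nat_lit 3330))
))))) (.node (nat_lit 0x10d21cf) (.node (nat_lit 0x10d21c5) (.node (nat_lit 0x10d219f) (.node (nat_lit 0x10d219d) (.leaf (nat_lit 0x10d219b) (nat_lit 3330))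
 (.leaf (nat_lit 0x10d219d) (nat_lit 3074))
) (.node (nat_lit 0x10d21c1) (.leaf (nat_lit 0x10d219f) (nat_lit 2818))
 (.node (nat_lit 0x10d21c3) (.leaf (nat_lit 0x10d21c1) (nat_lit 1539))
 (.leaf (nat_lit 0x10d21c3) (nat_lit 1795))
))) (.node (nat_lit 0x10d21c9) (.node (nat_lit 0x10d21c7) (.leaf (nat_lit 0x10d21c5) (nat_lit 2051))
 (.leaf (nat_lit 0x10d21c7) (nat_lit 1795))
) (.node (nat_lit 0x10d21cb) (.leaf (nat_lit 0x10d21c9) (nat_lit 2051))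
 (.node (nat_lit 0x10d21cd) (.leaf (nat_lit 0x10d21cb) (nat_lit 2307))
 (.leaf (nat_lit 0x10d21cd) (nat_lit 2051))
)))) (.node (nat_lit 0x10d21d9) (.node (nat_lit 0x10d21d3) (.node (nat_lit 0x10d21d1) (.leaf (nat_lit 0x10d21cf) (nat_lit 1795))
 (.leaf (nat_lit 0x10d21d1) (nat_lit 3329))
) (.node (nat_lit 0x10d21d5) (.leaf (nat_lit 0x10d21d3) (nat_lit 3073))
 (.node (nat_lit 0x10d21d7) (.leaf (nat_lit 0x10d21d5) (nat_lit 2817))
 (.leaf (nat_lit 0x10d21d7) (nat_lit 3073))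
))) (.node (nat_lit 0x10d21df) (.node (nat_lit 0x10d21db) (.leaf (nat_lit 0x10d21d9) (nat_lit 3330))
 (.node (nat_lit 0x10d21dd) (.leaf (nat_lit 0x10d21db) (nat_lit 3074))
 (.leaf (nat_lit 0x10d21dd) (nat_lit 2818))
)) (.node (nat_lit 0x10d2281) (.leaf (nat_lit 0x10d21df) (nat_lit 3074))
 (.node (nat_lit 0x10d2283) (.leaf (nat_lit 0x10d2281) (nat_lit 2050))
 (.leaf (nat_lit 0x10d2283) (nat_lit 2306))
)))))) (.node (nat_lit 0x10d22cf) (.node (nat_lit 0x10d2299) (.node (nat_lit 0x10d228f) (.node (nat_lit 0x10d2289) (.node (nat_lit 0x10d2287) (.leaf (nat_lit 0x10d2285) (nat_lit 2562))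
 (.leaf (nat_lit 0x10d2287) (nat_lit 2306))
) (.node (nat_lit 0x10d228b) (.leaf (nat_lit 0x10d2289) (nat_lit 2821))
 (.node (nat_lit 0x10d228d) (.leaf (nat_lit 0x10d228b) (nat_lit 3077))
 (.leaf (nat_lit 0x10d228d) (nat_lit 3074))
))) (.node (nat_lit 0x10d2293) (.node (nat_lit 0x10d2291) (.leaf (nat_lit 0x10d228f) (nat_lit 2818))
 (.leaf (nat_lit 0x10d2291) (nat_lit 2818))
) (.node (nat_lit 0x10d2295) (.leaf (nat_lit 0x10d2293) (nat_lit 2562))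
 (.node (nat_lit 0x10d2297) (.leaf (nat_lit 0x10d2295) (nat_lit 2306))
 (.leaf (nat_lit 0x10d2297) (nat_lit 2562))
)))) (.node (nat_lit 0x10d22c3) (.node (nat_lit 0x10d229d) (.node (nat_lit 0x10d229b) (.leaf (nat_lit 0x10d2299) (nat_lit 3329))
 (.leaf (nat_lit 0x10d229b) (nat_lit 3073))
) (.node (nat_lit 0x10d229f) (.leaf (nat_lit 0x10d229d) (nat_lit 2817))
 (.node (nat_lit 0x10d22c1) (.leaf (nat_lit 0x10d229f) (nat_lit 2819))
 (.leaf (nat_lit 0x10d22c1) (nat_lit 2306))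
))) (.node (nat_lit 0x10d22c9) (.node (nat_lit 0x10d22c5) (.leaf (nat_lit 0x10d22c3) (nat_lit 2562))
 (.node (nat_lit 0x10d22c7) (.leaf (nat_lit 0x10d22c5) (nat_lit 2562))
 (.leaf (nat_lit 0x10d22c7) (nat_lit 2562))
)) (.node (nat_lit 0x10d22cb) (.leaf (nat_lit 0x10d22c9) (nat_lit 2819))
 (.node (nat_lit 0x10d22cd) (.leaf (nat_lit 0x10d22cb) (nat_lit 3075))
 (.leaf (nat_lit 0x10d22cd) (nat_lit 3073))
))))) (.node (nat_lit 0x10d2383) (.node (nat_lit 0x10d22d9) (.node (nat_lit 0x10d22d3) (.node (nat_lit 0x10d22d1) (.leaf (nat_lit 0x10d22cf) (nat_lit 3075))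
 (.leaf (nat_lit 0x10d22d1) (nat_lit 2818))
) (.node (nat_lit 0x10d22d5) (.leaf (nat_lit 0x10d22d3) (nat_lit 2818))
 (.node (nat_lit 0x10d22d7) (.leaf (nat_lit 0x10d22d5) (nat_lit 2818))
 (.leaf (nat_lit 0x10d22d7) (nat_lit 2562))
))) (.node (nat_lit 0x10d22dd) (.node (nat_lit 0x10d22db) (.leaf (nat_lit 0x10d22d9) (nat_lit 3331))
 (.leaf (nat_lit 0x10d22db) (nat_lit 3328))
) (.node (nat_lit 0x10d22df) (.leaf (nat_lit 0x10d22dd) (nat_lit 2819))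
 (.node (nat_lit 0x10d2381) (.leaf (nat_lit 0x10d22df) (nat_lit 2563))
 (.leaf (nat_lit 0x10d2381) (nat_lit 2306))
)))) (.node (nat_lit 0x10d238d) (.node (nat_lit 0x10d2387) (.node (nat_lit 0x10d2385) (.leaf (nat_lit 0x10d2383) (nat_lit 2562))
 (.leaf (nat_lit 0x10d2385) (nat_lit 2818))
) (.node (nat_lit 0x10d2389) (.leaf (nat_lit 0x10d2387) (nat_lit 2562))
 (.node (nat_lit 0x10d238b) (.leaf (nat_lit 0x10d2389) (nat_lit 2818))
 (.leaf (nat_lit 0x10d238b) (nat_lit 3074))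
))) (.node (nat_lit 0x10d2393) (.node (nat_lit 0x10d238f) (.leaf (nat_lit 0x10d238d) (nat_lit 2818))
 (.node (nat_lit 0x10d2391) (.leaf (nat_lit 0x10d238f) (nat_lit 2562))
 (.leaf (nat_lit 0x10d2391) (nat_lit 3073))
)) (.node (nat_lit 0x10d2395) (.leaf (nat_lit 0x10d2393) (nat_lit 2817))
 (.node (nat_lit 0x10d2397) (.leaf (nat_lit 0x10d2395) (nat_lit 2561))
 (.leaf (nat_lit 0x10d2397) (nat_lit 2817))
))))))) (.node (nat_lit 0x10d308d) (.node (nat_lit 0x10d3043) (.node (nat_lit 0x10d23cd) (.node (nat_lit 0x10d23c3) (.node (nat_lit 0x10d239d) (.node (nat_lit 0x10d239b) (.leaf (nat_lit 0x10d2399) (nat_lit 3074))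
 (.leaf (nat_lit 0x10d239b) (nat_lit 2818))
) (.node (nat_lit 0x10d239f) (.leaf (nat_lit 0x10d239d) (nat_lit 2562))
 (.node (nat_lit 0x10d23c1) (.leaf (nat_lit 0x10d239f) (nat_lit 2563))
 (.leaf (nat_lit 0x10d23c1) (nat_lit 2051))
))) (.node (nat_lit 0x10d23c7) (.node (nat_lit 0x10d23c5) (.leaf (nat_lit 0x10d23c3) (nat_lit 2307))
 (.leaf (nat_lit 0x10d23c5) (nat_lit 2818))
) (.node (nat_lit 0x10d23c9) (.leaf (nat_lit 0x10d23c7) (nat_lit 2819))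
 (.node (nat_lit 0x10d23cb) (.leaf (nat_lit 0x10d23c9) (nat_lit 2821))
 (.leaf (nat_lit 0x10d23cb) (nat_lit 3077))
)))) (.node (nat_lit 0x10d23d7) (.node (nat_lit 0x10d23d1) (.node (nat_lit 0x10d23cf) (.leaf (nat_lit 0x10d23cd) (nat_lit 2818))
 (.leaf (nat_lit 0x10d23cf) (nat_lit 2818))
) (.node (nat_lit 0x10d23d3) (.leaf (nat_lit 0x10d23d1) (nat_lit 3073))
 (.node (nat_lit 0x10d23d5) (.leaf (nat_lit 0x10d23d3) (nat_lit 3074))
 (.leaf (nat_lit 0x10d23d5) (nat_lit 3073))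
))) (.node (nat_lit 0x10d23dd) (.node (nat_lit 0x10d23d9) (.leaf (nat_lit 0x10d23d7) (nat_lit 2817))
 (.node (nat_lit 0x10d23db) (.leaf (nat_lit 0x10d23d9) (nat_lit 3075))
 (.leaf (nat_lit 0x10d23db) (nat_lit 3074))
)) (.node (nat_lit 0x10d23df) (.leaf (nat_lit 0x10d23dd) (nat_lit 2563))
 (.node (nat_lit 0x10d3041) (.leaf (nat_lit 0x10d23df) (nat_lit 2307))
 (.leaf (nat_lit 0x10d3041) (nat_lit 1283))
))))) (.node (nat_lit 0x10d3057) (.node (nat_lit 0x10d304d) (.node (nat_lit 0x10d3047) (.node (nat_lit 0x10d3045) (.leaf (nat_lit 0x10d3043) (nat_lit 1539))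
 (.leaf (nat_lit 0x10d3045) (nat_lit 2051))
) (.node (nat_lit 0x10d3049) (.leaf (nat_lit 0x10d3047) (nat_lit 2051))
 (.node (nat_lit 0x10d304b) (.leaf (nat_lit 0x10d3049) (nat_lit 2563))
 (.leaf (nat_lit 0x10d304b) (nat_lit 2563))
))) (.node (nat_lit 0x10d3051) (.node (nat_lit 0x10d304f) (.leaf (nat_lit 0x10d304d) (nat_lit 2305))
 (.leaf (nat_lit 0x10d304f) (nat_lit 2049))
) (.node (nat_lit 0x10d3053) (.leaf (nat_lit 0x10d3051) (nat_lit 3330))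
 (.node (nat_lit 0x10d3055) (.leaf (nat_lit 0x10d3053) (nat_lit 3330))
 (.leaf (nat_lit 0x10d3055) (nat_lit 2562))
)))) (.node (nat_lit 0x10d3081) (.node (nat_lit 0x10d305b) (.node (nat_lit 0x10d3059) (.leaf (nat_lit 0x10d3057) (nat_lit 2562))
 (.leaf (nat_lit 0x10d3059) (nat_lit 2821))
) (.node (nat_lit 0x10d305d) (.leaf (nat_lit 0x10d305b) (nat_lit 2821))
 (.node (nat_lit 0x10d305f) (.leaf (nat_lit 0x10d305d) (nat_lit 3077))
 (.leaf (nat_lit 0x10d305f) (nat_lit 3075))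
))) (.node (nat_lit 0x10d3087) (.node (nat_lit 0x10d3083) (.leaf (nat_lit 0x10d3081) (nat_lit 1539))
 (.node (nat_lit 0x10d3085) (.leaf (nat_lit 0x10d3083) (nat_lit 1795))
 (.leaf (nat_lit 0x10d3085) (nat_lit 1795))
)) (.node (nat_lit 0x10d3089) (.leaf (nat_lit 0x10d3087) (nat_lit 2051))
 (.node (nat_lit 0x10d308b) (.leaf (nat_lit 0x10d3089) (nat_lit 2307))
 (.leaf (nat_lit 0x10d308b) (nat_lit 2563))
)))))) (.node (nat_lit 0x10d3117) (.node (nat_lit 0x10d3101) (.node (nat_lit 0x10d3097) (.node (nat_lit 0x10d3091) (.node (nat_lit 0x10d308f) (.leaf (nat_lit 0x10d308d) (nat_lit 2565))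
 (.leaf (nat_lit 0x10d308f) (nat_lit 2565))
) (.node (nat_lit 0x10d3093) (.leaf (nat_lit 0x10d3091) (nat_lit 3074))
 (.node (nat_lit 0x10d3095) (.leaf (nat_lit 0x10d3093) (nat_lit 2818))
 (.leaf (nat_lit 0x10d3095) (nat_lit 3333))
))) (.node (nat_lit 0x10d309b) (.node (nat_lit 0x10d3099) (.leaf (nat_lit 0x10d3097) (nat_lit 3077))
 (.leaf (nat_lit 0x10d3099) (nat_lit 3332))
) (.node (nat_lit 0x10d309d) (.leaf (nat_lit 0x10d309b) (nat_lit 3076))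
 (.node (nat_lit 0x10d309f) (.leaf (nat_lit 0x10d309d) (nat_lit 3330))
 (.leaf (nat_lit 0x10d309f) (nat_lit 3074))
)))) (.node (nat_lit 0x10d310b) (.node (nat_lit 0x10d3105) (.node (nat_lit 0x10d3103) (.leaf (nat_lit 0x10d3101) (nat_lit 1795))
 (.leaf (nat_lit 0x10d3103) (nat_lit 2051))
) (.node (nat_lit 0x10d3107) (.leaf (nat_lit 0x10d3105) (nat_lit 2051))
 (.node (nat_lit 0x10d3109) (.leaf (nat_lit 0x10d3107) (nat_lit 2307))
 (.leaf (nat_lit 0x10d3109) (nat_lit 2051))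
))) (.node (nat_lit 0x10d3111) (.node (nat_lit 0x10d310d) (.leaf (nat_lit 0x10d310b) (nat_lit 2307))
 (.node (nat_lit 0x10d310f) (.leaf (nat_lit 0x10d310d) (nat_lit 2307))
 (.leaf (nat_lit 0x10d310f) (nat_lit 2563))
)) (.node (nat_lit 0x10d3113) (.leaf (nat_lit 0x10d3111) (nat_lit 3329))
 (.node (nat_lit 0x10d3115) (.leaf (nat_lit 0x10d3113) (nat_lit 3073))
 (.leaf (nat_lit 0x10d3115) (nat_lit 3330))
))))) (.node (nat_lit 0x10d31cb) (.node (nat_lit 0x10d31c1) (.node (nat_lit 0x10d311b) (.node (nat_lit 0x10d3119) (.leaf (nat_lit 0x10d3117) (nat_lit 3329))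
 (.leaf (nat_lit 0x10d3119) (nat_lit 3586))
) (.node (nat_lit 0x10d311d) (.leaf (nat_lit 0x10d311b) (nat_lit 3330))
 (.node (nat_lit 0x10d311f) (.leaf (nat_lit 0x10d311d) (nat_lit 3330))
 (.leaf (nat_lit 0x10d311f) (nat_lit 3074))
))) (.node (nat_lit 0x10d31c5) (.node (nat_lit 0x10d31c3) (.leaf (nat_lit 0x10d31c1) (nat_lit 1541))
 (.leaf (nat_lit 0x10d31c3) (nat_lit 1797))
) (.node (nat_lit 0x10d31c7) (.leaf (nat_lit 0x10d31c5) (nat_lit 2307))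
 (.node (nat_lit 0x10d31c9) (.leaf (nat_lit 0x10d31c7) (nat_lit 2309))
 (.leaf (nat_lit 0x10d31c9) (nat_lit 2565))
)))) (.node (nat_lit 0x10d31d5) (.node (nat_lit 0x10d31cf) (.node (nat_lit 0x10d31cd) (.leaf (nat_lit 0x10d31cb) (nat_lit 2563))
 (.leaf (nat_lit 0x10d31cd) (nat_lit 2053))
) (.node (nat_lit 0x10d31d1) (.leaf (nat_lit 0x10d31cf) (nat_lit 1797))
 (.node (nat_lit 0x10d31d3) (.leaf (nat_lit 0x10d31d1) (nat_lit 3589))
 (.leaf (nat_lit 0x10d31d3) (nat_lit 3589))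
))) (.node (nat_lit 0x10d31db) (.node (nat_lit 0x10d31d7) (.leaf (nat_lit 0x10d31d5) (nat_lit 2821))
 (.node (nat_lit 0x10d31d9) (.leaf (nat_lit 0x10d31d7) (nat_lit 2821))
 (.leaf (nat_lit 0x10d31d9) (nat_lit 2818))
)) (.node (nat_lit 0x10d31dd) (.leaf (nat_lit 0x10d31db) (nat_lit 2821))
 (.node (nat_lit 0x10d31df) (.leaf (nat_lit 0x10d31dd) (nat_lit 3329))
 (.leaf (nat_lit 0x10d31df) (nat_lit 3333))
))))))))))) (.node (nat_lit 0x10d6381) (.node (nat_lit 0x10d50c1) (.node (nat_lit 0x10d3b11) (.node (nat_lit 0x10d38c9) (.node (nat_lit 0x10d3315) (.node (nat_lit 0x10d328b) (.node (nat_lit 0x10d3255) (.node (nat_lit 0x10d324b) (.node (nat_lit 0x10d3245) (.node (nat_lit 0x10d3243) (.leaf (nat_lit 0x10d3241) (nat_lit 2306))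
 (.leaf (nat_lit 0x10d3243) (nat_lit 2562))
) (.node (nat_lit 0x10d3247) (.leaf (nat_lit 0x10d3245) (nat_lit 2562))
 (.node (nat_lit 0x10d3249) (.leaf (nat_lit 0x10d3247) (nat_lit 2818))
 (.leaf (nat_lit 0x10d3249) (nat_lit 3073))
))) (.node (nat_lit 0x10d324f) (.node (nat_lit 0x10d324d) (.leaf (nat_lit 0x10d324b) (nat_lit 3329))
 (.leaf (nat_lit 0x10d324d) (nat_lit 2821))
) (.node (nat_lit 0x10d3251) (.leaf (nat_lit 0x10d324f) (nat_lit 3077))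
 (.node (nat_lit 0x10d3253) (.leaf (nat_lit 0x10d3251) (nat_lit 2818))
 (.leaf (nat_lit 0x10d3253) (nat_lit 2562))
)))) (.node (nat_lit 0x10d325f) (.node (nat_lit 0x10d3259) (.node (nat_lit 0x10d3257) (.leaf (nat_lit 0x10d3255) (nat_lit 3074))
 (.leaf (nat_lit 0x10d3257) (nat_lit 2818))
) (.node (nat_lit 0x10d325b) (.leaf (nat_lit 0x10d3259) (nat_lit 3329))
 (.node (nat_lit 0x10d325d) (.leaf (nat_lit 0x10d325b) (nat_lit 3329))
 (.leaf (nat_lit 0x10d325d) (nat_lit 3073))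
))) (.node (nat_lit 0x10d3285) (.node (nat_lit 0x10d3281) (.leaf (nat_lit 0x10d325f) (nat_lit 2817))
 (.node (nat_lit 0x10d3283) (.leaf (nat_lit 0x10d3281) (nat_lit 2050))
 (.leaf (nat_lit 0x10d3283) (nat_lit 2306))
)) (.node (nat_lit 0x10d3287) (.leaf (nat_lit 0x10d3285) (nat_lit 2818))
 (.node (nat_lit 0x10d3289) (.leaf (nat_lit 0x10d3287) (nat_lit 2818))
 (.leaf (nat_lit 0x10d3289) (nat_lit 3074))
))))) (.node (nat_lit 0x10d329f) (.node (nat_lit 0x10d3295) (.node (nat_lit 0x10d328f) (.node (nat_lit 0x10d328d) (.leaf (nat_lit 0x10d328b) (nat_lit 3077))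
 (.leaf (nat_lit 0x10d328d) (nat_lit 2565))
) (.node (nat_lit 0x10d3291) (.leaf (nat_lit 0x10d328f) (nat_lit 2565))
 (.node (nat_lit 0x10d3293) (.leaf (nat_lit 0x10d3291) (nat_lit 3074))
 (.leaf (nat_lit 0x10d3293) (nat_lit 3074))
))) (.node (nat_lit 0x10d3299) (.node (nat_lit 0x10d3297) (.leaf (nat_lit 0x10d3295) (nat_lit 2306))
 (.leaf (nat_lit 0x10d3297) (nat_lit 2562))
) (.node (nat_lit 0x10d329b) (.leaf (nat_lit 0x10d3299) (nat_lit 2821))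
 (.node (nat_lit 0x10d329d) (.leaf (nat_lit 0x10d329b) (nat_lit 2821))
 (.leaf (nat_lit 0x10d329d) (nat_lit 3330))
)))) (.node (nat_lit 0x10d3309) (.node (nat_lit 0x10d3303) (.node (nat_lit 0x10d3301) (.leaf (nat_lit 0x10d329f) (nat_lit 3333))
 (.leaf (nat_lit 0x10d3301) (nat_lit 2306))
) (.node (nat_lit 0x10d3305) (.leaf (nat_lit 0x10d3303) (nat_lit 2562))
 (.node (nat_lit 0x10d3307) (.leaf (nat_lit 0x10d3305) (nat_lit 3074))
 (.leaf (nat_lit 0x10d3307) (nat_lit 3074))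
))) (.node (nat_lit 0x10d330f) (.node (nat_lit 0x10d330b) (.leaf (nat_lit 0x10d3309) (nat_lit 3330))
 (.node (nat_lit 0x10d330d) (.leaf (nat_lit 0x10d330b) (nat_lit 3333))
 (.leaf (nat_lit 0x10d330d) (nat_lit 2565))
)) (.node (nat_lit 0x10d3311) (.leaf (nat_lit 0x10d330f) (nat_lit 2562))
 (.node (nat_lit 0x10d3313) (.leaf (nat_lit 0x10d3311) (nat_lit 3329))
 (.leaf (nat_lit 0x10d3313) (nat_lit 3329))
)))))) (.node (nat_lit 0x10d33df) (.node (nat_lit 0x10d33c9) (.node (nat_lit 0x10d331f) (.node (nat_lit 0x10d3319) (.node (nat_lit 0x10d3317) (.leaf (nat_lit 0x10d3315) (nat_lit 2561))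
 (.leaf (nat_lit 0x10d3317) (nat_lit 2817))
) (.node (nat_lit 0x10d331b) (.leaf (nat_lit 0x10d3319) (nat_lit 2562))
 (.node (nat_lit 0x10d331d) (.leaf (nat_lit 0x10d331b) (nat_lit 2818))
 (.leaf (nat_lit 0x10d331d) (nat_lit 3331))
))) (.node (nat_lit 0x10d33c3) (.node (nat_lit 0x10d33c1) (.leaf (nat_lit 0x10d331f) (nat_lit 3075))
 (.leaf (nat_lit 0x10d33c1) (nat_lit 2309))
) (.node (nat_lit 0x10d33c5) (.leaf (nat_lit 0x10d33c3) (nat_lit 2565))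
 (.node (nat_lit 0x10d33c7) (.leaf (nat_lit 0x10d33c5) (nat_lit 2821))
 (.leaf (nat_lit 0x10d33c7) (nat_lit 2821))
)))) (.node (nat_lit 0x10d33d3) (.node (nat_lit 0x10d33cd) (.node (nat_lit 0x10d33cb) (.leaf (nat_lit 0x10d33c9) (nat_lit 2818))
 (.leaf (nat_lit 0x10d33cb) (nat_lit 3074))
) (.node (nat_lit 0x10d33cf) (.leaf (nat_lit 0x10d33cd) (nat_lit 2821))
 (.node (nat_lit 0x10d33d1) (.leaf (nat_lit 0x10d33cf) (nat_lit 2821))
 (.leaf (nat_lit 0x10d33d1) (nat_lit 3073))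
))) (.node (nat_lit 0x10d33d9) (.node (nat_lit 0x10d33d5) (.leaf (nat_lit 0x10d33d3) (nat_lit 2817))
 (.node (nat_lit 0x10d33d7) (.leaf (nat_lit 0x10d33d5) (nat_lit 3330))
 (.leaf (nat_lit 0x10d33d7) (nat_lit 3074))
)) (.node (nat_lit 0x10d33db) (.leaf (nat_lit 0x10d33d9) (nat_lit 3077))
 (.node (nat_lit 0x10d33dd) (.leaf (nat_lit 0x10d33db) (nat_lit 3077))
 (.leaf (nat_lit 0x10d33dd) (nat_lit 2821))
))))) (.node (nat_lit 0x10d3853) (.node (nat_lit 0x10d3849) (.node (nat_lit 0x10d3843) (.node (nat_lit 0x10d3841) (.leaf (nat_lit 0x10d33df) (nat_lit 2565))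
 (.leaf (nat_lit 0x10d3841) (nat_lit 1284))
) (.node (nat_lit 0x10d3845) (.leaf (nat_lit 0x10d3843) (nat_lit 1540))
 (.node (nat_lit 0x10d3847) (.leaf (nat_lit 0x10d3845) (nat_lit 2308))
 (.leaf (nat_lit 0x10d3847) (nat_lit 2052))
))) (.node (nat_lit 0x10d384d) (.node (nat_lit 0x10d384b) (.leaf (nat_lit 0x10d3849) (nat_lit 2564))
 (.leaf (nat_lit 0x10d384b) (nat_lit 2564))
) (.node (nat_lit 0x10d384f) (.leaf (nat_lit 0x10d384d) (nat_lit 2052))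
 (.node (nat_lit 0x10d3851) (.leaf (nat_lit 0x10d384f) (nat_lit 2052))
 (.leaf (nat_lit 0x10d3851) (nat_lit 3332))
)))) (.node (nat_lit 0x10d385d) (.node (nat_lit 0x10d3857) (.node (nat_lit 0x10d3855) (.leaf (nat_lit 0x10d3853) (nat_lit 3588))
 (.leaf (nat_lit 0x10d3855) (nat_lit 2820))
) (.node (nat_lit 0x10d3859) (.leaf (nat_lit 0x10d3857) (nat_lit 2564))
 (.node (nat_lit 0x10d385b) (.leaf (nat_lit 0x10d3859) (nat_lit 2564))
 (.leaf (nat_lit 0x10d385b) (nat_lit 2564))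
))) (.node (nat_lit 0x10d38c3) (.node (nat_lit 0x10d385f) (.leaf (nat_lit 0x10d385d) (nat_lit 2820))
 (.node (nat_lit 0x10d38c1) (.leaf (nat_lit 0x10d385f) (nat_lit 2820))
 (.leaf (nat_lit 0x10d38c1) (nat_lit 1541))
)) (.node (nat_lit 0x10d38c5) (.leaf (nat_lit 0x10d38c3) (nat_lit 1797))
 (.node (nat_lit 0x10d38c7) (.leaf (nat_lit 0x10d38c5) (nat_lit 2053))
 (.leaf (nat_lit 0x10d38c7) (nat_lit 1797))
))))))) (.node (nat_lit 0x10d399d) (.node (nat_lit 0x10d3913) (.node (nat_lit 0x10d38dd) (.node (nat_lit 0x10d38d3) (.node (nat_lit 0x10d38cd) (.node (nat_lit 0x10d38cb) (.leaf (nat_lit 0x10d38c9) (nat_lit 2305))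
 (.leaf (nat_lit 0x10d38cb) (nat_lit 2561))
) (.node (nat_lit 0x10d38cf) (.leaf (nat_lit 0x10d38cd) (nat_lit 2565))
 (.node (nat_lit 0x10d38d1) (.leaf (nat_lit 0x10d38cf) (nat_lit 2309))
 (.leaf (nat_lit 0x10d38d1) (nat_lit 3074))
))) (.node (nat_lit 0x10d38d7) (.node (nat_lit 0x10d38d5) (.leaf (nat_lit 0x10d38d3) (nat_lit 2818))
 (.leaf (nat_lit 0x10d38d5) (nat_lit 2821))
) (.node (nat_lit 0x10d38d9) (.leaf (nat_lit 0x10d38d7) (nat_lit 3077))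
 (.node (nat_lit 0x10d38db) (.leaf (nat_lit 0x10d38d9) (nat_lit 3076))
 (.leaf (nat_lit 0x10d38db) (nat_lit 2820))
)))) (.node (nat_lit 0x10d3907) (.node (nat_lit 0x10d3901) (.node (nat_lit 0x10d38df) (.leaf (nat_lit 0x10d38dd) (nat_lit 2820))
 (.leaf (nat_lit 0x10d38df) (nat_lit 3076))
) (.node (nat_lit 0x10d3903) (.leaf (nat_lit 0x10d3901) (nat_lit 1793))
 (.node (nat_lit 0x10d3905) (.leaf (nat_lit 0x10d3903) (nat_lit 2049))
 (.leaf (nat_lit 0x10d3905) (nat_lit 2305))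
))) (.node (nat_lit 0x10d390d) (.node (nat_lit 0x10d3909) (.leaf (nat_lit 0x10d3907) (nat_lit 2049))
 (.node (nat_lit 0x10d390b) (.leaf (nat_lit 0x10d3909) (nat_lit 2048))
 (.leaf (nat_lit 0x10d390b) (nat_lit 2304))
)) (.node (nat_lit 0x10d390f) (.leaf (nat_lit 0x10d390d) (nat_lit 2560))
 (.node (nat_lit 0x10d3911) (.leaf (nat_lit 0x10d390f) (nat_lit 2304))
 (.leaf (nat_lit 0x10d3911) (nat_lit 3329))
))))) (.node (nat_lit 0x10d3987) (.node (nat_lit 0x10d391d) (.node (nat_lit 0x10d3917) (.node (nat_lit 0x10d3915) (.leaf (nat_lit 0x10d3913) (nat_lit 3073))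
 (.leaf (nat_lit 0x10d3915) (nat_lit 3073))
) (.node (nat_lit 0x10d3919) (.leaf (nat_lit 0x10d3917) (nat_lit 3329))
 (.node (nat_lit 0x10d391b) (.leaf (nat_lit 0x10d3919) (nat_lit 3332))
 (.leaf (nat_lit 0x10d391b) (nat_lit 3076))
))) (.node (nat_lit 0x10d3981) (.node (nat_lit 0x10d391f) (.leaf (nat_lit 0x10d391d) (nat_lit 3076))
 (.leaf (nat_lit 0x10d391f) (nat_lit 3332))
) (.node (nat_lit 0x10d3983) (.leaf (nat_lit 0x10d3981) (nat_lit 1540))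
 (.node (nat_lit 0x10d3985) (.leaf (nat_lit 0x10d3983) (nat_lit 1796))
 (.leaf (nat_lit 0x10d3985) (nat_lit 2564))
)))) (.node (nat_lit 0x10d3991) (.node (nat_lit 0x10d398b) (.node (nat_lit 0x10d3989) (.leaf (nat_lit 0x10d3987) (nat_lit 2308))
 (.leaf (nat_lit 0x10d3989) (nat_lit 2820))
) (.node (nat_lit 0x10d398d) (.leaf (nat_lit 0x10d398b) (nat_lit 2564))
 (.node (nat_lit 0x10d398f) (.leaf (nat_lit 0x10d398d) (nat_lit 1796))
 (.leaf (nat_lit 0x10d398f) (nat_lit 2052))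
))) (.node (nat_lit 0x10d3997) (.node (nat_lit 0x10d3993) (.leaf (nat_lit 0x10d3991) (nat_lit 3332))
 (.node (nat_lit 0x10d3995) (.leaf (nat_lit 0x10d3993) (nat_lit 3332))
 (.leaf (nat_lit 0x10d3995) (nat_lit 3076))
)) (.node (nat_lit 0x10d3999) (.leaf (nat_lit 0x10d3997) (nat_lit 2820))
 (.node (nat_lit 0x10d399b) (.leaf (nat_lit 0x10d3999) (nat_lit 2820))
 (.leaf (nat_lit 0x10d399b) (nat_lit 2820))
)))))) (.node (nat_lit 0x10d3ac7) (.node (nat_lit 0x10d3a51) (.node (nat_lit 0x10d3a47) (.node (nat_lit 0x10d3a41) (.node (nat_lit 0x10d399f) (.leaf (nat_lit 0x10d399d) (nat_lit 3076))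
 (.leaf (nat_lit 0x10d399f) (nat_lit 3076))
) (.node (nat_lit 0x10d3a43) (.leaf (nat_lit 0x10d3a41) (nat_lit 2306))
 (.node (nat_lit 0x10d3a45) (.leaf (nat_lit 0x10d3a43) (nat_lit 2562))
 (.leaf (nat_lit 0x10d3a45) (nat_lit 2818))
))) (.node (nat_lit 0x10d3a4b) (.node (nat_lit 0x10d3a49) (.leaf (nat_lit 0x10d3a47) (nat_lit 2562))
 (.leaf (nat_lit 0x10d3a49) (nat_lit 3076))
) (.node (nat_lit 0x10d3a4d) (.leaf (nat_lit 0x10d3a4b) (nat_lit 3332))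
 (.node (nat_lit 0x10d3a4f) (.leaf (nat_lit 0x10d3a4d) (nat_lit 2820))
 (.leaf (nat_lit 0x10d3a4f) (nat_lit 2564))
)))) (.node (nat_lit 0x10d3a5b) (.node (nat_lit 0x10d3a55) (.node (nat_lit 0x10d3a53) (.leaf (nat_lit 0x10d3a51) (nat_lit 2818))
 (.leaf (nat_lit 0x10d3a53) (nat_lit 2562))
) (.node (nat_lit 0x10d3a57) (.leaf (nat_lit 0x10d3a55) (nat_lit 2818))
 (.node (nat_lit 0x10d3a59) (.leaf (nat_lit 0x10d3a57) (nat_lit 3074))
 (.leaf (nat_lit 0x10d3a59) (nat_lit 3332))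
))) (.node (nat_lit 0x10d3ac1) (.node (nat_lit 0x10d3a5d) (.leaf (nat_lit 0x10d3a5b) (nat_lit 3076))
 (.node (nat_lit 0x10d3a5f) (.leaf (nat_lit 0x10d3a5d) (nat_lit 2820))
 (.leaf (nat_lit 0x10d3a5f) (nat_lit 3076))
)) (.node (nat_lit 0x10d3ac3) (.leaf (nat_lit 0x10d3ac1) (nat_lit 2052))
 (.node (nat_lit 0x10d3ac5) (.leaf (nat_lit 0x10d3ac3) (nat_lit 2308))
 (.leaf (nat_lit 0x10d3ac5) (nat_lit 3076))
))))) (.node (nat_lit 0x10d3adb) (.node (nat_lit 0x10d3ad1) (.node (nat_lit 0x10d3acb) (.node (nat_lit 0x10d3ac9) (.leaf (nat_lit 0x10d3ac7) (nat_lit 2820))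
 (.leaf (nat_lit 0x10d3ac9) (nat_lit 3076))
) (.node (nat_lit 0x10d3acd) (.leaf (nat_lit 0x10d3acb) (nat_lit 3332))
 (.node (nat_lit 0x10d3acf) (.leaf (nat_lit 0x10d3acd) (nat_lit 2564))
 (.leaf (nat_lit 0x10d3acf) (nat_lit 2308))
))) (.node (nat_lit 0x10d3ad5) (.node (nat_lit 0x10d3ad3) (.leaf (nat_lit 0x10d3ad1) (nat_lit 3076))
 (.leaf (nat_lit 0x10d3ad3) (nat_lit 3332))
) (.node (nat_lit 0x10d3ad7) (.leaf (nat_lit 0x10d3ad5) (nat_lit 2564))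
 (.node (nat_lit 0x10d3ad9) (.leaf (nat_lit 0x10d3ad7) (nat_lit 2308))
 (.leaf (nat_lit 0x10d3ad9) (nat_lit 2564))
)))) (.node (nat_lit 0x10d3b05) (.node (nat_lit 0x10d3adf) (.node (nat_lit 0x10d3add) (.leaf (nat_lit 0x10d3adb) (nat_lit 2820))
 (.leaf (nat_lit 0x10d3add) (nat_lit 3330))
) (.node (nat_lit 0x10d3b01) (.leaf (nat_lit 0x10d3adf) (nat_lit 3332))
 (.node (nat_lit 0x10d3b03) (.leaf (nat_lit 0x10d3b01) (nat_lit 2052))
 (.leaf (nat_lit 0x10d3b03) (nat_lit 2308))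
))) (.node (nat_lit 0x10d3b0b) (.node (nat_lit 0x10d3b07) (.leaf (nat_lit 0x10d3b05) (nat_lit 3076))
 (.node (nat_lit 0x10d3b09) (.leaf (nat_lit 0x10d3b07) (nat_lit 2820))
 (.leaf (nat_lit 0x10d3b09) (nat_lit 3332))
)) (.node (nat_lit 0x10d3b0d) (.leaf (nat_lit 0x10d3b0b) (nat_lit 3330))
 (.node (nat_lit 0x10d3b0f) (.leaf (nat_lit 0x10d3b0d) (nat_lit 2562))
 (.leaf (nat_lit 0x10d3b0f) (nat_lit 2564))
)))))))) (.node (nat_lit 0x10d49d9) (.node (nat_lit 0x10d48c5) (.node (nat_lit 0x10d3b9b) (.node (nat_lit 0x10d3b85) (.node (nat_lit 0x10d3b1b) (.node (nat_lit 0x10d3b15) (.node (nat_lit 0x10d3b13) (.leaf (nat_lit 0x10d3b11) (nat_lit 3332))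
 (.leaf (nat_lit 0x10d3b13) (nat_lit 3588))
) (.node (nat_lit 0x10d3b17) (.leaf (nat_lit 0x10d3b15) (nat_lit 2820))
 (.node (nat_lit 0x10d3b19) (.leaf (nat_lit 0x10d3b17) (nat_lit 2564))
 (.leaf (nat_lit 0x10d3b19) (nat_lit 2308))
))) (.node (nat_lit 0x10d3b1f) (.node (nat_lit 0x10d3b1d) (.leaf (nat_lit 0x10d3b1b) (nat_lit 2564))
 (.leaf (nat_lit 0x10d3b1d) (nat_lit 3076))
) (.node (nat_lit 0x10d3b81) (.leaf (nat_lit 0x10d3b1f) (nat_lit 3076))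
 (.node (nat_lit 0x10d3b83) (.leaf (nat_lit 0x10d3b81) (nat_lit 2308))
 (.leaf (nat_lit 0x10d3b83) (nat_lit 2564))
)))) (.node (nat_lit 0x10d3b8f) (.node (nat_lit 0x10d3b89) (.node (nat_lit 0x10d3b87) (.leaf (nat_lit 0x10d3b85) (nat_lit 2820))
 (.leaf (nat_lit 0x10d3b87) (nat_lit 2564))
) (.node (nat_lit 0x10d3b8b) (.leaf (nat_lit 0x10d3b89) (nat_lit 2821))
 (.node (nat_lit 0x10d3b8d) (.leaf (nat_lit 0x10d3b8b) (nat_lit 3077))
 (.leaf (nat_lit 0x10d3b8d) (nat_lit 2821))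
))) (.node (nat_lit 0x10d3b95) (.node (nat_lit 0x10d3b91) (.leaf (nat_lit 0x10d3b8f) (nat_lit 2565))
 (.node (nat_lit 0x10d3b93) (.leaf (nat_lit 0x10d3b91) (nat_lit 3077))
 (.leaf (nat_lit 0x10d3b93) (nat_lit 2821))
)) (.node (nat_lit 0x10d3b97) (.leaf (nat_lit 0x10d3b95) (nat_lit 3077))
 (.node (nat_lit 0x10d3b99) (.leaf (nat_lit 0x10d3b97) (nat_lit 3333))
 (.leaf (nat_lit 0x10d3b99) (nat_lit 3076))
))))) (.node (nat_lit 0x10d488f) (.node (nat_lit 0x10d4885) (.node (nat_lit 0x10d3b9f) (.node (nat_lit 0x10d3b9d) (.leaf (nat_lit 0x10d3b9b) (nat_lit 2820))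
 (.leaf (nat_lit 0x10d3b9d) (nat_lit 2564))
) (.node (nat_lit 0x10d4881) (.leaf (nat_lit 0x10d3b9f) (nat_lit 2820))
 (.node (nat_lit 0x10d4883) (.leaf (nat_lit 0x10d4881) (nat_lit 1794))
 (.leaf (nat_lit 0x10d4883) (nat_lit 2050))
))) (.node (nat_lit 0x10d4889) (.node (nat_lit 0x10d4887) (.leaf (nat_lit 0x10d4885) (nat_lit 2050))
 (.leaf (nat_lit 0x10d4887) (nat_lit 2050))
) (.node (nat_lit 0x10d488b) (.leaf (nat_lit 0x10d4889) (nat_lit 2818))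
 (.node (nat_lit 0x10d488d) (.leaf (nat_lit 0x10d488b) (nat_lit 2818))
 (.leaf (nat_lit 0x10d488d) (nat_lit 2562))
)))) (.node (nat_lit 0x10d4899) (.node (nat_lit 0x10d4893) (.node (nat_lit 0x10d4891) (.leaf (nat_lit 0x10d488f) (nat_lit 2564))
 (.leaf (nat_lit 0x10d4891) (nat_lit 2817))
) (.node (nat_lit 0x10d4895) (.leaf (nat_lit 0x10d4893) (nat_lit 2817))
 (.node (nat_lit 0x10d4897) (.leaf (nat_lit 0x10d4895) (nat_lit 2817))
 (.leaf (nat_lit 0x10d4897) (nat_lit 2561))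
))) (.node (nat_lit 0x10d489f) (.node (nat_lit 0x10d489b) (.leaf (nat_lit 0x10d4899) (nat_lit 3076))
 (.node (nat_lit 0x10d489d) (.leaf (nat_lit 0x10d489b) (nat_lit 2820))
 (.leaf (nat_lit 0x10d489d) (nat_lit 2820))
)) (.node (nat_lit 0x10d48c1) (.leaf (nat_lit 0x10d489f) (nat_lit 2564))
 (.node (nat_lit 0x10d48c3) (.leaf (nat_lit 0x10d48c1) (nat_lit 1538))
 (.leaf (nat_lit 0x10d48c3) (nat_lit 1794))
)))))) (.node (nat_lit 0x10d498f) (.node (nat_lit 0x10d48d9) (.node (nat_lit 0x10d48cf) (.node (nat_lit 0x10d48c9) (.node (nat_lit 0x10d48c7) (.leaf (nat_lit 0x10d48c5) (nat_lit 2050))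
 (.leaf (nat_lit 0x10d48c7) (nat_lit 1794))
) (.node (nat_lit 0x10d48cb) (.leaf (nat_lit 0x10d48c9) (nat_lit 2562))
 (.node (nat_lit 0x10d48cd) (.leaf (nat_lit 0x10d48cb) (nat_lit 2564))
 (.leaf (nat_lit 0x10d48cd) (nat_lit 2562))
))) (.node (nat_lit 0x10d48d3) (.node (nat_lit 0x10d48d1) (.leaf (nat_lit 0x10d48cf) (nat_lit 2306))
 (.leaf (nat_lit 0x10d48d1) (nat_lit 2817))
) (.node (nat_lit 0x10d48d5) (.leaf (nat_lit 0x10d48d3) (nat_lit 2561))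
 (.node (nat_lit 0x10d48d7) (.leaf (nat_lit 0x10d48d5) (nat_lit 2305))
 (.leaf (nat_lit 0x10d48d7) (nat_lit 2561))
)))) (.node (nat_lit 0x10d4983) (.node (nat_lit 0x10d48dd) (.node (nat_lit 0x10d48db) (.leaf (nat_lit 0x10d48d9) (nat_lit 2820))
 (.leaf (nat_lit 0x10d48db) (nat_lit 2564))
) (.node (nat_lit 0x10d48df) (.leaf (nat_lit 0x10d48dd) (nat_lit 2564))
 (.node (nat_lit 0x10d4981) (.leaf (nat_lit 0x10d48df) (nat_lit 2820))
 (.leaf (nat_lit 0x10d4981) (nat_lit 2052))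
))) (.node (nat_lit 0x10d4989) (.node (nat_lit 0x10d4985) (.leaf (nat_lit 0x10d4983) (nat_lit 2308))
 (.node (nat_lit 0x10d4987) (.leaf (nat_lit 0x10d4985) (nat_lit 2306))
 (.leaf (nat_lit 0x10d4987) (nat_lit 2308))
)) (.node (nat_lit 0x10d498b) (.leaf (nat_lit 0x10d4989) (nat_lit 2562))
 (.node (nat_lit 0x10d498d) (.leaf (nat_lit 0x10d498b) (nat_lit 2564))
 (.leaf (nat_lit 0x10d498d) (nat_lit 2308))
))))) (.node (nat_lit 0x10d49c3) (.node (nat_lit 0x10d4999) (.node (nat_lit 0x10d4993) (.node (nat_lit 0x10d4991) (.leaf (nat_lit 0x10d498f) (nat_lit 2306))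
 (.leaf (nat_lit 0x10d4991) (nat_lit 3076))
) (.node (nat_lit 0x10d4995) (.leaf (nat_lit 0x10d4993) (nat_lit 2820))
 (.node (nat_lit 0x10d4997) (.leaf (nat_lit 0x10d4995) (nat_lit 3076))
 (.leaf (nat_lit 0x10d4997) (nat_lit 2820))
))) (.node (nat_lit 0x10d499d) (.node (nat_lit 0x10d499b) (.leaf (nat_lit 0x10d4999) (nat_lit 3076))
 (.leaf (nat_lit 0x10d499b) (nat_lit 3076))
) (.node (nat_lit 0x10d499f) (.leaf (nat_lit 0x10d499d) (nat_lit 2820))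
 (.node (nat_lit 0x10d49c1) (.leaf (nat_lit 0x10d499f) (nat_lit 2564))
 (.leaf (nat_lit 0x10d49c1) (nat_lit 1794))
)))) (.node (nat_lit 0x10d49cd) (.node (nat_lit 0x10d49c7) (.node (nat_lit 0x10d49c5) (.leaf (nat_lit 0x10d49c3) (nat_lit 2050))
 (.leaf (nat_lit 0x10d49c5) (nat_lit 2306))
) (.node (nat_lit 0x10d49c9) (.leaf (nat_lit 0x10d49c7) (nat_lit 2050))
 (.node (nat_lit 0x10d49cb) (.leaf (nat_lit 0x10d49c9) (nat_lit 2306))
 (.leaf (nat_lit 0x10d49cb) (nat_lit 2562))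
))) (.node (nat_lit 0x10d49d3) (.node (nat_lit 0x10d49cf) (.leaf (nat_lit 0x10d49cd) (nat_lit 2306))
 (.node (nat_lit 0x10d49d1) (.leaf (nat_lit 0x10d49cf) (nat_lit 2050))
 (.leaf (nat_lit 0x10d49d1) (nat_lit 3076))
)) (.node (nat_lit 0x10d49d5) (.leaf (nat_lit 0x10d49d3) (nat_lit 2820))
 (.node (nat_lit 0x10d49d7) (.leaf (nat_lit 0x10d49d5) (nat_lit 2820))
 (.leaf (nat_lit 0x10d49d7) (nat_lit 3076))
))))))) (.node (nat_lit 0x10d4b8d) (.node (nat_lit 0x10d4ac3) (.node (nat_lit 0x10d4a8d) (.node (nat_lit 0x10d4a83) (.node (nat_lit 0x10d49dd) (.node (nat_lit 0x10d49db) (.leaf (nat_lit 0x10d49d9) (nat_lit 3076))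
 (.leaf (nat_lit 0x10d49db) (nat_lit 2820))
) (.node (nat_lit 0x10d49df) (.leaf (nat_lit 0x10d49dd) (nat_lit 2564))
 (.node (nat_lit 0x10d4a81) (.leaf (nat_lit 0x10d49df) (nat_lit 2820))
 (.leaf (nat_lit 0x10d4a81) (nat_lit 1793))
))) (.node (nat_lit 0x10d4a87) (.node (nat_lit 0x10d4a85) (.leaf (nat_lit 0x10d4a83) (nat_lit 2049))
 (.leaf (nat_lit 0x10d4a85) (nat_lit 2305))
) (.node (nat_lit 0x10d4a89) (.leaf (nat_lit 0x10d4a87) (nat_lit 2049))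
 (.node (nat_lit 0x10d4a8b) (.leaf (nat_lit 0x10d4a89) (nat_lit 2817))
 (.leaf (nat_lit 0x10d4a8b) (nat_lit 2820))
)))) (.node (nat_lit 0x10d4a97) (.node (nat_lit 0x10d4a91) (.node (nat_lit 0x10d4a8f) (.leaf (nat_lit 0x10d4a8d) (nat_lit 2817))
 (.leaf (nat_lit 0x10d4a8f) (nat_lit 2561))
) (.node (nat_lit 0x10d4a93) (.leaf (nat_lit 0x10d4a91) (nat_lit 2560))
 (.node (nat_lit 0x10d4a95) (.leaf (nat_lit 0x10d4a93) (nat_lit 2304))
 (.leaf (nat_lit 0x10d4a95) (nat_lit 2048))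
))) (.node (nat_lit 0x10d4a9d) (.node (nat_lit 0x10d4a99) (.leaf (nat_lit 0x10d4a97) (nat_lit 2304))
 (.node (nat_lit 0x10d4a9b) (.leaf (nat_lit 0x10d4a99) (nat_lit 3076))
 (.leaf (nat_lit 0x10d4a9b) (nat_lit 2820))
)) (.node (nat_lit 0x10d4a9f) (.leaf (nat_lit 0x10d4a9d) (nat_lit 2820))
 (.node (nat_lit 0x10d4ac1) (.leaf (nat_lit 0x10d4a9f) (nat_lit 3076))
 (.leaf (nat_lit 0x10d4ac1) (nat_lit 2049))
))))) (.node (nat_lit 0x10d4ad7) (.node (nat_lit 0x10d4acd) (.node (nat_lit 0x10d4ac7) (.node (nat_lit 0x10d4ac5) (.leaf (nat_lit 0x10d4ac3) (nat_lit 2305))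
 (.leaf (nat_lit 0x10d4ac5) (nat_lit 2305))
) (.node (nat_lit 0x10d4ac9) (.leaf (nat_lit 0x10d4ac7) (nat_lit 2305))
 (.node (nat_lit 0x10d4acb) (.leaf (nat_lit 0x10d4ac9) (nat_lit 3073))
 (.leaf (nat_lit 0x10d4acb) (nat_lit 3073))
))) (.node (nat_lit 0x10d4ad1) (.node (nat_lit 0x10d4acf) (.leaf (nat_lit 0x10d4acd) (nat_lit 2817))
 (.leaf (nat_lit 0x10d4acf) (nat_lit 2820))
) (.node (nat_lit 0x10d4ad3) (.leaf (nat_lit 0x10d4ad1) (nat_lit 2560))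
 (.node (nat_lit 0x10d4ad5) (.leaf (nat_lit 0x10d4ad3) (nat_lit 2560))
 (.leaf (nat_lit 0x10d4ad5) (nat_lit 2560))
)))) (.node (nat_lit 0x10d4b81) (.node (nat_lit 0x10d4adb) (.node (nat_lit 0x10d4ad9) (.leaf (nat_lit 0x10d4ad7) (nat_lit 2304))
 (.leaf (nat_lit 0x10d4ad9) (nat_lit 3076))
) (.node (nat_lit 0x10d4add) (.leaf (nat_lit 0x10d4adb) (nat_lit 3076))
 (.node (nat_lit 0x10d4adf) (.leaf (nat_lit 0x10d4add) (nat_lit 3076))
 (.leaf (nat_lit 0x10d4adf) (nat_lit 2820))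
))) (.node (nat_lit 0x10d4b87) (.node (nat_lit 0x10d4b83) (.leaf (nat_lit 0x10d4b81) (nat_lit 2052))
 (.node (nat_lit 0x10d4b85) (.leaf (nat_lit 0x10d4b83) (nat_lit 2308))
 (.leaf (nat_lit 0x10d4b85) (nat_lit 2564))
)) (.node (nat_lit 0x10d4b89) (.leaf (nat_lit 0x10d4b87) (nat_lit 2308))
 (.node (nat_lit 0x10d4b8b) (.leaf (nat_lit 0x10d4b89) (nat_lit 2561))
 (.leaf (nat_lit 0x10d4b8b) (nat_lit 2817))
)))))) (.node (nat_lit 0x10d4bd7) (.node (nat_lit 0x10d4bc1) (.node (nat_lit 0x10d4b97) (.node (nat_lit 0x10d4b91) (.node (nat_lit 0x10d4b8f) (.leaf (nat_lit 0x10d4b8d) (nat_lit 2561))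
 (.leaf (nat_lit 0x10d4b8f) (nat_lit 2305))
) (.node (nat_lit 0x10d4b93) (.leaf (nat_lit 0x10d4b91) (nat_lit 2816))
 (.node (nat_lit 0x10d4b95) (.leaf (nat_lit 0x10d4b93) (nat_lit 2560))
 (.leaf (nat_lit 0x10d4b95) (nat_lit 2816))
))) (.node (nat_lit 0x10d4b9b) (.node (nat_lit 0x10d4b99) (.leaf (nat_lit 0x10d4b97) (nat_lit 3072))
 (.leaf (nat_lit 0x10d4b99) (nat_lit 2820))
) (.node (nat_lit 0x10d4b9d) (.leaf (nat_lit 0x10d4b9b) (nat_lit 2564))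
 (.node (nat_lit 0x10d4b9f) (.leaf (nat_lit 0x10d4b9d) (nat_lit 2308))
 (.leaf (nat_lit 0x10d4b9f) (nat_lit 2564))
)))) (.node (nat_lit 0x10d4bcb) (.node (nat_lit 0x10d4bc5) (.node (nat_lit 0x10d4bc3) (.leaf (nat_lit 0x10d4bc1) (nat_lit 2052))
 (.leaf (nat_lit 0x10d4bc3) (nat_lit 2308))
) (.node (nat_lit 0x10d4bc7) (.leaf (nat_lit 0x10d4bc5) (nat_lit 2564))
 (.node (nat_lit 0x10d4bc9) (.leaf (nat_lit 0x10d4bc7) (nat_lit 2564))
 (.leaf (nat_lit 0x10d4bc9) (nat_lit 2817))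
))) (.node (nat_lit 0x10d4bd1) (.node (nat_lit 0x10d4bcd) (.leaf (nat_lit 0x10d4bcb) (nat_lit 2820))
 (.node (nat_lit 0x10d4bcf) (.leaf (nat_lit 0x10d4bcd) (nat_lit 2564))
 (.leaf (nat_lit 0x10d4bcf) (nat_lit 2561))
)) (.node (nat_lit 0x10d4bd3) (.leaf (nat_lit 0x10d4bd1) (nat_lit 2816))
 (.node (nat_lit 0x10d4bd5) (.leaf (nat_lit 0x10d4bd3) (nat_lit 2820))
 (.leaf (nat_lit 0x10d4bd5) (nat_lit 3076))
))))) (.node (nat_lit 0x10d504b) (.node (nat_lit 0x10d5041) (.node (nat_lit 0x10d4bdb) (.node (nat_lit 0x10d4bd9) (.leaf (nat_lit 0x10d4bd7) (nat_lit 3072))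
 (.leaf (nat_lit 0x10d4bd9) (nat_lit 2820))
) (.node (nat_lit 0x10d4bdd) (.leaf (nat_lit 0x10d4bdb) (nat_lit 2820))
 (.node (nat_lit 0x10d4bdf) (.leaf (nat_lit 0x10d4bdd) (nat_lit 2564))
 (.leaf (nat_lit 0x10d4bdf) (nat_lit 2308))
))) (.node (nat_lit 0x10d5045) (.node (nat_lit 0x10d5043) (.leaf (nat_lit 0x10d5041) (nat_lit 1538))
 (.leaf (nat_lit 0x10d5043) (nat_lit 1794))
) (.node (nat_lit 0x10d5047) (.leaf (nat_lit 0x10d5045) (nat_lit 2562))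
 (.node (nat_lit 0x10d5049) (.leaf (nat_lit 0x10d5047) (nat_lit 2306))
 (.leaf (nat_lit 0x10d5049) (nat_lit 2818))
)))) (.node (nat_lit 0x10d5055) (.node (nat_lit 0x10d504f) (.node (nat_lit 0x10d504d) (.leaf (nat_lit 0x10d504b) (nat_lit 2818))
 (.leaf (nat_lit 0x10d504d) (nat_lit 2306))
) (.node (nat_lit 0x10d5051) (.leaf (nat_lit 0x10d504f) (nat_lit 2306))
 (.node (nat_lit 0x10d5053) (.leaf (nat_lit 0x10d5051) (nat_lit 3073))
 (.leaf (nat_lit 0x10d5053) (nat_lit 3329))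
))) (.node (nat_lit 0x10d505b) (.node (nat_lit 0x10d5057) (.leaf (nat_lit 0x10d5055) (nat_lit 2561))
 (.node (nat_lit 0x10d5059) (.leaf (nat_lit 0x10d5057) (nat_lit 2305))
 (.leaf (nat_lit 0x10d5059) (nat_lit 2818))
)) (.node (nat_lit 0x10d505d) (.leaf (nat_lit 0x10d505b) (nat_lit 2818))
 (.node (nat_lit 0x10d505f) (.leaf (nat_lit 0x10d505d) (nat_lit 2819))
 (.leaf (nat_lit 0x10d505f) (nat_lit 2819))
))))))))) (.node (nat_lit 0x10d59d1) (.node (nat_lit 0x10d5309) (.node (nat_lit 0x10d5195) (.node (nat_lit 0x10d510b) (.node (nat_lit 0x10d50d5) (.node (nat_lit 0x10d50cb) (.node (nat_lit 0x10d50c5) (.node (nat_lit 0x10d50c3) (.leaf (nat_lit 0x10d50c1) (nat_lit 1797))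
 (.leaf (nat_lit 0x10d50c3) (nat_lit 2053))
) (.node (nat_lit 0x10d50c7) (.leaf (nat_lit 0x10d50c5) (nat_lit 2309))
 (.node (nat_lit 0x10d50c9) (.leaf (nat_lit 0x10d50c7) (nat_lit 2053))
 (.leaf (nat_lit 0x10d50c9) (nat_lit 2562))
))) (.node (nat_lit 0x10d50cf) (.node (nat_lit 0x10d50cd) (.leaf (nat_lit 0x10d50cb) (nat_lit 2818))
 (.leaf (nat_lit 0x10d50cd) (nat_lit 2821))
) (.node (nat_lit 0x10d50d1) (.leaf (nat_lit 0x10d50cf) (nat_lit 2565))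
 (.node (nat_lit 0x10d50d3) (.leaf (nat_lit 0x10d50d1) (nat_lit 2817))
 (.leaf (nat_lit 0x10d50d3) (nat_lit 2561))
)))) (.node (nat_lit 0x10d50df) (.node (nat_lit 0x10d50d9) (.node (nat_lit 0x10d50d7) (.leaf (nat_lit 0x10d50d5) (nat_lit 2565))
 (.leaf (nat_lit 0x10d50d7) (nat_lit 2821))
) (.node (nat_lit 0x10d50db) (.leaf (nat_lit 0x10d50d9) (nat_lit 3077))
 (.node (nat_lit 0x10d50dd) (.leaf (nat_lit 0x10d50db) (nat_lit 2821))
 (.leaf (nat_lit 0x10d50dd) (nat_lit 2821))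
))) (.node (nat_lit 0x10d5105) (.node (nat_lit 0x10d5101) (.leaf (nat_lit 0x10d50df) (nat_lit 3077))
 (.node (nat_lit 0x10d5103) (.leaf (nat_lit 0x10d5101) (nat_lit 2050))
 (.leaf (nat_lit 0x10d5103) (nat_lit 2306))
)) (.node (nat_lit 0x10d5107) (.leaf (nat_lit 0x10d5105) (nat_lit 2562))
 (.node (nat_lit 0x10d5109) (.leaf (nat_lit 0x10d5107) (nat_lit 2306))
 (.leaf (nat_lit 0x10d5109) (nat_lit 2306))
))))) (.node (nat_lit 0x10d511f) (.node (nat_lit 0x10d5115) (.node (nat_lit 0x10d510f) (.node (nat_lit 0x10d510d) (.leaf (nat_lit 0x10d510b) (nat_lit 2562))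
 (.leaf (nat_lit 0x10d510d) (nat_lit 2818))
) (.node (nat_lit 0x10d5111) (.leaf (nat_lit 0x10d510f) (nat_lit 2562))
 (.node (nat_lit 0x10d5113) (.leaf (nat_lit 0x10d5111) (nat_lit 3585))
 (.leaf (nat_lit 0x10d5113) (nat_lit 3329))
))) (.node (nat_lit 0x10d5119) (.node (nat_lit 0x10d5117) (.leaf (nat_lit 0x10d5115) (nat_lit 3073))
 (.leaf (nat_lit 0x10d5117) (nat_lit 3329))
) (.node (nat_lit 0x10d511b) (.leaf (nat_lit 0x10d5119) (nat_lit 3329))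
 (.node (nat_lit 0x10d511d) (.leaf (nat_lit 0x10d511b) (nat_lit 3073))
 (.leaf (nat_lit 0x10d511d) (nat_lit 2817))
)))) (.node (nat_lit 0x10d5189) (.node (nat_lit 0x10d5183) (.node (nat_lit 0x10d5181) (.leaf (nat_lit 0x10d511f) (nat_lit 3073))
 (.leaf (nat_lit 0x10d5181) (nat_lit 1794))
) (.node (nat_lit 0x10d5185) (.leaf (nat_lit 0x10d5183) (nat_lit 2050))
 (.node (nat_lit 0x10d5187) (.leaf (nat_lit 0x10d5185) (nat_lit 2818))
 (.leaf (nat_lit 0x10d5187) (nat_lit 2562))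
))) (.node (nat_lit 0x10d518f) (.node (nat_lit 0x10d518b) (.leaf (nat_lit 0x10d5189) (nat_lit 3074))
 (.node (nat_lit 0x10d518d) (.leaf (nat_lit 0x10d518b) (nat_lit 2818))
 (.leaf (nat_lit 0x10d518d) (nat_lit 2050))
)) (.node (nat_lit 0x10d5191) (.leaf (nat_lit 0x10d518f) (nat_lit 2306))
 (.node (nat_lit 0x10d5193) (.leaf (nat_lit 0x10d5191) (nat_lit 3589))
 (.leaf (nat_lit 0x10d5193) (nat_lit 3333))
)))))) (.node (nat_lit 0x10d525f) (.node (nat_lit 0x10d5249) (.node (nat_lit 0x10d519f) (.node (nat_lit 0x10d5199) (.node (nat_lit 0x10d5197) (.leaf (nat_lit 0x10d5195) (nat_lit 2821))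
 (.leaf (nat_lit 0x10d5197) (nat_lit 2821))
) (.node (nat_lit 0x10d519b) (.leaf (nat_lit 0x10d5199) (nat_lit 2561))
 (.node (nat_lit 0x10d519d) (.leaf (nat_lit 0x10d519b) (nat_lit 2817))
 (.leaf (nat_lit 0x10d519d) (nat_lit 3330))
))) (.node (nat_lit 0x10d5243) (.node (nat_lit 0x10d5241) (.leaf (nat_lit 0x10d519f) (nat_lit 3329))
 (.leaf (nat_lit 0x10d5241) (nat_lit 2049))
) (.node (nat_lit 0x10d5245) (.leaf (nat_lit 0x10d5243) (nat_lit 2305))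
 (.node (nat_lit 0x10d5247) (.leaf (nat_lit 0x10d5245) (nat_lit 2561))
 (.leaf (nat_lit 0x10d5247) (nat_lit 2305))
)))) (.node (nat_lit 0x10d5253) (.node (nat_lit 0x10d524d) (.node (nat_lit 0x10d524b) (.leaf (nat_lit 0x10d5249) (nat_lit 2817))
 (.leaf (nat_lit 0x10d524b) (nat_lit 3073))
) (.node (nat_lit 0x10d524f) (.leaf (nat_lit 0x10d524d) (nat_lit 3073))
 (.node (nat_lit 0x10d5251) (.leaf (nat_lit 0x10d524f) (nat_lit 2817))
 (.leaf (nat_lit 0x10d5251) (nat_lit 2560))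
))) (.node (nat_lit 0x10d5259) (.node (nat_lit 0x10d5255) (.leaf (nat_lit 0x10d5253) (nat_lit 2304))
 (.node (nat_lit 0x10d5257) (.leaf (nat_lit 0x10d5255) (nat_lit 2560))
 (.leaf (nat_lit 0x10d5257) (nat_lit 2816))
)) (.node (nat_lit 0x10d525b) (.leaf (nat_lit 0x10d5259) (nat_lit 3329))
 (.node (nat_lit 0x10d525d) (.leaf (nat_lit 0x10d525b) (nat_lit 3073))
 (.leaf (nat_lit 0x10d525d) (nat_lit 3074))
))))) (.node (nat_lit 0x10d52d3) (.node (nat_lit 0x10d52c9) (.node (nat_lit 0x10d52c3) (.node (nat_lit 0x10d52c1) (.leaf (nat_lit 0x10d525f) (nat_lit 3330))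
 (.leaf (nat_lit 0x10d52c1) (nat_lit 1797))
) (.node (nat_lit 0x10d52c5) (.leaf (nat_lit 0x10d52c3) (nat_lit 2053))
 (.node (nat_lit 0x10d52c7) (.leaf (nat_lit 0x10d52c5) (nat_lit 2821))
 (.leaf (nat_lit 0x10d52c7) (nat_lit 2565))
))) (.node (nat_lit 0x10d52cd) (.node (nat_lit 0x10d52cb) (.leaf (nat_lit 0x10d52c9) (nat_lit 3075))
 (.leaf (nat_lit 0x10d52cb) (nat_lit 3073))
) (.node (nat_lit 0x10d52cf) (.leaf (nat_lit 0x10d52cd) (nat_lit 2561))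
 (.node (nat_lit 0x10d52d1) (.leaf (nat_lit 0x10d52cf) (nat_lit 2565))
 (.leaf (nat_lit 0x10d52d1) (nat_lit 2821))
)))) (.node (nat_lit 0x10d52dd) (.node (nat_lit 0x10d52d7) (.node (nat_lit 0x10d52d5) (.leaf (nat_lit 0x10d52d3) (nat_lit 3077))
 (.leaf (nat_lit 0x10d52d5) (nat_lit 2309))
) (.node (nat_lit 0x10d52d9) (.leaf (nat_lit 0x10d52d7) (nat_lit 2053))
 (.node (nat_lit 0x10d52db) (.leaf (nat_lit 0x10d52d9) (nat_lit 2821))
 (.leaf (nat_lit 0x10d52db) (nat_lit 2816))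
))) (.node (nat_lit 0x10d5303) (.node (nat_lit 0x10d52df) (.leaf (nat_lit 0x10d52dd) (nat_lit 3075))
 (.node (nat_lit 0x10d5301) (.leaf (nat_lit 0x10d52df) (nat_lit 3077))
 (.leaf (nat_lit 0x10d5301) (nat_lit 2049))
)) (.node (nat_lit 0x10d5305) (.leaf (nat_lit 0x10d5303) (nat_lit 2305))
 (.node (nat_lit 0x10d5307) (.leaf (nat_lit 0x10d5305) (nat_lit 3073))
 (.leaf (nat_lit 0x10d5307) (nat_lit 2817))
))))))) (.node (nat_lit 0x10d585d) (.node (nat_lit 0x10d5393) (.node (nat_lit 0x10d531d) (.node (nat_lit 0x10d5313) (.node (nat_lit 0x10d530d) (.node (nat_lit 0x10d530b) (.leaf (nat_lit 0x10d5309) (nat_lit 3329))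
 (.leaf (nat_lit 0x10d530b) (nat_lit 3073))
) (.node (nat_lit 0x10d530f) (.leaf (nat_lit 0x10d530d) (nat_lit 2305))
 (.node (nat_lit 0x10d5311) (.leaf (nat_lit 0x10d530f) (nat_lit 2561))
 (.leaf (nat_lit 0x10d5311) (nat_lit 3584))
))) (.node (nat_lit 0x10d5317) (.node (nat_lit 0x10d5315) (.leaf (nat_lit 0x10d5313) (nat_lit 3328))
 (.leaf (nat_lit 0x10d5315) (nat_lit 2560))
) (.node (nat_lit 0x10d5319) (.leaf (nat_lit 0x10d5317) (nat_lit 2816))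
 (.node (nat_lit 0x10d531b) (.leaf (nat_lit 0x10d5319) (nat_lit 2304))
 (.leaf (nat_lit 0x10d531b) (nat_lit 2560))
)))) (.node (nat_lit 0x10d5387) (.node (nat_lit 0x10d5381) (.node (nat_lit 0x10d531f) (.leaf (nat_lit 0x10d531d) (nat_lit 3328))
 (.leaf (nat_lit 0x10d531f) (nat_lit 3072))
) (.node (nat_lit 0x10d5383) (.leaf (nat_lit 0x10d5381) (nat_lit 2305))
 (.node (nat_lit 0x10d5385) (.leaf (nat_lit 0x10d5383) (nat_lit 2561))
 (.leaf (nat_lit 0x10d5385) (nat_lit 2817))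
))) (.node (nat_lit 0x10d538d) (.node (nat_lit 0x10d5389) (.leaf (nat_lit 0x10d5387) (nat_lit 2561))
 (.node (nat_lit 0x10d538b) (.leaf (nat_lit 0x10d5389) (nat_lit 2561))
 (.leaf (nat_lit 0x10d538b) (nat_lit 2817))
)) (.node (nat_lit 0x10d538f) (.leaf (nat_lit 0x10d538d) (nat_lit 3073))
 (.node (nat_lit 0x10d5391) (.leaf (nat_lit 0x10d538f) (nat_lit 2817))
 (.leaf (nat_lit 0x10d5391) (nat_lit 3333))
))))) (.node (nat_lit 0x10d5847) (.node (nat_lit 0x10d539d) (.node (nat_lit 0x10d5397) (.node (nat_lit 0x10d5395) (.leaf (nat_lit 0x10d5393) (nat_lit 3077))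
 (.leaf (nat_lit 0x10d5395) (nat_lit 2821))
) (.node (nat_lit 0x10d5399) (.leaf (nat_lit 0x10d5397) (nat_lit 3077))
 (.node (nat_lit 0x10d539b) (.leaf (nat_lit 0x10d5399) (nat_lit 3072))
 (.leaf (nat_lit 0x10d539b) (nat_lit 2816))
))) (.node (nat_lit 0x10d5841) (.node (nat_lit 0x10d539f) (.leaf (nat_lit 0x10d539d) (nat_lit 2560))
 (.leaf (nat_lit 0x10d539f) (nat_lit 2816))
) (.node (nat_lit 0x10d5843) (.leaf (nat_lit 0x10d5841) (nat_lit 1540))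
 (.node (nat_lit 0x10d5845) (.leaf (nat_lit 0x10d5843) (nat_lit 1796))
 (.leaf (nat_lit 0x10d5845) (nat_lit 2306))
)))) (.node (nat_lit 0x10d5851) (.node (nat_lit 0x10d584b) (.node (nat_lit 0x10d5849) (.leaf (nat_lit 0x10d5847) (nat_lit 2308))
 (.leaf (nat_lit 0x10d5849) (nat_lit 2564))
) (.node (nat_lit 0x10d584d) (.leaf (nat_lit 0x10d584b) (nat_lit 2564))
 (.node (nat_lit 0x10d584f) (.leaf (nat_lit 0x10d584d) (nat_lit 2564))
 (.leaf (nat_lit 0x10d584f) (nat_lit 2308))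
))) (.node (nat_lit 0x10d5857) (.node (nat_lit 0x10d5853) (.leaf (nat_lit 0x10d5851) (nat_lit 3076))
 (.node (nat_lit 0x10d5855) (.leaf (nat_lit 0x10d5853) (nat_lit 3076))
 (.leaf (nat_lit 0x10d5855) (nat_lit 2308))
)) (.node (nat_lit 0x10d5859) (.leaf (nat_lit 0x10d5857) (nat_lit 2308))
 (.node (nat_lit 0x10d585b) (.leaf (nat_lit 0x10d5859) (nat_lit 2564))
 (.leaf (nat_lit 0x10d585b) (nat_lit 2564))
)))))) (.node (nat_lit 0x10d5907) (.node (nat_lit 0x10d5891) (.node (nat_lit 0x10d5887) (.node (nat_lit 0x10d5881) (.node (nat_lit 0x10d585f) (.leaf (nat_lit 0x10d585d) (nat_lit 3076))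
 (.leaf (nat_lit 0x10d585f) (nat_lit 2820))
) (.node (nat_lit 0x10d5883) (.leaf (nat_lit 0x10d5881) (nat_lit 1794))
 (.node (nat_lit 0x10d5885) (.leaf (nat_lit 0x10d5883) (nat_lit 2050))
 (.leaf (nat_lit 0x10d5885) (nat_lit 2050))
))) (.node (nat_lit 0x10d588b) (.node (nat_lit 0x10d5889) (.leaf (nat_lit 0x10d5887) (nat_lit 2306))
 (.leaf (nat_lit 0x10d5889) (nat_lit 2562))
) (.node (nat_lit 0x10d588d) (.leaf (nat_lit 0x10d588b) (nat_lit 2818))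
 (.node (nat_lit 0x10d588f) (.leaf (nat_lit 0x10d588d) (nat_lit 2821))
 (.leaf (nat_lit 0x10d588f) (nat_lit 2820))
)))) (.node (nat_lit 0x10d589b) (.node (nat_lit 0x10d5895) (.node (nat_lit 0x10d5893) (.leaf (nat_lit 0x10d5891) (nat_lit 2817))
 (.leaf (nat_lit 0x10d5893) (nat_lit 2561))
) (.node (nat_lit 0x10d5897) (.leaf (nat_lit 0x10d5895) (nat_lit 3077))
 (.node (nat_lit 0x10d5899) (.leaf (nat_lit 0x10d5897) (nat_lit 2821))
 (.leaf (nat_lit 0x10d5899) (nat_lit 3075))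
))) (.node (nat_lit 0x10d5901) (.node (nat_lit 0x10d589d) (.leaf (nat_lit 0x10d589b) (nat_lit 3076))
 (.node (nat_lit 0x10d589f) (.leaf (nat_lit 0x10d589d) (nat_lit 3076))
 (.leaf (nat_lit 0x10d589f) (nat_lit 2820))
)) (.node (nat_lit 0x10d5903) (.leaf (nat_lit 0x10d5901) (nat_lit 2052))
 (.node (nat_lit 0x10d5905) (.leaf (nat_lit 0x10d5903) (nat_lit 2308))
 (.leaf (nat_lit 0x10d5905) (nat_lit 2306))
))))) (.node (nat_lit 0x10d591b) (.node (nat_lit 0x10d5911) (.node (nat_lit 0x10d590b) (.node (nat_lit 0x10d5909) (.leaf (nat_lit 0x10d5907) (nat_lit 2562))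
 (.leaf (nat_lit 0x10d5909) (nat_lit 2308))
) (.node (nat_lit 0x10d590d) (.leaf (nat_lit 0x10d590b) (nat_lit 2564))
 (.node (nat_lit 0x10d590f) (.leaf (nat_lit 0x10d590d) (nat_lit 2562))
 (.leaf (nat_lit 0x10d590f) (nat_lit 2818))
))) (.node (nat_lit 0x10d5915) (.node (nat_lit 0x10d5913) (.leaf (nat_lit 0x10d5911) (nat_lit 3588))
 (.leaf (nat_lit 0x10d5913) (nat_lit 3332))
) (.node (nat_lit 0x10d5917) (.leaf (nat_lit 0x10d5915) (nat_lit 3075))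
 (.node (nat_lit 0x10d5919) (.leaf (nat_lit 0x10d5917) (nat_lit 3076))
 (.leaf (nat_lit 0x10d5919) (nat_lit 3332))
)))) (.node (nat_lit 0x10d59c5) (.node (nat_lit 0x10d591f) (.node (nat_lit 0x10d591d) (.leaf (nat_lit 0x10d591b) (nat_lit 3076))
 (.leaf (nat_lit 0x10d591d) (nat_lit 3076))
) (.node (nat_lit 0x10d59c1) (.leaf (nat_lit 0x10d591f) (nat_lit 2820))
 (.node (nat_lit 0x10d59c3) (.leaf (nat_lit 0x10d59c1) (nat_lit 1797))
 (.leaf (nat_lit 0x10d59c3) (nat_lit 2053))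
))) (.node (nat_lit 0x10d59cb) (.node (nat_lit 0x10d59c7) (.leaf (nat_lit 0x10d59c5) (nat_lit 2562))
 (.node (nat_lit 0x10d59c9) (.leaf (nat_lit 0x10d59c7) (nat_lit 2565))
 (.leaf (nat_lit 0x10d59c9) (nat_lit 2821))
)) (.node (nat_lit 0x10d59cd) (.leaf (nat_lit 0x10d59cb) (nat_lit 2820))
 (.node (nat_lit 0x10d59cf) (.leaf (nat_lit 0x10d59cd) (nat_lit 2309))
 (.leaf (nat_lit 0x10d59cf) (nat_lit 2053))
)))))))) (.node (nat_lit 0x10d6099) (.node (nat_lit 0x10d5b05) (.node (nat_lit 0x10d5a5b) (.node (nat_lit 0x10d5a45) (.node (nat_lit 0x10d59db) (.node (nat_lit 0x10d59d5) (.node (nat_lit 0x10d59d3) (.leaf (nat_lit 0x10d59d1) (nat_lit 3333))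
 (.leaf (nat_lit 0x10d59d3) (nat_lit 3333))
) (.node (nat_lit 0x10d59d7) (.leaf (nat_lit 0x10d59d5) (nat_lit 2821))
 (.node (nat_lit 0x10d59d9) (.leaf (nat_lit 0x10d59d7) (nat_lit 2565))
 (.leaf (nat_lit 0x10d59d9) (nat_lit 2561))
))) (.node (nat_lit 0x10d59df) (.node (nat_lit 0x10d59dd) (.leaf (nat_lit 0x10d59db) (nat_lit 2817))
 (.leaf (nat_lit 0x10d59dd) (nat_lit 3333))
) (.node (nat_lit 0x10d5a41) (.leaf (nat_lit 0x10d59df) (nat_lit 3329))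
 (.node (nat_lit 0x10d5a43) (.leaf (nat_lit 0x10d5a41) (nat_lit 2049))
 (.leaf (nat_lit 0x10d5a43) (nat_lit 2305))
)))) (.node (nat_lit 0x10d5a4f) (.node (nat_lit 0x10d5a49) (.node (nat_lit 0x10d5a47) (.leaf (nat_lit 0x10d5a45) (nat_lit 2305))
 (.leaf (nat_lit 0x10d5a47) (nat_lit 2561))
) (.node (nat_lit 0x10d5a4b) (.leaf (nat_lit 0x10d5a49) (nat_lit 2817))
 (.node (nat_lit 0x10d5a4d) (.leaf (nat_lit 0x10d5a4b) (nat_lit 3073))
 (.leaf (nat_lit 0x10d5a4d) (nat_lit 3073))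
))) (.node (nat_lit 0x10d5a55) (.node (nat_lit 0x10d5a51) (.leaf (nat_lit 0x10d5a4f) (nat_lit 3076))
 (.node (nat_lit 0x10d5a53) (.leaf (nat_lit 0x10d5a51) (nat_lit 2560))
 (.leaf (nat_lit 0x10d5a53) (nat_lit 2304))
)) (.node (nat_lit 0x10d5a57) (.leaf (nat_lit 0x10d5a55) (nat_lit 2816))
 (.node (nat_lit 0x10d5a59) (.leaf (nat_lit 0x10d5a57) (nat_lit 2560))
 (.leaf (nat_lit 0x10d5a59) (nat_lit 3332))
))))) (.node (nat_lit 0x10d5a8f) (.node (nat_lit 0x10d5a85) (.node (nat_lit 0x10d5a5f) (.node (nat_lit 0x10d5a5d) (.leaf (nat_lit 0x10d5a5b) (nat_lit 3076))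
 (.leaf (nat_lit 0x10d5a5d) (nat_lit 3332))
) (.node (nat_lit 0x10d5a81) (.leaf (nat_lit 0x10d5a5f) (nat_lit 3076))
 (.node (nat_lit 0x10d5a83) (.leaf (nat_lit 0x10d5a81) (nat_lit 1796))
 (.leaf (nat_lit 0x10d5a83) (nat_lit 2052))
))) (.node (nat_lit 0x10d5a89) (.node (nat_lit 0x10d5a87) (.leaf (nat_lit 0x10d5a85) (nat_lit 2561))
 (.leaf (nat_lit 0x10d5a87) (nat_lit 2564))
) (.node (nat_lit 0x10d5a8b) (.leaf (nat_lit 0x10d5a89) (nat_lit 2820))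
 (.node (nat_lit 0x10d5a8d) (.leaf (nat_lit 0x10d5a8b) (nat_lit 2820))
 (.leaf (nat_lit 0x10d5a8d) (nat_lit 2820))
)))) (.node (nat_lit 0x10d5a99) (.node (nat_lit 0x10d5a93) (.node (nat_lit 0x10d5a91) (.leaf (nat_lit 0x10d5a8f) (nat_lit 2564))
 (.leaf (nat_lit 0x10d5a91) (nat_lit 2816))
) (.node (nat_lit 0x10d5a95) (.leaf (nat_lit 0x10d5a93) (nat_lit 2820))
 (.node (nat_lit 0x10d5a97) (.leaf (nat_lit 0x10d5a95) (nat_lit 2052))
 (.leaf (nat_lit 0x10d5a97) (nat_lit 2308))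
))) (.node (nat_lit 0x10d5a9f) (.node (nat_lit 0x10d5a9b) (.leaf (nat_lit 0x10d5a99) (nat_lit 2820))
 (.node (nat_lit 0x10d5a9d) (.leaf (nat_lit 0x10d5a9b) (nat_lit 2820))
 (.leaf (nat_lit 0x10d5a9d) (nat_lit 3076))
)) (.node (nat_lit 0x10d5b01) (.leaf (nat_lit 0x10d5a9f) (nat_lit 3076))
 (.node (nat_lit 0x10d5b03) (.leaf (nat_lit 0x10d5b01) (nat_lit 2049))
 (.leaf (nat_lit 0x10d5b03) (nat_lit 2305))
)))))) (.node (nat_lit 0x10d5bcf) (.node (nat_lit 0x10d5b19) (.node (nat_lit 0x10d5b0f) (.node (nat_lit 0x10d5b09) (.node (nat_lit 0x10d5b07) (.leaf (nat_lit 0x10d5b05) (nat_lit 2820))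
 (.leaf (nat_lit 0x10d5b07) (nat_lit 2817))
) (.node (nat_lit 0x10d5b0b) (.leaf (nat_lit 0x10d5b09) (nat_lit 3073))
 (.node (nat_lit 0x10d5b0d) (.leaf (nat_lit 0x10d5b0b) (nat_lit 3076))
 (.leaf (nat_lit 0x10d5b0d) (nat_lit 2561))
))) (.node (nat_lit 0x10d5b13) (.node (nat_lit 0x10d5b11) (.leaf (nat_lit 0x10d5b0f) (nat_lit 2305))
 (.leaf (nat_lit 0x10d5b11) (nat_lit 3328))
) (.node (nat_lit 0x10d5b15) (.leaf (nat_lit 0x10d5b13) (nat_lit 3332))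
 (.node (nat_lit 0x10d5b17) (.leaf (nat_lit 0x10d5b15) (nat_lit 2816))
 (.leaf (nat_lit 0x10d5b17) (nat_lit 2560))
)))) (.node (nat_lit 0x10d5bc3) (.node (nat_lit 0x10d5b1d) (.node (nat_lit 0x10d5b1b) (.leaf (nat_lit 0x10d5b19) (nat_lit 2304))
 (.leaf (nat_lit 0x10d5b1b) (nat_lit 2560))
) (.node (nat_lit 0x10d5b1f) (.leaf (nat_lit 0x10d5b1d) (nat_lit 3076))
 (.node (nat_lit 0x10d5bc1) (.leaf (nat_lit 0x10d5b1f) (nat_lit 3072))
 (.leaf (nat_lit 0x10d5bc1) (nat_lit 2308))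
))) (.node (nat_lit 0x10d5bc9) (.node (nat_lit 0x10d5bc5) (.leaf (nat_lit 0x10d5bc3) (nat_lit 2564))
 (.node (nat_lit 0x10d5bc7) (.leaf (nat_lit 0x10d5bc5) (nat_lit 2564))
 (.leaf (nat_lit 0x10d5bc7) (nat_lit 2820))
)) (.node (nat_lit 0x10d5bcb) (.leaf (nat_lit 0x10d5bc9) (nat_lit 2564))
 (.node (nat_lit 0x10d5bcd) (.leaf (nat_lit 0x10d5bcb) (nat_lit 2820))
 (.leaf (nat_lit 0x10d5bcd) (nat_lit 2817))
))))) (.node (nat_lit 0x10d6083) (.node (nat_lit 0x10d5bd9) (.node (nat_lit 0x10d5bd3) (.node (nat_lit 0x10d5bd1) (.leaf (nat_lit 0x10d5bcf) (nat_lit 3073))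
 (.leaf (nat_lit 0x10d5bd1) (nat_lit 3328))
) (.node (nat_lit 0x10d5bd5) (.leaf (nat_lit 0x10d5bd3) (nat_lit 3072))
 (.node (nat_lit 0x10d5bd7) (.leaf (nat_lit 0x10d5bd5) (nat_lit 3076))
 (.leaf (nat_lit 0x10d5bd7) (nat_lit 2820))
))) (.node (nat_lit 0x10d5bdd) (.node (nat_lit 0x10d5bdb) (.leaf (nat_lit 0x10d5bd9) (nat_lit 3076))
 (.leaf (nat_lit 0x10d5bdb) (nat_lit 2820))
) (.node (nat_lit 0x10d5bdf) (.leaf (nat_lit 0x10d5bdd) (nat_lit 2820))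
 (.node (nat_lit 0x10d6081) (.leaf (nat_lit 0x10d5bdf) (nat_lit 2564))
 (.leaf (nat_lit 0x10d6081) (nat_lit 1538))
)))) (.node (nat_lit 0x10d608d) (.node (nat_lit 0x10d6087) (.node (nat_lit 0x10d6085) (.leaf (nat_lit 0x10d6083) (nat_lit 1794))
 (.leaf (nat_lit 0x10d6085) (nat_lit 1794))
) (.node (nat_lit 0x10d6089) (.leaf (nat_lit 0x10d6087) (nat_lit 1794))
 (.node (nat_lit 0x10d608b) (.leaf (nat_lit 0x10d6089) (nat_lit 3074))
 (.leaf (nat_lit 0x10d608b) (nat_lit 2818))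
))) (.node (nat_lit 0x10d6093) (.node (nat_lit 0x10d608f) (.leaf (nat_lit 0x10d608d) (nat_lit 2818))
 (.node (nat_lit 0x10d6091) (.leaf (nat_lit 0x10d608f) (nat_lit 2562))
 (.leaf (nat_lit 0x10d6091) (nat_lit 3331))
)) (.node (nat_lit 0x10d6095) (.leaf (nat_lit 0x10d6093) (nat_lit 3075))
 (.node (nat_lit 0x10d6097) (.leaf (nat_lit 0x10d6095) (nat_lit 3331))
 (.leaf (nat_lit 0x10d6097) (nat_lit 3075))
))))))) (.node (nat_lit 0x10d61cd) (.node (nat_lit 0x10d6183) (.node (nat_lit 0x10d60cd) (.node (nat_lit 0x10d60c3) (.node (nat_lit 0x10d609d) (.node (nat_lit 0x10d609b) (.leaf (nat_lit 0x10d6099) (nat_lit 2561))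
 (.leaf (nat_lit 0x10d609b) (nat_lit 2561))
) (.node (nat_lit 0x10d609f) (.leaf (nat_lit 0x10d609d) (nat_lit 2305))
 (.node (nat_lit 0x10d60c1) (.leaf (nat_lit 0x10d609f) (nat_lit 2305))
 (.leaf (nat_lit 0x10d60c1) (nat_lit 1282))
))) (.node (nat_lit 0x10d60c7) (.node (nat_lit 0x10d60c5) (.leaf (nat_lit 0x10d60c3) (nat_lit 1538))
 (.leaf (nat_lit 0x10d60c5) (nat_lit 1794))
) (.node (nat_lit 0x10d60c9) (.leaf (nat_lit 0x10d60c7) (nat_lit 1538))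
 (.node (nat_lit 0x10d60cb) (.leaf (nat_lit 0x10d60c9) (nat_lit 2818))
 (.leaf (nat_lit 0x10d60cb) (nat_lit 2562))
)))) (.node (nat_lit 0x10d60d7) (.node (nat_lit 0x10d60d1) (.node (nat_lit 0x10d60cf) (.leaf (nat_lit 0x10d60cd) (nat_lit 2562))
 (.leaf (nat_lit 0x10d60cf) (nat_lit 2562))
) (.node (nat_lit 0x10d60d3) (.leaf (nat_lit 0x10d60d1) (nat_lit 3075))
 (.node (nat_lit 0x10d60d5) (.leaf (nat_lit 0x10d60d3) (nat_lit 2819))
 (.leaf (nat_lit 0x10d60d5) (nat_lit 2819))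
))) (.node (nat_lit 0x10d60dd) (.node (nat_lit 0x10d60d9) (.leaf (nat_lit 0x10d60d7) (nat_lit 3075))
 (.node (nat_lit 0x10d60db) (.leaf (nat_lit 0x10d60d9) (nat_lit 2305))
 (.leaf (nat_lit 0x10d60db) (nat_lit 2561))
)) (.node (nat_lit 0x10d60df) (.leaf (nat_lit 0x10d60dd) (nat_lit 2305))
 (.node (nat_lit 0x10d6181) (.leaf (nat_lit 0x10d60df) (nat_lit 2049))
 (.leaf (nat_lit 0x10d6181) (nat_lit 1794))
))))) (.node (nat_lit 0x10d6197) (.node (nat_lit 0x10d618d) (.node (nat_lit 0x10d6187) (.node (nat_lit 0x10d6185) (.leaf (nat_lit 0x10d6183) (nat_lit 2050))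
 (.leaf (nat_lit 0x10d6185) (nat_lit 2562))
) (.node (nat_lit 0x10d6189) (.leaf (nat_lit 0x10d6187) (nat_lit 2306))
 (.node (nat_lit 0x10d618b) (.leaf (nat_lit 0x10d6189) (nat_lit 2818))
 (.leaf (nat_lit 0x10d618b) (nat_lit 2562))
))) (.node (nat_lit 0x10d6191) (.node (nat_lit 0x10d618f) (.leaf (nat_lit 0x10d618d) (nat_lit 2050))
 (.leaf (nat_lit 0x10d618f) (nat_lit 2050))
) (.node (nat_lit 0x10d6193) (.leaf (nat_lit 0x10d6191) (nat_lit 3331))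
 (.node (nat_lit 0x10d6195) (.leaf (nat_lit 0x10d6193) (nat_lit 3075))
 (.leaf (nat_lit 0x10d6195) (nat_lit 2561))
)))) (.node (nat_lit 0x10d61c1) (.node (nat_lit 0x10d619b) (.node (nat_lit 0x10d6199) (.leaf (nat_lit 0x10d6197) (nat_lit 2561))
 (.leaf (nat_lit 0x10d6199) (nat_lit 2817))
) (.node (nat_lit 0x10d619d) (.leaf (nat_lit 0x10d619b) (nat_lit 2817))
 (.node (nat_lit 0x10d619f) (.leaf (nat_lit 0x10d619d) (nat_lit 3331))
 (.leaf (nat_lit 0x10d619f) (nat_lit 3075))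
))) (.node (nat_lit 0x10d61c7) (.node (nat_lit 0x10d61c3) (.leaf (nat_lit 0x10d61c1) (nat_lit 1538))
 (.node (nat_lit 0x10d61c5) (.leaf (nat_lit 0x10d61c3) (nat_lit 1794))
 (.leaf (nat_lit 0x10d61c5) (nat_lit 2562))
)) (.node (nat_lit 0x10d61c9) (.leaf (nat_lit 0x10d61c7) (nat_lit 2306))
 (.node (nat_lit 0x10d61cb) (.leaf (nat_lit 0x10d61c9) (nat_lit 2562))
 (.leaf (nat_lit 0x10d61cb) (nat_lit 2818))
)))))) (.node (nat_lit 0x10d6297) (.node (nat_lit 0x10d6281) (.node (nat_lit 0x10d61d7) (.node (nat_lit 0x10d61d1) (.node (nat_lit 0x10d61cf) (.leaf (nat_lit 0x10d61cd) (nat_lit 2050))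
 (.leaf (nat_lit 0x10d61cf) (nat_lit 1794))
) (.node (nat_lit 0x10d61d3) (.leaf (nat_lit 0x10d61d1) (nat_lit 3073))
 (.node (nat_lit 0x10d61d5) (.leaf (nat_lit 0x10d61d3) (nat_lit 3075))
 (.leaf (nat_lit 0x10d61d5) (nat_lit 2561))
))) (.node (nat_lit 0x10d61db) (.node (nat_lit 0x10d61d9) (.leaf (nat_lit 0x10d61d7) (nat_lit 2305))
 (.leaf (nat_lit 0x10d61d9) (nat_lit 2561))
) (.node (nat_lit 0x10d61dd) (.leaf (nat_lit 0x10d61db) (nat_lit 2817))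
 (.node (nat_lit 0x10d61df) (.leaf (nat_lit 0x10d61dd) (nat_lit 3075))
 (.leaf (nat_lit 0x10d61df) (nat_lit 3331))
)))) (.node (nat_lit 0x10d628b) (.node (nat_lit 0x10d6285) (.node (nat_lit 0x10d6283) (.leaf (nat_lit 0x10d6281) (nat_lit 2049))
 (.leaf (nat_lit 0x10d6283) (nat_lit 2305))
) (.node (nat_lit 0x10d6287) (.leaf (nat_lit 0x10d6285) (nat_lit 2819))
 (.node (nat_lit 0x10d6289) (.leaf (nat_lit 0x10d6287) (nat_lit 2563))
 (.leaf (nat_lit 0x10d6289) (nat_lit 3073))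
))) (.node (nat_lit 0x10d6291) (.node (nat_lit 0x10d628d) (.leaf (nat_lit 0x10d628b) (nat_lit 2817))
 (.node (nat_lit 0x10d628f) (.leaf (nat_lit 0x10d628d) (nat_lit 2305))
 (.leaf (nat_lit 0x10d628f) (nat_lit 2305))
)) (.node (nat_lit 0x10d6293) (.leaf (nat_lit 0x10d6291) (nat_lit 3075))
 (.node (nat_lit 0x10d6295) (.leaf (nat_lit 0x10d6293) (nat_lit 2819))
 (.leaf (nat_lit 0x10d6295) (nat_lit 2304))
))))) (.node (nat_lit 0x10d62cb) (.node (nat_lit 0x10d62c1) (.node (nat_lit 0x10d629b) (.node (nat_lit 0x10d6299) (.leaf (nat_lit 0x10d6297) (nat_lit 2306))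
 (.leaf (nat_lit 0x10d6299) (nat_lit 2560))
) (.node (nat_lit 0x10d629d) (.leaf (nat_lit 0x10d629b) (nat_lit 2560))
 (.node (nat_lit 0x10d629f) (.leaf (nat_lit 0x10d629d) (nat_lit 3328))
 (.leaf (nat_lit 0x10d629f) (nat_lit 3072))
))) (.node (nat_lit 0x10d62c5) (.node (nat_lit 0x10d62c3) (.leaf (nat_lit 0x10d62c1) (nat_lit 1793))
 (.leaf (nat_lit 0x10d62c3) (nat_lit 2049))
) (.node (nat_lit 0x10d62c7) (.leaf (nat_lit 0x10d62c5) (nat_lit 2817))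
 (.node (nat_lit 0x10d62c9) (.leaf (nat_lit 0x10d62c7) (nat_lit 2561))
 (.leaf (nat_lit 0x10d62c9) (nat_lit 2817))
)))) (.node (nat_lit 0x10d62d5) (.node (nat_lit 0x10d62cf) (.node (nat_lit 0x10d62cd) (.leaf (nat_lit 0x10d62cb) (nat_lit 3073))
 (.leaf (nat_lit 0x10d62cd) (nat_lit 2305))
) (.node (nat_lit 0x10d62d1) (.leaf (nat_lit 0x10d62cf) (nat_lit 2049))
 (.node (nat_lit 0x10d62d3) (.leaf (nat_lit 0x10d62d1) (nat_lit 2816))
 (.leaf (nat_lit 0x10d62d3) (nat_lit 3072))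
))) (.node (nat_lit 0x10d62db) (.node (nat_lit 0x10d62d7) (.leaf (nat_lit 0x10d62d5) (nat_lit 2304))
 (.node (nat_lit 0x10d62d9) (.leaf (nat_lit 0x10d62d7) (nat_lit 2048))
 (.leaf (nat_lit 0x10d62d9) (nat_lit 2304))
)) (.node (nat_lit 0x10d62dd) (.leaf (nat_lit 0x10d62db) (nat_lit 2560))
 (.node (nat_lit 0x10d62df) (.leaf (nat_lit 0x10d62dd) (nat_lit 3328))
 (.leaf (nat_lit 0x10d62df) (nat_lit 3072))
)))))))))) (.node (nat_lit 0x10e0941) (.node (nat_lit 0x10d7851) (.node (nat_lit 0x10d71c9) (.node (nat_lit 0x10d7055) (.node (nat_lit 0x10d63cb) (.node (nat_lit 0x10d6395) (.node (nat_lit 0x10d638b) (.node (nat_lit 0x10d6385) (.node (nat_lit 0x10d6383) (.leaf (nat_lit 0x10d6381) (nat_lit 1793))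
 (.leaf (nat_lit 0x10d6383) (nat_lit 2049))
) (.node (nat_lit 0x10d6387) (.leaf (nat_lit 0x10d6385) (nat_lit 2049))
 (.node (nat_lit 0x10d6389) (.leaf (nat_lit 0x10d6387) (nat_lit 2049))
 (.leaf (nat_lit 0x10d6389) (nat_lit 3329))
))) (.node (nat_lit 0x10d638f) (.node (nat_lit 0x10d638d) (.leaf (nat_lit 0x10d638b) (nat_lit 3073))
 (.leaf (nat_lit 0x10d638d) (nat_lit 3075))
) (.node (nat_lit 0x10d6391) (.leaf (nat_lit 0x10d638f) (nat_lit 2819))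
 (.node (nat_lit 0x10d6393) (.leaf (nat_lit 0x10d6391) (nat_lit 3331))
 (.leaf (nat_lit 0x10d6393) (nat_lit 3075))
)))) (.node (nat_lit 0x10d639f) (.node (nat_lit 0x10d6399) (.node (nat_lit 0x10d6397) (.leaf (nat_lit 0x10d6395) (nat_lit 3584))
 (.leaf (nat_lit 0x10d6397) (nat_lit 3328))
) (.node (nat_lit 0x10d639b) (.leaf (nat_lit 0x10d6399) (nat_lit 2304))
 (.node (nat_lit 0x10d639d) (.leaf (nat_lit 0x10d639b) (nat_lit 2304))
 (.leaf (nat_lit 0x10d639d) (nat_lit 2048))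
))) (.node (nat_lit 0x10d63c5) (.node (nat_lit 0x10d63c1) (.leaf (nat_lit 0x10d639f) (nat_lit 2050))
 (.node (nat_lit 0x10d63c3) (.leaf (nat_lit 0x10d63c1) (nat_lit 1537))
 (.leaf (nat_lit 0x10d63c3) (nat_lit 1793))
)) (.node (nat_lit 0x10d63c7) (.leaf (nat_lit 0x10d63c5) (nat_lit 2049))
 (.node (nat_lit 0x10d63c9) (.leaf (nat_lit 0x10d63c7) (nat_lit 1793))
 (.leaf (nat_lit 0x10d63c9) (nat_lit 3073))
))))) (.node (nat_lit 0x10d63df) (.node (nat_lit 0x10d63d5) (.node (nat_lit 0x10d63cf) (.node (nat_lit 0x10d63cd) (.leaf (nat_lit 0x10d63cb) (nat_lit 2817))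
 (.leaf (nat_lit 0x10d63cd) (nat_lit 2819))
) (.node (nat_lit 0x10d63d1) (.leaf (nat_lit 0x10d63cf) (nat_lit 2817))
 (.node (nat_lit 0x10d63d3) (.leaf (nat_lit 0x10d63d1) (nat_lit 3072))
 (.leaf (nat_lit 0x10d63d3) (nat_lit 3075))
))) (.node (nat_lit 0x10d63d9) (.node (nat_lit 0x10d63d7) (.leaf (nat_lit 0x10d63d5) (nat_lit 3072))
 (.leaf (nat_lit 0x10d63d7) (nat_lit 3328))
) (.node (nat_lit 0x10d63db) (.leaf (nat_lit 0x10d63d9) (nat_lit 2048))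
 (.node (nat_lit 0x10d63dd) (.leaf (nat_lit 0x10d63db) (nat_lit 2304))
 (.leaf (nat_lit 0x10d63dd) (nat_lit 2048))
)))) (.node (nat_lit 0x10d7049) (.node (nat_lit 0x10d7043) (.node (nat_lit 0x10d7041) (.leaf (nat_lit 0x10d63df) (nat_lit 1792))
 (.leaf (nat_lit 0x10d7041) (nat_lit 1282))
) (.node (nat_lit 0x10d7045) (.leaf (nat_lit 0x10d7043) (nat_lit 1538))
 (.node (nat_lit 0x10d7047) (.leaf (nat_lit 0x10d7045) (nat_lit 2050))
 (.leaf (nat_lit 0x10d7047) (nat_lit 2050))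
))) (.node (nat_lit 0x10d704f) (.node (nat_lit 0x10d704b) (.leaf (nat_lit 0x10d7049) (nat_lit 2562))
 (.node (nat_lit 0x10d704d) (.leaf (nat_lit 0x10d704b) (nat_lit 2562))
 (.leaf (nat_lit 0x10d704d) (nat_lit 2818))
)) (.node (nat_lit 0x10d7051) (.leaf (nat_lit 0x10d704f) (nat_lit 2562))
 (.node (nat_lit 0x10d7053) (.leaf (nat_lit 0x10d7051) (nat_lit 3329))
 (.leaf (nat_lit 0x10d7053) (nat_lit 3585))
)))))) (.node (nat_lit 0x10d709f) (.node (nat_lit 0x10d7089) (.node (nat_lit 0x10d705f) (.node (nat_lit 0x10d7059) (.node (nat_lit 0x10d7057) (.leaf (nat_lit 0x10d7055) (nat_lit 2819))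
 (.leaf (nat_lit 0x10d7057) (nat_lit 2819))
) (.node (nat_lit 0x10d705b) (.leaf (nat_lit 0x10d7059) (nat_lit 2562))
 (.node (nat_lit 0x10d705d) (.leaf (nat_lit 0x10d705b) (nat_lit 2562))
 (.leaf (nat_lit 0x10d705d) (nat_lit 2305))
))) (.node (nat_lit 0x10d7083) (.node (nat_lit 0x10d7081) (.leaf (nat_lit 0x10d705f) (nat_lit 2049))
 (.leaf (nat_lit 0x10d7081) (nat_lit 1538))
) (.node (nat_lit 0x10d7085) (.leaf (nat_lit 0x10d7083) (nat_lit 1794))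
 (.node (nat_lit 0x10d7087) (.leaf (nat_lit 0x10d7085) (nat_lit 1794))
 (.leaf (nat_lit 0x10d7087) (nat_lit 2050))
)))) (.node (nat_lit 0x10d7093) (.node (nat_lit 0x10d708d) (.node (nat_lit 0x10d708b) (.leaf (nat_lit 0x10d7089) (nat_lit 2818))
 (.leaf (nat_lit 0x10d708b) (nat_lit 2818))
) (.node (nat_lit 0x10d708f) (.leaf (nat_lit 0x10d708d) (nat_lit 3074))
 (.node (nat_lit 0x10d7091) (.leaf (nat_lit 0x10d708f) (nat_lit 2818))
 (.leaf (nat_lit 0x10d7091) (nat_lit 3331))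
))) (.node (nat_lit 0x10d7099) (.node (nat_lit 0x10d7095) (.leaf (nat_lit 0x10d7093) (nat_lit 3075))
 (.node (nat_lit 0x10d7097) (.leaf (nat_lit 0x10d7095) (nat_lit 3589))
 (.leaf (nat_lit 0x10d7097) (nat_lit 3333))
)) (.node (nat_lit 0x10d709b) (.leaf (nat_lit 0x10d7099) (nat_lit 2305))
 (.node (nat_lit 0x10d709d) (.leaf (nat_lit 0x10d709b) (nat_lit 2561))
 (.leaf (nat_lit 0x10d709d) (nat_lit 2565))
))))) (.node (nat_lit 0x10d7113) (.node (nat_lit 0x10d7109) (.node (nat_lit 0x10d7103) (.node (nat_lit 0x10d7101) (.leaf (nat_lit 0x10d709f) (nat_lit 2565))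
 (.leaf (nat_lit 0x10d7101) (nat_lit 2050))
) (.node (nat_lit 0x10d7105) (.leaf (nat_lit 0x10d7103) (nat_lit 2306))
 (.node (nat_lit 0x10d7107) (.leaf (nat_lit 0x10d7105) (nat_lit 2562))
 (.leaf (nat_lit 0x10d7107) (nat_lit 2562))
))) (.node (nat_lit 0x10d710d) (.node (nat_lit 0x10d710b) (.leaf (nat_lit 0x10d7109) (nat_lit 2306))
 (.leaf (nat_lit 0x10d710b) (nat_lit 2562))
) (.node (nat_lit 0x10d710f) (.leaf (nat_lit 0x10d710d) (nat_lit 2818))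
 (.node (nat_lit 0x10d7111) (.leaf (nat_lit 0x10d710f) (nat_lit 2562))
 (.leaf (nat_lit 0x10d7111) (nat_lit 3329))
)))) (.node (nat_lit 0x10d711d) (.node (nat_lit 0x10d7117) (.node (nat_lit 0x10d7115) (.leaf (nat_lit 0x10d7113) (nat_lit 3073))
 (.leaf (nat_lit 0x10d7115) (nat_lit 2817))
) (.node (nat_lit 0x10d7119) (.leaf (nat_lit 0x10d7117) (nat_lit 3073))
 (.node (nat_lit 0x10d711b) (.leaf (nat_lit 0x10d7119) (nat_lit 3584))
 (.leaf (nat_lit 0x10d711b) (nat_lit 3328))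
))) (.node (nat_lit 0x10d71c3) (.node (nat_lit 0x10d711f) (.leaf (nat_lit 0x10d711d) (nat_lit 3072))
 (.node (nat_lit 0x10d71c1) (.leaf (nat_lit 0x10d711f) (nat_lit 3075))
 (.leaf (nat_lit 0x10d71c1) (nat_lit 2050))
)) (.node (nat_lit 0x10d71c5) (.leaf (nat_lit 0x10d71c3) (nat_lit 2306))
 (.node (nat_lit 0x10d71c7) (.leaf (nat_lit 0x10d71c5) (nat_lit 2562))
 (.leaf (nat_lit 0x10d71c7) (nat_lit 2306))
))))))) (.node (nat_lit 0x10d729d) (.node (nat_lit 0x10d7253) (.node (nat_lit 0x10d71dd) (.node (nat_lit 0x10d71d3) (.node (nat_lit 0x10d71cd) (.node (nat_lit 0x10d71cb) (.leaf (nat_lit 0x10d71c9) (nat_lit 2562))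
 (.leaf (nat_lit 0x10d71cb) (nat_lit 2818))
) (.node (nat_lit 0x10d71cf) (.leaf (nat_lit 0x10d71cd) (nat_lit 2562))
 (.node (nat_lit 0x10d71d1) (.leaf (nat_lit 0x10d71cf) (nat_lit 2306))
 (.leaf (nat_lit 0x10d71d1) (nat_lit 3073))
))) (.node (nat_lit 0x10d71d7) (.node (nat_lit 0x10d71d5) (.leaf (nat_lit 0x10d71d3) (nat_lit 2817))
 (.leaf (nat_lit 0x10d71d5) (nat_lit 3073))
) (.node (nat_lit 0x10d71d9) (.leaf (nat_lit 0x10d71d7) (nat_lit 3329))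
 (.node (nat_lit 0x10d71db) (.leaf (nat_lit 0x10d71d9) (nat_lit 3333))
 (.leaf (nat_lit 0x10d71db) (nat_lit 3077))
)))) (.node (nat_lit 0x10d7247) (.node (nat_lit 0x10d7241) (.node (nat_lit 0x10d71df) (.leaf (nat_lit 0x10d71dd) (nat_lit 2821))
 (.leaf (nat_lit 0x10d71df) (nat_lit 3077))
) (.node (nat_lit 0x10d7243) (.leaf (nat_lit 0x10d7241) (nat_lit 2305))
 (.node (nat_lit 0x10d7245) (.leaf (nat_lit 0x10d7243) (nat_lit 2561))
 (.leaf (nat_lit 0x10d7245) (nat_lit 2817))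
))) (.node (nat_lit 0x10d724d) (.node (nat_lit 0x10d7249) (.leaf (nat_lit 0x10d7247) (nat_lit 2561))
 (.node (nat_lit 0x10d724b) (.leaf (nat_lit 0x10d7249) (nat_lit 2817))
 (.leaf (nat_lit 0x10d724b) (nat_lit 3073))
)) (.node (nat_lit 0x10d724f) (.leaf (nat_lit 0x10d724d) (nat_lit 2817))
 (.node (nat_lit 0x10d7251) (.leaf (nat_lit 0x10d724f) (nat_lit 2561))
 (.leaf (nat_lit 0x10d7251) (nat_lit 2816))
))))) (.node (nat_lit 0x10d7287) (.node (nat_lit 0x10d725d) (.node (nat_lit 0x10d7257) (.node (nat_lit 0x10d7255) (.leaf (nat_lit 0x10d7253) (nat_lit 2560))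
 (.leaf (nat_lit 0x10d7255) (nat_lit 2816))
) (.node (nat_lit 0x10d7259) (.leaf (nat_lit 0x10d7257) (nat_lit 3072))
 (.node (nat_lit 0x10d725b) (.leaf (nat_lit 0x10d7259) (nat_lit 3328))
 (.leaf (nat_lit 0x10d725b) (nat_lit 3072))
))) (.node (nat_lit 0x10d7281) (.node (nat_lit 0x10d725f) (.leaf (nat_lit 0x10d725d) (nat_lit 2816))
 (.leaf (nat_lit 0x10d725f) (nat_lit 3072))
) (.node (nat_lit 0x10d7283) (.leaf (nat_lit 0x10d7281) (nat_lit 2309))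
 (.node (nat_lit 0x10d7285) (.leaf (nat_lit 0x10d7283) (nat_lit 2565))
 (.leaf (nat_lit 0x10d7285) (nat_lit 2821))
)))) (.node (nat_lit 0x10d7291) (.node (nat_lit 0x10d728b) (.node (nat_lit 0x10d7289) (.leaf (nat_lit 0x10d7287) (nat_lit 2565))
 (.leaf (nat_lit 0x10d7289) (nat_lit 2561))
) (.node (nat_lit 0x10d728d) (.leaf (nat_lit 0x10d728b) (nat_lit 2817))
 (.node (nat_lit 0x10d728f) (.leaf (nat_lit 0x10d728d) (nat_lit 3073))
 (.leaf (nat_lit 0x10d728f) (nat_lit 2817))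
))) (.node (nat_lit 0x10d7297) (.node (nat_lit 0x10d7293) (.leaf (nat_lit 0x10d7291) (nat_lit 3077))
 (.node (nat_lit 0x10d7295) (.leaf (nat_lit 0x10d7293) (nat_lit 2821))
 (.leaf (nat_lit 0x10d7295) (nat_lit 2565))
)) (.node (nat_lit 0x10d7299) (.leaf (nat_lit 0x10d7297) (nat_lit 2821))
 (.node (nat_lit 0x10d729b) (.leaf (nat_lit 0x10d7299) (nat_lit 3328))
 (.leaf (nat_lit 0x10d729b) (nat_lit 3072))
)))))) (.node (nat_lit 0x10d73c7) (.node (nat_lit 0x10d7311) (.node (nat_lit 0x10d7307) (.node (nat_lit 0x10d7301) (.node (nat_lit 0x10d729f) (.leaf (nat_lit 0x10d729d) (nat_lit 2816))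
 (.leaf (nat_lit 0x10d729f) (nat_lit 3072))
) (.node (nat_lit 0x10d7303) (.leaf (nat_lit 0x10d7301) (nat_lit 1793))
 (.node (nat_lit 0x10d7305) (.leaf (nat_lit 0x10d7303) (nat_lit 2049))
 (.leaf (nat_lit 0x10d7305) (nat_lit 2049))
))) (.node (nat_lit 0x10d730b) (.node (nat_lit 0x10d7309) (.leaf (nat_lit 0x10d7307) (nat_lit 2305))
 (.leaf (nat_lit 0x10d7309) (nat_lit 3073))
) (.node (nat_lit 0x10d730d) (.leaf (nat_lit 0x10d730b) (nat_lit 3073))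
 (.node (nat_lit 0x10d730f) (.leaf (nat_lit 0x10d730d) (nat_lit 3329))
 (.leaf (nat_lit 0x10d730f) (nat_lit 3073))
)))) (.node (nat_lit 0x10d731b) (.node (nat_lit 0x10d7315) (.node (nat_lit 0x10d7313) (.leaf (nat_lit 0x10d7311) (nat_lit 3328))
 (.leaf (nat_lit 0x10d7313) (nat_lit 3328))
) (.node (nat_lit 0x10d7317) (.leaf (nat_lit 0x10d7315) (nat_lit 3584))
 (.node (nat_lit 0x10d7319) (.leaf (nat_lit 0x10d7317) (nat_lit 3328))
 (.leaf (nat_lit 0x10d7319) (nat_lit 2048))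
))) (.node (nat_lit 0x10d73c1) (.node (nat_lit 0x10d731d) (.leaf (nat_lit 0x10d731b) (nat_lit 2304))
 (.node (nat_lit 0x10d731f) (.leaf (nat_lit 0x10d731d) (nat_lit 2304))
 (.leaf (nat_lit 0x10d731f) (nat_lit 2560))
)) (.node (nat_lit 0x10d73c3) (.leaf (nat_lit 0x10d73c1) (nat_lit 1541))
 (.node (nat_lit 0x10d73c5) (.leaf (nat_lit 0x10d73c3) (nat_lit 1797))
 (.leaf (nat_lit 0x10d73c5) (nat_lit 2305))
))))) (.node (nat_lit 0x10d73db) (.node (nat_lit 0x10d73d1) (.node (nat_lit 0x10d73cb) (.node (nat_lit 0x10d73c9) (.leaf (nat_lit 0x10d73c7) (nat_lit 2309))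
 (.leaf (nat_lit 0x10d73c9) (nat_lit 2819))
) (.node (nat_lit 0x10d73cd) (.leaf (nat_lit 0x10d73cb) (nat_lit 2817))
 (.node (nat_lit 0x10d73cf) (.leaf (nat_lit 0x10d73cd) (nat_lit 3077))
 (.leaf (nat_lit 0x10d73cf) (nat_lit 2821))
))) (.node (nat_lit 0x10d73d5) (.node (nat_lit 0x10d73d3) (.leaf (nat_lit 0x10d73d1) (nat_lit 3077))
 (.leaf (nat_lit 0x10d73d3) (nat_lit 3333))
) (.node (nat_lit 0x10d73d7) (.leaf (nat_lit 0x10d73d5) (nat_lit 3072))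
 (.node (nat_lit 0x10d73d9) (.leaf (nat_lit 0x10d73d7) (nat_lit 3075))
 (.leaf (nat_lit 0x10d73d9) (nat_lit 2565))
)))) (.node (nat_lit 0x10d7845) (.node (nat_lit 0x10d73df) (.node (nat_lit 0x10d73dd) (.leaf (nat_lit 0x10d73db) (nat_lit 2560))
 (.leaf (nat_lit 0x10d73dd) (nat_lit 2053))
) (.node (nat_lit 0x10d7841) (.leaf (nat_lit 0x10d73df) (nat_lit 1797))
 (.node (nat_lit 0x10d7843) (.leaf (nat_lit 0x10d7841) (nat_lit 1284))
 (.leaf (nat_lit 0x10d7843) (nat_lit 1540))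
))) (.node (nat_lit 0x10d784b) (.node (nat_lit 0x10d7847) (.leaf (nat_lit 0x10d7845) (nat_lit 2308))
 (.node (nat_lit 0x10d7849) (.leaf (nat_lit 0x10d7847) (nat_lit 2052))
 (.leaf (nat_lit 0x10d7849) (nat_lit 2820))
)) (.node (nat_lit 0x10d784d) (.leaf (nat_lit 0x10d784b) (nat_lit 2820))
 (.node (nat_lit 0x10d784f) (.leaf (nat_lit 0x10d784d) (nat_lit 2562))
 (.leaf (nat_lit 0x10d784f) (nat_lit 2564))
)))))))) (.node (nat_lit 0x10d7ad9) (.node (nat_lit 0x10d7985) (.node (nat_lit 0x10d78db) (.node (nat_lit 0x10d78c5) (.node (nat_lit 0x10d785b) (.node (nat_lit 0x10d7855) (.node (nat_lit 0x10d7853) (.leaf (nat_lit 0x10d7851) (nat_lit 3332))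
 (.leaf (nat_lit 0x10d7853) (nat_lit 3332))
) (.node (nat_lit 0x10d7857) (.leaf (nat_lit 0x10d7855) (nat_lit 3077))
 (.node (nat_lit 0x10d7859) (.leaf (nat_lit 0x10d7857) (nat_lit 3076))
 (.leaf (nat_lit 0x10d7859) (nat_lit 2564))
))) (.node (nat_lit 0x10d785f) (.node (nat_lit 0x10d785d) (.leaf (nat_lit 0x10d785b) (nat_lit 2564))
 (.leaf (nat_lit 0x10d785d) (nat_lit 2052))
) (.node (nat_lit 0x10d78c1) (.leaf (nat_lit 0x10d785f) (nat_lit 2052))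
 (.node (nat_lit 0x10d78c3) (.leaf (nat_lit 0x10d78c1) (nat_lit 1541))
 (.leaf (nat_lit 0x10d78c3) (nat_lit 1797))
)))) (.node (nat_lit 0x10d78cf) (.node (nat_lit 0x10d78c9) (.node (nat_lit 0x10d78c7) (.leaf (nat_lit 0x10d78c5) (nat_lit 2053))
 (.leaf (nat_lit 0x10d78c7) (nat_lit 1797))
) (.node (nat_lit 0x10d78cb) (.leaf (nat_lit 0x10d78c9) (nat_lit 2818))
 (.node (nat_lit 0x10d78cd) (.leaf (nat_lit 0x10d78cb) (nat_lit 2821))
 (.leaf (nat_lit 0x10d78cd) (nat_lit 2820))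
))) (.node (nat_lit 0x10d78d5) (.node (nat_lit 0x10d78d1) (.leaf (nat_lit 0x10d78cf) (nat_lit 2821))
 (.node (nat_lit 0x10d78d3) (.leaf (nat_lit 0x10d78d1) (nat_lit 3333))
 (.leaf (nat_lit 0x10d78d3) (nat_lit 3077))
)) (.node (nat_lit 0x10d78d7) (.leaf (nat_lit 0x10d78d5) (nat_lit 3077))
 (.node (nat_lit 0x10d78d9) (.leaf (nat_lit 0x10d78d7) (nat_lit 3333))
 (.leaf (nat_lit 0x10d78d9) (nat_lit 2305))
))))) (.node (nat_lit 0x10d790f) (.node (nat_lit 0x10d7905) (.node (nat_lit 0x10d78df) (.node (nat_lit 0x10d78dd) (.leaf (nat_lit 0x10d78db) (nat_lit 2561))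
 (.leaf (nat_lit 0x10d78dd) (nat_lit 2565))
) (.node (nat_lit 0x10d7901) (.leaf (nat_lit 0x10d78df) (nat_lit 2309))
 (.node (nat_lit 0x10d7903) (.leaf (nat_lit 0x10d7901) (nat_lit 2306))
 (.leaf (nat_lit 0x10d7903) (nat_lit 2562))
))) (.node (nat_lit 0x10d7909) (.node (nat_lit 0x10d7907) (.leaf (nat_lit 0x10d7905) (nat_lit 2565))
 (.leaf (nat_lit 0x10d7907) (nat_lit 2562))
) (.node (nat_lit 0x10d790b) (.leaf (nat_lit 0x10d7909) (nat_lit 2562))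
 (.node (nat_lit 0x10d790d) (.leaf (nat_lit 0x10d790b) (nat_lit 2818))
 (.leaf (nat_lit 0x10d790d) (nat_lit 2562))
)))) (.node (nat_lit 0x10d7919) (.node (nat_lit 0x10d7913) (.node (nat_lit 0x10d7911) (.leaf (nat_lit 0x10d790f) (nat_lit 2818))
 (.leaf (nat_lit 0x10d7911) (nat_lit 3329))
) (.node (nat_lit 0x10d7915) (.leaf (nat_lit 0x10d7913) (nat_lit 3329))
 (.node (nat_lit 0x10d7917) (.leaf (nat_lit 0x10d7915) (nat_lit 3329))
 (.leaf (nat_lit 0x10d7917) (nat_lit 3073))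
))) (.node (nat_lit 0x10d791f) (.node (nat_lit 0x10d791b) (.leaf (nat_lit 0x10d7919) (nat_lit 3588))
 (.node (nat_lit 0x10d791d) (.leaf (nat_lit 0x10d791b) (nat_lit 3332))
 (.leaf (nat_lit 0x10d791d) (nat_lit 3075))
)) (.node (nat_lit 0x10d7981) (.leaf (nat_lit 0x10d791f) (nat_lit 3077))
 (.node (nat_lit 0x10d7983) (.leaf (nat_lit 0x10d7981) (nat_lit 2050))
 (.leaf (nat_lit 0x10d7983) (nat_lit 2306))
)))))) (.node (nat_lit 0x10d7a4f) (.node (nat_lit 0x10d7999) (.node (nat_lit 0x10d798f) (.node (nat_lit 0x10d7989) (.node (nat_lit 0x10d7987) (.leaf (nat_lit 0x10d7985) (nat_lit 2565))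
 (.leaf (nat_lit 0x10d7987) (nat_lit 2564))
) (.node (nat_lit 0x10d798b) (.leaf (nat_lit 0x10d7989) (nat_lit 2821))
 (.node (nat_lit 0x10d798d) (.leaf (nat_lit 0x10d798b) (nat_lit 2820))
 (.leaf (nat_lit 0x10d798d) (nat_lit 2306))
))) (.node (nat_lit 0x10d7993) (.node (nat_lit 0x10d7991) (.leaf (nat_lit 0x10d798f) (nat_lit 2562))
 (.leaf (nat_lit 0x10d7991) (nat_lit 3073))
) (.node (nat_lit 0x10d7995) (.leaf (nat_lit 0x10d7993) (nat_lit 2817))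
 (.node (nat_lit 0x10d7997) (.leaf (nat_lit 0x10d7995) (nat_lit 3332))
 (.leaf (nat_lit 0x10d7997) (nat_lit 3076))
)))) (.node (nat_lit 0x10d7a43) (.node (nat_lit 0x10d799d) (.node (nat_lit 0x10d799b) (.leaf (nat_lit 0x10d7999) (nat_lit 3333))
 (.leaf (nat_lit 0x10d799b) (nat_lit 3333))
) (.node (nat_lit 0x10d799f) (.leaf (nat_lit 0x10d799d) (nat_lit 3077))
 (.node (nat_lit 0x10d7a41) (.leaf (nat_lit 0x10d799f) (nat_lit 2821))
 (.leaf (nat_lit 0x10d7a41) (nat_lit 2305))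
))) (.node (nat_lit 0x10d7a49) (.node (nat_lit 0x10d7a45) (.leaf (nat_lit 0x10d7a43) (nat_lit 2561))
 (.node (nat_lit 0x10d7a47) (.leaf (nat_lit 0x10d7a45) (nat_lit 2817))
 (.leaf (nat_lit 0x10d7a47) (nat_lit 2820))
)) (.node (nat_lit 0x10d7a4b) (.leaf (nat_lit 0x10d7a49) (nat_lit 3073))
 (.node (nat_lit 0x10d7a4d) (.leaf (nat_lit 0x10d7a4b) (nat_lit 3076))
 (.leaf (nat_lit 0x10d7a4d) (nat_lit 2561))
))))) (.node (nat_lit 0x10d7ac3) (.node (nat_lit 0x10d7a59) (.node (nat_lit 0x10d7a53) (.node (nat_lit 0x10d7a51) (.leaf (nat_lit 0x10d7a4f) (nat_lit 2817))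
 (.leaf (nat_lit 0x10d7a51) (nat_lit 2816))
) (.node (nat_lit 0x10d7a55) (.leaf (nat_lit 0x10d7a53) (nat_lit 2560))
 (.node (nat_lit 0x10d7a57) (.leaf (nat_lit 0x10d7a55) (nat_lit 3076))
 (.leaf (nat_lit 0x10d7a57) (nat_lit 3072))
))) (.node (nat_lit 0x10d7a5d) (.node (nat_lit 0x10d7a5b) (.leaf (nat_lit 0x10d7a59) (nat_lit 3332))
 (.leaf (nat_lit 0x10d7a5b) (nat_lit 3332))
) (.node (nat_lit 0x10d7a5f) (.leaf (nat_lit 0x10d7a5d) (nat_lit 3072))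
 (.node (nat_lit 0x10d7ac1) (.leaf (nat_lit 0x10d7a5f) (nat_lit 2816))
 (.leaf (nat_lit 0x10d7ac1) (nat_lit 2565))
)))) (.node (nat_lit 0x10d7acd) (.node (nat_lit 0x10d7ac7) (.node (nat_lit 0x10d7ac5) (.leaf (nat_lit 0x10d7ac3) (nat_lit 2821))
 (.leaf (nat_lit 0x10d7ac5) (nat_lit 2821))
) (.node (nat_lit 0x10d7ac9) (.leaf (nat_lit 0x10d7ac7) (nat_lit 2821))
 (.node (nat_lit 0x10d7acb) (.leaf (nat_lit 0x10d7ac9) (nat_lit 2817))
 (.leaf (nat_lit 0x10d7acb) (nat_lit 3073))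
))) (.node (nat_lit 0x10d7ad3) (.node (nat_lit 0x10d7acf) (.leaf (nat_lit 0x10d7acd) (nat_lit 2820))
 (.node (nat_lit 0x10d7ad1) (.leaf (nat_lit 0x10d7acf) (nat_lit 3076))
 (.leaf (nat_lit 0x10d7ad1) (nat_lit 3077))
)) (.node (nat_lit 0x10d7ad5) (.leaf (nat_lit 0x10d7ad3) (nat_lit 3077))
 (.node (nat_lit 0x10d7ad7) (.leaf (nat_lit 0x10d7ad5) (nat_lit 3077))
 (.leaf (nat_lit 0x10d7ad7) (nat_lit 2821))
))))))) (.node (nat_lit 0x10e088d) (.node (nat_lit 0x10d7b83) (.node (nat_lit 0x10d7b0d) (.node (nat_lit 0x10d7b03) (.node (nat_lit 0x10d7add) (.node (nat_lit 0x10d7adb) (.leaf (nat_lit 0x10d7ad9) (nat_lit 3332))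
 (.leaf (nat_lit 0x10d7adb) (nat_lit 3076))
) (.node (nat_lit 0x10d7adf) (.leaf (nat_lit 0x10d7add) (nat_lit 3076))
 (.node (nat_lit 0x10d7b01) (.leaf (nat_lit 0x10d7adf) (nat_lit 2820))
 (.leaf (nat_lit 0x10d7b01) (nat_lit 1793))
))) (.node (nat_lit 0x10d7b07) (.node (nat_lit 0x10d7b05) (.leaf (nat_lit 0x10d7b03) (nat_lit 2049))
 (.leaf (nat_lit 0x10d7b05) (nat_lit 2305))
) (.node (nat_lit 0x10d7b09) (.leaf (nat_lit 0x10d7b07) (nat_lit 2049))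
 (.node (nat_lit 0x10d7b0b) (.leaf (nat_lit 0x10d7b09) (nat_lit 3073))
 (.leaf (nat_lit 0x10d7b0b) (nat_lit 3073))
)))) (.node (nat_lit 0x10d7b17) (.node (nat_lit 0x10d7b11) (.node (nat_lit 0x10d7b0f) (.leaf (nat_lit 0x10d7b0d) (nat_lit 3076))
 (.leaf (nat_lit 0x10d7b0f) (nat_lit 3073))
) (.node (nat_lit 0x10d7b13) (.leaf (nat_lit 0x10d7b11) (nat_lit 3328))
 (.node (nat_lit 0x10d7b15) (.leaf (nat_lit 0x10d7b13) (nat_lit 3328))
 (.leaf (nat_lit 0x10d7b15) (nat_lit 3329))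
))) (.node (nat_lit 0x10d7b1d) (.node (nat_lit 0x10d7b19) (.leaf (nat_lit 0x10d7b17) (nat_lit 3328))
 (.node (nat_lit 0x10d7b1b) (.leaf (nat_lit 0x10d7b19) (nat_lit 2048))
 (.leaf (nat_lit 0x10d7b1b) (nat_lit 2304))
)) (.node (nat_lit 0x10d7b1f) (.leaf (nat_lit 0x10d7b1d) (nat_lit 2560))
 (.node (nat_lit 0x10d7b81) (.leaf (nat_lit 0x10d7b1f) (nat_lit 2304))
 (.leaf (nat_lit 0x10d7b81) (nat_lit 1540))
))))) (.node (nat_lit 0x10d7b97) (.node (nat_lit 0x10d7b8d) (.node (nat_lit 0x10d7b87) (.node (nat_lit 0x10d7b85) (.leaf (nat_lit 0x10d7b83) (nat_lit 1796))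
 (.leaf (nat_lit 0x10d7b85) (nat_lit 2564))
) (.node (nat_lit 0x10d7b89) (.leaf (nat_lit 0x10d7b87) (nat_lit 2308))
 (.node (nat_lit 0x10d7b8b) (.leaf (nat_lit 0x10d7b89) (nat_lit 3076))
 (.leaf (nat_lit 0x10d7b8b) (nat_lit 3076))
))) (.node (nat_lit 0x10d7b91) (.node (nat_lit 0x10d7b8f) (.leaf (nat_lit 0x10d7b8d) (nat_lit 2817))
 (.leaf (nat_lit 0x10d7b8f) (nat_lit 2820))
) (.node (nat_lit 0x10d7b93) (.leaf (nat_lit 0x10d7b91) (nat_lit 3072))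
 (.node (nat_lit 0x10d7b95) (.leaf (nat_lit 0x10d7b93) (nat_lit 3076))
 (.leaf (nat_lit 0x10d7b95) (nat_lit 3332))
)))) (.node (nat_lit 0x10e0881) (.node (nat_lit 0x10d7b9b) (.node (nat_lit 0x10d7b99) (.leaf (nat_lit 0x10d7b97) (nat_lit 3332))
 (.leaf (nat_lit 0x10d7b99) (nat_lit 2820))
) (.node (nat_lit 0x10d7b9d) (.leaf (nat_lit 0x10d7b9b) (nat_lit 2564))
 (.node (nat_lit 0x10d7b9f) (.leaf (nat_lit 0x10d7b9d) (nat_lit 1796))
 (.leaf (nat_lit 0x10d7b9f) (nat_lit 2052))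
))) (.node (nat_lit 0x10e0887) (.node (nat_lit 0x10e0883) (.leaf (nat_lit 0x10e0881) (nat_lit 1281))
 (.node (nat_lit 0x10e0885) (.leaf (nat_lit 0x10e0883) (nat_lit 1537))
 (.leaf (nat_lit 0x10e0885) (nat_lit 1536))
)) (.node (nat_lit 0x10e0889) (.leaf (nat_lit 0x10e0887) (nat_lit 1537))
 (.node (nat_lit 0x10e088b) (.leaf (nat_lit 0x10e0889) (nat_lit 2563))
 (.leaf (nat_lit 0x10e088b) (nat_lit 2307))
)))))) (.node (nat_lit 0x10e08d7) (.node (nat_lit 0x10e08c1) (.node (nat_lit 0x10e0897) (.node (nat_lit 0x10e0891) (.node (nat_lit 0x10e088f) (.leaf (nat_lit 0x10e088d) (nat_lit 2817))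
 (.leaf (nat_lit 0x10e088f) (nat_lit 2561))
) (.node (nat_lit 0x10e0893) (.leaf (nat_lit 0x10e0891) (nat_lit 3585))
 (.node (nat_lit 0x10e0895) (.leaf (nat_lit 0x10e0893) (nat_lit 3329))
 (.leaf (nat_lit 0x10e0895) (nat_lit 3329))
))) (.node (nat_lit 0x10e089b) (.node (nat_lit 0x10e0899) (.leaf (nat_lit 0x10e0897) (nat_lit 3329))
 (.leaf (nat_lit 0x10e0899) (nat_lit 2562))
) (.node (nat_lit 0x10e089d) (.leaf (nat_lit 0x10e089b) (nat_lit 2306))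
 (.node (nat_lit 0x10e089f) (.leaf (nat_lit 0x10e089d) (nat_lit 2817))
 (.leaf (nat_lit 0x10e089f) (nat_lit 2561))
)))) (.node (nat_lit 0x10e08cb) (.node (nat_lit 0x10e08c5) (.node (nat_lit 0x10e08c3) (.leaf (nat_lit 0x10e08c1) (nat_lit 1029))
 (.leaf (nat_lit 0x10e08c3) (nat_lit 1285))
) (.node (nat_lit 0x10e08c7) (.leaf (nat_lit 0x10e08c5) (nat_lit 1541))
 (.node (nat_lit 0x10e08c9) (.leaf (nat_lit 0x10e08c7) (nat_lit 1285))
 (.leaf (nat_lit 0x10e08c9) (nat_lit 2307))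
))) (.node (nat_lit 0x10e08d1) (.node (nat_lit 0x10e08cd) (.leaf (nat_lit 0x10e08cb) (nat_lit 2309))
 (.node (nat_lit 0x10e08cf) (.leaf (nat_lit 0x10e08cd) (nat_lit 2565))
 (.leaf (nat_lit 0x10e08cf) (nat_lit 2309))
)) (.node (nat_lit 0x10e08d3) (.leaf (nat_lit 0x10e08d1) (nat_lit 3333))
 (.node (nat_lit 0x10e08d5) (.leaf (nat_lit 0x10e08d3) (nat_lit 3077))
 (.leaf (nat_lit 0x10e08d5) (nat_lit 3074))
))))) (.node (nat_lit 0x10e090b) (.node (nat_lit 0x10e0901) (.node (nat_lit 0x10e08db) (.node (nat_lit 0x10e08d9) (.leaf (nat_lit 0x10e08d7) (nat_lit 3077))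
 (.leaf (nat_lit 0x10e08d9) (nat_lit 2306))
) (.node (nat_lit 0x10e08dd) (.leaf (nat_lit 0x10e08db) (nat_lit 2309))
 (.node (nat_lit 0x10e08df) (.leaf (nat_lit 0x10e08dd) (nat_lit 2565))
 (.leaf (nat_lit 0x10e08df) (nat_lit 2309))
))) (.node (nat_lit 0x10e0905) (.node (nat_lit 0x10e0903) (.leaf (nat_lit 0x10e0901) (nat_lit 1537))
 (.leaf (nat_lit 0x10e0903) (nat_lit 1793))
) (.node (nat_lit 0x10e0907) (.leaf (nat_lit 0x10e0905) (nat_lit 2307))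
 (.node (nat_lit 0x10e0909) (.leaf (nat_lit 0x10e0907) (nat_lit 2051))
 (.leaf (nat_lit 0x10e0909) (nat_lit 1792))
)))) (.node (nat_lit 0x10e0915) (.node (nat_lit 0x10e090f) (.node (nat_lit 0x10e090d) (.leaf (nat_lit 0x10e090b) (nat_lit 1793))
 (.leaf (nat_lit 0x10e090d) (nat_lit 2563))
) (.node (nat_lit 0x10e0911) (.leaf (nat_lit 0x10e090f) (nat_lit 2307))
 (.node (nat_lit 0x10e0913) (.leaf (nat_lit 0x10e0911) (nat_lit 3330))
 (.leaf (nat_lit 0x10e0913) (nat_lit 3586))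
))) (.node (nat_lit 0x10e091b) (.node (nat_lit 0x10e0917) (.leaf (nat_lit 0x10e0915) (nat_lit 2818))
 (.node (nat_lit 0x10e0919) (.leaf (nat_lit 0x10e0917) (nat_lit 2562))
 (.leaf (nat_lit 0x10e0919) (nat_lit 3333))
)) (.node (nat_lit 0x10e091d) (.leaf (nat_lit 0x10e091b) (nat_lit 3329))
 (.node (nat_lit 0x10e091f) (.leaf (nat_lit 0x10e091d) (nat_lit 3073))
 (.leaf (nat_lit 0x10e091f) (nat_lit 2817))
))))))))) (.node (nat_lit 0x10e12d1) (.node (nat_lit 0x10e1049) (.node (nat_lit 0x10e0ad5) (.node (nat_lit 0x10e0a8b) (.node (nat_lit 0x10e0955) (.node (nat_lit 0x10e094b) (.node (nat_lit 0x10e0945) (.node (nat_lit 0x10e0943) (.leaf (nat_lit 0x10e0941) (nat_lit 1285))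
 (.leaf (nat_lit 0x10e0943) (nat_lit 1541))
) (.node (nat_lit 0x10e0947) (.leaf (nat_lit 0x10e0945) (nat_lit 2309))
 (.node (nat_lit 0x10e0949) (.leaf (nat_lit 0x10e0947) (nat_lit 2053))
 (.leaf (nat_lit 0x10e0949) (nat_lit 1797))
))) (.node (nat_lit 0x10e094f) (.node (nat_lit 0x10e094d) (.leaf (nat_lit 0x10e094b) (nat_lit 1541))
 (.leaf (nat_lit 0x10e094d) (nat_lit 2309))
) (.node (nat_lit 0x10e0951) (.leaf (nat_lit 0x10e094f) (nat_lit 2309))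
 (.node (nat_lit 0x10e0953) (.leaf (nat_lit 0x10e0951) (nat_lit 3333))
 (.leaf (nat_lit 0x10e0953) (nat_lit 3330))
)))) (.node (nat_lit 0x10e095f) (.node (nat_lit 0x10e0959) (.node (nat_lit 0x10e0957) (.leaf (nat_lit 0x10e0955) (nat_lit 2562))
 (.leaf (nat_lit 0x10e0957) (nat_lit 2565))
) (.node (nat_lit 0x10e095b) (.leaf (nat_lit 0x10e0959) (nat_lit 3333))
 (.node (nat_lit 0x10e095d) (.leaf (nat_lit 0x10e095b) (nat_lit 3077))
 (.leaf (nat_lit 0x10e095d) (nat_lit 2821))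
))) (.node (nat_lit 0x10e0a85) (.node (nat_lit 0x10e0a81) (.leaf (nat_lit 0x10e095f) (nat_lit 2565))
 (.node (nat_lit 0x10e0a83) (.leaf (nat_lit 0x10e0a81) (nat_lit 1793))
 (.leaf (nat_lit 0x10e0a83) (nat_lit 2049))
)) (.node (nat_lit 0x10e0a87) (.leaf (nat_lit 0x10e0a85) (nat_lit 2565))
 (.node (nat_lit 0x10e0a89) (.leaf (nat_lit 0x10e0a87) (nat_lit 2561))
 (.leaf (nat_lit 0x10e0a89) (nat_lit 2562))
))))) (.node (nat_lit 0x10e0a9f) (.node (nat_lit 0x10e0a95) (.node (nat_lit 0x10e0a8f) (.node (nat_lit 0x10e0a8d) (.leaf (nat_lit 0x10e0a8b) (nat_lit 2306))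
 (.leaf (nat_lit 0x10e0a8d) (nat_lit 3073))
) (.node (nat_lit 0x10e0a91) (.leaf (nat_lit 0x10e0a8f) (nat_lit 2817))
 (.node (nat_lit 0x10e0a93) (.leaf (nat_lit 0x10e0a91) (nat_lit 2817))
 (.leaf (nat_lit 0x10e0a93) (nat_lit 2816))
))) (.node (nat_lit 0x10e0a99) (.node (nat_lit 0x10e0a97) (.leaf (nat_lit 0x10e0a95) (nat_lit 2048))
 (.leaf (nat_lit 0x10e0a97) (nat_lit 2049))
) (.node (nat_lit 0x10e0a9b) (.leaf (nat_lit 0x10e0a99) (nat_lit 3075))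
 (.node (nat_lit 0x10e0a9d) (.leaf (nat_lit 0x10e0a9b) (nat_lit 2819))
 (.leaf (nat_lit 0x10e0a9d) (nat_lit 2818))
)))) (.node (nat_lit 0x10e0ac9) (.node (nat_lit 0x10e0ac3) (.node (nat_lit 0x10e0ac1) (.leaf (nat_lit 0x10e0a9f) (nat_lit 2562))
 (.leaf (nat_lit 0x10e0ac1) (nat_lit 1541))
) (.node (nat_lit 0x10e0ac5) (.leaf (nat_lit 0x10e0ac3) (nat_lit 1797))
 (.node (nat_lit 0x10e0ac7) (.leaf (nat_lit 0x10e0ac5) (nat_lit 2565))
 (.leaf (nat_lit 0x10e0ac7) (nat_lit 2309))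
))) (.node (nat_lit 0x10e0acf) (.node (nat_lit 0x10e0acb) (.leaf (nat_lit 0x10e0ac9) (nat_lit 2565))
 (.node (nat_lit 0x10e0acd) (.leaf (nat_lit 0x10e0acb) (nat_lit 2309))
 (.leaf (nat_lit 0x10e0acd) (nat_lit 2821))
)) (.node (nat_lit 0x10e0ad1) (.leaf (nat_lit 0x10e0acf) (nat_lit 2565))
 (.node (nat_lit 0x10e0ad3) (.leaf (nat_lit 0x10e0ad1) (nat_lit 2565))
 (.leaf (nat_lit 0x10e0ad3) (nat_lit 2821))
)))))) (.node (nat_lit 0x10e0b1f) (.node (nat_lit 0x10e0b09) (.node (nat_lit 0x10e0adf) (.node (nat_lit 0x10e0ad9) (.node (nat_lit 0x10e0ad7) (.leaf (nat_lit 0x10e0ad5) (nat_lit 2053))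
 (.leaf (nat_lit 0x10e0ad7) (nat_lit 1797))
) (.node (nat_lit 0x10e0adb) (.leaf (nat_lit 0x10e0ad9) (nat_lit 2821))
 (.node (nat_lit 0x10e0add) (.leaf (nat_lit 0x10e0adb) (nat_lit 2821))
 (.leaf (nat_lit 0x10e0add) (nat_lit 2565))
))) (.node (nat_lit 0x10e0b03) (.node (nat_lit 0x10e0b01) (.leaf (nat_lit 0x10e0adf) (nat_lit 2565))
 (.leaf (nat_lit 0x10e0b01) (nat_lit 1537))
) (.node (nat_lit 0x10e0b05) (.leaf (nat_lit 0x10e0b03) (nat_lit 1793))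
 (.node (nat_lit 0x10e0b07) (.leaf (nat_lit 0x10e0b05) (nat_lit 2306))
 (.leaf (nat_lit 0x10e0b07) (nat_lit 2050))
)))) (.node (nat_lit 0x10e0b13) (.node (nat_lit 0x10e0b0d) (.node (nat_lit 0x10e0b0b) (.leaf (nat_lit 0x10e0b09) (nat_lit 2821))
 (.leaf (nat_lit 0x10e0b0b) (nat_lit 2817))
) (.node (nat_lit 0x10e0b0f) (.leaf (nat_lit 0x10e0b0d) (nat_lit 3073))
 (.node (nat_lit 0x10e0b11) (.leaf (nat_lit 0x10e0b0f) (nat_lit 2817))
 (.leaf (nat_lit 0x10e0b11) (nat_lit 3073))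
))) (.node (nat_lit 0x10e0b19) (.node (nat_lit 0x10e0b15) (.leaf (nat_lit 0x10e0b13) (nat_lit 3072))
 (.node (nat_lit 0x10e0b17) (.leaf (nat_lit 0x10e0b15) (nat_lit 3075))
 (.leaf (nat_lit 0x10e0b17) (nat_lit 2819))
)) (.node (nat_lit 0x10e0b1b) (.leaf (nat_lit 0x10e0b19) (nat_lit 1792))
 (.node (nat_lit 0x10e0b1d) (.leaf (nat_lit 0x10e0b1b) (nat_lit 1793))
 (.leaf (nat_lit 0x10e0b1d) (nat_lit 2562))
))))) (.node (nat_lit 0x10e0b53) (.node (nat_lit 0x10e0b49) (.node (nat_lit 0x10e0b43) (.node (nat_lit 0x10e0b41) (.leaf (nat_lit 0x10e0b1f) (nat_lit 2306))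
 (.leaf (nat_lit 0x10e0b41) (nat_lit 1285))
) (.node (nat_lit 0x10e0b45) (.leaf (nat_lit 0x10e0b43) (nat_lit 1541))
 (.node (nat_lit 0x10e0b47) (.leaf (nat_lit 0x10e0b45) (nat_lit 2309))
 (.leaf (nat_lit 0x10e0b47) (nat_lit 2053))
))) (.node (nat_lit 0x10e0b4d) (.node (nat_lit 0x10e0b4b) (.leaf (nat_lit 0x10e0b49) (nat_lit 2821))
 (.leaf (nat_lit 0x10e0b4b) (nat_lit 2565))
) (.node (nat_lit 0x10e0b4f) (.leaf (nat_lit 0x10e0b4d) (nat_lit 2821))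
 (.node (nat_lit 0x10e0b51) (.leaf (nat_lit 0x10e0b4f) (nat_lit 2565))
 (.leaf (nat_lit 0x10e0b51) (nat_lit 2821))
)))) (.node (nat_lit 0x10e0b5d) (.node (nat_lit 0x10e0b57) (.node (nat_lit 0x10e0b55) (.leaf (nat_lit 0x10e0b53) (nat_lit 3077))
 (.leaf (nat_lit 0x10e0b55) (nat_lit 2821))
) (.node (nat_lit 0x10e0b59) (.leaf (nat_lit 0x10e0b57) (nat_lit 2821))
 (.node (nat_lit 0x10e0b5b) (.leaf (nat_lit 0x10e0b59) (nat_lit 1797))
 (.leaf (nat_lit 0x10e0b5b) (nat_lit 1541))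
))) (.node (nat_lit 0x10e1043) (.node (nat_lit 0x10e0b5f) (.leaf (nat_lit 0x10e0b5d) (nat_lit 2309))
 (.node (nat_lit 0x10e1041) (.leaf (nat_lit 0x10e0b5f) (nat_lit 2309))
 (.leaf (nat_lit 0x10e1041) (nat_lit 516))
)) (.node (nat_lit 0x10e1045) (.leaf (nat_lit 0x10e1043) (nat_lit 772))
 (.node (nat_lit 0x10e1047) (.leaf (nat_lit 0x10e1045) (nat_lit 1540))
 (.leaf (nat_lit 0x10e1047) (nat_lit 1284))
))))))) (.node (nat_lit 0x10e115d) (.node (nat_lit 0x10e10d3) (.node (nat_lit 0x10e105d) (.node (nat_lit 0x10e1053) (.node (nat_lit 0x10e104d) (.node (nat_lit 0x10e104b) (.leaf (nat_lit 0x10e1049) (nat_lit 2051))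
 (.leaf (nat_lit 0x10e104b) (nat_lit 1795))
) (.node (nat_lit 0x10e104f) (.leaf (nat_lit 0x10e104d) (nat_lit 2052))
 (.node (nat_lit 0x10e1051) (.leaf (nat_lit 0x10e104f) (nat_lit 1796))
 (.leaf (nat_lit 0x10e1051) (nat_lit 3076))
))) (.node (nat_lit 0x10e1057) (.node (nat_lit 0x10e1055) (.leaf (nat_lit 0x10e1053) (nat_lit 3073))
 (.leaf (nat_lit 0x10e1055) (nat_lit 2818))
) (.node (nat_lit 0x10e1059) (.leaf (nat_lit 0x10e1057) (nat_lit 2562))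
 (.node (nat_lit 0x10e105b) (.leaf (nat_lit 0x10e1059) (nat_lit 2050))
 (.leaf (nat_lit 0x10e105b) (nat_lit 1794))
)))) (.node (nat_lit 0x10e10c7) (.node (nat_lit 0x10e10c1) (.node (nat_lit 0x10e105f) (.leaf (nat_lit 0x10e105d) (nat_lit 2052))
 (.leaf (nat_lit 0x10e105f) (nat_lit 1796))
) (.node (nat_lit 0x10e10c3) (.leaf (nat_lit 0x10e10c1) (nat_lit 772))
 (.node (nat_lit 0x10e10c5) (.leaf (nat_lit 0x10e10c3) (nat_lit 1028))
 (.leaf (nat_lit 0x10e10c5) (nat_lit 1284))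
))) (.node (nat_lit 0x10e10cd) (.node (nat_lit 0x10e10c9) (.leaf (nat_lit 0x10e10c7) (nat_lit 1028))
 (.node (nat_lit 0x10e10cb) (.leaf (nat_lit 0x10e10c9) (nat_lit 2308))
 (.leaf (nat_lit 0x10e10cb) (nat_lit 2052))
)) (.node (nat_lit 0x10e10cf) (.leaf (nat_lit 0x10e10cd) (nat_lit 2307))
 (.node (nat_lit 0x10e10d1) (.leaf (nat_lit 0x10e10cf) (nat_lit 2051))
 (.leaf (nat_lit 0x10e10d1) (nat_lit 3074))
))))) (.node (nat_lit 0x10e1147) (.node (nat_lit 0x10e10dd) (.node (nat_lit 0x10e10d7) (.node (nat_lit 0x10e10d5) (.leaf (nat_lit 0x10e10d3) (nat_lit 2818))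
 (.leaf (nat_lit 0x10e10d5) (nat_lit 3073))
) (.node (nat_lit 0x10e10d9) (.leaf (nat_lit 0x10e10d7) (nat_lit 2817))
 (.node (nat_lit 0x10e10db) (.leaf (nat_lit 0x10e10d9) (nat_lit 2308))
 (.leaf (nat_lit 0x10e10db) (nat_lit 2052))
))) (.node (nat_lit 0x10e1141) (.node (nat_lit 0x10e10df) (.leaf (nat_lit 0x10e10dd) (nat_lit 2306))
 (.leaf (nat_lit 0x10e10df) (nat_lit 2050))
) (.node (nat_lit 0x10e1143) (.leaf (nat_lit 0x10e1141) (nat_lit 1283))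
 (.node (nat_lit 0x10e1145) (.leaf (nat_lit 0x10e1143) (nat_lit 1539))
 (.leaf (nat_lit 0x10e1145) (nat_lit 2052))
)))) (.node (nat_lit 0x10e1151) (.node (nat_lit 0x10e114b) (.node (nat_lit 0x10e1149) (.leaf (nat_lit 0x10e1147) (nat_lit 1796))
 (.leaf (nat_lit 0x10e1149) (nat_lit 1795))
) (.node (nat_lit 0x10e114d) (.leaf (nat_lit 0x10e114b) (nat_lit 1539))
 (.node (nat_lit 0x10e114f) (.leaf (nat_lit 0x10e114d) (nat_lit 2052))
 (.leaf (nat_lit 0x10e114f) (nat_lit 1796))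
))) (.node (nat_lit 0x10e1157) (.node (nat_lit 0x10e1153) (.leaf (nat_lit 0x10e1151) (nat_lit 2818))
 (.node (nat_lit 0x10e1155) (.leaf (nat_lit 0x10e1153) (nat_lit 2562))
 (.leaf (nat_lit 0x10e1155) (nat_lit 3076))
)) (.node (nat_lit 0x10e1159) (.leaf (nat_lit 0x10e1157) (nat_lit 2820))
 (.node (nat_lit 0x10e115b) (.leaf (nat_lit 0x10e1159) (nat_lit 2818))
 (.leaf (nat_lit 0x10e115b) (nat_lit 3074))
)))))) (.node (nat_lit 0x10e1247) (.node (nat_lit 0x10e11d1) (.node (nat_lit 0x10e11c7) (.node (nat_lit 0x10e11c1) (.node (nat_lit 0x10e115f) (.leaf (nat_lit 0x10e115d) (nat_lit 3076))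
 (.leaf (nat_lit 0x10e115f) (nat_lit 2820))
) (.node (nat_lit 0x10e11c3) (.leaf (nat_lit 0x10e11c1) (nat_lit 1284))
 (.node (nat_lit 0x10e11c5) (.leaf (nat_lit 0x10e11c3) (nat_lit 1540))
 (.leaf (nat_lit 0x10e11c5) (nat_lit 2051))
))) (.node (nat_lit 0x10e11cb) (.node (nat_lit 0x10e11c9) (.leaf (nat_lit 0x10e11c7) (nat_lit 1795))
 (.leaf (nat_lit 0x10e11c9) (nat_lit 2051))
) (.node (nat_lit 0x10e11cd) (.leaf (nat_lit 0x10e11cb) (nat_lit 1795))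
 (.node (nat_lit 0x10e11cf) (.leaf (nat_lit 0x10e11cd) (nat_lit 1796))
 (.leaf (nat_lit 0x10e11cf) (nat_lit 1540))
)))) (.node (nat_lit 0x10e11db) (.node (nat_lit 0x10e11d5) (.node (nat_lit 0x10e11d3) (.leaf (nat_lit 0x10e11d1) (nat_lit 2820))
 (.leaf (nat_lit 0x10e11d3) (nat_lit 2564))
) (.node (nat_lit 0x10e11d7) (.leaf (nat_lit 0x10e11d5) (nat_lit 2818))
 (.node (nat_lit 0x10e11d9) (.leaf (nat_lit 0x10e11d7) (nat_lit 2562))
 (.leaf (nat_lit 0x10e11d9) (nat_lit 2818))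
))) (.node (nat_lit 0x10e1241) (.node (nat_lit 0x10e11dd) (.leaf (nat_lit 0x10e11db) (nat_lit 2818))
 (.node (nat_lit 0x10e11df) (.leaf (nat_lit 0x10e11dd) (nat_lit 2820))
 (.leaf (nat_lit 0x10e11df) (nat_lit 3076))
)) (.node (nat_lit 0x10e1243) (.leaf (nat_lit 0x10e1241) (nat_lit 2052))
 (.node (nat_lit 0x10e1245) (.leaf (nat_lit 0x10e1243) (nat_lit 2308))
 (.leaf (nat_lit 0x10e1245) (nat_lit 2309))
))))) (.node (nat_lit 0x10e125b) (.node (nat_lit 0x10e1251) (.node (nat_lit 0x10e124b) (.node (nat_lit 0x10e1249) (.leaf (nat_lit 0x10e1247) (nat_lit 2565))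
 (.leaf (nat_lit 0x10e1249) (nat_lit 2562))
) (.node (nat_lit 0x10e124d) (.leaf (nat_lit 0x10e124b) (nat_lit 2306))
 (.node (nat_lit 0x10e124f) (.leaf (nat_lit 0x10e124d) (nat_lit 2564))
 (.leaf (nat_lit 0x10e124f) (nat_lit 2308))
))) (.node (nat_lit 0x10e1255) (.node (nat_lit 0x10e1253) (.leaf (nat_lit 0x10e1251) (nat_lit 2564))
 (.leaf (nat_lit 0x10e1253) (nat_lit 2308))
) (.node (nat_lit 0x10e1257) (.leaf (nat_lit 0x10e1255) (nat_lit 2817))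
 (.node (nat_lit 0x10e1259) (.leaf (nat_lit 0x10e1257) (nat_lit 2561))
 (.leaf (nat_lit 0x10e1259) (nat_lit 2562))
)))) (.node (nat_lit 0x10e12c5) (.node (nat_lit 0x10e125f) (.node (nat_lit 0x10e125d) (.leaf (nat_lit 0x10e125b) (nat_lit 2818))
 (.leaf (nat_lit 0x10e125d) (nat_lit 2564))
) (.node (nat_lit 0x10e12c1) (.leaf (nat_lit 0x10e125f) (nat_lit 2820))
 (.node (nat_lit 0x10e12c3) (.leaf (nat_lit 0x10e12c1) (nat_lit 2050))
 (.leaf (nat_lit 0x10e12c3) (nat_lit 2306))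
))) (.node (nat_lit 0x10e12cb) (.node (nat_lit 0x10e12c7) (.leaf (nat_lit 0x10e12c5) (nat_lit 2565))
 (.node (nat_lit 0x10e12c9) (.leaf (nat_lit 0x10e12c7) (nat_lit 2564))
 (.leaf (nat_lit 0x10e12c9) (nat_lit 2820))
)) (.node (nat_lit 0x10e12cd) (.leaf (nat_lit 0x10e12cb) (nat_lit 2564))
 (.node (nat_lit 0x10e12cf) (.leaf (nat_lit 0x10e12cd) (nat_lit 2562))
 (.leaf (nat_lit 0x10e12cf) (nat_lit 2306))
)))))))) (.node (nat_lit 0x10e1919) (.node (nat_lit 0x10e1845) (.node (nat_lit 0x10e135b) (.node (nat_lit 0x10e1345) (.node (nat_lit 0x10e12db) (.node (nat_lit 0x10e12d5) (.node (nat_lit 0x10e12d3) (.leaf (nat_lit 0x10e12d1) (nat_lit 2820))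
 (.leaf (nat_lit 0x10e12d3) (nat_lit 2564))
) (.node (nat_lit 0x10e12d7) (.leaf (nat_lit 0x10e12d5) (nat_lit 2562))
 (.node (nat_lit 0x10e12d9) (.leaf (nat_lit 0x10e12d7) (nat_lit 2306))
 (.leaf (nat_lit 0x10e12d9) (nat_lit 2562))
))) (.node (nat_lit 0x10e12df) (.node (nat_lit 0x10e12dd) (.leaf (nat_lit 0x10e12db) (nat_lit 2818))
 (.leaf (nat_lit 0x10e12dd) (nat_lit 2820))
) (.node (nat_lit 0x10e1341) (.leaf (nat_lit 0x10e12df) (nat_lit 2819))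
 (.node (nat_lit 0x10e1343) (.leaf (nat_lit 0x10e1341) (nat_lit 1282))
 (.leaf (nat_lit 0x10e1343) (nat_lit 1538))
)))) (.node (nat_lit 0x10e134f) (.node (nat_lit 0x10e1349) (.node (nat_lit 0x10e1347) (.leaf (nat_lit 0x10e1345) (nat_lit 2052))
 (.leaf (nat_lit 0x10e1347) (nat_lit 1796))
) (.node (nat_lit 0x10e134b) (.leaf (nat_lit 0x10e1349) (nat_lit 2818))
 (.node (nat_lit 0x10e134d) (.leaf (nat_lit 0x10e134b) (nat_lit 2562))
 (.leaf (nat_lit 0x10e134d) (nat_lit 2818))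
))) (.node (nat_lit 0x10e1355) (.node (nat_lit 0x10e1351) (.leaf (nat_lit 0x10e134f) (nat_lit 2562))
 (.node (nat_lit 0x10e1353) (.leaf (nat_lit 0x10e1351) (nat_lit 2818))
 (.leaf (nat_lit 0x10e1353) (nat_lit 3074))
)) (.node (nat_lit 0x10e1357) (.leaf (nat_lit 0x10e1355) (nat_lit 2818))
 (.node (nat_lit 0x10e1359) (.leaf (nat_lit 0x10e1357) (nat_lit 2818))
 (.leaf (nat_lit 0x10e1359) (nat_lit 1794))
))))) (.node (nat_lit 0x10e13cf) (.node (nat_lit 0x10e13c5) (.node (nat_lit 0x10e135f) (.node (nat_lit 0x10e135d) (.leaf (nat_lit 0x10e135b) (nat_lit 1538))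
 (.leaf (nat_lit 0x10e135d) (nat_lit 2052))
) (.node (nat_lit 0x10e13c1) (.leaf (nat_lit 0x10e135f) (nat_lit 1796))
 (.node (nat_lit 0x10e13c3) (.leaf (nat_lit 0x10e13c1) (nat_lit 1284))
 (.leaf (nat_lit 0x10e13c3) (nat_lit 1540))
))) (.node (nat_lit 0x10e13c9) (.node (nat_lit 0x10e13c7) (.leaf (nat_lit 0x10e13c5) (nat_lit 2050))
 (.leaf (nat_lit 0x10e13c7) (nat_lit 1794))
) (.node (nat_lit 0x10e13cb) (.leaf (nat_lit 0x10e13c9) (nat_lit 3074))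
 (.node (nat_lit 0x10e13cd) (.leaf (nat_lit 0x10e13cb) (nat_lit 2818))
 (.leaf (nat_lit 0x10e13cd) (nat_lit 2820))
)))) (.node (nat_lit 0x10e13d9) (.node (nat_lit 0x10e13d3) (.node (nat_lit 0x10e13d1) (.leaf (nat_lit 0x10e13cf) (nat_lit 2564))
 (.leaf (nat_lit 0x10e13d1) (nat_lit 2820))
) (.node (nat_lit 0x10e13d5) (.leaf (nat_lit 0x10e13d3) (nat_lit 3076))
 (.node (nat_lit 0x10e13d7) (.leaf (nat_lit 0x10e13d5) (nat_lit 3075))
 (.leaf (nat_lit 0x10e13d7) (nat_lit 2819))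
))) (.node (nat_lit 0x10e13df) (.node (nat_lit 0x10e13db) (.leaf (nat_lit 0x10e13d9) (nat_lit 2049))
 (.node (nat_lit 0x10e13dd) (.leaf (nat_lit 0x10e13db) (nat_lit 1793))
 (.leaf (nat_lit 0x10e13dd) (nat_lit 1796))
)) (.node (nat_lit 0x10e1841) (.leaf (nat_lit 0x10e13df) (nat_lit 1540))
 (.node (nat_lit 0x10e1843) (.leaf (nat_lit 0x10e1841) (nat_lit 773))
 (.leaf (nat_lit 0x10e1843) (nat_lit 1029))
)))))) (.node (nat_lit 0x10e188f) (.node (nat_lit 0x10e1859) (.node (nat_lit 0x10e184f) (.node (nat_lit 0x10e1849) (.node (nat_lit 0x10e1847) (.leaf (nat_lit 0x10e1845) (nat_lit 1537))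
 (.leaf (nat_lit 0x10e1847) (nat_lit 1541))
) (.node (nat_lit 0x10e184b) (.leaf (nat_lit 0x10e1849) (nat_lit 2051))
 (.node (nat_lit 0x10e184d) (.leaf (nat_lit 0x10e184b) (nat_lit 2053))
 (.leaf (nat_lit 0x10e184d) (nat_lit 2309))
))) (.node (nat_lit 0x10e1853) (.node (nat_lit 0x10e1851) (.leaf (nat_lit 0x10e184f) (nat_lit 2053))
 (.leaf (nat_lit 0x10e1851) (nat_lit 3333))
) (.node (nat_lit 0x10e1855) (.leaf (nat_lit 0x10e1853) (nat_lit 3333))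
 (.node (nat_lit 0x10e1857) (.leaf (nat_lit 0x10e1855) (nat_lit 2818))
 (.leaf (nat_lit 0x10e1857) (nat_lit 2821))
)))) (.node (nat_lit 0x10e1883) (.node (nat_lit 0x10e185d) (.node (nat_lit 0x10e185b) (.leaf (nat_lit 0x10e1859) (nat_lit 2050))
 (.leaf (nat_lit 0x10e185b) (nat_lit 2053))
) (.node (nat_lit 0x10e185f) (.leaf (nat_lit 0x10e185d) (nat_lit 2309))
 (.node (nat_lit 0x10e1881) (.leaf (nat_lit 0x10e185f) (nat_lit 2053))
 (.leaf (nat_lit 0x10e1881) (nat_lit 1025))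
))) (.node (nat_lit 0x10e1889) (.node (nat_lit 0x10e1885) (.leaf (nat_lit 0x10e1883) (nat_lit 1281))
 (.node (nat_lit 0x10e1887) (.leaf (nat_lit 0x10e1885) (nat_lit 1280))
 (.leaf (nat_lit 0x10e1887) (nat_lit 1536))
)) (.node (nat_lit 0x10e188b) (.leaf (nat_lit 0x10e1889) (nat_lit 2307))
 (.node (nat_lit 0x10e188d) (.leaf (nat_lit 0x10e188b) (nat_lit 2305))
 (.leaf (nat_lit 0x10e188d) (nat_lit 2561))
))))) (.node (nat_lit 0x10e1903) (.node (nat_lit 0x10e1899) (.node (nat_lit 0x10e1893) (.node (nat_lit 0x10e1891) (.leaf (nat_lit 0x10e188f) (nat_lit 2305))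
 (.leaf (nat_lit 0x10e1891) (nat_lit 3328))
) (.node (nat_lit 0x10e1895) (.leaf (nat_lit 0x10e1893) (nat_lit 3328))
 (.node (nat_lit 0x10e1897) (.leaf (nat_lit 0x10e1895) (nat_lit 3073))
 (.leaf (nat_lit 0x10e1897) (nat_lit 3073))
))) (.node (nat_lit 0x10e189d) (.node (nat_lit 0x10e189b) (.leaf (nat_lit 0x10e1899) (nat_lit 2305))
 (.leaf (nat_lit 0x10e189b) (nat_lit 2305))
) (.node (nat_lit 0x10e189f) (.leaf (nat_lit 0x10e189d) (nat_lit 2561))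
 (.node (nat_lit 0x10e1901) (.leaf (nat_lit 0x10e189f) (nat_lit 2305))
 (.leaf (nat_lit 0x10e1901) (nat_lit 1539))
)))) (.node (nat_lit 0x10e190d) (.node (nat_lit 0x10e1907) (.node (nat_lit 0x10e1905) (.leaf (nat_lit 0x10e1903) (nat_lit 1795))
 (.leaf (nat_lit 0x10e1905) (nat_lit 2305))
) (.node (nat_lit 0x10e1909) (.leaf (nat_lit 0x10e1907) (nat_lit 2049))
 (.node (nat_lit 0x10e190b) (.leaf (nat_lit 0x10e1909) (nat_lit 1795))
 (.leaf (nat_lit 0x10e190b) (nat_lit 2051))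
))) (.node (nat_lit 0x10e1913) (.node (nat_lit 0x10e190f) (.leaf (nat_lit 0x10e190d) (nat_lit 2305))
 (.node (nat_lit 0x10e1911) (.leaf (nat_lit 0x10e190f) (nat_lit 2049))
 (.leaf (nat_lit 0x10e1911) (nat_lit 3074))
)) (.node (nat_lit 0x10e1915) (.leaf (nat_lit 0x10e1913) (nat_lit 2818))
 (.node (nat_lit 0x10e1917) (.leaf (nat_lit 0x10e1915) (nat_lit 3074))
 (.leaf (nat_lit 0x10e1917) (nat_lit 3330))
))))))) (.node (nat_lit 0x10e1a8d) (.node (nat_lit 0x10e1a43) (.node (nat_lit 0x10e19cd) (.node (nat_lit 0x10e19c3) (.node (nat_lit 0x10e191d) (.node (nat_lit 0x10e191b) (.leaf (nat_lit 0x10e1919) (nat_lit 3329))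
 (.leaf (nat_lit 0x10e191b) (nat_lit 3073))
) (.node (nat_lit 0x10e191f) (.leaf (nat_lit 0x10e191d) (nat_lit 3329))
 (.node (nat_lit 0x10e19c1) (.leaf (nat_lit 0x10e191f) (nat_lit 3331))
 (.leaf (nat_lit 0x10e19c1) (nat_lit 1541))
))) (.node (nat_lit 0x10e19c7) (.node (nat_lit 0x10e19c5) (.leaf (nat_lit 0x10e19c3) (nat_lit 1797))
 (.leaf (nat_lit 0x10e19c5) (nat_lit 2053))
) (.node (nat_lit 0x10e19c9) (.leaf (nat_lit 0x10e19c7) (nat_lit 1797))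
 (.node (nat_lit 0x10e19cb) (.leaf (nat_lit 0x10e19c9) (nat_lit 2053))
 (.leaf (nat_lit 0x10e19cb) (nat_lit 2309))
)))) (.node (nat_lit 0x10e19d7) (.node (nat_lit 0x10e19d1) (.node (nat_lit 0x10e19cf) (.leaf (nat_lit 0x10e19cd) (nat_lit 2053))
 (.leaf (nat_lit 0x10e19cf) (nat_lit 1797))
) (.node (nat_lit 0x10e19d3) (.leaf (nat_lit 0x10e19d1) (nat_lit 3077))
 (.node (nat_lit 0x10e19d5) (.leaf (nat_lit 0x10e19d3) (nat_lit 2821))
 (.leaf (nat_lit 0x10e19d5) (nat_lit 2818))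
))) (.node (nat_lit 0x10e19dd) (.node (nat_lit 0x10e19d9) (.leaf (nat_lit 0x10e19d7) (nat_lit 3074))
 (.node (nat_lit 0x10e19db) (.leaf (nat_lit 0x10e19d9) (nat_lit 3077))
 (.leaf (nat_lit 0x10e19db) (nat_lit 2821))
)) (.node (nat_lit 0x10e19df) (.leaf (nat_lit 0x10e19dd) (nat_lit 3077))
 (.node (nat_lit 0x10e1a41) (.leaf (nat_lit 0x10e19df) (nat_lit 3333))
 (.leaf (nat_lit 0x10e1a41) (nat_lit 1797))
))))) (.node (nat_lit 0x10e1a57) (.node (nat_lit 0x10e1a4d) (.node (nat_lit 0x10e1a47) (.node (nat_lit 0x10e1a45) (.leaf (nat_lit 0x10e1a43) (nat_lit 2053))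
 (.leaf (nat_lit 0x10e1a45) (nat_lit 2309))
) (.node (nat_lit 0x10e1a49) (.leaf (nat_lit 0x10e1a47) (nat_lit 2053))
 (.node (nat_lit 0x10e1a4b) (.leaf (nat_lit 0x10e1a49) (nat_lit 2562))
 (.leaf (nat_lit 0x10e1a4b) (nat_lit 2818))
))) (.node (nat_lit 0x10e1a51) (.node (nat_lit 0x10e1a4f) (.leaf (nat_lit 0x10e1a4d) (nat_lit 2821))
 (.leaf (nat_lit 0x10e1a4f) (nat_lit 2565))
) (.node (nat_lit 0x10e1a53) (.leaf (nat_lit 0x10e1a51) (nat_lit 2309))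
 (.node (nat_lit 0x10e1a55) (.leaf (nat_lit 0x10e1a53) (nat_lit 2053))
 (.leaf (nat_lit 0x10e1a55) (nat_lit 2309))
)))) (.node (nat_lit 0x10e1a81) (.node (nat_lit 0x10e1a5b) (.node (nat_lit 0x10e1a59) (.leaf (nat_lit 0x10e1a57) (nat_lit 2565))
 (.leaf (nat_lit 0x10e1a59) (nat_lit 3077))
) (.node (nat_lit 0x10e1a5d) (.leaf (nat_lit 0x10e1a5b) (nat_lit 2821))
 (.node (nat_lit 0x10e1a5f) (.leaf (nat_lit 0x10e1a5d) (nat_lit 2821))
 (.leaf (nat_lit 0x10e1a5f) (nat_lit 3077))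
))) (.node (nat_lit 0x10e1a87) (.node (nat_lit 0x10e1a83) (.leaf (nat_lit 0x10e1a81) (nat_lit 2049))
 (.node (nat_lit 0x10e1a85) (.leaf (nat_lit 0x10e1a83) (nat_lit 2305))
 (.leaf (nat_lit 0x10e1a85) (nat_lit 2561))
)) (.node (nat_lit 0x10e1a89) (.leaf (nat_lit 0x10e1a87) (nat_lit 2305))
 (.node (nat_lit 0x10e1a8b) (.leaf (nat_lit 0x10e1a89) (nat_lit 2818))
 (.leaf (nat_lit 0x10e1a8b) (nat_lit 3074))
)))))) (.node (nat_lit 0x10e1b17) (.node (nat_lit 0x10e1b01) (.node (nat_lit 0x10e1a97) (.node (nat_lit 0x10e1a91) (.node (nat_lit 0x10e1a8f) (.leaf (nat_lit 0x10e1a8d) (nat_lit 2818))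
 (.leaf (nat_lit 0x10e1a8f) (nat_lit 2562))
) (.node (nat_lit 0x10e1a93) (.leaf (nat_lit 0x10e1a91) (nat_lit 2561))
 (.node (nat_lit 0x10e1a95) (.leaf (nat_lit 0x10e1a93) (nat_lit 2305))
 (.leaf (nat_lit 0x10e1a95) (nat_lit 2304))
))) (.node (nat_lit 0x10e1a9b) (.node (nat_lit 0x10e1a99) (.leaf (nat_lit 0x10e1a97) (nat_lit 2560))
 (.leaf (nat_lit 0x10e1a99) (nat_lit 3074))
) (.node (nat_lit 0x10e1a9d) (.leaf (nat_lit 0x10e1a9b) (nat_lit 2818))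
 (.node (nat_lit 0x10e1a9f) (.leaf (nat_lit 0x10e1a9d) (nat_lit 3074))
 (.leaf (nat_lit 0x10e1a9f) (nat_lit 3075))
)))) (.node (nat_lit 0x10e1b0b) (.node (nat_lit 0x10e1b05) (.node (nat_lit 0x10e1b03) (.leaf (nat_lit 0x10e1b01) (nat_lit 1538))
 (.leaf (nat_lit 0x10e1b03) (nat_lit 1794))
) (.node (nat_lit 0x10e1b07) (.leaf (nat_lit 0x10e1b05) (nat_lit 2305))
 (.node (nat_lit 0x10e1b09) (.leaf (nat_lit 0x10e1b07) (nat_lit 2049))
 (.leaf (nat_lit 0x10e1b09) (nat_lit 2818))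
))) (.node (nat_lit 0x10e1b11) (.node (nat_lit 0x10e1b0d) (.leaf (nat_lit 0x10e1b0b) (nat_lit 2818))
 (.node (nat_lit 0x10e1b0f) (.leaf (nat_lit 0x10e1b0d) (nat_lit 3074))
 (.leaf (nat_lit 0x10e1b0f) (nat_lit 2818))
)) (.node (nat_lit 0x10e1b13) (.leaf (nat_lit 0x10e1b11) (nat_lit 3074))
 (.node (nat_lit 0x10e1b15) (.leaf (nat_lit 0x10e1b13) (nat_lit 3075))
 (.leaf (nat_lit 0x10e1b15) (nat_lit 3074))
))))) (.node (nat_lit 0x10e1bcb) (.node (nat_lit 0x10e1bc1) (.node (nat_lit 0x10e1b1b) (.node (nat_lit 0x10e1b19) (.leaf (nat_lit 0x10e1b17) (nat_lit 3074))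
 (.leaf (nat_lit 0x10e1b19) (nat_lit 1794))
) (.node (nat_lit 0x10e1b1d) (.leaf (nat_lit 0x10e1b1b) (nat_lit 2050))
 (.node (nat_lit 0x10e1b1f) (.leaf (nat_lit 0x10e1b1d) (nat_lit 2305))
 (.leaf (nat_lit 0x10e1b1f) (nat_lit 2049))
))) (.node (nat_lit 0x10e1bc5) (.node (nat_lit 0x10e1bc3) (.leaf (nat_lit 0x10e1bc1) (nat_lit 1541))
 (.leaf (nat_lit 0x10e1bc3) (nat_lit 1797))
) (.node (nat_lit 0x10e1bc7) (.leaf (nat_lit 0x10e1bc5) (nat_lit 2053))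
 (.node (nat_lit 0x10e1bc9) (.leaf (nat_lit 0x10e1bc7) (nat_lit 1797))
 (.leaf (nat_lit 0x10e1bc9) (nat_lit 3077))
)))) (.node (nat_lit 0x10e1bd5) (.node (nat_lit 0x10e1bcf) (.node (nat_lit 0x10e1bcd) (.leaf (nat_lit 0x10e1bcb) (nat_lit 2821))
 (.leaf (nat_lit 0x10e1bcd) (nat_lit 3077))
) (.node (nat_lit 0x10e1bd1) (.leaf (nat_lit 0x10e1bcf) (nat_lit 2821))
 (.node (nat_lit 0x10e1bd3) (.leaf (nat_lit 0x10e1bd1) (nat_lit 3077))
 (.leaf (nat_lit 0x10e1bd3) (nat_lit 3077))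
))) (.node (nat_lit 0x10e1bdb) (.node (nat_lit 0x10e1bd7) (.leaf (nat_lit 0x10e1bd5) (nat_lit 3077))
 (.node (nat_lit 0x10e1bd9) (.leaf (nat_lit 0x10e1bd7) (nat_lit 3333))
 (.leaf (nat_lit 0x10e1bd9) (nat_lit 2053))
)) (.node (nat_lit 0x10e1bdd) (.leaf (nat_lit 0x10e1bdb) (nat_lit 2309))
 (.node (nat_lit 0x10e1bdf) (.leaf (nat_lit 0x10e1bdd) (nat_lit 2053))
 (.leaf (nat_lit 0x10e1bdf) (nat_lit 1797))
)))))))))))) (.node (nat_lit 0x10f1241) (.node (nat_lit 0x10e5901) (.node (nat_lit 0x10e3ac1) (.node (nat_lit 0x10e2911) (.node (nat_lit 0x10e22c9) (.node (nat_lit 0x10e2155) (.node (nat_lit 0x10e20cb) (.node (nat_lit 0x10e2055) (.node (nat_lit 0x10e204b) (.node (nat_lit 0x10e2045) (.node (nat_lit 0x10e2043) (.leaf (nat_lit 0x10e2041) (nat_lit 771))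
 (.leaf (nat_lit 0x10e2043) (nat_lit 1027))
) (.node (nat_lit 0x10e2047) (.leaf (nat_lit 0x10e2045) (nat_lit 1795))
 (.node (nat_lit 0x10e2049) (.leaf (nat_lit 0x10e2047) (nat_lit 1539))
 (.leaf (nat_lit 0x10e2049) (nat_lit 1795))
))) (.node (nat_lit 0x10e204f) (.node (nat_lit 0x10e204d) (.leaf (nat_lit 0x10e204b) (nat_lit 1539))
 (.leaf (nat_lit 0x10e204d) (nat_lit 2307))
) (.node (nat_lit 0x10e2051) (.leaf (nat_lit 0x10e204f) (nat_lit 2051))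
 (.node (nat_lit 0x10e2053) (.leaf (nat_lit 0x10e2051) (nat_lit 2818))
 (.leaf (nat_lit 0x10e2053) (nat_lit 3074))
)))) (.node (nat_lit 0x10e205f) (.node (nat_lit 0x10e2059) (.node (nat_lit 0x10e2057) (.leaf (nat_lit 0x10e2055) (nat_lit 2306))
 (.leaf (nat_lit 0x10e2057) (nat_lit 2050))
) (.node (nat_lit 0x10e205b) (.leaf (nat_lit 0x10e2059) (nat_lit 2819))
 (.node (nat_lit 0x10e205d) (.leaf (nat_lit 0x10e205b) (nat_lit 2563))
 (.leaf (nat_lit 0x10e205d) (nat_lit 2562))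
))) (.node (nat_lit 0x10e20c5) (.node (nat_lit 0x10e20c1) (.leaf (nat_lit 0x10e205f) (nat_lit 2306))
 (.node (nat_lit 0x10e20c3) (.leaf (nat_lit 0x10e20c1) (nat_lit 1027))
 (.leaf (nat_lit 0x10e20c3) (nat_lit 1283))
)) (.node (nat_lit 0x10e20c7) (.leaf (nat_lit 0x10e20c5) (nat_lit 1539))
 (.node (nat_lit 0x10e20c9) (.leaf (nat_lit 0x10e20c7) (nat_lit 1283))
 (.leaf (nat_lit 0x10e20c9) (nat_lit 2051))
))))) (.node (nat_lit 0x10e20df) (.node (nat_lit 0x10e20d5) (.node (nat_lit 0x10e20cf) (.node (nat_lit 0x10e20cd) (.leaf (nat_lit 0x10e20cb) (nat_lit 2307))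
 (.leaf (nat_lit 0x10e20cd) (nat_lit 2051))
) (.node (nat_lit 0x10e20d1) (.leaf (nat_lit 0x10e20cf) (nat_lit 1795))
 (.node (nat_lit 0x10e20d3) (.leaf (nat_lit 0x10e20d1) (nat_lit 2562))
 (.leaf (nat_lit 0x10e20d3) (nat_lit 2306))
))) (.node (nat_lit 0x10e20d9) (.node (nat_lit 0x10e20d7) (.leaf (nat_lit 0x10e20d5) (nat_lit 2562))
 (.leaf (nat_lit 0x10e20d7) (nat_lit 2818))
) (.node (nat_lit 0x10e20db) (.leaf (nat_lit 0x10e20d9) (nat_lit 2818))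
 (.node (nat_lit 0x10e20dd) (.leaf (nat_lit 0x10e20db) (nat_lit 2562))
 (.leaf (nat_lit 0x10e20dd) (nat_lit 2818))
)))) (.node (nat_lit 0x10e2149) (.node (nat_lit 0x10e2143) (.node (nat_lit 0x10e2141) (.leaf (nat_lit 0x10e20df) (nat_lit 2819))
 (.leaf (nat_lit 0x10e2141) (nat_lit 1027))
) (.node (nat_lit 0x10e2145) (.leaf (nat_lit 0x10e2143) (nat_lit 1283))
 (.node (nat_lit 0x10e2147) (.leaf (nat_lit 0x10e2145) (nat_lit 2051))
 (.leaf (nat_lit 0x10e2147) (nat_lit 1795))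
))) (.node (nat_lit 0x10e214f) (.node (nat_lit 0x10e214b) (.leaf (nat_lit 0x10e2149) (nat_lit 1539))
 (.node (nat_lit 0x10e214d) (.leaf (nat_lit 0x10e214b) (nat_lit 1283))
 (.leaf (nat_lit 0x10e214d) (nat_lit 2051))
)) (.node (nat_lit 0x10e2151) (.leaf (nat_lit 0x10e214f) (nat_lit 2051))
 (.node (nat_lit 0x10e2153) (.leaf (nat_lit 0x10e2151) (nat_lit 3073))
 (.leaf (nat_lit 0x10e2153) (nat_lit 3074))
)))))) (.node (nat_lit 0x10e21df) (.node (nat_lit 0x10e21c9) (.node (nat_lit 0x10e215f) (.node (nat_lit 0x10e2159) (.node (nat_lit 0x10e2157) (.leaf (nat_lit 0x10e2155) (nat_lit 2561))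
 (.leaf (nat_lit 0x10e2157) (nat_lit 2305))
) (.node (nat_lit 0x10e215b) (.leaf (nat_lit 0x10e2159) (nat_lit 3075))
 (.node (nat_lit 0x10e215d) (.leaf (nat_lit 0x10e215b) (nat_lit 2819))
 (.leaf (nat_lit 0x10e215d) (nat_lit 2562))
))) (.node (nat_lit 0x10e21c3) (.node (nat_lit 0x10e21c1) (.leaf (nat_lit 0x10e215f) (nat_lit 2306))
 (.leaf (nat_lit 0x10e21c1) (nat_lit 1283))
) (.node (nat_lit 0x10e21c5) (.leaf (nat_lit 0x10e21c3) (nat_lit 1539))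
 (.node (nat_lit 0x10e21c7) (.leaf (nat_lit 0x10e21c5) (nat_lit 1795))
 (.leaf (nat_lit 0x10e21c7) (nat_lit 1539))
)))) (.node (nat_lit 0x10e21d3) (.node (nat_lit 0x10e21cd) (.node (nat_lit 0x10e21cb) (.leaf (nat_lit 0x10e21c9) (nat_lit 1795))
 (.leaf (nat_lit 0x10e21cb) (nat_lit 2051))
) (.node (nat_lit 0x10e21cf) (.leaf (nat_lit 0x10e21cd) (nat_lit 1795))
 (.node (nat_lit 0x10e21d1) (.leaf (nat_lit 0x10e21cf) (nat_lit 1539))
 (.leaf (nat_lit 0x10e21d1) (nat_lit 2817))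
))) (.node (nat_lit 0x10e21d9) (.node (nat_lit 0x10e21d5) (.leaf (nat_lit 0x10e21d3) (nat_lit 2561))
 (.node (nat_lit 0x10e21d7) (.leaf (nat_lit 0x10e21d5) (nat_lit 2817))
 (.leaf (nat_lit 0x10e21d7) (nat_lit 2818))
)) (.node (nat_lit 0x10e21db) (.leaf (nat_lit 0x10e21d9) (nat_lit 2818))
 (.node (nat_lit 0x10e21dd) (.leaf (nat_lit 0x10e21db) (nat_lit 2562))
 (.leaf (nat_lit 0x10e21dd) (nat_lit 2818))
))))) (.node (nat_lit 0x10e2253) (.node (nat_lit 0x10e2249) (.node (nat_lit 0x10e2243) (.node (nat_lit 0x10e2241) (.leaf (nat_lit 0x10e21df) (nat_lit 3074))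
 (.leaf (nat_lit 0x10e2241) (nat_lit 1794))
) (.node (nat_lit 0x10e2245) (.leaf (nat_lit 0x10e2243) (nat_lit 2050))
 (.node (nat_lit 0x10e2247) (.leaf (nat_lit 0x10e2245) (nat_lit 2306))
 (.leaf (nat_lit 0x10e2247) (nat_lit 2050))
))) (.node (nat_lit 0x10e224d) (.node (nat_lit 0x10e224b) (.leaf (nat_lit 0x10e2249) (nat_lit 2565))
 (.leaf (nat_lit 0x10e224b) (nat_lit 2821))
) (.node (nat_lit 0x10e224f) (.leaf (nat_lit 0x10e224d) (nat_lit 2818))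
 (.node (nat_lit 0x10e2251) (.leaf (nat_lit 0x10e224f) (nat_lit 2562))
 (.leaf (nat_lit 0x10e2251) (nat_lit 2306))
)))) (.node (nat_lit 0x10e225d) (.node (nat_lit 0x10e2257) (.node (nat_lit 0x10e2255) (.leaf (nat_lit 0x10e2253) (nat_lit 2050))
 (.leaf (nat_lit 0x10e2255) (nat_lit 2306))
) (.node (nat_lit 0x10e2259) (.leaf (nat_lit 0x10e2257) (nat_lit 2562))
 (.node (nat_lit 0x10e225b) (.leaf (nat_lit 0x10e2259) (nat_lit 2817))
 (.leaf (nat_lit 0x10e225b) (nat_lit 2561))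
))) (.node (nat_lit 0x10e22c3) (.node (nat_lit 0x10e225f) (.leaf (nat_lit 0x10e225d) (nat_lit 2817))
 (.node (nat_lit 0x10e22c1) (.leaf (nat_lit 0x10e225f) (nat_lit 2819))
 (.leaf (nat_lit 0x10e22c1) (nat_lit 1538))
)) (.node (nat_lit 0x10e22c5) (.leaf (nat_lit 0x10e22c3) (nat_lit 1794))
 (.node (nat_lit 0x10e22c7) (.leaf (nat_lit 0x10e22c5) (nat_lit 2562))
 (.leaf (nat_lit 0x10e22c7) (nat_lit 2306))
))))))) (.node (nat_lit 0x10e23dd) (.node (nat_lit 0x10e2353) (.node (nat_lit 0x10e22dd) (.node (nat_lit 0x10e22d3) (.node (nat_lit 0x10e22cd) (.node (nat_lit 0x10e22cb) (.leaf (nat_lit 0x10e22c9) (nat_lit 2562))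
 (.leaf (nat_lit 0x10e22cb) (nat_lit 2306))
) (.node (nat_lit 0x10e22cf) (.leaf (nat_lit 0x10e22cd) (nat_lit 2818))
 (.node (nat_lit 0x10e22d1) (.leaf (nat_lit 0x10e22cf) (nat_lit 2562))
 (.leaf (nat_lit 0x10e22d1) (nat_lit 2562))
))) (.node (nat_lit 0x10e22d7) (.node (nat_lit 0x10e22d5) (.leaf (nat_lit 0x10e22d3) (nat_lit 2818))
 (.leaf (nat_lit 0x10e22d5) (nat_lit 2050))
) (.node (nat_lit 0x10e22d9) (.leaf (nat_lit 0x10e22d7) (nat_lit 1794))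
 (.node (nat_lit 0x10e22db) (.leaf (nat_lit 0x10e22d9) (nat_lit 2818))
 (.leaf (nat_lit 0x10e22db) (nat_lit 2818))
)))) (.node (nat_lit 0x10e2347) (.node (nat_lit 0x10e2341) (.node (nat_lit 0x10e22df) (.leaf (nat_lit 0x10e22dd) (nat_lit 2561))
 (.leaf (nat_lit 0x10e22df) (nat_lit 2305))
) (.node (nat_lit 0x10e2343) (.leaf (nat_lit 0x10e2341) (nat_lit 2050))
 (.node (nat_lit 0x10e2345) (.leaf (nat_lit 0x10e2343) (nat_lit 2306))
 (.leaf (nat_lit 0x10e2345) (nat_lit 2562))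
))) (.node (nat_lit 0x10e234d) (.node (nat_lit 0x10e2349) (.leaf (nat_lit 0x10e2347) (nat_lit 2306))
 (.node (nat_lit 0x10e234b) (.leaf (nat_lit 0x10e2349) (nat_lit 2562))
 (.leaf (nat_lit 0x10e234b) (nat_lit 2818))
)) (.node (nat_lit 0x10e234f) (.leaf (nat_lit 0x10e234d) (nat_lit 2562))
 (.node (nat_lit 0x10e2351) (.leaf (nat_lit 0x10e234f) (nat_lit 2306))
 (.leaf (nat_lit 0x10e2351) (nat_lit 2561))
))))) (.node (nat_lit 0x10e23c7) (.node (nat_lit 0x10e235d) (.node (nat_lit 0x10e2357) (.node (nat_lit 0x10e2355) (.leaf (nat_lit 0x10e2353) (nat_lit 2305))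
 (.leaf (nat_lit 0x10e2355) (nat_lit 2561))
) (.node (nat_lit 0x10e2359) (.leaf (nat_lit 0x10e2357) (nat_lit 2817))
 (.node (nat_lit 0x10e235b) (.leaf (nat_lit 0x10e2359) (nat_lit 2562))
 (.leaf (nat_lit 0x10e235b) (nat_lit 2306))
))) (.node (nat_lit 0x10e23c1) (.node (nat_lit 0x10e235f) (.leaf (nat_lit 0x10e235d) (nat_lit 2562))
 (.leaf (nat_lit 0x10e235f) (nat_lit 2563))
) (.node (nat_lit 0x10e23c3) (.leaf (nat_lit 0x10e23c1) (nat_lit 1794))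
 (.node (nat_lit 0x10e23c5) (.leaf (nat_lit 0x10e23c3) (nat_lit 2050))
 (.leaf (nat_lit 0x10e23c5) (nat_lit 2818))
)))) (.node (nat_lit 0x10e23d1) (.node (nat_lit 0x10e23cb) (.node (nat_lit 0x10e23c9) (.leaf (nat_lit 0x10e23c7) (nat_lit 2562))
 (.leaf (nat_lit 0x10e23c9) (nat_lit 2306))
) (.node (nat_lit 0x10e23cd) (.leaf (nat_lit 0x10e23cb) (nat_lit 2050))
 (.node (nat_lit 0x10e23cf) (.leaf (nat_lit 0x10e23cd) (nat_lit 2818))
 (.leaf (nat_lit 0x10e23cf) (nat_lit 2817))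
))) (.node (nat_lit 0x10e23d7) (.node (nat_lit 0x10e23d3) (.leaf (nat_lit 0x10e23d1) (nat_lit 2817))
 (.node (nat_lit 0x10e23d5) (.leaf (nat_lit 0x10e23d3) (nat_lit 3073))
 (.leaf (nat_lit 0x10e23d5) (nat_lit 2305))
)) (.node (nat_lit 0x10e23d9) (.leaf (nat_lit 0x10e23d7) (nat_lit 2049))
 (.node (nat_lit 0x10e23db) (.leaf (nat_lit 0x10e23d9) (nat_lit 2819))
 (.leaf (nat_lit 0x10e23db) (nat_lit 2563))
)))))) (.node (nat_lit 0x10e2887) (.node (nat_lit 0x10e2851) (.node (nat_lit 0x10e2847) (.node (nat_lit 0x10e2841) (.node (nat_lit 0x10e23df) (.leaf (nat_lit 0x10e23dd) (nat_lit 2306))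
 (.leaf (nat_lit 0x10e23df) (nat_lit 2050))
) (.node (nat_lit 0x10e2843) (.leaf (nat_lit 0x10e2841) (nat_lit 1029))
 (.node (nat_lit 0x10e2845) (.leaf (nat_lit 0x10e2843) (nat_lit 1285))
 (.leaf (nat_lit 0x10e2845) (nat_lit 1795))
))) (.node (nat_lit 0x10e284b) (.node (nat_lit 0x10e2849) (.leaf (nat_lit 0x10e2847) (nat_lit 1797))
 (.leaf (nat_lit 0x10e2849) (nat_lit 1793))
) (.node (nat_lit 0x10e284d) (.leaf (nat_lit 0x10e284b) (nat_lit 1797))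
 (.node (nat_lit 0x10e284f) (.leaf (nat_lit 0x10e284d) (nat_lit 2565))
 (.leaf (nat_lit 0x10e284f) (nat_lit 2309))
)))) (.node (nat_lit 0x10e285b) (.node (nat_lit 0x10e2855) (.node (nat_lit 0x10e2853) (.leaf (nat_lit 0x10e2851) (nat_lit 3077))
 (.leaf (nat_lit 0x10e2853) (nat_lit 3074))
) (.node (nat_lit 0x10e2857) (.leaf (nat_lit 0x10e2855) (nat_lit 2306))
 (.node (nat_lit 0x10e2859) (.leaf (nat_lit 0x10e2857) (nat_lit 2309))
 (.leaf (nat_lit 0x10e2859) (nat_lit 2818))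
))) (.node (nat_lit 0x10e2881) (.node (nat_lit 0x10e285d) (.leaf (nat_lit 0x10e285b) (nat_lit 2821))
 (.node (nat_lit 0x10e285f) (.leaf (nat_lit 0x10e285d) (nat_lit 2821))
 (.leaf (nat_lit 0x10e285f) (nat_lit 2565))
)) (.node (nat_lit 0x10e2883) (.leaf (nat_lit 0x10e2881) (nat_lit 1283))
 (.node (nat_lit 0x10e2885) (.leaf (nat_lit 0x10e2883) (nat_lit 1539))
 (.leaf (nat_lit 0x10e2885) (nat_lit 1539))
))))) (.node (nat_lit 0x10e289b) (.node (nat_lit 0x10e2891) (.node (nat_lit 0x10e288b) (.node (nat_lit 0x10e2889) (.leaf (nat_lit 0x10e2887) (nat_lit 1795))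
 (.leaf (nat_lit 0x10e2889) (nat_lit 2560))
) (.node (nat_lit 0x10e288d) (.leaf (nat_lit 0x10e288b) (nat_lit 2304))
 (.node (nat_lit 0x10e288f) (.leaf (nat_lit 0x10e288d) (nat_lit 2305))
 (.leaf (nat_lit 0x10e288f) (nat_lit 2049))
))) (.node (nat_lit 0x10e2895) (.node (nat_lit 0x10e2893) (.leaf (nat_lit 0x10e2891) (nat_lit 2818))
 (.leaf (nat_lit 0x10e2893) (nat_lit 2562))
) (.node (nat_lit 0x10e2897) (.leaf (nat_lit 0x10e2895) (nat_lit 3074))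
 (.node (nat_lit 0x10e2899) (.leaf (nat_lit 0x10e2897) (nat_lit 2818))
 (.leaf (nat_lit 0x10e2899) (nat_lit 3073))
)))) (.node (nat_lit 0x10e2905) (.node (nat_lit 0x10e289f) (.node (nat_lit 0x10e289d) (.leaf (nat_lit 0x10e289b) (nat_lit 3075))
 (.leaf (nat_lit 0x10e289d) (nat_lit 3076))
) (.node (nat_lit 0x10e2901) (.leaf (nat_lit 0x10e289f) (nat_lit 3075))
 (.node (nat_lit 0x10e2903) (.leaf (nat_lit 0x10e2901) (nat_lit 1281))
 (.leaf (nat_lit 0x10e2903) (nat_lit 1537))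
))) (.node (nat_lit 0x10e290b) (.node (nat_lit 0x10e2907) (.leaf (nat_lit 0x10e2905) (nat_lit 2051))
 (.node (nat_lit 0x10e2909) (.leaf (nat_lit 0x10e2907) (nat_lit 2049))
 (.leaf (nat_lit 0x10e2909) (nat_lit 1536))
)) (.node (nat_lit 0x10e290d) (.leaf (nat_lit 0x10e290b) (nat_lit 1792))
 (.node (nat_lit 0x10e290f) (.leaf (nat_lit 0x10e290d) (nat_lit 2307))
 (.leaf (nat_lit 0x10e290f) (nat_lit 2304))
)))))))) (.node (nat_lit 0x10e2bd9) (.node (nat_lit 0x10e2a85) (.node (nat_lit 0x10e29db) (.node (nat_lit 0x10e29c5) (.node (nat_lit 0x10e291b) (.node (nat_lit 0x10e2915) (.node (nat_lit 0x10e2913) (.leaf (nat_lit 0x10e2911) (nat_lit 3329))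
 (.leaf (nat_lit 0x10e2913) (nat_lit 3329))
) (.node (nat_lit 0x10e2917) (.leaf (nat_lit 0x10e2915) (nat_lit 2561))
 (.node (nat_lit 0x10e2919) (.leaf (nat_lit 0x10e2917) (nat_lit 2561))
 (.leaf (nat_lit 0x10e2919) (nat_lit 3073))
))) (.node (nat_lit 0x10e291f) (.node (nat_lit 0x10e291d) (.leaf (nat_lit 0x10e291b) (nat_lit 3073))
 (.leaf (nat_lit 0x10e291d) (nat_lit 2818))
) (.node (nat_lit 0x10e29c1) (.leaf (nat_lit 0x10e291f) (nat_lit 2562))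
 (.node (nat_lit 0x10e29c3) (.leaf (nat_lit 0x10e29c1) (nat_lit 1541))
 (.leaf (nat_lit 0x10e29c3) (nat_lit 1797))
)))) (.node (nat_lit 0x10e29cf) (.node (nat_lit 0x10e29c9) (.node (nat_lit 0x10e29c7) (.leaf (nat_lit 0x10e29c5) (nat_lit 1795))
 (.leaf (nat_lit 0x10e29c7) (nat_lit 2051))
) (.node (nat_lit 0x10e29cb) (.leaf (nat_lit 0x10e29c9) (nat_lit 2309))
 (.node (nat_lit 0x10e29cd) (.leaf (nat_lit 0x10e29cb) (nat_lit 2053))
 (.leaf (nat_lit 0x10e29cd) (nat_lit 2053))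
))) (.node (nat_lit 0x10e29d5) (.node (nat_lit 0x10e29d1) (.leaf (nat_lit 0x10e29cf) (nat_lit 1797))
 (.node (nat_lit 0x10e29d3) (.leaf (nat_lit 0x10e29d1) (nat_lit 3077))
 (.leaf (nat_lit 0x10e29d3) (nat_lit 2821))
)) (.node (nat_lit 0x10e29d7) (.leaf (nat_lit 0x10e29d5) (nat_lit 3077))
 (.node (nat_lit 0x10e29d9) (.leaf (nat_lit 0x10e29d7) (nat_lit 2821))
 (.leaf (nat_lit 0x10e29d9) (nat_lit 2818))
))))) (.node (nat_lit 0x10e2a4f) (.node (nat_lit 0x10e2a45) (.node (nat_lit 0x10e29df) (.node (nat_lit 0x10e29dd) (.leaf (nat_lit 0x10e29db) (nat_lit 3074))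
 (.leaf (nat_lit 0x10e29dd) (nat_lit 3077))
) (.node (nat_lit 0x10e2a41) (.leaf (nat_lit 0x10e29df) (nat_lit 3333))
 (.node (nat_lit 0x10e2a43) (.leaf (nat_lit 0x10e2a41) (nat_lit 2053))
 (.leaf (nat_lit 0x10e2a43) (nat_lit 2309))
))) (.node (nat_lit 0x10e2a49) (.node (nat_lit 0x10e2a47) (.leaf (nat_lit 0x10e2a45) (nat_lit 2306))
 (.leaf (nat_lit 0x10e2a47) (nat_lit 2562))
) (.node (nat_lit 0x10e2a4b) (.leaf (nat_lit 0x10e2a49) (nat_lit 2565))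
 (.node (nat_lit 0x10e2a4d) (.leaf (nat_lit 0x10e2a4b) (nat_lit 2309))
 (.leaf (nat_lit 0x10e2a4d) (nat_lit 2821))
)))) (.node (nat_lit 0x10e2a59) (.node (nat_lit 0x10e2a53) (.node (nat_lit 0x10e2a51) (.leaf (nat_lit 0x10e2a4f) (nat_lit 2565))
 (.leaf (nat_lit 0x10e2a51) (nat_lit 2565))
) (.node (nat_lit 0x10e2a55) (.leaf (nat_lit 0x10e2a53) (nat_lit 2309))
 (.node (nat_lit 0x10e2a57) (.leaf (nat_lit 0x10e2a55) (nat_lit 2818))
 (.leaf (nat_lit 0x10e2a57) (nat_lit 2562))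
))) (.node (nat_lit 0x10e2a5f) (.node (nat_lit 0x10e2a5b) (.leaf (nat_lit 0x10e2a59) (nat_lit 2565))
 (.node (nat_lit 0x10e2a5d) (.leaf (nat_lit 0x10e2a5b) (nat_lit 2821))
 (.leaf (nat_lit 0x10e2a5d) (nat_lit 2821))
)) (.node (nat_lit 0x10e2a81) (.leaf (nat_lit 0x10e2a5f) (nat_lit 3077))
 (.node (nat_lit 0x10e2a83) (.leaf (nat_lit 0x10e2a81) (nat_lit 1794))
 (.leaf (nat_lit 0x10e2a83) (nat_lit 2050))
)))))) (.node (nat_lit 0x10e2b0f) (.node (nat_lit 0x10e2a99) (.node (nat_lit 0x10e2a8f) (.node (nat_lit 0x10e2a89) (.node (nat_lit 0x10e2a87) (.leaf (nat_lit 0x10e2a85) (nat_lit 2562))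
 (.leaf (nat_lit 0x10e2a87) (nat_lit 2562))
) (.node (nat_lit 0x10e2a8b) (.leaf (nat_lit 0x10e2a89) (nat_lit 2561))
 (.node (nat_lit 0x10e2a8d) (.leaf (nat_lit 0x10e2a8b) (nat_lit 2305))
 (.leaf (nat_lit 0x10e2a8d) (nat_lit 3074))
))) (.node (nat_lit 0x10e2a93) (.node (nat_lit 0x10e2a91) (.leaf (nat_lit 0x10e2a8f) (nat_lit 2818))
 (.leaf (nat_lit 0x10e2a91) (nat_lit 2818))
) (.node (nat_lit 0x10e2a95) (.leaf (nat_lit 0x10e2a93) (nat_lit 2818))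
 (.node (nat_lit 0x10e2a97) (.leaf (nat_lit 0x10e2a95) (nat_lit 2050))
 (.leaf (nat_lit 0x10e2a97) (nat_lit 2306))
)))) (.node (nat_lit 0x10e2b03) (.node (nat_lit 0x10e2a9d) (.node (nat_lit 0x10e2a9b) (.leaf (nat_lit 0x10e2a99) (nat_lit 3073))
 (.leaf (nat_lit 0x10e2a9b) (nat_lit 3074))
) (.node (nat_lit 0x10e2a9f) (.leaf (nat_lit 0x10e2a9d) (nat_lit 2561))
 (.node (nat_lit 0x10e2b01) (.leaf (nat_lit 0x10e2a9f) (nat_lit 2305))
 (.leaf (nat_lit 0x10e2b01) (nat_lit 2306))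
))) (.node (nat_lit 0x10e2b09) (.node (nat_lit 0x10e2b05) (.leaf (nat_lit 0x10e2b03) (nat_lit 2562))
 (.node (nat_lit 0x10e2b07) (.leaf (nat_lit 0x10e2b05) (nat_lit 2562))
 (.leaf (nat_lit 0x10e2b07) (nat_lit 2818))
)) (.node (nat_lit 0x10e2b0b) (.leaf (nat_lit 0x10e2b09) (nat_lit 2817))
 (.node (nat_lit 0x10e2b0d) (.leaf (nat_lit 0x10e2b0b) (nat_lit 2561))
 (.leaf (nat_lit 0x10e2b0d) (nat_lit 2818))
))))) (.node (nat_lit 0x10e2bc3) (.node (nat_lit 0x10e2b19) (.node (nat_lit 0x10e2b13) (.node (nat_lit 0x10e2b11) (.leaf (nat_lit 0x10e2b0f) (nat_lit 2562))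
 (.leaf (nat_lit 0x10e2b11) (nat_lit 2817))
) (.node (nat_lit 0x10e2b15) (.leaf (nat_lit 0x10e2b13) (nat_lit 2561))
 (.node (nat_lit 0x10e2b17) (.leaf (nat_lit 0x10e2b15) (nat_lit 3074))
 (.leaf (nat_lit 0x10e2b17) (nat_lit 2818))
))) (.node (nat_lit 0x10e2b1d) (.node (nat_lit 0x10e2b1b) (.leaf (nat_lit 0x10e2b19) (nat_lit 2562))
 (.leaf (nat_lit 0x10e2b1b) (nat_lit 2818))
) (.node (nat_lit 0x10e2b1f) (.leaf (nat_lit 0x10e2b1d) (nat_lit 2818))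
 (.node (nat_lit 0x10e2bc1) (.leaf (nat_lit 0x10e2b1f) (nat_lit 2819))
 (.leaf (nat_lit 0x10e2bc1) (nat_lit 1797))
)))) (.node (nat_lit 0x10e2bcd) (.node (nat_lit 0x10e2bc7) (.node (nat_lit 0x10e2bc5) (.leaf (nat_lit 0x10e2bc3) (nat_lit 2053))
 (.leaf (nat_lit 0x10e2bc5) (nat_lit 2821))
) (.node (nat_lit 0x10e2bc9) (.leaf (nat_lit 0x10e2bc7) (nat_lit 2565))
 (.node (nat_lit 0x10e2bcb) (.leaf (nat_lit 0x10e2bc9) (nat_lit 2309))
 (.leaf (nat_lit 0x10e2bcb) (nat_lit 2053))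
))) (.node (nat_lit 0x10e2bd3) (.node (nat_lit 0x10e2bcf) (.leaf (nat_lit 0x10e2bcd) (nat_lit 2821))
 (.node (nat_lit 0x10e2bd1) (.leaf (nat_lit 0x10e2bcf) (nat_lit 2821))
 (.leaf (nat_lit 0x10e2bd1) (nat_lit 3077))
)) (.node (nat_lit 0x10e2bd5) (.leaf (nat_lit 0x10e2bd3) (nat_lit 3077))
 (.node (nat_lit 0x10e2bd7) (.leaf (nat_lit 0x10e2bd5) (nat_lit 2309))
 (.leaf (nat_lit 0x10e2bd7) (nat_lit 2565))
))))))) (.node (nat_lit 0x10e390d) (.node (nat_lit 0x10e38c3) (.node (nat_lit 0x10e388d) (.node (nat_lit 0x10e3883) (.node (nat_lit 0x10e2bdd) (.node (nat_lit 0x10e2bdb) (.leaf (nat_lit 0x10e2bd9) (nat_lit 2821))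
 (.leaf (nat_lit 0x10e2bdb) (nat_lit 3077))
) (.node (nat_lit 0x10e2bdf) (.leaf (nat_lit 0x10e2bdd) (nat_lit 2309))
 (.node (nat_lit 0x10e3881) (.leaf (nat_lit 0x10e2bdf) (nat_lit 2053))
 (.leaf (nat_lit 0x10e3881) (nat_lit 1539))
))) (.node (nat_lit 0x10e3887) (.node (nat_lit 0x10e3885) (.leaf (nat_lit 0x10e3883) (nat_lit 1795))
 (.leaf (nat_lit 0x10e3885) (nat_lit 1795))
) (.node (nat_lit 0x10e3889) (.leaf (nat_lit 0x10e3887) (nat_lit 1795))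
 (.node (nat_lit 0x10e388b) (.leaf (nat_lit 0x10e3889) (nat_lit 2305))
 (.leaf (nat_lit 0x10e388b) (nat_lit 2049))
)))) (.node (nat_lit 0x10e3897) (.node (nat_lit 0x10e3891) (.node (nat_lit 0x10e388f) (.leaf (nat_lit 0x10e388d) (nat_lit 2561))
 (.leaf (nat_lit 0x10e388f) (nat_lit 2305))
) (.node (nat_lit 0x10e3893) (.leaf (nat_lit 0x10e3891) (nat_lit 3077))
 (.node (nat_lit 0x10e3895) (.leaf (nat_lit 0x10e3893) (nat_lit 2821))
 (.leaf (nat_lit 0x10e3895) (nat_lit 3074))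
))) (.node (nat_lit 0x10e389d) (.node (nat_lit 0x10e3899) (.leaf (nat_lit 0x10e3897) (nat_lit 2818))
 (.node (nat_lit 0x10e389b) (.leaf (nat_lit 0x10e3899) (nat_lit 3073))
 (.leaf (nat_lit 0x10e389b) (nat_lit 3074))
)) (.node (nat_lit 0x10e389f) (.leaf (nat_lit 0x10e389d) (nat_lit 3332))
 (.node (nat_lit 0x10e38c1) (.leaf (nat_lit 0x10e389f) (nat_lit 3331))
 (.leaf (nat_lit 0x10e38c1) (nat_lit 1285))
))))) (.node (nat_lit 0x10e38d7) (.node (nat_lit 0x10e38cd) (.node (nat_lit 0x10e38c7) (.node (nat_lit 0x10e38c5) (.leaf (nat_lit 0x10e38c3) (nat_lit 1541))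
 (.leaf (nat_lit 0x10e38c5) (nat_lit 1797))
) (.node (nat_lit 0x10e38c9) (.leaf (nat_lit 0x10e38c7) (nat_lit 1541))
 (.node (nat_lit 0x10e38cb) (.leaf (nat_lit 0x10e38c9) (nat_lit 2049))
 (.leaf (nat_lit 0x10e38cb) (nat_lit 2305))
))) (.node (nat_lit 0x10e38d1) (.node (nat_lit 0x10e38cf) (.leaf (nat_lit 0x10e38cd) (nat_lit 2309))
 (.leaf (nat_lit 0x10e38cf) (nat_lit 2053))
) (.node (nat_lit 0x10e38d3) (.leaf (nat_lit 0x10e38d1) (nat_lit 2821))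
 (.node (nat_lit 0x10e38d5) (.leaf (nat_lit 0x10e38d3) (nat_lit 2565))
 (.leaf (nat_lit 0x10e38d5) (nat_lit 2562))
)))) (.node (nat_lit 0x10e3901) (.node (nat_lit 0x10e38db) (.node (nat_lit 0x10e38d9) (.leaf (nat_lit 0x10e38d7) (nat_lit 2818))
 (.leaf (nat_lit 0x10e38d9) (nat_lit 3077))
) (.node (nat_lit 0x10e38dd) (.leaf (nat_lit 0x10e38db) (nat_lit 2821))
 (.node (nat_lit 0x10e38df) (.leaf (nat_lit 0x10e38dd) (nat_lit 3077))
 (.leaf (nat_lit 0x10e38df) (nat_lit 3077))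
))) (.node (nat_lit 0x10e3907) (.node (nat_lit 0x10e3903) (.leaf (nat_lit 0x10e3901) (nat_lit 1537))
 (.node (nat_lit 0x10e3905) (.leaf (nat_lit 0x10e3903) (nat_lit 1793))
 (.leaf (nat_lit 0x10e3905) (nat_lit 2049))
)) (.node (nat_lit 0x10e3909) (.leaf (nat_lit 0x10e3907) (nat_lit 1793))
 (.node (nat_lit 0x10e390b) (.leaf (nat_lit 0x10e3909) (nat_lit 1792))
 (.leaf (nat_lit 0x10e390b) (nat_lit 2048))
)))))) (.node (nat_lit 0x10e3957) (.node (nat_lit 0x10e3941) (.node (nat_lit 0x10e3917) (.node (nat_lit 0x10e3911) (.node (nat_lit 0x10e390f) (.leaf (nat_lit 0x10e390d) (nat_lit 2304))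
 (.leaf (nat_lit 0x10e390f) (nat_lit 2048))
) (.node (nat_lit 0x10e3913) (.leaf (nat_lit 0x10e3911) (nat_lit 3073))
 (.node (nat_lit 0x10e3915) (.leaf (nat_lit 0x10e3913) (nat_lit 2817))
 (.leaf (nat_lit 0x10e3915) (nat_lit 2817))
))) (.node (nat_lit 0x10e391b) (.node (nat_lit 0x10e3919) (.leaf (nat_lit 0x10e3917) (nat_lit 3073))
 (.leaf (nat_lit 0x10e3919) (nat_lit 3074))
) (.node (nat_lit 0x10e391d) (.leaf (nat_lit 0x10e391b) (nat_lit 2818))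
 (.node (nat_lit 0x10e391f) (.leaf (nat_lit 0x10e391d) (nat_lit 3074))
 (.leaf (nat_lit 0x10e391f) (nat_lit 3330))
)))) (.node (nat_lit 0x10e394b) (.node (nat_lit 0x10e3945) (.node (nat_lit 0x10e3943) (.leaf (nat_lit 0x10e3941) (nat_lit 1541))
 (.leaf (nat_lit 0x10e3943) (nat_lit 1797))
) (.node (nat_lit 0x10e3947) (.leaf (nat_lit 0x10e3945) (nat_lit 2051))
 (.node (nat_lit 0x10e3949) (.leaf (nat_lit 0x10e3947) (nat_lit 2053))
 (.leaf (nat_lit 0x10e3949) (nat_lit 2053))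
))) (.node (nat_lit 0x10e3951) (.node (nat_lit 0x10e394d) (.leaf (nat_lit 0x10e394b) (nat_lit 1797))
 (.node (nat_lit 0x10e394f) (.leaf (nat_lit 0x10e394d) (nat_lit 2309))
 (.leaf (nat_lit 0x10e394f) (nat_lit 2053))
)) (.node (nat_lit 0x10e3953) (.leaf (nat_lit 0x10e3951) (nat_lit 3077))
 (.node (nat_lit 0x10e3955) (.leaf (nat_lit 0x10e3953) (nat_lit 2821))
 (.leaf (nat_lit 0x10e3955) (nat_lit 3333))
))))) (.node (nat_lit 0x10e3a8b) (.node (nat_lit 0x10e3a81) (.node (nat_lit 0x10e395b) (.node (nat_lit 0x10e3959) (.leaf (nat_lit 0x10e3957) (nat_lit 3077))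
 (.leaf (nat_lit 0x10e3959) (nat_lit 2818))
) (.node (nat_lit 0x10e395d) (.leaf (nat_lit 0x10e395b) (nat_lit 3074))
 (.node (nat_lit 0x10e395f) (.leaf (nat_lit 0x10e395d) (nat_lit 3333))
 (.leaf (nat_lit 0x10e395f) (nat_lit 3077))
))) (.node (nat_lit 0x10e3a85) (.node (nat_lit 0x10e3a83) (.leaf (nat_lit 0x10e3a81) (nat_lit 2050))
 (.leaf (nat_lit 0x10e3a83) (nat_lit 2306))
) (.node (nat_lit 0x10e3a87) (.leaf (nat_lit 0x10e3a85) (nat_lit 2562))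
 (.node (nat_lit 0x10e3a89) (.leaf (nat_lit 0x10e3a87) (nat_lit 2306))
 (.leaf (nat_lit 0x10e3a89) (nat_lit 2817))
)))) (.node (nat_lit 0x10e3a95) (.node (nat_lit 0x10e3a8f) (.node (nat_lit 0x10e3a8d) (.leaf (nat_lit 0x10e3a8b) (nat_lit 3073))
 (.leaf (nat_lit 0x10e3a8d) (nat_lit 2817))
) (.node (nat_lit 0x10e3a91) (.leaf (nat_lit 0x10e3a8f) (nat_lit 2561))
 (.node (nat_lit 0x10e3a93) (.leaf (nat_lit 0x10e3a91) (nat_lit 2818))
 (.leaf (nat_lit 0x10e3a93) (nat_lit 2562))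
))) (.node (nat_lit 0x10e3a9b) (.node (nat_lit 0x10e3a97) (.leaf (nat_lit 0x10e3a95) (nat_lit 2306))
 (.node (nat_lit 0x10e3a99) (.leaf (nat_lit 0x10e3a97) (nat_lit 2562))
 (.leaf (nat_lit 0x10e3a99) (nat_lit 2817))
)) (.node (nat_lit 0x10e3a9d) (.leaf (nat_lit 0x10e3a9b) (nat_lit 2561))
 (.node (nat_lit 0x10e3a9f) (.leaf (nat_lit 0x10e3a9d) (nat_lit 2817))
 (.leaf (nat_lit 0x10e3a9f) (nat_lit 3073))
))))))))) (.node (nat_lit 0x10e4b51) (.node (nat_lit 0x10e4909) (.node (nat_lit 0x10e3b55) (.node (nat_lit 0x10e3b0b) (.node (nat_lit 0x10e3ad5) (.node (nat_lit 0x10e3acb) (.node (nat_lit 0x10e3ac5) (.node (nat_lit 0x10e3ac3) (.leaf (nat_lit 0x10e3ac1) (nat_lit 2053))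
 (.leaf (nat_lit 0x10e3ac3) (nat_lit 2309))
) (.node (nat_lit 0x10e3ac7) (.leaf (nat_lit 0x10e3ac5) (nat_lit 2562))
 (.node (nat_lit 0x10e3ac9) (.leaf (nat_lit 0x10e3ac7) (nat_lit 2565))
 (.leaf (nat_lit 0x10e3ac9) (nat_lit 2821))
))) (.node (nat_lit 0x10e3acf) (.node (nat_lit 0x10e3acd) (.leaf (nat_lit 0x10e3acb) (nat_lit 2565))
 (.leaf (nat_lit 0x10e3acd) (nat_lit 2565))
) (.node (nat_lit 0x10e3ad1) (.leaf (nat_lit 0x10e3acf) (nat_lit 2309))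
 (.node (nat_lit 0x10e3ad3) (.leaf (nat_lit 0x10e3ad1) (nat_lit 2821))
 (.leaf (nat_lit 0x10e3ad3) (nat_lit 2818))
)))) (.node (nat_lit 0x10e3adf) (.node (nat_lit 0x10e3ad9) (.node (nat_lit 0x10e3ad7) (.leaf (nat_lit 0x10e3ad5) (nat_lit 2565))
 (.leaf (nat_lit 0x10e3ad7) (nat_lit 2309))
) (.node (nat_lit 0x10e3adb) (.leaf (nat_lit 0x10e3ad9) (nat_lit 2565))
 (.node (nat_lit 0x10e3add) (.leaf (nat_lit 0x10e3adb) (nat_lit 2821))
 (.leaf (nat_lit 0x10e3add) (nat_lit 2821))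
))) (.node (nat_lit 0x10e3b05) (.node (nat_lit 0x10e3b01) (.leaf (nat_lit 0x10e3adf) (nat_lit 3077))
 (.node (nat_lit 0x10e3b03) (.leaf (nat_lit 0x10e3b01) (nat_lit 2305))
 (.leaf (nat_lit 0x10e3b03) (nat_lit 2561))
)) (.node (nat_lit 0x10e3b07) (.leaf (nat_lit 0x10e3b05) (nat_lit 2565))
 (.node (nat_lit 0x10e3b09) (.leaf (nat_lit 0x10e3b07) (nat_lit 2821))
 (.leaf (nat_lit 0x10e3b09) (nat_lit 2818))
))))) (.node (nat_lit 0x10e3b1f) (.node (nat_lit 0x10e3b15) (.node (nat_lit 0x10e3b0f) (.node (nat_lit 0x10e3b0d) (.leaf (nat_lit 0x10e3b0b) (nat_lit 2562))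
 (.leaf (nat_lit 0x10e3b0d) (nat_lit 2817))
) (.node (nat_lit 0x10e3b11) (.leaf (nat_lit 0x10e3b0f) (nat_lit 2561))
 (.node (nat_lit 0x10e3b13) (.leaf (nat_lit 0x10e3b11) (nat_lit 3074))
 (.leaf (nat_lit 0x10e3b13) (nat_lit 2818))
))) (.node (nat_lit 0x10e3b19) (.node (nat_lit 0x10e3b17) (.leaf (nat_lit 0x10e3b15) (nat_lit 2817))
 (.leaf (nat_lit 0x10e3b17) (nat_lit 2561))
) (.node (nat_lit 0x10e3b1b) (.leaf (nat_lit 0x10e3b19) (nat_lit 2560))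
 (.node (nat_lit 0x10e3b1d) (.leaf (nat_lit 0x10e3b1b) (nat_lit 2563))
 (.leaf (nat_lit 0x10e3b1d) (nat_lit 2821))
)))) (.node (nat_lit 0x10e3b49) (.node (nat_lit 0x10e3b43) (.node (nat_lit 0x10e3b41) (.leaf (nat_lit 0x10e3b1f) (nat_lit 3077))
 (.leaf (nat_lit 0x10e3b41) (nat_lit 2053))
) (.node (nat_lit 0x10e3b45) (.leaf (nat_lit 0x10e3b43) (nat_lit 2309))
 (.node (nat_lit 0x10e3b47) (.leaf (nat_lit 0x10e3b45) (nat_lit 2565))
 (.leaf (nat_lit 0x10e3b47) (nat_lit 2309))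
))) (.node (nat_lit 0x10e3b4f) (.node (nat_lit 0x10e3b4b) (.leaf (nat_lit 0x10e3b49) (nat_lit 2565))
 (.node (nat_lit 0x10e3b4d) (.leaf (nat_lit 0x10e3b4b) (nat_lit 2821))
 (.leaf (nat_lit 0x10e3b4d) (nat_lit 2565))
)) (.node (nat_lit 0x10e3b51) (.leaf (nat_lit 0x10e3b4f) (nat_lit 2309))
 (.node (nat_lit 0x10e3b53) (.leaf (nat_lit 0x10e3b51) (nat_lit 3077))
 (.leaf (nat_lit 0x10e3b53) (nat_lit 2821))
)))))) (.node (nat_lit 0x10e489f) (.node (nat_lit 0x10e4889) (.node (nat_lit 0x10e3b5f) (.node (nat_lit 0x10e3b59) (.node (nat_lit 0x10e3b57) (.leaf (nat_lit 0x10e3b55) (nat_lit 2565))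
 (.leaf (nat_lit 0x10e3b57) (nat_lit 2821))
) (.node (nat_lit 0x10e3b5b) (.leaf (nat_lit 0x10e3b59) (nat_lit 2565))
 (.node (nat_lit 0x10e3b5d) (.leaf (nat_lit 0x10e3b5b) (nat_lit 2309))
 (.leaf (nat_lit 0x10e3b5d) (nat_lit 2565))
))) (.node (nat_lit 0x10e4883) (.node (nat_lit 0x10e4881) (.leaf (nat_lit 0x10e3b5f) (nat_lit 2821))
 (.leaf (nat_lit 0x10e4881) (nat_lit 1794))
) (.node (nat_lit 0x10e4885) (.leaf (nat_lit 0x10e4883) (nat_lit 2050))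
 (.node (nat_lit 0x10e4887) (.leaf (nat_lit 0x10e4885) (nat_lit 2050))
 (.leaf (nat_lit 0x10e4887) (nat_lit 2050))
)))) (.node (nat_lit 0x10e4893) (.node (nat_lit 0x10e488d) (.node (nat_lit 0x10e488b) (.leaf (nat_lit 0x10e4889) (nat_lit 2562))
 (.leaf (nat_lit 0x10e488b) (nat_lit 2306))
) (.node (nat_lit 0x10e488f) (.leaf (nat_lit 0x10e488d) (nat_lit 2818))
 (.node (nat_lit 0x10e4891) (.leaf (nat_lit 0x10e488f) (nat_lit 2562))
 (.leaf (nat_lit 0x10e4891) (nat_lit 2821))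
))) (.node (nat_lit 0x10e4899) (.node (nat_lit 0x10e4895) (.leaf (nat_lit 0x10e4893) (nat_lit 2565))
 (.node (nat_lit 0x10e4897) (.leaf (nat_lit 0x10e4895) (nat_lit 2817))
 (.leaf (nat_lit 0x10e4897) (nat_lit 2561))
)) (.node (nat_lit 0x10e489b) (.leaf (nat_lit 0x10e4899) (nat_lit 3075))
 (.node (nat_lit 0x10e489d) (.leaf (nat_lit 0x10e489b) (nat_lit 2819))
 (.leaf (nat_lit 0x10e489d) (nat_lit 3076))
))))) (.node (nat_lit 0x10e48d3) (.node (nat_lit 0x10e48c9) (.node (nat_lit 0x10e48c3) (.node (nat_lit 0x10e48c1) (.leaf (nat_lit 0x10e489f) (nat_lit 3075))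
 (.leaf (nat_lit 0x10e48c1) (nat_lit 1541))
) (.node (nat_lit 0x10e48c5) (.leaf (nat_lit 0x10e48c3) (nat_lit 1797))
 (.node (nat_lit 0x10e48c7) (.leaf (nat_lit 0x10e48c5) (nat_lit 2053))
 (.leaf (nat_lit 0x10e48c7) (nat_lit 1797))
))) (.node (nat_lit 0x10e48cd) (.node (nat_lit 0x10e48cb) (.leaf (nat_lit 0x10e48c9) (nat_lit 2306))
 (.leaf (nat_lit 0x10e48cb) (nat_lit 2562))
) (.node (nat_lit 0x10e48cf) (.leaf (nat_lit 0x10e48cd) (nat_lit 2565))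
 (.node (nat_lit 0x10e48d1) (.leaf (nat_lit 0x10e48cf) (nat_lit 2309))
 (.leaf (nat_lit 0x10e48d1) (nat_lit 2565))
)))) (.node (nat_lit 0x10e48dd) (.node (nat_lit 0x10e48d7) (.node (nat_lit 0x10e48d5) (.leaf (nat_lit 0x10e48d3) (nat_lit 2309))
 (.leaf (nat_lit 0x10e48d5) (nat_lit 2305))
) (.node (nat_lit 0x10e48d9) (.leaf (nat_lit 0x10e48d7) (nat_lit 2561))
 (.node (nat_lit 0x10e48db) (.leaf (nat_lit 0x10e48d9) (nat_lit 2821))
 (.leaf (nat_lit 0x10e48db) (nat_lit 2565))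
))) (.node (nat_lit 0x10e4903) (.node (nat_lit 0x10e48df) (.leaf (nat_lit 0x10e48dd) (nat_lit 2821))
 (.node (nat_lit 0x10e4901) (.leaf (nat_lit 0x10e48df) (nat_lit 2821))
 (.leaf (nat_lit 0x10e4901) (nat_lit 1794))
)) (.node (nat_lit 0x10e4905) (.leaf (nat_lit 0x10e4903) (nat_lit 2050))
 (.node (nat_lit 0x10e4907) (.leaf (nat_lit 0x10e4905) (nat_lit 2306))
 (.leaf (nat_lit 0x10e4907) (nat_lit 2050))
))))))) (.node (nat_lit 0x10e4a9d) (.node (nat_lit 0x10e4953) (.node (nat_lit 0x10e491d) (.node (nat_lit 0x10e4913) (.node (nat_lit 0x10e490d) (.node (nat_lit 0x10e490b) (.leaf (nat_lit 0x10e4909) (nat_lit 2050))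
 (.leaf (nat_lit 0x10e490b) (nat_lit 2306))
) (.node (nat_lit 0x10e490f) (.leaf (nat_lit 0x10e490d) (nat_lit 2562))
 (.node (nat_lit 0x10e4911) (.leaf (nat_lit 0x10e490f) (nat_lit 2306))
 (.leaf (nat_lit 0x10e4911) (nat_lit 3073))
))) (.node (nat_lit 0x10e4917) (.node (nat_lit 0x10e4915) (.leaf (nat_lit 0x10e4913) (nat_lit 2817))
 (.leaf (nat_lit 0x10e4915) (nat_lit 3073))
) (.node (nat_lit 0x10e4919) (.leaf (nat_lit 0x10e4917) (nat_lit 3075))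
 (.node (nat_lit 0x10e491b) (.leaf (nat_lit 0x10e4919) (nat_lit 2817))
 (.leaf (nat_lit 0x10e491b) (nat_lit 2561))
)))) (.node (nat_lit 0x10e4947) (.node (nat_lit 0x10e4941) (.node (nat_lit 0x10e491f) (.leaf (nat_lit 0x10e491d) (nat_lit 2817))
 (.leaf (nat_lit 0x10e491f) (nat_lit 3073))
) (.node (nat_lit 0x10e4943) (.leaf (nat_lit 0x10e4941) (nat_lit 1797))
 (.node (nat_lit 0x10e4945) (.leaf (nat_lit 0x10e4943) (nat_lit 2053))
 (.leaf (nat_lit 0x10e4945) (nat_lit 2306))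
))) (.node (nat_lit 0x10e494d) (.node (nat_lit 0x10e4949) (.leaf (nat_lit 0x10e4947) (nat_lit 2309))
 (.node (nat_lit 0x10e494b) (.leaf (nat_lit 0x10e4949) (nat_lit 2309))
 (.leaf (nat_lit 0x10e494b) (nat_lit 2053))
)) (.node (nat_lit 0x10e494f) (.leaf (nat_lit 0x10e494d) (nat_lit 2565))
 (.node (nat_lit 0x10e4951) (.leaf (nat_lit 0x10e494f) (nat_lit 2309))
 (.leaf (nat_lit 0x10e4951) (nat_lit 2821))
))))) (.node (nat_lit 0x10e4a87) (.node (nat_lit 0x10e495d) (.node (nat_lit 0x10e4957) (.node (nat_lit 0x10e4955) (.leaf (nat_lit 0x10e4953) (nat_lit 2565))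
 (.leaf (nat_lit 0x10e4955) (nat_lit 3077))
) (.node (nat_lit 0x10e4959) (.leaf (nat_lit 0x10e4957) (nat_lit 3073))
 (.node (nat_lit 0x10e495b) (.leaf (nat_lit 0x10e4959) (nat_lit 2561))
 (.leaf (nat_lit 0x10e495b) (nat_lit 2817))
))) (.node (nat_lit 0x10e4a81) (.node (nat_lit 0x10e495f) (.leaf (nat_lit 0x10e495d) (nat_lit 3073))
 (.leaf (nat_lit 0x10e495f) (nat_lit 3073))
) (.node (nat_lit 0x10e4a83) (.leaf (nat_lit 0x10e4a81) (nat_lit 1793))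
 (.node (nat_lit 0x10e4a85) (.leaf (nat_lit 0x10e4a83) (nat_lit 2049))
 (.leaf (nat_lit 0x10e4a85) (nat_lit 2305))
)))) (.node (nat_lit 0x10e4a91) (.node (nat_lit 0x10e4a8b) (.node (nat_lit 0x10e4a89) (.leaf (nat_lit 0x10e4a87) (nat_lit 2049))
 (.leaf (nat_lit 0x10e4a89) (nat_lit 2561))
) (.node (nat_lit 0x10e4a8d) (.leaf (nat_lit 0x10e4a8b) (nat_lit 2817))
 (.node (nat_lit 0x10e4a8f) (.leaf (nat_lit 0x10e4a8d) (nat_lit 2817))
 (.leaf (nat_lit 0x10e4a8f) (nat_lit 2561))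
))) (.node (nat_lit 0x10e4a97) (.node (nat_lit 0x10e4a93) (.leaf (nat_lit 0x10e4a91) (nat_lit 2560))
 (.node (nat_lit 0x10e4a95) (.leaf (nat_lit 0x10e4a93) (nat_lit 2304))
 (.leaf (nat_lit 0x10e4a95) (nat_lit 2048))
)) (.node (nat_lit 0x10e4a99) (.leaf (nat_lit 0x10e4a97) (nat_lit 2304))
 (.node (nat_lit 0x10e4a9b) (.leaf (nat_lit 0x10e4a99) (nat_lit 3073))
 (.leaf (nat_lit 0x10e4a9b) (nat_lit 2817))
)))))) (.node (nat_lit 0x10e4b07) (.node (nat_lit 0x10e4ad1) (.node (nat_lit 0x10e4ac7) (.node (nat_lit 0x10e4ac1) (.node (nat_lit 0x10e4a9f) (.leaf (nat_lit 0x10e4a9d) (nat_lit 2816))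
 (.leaf (nat_lit 0x10e4a9f) (nat_lit 3072))
) (.node (nat_lit 0x10e4ac3) (.leaf (nat_lit 0x10e4ac1) (nat_lit 2049))
 (.node (nat_lit 0x10e4ac5) (.leaf (nat_lit 0x10e4ac3) (nat_lit 2305))
 (.leaf (nat_lit 0x10e4ac5) (nat_lit 2305))
))) (.node (nat_lit 0x10e4acb) (.node (nat_lit 0x10e4ac9) (.leaf (nat_lit 0x10e4ac7) (nat_lit 2305))
 (.leaf (nat_lit 0x10e4ac9) (nat_lit 2817))
) (.node (nat_lit 0x10e4acd) (.leaf (nat_lit 0x10e4acb) (nat_lit 2561))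
 (.node (nat_lit 0x10e4acf) (.leaf (nat_lit 0x10e4acd) (nat_lit 2821))
 (.leaf (nat_lit 0x10e4acf) (nat_lit 2565))
)))) (.node (nat_lit 0x10e4adb) (.node (nat_lit 0x10e4ad5) (.node (nat_lit 0x10e4ad3) (.leaf (nat_lit 0x10e4ad1) (nat_lit 2560))
 (.leaf (nat_lit 0x10e4ad3) (nat_lit 2560))
) (.node (nat_lit 0x10e4ad7) (.leaf (nat_lit 0x10e4ad5) (nat_lit 2560))
 (.node (nat_lit 0x10e4ad9) (.leaf (nat_lit 0x10e4ad7) (nat_lit 2304))
 (.leaf (nat_lit 0x10e4ad9) (nat_lit 2821))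
))) (.node (nat_lit 0x10e4b01) (.node (nat_lit 0x10e4add) (.leaf (nat_lit 0x10e4adb) (nat_lit 3077))
 (.node (nat_lit 0x10e4adf) (.leaf (nat_lit 0x10e4add) (nat_lit 2816))
 (.leaf (nat_lit 0x10e4adf) (nat_lit 3072))
)) (.node (nat_lit 0x10e4b03) (.leaf (nat_lit 0x10e4b01) (nat_lit 2049))
 (.node (nat_lit 0x10e4b05) (.leaf (nat_lit 0x10e4b03) (nat_lit 2305))
 (.leaf (nat_lit 0x10e4b05) (nat_lit 2561))
))))) (.node (nat_lit 0x10e4b1b) (.node (nat_lit 0x10e4b11) (.node (nat_lit 0x10e4b0b) (.node (nat_lit 0x10e4b09) (.leaf (nat_lit 0x10e4b07) (nat_lit 2561))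
 (.leaf (nat_lit 0x10e4b09) (nat_lit 2561))
) (.node (nat_lit 0x10e4b0d) (.leaf (nat_lit 0x10e4b0b) (nat_lit 2305))
 (.node (nat_lit 0x10e4b0f) (.leaf (nat_lit 0x10e4b0d) (nat_lit 2817))
 (.leaf (nat_lit 0x10e4b0f) (nat_lit 2561))
))) (.node (nat_lit 0x10e4b15) (.node (nat_lit 0x10e4b13) (.leaf (nat_lit 0x10e4b11) (nat_lit 2816))
 (.leaf (nat_lit 0x10e4b13) (nat_lit 2560))
) (.node (nat_lit 0x10e4b17) (.leaf (nat_lit 0x10e4b15) (nat_lit 3072))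
 (.node (nat_lit 0x10e4b19) (.leaf (nat_lit 0x10e4b17) (nat_lit 2816))
 (.leaf (nat_lit 0x10e4b19) (nat_lit 2304))
)))) (.node (nat_lit 0x10e4b45) (.node (nat_lit 0x10e4b1f) (.node (nat_lit 0x10e4b1d) (.leaf (nat_lit 0x10e4b1b) (nat_lit 2560))
 (.leaf (nat_lit 0x10e4b1d) (nat_lit 2816))
) (.node (nat_lit 0x10e4b41) (.leaf (nat_lit 0x10e4b1f) (nat_lit 2816))
 (.node (nat_lit 0x10e4b43) (.leaf (nat_lit 0x10e4b41) (nat_lit 2049))
 (.leaf (nat_lit 0x10e4b43) (nat_lit 2305))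
))) (.node (nat_lit 0x10e4b4b) (.node (nat_lit 0x10e4b47) (.leaf (nat_lit 0x10e4b45) (nat_lit 2561))
 (.node (nat_lit 0x10e4b49) (.leaf (nat_lit 0x10e4b47) (nat_lit 2305))
 (.leaf (nat_lit 0x10e4b49) (nat_lit 2305))
)) (.node (nat_lit 0x10e4b4d) (.leaf (nat_lit 0x10e4b4b) (nat_lit 2561))
 (.node (nat_lit 0x10e4b4f) (.leaf (nat_lit 0x10e4b4d) (nat_lit 2817))
 (.leaf (nat_lit 0x10e4b4f) (nat_lit 2561))
)))))))) (.node (nat_lit 0x10e5259) (.node (nat_lit 0x10e5145) (.node (nat_lit 0x10e505b) (.node (nat_lit 0x10e5045) (.node (nat_lit 0x10e4b5b) (.node (nat_lit 0x10e4b55) (.node (nat_lit 0x10e4b53) (.leaf (nat_lit 0x10e4b51) (nat_lit 2821))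
 (.leaf (nat_lit 0x10e4b53) (nat_lit 2565))
) (.node (nat_lit 0x10e4b57) (.leaf (nat_lit 0x10e4b55) (nat_lit 2821))
 (.node (nat_lit 0x10e4b59) (.leaf (nat_lit 0x10e4b57) (nat_lit 3077))
 (.leaf (nat_lit 0x10e4b59) (nat_lit 2560))
))) (.node (nat_lit 0x10e4b5f) (.node (nat_lit 0x10e4b5d) (.leaf (nat_lit 0x10e4b5b) (nat_lit 2304))
 (.leaf (nat_lit 0x10e4b5d) (nat_lit 2560))
) (.node (nat_lit 0x10e5041) (.leaf (nat_lit 0x10e4b5f) (nat_lit 2816))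
 (.node (nat_lit 0x10e5043) (.leaf (nat_lit 0x10e5041) (nat_lit 1026))
 (.leaf (nat_lit 0x10e5043) (nat_lit 1282))
)))) (.node (nat_lit 0x10e504f) (.node (nat_lit 0x10e5049) (.node (nat_lit 0x10e5047) (.leaf (nat_lit 0x10e5045) (nat_lit 2050))
 (.leaf (nat_lit 0x10e5047) (nat_lit 1794))
) (.node (nat_lit 0x10e504b) (.leaf (nat_lit 0x10e5049) (nat_lit 2050))
 (.node (nat_lit 0x10e504d) (.leaf (nat_lit 0x10e504b) (nat_lit 1794))
 (.leaf (nat_lit 0x10e504d) (nat_lit 2308))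
))) (.node (nat_lit 0x10e5055) (.node (nat_lit 0x10e5051) (.leaf (nat_lit 0x10e504f) (nat_lit 2052))
 (.node (nat_lit 0x10e5053) (.leaf (nat_lit 0x10e5051) (nat_lit 2561))
 (.leaf (nat_lit 0x10e5053) (nat_lit 2817))
)) (.node (nat_lit 0x10e5057) (.leaf (nat_lit 0x10e5055) (nat_lit 2049))
 (.node (nat_lit 0x10e5059) (.leaf (nat_lit 0x10e5057) (nat_lit 1793))
 (.leaf (nat_lit 0x10e5059) (nat_lit 2563))
))))) (.node (nat_lit 0x10e50cf) (.node (nat_lit 0x10e50c5) (.node (nat_lit 0x10e505f) (.node (nat_lit 0x10e505d) (.leaf (nat_lit 0x10e505b) (nat_lit 2307))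
 (.leaf (nat_lit 0x10e505d) (nat_lit 2308))
) (.node (nat_lit 0x10e50c1) (.leaf (nat_lit 0x10e505f) (nat_lit 2052))
 (.node (nat_lit 0x10e50c3) (.leaf (nat_lit 0x10e50c1) (nat_lit 1282))
 (.leaf (nat_lit 0x10e50c3) (nat_lit 1538))
))) (.node (nat_lit 0x10e50c9) (.node (nat_lit 0x10e50c7) (.leaf (nat_lit 0x10e50c5) (nat_lit 1794))
 (.leaf (nat_lit 0x10e50c7) (nat_lit 1538))
) (.node (nat_lit 0x10e50cb) (.leaf (nat_lit 0x10e50c9) (nat_lit 2306))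
 (.node (nat_lit 0x10e50cd) (.leaf (nat_lit 0x10e50cb) (nat_lit 2308))
 (.leaf (nat_lit 0x10e50cd) (nat_lit 2306))
)))) (.node (nat_lit 0x10e50d9) (.node (nat_lit 0x10e50d3) (.node (nat_lit 0x10e50d1) (.leaf (nat_lit 0x10e50cf) (nat_lit 2050))
 (.leaf (nat_lit 0x10e50d1) (nat_lit 2305))
) (.node (nat_lit 0x10e50d5) (.leaf (nat_lit 0x10e50d3) (nat_lit 2049))
 (.node (nat_lit 0x10e50d7) (.leaf (nat_lit 0x10e50d5) (nat_lit 2305))
 (.leaf (nat_lit 0x10e50d7) (nat_lit 2561))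
))) (.node (nat_lit 0x10e50df) (.node (nat_lit 0x10e50db) (.leaf (nat_lit 0x10e50d9) (nat_lit 2564))
 (.node (nat_lit 0x10e50dd) (.leaf (nat_lit 0x10e50db) (nat_lit 2308))
 (.leaf (nat_lit 0x10e50dd) (nat_lit 2564))
)) (.node (nat_lit 0x10e5141) (.leaf (nat_lit 0x10e50df) (nat_lit 2563))
 (.node (nat_lit 0x10e5143) (.leaf (nat_lit 0x10e5141) (nat_lit 1282))
 (.leaf (nat_lit 0x10e5143) (nat_lit 1538))
)))))) (.node (nat_lit 0x10e51cf) (.node (nat_lit 0x10e5159) (.node (nat_lit 0x10e514f) (.node (nat_lit 0x10e5149) (.node (nat_lit 0x10e5147) (.leaf (nat_lit 0x10e5145) (nat_lit 2306))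
 (.leaf (nat_lit 0x10e5147) (nat_lit 2050))
) (.node (nat_lit 0x10e514b) (.leaf (nat_lit 0x10e5149) (nat_lit 1794))
 (.node (nat_lit 0x10e514d) (.leaf (nat_lit 0x10e514b) (nat_lit 1538))
 (.leaf (nat_lit 0x10e514d) (nat_lit 2306))
))) (.node (nat_lit 0x10e5153) (.node (nat_lit 0x10e5151) (.leaf (nat_lit 0x10e514f) (nat_lit 2306))
 (.leaf (nat_lit 0x10e5151) (nat_lit 3075))
) (.node (nat_lit 0x10e5155) (.leaf (nat_lit 0x10e5153) (nat_lit 2819))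
 (.node (nat_lit 0x10e5157) (.leaf (nat_lit 0x10e5155) (nat_lit 2308))
 (.leaf (nat_lit 0x10e5157) (nat_lit 2564))
)))) (.node (nat_lit 0x10e51c3) (.node (nat_lit 0x10e515d) (.node (nat_lit 0x10e515b) (.leaf (nat_lit 0x10e5159) (nat_lit 2820))
 (.leaf (nat_lit 0x10e515b) (nat_lit 3076))
) (.node (nat_lit 0x10e515f) (.leaf (nat_lit 0x10e515d) (nat_lit 2308))
 (.node (nat_lit 0x10e51c1) (.leaf (nat_lit 0x10e515f) (nat_lit 2052))
 (.leaf (nat_lit 0x10e51c1) (nat_lit 1538))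
))) (.node (nat_lit 0x10e51c9) (.node (nat_lit 0x10e51c5) (.leaf (nat_lit 0x10e51c3) (nat_lit 1794))
 (.node (nat_lit 0x10e51c7) (.leaf (nat_lit 0x10e51c5) (nat_lit 2050))
 (.leaf (nat_lit 0x10e51c7) (nat_lit 1794))
)) (.node (nat_lit 0x10e51cb) (.leaf (nat_lit 0x10e51c9) (nat_lit 2050))
 (.node (nat_lit 0x10e51cd) (.leaf (nat_lit 0x10e51cb) (nat_lit 2306))
 (.leaf (nat_lit 0x10e51cd) (nat_lit 2050))
))))) (.node (nat_lit 0x10e5243) (.node (nat_lit 0x10e51d9) (.node (nat_lit 0x10e51d3) (.node (nat_lit 0x10e51d1) (.leaf (nat_lit 0x10e51cf) (nat_lit 1794))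
 (.leaf (nat_lit 0x10e51d1) (nat_lit 3076))
) (.node (nat_lit 0x10e51d5) (.leaf (nat_lit 0x10e51d3) (nat_lit 2820))
 (.node (nat_lit 0x10e51d7) (.leaf (nat_lit 0x10e51d5) (nat_lit 2564))
 (.leaf (nat_lit 0x10e51d7) (nat_lit 2563))
))) (.node (nat_lit 0x10e51dd) (.node (nat_lit 0x10e51db) (.leaf (nat_lit 0x10e51d9) (nat_lit 2564))
 (.leaf (nat_lit 0x10e51db) (nat_lit 2308))
) (.node (nat_lit 0x10e51df) (.leaf (nat_lit 0x10e51dd) (nat_lit 2564))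
 (.node (nat_lit 0x10e5241) (.leaf (nat_lit 0x10e51df) (nat_lit 2820))
 (.leaf (nat_lit 0x10e5241) (nat_lit 1537))
)))) (.node (nat_lit 0x10e524d) (.node (nat_lit 0x10e5247) (.node (nat_lit 0x10e5245) (.leaf (nat_lit 0x10e5243) (nat_lit 1793))
 (.leaf (nat_lit 0x10e5245) (nat_lit 2049))
) (.node (nat_lit 0x10e5249) (.leaf (nat_lit 0x10e5247) (nat_lit 1793))
 (.node (nat_lit 0x10e524b) (.leaf (nat_lit 0x10e5249) (nat_lit 2561))
 (.leaf (nat_lit 0x10e524b) (nat_lit 2564))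
))) (.node (nat_lit 0x10e5253) (.node (nat_lit 0x10e524f) (.leaf (nat_lit 0x10e524d) (nat_lit 2561))
 (.node (nat_lit 0x10e5251) (.leaf (nat_lit 0x10e524f) (nat_lit 2305))
 (.leaf (nat_lit 0x10e5251) (nat_lit 2048))
)) (.node (nat_lit 0x10e5255) (.leaf (nat_lit 0x10e5253) (nat_lit 1792))
 (.node (nat_lit 0x10e5257) (.leaf (nat_lit 0x10e5255) (nat_lit 2048))
 (.leaf (nat_lit 0x10e5257) (nat_lit 2304))
))))))) (.node (nat_lit 0x10e53cd) (.node (nat_lit 0x10e5343) (.node (nat_lit 0x10e52cd) (.node (nat_lit 0x10e52c3) (.node (nat_lit 0x10e525d) (.node (nat_lit 0x10e525b) (.leaf (nat_lit 0x10e5259) (nat_lit 2820))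
 (.leaf (nat_lit 0x10e525b) (nat_lit 2564))
) (.node (nat_lit 0x10e525f) (.leaf (nat_lit 0x10e525d) (nat_lit 2560))
 (.node (nat_lit 0x10e52c1) (.leaf (nat_lit 0x10e525f) (nat_lit 2816))
 (.leaf (nat_lit 0x10e52c1) (nat_lit 1281))
))) (.node (nat_lit 0x10e52c7) (.node (nat_lit 0x10e52c5) (.leaf (nat_lit 0x10e52c3) (nat_lit 1537))
 (.leaf (nat_lit 0x10e52c5) (nat_lit 2305))
) (.node (nat_lit 0x10e52c9) (.leaf (nat_lit 0x10e52c7) (nat_lit 2049))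
 (.node (nat_lit 0x10e52cb) (.leaf (nat_lit 0x10e52c9) (nat_lit 2305))
 (.leaf (nat_lit 0x10e52cb) (nat_lit 2049))
)))) (.node (nat_lit 0x10e52d7) (.node (nat_lit 0x10e52d1) (.node (nat_lit 0x10e52cf) (.leaf (nat_lit 0x10e52cd) (nat_lit 2564))
 (.leaf (nat_lit 0x10e52cf) (nat_lit 2308))
) (.node (nat_lit 0x10e52d3) (.leaf (nat_lit 0x10e52d1) (nat_lit 2304))
 (.node (nat_lit 0x10e52d5) (.leaf (nat_lit 0x10e52d3) (nat_lit 2560))
 (.leaf (nat_lit 0x10e52d5) (nat_lit 1792))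
))) (.node (nat_lit 0x10e52dd) (.node (nat_lit 0x10e52d9) (.leaf (nat_lit 0x10e52d7) (nat_lit 1536))
 (.node (nat_lit 0x10e52db) (.leaf (nat_lit 0x10e52d9) (nat_lit 2564))
 (.leaf (nat_lit 0x10e52db) (nat_lit 2563))
)) (.node (nat_lit 0x10e52df) (.leaf (nat_lit 0x10e52dd) (nat_lit 2304))
 (.node (nat_lit 0x10e5341) (.leaf (nat_lit 0x10e52df) (nat_lit 2308))
 (.leaf (nat_lit 0x10e5341) (nat_lit 1796))
))))) (.node (nat_lit 0x10e5357) (.node (nat_lit 0x10e534d) (.node (nat_lit 0x10e5347) (.node (nat_lit 0x10e5345) (.leaf (nat_lit 0x10e5343) (nat_lit 2052))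
 (.leaf (nat_lit 0x10e5345) (nat_lit 2308))
) (.node (nat_lit 0x10e5349) (.leaf (nat_lit 0x10e5347) (nat_lit 2052))
 (.node (nat_lit 0x10e534b) (.leaf (nat_lit 0x10e5349) (nat_lit 2305))
 (.leaf (nat_lit 0x10e534b) (nat_lit 2561))
))) (.node (nat_lit 0x10e5351) (.node (nat_lit 0x10e534f) (.leaf (nat_lit 0x10e534d) (nat_lit 2305))
 (.leaf (nat_lit 0x10e534f) (nat_lit 2049))
) (.node (nat_lit 0x10e5353) (.leaf (nat_lit 0x10e5351) (nat_lit 2816))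
 (.node (nat_lit 0x10e5355) (.leaf (nat_lit 0x10e5353) (nat_lit 2560))
 (.leaf (nat_lit 0x10e5355) (nat_lit 2304))
)))) (.node (nat_lit 0x10e53c1) (.node (nat_lit 0x10e535b) (.node (nat_lit 0x10e5359) (.leaf (nat_lit 0x10e5357) (nat_lit 2560))
 (.leaf (nat_lit 0x10e5359) (nat_lit 2308))
) (.node (nat_lit 0x10e535d) (.leaf (nat_lit 0x10e535b) (nat_lit 2052))
 (.node (nat_lit 0x10e535f) (.leaf (nat_lit 0x10e535d) (nat_lit 2308))
 (.leaf (nat_lit 0x10e535f) (nat_lit 2564))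
))) (.node (nat_lit 0x10e53c7) (.node (nat_lit 0x10e53c3) (.leaf (nat_lit 0x10e53c1) (nat_lit 1540))
 (.node (nat_lit 0x10e53c5) (.leaf (nat_lit 0x10e53c3) (nat_lit 1796))
 (.leaf (nat_lit 0x10e53c5) (nat_lit 2564))
)) (.node (nat_lit 0x10e53c9) (.leaf (nat_lit 0x10e53c7) (nat_lit 2308))
 (.node (nat_lit 0x10e53cb) (.leaf (nat_lit 0x10e53c9) (nat_lit 2049))
 (.leaf (nat_lit 0x10e53cb) (nat_lit 1793))
)))))) (.node (nat_lit 0x10e5857) (.node (nat_lit 0x10e5841) (.node (nat_lit 0x10e53d7) (.node (nat_lit 0x10e53d1) (.node (nat_lit 0x10e53cf) (.leaf (nat_lit 0x10e53cd) (nat_lit 2561))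
 (.leaf (nat_lit 0x10e53cf) (nat_lit 2561))
) (.node (nat_lit 0x10e53d3) (.leaf (nat_lit 0x10e53d1) (nat_lit 2816))
 (.node (nat_lit 0x10e53d5) (.leaf (nat_lit 0x10e53d3) (nat_lit 2816))
 (.leaf (nat_lit 0x10e53d5) (nat_lit 2048))
))) (.node (nat_lit 0x10e53db) (.node (nat_lit 0x10e53d9) (.leaf (nat_lit 0x10e53d7) (nat_lit 2304))
 (.leaf (nat_lit 0x10e53d9) (nat_lit 2564))
) (.node (nat_lit 0x10e53dd) (.leaf (nat_lit 0x10e53db) (nat_lit 2820))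
 (.node (nat_lit 0x10e53df) (.leaf (nat_lit 0x10e53dd) (nat_lit 2052))
 (.leaf (nat_lit 0x10e53df) (nat_lit 1796))
)))) (.node (nat_lit 0x10e584b) (.node (nat_lit 0x10e5845) (.node (nat_lit 0x10e5843) (.leaf (nat_lit 0x10e5841) (nat_lit 1285))
 (.leaf (nat_lit 0x10e5843) (nat_lit 1541))
) (.node (nat_lit 0x10e5847) (.leaf (nat_lit 0x10e5845) (nat_lit 2050))
 (.node (nat_lit 0x10e5849) (.leaf (nat_lit 0x10e5847) (nat_lit 2053))
 (.leaf (nat_lit 0x10e5849) (nat_lit 2050))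
))) (.node (nat_lit 0x10e5851) (.node (nat_lit 0x10e584d) (.leaf (nat_lit 0x10e584b) (nat_lit 2053))
 (.node (nat_lit 0x10e584f) (.leaf (nat_lit 0x10e584d) (nat_lit 2565))
 (.leaf (nat_lit 0x10e584f) (nat_lit 2309))
)) (.node (nat_lit 0x10e5853) (.leaf (nat_lit 0x10e5851) (nat_lit 2821))
 (.node (nat_lit 0x10e5855) (.leaf (nat_lit 0x10e5853) (nat_lit 2817))
 (.leaf (nat_lit 0x10e5855) (nat_lit 2049))
))))) (.node (nat_lit 0x10e588b) (.node (nat_lit 0x10e5881) (.node (nat_lit 0x10e585b) (.node (nat_lit 0x10e5859) (.leaf (nat_lit 0x10e5857) (nat_lit 2053))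
 (.leaf (nat_lit 0x10e5859) (nat_lit 2563))
) (.node (nat_lit 0x10e585d) (.leaf (nat_lit 0x10e585b) (nat_lit 2565))
 (.node (nat_lit 0x10e585f) (.leaf (nat_lit 0x10e585d) (nat_lit 2565))
 (.leaf (nat_lit 0x10e585f) (nat_lit 2309))
))) (.node (nat_lit 0x10e5885) (.node (nat_lit 0x10e5883) (.leaf (nat_lit 0x10e5881) (nat_lit 1538))
 (.leaf (nat_lit 0x10e5883) (nat_lit 1794))
) (.node (nat_lit 0x10e5887) (.leaf (nat_lit 0x10e5885) (nat_lit 1794))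
 (.node (nat_lit 0x10e5889) (.leaf (nat_lit 0x10e5887) (nat_lit 2050))
 (.leaf (nat_lit 0x10e5889) (nat_lit 2818))
)))) (.node (nat_lit 0x10e5895) (.node (nat_lit 0x10e588f) (.node (nat_lit 0x10e588d) (.leaf (nat_lit 0x10e588b) (nat_lit 2562))
 (.leaf (nat_lit 0x10e588d) (nat_lit 2562))
) (.node (nat_lit 0x10e5891) (.leaf (nat_lit 0x10e588f) (nat_lit 2306))
 (.node (nat_lit 0x10e5893) (.leaf (nat_lit 0x10e5891) (nat_lit 2561))
 (.leaf (nat_lit 0x10e5893) (nat_lit 2305))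
))) (.node (nat_lit 0x10e589b) (.node (nat_lit 0x10e5897) (.leaf (nat_lit 0x10e5895) (nat_lit 2817))
 (.node (nat_lit 0x10e5899) (.leaf (nat_lit 0x10e5897) (nat_lit 2561))
 (.leaf (nat_lit 0x10e5899) (nat_lit 3076))
)) (.node (nat_lit 0x10e589d) (.leaf (nat_lit 0x10e589b) (nat_lit 3075))
 (.node (nat_lit 0x10e589f) (.leaf (nat_lit 0x10e589d) (nat_lit 3075))
 (.leaf (nat_lit 0x10e589f) (nat_lit 2819))
)))))))))) (.node (nat_lit 0x10e6bc1) (.node (nat_lit 0x10e6251) (.node (nat_lit 0x10e5bc9) (.node (nat_lit 0x10e5a55) (.node (nat_lit 0x10e59cb) (.node (nat_lit 0x10e5915) (.node (nat_lit 0x10e590b) (.node (nat_lit 0x10e5905) (.node (nat_lit 0x10e5903) (.leaf (nat_lit 0x10e5901) (nat_lit 1538))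
 (.leaf (nat_lit 0x10e5903) (nat_lit 1794))
) (.node (nat_lit 0x10e5907) (.leaf (nat_lit 0x10e5905) (nat_lit 2306))
 (.node (nat_lit 0x10e5909) (.leaf (nat_lit 0x10e5907) (nat_lit 2306))
 (.leaf (nat_lit 0x10e5909) (nat_lit 1794))
))) (.node (nat_lit 0x10e590f) (.node (nat_lit 0x10e590d) (.leaf (nat_lit 0x10e590b) (nat_lit 2050))
 (.leaf (nat_lit 0x10e590d) (nat_lit 2562))
) (.node (nat_lit 0x10e5911) (.leaf (nat_lit 0x10e590f) (nat_lit 2562))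
 (.node (nat_lit 0x10e5913) (.leaf (nat_lit 0x10e5911) (nat_lit 3329))
 (.leaf (nat_lit 0x10e5913) (nat_lit 3331))
)))) (.node (nat_lit 0x10e591f) (.node (nat_lit 0x10e5919) (.node (nat_lit 0x10e5917) (.leaf (nat_lit 0x10e5915) (nat_lit 2817))
 (.leaf (nat_lit 0x10e5917) (nat_lit 2561))
) (.node (nat_lit 0x10e591b) (.leaf (nat_lit 0x10e5919) (nat_lit 3073))
 (.node (nat_lit 0x10e591d) (.leaf (nat_lit 0x10e591b) (nat_lit 3073))
 (.leaf (nat_lit 0x10e591d) (nat_lit 2561))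
))) (.node (nat_lit 0x10e59c5) (.node (nat_lit 0x10e59c1) (.leaf (nat_lit 0x10e591f) (nat_lit 2305))
 (.node (nat_lit 0x10e59c3) (.leaf (nat_lit 0x10e59c1) (nat_lit 1797))
 (.leaf (nat_lit 0x10e59c3) (nat_lit 2053))
)) (.node (nat_lit 0x10e59c7) (.leaf (nat_lit 0x10e59c5) (nat_lit 2050))
 (.node (nat_lit 0x10e59c9) (.leaf (nat_lit 0x10e59c7) (nat_lit 2306))
 (.leaf (nat_lit 0x10e59c9) (nat_lit 2565))
))))) (.node (nat_lit 0x10e59df) (.node (nat_lit 0x10e59d5) (.node (nat_lit 0x10e59cf) (.node (nat_lit 0x10e59cd) (.leaf (nat_lit 0x10e59cb) (nat_lit 2309))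
 (.leaf (nat_lit 0x10e59cd) (nat_lit 2309))
) (.node (nat_lit 0x10e59d1) (.leaf (nat_lit 0x10e59cf) (nat_lit 2053))
 (.node (nat_lit 0x10e59d3) (.leaf (nat_lit 0x10e59d1) (nat_lit 3077))
 (.leaf (nat_lit 0x10e59d3) (nat_lit 3077))
))) (.node (nat_lit 0x10e59d9) (.node (nat_lit 0x10e59d7) (.leaf (nat_lit 0x10e59d5) (nat_lit 2821))
 (.leaf (nat_lit 0x10e59d7) (nat_lit 2565))
) (.node (nat_lit 0x10e59db) (.leaf (nat_lit 0x10e59d9) (nat_lit 2561))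
 (.node (nat_lit 0x10e59dd) (.leaf (nat_lit 0x10e59db) (nat_lit 2817))
 (.leaf (nat_lit 0x10e59dd) (nat_lit 2817))
)))) (.node (nat_lit 0x10e5a49) (.node (nat_lit 0x10e5a43) (.node (nat_lit 0x10e5a41) (.leaf (nat_lit 0x10e59df) (nat_lit 3073))
 (.leaf (nat_lit 0x10e5a41) (nat_lit 1793))
) (.node (nat_lit 0x10e5a45) (.leaf (nat_lit 0x10e5a43) (nat_lit 2049))
 (.node (nat_lit 0x10e5a47) (.leaf (nat_lit 0x10e5a45) (nat_lit 2049))
 (.leaf (nat_lit 0x10e5a47) (nat_lit 2305))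
))) (.node (nat_lit 0x10e5a4f) (.node (nat_lit 0x10e5a4b) (.leaf (nat_lit 0x10e5a49) (nat_lit 2821))
 (.node (nat_lit 0x10e5a4d) (.leaf (nat_lit 0x10e5a4b) (nat_lit 2565))
 (.leaf (nat_lit 0x10e5a4d) (nat_lit 2821))
)) (.node (nat_lit 0x10e5a51) (.leaf (nat_lit 0x10e5a4f) (nat_lit 2565))
 (.node (nat_lit 0x10e5a53) (.leaf (nat_lit 0x10e5a51) (nat_lit 2304))
 (.leaf (nat_lit 0x10e5a53) (nat_lit 2048))
)))))) (.node (nat_lit 0x10e5a9f) (.node (nat_lit 0x10e5a89) (.node (nat_lit 0x10e5a5f) (.node (nat_lit 0x10e5a59) (.node (nat_lit 0x10e5a57) (.leaf (nat_lit 0x10e5a55) (nat_lit 2560))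
 (.leaf (nat_lit 0x10e5a57) (nat_lit 2304))
) (.node (nat_lit 0x10e5a5b) (.leaf (nat_lit 0x10e5a59) (nat_lit 2821))
 (.node (nat_lit 0x10e5a5d) (.leaf (nat_lit 0x10e5a5b) (nat_lit 3077))
 (.leaf (nat_lit 0x10e5a5d) (nat_lit 2821))
))) (.node (nat_lit 0x10e5a83) (.node (nat_lit 0x10e5a81) (.leaf (nat_lit 0x10e5a5f) (nat_lit 3077))
 (.leaf (nat_lit 0x10e5a81) (nat_lit 1537))
) (.node (nat_lit 0x10e5a85) (.leaf (nat_lit 0x10e5a83) (nat_lit 1793))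
 (.node (nat_lit 0x10e5a87) (.leaf (nat_lit 0x10e5a85) (nat_lit 2305))
 (.leaf (nat_lit 0x10e5a87) (nat_lit 2305))
)))) (.node (nat_lit 0x10e5a93) (.node (nat_lit 0x10e5a8d) (.node (nat_lit 0x10e5a8b) (.leaf (nat_lit 0x10e5a89) (nat_lit 2305))
 (.leaf (nat_lit 0x10e5a8b) (nat_lit 2305))
) (.node (nat_lit 0x10e5a8f) (.leaf (nat_lit 0x10e5a8d) (nat_lit 2817))
 (.node (nat_lit 0x10e5a91) (.leaf (nat_lit 0x10e5a8f) (nat_lit 2561))
 (.leaf (nat_lit 0x10e5a91) (nat_lit 2560))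
))) (.node (nat_lit 0x10e5a99) (.node (nat_lit 0x10e5a95) (.leaf (nat_lit 0x10e5a93) (nat_lit 2560))
 (.node (nat_lit 0x10e5a97) (.leaf (nat_lit 0x10e5a95) (nat_lit 1792))
 (.leaf (nat_lit 0x10e5a97) (nat_lit 2048))
)) (.node (nat_lit 0x10e5a9b) (.leaf (nat_lit 0x10e5a99) (nat_lit 2819))
 (.node (nat_lit 0x10e5a9d) (.leaf (nat_lit 0x10e5a9b) (nat_lit 2816))
 (.leaf (nat_lit 0x10e5a9d) (nat_lit 2560))
))))) (.node (nat_lit 0x10e5b13) (.node (nat_lit 0x10e5b09) (.node (nat_lit 0x10e5b03) (.node (nat_lit 0x10e5b01) (.leaf (nat_lit 0x10e5a9f) (nat_lit 2561))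
 (.leaf (nat_lit 0x10e5b01) (nat_lit 2049))
) (.node (nat_lit 0x10e5b05) (.leaf (nat_lit 0x10e5b03) (nat_lit 2305))
 (.node (nat_lit 0x10e5b07) (.leaf (nat_lit 0x10e5b05) (nat_lit 2305))
 (.leaf (nat_lit 0x10e5b07) (nat_lit 2561))
))) (.node (nat_lit 0x10e5b0d) (.node (nat_lit 0x10e5b0b) (.leaf (nat_lit 0x10e5b09) (nat_lit 2817))
 (.leaf (nat_lit 0x10e5b0b) (nat_lit 2561))
) (.node (nat_lit 0x10e5b0f) (.leaf (nat_lit 0x10e5b0d) (nat_lit 2561))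
 (.node (nat_lit 0x10e5b11) (.leaf (nat_lit 0x10e5b0f) (nat_lit 2305))
 (.leaf (nat_lit 0x10e5b11) (nat_lit 3072))
)))) (.node (nat_lit 0x10e5b1d) (.node (nat_lit 0x10e5b17) (.node (nat_lit 0x10e5b15) (.leaf (nat_lit 0x10e5b13) (nat_lit 2816))
 (.leaf (nat_lit 0x10e5b15) (nat_lit 2816))
) (.node (nat_lit 0x10e5b19) (.leaf (nat_lit 0x10e5b17) (nat_lit 2560))
 (.node (nat_lit 0x10e5b1b) (.leaf (nat_lit 0x10e5b19) (nat_lit 2304))
 (.leaf (nat_lit 0x10e5b1b) (nat_lit 2560))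
))) (.node (nat_lit 0x10e5bc3) (.node (nat_lit 0x10e5b1f) (.leaf (nat_lit 0x10e5b1d) (nat_lit 2560))
 (.node (nat_lit 0x10e5bc1) (.leaf (nat_lit 0x10e5b1f) (nat_lit 2816))
 (.leaf (nat_lit 0x10e5bc1) (nat_lit 1793))
)) (.node (nat_lit 0x10e5bc5) (.leaf (nat_lit 0x10e5bc3) (nat_lit 2049))
 (.node (nat_lit 0x10e5bc7) (.leaf (nat_lit 0x10e5bc5) (nat_lit 2563))
 (.leaf (nat_lit 0x10e5bc7) (nat_lit 2561))
))))))) (.node (nat_lit 0x10e60dd) (.node (nat_lit 0x10e6053) (.node (nat_lit 0x10e5bdd) (.node (nat_lit 0x10e5bd3) (.node (nat_lit 0x10e5bcd) (.node (nat_lit 0x10e5bcb) (.leaf (nat_lit 0x10e5bc9) (nat_lit 2049))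
 (.leaf (nat_lit 0x10e5bcb) (nat_lit 2305))
) (.node (nat_lit 0x10e5bcf) (.leaf (nat_lit 0x10e5bcd) (nat_lit 2817))
 (.node (nat_lit 0x10e5bd1) (.leaf (nat_lit 0x10e5bcf) (nat_lit 2817))
 (.leaf (nat_lit 0x10e5bd1) (nat_lit 3077))
))) (.node (nat_lit 0x10e5bd7) (.node (nat_lit 0x10e5bd5) (.leaf (nat_lit 0x10e5bd3) (nat_lit 3072))
 (.leaf (nat_lit 0x10e5bd5) (nat_lit 2565))
) (.node (nat_lit 0x10e5bd9) (.leaf (nat_lit 0x10e5bd7) (nat_lit 2309))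
 (.node (nat_lit 0x10e5bdb) (.leaf (nat_lit 0x10e5bd9) (nat_lit 2816))
 (.leaf (nat_lit 0x10e5bdb) (nat_lit 2821))
)))) (.node (nat_lit 0x10e6047) (.node (nat_lit 0x10e6041) (.node (nat_lit 0x10e5bdf) (.leaf (nat_lit 0x10e5bdd) (nat_lit 2304))
 (.leaf (nat_lit 0x10e5bdf) (nat_lit 2048))
) (.node (nat_lit 0x10e6043) (.leaf (nat_lit 0x10e6041) (nat_lit 770))
 (.node (nat_lit 0x10e6045) (.leaf (nat_lit 0x10e6043) (nat_lit 1026))
 (.leaf (nat_lit 0x10e6045) (nat_lit 1794))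
))) (.node (nat_lit 0x10e604d) (.node (nat_lit 0x10e6049) (.leaf (nat_lit 0x10e6047) (nat_lit 1538))
 (.node (nat_lit 0x10e604b) (.leaf (nat_lit 0x10e6049) (nat_lit 2306))
 (.leaf (nat_lit 0x10e604b) (nat_lit 2050))
)) (.node (nat_lit 0x10e604f) (.leaf (nat_lit 0x10e604d) (nat_lit 2306))
 (.node (nat_lit 0x10e6051) (.leaf (nat_lit 0x10e604f) (nat_lit 2050))
 (.leaf (nat_lit 0x10e6051) (nat_lit 2817))
))))) (.node (nat_lit 0x10e60c7) (.node (nat_lit 0x10e605d) (.node (nat_lit 0x10e6057) (.node (nat_lit 0x10e6055) (.leaf (nat_lit 0x10e6053) (nat_lit 3073))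
 (.leaf (nat_lit 0x10e6055) (nat_lit 2563))
) (.node (nat_lit 0x10e6059) (.leaf (nat_lit 0x10e6057) (nat_lit 2307))
 (.node (nat_lit 0x10e605b) (.leaf (nat_lit 0x10e6059) (nat_lit 1793))
 (.leaf (nat_lit 0x10e605b) (nat_lit 1537))
))) (.node (nat_lit 0x10e60c1) (.node (nat_lit 0x10e605f) (.leaf (nat_lit 0x10e605d) (nat_lit 2306))
 (.leaf (nat_lit 0x10e605f) (nat_lit 2050))
) (.node (nat_lit 0x10e60c3) (.leaf (nat_lit 0x10e60c1) (nat_lit 1026))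
 (.node (nat_lit 0x10e60c5) (.leaf (nat_lit 0x10e60c3) (nat_lit 1282))
 (.leaf (nat_lit 0x10e60c5) (nat_lit 1538))
)))) (.node (nat_lit 0x10e60d1) (.node (nat_lit 0x10e60cb) (.node (nat_lit 0x10e60c9) (.leaf (nat_lit 0x10e60c7) (nat_lit 1282))
 (.leaf (nat_lit 0x10e60c9) (nat_lit 2562))
) (.node (nat_lit 0x10e60cd) (.leaf (nat_lit 0x10e60cb) (nat_lit 2306))
 (.node (nat_lit 0x10e60cf) (.leaf (nat_lit 0x10e60cd) (nat_lit 2562))
 (.leaf (nat_lit 0x10e60cf) (nat_lit 2306))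
))) (.node (nat_lit 0x10e60d7) (.node (nat_lit 0x10e60d3) (.leaf (nat_lit 0x10e60d1) (nat_lit 2819))
 (.node (nat_lit 0x10e60d5) (.leaf (nat_lit 0x10e60d3) (nat_lit 2563))
 (.leaf (nat_lit 0x10e60d5) (nat_lit 2819))
)) (.node (nat_lit 0x10e60d9) (.leaf (nat_lit 0x10e60d7) (nat_lit 3075))
 (.node (nat_lit 0x10e60db) (.leaf (nat_lit 0x10e60d9) (nat_lit 2049))
 (.leaf (nat_lit 0x10e60db) (nat_lit 2305))
)))))) (.node (nat_lit 0x10e61c7) (.node (nat_lit 0x10e6151) (.node (nat_lit 0x10e6147) (.node (nat_lit 0x10e6141) (.node (nat_lit 0x10e60df) (.leaf (nat_lit 0x10e60dd) (nat_lit 2049))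
 (.leaf (nat_lit 0x10e60df) (nat_lit 1793))
) (.node (nat_lit 0x10e6143) (.leaf (nat_lit 0x10e6141) (nat_lit 1538))
 (.node (nat_lit 0x10e6145) (.leaf (nat_lit 0x10e6143) (nat_lit 1794))
 (.leaf (nat_lit 0x10e6145) (nat_lit 2306))
))) (.node (nat_lit 0x10e614b) (.node (nat_lit 0x10e6149) (.leaf (nat_lit 0x10e6147) (nat_lit 2050))
 (.leaf (nat_lit 0x10e6149) (nat_lit 2050))
) (.node (nat_lit 0x10e614d) (.leaf (nat_lit 0x10e614b) (nat_lit 1794))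
 (.node (nat_lit 0x10e614f) (.leaf (nat_lit 0x10e614d) (nat_lit 2306))
 (.leaf (nat_lit 0x10e614f) (nat_lit 2050))
)))) (.node (nat_lit 0x10e615b) (.node (nat_lit 0x10e6155) (.node (nat_lit 0x10e6153) (.leaf (nat_lit 0x10e6151) (nat_lit 2561))
 (.leaf (nat_lit 0x10e6153) (nat_lit 2305))
) (.node (nat_lit 0x10e6157) (.leaf (nat_lit 0x10e6155) (nat_lit 2817))
 (.node (nat_lit 0x10e6159) (.leaf (nat_lit 0x10e6157) (nat_lit 3073))
 (.leaf (nat_lit 0x10e6159) (nat_lit 2561))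
))) (.node (nat_lit 0x10e61c1) (.node (nat_lit 0x10e615d) (.leaf (nat_lit 0x10e615b) (nat_lit 2817))
 (.node (nat_lit 0x10e615f) (.leaf (nat_lit 0x10e615d) (nat_lit 2817))
 (.leaf (nat_lit 0x10e615f) (nat_lit 2819))
)) (.node (nat_lit 0x10e61c3) (.leaf (nat_lit 0x10e61c1) (nat_lit 1538))
 (.node (nat_lit 0x10e61c5) (.leaf (nat_lit 0x10e61c3) (nat_lit 1794))
 (.leaf (nat_lit 0x10e61c5) (nat_lit 2306))
))))) (.node (nat_lit 0x10e61db) (.node (nat_lit 0x10e61d1) (.node (nat_lit 0x10e61cb) (.node (nat_lit 0x10e61c9) (.leaf (nat_lit 0x10e61c7) (nat_lit 2050))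
 (.leaf (nat_lit 0x10e61c9) (nat_lit 2306))
) (.node (nat_lit 0x10e61cd) (.leaf (nat_lit 0x10e61cb) (nat_lit 2050))
 (.node (nat_lit 0x10e61cf) (.leaf (nat_lit 0x10e61cd) (nat_lit 2050))
 (.leaf (nat_lit 0x10e61cf) (nat_lit 1794))
))) (.node (nat_lit 0x10e61d5) (.node (nat_lit 0x10e61d3) (.leaf (nat_lit 0x10e61d1) (nat_lit 2817))
 (.leaf (nat_lit 0x10e61d3) (nat_lit 2818))
) (.node (nat_lit 0x10e61d7) (.leaf (nat_lit 0x10e61d5) (nat_lit 2561))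
 (.node (nat_lit 0x10e61d9) (.leaf (nat_lit 0x10e61d7) (nat_lit 2305))
 (.leaf (nat_lit 0x10e61d9) (nat_lit 2561))
)))) (.node (nat_lit 0x10e6245) (.node (nat_lit 0x10e61df) (.node (nat_lit 0x10e61dd) (.leaf (nat_lit 0x10e61db) (nat_lit 2563))
 (.leaf (nat_lit 0x10e61dd) (nat_lit 2817))
) (.node (nat_lit 0x10e6241) (.leaf (nat_lit 0x10e61df) (nat_lit 3073))
 (.node (nat_lit 0x10e6243) (.leaf (nat_lit 0x10e6241) (nat_lit 1793))
 (.leaf (nat_lit 0x10e6243) (nat_lit 2049))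
))) (.node (nat_lit 0x10e624b) (.node (nat_lit 0x10e6247) (.leaf (nat_lit 0x10e6245) (nat_lit 2561))
 (.node (nat_lit 0x10e6249) (.leaf (nat_lit 0x10e6247) (nat_lit 2305))
 (.leaf (nat_lit 0x10e6249) (nat_lit 2305))
)) (.node (nat_lit 0x10e624d) (.leaf (nat_lit 0x10e624b) (nat_lit 2049))
 (.node (nat_lit 0x10e624f) (.leaf (nat_lit 0x10e624d) (nat_lit 2561))
 (.leaf (nat_lit 0x10e624f) (nat_lit 2305))
)))))))) (.node (nat_lit 0x10e6899) (.node (nat_lit 0x10e63c5) (.node (nat_lit 0x10e62db) (.node (nat_lit 0x10e62c5) (.node (nat_lit 0x10e625b) (.node (nat_lit 0x10e6255) (.node (nat_lit 0x10e6253) (.leaf (nat_lit 0x10e6251) (nat_lit 2304))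
 (.leaf (nat_lit 0x10e6253) (nat_lit 2048))
) (.node (nat_lit 0x10e6257) (.leaf (nat_lit 0x10e6255) (nat_lit 2560))
 (.node (nat_lit 0x10e6259) (.leaf (nat_lit 0x10e6257) (nat_lit 2816))
 (.leaf (nat_lit 0x10e6259) (nat_lit 2304))
))) (.node (nat_lit 0x10e625f) (.node (nat_lit 0x10e625d) (.leaf (nat_lit 0x10e625b) (nat_lit 2560))
 (.leaf (nat_lit 0x10e625d) (nat_lit 2560))
) (.node (nat_lit 0x10e62c1) (.leaf (nat_lit 0x10e625f) (nat_lit 2816))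
 (.node (nat_lit 0x10e62c3) (.leaf (nat_lit 0x10e62c1) (nat_lit 1793))
 (.leaf (nat_lit 0x10e62c3) (nat_lit 2049))
)))) (.node (nat_lit 0x10e62cf) (.node (nat_lit 0x10e62c9) (.node (nat_lit 0x10e62c7) (.leaf (nat_lit 0x10e62c5) (nat_lit 2561))
 (.leaf (nat_lit 0x10e62c7) (nat_lit 2305))
) (.node (nat_lit 0x10e62cb) (.leaf (nat_lit 0x10e62c9) (nat_lit 2561))
 (.node (nat_lit 0x10e62cd) (.leaf (nat_lit 0x10e62cb) (nat_lit 2305))
 (.leaf (nat_lit 0x10e62cd) (nat_lit 2305))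
))) (.node (nat_lit 0x10e62d5) (.node (nat_lit 0x10e62d1) (.leaf (nat_lit 0x10e62cf) (nat_lit 2049))
 (.node (nat_lit 0x10e62d3) (.leaf (nat_lit 0x10e62d1) (nat_lit 2560))
 (.leaf (nat_lit 0x10e62d3) (nat_lit 2816))
)) (.node (nat_lit 0x10e62d7) (.leaf (nat_lit 0x10e62d5) (nat_lit 2304))
 (.node (nat_lit 0x10e62d9) (.leaf (nat_lit 0x10e62d7) (nat_lit 2048))
 (.leaf (nat_lit 0x10e62d9) (nat_lit 2304))
))))) (.node (nat_lit 0x10e634f) (.node (nat_lit 0x10e6345) (.node (nat_lit 0x10e62df) (.node (nat_lit 0x10e62dd) (.leaf (nat_lit 0x10e62db) (nat_lit 2560))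
 (.leaf (nat_lit 0x10e62dd) (nat_lit 2560))
) (.node (nat_lit 0x10e6341) (.leaf (nat_lit 0x10e62df) (nat_lit 2816))
 (.node (nat_lit 0x10e6343) (.leaf (nat_lit 0x10e6341) (nat_lit 1025))
 (.leaf (nat_lit 0x10e6343) (nat_lit 1281))
))) (.node (nat_lit 0x10e6349) (.node (nat_lit 0x10e6347) (.leaf (nat_lit 0x10e6345) (nat_lit 2049))
 (.leaf (nat_lit 0x10e6347) (nat_lit 1793))
) (.node (nat_lit 0x10e634b) (.leaf (nat_lit 0x10e6349) (nat_lit 2561))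
 (.node (nat_lit 0x10e634d) (.leaf (nat_lit 0x10e634b) (nat_lit 2305))
 (.leaf (nat_lit 0x10e634d) (nat_lit 2561))
)))) (.node (nat_lit 0x10e6359) (.node (nat_lit 0x10e6353) (.node (nat_lit 0x10e6351) (.leaf (nat_lit 0x10e634f) (nat_lit 2305))
 (.leaf (nat_lit 0x10e6351) (nat_lit 2560))
) (.node (nat_lit 0x10e6355) (.leaf (nat_lit 0x10e6353) (nat_lit 2816))
 (.node (nat_lit 0x10e6357) (.leaf (nat_lit 0x10e6355) (nat_lit 2560))
 (.leaf (nat_lit 0x10e6357) (nat_lit 2563))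
))) (.node (nat_lit 0x10e635f) (.node (nat_lit 0x10e635b) (.leaf (nat_lit 0x10e6359) (nat_lit 1536))
 (.node (nat_lit 0x10e635d) (.leaf (nat_lit 0x10e635b) (nat_lit 1280))
 (.leaf (nat_lit 0x10e635d) (nat_lit 2048))
)) (.node (nat_lit 0x10e63c1) (.leaf (nat_lit 0x10e635f) (nat_lit 2050))
 (.node (nat_lit 0x10e63c3) (.leaf (nat_lit 0x10e63c1) (nat_lit 1281))
 (.leaf (nat_lit 0x10e63c3) (nat_lit 1537))
)))))) (.node (nat_lit 0x10e684f) (.node (nat_lit 0x10e63d9) (.node (nat_lit 0x10e63cf) (.node (nat_lit 0x10e63c9) (.node (nat_lit 0x10e63c7) (.leaf (nat_lit 0x10e63c5) (nat_lit 1793))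
 (.leaf (nat_lit 0x10e63c7) (nat_lit 1537))
) (.node (nat_lit 0x10e63cb) (.leaf (nat_lit 0x10e63c9) (nat_lit 2817))
 (.node (nat_lit 0x10e63cd) (.leaf (nat_lit 0x10e63cb) (nat_lit 2561))
 (.leaf (nat_lit 0x10e63cd) (nat_lit 2817))
))) (.node (nat_lit 0x10e63d3) (.node (nat_lit 0x10e63d1) (.leaf (nat_lit 0x10e63cf) (nat_lit 2561))
 (.leaf (nat_lit 0x10e63d1) (nat_lit 2816))
) (.node (nat_lit 0x10e63d5) (.leaf (nat_lit 0x10e63d3) (nat_lit 2819))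
 (.node (nat_lit 0x10e63d7) (.leaf (nat_lit 0x10e63d5) (nat_lit 2816))
 (.leaf (nat_lit 0x10e63d7) (nat_lit 3072))
)))) (.node (nat_lit 0x10e6843) (.node (nat_lit 0x10e63dd) (.node (nat_lit 0x10e63db) (.leaf (nat_lit 0x10e63d9) (nat_lit 1792))
 (.leaf (nat_lit 0x10e63db) (nat_lit 2048))
) (.node (nat_lit 0x10e63df) (.leaf (nat_lit 0x10e63dd) (nat_lit 1792))
 (.node (nat_lit 0x10e6841) (.leaf (nat_lit 0x10e63df) (nat_lit 1536))
 (.leaf (nat_lit 0x10e6841) (nat_lit 1029))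
))) (.node (nat_lit 0x10e6849) (.node (nat_lit 0x10e6845) (.leaf (nat_lit 0x10e6843) (nat_lit 1285))
 (.node (nat_lit 0x10e6847) (.leaf (nat_lit 0x10e6845) (nat_lit 1794))
 (.leaf (nat_lit 0x10e6847) (nat_lit 1797))
)) (.node (nat_lit 0x10e684b) (.leaf (nat_lit 0x10e6849) (nat_lit 2306))
 (.node (nat_lit 0x10e684d) (.leaf (nat_lit 0x10e684b) (nat_lit 2309))
 (.leaf (nat_lit 0x10e684d) (nat_lit 2565))
))))) (.node (nat_lit 0x10e6883) (.node (nat_lit 0x10e6859) (.node (nat_lit 0x10e6853) (.node (nat_lit 0x10e6851) (.leaf (nat_lit 0x10e684f) (nat_lit 2309))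
 (.leaf (nat_lit 0x10e6851) (nat_lit 3077))
) (.node (nat_lit 0x10e6855) (.leaf (nat_lit 0x10e6853) (nat_lit 3073))
 (.node (nat_lit 0x10e6857) (.leaf (nat_lit 0x10e6855) (nat_lit 2563))
 (.leaf (nat_lit 0x10e6857) (nat_lit 2565))
))) (.node (nat_lit 0x10e685d) (.node (nat_lit 0x10e685b) (.leaf (nat_lit 0x10e6859) (nat_lit 1793))
 (.leaf (nat_lit 0x10e685b) (nat_lit 1797))
) (.node (nat_lit 0x10e685f) (.leaf (nat_lit 0x10e685d) (nat_lit 2565))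
 (.node (nat_lit 0x10e6881) (.leaf (nat_lit 0x10e685f) (nat_lit 2309))
 (.leaf (nat_lit 0x10e6881) (nat_lit 1282))
)))) (.node (nat_lit 0x10e688d) (.node (nat_lit 0x10e6887) (.node (nat_lit 0x10e6885) (.leaf (nat_lit 0x10e6883) (nat_lit 1538))
 (.leaf (nat_lit 0x10e6885) (nat_lit 1538))
) (.node (nat_lit 0x10e6889) (.leaf (nat_lit 0x10e6887) (nat_lit 1794))
 (.node (nat_lit 0x10e688b) (.leaf (nat_lit 0x10e6889) (nat_lit 2562))
 (.leaf (nat_lit 0x10e688b) (nat_lit 2562))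
))) (.node (nat_lit 0x10e6893) (.node (nat_lit 0x10e688f) (.leaf (nat_lit 0x10e688d) (nat_lit 2818))
 (.node (nat_lit 0x10e6891) (.leaf (nat_lit 0x10e688f) (nat_lit 2562))
 (.leaf (nat_lit 0x10e6891) (nat_lit 3331))
)) (.node (nat_lit 0x10e6895) (.leaf (nat_lit 0x10e6893) (nat_lit 3075))
 (.node (nat_lit 0x10e6897) (.leaf (nat_lit 0x10e6895) (nat_lit 3330))
 (.leaf (nat_lit 0x10e6897) (nat_lit 3330))
))))))) (.node (nat_lit 0x10e6a4d) (.node (nat_lit 0x10e69c3) (.node (nat_lit 0x10e690d) (.node (nat_lit 0x10e6903) (.node (nat_lit 0x10e689d) (.node (nat_lit 0x10e689b) (.leaf (nat_lit 0x10e6899) (nat_lit 2560))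
 (.leaf (nat_lit 0x10e689b) (nat_lit 2304))
) (.node (nat_lit 0x10e689f) (.leaf (nat_lit 0x10e689d) (nat_lit 2305))
 (.node (nat_lit 0x10e6901) (.leaf (nat_lit 0x10e689f) (nat_lit 2049))
 (.leaf (nat_lit 0x10e6901) (nat_lit 1794))
))) (.node (nat_lit 0x10e6907) (.node (nat_lit 0x10e6905) (.leaf (nat_lit 0x10e6903) (nat_lit 2050))
 (.leaf (nat_lit 0x10e6905) (nat_lit 2562))
) (.node (nat_lit 0x10e6909) (.leaf (nat_lit 0x10e6907) (nat_lit 2306))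
 (.node (nat_lit 0x10e690b) (.leaf (nat_lit 0x10e6909) (nat_lit 2050))
 (.leaf (nat_lit 0x10e690b) (nat_lit 2306))
)))) (.node (nat_lit 0x10e6917) (.node (nat_lit 0x10e6911) (.node (nat_lit 0x10e690f) (.leaf (nat_lit 0x10e690d) (nat_lit 2562))
 (.leaf (nat_lit 0x10e690f) (nat_lit 2306))
) (.node (nat_lit 0x10e6913) (.leaf (nat_lit 0x10e6911) (nat_lit 2817))
 (.node (nat_lit 0x10e6915) (.leaf (nat_lit 0x10e6913) (nat_lit 2561))
 (.leaf (nat_lit 0x10e6915) (nat_lit 2817))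
))) (.node (nat_lit 0x10e691d) (.node (nat_lit 0x10e6919) (.leaf (nat_lit 0x10e6917) (nat_lit 3073))
 (.node (nat_lit 0x10e691b) (.leaf (nat_lit 0x10e6919) (nat_lit 3072))
 (.leaf (nat_lit 0x10e691b) (nat_lit 2816))
)) (.node (nat_lit 0x10e691f) (.leaf (nat_lit 0x10e691d) (nat_lit 3072))
 (.node (nat_lit 0x10e69c1) (.leaf (nat_lit 0x10e691f) (nat_lit 3075))
 (.leaf (nat_lit 0x10e69c1) (nat_lit 1797))
))))) (.node (nat_lit 0x10e69d7) (.node (nat_lit 0x10e69cd) (.node (nat_lit 0x10e69c7) (.node (nat_lit 0x10e69c5) (.leaf (nat_lit 0x10e69c3) (nat_lit 2053))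
 (.leaf (nat_lit 0x10e69c5) (nat_lit 2309))
) (.node (nat_lit 0x10e69c9) (.leaf (nat_lit 0x10e69c7) (nat_lit 2053))
 (.node (nat_lit 0x10e69cb) (.leaf (nat_lit 0x10e69c9) (nat_lit 2309))
 (.leaf (nat_lit 0x10e69cb) (nat_lit 2565))
))) (.node (nat_lit 0x10e69d1) (.node (nat_lit 0x10e69cf) (.leaf (nat_lit 0x10e69cd) (nat_lit 2309))
 (.leaf (nat_lit 0x10e69cf) (nat_lit 2053))
) (.node (nat_lit 0x10e69d3) (.leaf (nat_lit 0x10e69d1) (nat_lit 3073))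
 (.node (nat_lit 0x10e69d5) (.leaf (nat_lit 0x10e69d3) (nat_lit 2817))
 (.leaf (nat_lit 0x10e69d5) (nat_lit 2561))
)))) (.node (nat_lit 0x10e6a41) (.node (nat_lit 0x10e69db) (.node (nat_lit 0x10e69d9) (.leaf (nat_lit 0x10e69d7) (nat_lit 2817))
 (.leaf (nat_lit 0x10e69d9) (nat_lit 2821))
) (.node (nat_lit 0x10e69dd) (.leaf (nat_lit 0x10e69db) (nat_lit 2565))
 (.node (nat_lit 0x10e69df) (.leaf (nat_lit 0x10e69dd) (nat_lit 2821))
 (.leaf (nat_lit 0x10e69df) (nat_lit 3077))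
))) (.node (nat_lit 0x10e6a47) (.node (nat_lit 0x10e6a43) (.leaf (nat_lit 0x10e6a41) (nat_lit 2053))
 (.node (nat_lit 0x10e6a45) (.leaf (nat_lit 0x10e6a43) (nat_lit 2309))
 (.leaf (nat_lit 0x10e6a45) (nat_lit 2565))
)) (.node (nat_lit 0x10e6a49) (.leaf (nat_lit 0x10e6a47) (nat_lit 2309))
 (.node (nat_lit 0x10e6a4b) (.leaf (nat_lit 0x10e6a49) (nat_lit 2305))
 (.leaf (nat_lit 0x10e6a4b) (nat_lit 2561))
)))))) (.node (nat_lit 0x10e6a97) (.node (nat_lit 0x10e6a81) (.node (nat_lit 0x10e6a57) (.node (nat_lit 0x10e6a51) (.node (nat_lit 0x10e6a4f) (.leaf (nat_lit 0x10e6a4d) (nat_lit 2817))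
 (.leaf (nat_lit 0x10e6a4f) (nat_lit 2561))
) (.node (nat_lit 0x10e6a53) (.leaf (nat_lit 0x10e6a51) (nat_lit 2565))
 (.node (nat_lit 0x10e6a55) (.leaf (nat_lit 0x10e6a53) (nat_lit 2309))
 (.leaf (nat_lit 0x10e6a55) (nat_lit 2565))
))) (.node (nat_lit 0x10e6a5b) (.node (nat_lit 0x10e6a59) (.leaf (nat_lit 0x10e6a57) (nat_lit 2821))
 (.leaf (nat_lit 0x10e6a59) (nat_lit 2816))
) (.node (nat_lit 0x10e6a5d) (.leaf (nat_lit 0x10e6a5b) (nat_lit 2560))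
 (.node (nat_lit 0x10e6a5f) (.leaf (nat_lit 0x10e6a5d) (nat_lit 2816))
 (.leaf (nat_lit 0x10e6a5f) (nat_lit 3072))
)))) (.node (nat_lit 0x10e6a8b) (.node (nat_lit 0x10e6a85) (.node (nat_lit 0x10e6a83) (.leaf (nat_lit 0x10e6a81) (nat_lit 2049))
 (.leaf (nat_lit 0x10e6a83) (nat_lit 2305))
) (.node (nat_lit 0x10e6a87) (.leaf (nat_lit 0x10e6a85) (nat_lit 2561))
 (.node (nat_lit 0x10e6a89) (.leaf (nat_lit 0x10e6a87) (nat_lit 2305))
 (.leaf (nat_lit 0x10e6a89) (nat_lit 2561))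
))) (.node (nat_lit 0x10e6a91) (.node (nat_lit 0x10e6a8d) (.leaf (nat_lit 0x10e6a8b) (nat_lit 2817))
 (.node (nat_lit 0x10e6a8f) (.leaf (nat_lit 0x10e6a8d) (nat_lit 2561))
 (.leaf (nat_lit 0x10e6a8f) (nat_lit 2305))
)) (.node (nat_lit 0x10e6a93) (.leaf (nat_lit 0x10e6a91) (nat_lit 2816))
 (.node (nat_lit 0x10e6a95) (.leaf (nat_lit 0x10e6a93) (nat_lit 2560))
 (.leaf (nat_lit 0x10e6a95) (nat_lit 2304))
))))) (.node (nat_lit 0x10e6b0b) (.node (nat_lit 0x10e6b01) (.node (nat_lit 0x10e6a9b) (.node (nat_lit 0x10e6a99) (.leaf (nat_lit 0x10e6a97) (nat_lit 2560))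
 (.leaf (nat_lit 0x10e6a99) (nat_lit 2816))
) (.node (nat_lit 0x10e6a9d) (.leaf (nat_lit 0x10e6a9b) (nat_lit 2560))
 (.node (nat_lit 0x10e6a9f) (.leaf (nat_lit 0x10e6a9d) (nat_lit 2816))
 (.leaf (nat_lit 0x10e6a9f) (nat_lit 3072))
))) (.node (nat_lit 0x10e6b05) (.node (nat_lit 0x10e6b03) (.leaf (nat_lit 0x10e6b01) (nat_lit 1281))
 (.leaf (nat_lit 0x10e6b03) (nat_lit 1537))
) (.node (nat_lit 0x10e6b07) (.leaf (nat_lit 0x10e6b05) (nat_lit 2049))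
 (.node (nat_lit 0x10e6b09) (.leaf (nat_lit 0x10e6b07) (nat_lit 2049))
 (.leaf (nat_lit 0x10e6b09) (nat_lit 2561))
)))) (.node (nat_lit 0x10e6b15) (.node (nat_lit 0x10e6b0f) (.node (nat_lit 0x10e6b0d) (.leaf (nat_lit 0x10e6b0b) (nat_lit 2561))
 (.leaf (nat_lit 0x10e6b0d) (nat_lit 2817))
) (.node (nat_lit 0x10e6b11) (.leaf (nat_lit 0x10e6b0f) (nat_lit 2561))
 (.node (nat_lit 0x10e6b13) (.leaf (nat_lit 0x10e6b11) (nat_lit 2816))
 (.leaf (nat_lit 0x10e6b13) (nat_lit 2816))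
))) (.node (nat_lit 0x10e6b1b) (.node (nat_lit 0x10e6b17) (.leaf (nat_lit 0x10e6b15) (nat_lit 2819))
 (.node (nat_lit 0x10e6b19) (.leaf (nat_lit 0x10e6b17) (nat_lit 2816))
 (.leaf (nat_lit 0x10e6b19) (nat_lit 1536))
)) (.node (nat_lit 0x10e6b1d) (.leaf (nat_lit 0x10e6b1b) (nat_lit 1792))
 (.node (nat_lit 0x10e6b1f) (.leaf (nat_lit 0x10e6b1d) (nat_lit 2304))
 (.leaf (nat_lit 0x10e6b1f) (nat_lit 2304))
))))))))) (.node (nat_lit 0x10f08d1) (.node (nat_lit 0x10e7a89) (.node (nat_lit 0x10e78d5) (.node (nat_lit 0x10e788b) (.node (nat_lit 0x10e6bd5) (.node (nat_lit 0x10e6bcb) (.node (nat_lit 0x10e6bc5) (.node (nat_lit 0x10e6bc3) (.leaf (nat_lit 0x10e6bc1) (nat_lit 1541))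
 (.leaf (nat_lit 0x10e6bc3) (nat_lit 1797))
) (.node (nat_lit 0x10e6bc7) (.leaf (nat_lit 0x10e6bc5) (nat_lit 1793))
 (.node (nat_lit 0x10e6bc9) (.leaf (nat_lit 0x10e6bc7) (nat_lit 2049))
 (.leaf (nat_lit 0x10e6bc9) (nat_lit 2819))
))) (.node (nat_lit 0x10e6bcf) (.node (nat_lit 0x10e6bcd) (.leaf (nat_lit 0x10e6bcb) (nat_lit 2817))
 (.leaf (nat_lit 0x10e6bcd) (nat_lit 3077))
) (.node (nat_lit 0x10e6bd1) (.leaf (nat_lit 0x10e6bcf) (nat_lit 2821))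
 (.node (nat_lit 0x10e6bd3) (.leaf (nat_lit 0x10e6bd1) (nat_lit 3077))
 (.leaf (nat_lit 0x10e6bd3) (nat_lit 3333))
)))) (.node (nat_lit 0x10e6bdf) (.node (nat_lit 0x10e6bd9) (.node (nat_lit 0x10e6bd7) (.leaf (nat_lit 0x10e6bd5) (nat_lit 3072))
 (.leaf (nat_lit 0x10e6bd7) (nat_lit 3077))
) (.node (nat_lit 0x10e6bdb) (.leaf (nat_lit 0x10e6bd9) (nat_lit 2309))
 (.node (nat_lit 0x10e6bdd) (.leaf (nat_lit 0x10e6bdb) (nat_lit 2053))
 (.leaf (nat_lit 0x10e6bdd) (nat_lit 2053))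
))) (.node (nat_lit 0x10e7885) (.node (nat_lit 0x10e7881) (.leaf (nat_lit 0x10e6bdf) (nat_lit 1797))
 (.node (nat_lit 0x10e7883) (.leaf (nat_lit 0x10e7881) (nat_lit 1538))
 (.leaf (nat_lit 0x10e7883) (nat_lit 1794))
)) (.node (nat_lit 0x10e7887) (.leaf (nat_lit 0x10e7885) (nat_lit 1794))
 (.node (nat_lit 0x10e7889) (.leaf (nat_lit 0x10e7887) (nat_lit 1794))
 (.leaf (nat_lit 0x10e7889) (nat_lit 2818))
))))) (.node (nat_lit 0x10e789f) (.node (nat_lit 0x10e7895) (.node (nat_lit 0x10e788f) (.node (nat_lit 0x10e788d) (.leaf (nat_lit 0x10e788b) (nat_lit 2562))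
 (.leaf (nat_lit 0x10e788d) (nat_lit 3074))
) (.node (nat_lit 0x10e7891) (.leaf (nat_lit 0x10e788f) (nat_lit 2818))
 (.node (nat_lit 0x10e7893) (.leaf (nat_lit 0x10e7891) (nat_lit 3329))
 (.leaf (nat_lit 0x10e7893) (nat_lit 3333))
))) (.node (nat_lit 0x10e7899) (.node (nat_lit 0x10e7897) (.leaf (nat_lit 0x10e7895) (nat_lit 3329))
 (.leaf (nat_lit 0x10e7897) (nat_lit 3331))
) (.node (nat_lit 0x10e789b) (.leaf (nat_lit 0x10e7899) (nat_lit 2305))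
 (.node (nat_lit 0x10e789d) (.leaf (nat_lit 0x10e789b) (nat_lit 2049))
 (.leaf (nat_lit 0x10e789d) (nat_lit 2561))
)))) (.node (nat_lit 0x10e78c9) (.node (nat_lit 0x10e78c3) (.node (nat_lit 0x10e78c1) (.leaf (nat_lit 0x10e789f) (nat_lit 2305))
 (.leaf (nat_lit 0x10e78c1) (nat_lit 1285))
) (.node (nat_lit 0x10e78c5) (.leaf (nat_lit 0x10e78c3) (nat_lit 1541))
 (.node (nat_lit 0x10e78c7) (.leaf (nat_lit 0x10e78c5) (nat_lit 1797))
 (.leaf (nat_lit 0x10e78c7) (nat_lit 1541))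
))) (.node (nat_lit 0x10e78cf) (.node (nat_lit 0x10e78cb) (.leaf (nat_lit 0x10e78c9) (nat_lit 2562))
 (.node (nat_lit 0x10e78cd) (.leaf (nat_lit 0x10e78cb) (nat_lit 2565))
 (.leaf (nat_lit 0x10e78cd) (nat_lit 2821))
)) (.node (nat_lit 0x10e78d1) (.leaf (nat_lit 0x10e78cf) (nat_lit 2565))
 (.node (nat_lit 0x10e78d3) (.leaf (nat_lit 0x10e78d1) (nat_lit 3077))
 (.leaf (nat_lit 0x10e78d3) (nat_lit 2821))
)))))) (.node (nat_lit 0x10e791f) (.node (nat_lit 0x10e7909) (.node (nat_lit 0x10e78df) (.node (nat_lit 0x10e78d9) (.node (nat_lit 0x10e78d7) (.leaf (nat_lit 0x10e78d5) (nat_lit 2819))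
 (.leaf (nat_lit 0x10e78d7) (nat_lit 3075))
) (.node (nat_lit 0x10e78db) (.leaf (nat_lit 0x10e78d9) (nat_lit 2049))
 (.node (nat_lit 0x10e78dd) (.leaf (nat_lit 0x10e78db) (nat_lit 2305))
 (.leaf (nat_lit 0x10e78dd) (nat_lit 2309))
))) (.node (nat_lit 0x10e7903) (.node (nat_lit 0x10e7901) (.leaf (nat_lit 0x10e78df) (nat_lit 2053))
 (.leaf (nat_lit 0x10e7901) (nat_lit 1794))
) (.node (nat_lit 0x10e7905) (.leaf (nat_lit 0x10e7903) (nat_lit 2050))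
 (.node (nat_lit 0x10e7907) (.leaf (nat_lit 0x10e7905) (nat_lit 2562))
 (.leaf (nat_lit 0x10e7907) (nat_lit 2306))
)))) (.node (nat_lit 0x10e7913) (.node (nat_lit 0x10e790d) (.node (nat_lit 0x10e790b) (.leaf (nat_lit 0x10e7909) (nat_lit 2050))
 (.leaf (nat_lit 0x10e790b) (nat_lit 2050))
) (.node (nat_lit 0x10e790f) (.leaf (nat_lit 0x10e790d) (nat_lit 2818))
 (.node (nat_lit 0x10e7911) (.leaf (nat_lit 0x10e790f) (nat_lit 2562))
 (.leaf (nat_lit 0x10e7911) (nat_lit 3073))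
))) (.node (nat_lit 0x10e7919) (.node (nat_lit 0x10e7915) (.leaf (nat_lit 0x10e7913) (nat_lit 3329))
 (.node (nat_lit 0x10e7917) (.leaf (nat_lit 0x10e7915) (nat_lit 2561))
 (.leaf (nat_lit 0x10e7917) (nat_lit 2305))
)) (.node (nat_lit 0x10e791b) (.leaf (nat_lit 0x10e7919) (nat_lit 3331))
 (.node (nat_lit 0x10e791d) (.leaf (nat_lit 0x10e791b) (nat_lit 3075))
 (.leaf (nat_lit 0x10e791d) (nat_lit 2816))
))))) (.node (nat_lit 0x10e7953) (.node (nat_lit 0x10e7949) (.node (nat_lit 0x10e7943) (.node (nat_lit 0x10e7941) (.leaf (nat_lit 0x10e791f) (nat_lit 2560))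
 (.leaf (nat_lit 0x10e7941) (nat_lit 1541))
) (.node (nat_lit 0x10e7945) (.leaf (nat_lit 0x10e7943) (nat_lit 1797))
 (.node (nat_lit 0x10e7947) (.leaf (nat_lit 0x10e7945) (nat_lit 2565))
 (.leaf (nat_lit 0x10e7947) (nat_lit 2309))
))) (.node (nat_lit 0x10e794d) (.node (nat_lit 0x10e794b) (.leaf (nat_lit 0x10e7949) (nat_lit 2053))
 (.leaf (nat_lit 0x10e794b) (nat_lit 1797))
) (.node (nat_lit 0x10e794f) (.leaf (nat_lit 0x10e794d) (nat_lit 2565))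
 (.node (nat_lit 0x10e7951) (.leaf (nat_lit 0x10e794f) (nat_lit 2565))
 (.leaf (nat_lit 0x10e7951) (nat_lit 3329))
)))) (.node (nat_lit 0x10e795d) (.node (nat_lit 0x10e7957) (.node (nat_lit 0x10e7955) (.leaf (nat_lit 0x10e7953) (nat_lit 3073))
 (.leaf (nat_lit 0x10e7955) (nat_lit 2305))
) (.node (nat_lit 0x10e7959) (.leaf (nat_lit 0x10e7957) (nat_lit 2561))
 (.node (nat_lit 0x10e795b) (.leaf (nat_lit 0x10e7959) (nat_lit 3077))
 (.leaf (nat_lit 0x10e795b) (nat_lit 3333))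
))) (.node (nat_lit 0x10e7a83) (.node (nat_lit 0x10e795f) (.leaf (nat_lit 0x10e795d) (nat_lit 2565))
 (.node (nat_lit 0x10e7a81) (.leaf (nat_lit 0x10e795f) (nat_lit 2309))
 (.leaf (nat_lit 0x10e7a81) (nat_lit 1793))
)) (.node (nat_lit 0x10e7a85) (.leaf (nat_lit 0x10e7a83) (nat_lit 2049))
 (.node (nat_lit 0x10e7a87) (.leaf (nat_lit 0x10e7a85) (nat_lit 2817))
 (.leaf (nat_lit 0x10e7a87) (nat_lit 2561))
))))))) (.node (nat_lit 0x10e7b1d) (.node (nat_lit 0x10e7ad3) (.node (nat_lit 0x10e7a9d) (.node (nat_lit 0x10e7a93) (.node (nat_lit 0x10e7a8d) (.node (nat_lit 0x10e7a8b) (.leaf (nat_lit 0x10e7a89) (nat_lit 2305))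
 (.leaf (nat_lit 0x10e7a8b) (nat_lit 2049))
) (.node (nat_lit 0x10e7a8f) (.leaf (nat_lit 0x10e7a8d) (nat_lit 2817))
 (.node (nat_lit 0x10e7a91) (.leaf (nat_lit 0x10e7a8f) (nat_lit 2817))
 (.leaf (nat_lit 0x10e7a91) (nat_lit 3072))
))) (.node (nat_lit 0x10e7a97) (.node (nat_lit 0x10e7a95) (.leaf (nat_lit 0x10e7a93) (nat_lit 2816))
 (.leaf (nat_lit 0x10e7a95) (nat_lit 2048))
) (.node (nat_lit 0x10e7a99) (.leaf (nat_lit 0x10e7a97) (nat_lit 2304))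
 (.node (nat_lit 0x10e7a9b) (.leaf (nat_lit 0x10e7a99) (nat_lit 3072))
 (.leaf (nat_lit 0x10e7a9b) (nat_lit 3072))
)))) (.node (nat_lit 0x10e7ac7) (.node (nat_lit 0x10e7ac1) (.node (nat_lit 0x10e7a9f) (.leaf (nat_lit 0x10e7a9d) (nat_lit 2560))
 (.leaf (nat_lit 0x10e7a9f) (nat_lit 2304))
) (.node (nat_lit 0x10e7ac3) (.leaf (nat_lit 0x10e7ac1) (nat_lit 1797))
 (.node (nat_lit 0x10e7ac5) (.leaf (nat_lit 0x10e7ac3) (nat_lit 2053))
 (.leaf (nat_lit 0x10e7ac5) (nat_lit 2821))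
))) (.node (nat_lit 0x10e7acd) (.node (nat_lit 0x10e7ac9) (.leaf (nat_lit 0x10e7ac7) (nat_lit 2565))
 (.node (nat_lit 0x10e7acb) (.leaf (nat_lit 0x10e7ac9) (nat_lit 2305))
 (.leaf (nat_lit 0x10e7acb) (nat_lit 2305))
)) (.node (nat_lit 0x10e7acf) (.leaf (nat_lit 0x10e7acd) (nat_lit 3073))
 (.node (nat_lit 0x10e7ad1) (.leaf (nat_lit 0x10e7acf) (nat_lit 2817))
 (.leaf (nat_lit 0x10e7ad1) (nat_lit 2821))
))))) (.node (nat_lit 0x10e7b07) (.node (nat_lit 0x10e7add) (.node (nat_lit 0x10e7ad7) (.node (nat_lit 0x10e7ad5) (.leaf (nat_lit 0x10e7ad3) (nat_lit 3077))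
 (.leaf (nat_lit 0x10e7ad5) (nat_lit 2309))
) (.node (nat_lit 0x10e7ad9) (.leaf (nat_lit 0x10e7ad7) (nat_lit 2053))
 (.node (nat_lit 0x10e7adb) (.leaf (nat_lit 0x10e7ad9) (nat_lit 3072))
 (.leaf (nat_lit 0x10e7adb) (nat_lit 3077))
))) (.node (nat_lit 0x10e7b01) (.node (nat_lit 0x10e7adf) (.leaf (nat_lit 0x10e7add) (nat_lit 2560))
 (.leaf (nat_lit 0x10e7adf) (nat_lit 2565))
) (.node (nat_lit 0x10e7b03) (.leaf (nat_lit 0x10e7b01) (nat_lit 1537))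
 (.node (nat_lit 0x10e7b05) (.leaf (nat_lit 0x10e7b03) (nat_lit 1793))
 (.leaf (nat_lit 0x10e7b05) (nat_lit 2049))
)))) (.node (nat_lit 0x10e7b11) (.node (nat_lit 0x10e7b0b) (.node (nat_lit 0x10e7b09) (.leaf (nat_lit 0x10e7b07) (nat_lit 1793))
 (.leaf (nat_lit 0x10e7b09) (nat_lit 2817))
) (.node (nat_lit 0x10e7b0d) (.leaf (nat_lit 0x10e7b0b) (nat_lit 2817))
 (.node (nat_lit 0x10e7b0f) (.leaf (nat_lit 0x10e7b0d) (nat_lit 3073))
 (.leaf (nat_lit 0x10e7b0f) (nat_lit 2817))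
))) (.node (nat_lit 0x10e7b17) (.node (nat_lit 0x10e7b13) (.leaf (nat_lit 0x10e7b11) (nat_lit 3072))
 (.node (nat_lit 0x10e7b15) (.leaf (nat_lit 0x10e7b13) (nat_lit 3072))
 (.leaf (nat_lit 0x10e7b15) (nat_lit 3075))
)) (.node (nat_lit 0x10e7b19) (.leaf (nat_lit 0x10e7b17) (nat_lit 3072))
 (.node (nat_lit 0x10e7b1b) (.leaf (nat_lit 0x10e7b19) (nat_lit 1792))
 (.leaf (nat_lit 0x10e7b1b) (nat_lit 2048))
)))))) (.node (nat_lit 0x10f0887) (.node (nat_lit 0x10e7b51) (.node (nat_lit 0x10e7b47) (.node (nat_lit 0x10e7b41) (.node (nat_lit 0x10e7b1f) (.leaf (nat_lit 0x10e7b1d) (nat_lit 2304))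
 (.leaf (nat_lit 0x10e7b1f) (nat_lit 2048))
) (.node (nat_lit 0x10e7b43) (.leaf (nat_lit 0x10e7b41) (nat_lit 1541))
 (.node (nat_lit 0x10e7b45) (.leaf (nat_lit 0x10e7b43) (nat_lit 1797))
 (.leaf (nat_lit 0x10e7b45) (nat_lit 2049))
))) (.node (nat_lit 0x10e7b4b) (.node (nat_lit 0x10e7b49) (.leaf (nat_lit 0x10e7b47) (nat_lit 2053))
 (.leaf (nat_lit 0x10e7b49) (nat_lit 3077))
) (.node (nat_lit 0x10e7b4d) (.leaf (nat_lit 0x10e7b4b) (nat_lit 2821))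
 (.node (nat_lit 0x10e7b4f) (.leaf (nat_lit 0x10e7b4d) (nat_lit 3077))
 (.leaf (nat_lit 0x10e7b4f) (nat_lit 2821))
)))) (.node (nat_lit 0x10e7b5b) (.node (nat_lit 0x10e7b55) (.node (nat_lit 0x10e7b53) (.leaf (nat_lit 0x10e7b51) (nat_lit 3077))
 (.leaf (nat_lit 0x10e7b53) (nat_lit 3333))
) (.node (nat_lit 0x10e7b57) (.leaf (nat_lit 0x10e7b55) (nat_lit 3077))
 (.node (nat_lit 0x10e7b59) (.leaf (nat_lit 0x10e7b57) (nat_lit 3077))
 (.leaf (nat_lit 0x10e7b59) (nat_lit 2053))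
))) (.node (nat_lit 0x10f0881) (.node (nat_lit 0x10e7b5d) (.leaf (nat_lit 0x10e7b5b) (nat_lit 1797))
 (.node (nat_lit 0x10e7b5f) (.leaf (nat_lit 0x10e7b5d) (nat_lit 2309))
 (.leaf (nat_lit 0x10e7b5f) (nat_lit 2053))
)) (.node (nat_lit 0x10f0883) (.leaf (nat_lit 0x10f0881) (nat_lit 1285))
 (.node (nat_lit 0x10f0885) (.leaf (nat_lit 0x10f0883) (nat_lit 1541))
 (.leaf (nat_lit 0x10f0885) (nat_lit 1541))
))))) (.node (nat_lit 0x10f089b) (.node (nat_lit 0x10f0891) (.node (nat_lit 0x10f088b) (.node (nat_lit 0x10f0889) (.leaf (nat_lit 0x10f0887) (nat_lit 1797))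
 (.leaf (nat_lit 0x10f0889) (nat_lit 2563))
) (.node (nat_lit 0x10f088d) (.leaf (nat_lit 0x10f088b) (nat_lit 2564))
 (.node (nat_lit 0x10f088f) (.leaf (nat_lit 0x10f088d) (nat_lit 2565))
 (.leaf (nat_lit 0x10f088f) (nat_lit 2565))
))) (.node (nat_lit 0x10f0895) (.node (nat_lit 0x10f0893) (.leaf (nat_lit 0x10f0891) (nat_lit 3589))
 (.leaf (nat_lit 0x10f0893) (nat_lit 3333))
) (.node (nat_lit 0x10f0897) (.leaf (nat_lit 0x10f0895) (nat_lit 3333))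
 (.node (nat_lit 0x10f0899) (.leaf (nat_lit 0x10f0897) (nat_lit 3333))
 (.leaf (nat_lit 0x10f0899) (nat_lit 2562))
)))) (.node (nat_lit 0x10f08c5) (.node (nat_lit 0x10f089f) (.node (nat_lit 0x10f089d) (.leaf (nat_lit 0x10f089b) (nat_lit 2564))
 (.leaf (nat_lit 0x10f089d) (nat_lit 2565))
) (.node (nat_lit 0x10f08c1) (.leaf (nat_lit 0x10f089f) (nat_lit 2565))
 (.node (nat_lit 0x10f08c3) (.leaf (nat_lit 0x10f08c1) (nat_lit 1284))
 (.leaf (nat_lit 0x10f08c3) (nat_lit 1540))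
))) (.node (nat_lit 0x10f08cb) (.node (nat_lit 0x10f08c7) (.leaf (nat_lit 0x10f08c5) (nat_lit 1796))
 (.node (nat_lit 0x10f08c9) (.leaf (nat_lit 0x10f08c7) (nat_lit 1540))
 (.leaf (nat_lit 0x10f08c9) (nat_lit 2564))
)) (.node (nat_lit 0x10f08cd) (.leaf (nat_lit 0x10f08cb) (nat_lit 2564))
 (.node (nat_lit 0x10f08cf) (.leaf (nat_lit 0x10f08cd) (nat_lit 2820))
 (.leaf (nat_lit 0x10f08cf) (nat_lit 2564))
)))))))) (.node (nat_lit 0x10f0b19) (.node (nat_lit 0x10f0a85) (.node (nat_lit 0x10f091b) (.node (nat_lit 0x10f0905) (.node (nat_lit 0x10f08db) (.node (nat_lit 0x10f08d5) (.node (nat_lit 0x10f08d3) (.leaf (nat_lit 0x10f08d1) (nat_lit 3588))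
 (.leaf (nat_lit 0x10f08d3) (nat_lit 3332))
) (.node (nat_lit 0x10f08d7) (.leaf (nat_lit 0x10f08d5) (nat_lit 3332))
 (.node (nat_lit 0x10f08d9) (.leaf (nat_lit 0x10f08d7) (nat_lit 3332))
 (.leaf (nat_lit 0x10f08d9) (nat_lit 2564))
))) (.node (nat_lit 0x10f08df) (.node (nat_lit 0x10f08dd) (.leaf (nat_lit 0x10f08db) (nat_lit 2564))
 (.leaf (nat_lit 0x10f08dd) (nat_lit 2820))
) (.node (nat_lit 0x10f0901) (.leaf (nat_lit 0x10f08df) (nat_lit 2564))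
 (.node (nat_lit 0x10f0903) (.leaf (nat_lit 0x10f0901) (nat_lit 1796))
 (.leaf (nat_lit 0x10f0903) (nat_lit 2052))
)))) (.node (nat_lit 0x10f090f) (.node (nat_lit 0x10f0909) (.node (nat_lit 0x10f0907) (.leaf (nat_lit 0x10f0905) (nat_lit 2307))
 (.leaf (nat_lit 0x10f0907) (nat_lit 2308))
) (.node (nat_lit 0x10f090b) (.leaf (nat_lit 0x10f0909) (nat_lit 2052))
 (.node (nat_lit 0x10f090d) (.leaf (nat_lit 0x10f090b) (nat_lit 2052))
 (.leaf (nat_lit 0x10f090d) (nat_lit 2563))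
))) (.node (nat_lit 0x10f0915) (.node (nat_lit 0x10f0911) (.leaf (nat_lit 0x10f090f) (nat_lit 2564))
 (.node (nat_lit 0x10f0913) (.leaf (nat_lit 0x10f0911) (nat_lit 3588))
 (.leaf (nat_lit 0x10f0913) (nat_lit 3586))
)) (.node (nat_lit 0x10f0917) (.leaf (nat_lit 0x10f0915) (nat_lit 2818))
 (.node (nat_lit 0x10f0919) (.leaf (nat_lit 0x10f0917) (nat_lit 2820))
 (.leaf (nat_lit 0x10f0919) (nat_lit 3589))
))))) (.node (nat_lit 0x10f094f) (.node (nat_lit 0x10f0945) (.node (nat_lit 0x10f091f) (.node (nat_lit 0x10f091d) (.leaf (nat_lit 0x10f091b) (nat_lit 3586))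
 (.leaf (nat_lit 0x10f091d) (nat_lit 3077))
) (.node (nat_lit 0x10f0941) (.leaf (nat_lit 0x10f091f) (nat_lit 3077))
 (.node (nat_lit 0x10f0943) (.leaf (nat_lit 0x10f0941) (nat_lit 1540))
 (.leaf (nat_lit 0x10f0943) (nat_lit 1796))
))) (.node (nat_lit 0x10f0949) (.node (nat_lit 0x10f0947) (.leaf (nat_lit 0x10f0945) (nat_lit 2309))
 (.leaf (nat_lit 0x10f0947) (nat_lit 2308))
) (.node (nat_lit 0x10f094b) (.leaf (nat_lit 0x10f0949) (nat_lit 2052))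
 (.node (nat_lit 0x10f094d) (.leaf (nat_lit 0x10f094b) (nat_lit 1796))
 (.leaf (nat_lit 0x10f094d) (nat_lit 2564))
)))) (.node (nat_lit 0x10f0959) (.node (nat_lit 0x10f0953) (.node (nat_lit 0x10f0951) (.leaf (nat_lit 0x10f094f) (nat_lit 2564))
 (.leaf (nat_lit 0x10f0951) (nat_lit 3586))
) (.node (nat_lit 0x10f0955) (.leaf (nat_lit 0x10f0953) (nat_lit 3588))
 (.node (nat_lit 0x10f0957) (.leaf (nat_lit 0x10f0955) (nat_lit 2820))
 (.leaf (nat_lit 0x10f0957) (nat_lit 2818))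
))) (.node (nat_lit 0x10f095f) (.node (nat_lit 0x10f095b) (.leaf (nat_lit 0x10f0959) (nat_lit 3588))
 (.node (nat_lit 0x10f095d) (.leaf (nat_lit 0x10f095b) (nat_lit 3332))
 (.leaf (nat_lit 0x10f095d) (nat_lit 2821))
)) (.node (nat_lit 0x10f0a81) (.leaf (nat_lit 0x10f095f) (nat_lit 2820))
 (.node (nat_lit 0x10f0a83) (.leaf (nat_lit 0x10f0a81) (nat_lit 1797))
 (.leaf (nat_lit 0x10f0a83) (nat_lit 2053))
)))))) (.node (nat_lit 0x10f0acf) (.node (nat_lit 0x10f0a99) (.node (nat_lit 0x10f0a8f) (.node (nat_lit 0x10f0a89) (.node (nat_lit 0x10f0a87) (.leaf (nat_lit 0x10f0a85) (nat_lit 2565))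
 (.leaf (nat_lit 0x10f0a87) (nat_lit 2565))
) (.node (nat_lit 0x10f0a8b) (.leaf (nat_lit 0x10f0a89) (nat_lit 2820))
 (.node (nat_lit 0x10f0a8d) (.leaf (nat_lit 0x10f0a8b) (nat_lit 2564))
 (.leaf (nat_lit 0x10f0a8d) (nat_lit 2821))
))) (.node (nat_lit 0x10f0a93) (.node (nat_lit 0x10f0a91) (.leaf (nat_lit 0x10f0a8f) (nat_lit 2821))
 (.leaf (nat_lit 0x10f0a91) (nat_lit 2821))
) (.node (nat_lit 0x10f0a95) (.leaf (nat_lit 0x10f0a93) (nat_lit 2821))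
 (.node (nat_lit 0x10f0a97) (.leaf (nat_lit 0x10f0a95) (nat_lit 2053))
 (.leaf (nat_lit 0x10f0a97) (nat_lit 2309))
)))) (.node (nat_lit 0x10f0ac3) (.node (nat_lit 0x10f0a9d) (.node (nat_lit 0x10f0a9b) (.leaf (nat_lit 0x10f0a99) (nat_lit 3077))
 (.leaf (nat_lit 0x10f0a9b) (nat_lit 3077))
) (.node (nat_lit 0x10f0a9f) (.leaf (nat_lit 0x10f0a9d) (nat_lit 2821))
 (.node (nat_lit 0x10f0ac1) (.leaf (nat_lit 0x10f0a9f) (nat_lit 2821))
 (.leaf (nat_lit 0x10f0ac1) (nat_lit 1796))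
))) (.node (nat_lit 0x10f0ac9) (.node (nat_lit 0x10f0ac5) (.leaf (nat_lit 0x10f0ac3) (nat_lit 2052))
 (.node (nat_lit 0x10f0ac7) (.leaf (nat_lit 0x10f0ac5) (nat_lit 2820))
 (.leaf (nat_lit 0x10f0ac7) (nat_lit 2564))
)) (.node (nat_lit 0x10f0acb) (.leaf (nat_lit 0x10f0ac9) (nat_lit 2820))
 (.node (nat_lit 0x10f0acd) (.leaf (nat_lit 0x10f0acb) (nat_lit 2564))
 (.leaf (nat_lit 0x10f0acd) (nat_lit 3076))
))))) (.node (nat_lit 0x10f0b03) (.node (nat_lit 0x10f0ad9) (.node (nat_lit 0x10f0ad3) (.node (nat_lit 0x10f0ad1) (.leaf (nat_lit 0x10f0acf) (nat_lit 2820))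
 (.leaf (nat_lit 0x10f0ad1) (nat_lit 2820))
) (.node (nat_lit 0x10f0ad5) (.leaf (nat_lit 0x10f0ad3) (nat_lit 3076))
 (.node (nat_lit 0x10f0ad7) (.leaf (nat_lit 0x10f0ad5) (nat_lit 2308))
 (.leaf (nat_lit 0x10f0ad7) (nat_lit 2052))
))) (.node (nat_lit 0x10f0add) (.node (nat_lit 0x10f0adb) (.leaf (nat_lit 0x10f0ad9) (nat_lit 3076))
 (.leaf (nat_lit 0x10f0adb) (nat_lit 3075))
) (.node (nat_lit 0x10f0adf) (.leaf (nat_lit 0x10f0add) (nat_lit 2820))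
 (.node (nat_lit 0x10f0b01) (.leaf (nat_lit 0x10f0adf) (nat_lit 2820))
 (.leaf (nat_lit 0x10f0b01) (nat_lit 1796))
)))) (.node (nat_lit 0x10f0b0d) (.node (nat_lit 0x10f0b07) (.node (nat_lit 0x10f0b05) (.leaf (nat_lit 0x10f0b03) (nat_lit 2052))
 (.leaf (nat_lit 0x10f0b05) (nat_lit 2306))
) (.node (nat_lit 0x10f0b09) (.leaf (nat_lit 0x10f0b07) (nat_lit 2308))
 (.node (nat_lit 0x10f0b0b) (.leaf (nat_lit 0x10f0b09) (nat_lit 3076))
 (.leaf (nat_lit 0x10f0b0b) (nat_lit 3076))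
))) (.node (nat_lit 0x10f0b13) (.node (nat_lit 0x10f0b0f) (.leaf (nat_lit 0x10f0b0d) (nat_lit 3077))
 (.node (nat_lit 0x10f0b11) (.leaf (nat_lit 0x10f0b0f) (nat_lit 3076))
 (.leaf (nat_lit 0x10f0b11) (nat_lit 3332))
)) (.node (nat_lit 0x10f0b15) (.leaf (nat_lit 0x10f0b13) (nat_lit 3332))
 (.node (nat_lit 0x10f0b17) (.leaf (nat_lit 0x10f0b15) (nat_lit 3075))
 (.leaf (nat_lit 0x10f0b17) (nat_lit 3076))
))))))) (.node (nat_lit 0x10f10cd) (.node (nat_lit 0x10f1043) (.node (nat_lit 0x10f0b4d) (.node (nat_lit 0x10f0b43) (.node (nat_lit 0x10f0b1d) (.node (nat_lit 0x10f0b1b) (.leaf (nat_lit 0x10f0b19) (nat_lit 2052))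
 (.leaf (nat_lit 0x10f0b1b) (nat_lit 2052))
) (.node (nat_lit 0x10f0b1f) (.leaf (nat_lit 0x10f0b1d) (nat_lit 2562))
 (.node (nat_lit 0x10f0b41) (.leaf (nat_lit 0x10f0b1f) (nat_lit 2564))
 (.leaf (nat_lit 0x10f0b41) (nat_lit 1540))
))) (.node (nat_lit 0x10f0b47) (.node (nat_lit 0x10f0b45) (.leaf (nat_lit 0x10f0b43) (nat_lit 1796))
 (.leaf (nat_lit 0x10f0b45) (nat_lit 2309))
) (.node (nat_lit 0x10f0b49) (.leaf (nat_lit 0x10f0b47) (nat_lit 2308))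
 (.node (nat_lit 0x10f0b4b) (.leaf (nat_lit 0x10f0b49) (nat_lit 3076))
 (.leaf (nat_lit 0x10f0b4b) (nat_lit 2820))
)))) (.node (nat_lit 0x10f0b57) (.node (nat_lit 0x10f0b51) (.node (nat_lit 0x10f0b4f) (.leaf (nat_lit 0x10f0b4d) (nat_lit 2821))
 (.leaf (nat_lit 0x10f0b4f) (nat_lit 2820))
) (.node (nat_lit 0x10f0b53) (.leaf (nat_lit 0x10f0b51) (nat_lit 3076))
 (.node (nat_lit 0x10f0b55) (.leaf (nat_lit 0x10f0b53) (nat_lit 3332))
 (.leaf (nat_lit 0x10f0b55) (nat_lit 3076))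
))) (.node (nat_lit 0x10f0b5d) (.node (nat_lit 0x10f0b59) (.leaf (nat_lit 0x10f0b57) (nat_lit 3076))
 (.node (nat_lit 0x10f0b5b) (.leaf (nat_lit 0x10f0b59) (nat_lit 2052))
 (.leaf (nat_lit 0x10f0b5b) (nat_lit 1796))
)) (.node (nat_lit 0x10f0b5f) (.leaf (nat_lit 0x10f0b5d) (nat_lit 2564))
 (.node (nat_lit 0x10f1041) (.leaf (nat_lit 0x10f0b5f) (nat_lit 2564))
 (.leaf (nat_lit 0x10f1041) (nat_lit 1029))
))))) (.node (nat_lit 0x10f1057) (.node (nat_lit 0x10f104d) (.node (nat_lit 0x10f1047) (.node (nat_lit 0x10f1045) (.leaf (nat_lit 0x10f1043) (nat_lit 1285))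
 (.leaf (nat_lit 0x10f1045) (nat_lit 1797))
) (.node (nat_lit 0x10f1049) (.leaf (nat_lit 0x10f1047) (nat_lit 1797))
 (.node (nat_lit 0x10f104b) (.leaf (nat_lit 0x10f1049) (nat_lit 2307))
 (.leaf (nat_lit 0x10f104b) (nat_lit 2309))
))) (.node (nat_lit 0x10f1051) (.node (nat_lit 0x10f104f) (.leaf (nat_lit 0x10f104d) (nat_lit 2309))
 (.leaf (nat_lit 0x10f104f) (nat_lit 2309))
) (.node (nat_lit 0x10f1053) (.leaf (nat_lit 0x10f1051) (nat_lit 3589))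
 (.node (nat_lit 0x10f1055) (.leaf (nat_lit 0x10f1053) (nat_lit 3589))
 (.leaf (nat_lit 0x10f1055) (nat_lit 3077))
)))) (.node (nat_lit 0x10f10c1) (.node (nat_lit 0x10f105b) (.node (nat_lit 0x10f1059) (.leaf (nat_lit 0x10f1057) (nat_lit 3077))
 (.leaf (nat_lit 0x10f1059) (nat_lit 2306))
) (.node (nat_lit 0x10f105d) (.leaf (nat_lit 0x10f105b) (nat_lit 2309))
 (.node (nat_lit 0x10f105f) (.leaf (nat_lit 0x10f105d) (nat_lit 2309))
 (.leaf (nat_lit 0x10f105f) (nat_lit 2309))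
))) (.node (nat_lit 0x10f10c7) (.node (nat_lit 0x10f10c3) (.leaf (nat_lit 0x10f10c1) (nat_lit 1281))
 (.node (nat_lit 0x10f10c5) (.leaf (nat_lit 0x10f10c3) (nat_lit 1537))
 (.leaf (nat_lit 0x10f10c5) (nat_lit 1792))
)) (.node (nat_lit 0x10f10c9) (.leaf (nat_lit 0x10f10c7) (nat_lit 1536))
 (.node (nat_lit 0x10f10cb) (.leaf (nat_lit 0x10f10c9) (nat_lit 2563))
 (.leaf (nat_lit 0x10f10cb) (nat_lit 2563))
)))))) (.node (nat_lit 0x10f1117) (.node (nat_lit 0x10f1101) (.node (nat_lit 0x10f10d7) (.node (nat_lit 0x10f10d1) (.node (nat_lit 0x10f10cf) (.leaf (nat_lit 0x10f10cd) (nat_lit 2563))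
 (.leaf (nat_lit 0x10f10cf) (nat_lit 2561))
) (.node (nat_lit 0x10f10d3) (.leaf (nat_lit 0x10f10d1) (nat_lit 3584))
 (.node (nat_lit 0x10f10d5) (.leaf (nat_lit 0x10f10d3) (nat_lit 3587))
 (.leaf (nat_lit 0x10f10d5) (nat_lit 3329))
))) (.node (nat_lit 0x10f10db) (.node (nat_lit 0x10f10d9) (.leaf (nat_lit 0x10f10d7) (nat_lit 3329))
 (.leaf (nat_lit 0x10f10d9) (nat_lit 2561))
) (.node (nat_lit 0x10f10dd) (.leaf (nat_lit 0x10f10db) (nat_lit 2562))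
 (.node (nat_lit 0x10f10df) (.leaf (nat_lit 0x10f10dd) (nat_lit 2562))
 (.leaf (nat_lit 0x10f10df) (nat_lit 2561))
)))) (.node (nat_lit 0x10f110b) (.node (nat_lit 0x10f1105) (.node (nat_lit 0x10f1103) (.leaf (nat_lit 0x10f1101) (nat_lit 1795))
 (.leaf (nat_lit 0x10f1103) (nat_lit 2051))
) (.node (nat_lit 0x10f1107) (.leaf (nat_lit 0x10f1105) (nat_lit 2305))
 (.node (nat_lit 0x10f1109) (.leaf (nat_lit 0x10f1107) (nat_lit 2561))
 (.leaf (nat_lit 0x10f1109) (nat_lit 2051))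
))) (.node (nat_lit 0x10f1111) (.node (nat_lit 0x10f110d) (.leaf (nat_lit 0x10f110b) (nat_lit 2307))
 (.node (nat_lit 0x10f110f) (.leaf (nat_lit 0x10f110d) (nat_lit 2305))
 (.leaf (nat_lit 0x10f110f) (nat_lit 2561))
)) (.node (nat_lit 0x10f1113) (.leaf (nat_lit 0x10f1111) (nat_lit 3330))
 (.node (nat_lit 0x10f1115) (.leaf (nat_lit 0x10f1113) (nat_lit 3074))
 (.leaf (nat_lit 0x10f1115) (nat_lit 3585))
))))) (.node (nat_lit 0x10f118b) (.node (nat_lit 0x10f1181) (.node (nat_lit 0x10f111b) (.node (nat_lit 0x10f1119) (.leaf (nat_lit 0x10f1117) (nat_lit 3329))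
 (.leaf (nat_lit 0x10f1119) (nat_lit 3585))
) (.node (nat_lit 0x10f111d) (.leaf (nat_lit 0x10f111b) (nat_lit 3329))
 (.node (nat_lit 0x10f111f) (.leaf (nat_lit 0x10f111d) (nat_lit 3586))
 (.leaf (nat_lit 0x10f111f) (nat_lit 3584))
))) (.node (nat_lit 0x10f1185) (.node (nat_lit 0x10f1183) (.leaf (nat_lit 0x10f1181) (nat_lit 1797))
 (.leaf (nat_lit 0x10f1183) (nat_lit 2053))
) (.node (nat_lit 0x10f1187) (.leaf (nat_lit 0x10f1185) (nat_lit 2053))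
 (.node (nat_lit 0x10f1189) (.leaf (nat_lit 0x10f1187) (nat_lit 2309))
 (.leaf (nat_lit 0x10f1189) (nat_lit 2309))
)))) (.node (nat_lit 0x10f1195) (.node (nat_lit 0x10f118f) (.node (nat_lit 0x10f118d) (.leaf (nat_lit 0x10f118b) (nat_lit 2565))
 (.leaf (nat_lit 0x10f118d) (nat_lit 2053))
) (.node (nat_lit 0x10f1191) (.leaf (nat_lit 0x10f118f) (nat_lit 2309))
 (.node (nat_lit 0x10f1193) (.leaf (nat_lit 0x10f1191) (nat_lit 3333))
 (.leaf (nat_lit 0x10f1193) (nat_lit 3077))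
))) (.node (nat_lit 0x10f119b) (.node (nat_lit 0x10f1197) (.leaf (nat_lit 0x10f1195) (nat_lit 3330))
 (.node (nat_lit 0x10f1199) (.leaf (nat_lit 0x10f1197) (nat_lit 3074))
 (.leaf (nat_lit 0x10f1199) (nat_lit 3333))
)) (.node (nat_lit 0x10f119d) (.leaf (nat_lit 0x10f119b) (nat_lit 3077))
 (.node (nat_lit 0x10f119f) (.leaf (nat_lit 0x10f119d) (nat_lit 3589))
 (.leaf (nat_lit 0x10f119f) (nat_lit 3333))
))))))))))) (.node (nat_lit 0x10f4b01) (.node (nat_lit 0x10f28c1) (.node (nat_lit 0x10f1b51) (.node (nat_lit 0x10f1889) (.node (nat_lit 0x10f1315) (.node (nat_lit 0x10f12cb) (.node (nat_lit 0x10f1255) (.node (nat_lit 0x10f124b) (.node (nat_lit 0x10f1245) (.node (nat_lit 0x10f1243) (.leaf (nat_lit 0x10f1241) (nat_lit 2053))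
 (.leaf (nat_lit 0x10f1243) (nat_lit 2309))
) (.node (nat_lit 0x10f1247) (.leaf (nat_lit 0x10f1245) (nat_lit 2309))
 (.node (nat_lit 0x10f1249) (.leaf (nat_lit 0x10f1247) (nat_lit 2565))
 (.leaf (nat_lit 0x10f1249) (nat_lit 2818))
))) (.node (nat_lit 0x10f124f) (.node (nat_lit 0x10f124d) (.leaf (nat_lit 0x10f124b) (nat_lit 3074))
 (.leaf (nat_lit 0x10f124d) (nat_lit 2821))
) (.node (nat_lit 0x10f1251) (.leaf (nat_lit 0x10f124f) (nat_lit 3077))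
 (.node (nat_lit 0x10f1253) (.leaf (nat_lit 0x10f1251) (nat_lit 2565))
 (.leaf (nat_lit 0x10f1253) (nat_lit 2309))
)))) (.node (nat_lit 0x10f125f) (.node (nat_lit 0x10f1259) (.node (nat_lit 0x10f1257) (.leaf (nat_lit 0x10f1255) (nat_lit 2821))
 (.leaf (nat_lit 0x10f1257) (nat_lit 2565))
) (.node (nat_lit 0x10f125b) (.leaf (nat_lit 0x10f1259) (nat_lit 3333))
 (.node (nat_lit 0x10f125d) (.leaf (nat_lit 0x10f125b) (nat_lit 3077))
 (.leaf (nat_lit 0x10f125d) (nat_lit 3333))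
))) (.node (nat_lit 0x10f12c5) (.node (nat_lit 0x10f12c1) (.leaf (nat_lit 0x10f125f) (nat_lit 3077))
 (.node (nat_lit 0x10f12c3) (.leaf (nat_lit 0x10f12c1) (nat_lit 2305))
 (.leaf (nat_lit 0x10f12c3) (nat_lit 2561))
)) (.node (nat_lit 0x10f12c7) (.leaf (nat_lit 0x10f12c5) (nat_lit 2561))
 (.node (nat_lit 0x10f12c9) (.leaf (nat_lit 0x10f12c7) (nat_lit 2817))
 (.leaf (nat_lit 0x10f12c9) (nat_lit 3074))
))))) (.node (nat_lit 0x10f12df) (.node (nat_lit 0x10f12d5) (.node (nat_lit 0x10f12cf) (.node (nat_lit 0x10f12cd) (.leaf (nat_lit 0x10f12cb) (nat_lit 3330))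
 (.leaf (nat_lit 0x10f12cd) (nat_lit 2818))
) (.node (nat_lit 0x10f12d1) (.leaf (nat_lit 0x10f12cf) (nat_lit 3074))
 (.node (nat_lit 0x10f12d3) (.leaf (nat_lit 0x10f12d1) (nat_lit 2817))
 (.leaf (nat_lit 0x10f12d3) (nat_lit 2561))
))) (.node (nat_lit 0x10f12d9) (.node (nat_lit 0x10f12d7) (.leaf (nat_lit 0x10f12d5) (nat_lit 2816))
 (.leaf (nat_lit 0x10f12d7) (nat_lit 2560))
) (.node (nat_lit 0x10f12db) (.leaf (nat_lit 0x10f12d9) (nat_lit 3330))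
 (.node (nat_lit 0x10f12dd) (.leaf (nat_lit 0x10f12db) (nat_lit 3074))
 (.leaf (nat_lit 0x10f12dd) (nat_lit 3331))
)))) (.node (nat_lit 0x10f1309) (.node (nat_lit 0x10f1303) (.node (nat_lit 0x10f1301) (.leaf (nat_lit 0x10f12df) (nat_lit 3330))
 (.leaf (nat_lit 0x10f1301) (nat_lit 1794))
) (.node (nat_lit 0x10f1305) (.leaf (nat_lit 0x10f1303) (nat_lit 2050))
 (.node (nat_lit 0x10f1307) (.leaf (nat_lit 0x10f1305) (nat_lit 2305))
 (.leaf (nat_lit 0x10f1307) (nat_lit 2561))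
))) (.node (nat_lit 0x10f130f) (.node (nat_lit 0x10f130b) (.leaf (nat_lit 0x10f1309) (nat_lit 3074))
 (.node (nat_lit 0x10f130d) (.leaf (nat_lit 0x10f130b) (nat_lit 3074))
 (.leaf (nat_lit 0x10f130d) (nat_lit 3074))
)) (.node (nat_lit 0x10f1311) (.leaf (nat_lit 0x10f130f) (nat_lit 3074))
 (.node (nat_lit 0x10f1313) (.leaf (nat_lit 0x10f1311) (nat_lit 3330))
 (.leaf (nat_lit 0x10f1313) (nat_lit 3331))
)))))) (.node (nat_lit 0x10f139f) (.node (nat_lit 0x10f1389) (.node (nat_lit 0x10f131f) (.node (nat_lit 0x10f1319) (.node (nat_lit 0x10f1317) (.leaf (nat_lit 0x10f1315) (nat_lit 3330))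
 (.leaf (nat_lit 0x10f1317) (nat_lit 3330))
) (.node (nat_lit 0x10f131b) (.leaf (nat_lit 0x10f1319) (nat_lit 2050))
 (.node (nat_lit 0x10f131d) (.leaf (nat_lit 0x10f131b) (nat_lit 2306))
 (.leaf (nat_lit 0x10f131d) (nat_lit 2305))
))) (.node (nat_lit 0x10f1383) (.node (nat_lit 0x10f1381) (.leaf (nat_lit 0x10f131f) (nat_lit 2561))
 (.leaf (nat_lit 0x10f1381) (nat_lit 1797))
) (.node (nat_lit 0x10f1385) (.leaf (nat_lit 0x10f1383) (nat_lit 2053))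
 (.node (nat_lit 0x10f1387) (.leaf (nat_lit 0x10f1385) (nat_lit 2053))
 (.leaf (nat_lit 0x10f1387) (nat_lit 2309))
)))) (.node (nat_lit 0x10f1393) (.node (nat_lit 0x10f138d) (.node (nat_lit 0x10f138b) (.leaf (nat_lit 0x10f1389) (nat_lit 3333))
 (.leaf (nat_lit 0x10f138b) (nat_lit 3077))
) (.node (nat_lit 0x10f138f) (.leaf (nat_lit 0x10f138d) (nat_lit 3077))
 (.node (nat_lit 0x10f1391) (.leaf (nat_lit 0x10f138f) (nat_lit 3077))
 (.leaf (nat_lit 0x10f1391) (nat_lit 3333))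
))) (.node (nat_lit 0x10f1399) (.node (nat_lit 0x10f1395) (.leaf (nat_lit 0x10f1393) (nat_lit 3333))
 (.node (nat_lit 0x10f1397) (.leaf (nat_lit 0x10f1395) (nat_lit 3589))
 (.leaf (nat_lit 0x10f1397) (nat_lit 3333))
)) (.node (nat_lit 0x10f139b) (.leaf (nat_lit 0x10f1399) (nat_lit 2309))
 (.node (nat_lit 0x10f139d) (.leaf (nat_lit 0x10f139b) (nat_lit 2565))
 (.leaf (nat_lit 0x10f139d) (nat_lit 2053))
))))) (.node (nat_lit 0x10f1853) (.node (nat_lit 0x10f1849) (.node (nat_lit 0x10f1843) (.node (nat_lit 0x10f1841) (.leaf (nat_lit 0x10f139f) (nat_lit 2309))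
 (.leaf (nat_lit 0x10f1841) (nat_lit 772))
) (.node (nat_lit 0x10f1845) (.leaf (nat_lit 0x10f1843) (nat_lit 1028))
 (.node (nat_lit 0x10f1847) (.leaf (nat_lit 0x10f1845) (nat_lit 1540))
 (.leaf (nat_lit 0x10f1847) (nat_lit 1540))
))) (.node (nat_lit 0x10f184d) (.node (nat_lit 0x10f184b) (.leaf (nat_lit 0x10f1849) (nat_lit 2307))
 (.leaf (nat_lit 0x10f184b) (nat_lit 2051))
) (.node (nat_lit 0x10f184f) (.leaf (nat_lit 0x10f184d) (nat_lit 2052))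
 (.node (nat_lit 0x10f1851) (.leaf (nat_lit 0x10f184f) (nat_lit 2052))
 (.leaf (nat_lit 0x10f1851) (nat_lit 3332))
)))) (.node (nat_lit 0x10f185d) (.node (nat_lit 0x10f1857) (.node (nat_lit 0x10f1855) (.leaf (nat_lit 0x10f1853) (nat_lit 3332))
 (.leaf (nat_lit 0x10f1855) (nat_lit 2818))
) (.node (nat_lit 0x10f1859) (.leaf (nat_lit 0x10f1857) (nat_lit 2818))
 (.node (nat_lit 0x10f185b) (.leaf (nat_lit 0x10f1859) (nat_lit 2306))
 (.leaf (nat_lit 0x10f185b) (nat_lit 2050))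
))) (.node (nat_lit 0x10f1883) (.node (nat_lit 0x10f185f) (.leaf (nat_lit 0x10f185d) (nat_lit 2052))
 (.node (nat_lit 0x10f1881) (.leaf (nat_lit 0x10f185f) (nat_lit 2052))
 (.leaf (nat_lit 0x10f1881) (nat_lit 1028))
)) (.node (nat_lit 0x10f1885) (.leaf (nat_lit 0x10f1883) (nat_lit 1284))
 (.node (nat_lit 0x10f1887) (.leaf (nat_lit 0x10f1885) (nat_lit 1284))
 (.leaf (nat_lit 0x10f1887) (nat_lit 1540))
))))))) (.node (nat_lit 0x10f199d) (.node (nat_lit 0x10f1953) (.node (nat_lit 0x10f189d) (.node (nat_lit 0x10f1893) (.node (nat_lit 0x10f188d) (.node (nat_lit 0x10f188b) (.leaf (nat_lit 0x10f1889) (nat_lit 2564))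
 (.leaf (nat_lit 0x10f188b) (nat_lit 2308))
) (.node (nat_lit 0x10f188f) (.leaf (nat_lit 0x10f188d) (nat_lit 2308))
 (.node (nat_lit 0x10f1891) (.leaf (nat_lit 0x10f188f) (nat_lit 2308))
 (.leaf (nat_lit 0x10f1891) (nat_lit 3330))
))) (.node (nat_lit 0x10f1897) (.node (nat_lit 0x10f1895) (.leaf (nat_lit 0x10f1893) (nat_lit 3074))
 (.leaf (nat_lit 0x10f1895) (nat_lit 3073))
) (.node (nat_lit 0x10f1899) (.leaf (nat_lit 0x10f1897) (nat_lit 3073))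
 (.node (nat_lit 0x10f189b) (.leaf (nat_lit 0x10f1899) (nat_lit 2564))
 (.leaf (nat_lit 0x10f189b) (nat_lit 2308))
)))) (.node (nat_lit 0x10f1947) (.node (nat_lit 0x10f1941) (.node (nat_lit 0x10f189f) (.leaf (nat_lit 0x10f189d) (nat_lit 2308))
 (.leaf (nat_lit 0x10f189f) (nat_lit 2308))
) (.node (nat_lit 0x10f1943) (.leaf (nat_lit 0x10f1941) (nat_lit 1540))
 (.node (nat_lit 0x10f1945) (.leaf (nat_lit 0x10f1943) (nat_lit 1796))
 (.leaf (nat_lit 0x10f1945) (nat_lit 2052))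
))) (.node (nat_lit 0x10f194d) (.node (nat_lit 0x10f1949) (.leaf (nat_lit 0x10f1947) (nat_lit 1796))
 (.node (nat_lit 0x10f194b) (.leaf (nat_lit 0x10f1949) (nat_lit 2052))
 (.leaf (nat_lit 0x10f194b) (nat_lit 1796))
)) (.node (nat_lit 0x10f194f) (.leaf (nat_lit 0x10f194d) (nat_lit 2052))
 (.node (nat_lit 0x10f1951) (.leaf (nat_lit 0x10f194f) (nat_lit 2308))
 (.leaf (nat_lit 0x10f1951) (nat_lit 3074))
))))) (.node (nat_lit 0x10f1987) (.node (nat_lit 0x10f195d) (.node (nat_lit 0x10f1957) (.node (nat_lit 0x10f1955) (.leaf (nat_lit 0x10f1953) (nat_lit 2818))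
 (.leaf (nat_lit 0x10f1955) (nat_lit 2820))
) (.node (nat_lit 0x10f1959) (.leaf (nat_lit 0x10f1957) (nat_lit 3076))
 (.node (nat_lit 0x10f195b) (.leaf (nat_lit 0x10f1959) (nat_lit 3076))
 (.leaf (nat_lit 0x10f195b) (nat_lit 3332))
))) (.node (nat_lit 0x10f1981) (.node (nat_lit 0x10f195f) (.leaf (nat_lit 0x10f195d) (nat_lit 3076))
 (.leaf (nat_lit 0x10f195f) (nat_lit 2820))
) (.node (nat_lit 0x10f1983) (.leaf (nat_lit 0x10f1981) (nat_lit 1540))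
 (.node (nat_lit 0x10f1985) (.leaf (nat_lit 0x10f1983) (nat_lit 1796))
 (.leaf (nat_lit 0x10f1985) (nat_lit 2051))
)))) (.node (nat_lit 0x10f1991) (.node (nat_lit 0x10f198b) (.node (nat_lit 0x10f1989) (.leaf (nat_lit 0x10f1987) (nat_lit 2052))
 (.leaf (nat_lit 0x10f1989) (nat_lit 2308))
) (.node (nat_lit 0x10f198d) (.leaf (nat_lit 0x10f198b) (nat_lit 2052))
 (.node (nat_lit 0x10f198f) (.leaf (nat_lit 0x10f198d) (nat_lit 1796))
 (.leaf (nat_lit 0x10f198f) (nat_lit 2052))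
))) (.node (nat_lit 0x10f1997) (.node (nat_lit 0x10f1993) (.leaf (nat_lit 0x10f1991) (nat_lit 3076))
 (.node (nat_lit 0x10f1995) (.leaf (nat_lit 0x10f1993) (nat_lit 2820))
 (.leaf (nat_lit 0x10f1995) (nat_lit 2818))
)) (.node (nat_lit 0x10f1999) (.leaf (nat_lit 0x10f1997) (nat_lit 3074))
 (.node (nat_lit 0x10f199b) (.leaf (nat_lit 0x10f1999) (nat_lit 3074))
 (.leaf (nat_lit 0x10f199b) (nat_lit 3074))
)))))) (.node (nat_lit 0x10f1a87) (.node (nat_lit 0x10f1a51) (.node (nat_lit 0x10f1a47) (.node (nat_lit 0x10f1a41) (.node (nat_lit 0x10f199f) (.leaf (nat_lit 0x10f199d) (nat_lit 3332))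
 (.leaf (nat_lit 0x10f199f) (nat_lit 3076))
) (.node (nat_lit 0x10f1a43) (.leaf (nat_lit 0x10f1a41) (nat_lit 1796))
 (.node (nat_lit 0x10f1a45) (.leaf (nat_lit 0x10f1a43) (nat_lit 2052))
 (.leaf (nat_lit 0x10f1a45) (nat_lit 2308))
))) (.node (nat_lit 0x10f1a4b) (.node (nat_lit 0x10f1a49) (.leaf (nat_lit 0x10f1a47) (nat_lit 2052))
 (.leaf (nat_lit 0x10f1a49) (nat_lit 2820))
) (.node (nat_lit 0x10f1a4d) (.leaf (nat_lit 0x10f1a4b) (nat_lit 2564))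
 (.node (nat_lit 0x10f1a4f) (.leaf (nat_lit 0x10f1a4d) (nat_lit 2564))
 (.leaf (nat_lit 0x10f1a4f) (nat_lit 2820))
)))) (.node (nat_lit 0x10f1a5b) (.node (nat_lit 0x10f1a55) (.node (nat_lit 0x10f1a53) (.leaf (nat_lit 0x10f1a51) (nat_lit 2308))
 (.leaf (nat_lit 0x10f1a53) (nat_lit 2052))
) (.node (nat_lit 0x10f1a57) (.leaf (nat_lit 0x10f1a55) (nat_lit 2308))
 (.node (nat_lit 0x10f1a59) (.leaf (nat_lit 0x10f1a57) (nat_lit 2564))
 (.leaf (nat_lit 0x10f1a59) (nat_lit 2820))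
))) (.node (nat_lit 0x10f1a81) (.node (nat_lit 0x10f1a5d) (.leaf (nat_lit 0x10f1a5b) (nat_lit 3076))
 (.node (nat_lit 0x10f1a5f) (.leaf (nat_lit 0x10f1a5d) (nat_lit 3076))
 (.leaf (nat_lit 0x10f1a5f) (nat_lit 2820))
)) (.node (nat_lit 0x10f1a83) (.leaf (nat_lit 0x10f1a81) (nat_lit 2052))
 (.node (nat_lit 0x10f1a85) (.leaf (nat_lit 0x10f1a83) (nat_lit 2308))
 (.leaf (nat_lit 0x10f1a85) (nat_lit 2564))
))))) (.node (nat_lit 0x10f1a9b) (.node (nat_lit 0x10f1a91) (.node (nat_lit 0x10f1a8b) (.node (nat_lit 0x10f1a89) (.leaf (nat_lit 0x10f1a87) (nat_lit 2308))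
 (.leaf (nat_lit 0x10f1a89) (nat_lit 2820))
) (.node (nat_lit 0x10f1a8d) (.leaf (nat_lit 0x10f1a8b) (nat_lit 2564))
 (.node (nat_lit 0x10f1a8f) (.leaf (nat_lit 0x10f1a8d) (nat_lit 2562))
 (.leaf (nat_lit 0x10f1a8f) (nat_lit 2818))
))) (.node (nat_lit 0x10f1a95) (.node (nat_lit 0x10f1a93) (.leaf (nat_lit 0x10f1a91) (nat_lit 2564))
 (.leaf (nat_lit 0x10f1a93) (nat_lit 2308))
) (.node (nat_lit 0x10f1a97) (.leaf (nat_lit 0x10f1a95) (nat_lit 2308))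
 (.node (nat_lit 0x10f1a99) (.leaf (nat_lit 0x10f1a97) (nat_lit 2564))
 (.leaf (nat_lit 0x10f1a99) (nat_lit 2818))
)))) (.node (nat_lit 0x10f1b45) (.node (nat_lit 0x10f1a9f) (.node (nat_lit 0x10f1a9d) (.leaf (nat_lit 0x10f1a9b) (nat_lit 3074))
 (.leaf (nat_lit 0x10f1a9d) (nat_lit 3076))
) (.node (nat_lit 0x10f1b41) (.leaf (nat_lit 0x10f1a9f) (nat_lit 2820))
 (.node (nat_lit 0x10f1b43) (.leaf (nat_lit 0x10f1b41) (nat_lit 1540))
 (.leaf (nat_lit 0x10f1b43) (nat_lit 1796))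
))) (.node (nat_lit 0x10f1b4b) (.node (nat_lit 0x10f1b47) (.leaf (nat_lit 0x10f1b45) (nat_lit 2052))
 (.node (nat_lit 0x10f1b49) (.leaf (nat_lit 0x10f1b47) (nat_lit 1796))
 (.leaf (nat_lit 0x10f1b49) (nat_lit 3076))
)) (.node (nat_lit 0x10f1b4d) (.leaf (nat_lit 0x10f1b4b) (nat_lit 2820))
 (.node (nat_lit 0x10f1b4f) (.leaf (nat_lit 0x10f1b4d) (nat_lit 2818))
 (.leaf (nat_lit 0x10f1b4f) (nat_lit 2820))
)))))))) (.node (nat_lit 0x10f2199) (.node (nat_lit 0x10f2085) (.node (nat_lit 0x10f1b9b) (.node (nat_lit 0x10f1b85) (.node (nat_lit 0x10f1b5b) (.node (nat_lit 0x10f1b55) (.node (nat_lit 0x10f1b53) (.leaf (nat_lit 0x10f1b51) (nat_lit 3076))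
 (.leaf (nat_lit 0x10f1b53) (nat_lit 3332))
) (.node (nat_lit 0x10f1b57) (.leaf (nat_lit 0x10f1b55) (nat_lit 3076))
 (.node (nat_lit 0x10f1b59) (.leaf (nat_lit 0x10f1b57) (nat_lit 3074))
 (.leaf (nat_lit 0x10f1b59) (nat_lit 2052))
))) (.node (nat_lit 0x10f1b5f) (.node (nat_lit 0x10f1b5d) (.leaf (nat_lit 0x10f1b5b) (nat_lit 1796))
 (.leaf (nat_lit 0x10f1b5d) (nat_lit 2052))
) (.node (nat_lit 0x10f1b81) (.leaf (nat_lit 0x10f1b5f) (nat_lit 2308))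
 (.node (nat_lit 0x10f1b83) (.leaf (nat_lit 0x10f1b81) (nat_lit 1540))
 (.leaf (nat_lit 0x10f1b83) (nat_lit 1796))
)))) (.node (nat_lit 0x10f1b8f) (.node (nat_lit 0x10f1b89) (.node (nat_lit 0x10f1b87) (.leaf (nat_lit 0x10f1b85) (nat_lit 2050))
 (.leaf (nat_lit 0x10f1b87) (nat_lit 2052))
) (.node (nat_lit 0x10f1b8b) (.leaf (nat_lit 0x10f1b89) (nat_lit 3332))
 (.node (nat_lit 0x10f1b8d) (.leaf (nat_lit 0x10f1b8b) (nat_lit 3076))
 (.leaf (nat_lit 0x10f1b8d) (nat_lit 2820))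
))) (.node (nat_lit 0x10f1b95) (.node (nat_lit 0x10f1b91) (.leaf (nat_lit 0x10f1b8f) (nat_lit 2820))
 (.node (nat_lit 0x10f1b93) (.leaf (nat_lit 0x10f1b91) (nat_lit 3076))
 (.leaf (nat_lit 0x10f1b93) (nat_lit 3076))
)) (.node (nat_lit 0x10f1b97) (.leaf (nat_lit 0x10f1b95) (nat_lit 3075))
 (.node (nat_lit 0x10f1b99) (.leaf (nat_lit 0x10f1b97) (nat_lit 3331))
 (.leaf (nat_lit 0x10f1b99) (nat_lit 2308))
))))) (.node (nat_lit 0x10f204f) (.node (nat_lit 0x10f2045) (.node (nat_lit 0x10f1b9f) (.node (nat_lit 0x10f1b9d) (.leaf (nat_lit 0x10f1b9b) (nat_lit 2052))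
 (.leaf (nat_lit 0x10f1b9d) (nat_lit 1796))
) (.node (nat_lit 0x10f2041) (.leaf (nat_lit 0x10f1b9f) (nat_lit 2052))
 (.node (nat_lit 0x10f2043) (.leaf (nat_lit 0x10f2041) (nat_lit 1027))
 (.leaf (nat_lit 0x10f2043) (nat_lit 1283))
))) (.node (nat_lit 0x10f2049) (.node (nat_lit 0x10f2047) (.leaf (nat_lit 0x10f2045) (nat_lit 1795))
 (.leaf (nat_lit 0x10f2047) (nat_lit 1795))
) (.node (nat_lit 0x10f204b) (.leaf (nat_lit 0x10f2049) (nat_lit 2051))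
 (.node (nat_lit 0x10f204d) (.leaf (nat_lit 0x10f204b) (nat_lit 1795))
 (.leaf (nat_lit 0x10f204d) (nat_lit 2307))
)))) (.node (nat_lit 0x10f2059) (.node (nat_lit 0x10f2053) (.node (nat_lit 0x10f2051) (.leaf (nat_lit 0x10f204f) (nat_lit 2307))
 (.leaf (nat_lit 0x10f2051) (nat_lit 3074))
) (.node (nat_lit 0x10f2055) (.leaf (nat_lit 0x10f2053) (nat_lit 3074))
 (.node (nat_lit 0x10f2057) (.leaf (nat_lit 0x10f2055) (nat_lit 2306))
 (.leaf (nat_lit 0x10f2057) (nat_lit 2562))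
))) (.node (nat_lit 0x10f205f) (.node (nat_lit 0x10f205b) (.leaf (nat_lit 0x10f2059) (nat_lit 3075))
 (.node (nat_lit 0x10f205d) (.leaf (nat_lit 0x10f205b) (nat_lit 2819))
 (.leaf (nat_lit 0x10f205d) (nat_lit 2562))
)) (.node (nat_lit 0x10f2081) (.leaf (nat_lit 0x10f205f) (nat_lit 2562))
 (.node (nat_lit 0x10f2083) (.leaf (nat_lit 0x10f2081) (nat_lit 1283))
 (.leaf (nat_lit 0x10f2083) (nat_lit 1539))
)))))) (.node (nat_lit 0x10f214f) (.node (nat_lit 0x10f2099) (.node (nat_lit 0x10f208f) (.node (nat_lit 0x10f2089) (.node (nat_lit 0x10f2087) (.leaf (nat_lit 0x10f2085) (nat_lit 1539))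
 (.leaf (nat_lit 0x10f2087) (nat_lit 1795))
) (.node (nat_lit 0x10f208b) (.leaf (nat_lit 0x10f2089) (nat_lit 2307))
 (.node (nat_lit 0x10f208d) (.leaf (nat_lit 0x10f208b) (nat_lit 2563))
 (.leaf (nat_lit 0x10f208d) (nat_lit 2051))
))) (.node (nat_lit 0x10f2093) (.node (nat_lit 0x10f2091) (.leaf (nat_lit 0x10f208f) (nat_lit 2307))
 (.leaf (nat_lit 0x10f2091) (nat_lit 2818))
) (.node (nat_lit 0x10f2095) (.leaf (nat_lit 0x10f2093) (nat_lit 2562))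
 (.node (nat_lit 0x10f2097) (.leaf (nat_lit 0x10f2095) (nat_lit 3074))
 (.leaf (nat_lit 0x10f2097) (nat_lit 2818))
)))) (.node (nat_lit 0x10f2143) (.node (nat_lit 0x10f209d) (.node (nat_lit 0x10f209b) (.leaf (nat_lit 0x10f2099) (nat_lit 3074))
 (.leaf (nat_lit 0x10f209b) (nat_lit 2818))
) (.node (nat_lit 0x10f209f) (.leaf (nat_lit 0x10f209d) (nat_lit 3075))
 (.node (nat_lit 0x10f2141) (.leaf (nat_lit 0x10f209f) (nat_lit 3075))
 (.leaf (nat_lit 0x10f2141) (nat_lit 1283))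
))) (.node (nat_lit 0x10f2149) (.node (nat_lit 0x10f2145) (.leaf (nat_lit 0x10f2143) (nat_lit 1539))
 (.node (nat_lit 0x10f2147) (.leaf (nat_lit 0x10f2145) (nat_lit 2051))
 (.leaf (nat_lit 0x10f2147) (nat_lit 2051))
)) (.node (nat_lit 0x10f214b) (.leaf (nat_lit 0x10f2149) (nat_lit 1795))
 (.node (nat_lit 0x10f214d) (.leaf (nat_lit 0x10f214b) (nat_lit 1539))
 (.leaf (nat_lit 0x10f214d) (nat_lit 2307))
))))) (.node (nat_lit 0x10f2183) (.node (nat_lit 0x10f2159) (.node (nat_lit 0x10f2153) (.node (nat_lit 0x10f2151) (.leaf (nat_lit 0x10f214f) (nat_lit 2307))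
 (.leaf (nat_lit 0x10f2151) (nat_lit 3331))
) (.node (nat_lit 0x10f2155) (.leaf (nat_lit 0x10f2153) (nat_lit 3329))
 (.node (nat_lit 0x10f2157) (.leaf (nat_lit 0x10f2155) (nat_lit 2561))
 (.leaf (nat_lit 0x10f2157) (nat_lit 2817))
))) (.node (nat_lit 0x10f215d) (.node (nat_lit 0x10f215b) (.leaf (nat_lit 0x10f2159) (nat_lit 3331))
 (.leaf (nat_lit 0x10f215b) (nat_lit 3075))
) (.node (nat_lit 0x10f215f) (.leaf (nat_lit 0x10f215d) (nat_lit 2562))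
 (.node (nat_lit 0x10f2181) (.leaf (nat_lit 0x10f215f) (nat_lit 2818))
 (.leaf (nat_lit 0x10f2181) (nat_lit 1539))
)))) (.node (nat_lit 0x10f218d) (.node (nat_lit 0x10f2187) (.node (nat_lit 0x10f2185) (.leaf (nat_lit 0x10f2183) (nat_lit 1795))
 (.leaf (nat_lit 0x10f2185) (nat_lit 1795))
) (.node (nat_lit 0x10f2189) (.leaf (nat_lit 0x10f2187) (nat_lit 2051))
 (.node (nat_lit 0x10f218b) (.leaf (nat_lit 0x10f2189) (nat_lit 2051))
 (.leaf (nat_lit 0x10f218b) (nat_lit 2307))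
))) (.node (nat_lit 0x10f2193) (.node (nat_lit 0x10f218f) (.leaf (nat_lit 0x10f218d) (nat_lit 1795))
 (.node (nat_lit 0x10f2191) (.leaf (nat_lit 0x10f218f) (nat_lit 2051))
 (.leaf (nat_lit 0x10f2191) (nat_lit 3073))
)) (.node (nat_lit 0x10f2195) (.leaf (nat_lit 0x10f2193) (nat_lit 2817))
 (.node (nat_lit 0x10f2197) (.leaf (nat_lit 0x10f2195) (nat_lit 3074))
 (.leaf (nat_lit 0x10f2197) (nat_lit 3074))
))))))) (.node (nat_lit 0x10f234d) (.node (nat_lit 0x10f2283) (.node (nat_lit 0x10f224d) (.node (nat_lit 0x10f2243) (.node (nat_lit 0x10f219d) (.node (nat_lit 0x10f219b) (.leaf (nat_lit 0x10f2199) (nat_lit 3074))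
 (.leaf (nat_lit 0x10f219b) (nat_lit 2818))
) (.node (nat_lit 0x10f219f) (.leaf (nat_lit 0x10f219d) (nat_lit 3330))
 (.node (nat_lit 0x10f2241) (.leaf (nat_lit 0x10f219f) (nat_lit 3074))
 (.leaf (nat_lit 0x10f2241) (nat_lit 2050))
))) (.node (nat_lit 0x10f2247) (.node (nat_lit 0x10f2245) (.leaf (nat_lit 0x10f2243) (nat_lit 2306))
 (.leaf (nat_lit 0x10f2245) (nat_lit 2306))
) (.node (nat_lit 0x10f2249) (.leaf (nat_lit 0x10f2247) (nat_lit 2562))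
 (.node (nat_lit 0x10f224b) (.leaf (nat_lit 0x10f2249) (nat_lit 2821))
 (.leaf (nat_lit 0x10f224b) (nat_lit 3077))
)))) (.node (nat_lit 0x10f2257) (.node (nat_lit 0x10f2251) (.node (nat_lit 0x10f224f) (.leaf (nat_lit 0x10f224d) (nat_lit 2817))
 (.leaf (nat_lit 0x10f224f) (nat_lit 3073))
) (.node (nat_lit 0x10f2253) (.leaf (nat_lit 0x10f2251) (nat_lit 2562))
 (.node (nat_lit 0x10f2255) (.leaf (nat_lit 0x10f2253) (nat_lit 2306))
 (.leaf (nat_lit 0x10f2255) (nat_lit 2818))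
))) (.node (nat_lit 0x10f225d) (.node (nat_lit 0x10f2259) (.leaf (nat_lit 0x10f2257) (nat_lit 2562))
 (.node (nat_lit 0x10f225b) (.leaf (nat_lit 0x10f2259) (nat_lit 3075))
 (.leaf (nat_lit 0x10f225b) (nat_lit 2819))
)) (.node (nat_lit 0x10f225f) (.leaf (nat_lit 0x10f225d) (nat_lit 3075))
 (.node (nat_lit 0x10f2281) (.leaf (nat_lit 0x10f225f) (nat_lit 3072))
 (.leaf (nat_lit 0x10f2281) (nat_lit 1794))
))))) (.node (nat_lit 0x10f2297) (.node (nat_lit 0x10f228d) (.node (nat_lit 0x10f2287) (.node (nat_lit 0x10f2285) (.leaf (nat_lit 0x10f2283) (nat_lit 2050))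
 (.leaf (nat_lit 0x10f2285) (nat_lit 2562))
) (.node (nat_lit 0x10f2289) (.leaf (nat_lit 0x10f2287) (nat_lit 2562))
 (.node (nat_lit 0x10f228b) (.leaf (nat_lit 0x10f2289) (nat_lit 2818))
 (.leaf (nat_lit 0x10f228b) (nat_lit 2562))
))) (.node (nat_lit 0x10f2291) (.node (nat_lit 0x10f228f) (.leaf (nat_lit 0x10f228d) (nat_lit 2818))
 (.leaf (nat_lit 0x10f228f) (nat_lit 2818))
) (.node (nat_lit 0x10f2293) (.leaf (nat_lit 0x10f2291) (nat_lit 2818))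
 (.node (nat_lit 0x10f2295) (.leaf (nat_lit 0x10f2293) (nat_lit 2818))
 (.leaf (nat_lit 0x10f2295) (nat_lit 2050))
)))) (.node (nat_lit 0x10f2341) (.node (nat_lit 0x10f229b) (.node (nat_lit 0x10f2299) (.leaf (nat_lit 0x10f2297) (nat_lit 2306))
 (.leaf (nat_lit 0x10f2299) (nat_lit 3074))
) (.node (nat_lit 0x10f229d) (.leaf (nat_lit 0x10f229b) (nat_lit 3075))
 (.node (nat_lit 0x10f229f) (.leaf (nat_lit 0x10f229d) (nat_lit 2561))
 (.leaf (nat_lit 0x10f229f) (nat_lit 2817))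
))) (.node (nat_lit 0x10f2347) (.node (nat_lit 0x10f2343) (.leaf (nat_lit 0x10f2341) (nat_lit 2307))
 (.node (nat_lit 0x10f2345) (.leaf (nat_lit 0x10f2343) (nat_lit 2563))
 (.leaf (nat_lit 0x10f2345) (nat_lit 2562))
)) (.node (nat_lit 0x10f2349) (.leaf (nat_lit 0x10f2347) (nat_lit 2563))
 (.node (nat_lit 0x10f234b) (.leaf (nat_lit 0x10f2349) (nat_lit 2818))
 (.leaf (nat_lit 0x10f234b) (nat_lit 3074))
)))))) (.node (nat_lit 0x10f2397) (.node (nat_lit 0x10f2381) (.node (nat_lit 0x10f2357) (.node (nat_lit 0x10f2351) (.node (nat_lit 0x10f234f) (.leaf (nat_lit 0x10f234d) (nat_lit 2562))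
 (.leaf (nat_lit 0x10f234f) (nat_lit 2818))
) (.node (nat_lit 0x10f2353) (.leaf (nat_lit 0x10f2351) (nat_lit 2817))
 (.node (nat_lit 0x10f2355) (.leaf (nat_lit 0x10f2353) (nat_lit 2561))
 (.leaf (nat_lit 0x10f2355) (nat_lit 3074))
))) (.node (nat_lit 0x10f235b) (.node (nat_lit 0x10f2359) (.leaf (nat_lit 0x10f2357) (nat_lit 2818))
 (.leaf (nat_lit 0x10f2359) (nat_lit 2819))
) (.node (nat_lit 0x10f235d) (.leaf (nat_lit 0x10f235b) (nat_lit 2563))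
 (.node (nat_lit 0x10f235f) (.leaf (nat_lit 0x10f235d) (nat_lit 2819))
 (.leaf (nat_lit 0x10f235f) (nat_lit 2818))
)))) (.node (nat_lit 0x10f238b) (.node (nat_lit 0x10f2385) (.node (nat_lit 0x10f2383) (.leaf (nat_lit 0x10f2381) (nat_lit 2050))
 (.leaf (nat_lit 0x10f2383) (nat_lit 2306))
) (.node (nat_lit 0x10f2387) (.leaf (nat_lit 0x10f2385) (nat_lit 2818))
 (.node (nat_lit 0x10f2389) (.leaf (nat_lit 0x10f2387) (nat_lit 2818))
 (.leaf (nat_lit 0x10f2389) (nat_lit 2562))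
))) (.node (nat_lit 0x10f2391) (.node (nat_lit 0x10f238d) (.leaf (nat_lit 0x10f238b) (nat_lit 2306))
 (.node (nat_lit 0x10f238f) (.leaf (nat_lit 0x10f238d) (nat_lit 3074))
 (.leaf (nat_lit 0x10f238f) (nat_lit 3073))
)) (.node (nat_lit 0x10f2393) (.leaf (nat_lit 0x10f2391) (nat_lit 3073))
 (.node (nat_lit 0x10f2395) (.leaf (nat_lit 0x10f2393) (nat_lit 3073))
 (.leaf (nat_lit 0x10f2395) (nat_lit 2305))
))))) (.node (nat_lit 0x10f284b) (.node (nat_lit 0x10f2841) (.node (nat_lit 0x10f239b) (.node (nat_lit 0x10f2399) (.leaf (nat_lit 0x10f2397) (nat_lit 2561))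
 (.leaf (nat_lit 0x10f2399) (nat_lit 3075))
) (.node (nat_lit 0x10f239d) (.leaf (nat_lit 0x10f239b) (nat_lit 2819))
 (.node (nat_lit 0x10f239f) (.leaf (nat_lit 0x10f239d) (nat_lit 2306))
 (.leaf (nat_lit 0x10f239f) (nat_lit 2562))
))) (.node (nat_lit 0x10f2845) (.node (nat_lit 0x10f2843) (.leaf (nat_lit 0x10f2841) (nat_lit 1285))
 (.leaf (nat_lit 0x10f2843) (nat_lit 1541))
) (.node (nat_lit 0x10f2847) (.leaf (nat_lit 0x10f2845) (nat_lit 2053))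
 (.node (nat_lit 0x10f2849) (.leaf (nat_lit 0x10f2847) (nat_lit 2053))
 (.leaf (nat_lit 0x10f2849) (nat_lit 2049))
)))) (.node (nat_lit 0x10f2855) (.node (nat_lit 0x10f284f) (.node (nat_lit 0x10f284d) (.leaf (nat_lit 0x10f284b) (nat_lit 2053))
 (.leaf (nat_lit 0x10f284d) (nat_lit 2308))
) (.node (nat_lit 0x10f2851) (.leaf (nat_lit 0x10f284f) (nat_lit 2308))
 (.node (nat_lit 0x10f2853) (.leaf (nat_lit 0x10f2851) (nat_lit 3330))
 (.leaf (nat_lit 0x10f2853) (nat_lit 3333))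
))) (.node (nat_lit 0x10f285b) (.node (nat_lit 0x10f2857) (.leaf (nat_lit 0x10f2855) (nat_lit 2565))
 (.node (nat_lit 0x10f2859) (.leaf (nat_lit 0x10f2857) (nat_lit 2562))
 (.leaf (nat_lit 0x10f2859) (nat_lit 3074))
)) (.node (nat_lit 0x10f285d) (.leaf (nat_lit 0x10f285b) (nat_lit 3074))
 (.node (nat_lit 0x10f285f) (.leaf (nat_lit 0x10f285d) (nat_lit 2564))
 (.leaf (nat_lit 0x10f285f) (nat_lit 2564))
))))))))) (.node (nat_lit 0x10f3151) (.node (nat_lit 0x10f2b09) (.node (nat_lit 0x10f2995) (.node (nat_lit 0x10f290b) (.node (nat_lit 0x10f28d5) (.node (nat_lit 0x10f28cb) (.node (nat_lit 0x10f28c5) (.node (nat_lit 0x10f28c3) (.leaf (nat_lit 0x10f28c1) (nat_lit 1540))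
 (.leaf (nat_lit 0x10f28c3) (nat_lit 1796))
) (.node (nat_lit 0x10f28c7) (.leaf (nat_lit 0x10f28c5) (nat_lit 2052))
 (.node (nat_lit 0x10f28c9) (.leaf (nat_lit 0x10f28c7) (nat_lit 1796))
 (.leaf (nat_lit 0x10f28c9) (nat_lit 2564))
))) (.node (nat_lit 0x10f28cf) (.node (nat_lit 0x10f28cd) (.leaf (nat_lit 0x10f28cb) (nat_lit 2308))
 (.leaf (nat_lit 0x10f28cd) (nat_lit 2308))
) (.node (nat_lit 0x10f28d1) (.leaf (nat_lit 0x10f28cf) (nat_lit 2564))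
 (.node (nat_lit 0x10f28d3) (.leaf (nat_lit 0x10f28d1) (nat_lit 3076))
 (.leaf (nat_lit 0x10f28d3) (nat_lit 2820))
)))) (.node (nat_lit 0x10f28df) (.node (nat_lit 0x10f28d9) (.node (nat_lit 0x10f28d7) (.leaf (nat_lit 0x10f28d5) (nat_lit 3076))
 (.leaf (nat_lit 0x10f28d7) (nat_lit 3332))
) (.node (nat_lit 0x10f28db) (.leaf (nat_lit 0x10f28d9) (nat_lit 2820))
 (.node (nat_lit 0x10f28dd) (.leaf (nat_lit 0x10f28db) (nat_lit 3076))
 (.leaf (nat_lit 0x10f28dd) (nat_lit 3076))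
))) (.node (nat_lit 0x10f2905) (.node (nat_lit 0x10f2901) (.leaf (nat_lit 0x10f28df) (nat_lit 2820))
 (.node (nat_lit 0x10f2903) (.leaf (nat_lit 0x10f2901) (nat_lit 1537))
 (.leaf (nat_lit 0x10f2903) (nat_lit 1793))
)) (.node (nat_lit 0x10f2907) (.leaf (nat_lit 0x10f2905) (nat_lit 2305))
 (.node (nat_lit 0x10f2909) (.leaf (nat_lit 0x10f2907) (nat_lit 2305))
 (.leaf (nat_lit 0x10f2909) (nat_lit 1792))
))))) (.node (nat_lit 0x10f291f) (.node (nat_lit 0x10f2915) (.node (nat_lit 0x10f290f) (.node (nat_lit 0x10f290d) (.leaf (nat_lit 0x10f290b) (nat_lit 2048))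
 (.leaf (nat_lit 0x10f290d) (nat_lit 2564))
) (.node (nat_lit 0x10f2911) (.leaf (nat_lit 0x10f290f) (nat_lit 2560))
 (.node (nat_lit 0x10f2913) (.leaf (nat_lit 0x10f2911) (nat_lit 3585))
 (.leaf (nat_lit 0x10f2913) (nat_lit 3585))
))) (.node (nat_lit 0x10f2919) (.node (nat_lit 0x10f2917) (.leaf (nat_lit 0x10f2915) (nat_lit 2817))
 (.leaf (nat_lit 0x10f2917) (nat_lit 2817))
) (.node (nat_lit 0x10f291b) (.leaf (nat_lit 0x10f2919) (nat_lit 3329))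
 (.node (nat_lit 0x10f291d) (.leaf (nat_lit 0x10f291b) (nat_lit 3329))
 (.leaf (nat_lit 0x10f291d) (nat_lit 2820))
)))) (.node (nat_lit 0x10f2989) (.node (nat_lit 0x10f2983) (.node (nat_lit 0x10f2981) (.leaf (nat_lit 0x10f291f) (nat_lit 2820))
 (.leaf (nat_lit 0x10f2981) (nat_lit 1796))
) (.node (nat_lit 0x10f2985) (.leaf (nat_lit 0x10f2983) (nat_lit 2052))
 (.node (nat_lit 0x10f2987) (.leaf (nat_lit 0x10f2985) (nat_lit 2308))
 (.leaf (nat_lit 0x10f2987) (nat_lit 2052))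
))) (.node (nat_lit 0x10f298f) (.node (nat_lit 0x10f298b) (.leaf (nat_lit 0x10f2989) (nat_lit 2564))
 (.node (nat_lit 0x10f298d) (.leaf (nat_lit 0x10f298b) (nat_lit 2308))
 (.leaf (nat_lit 0x10f298d) (nat_lit 2052))
)) (.node (nat_lit 0x10f2991) (.leaf (nat_lit 0x10f298f) (nat_lit 2308))
 (.node (nat_lit 0x10f2993) (.leaf (nat_lit 0x10f2991) (nat_lit 3332))
 (.leaf (nat_lit 0x10f2993) (nat_lit 3076))
)))))) (.node (nat_lit 0x10f2a5f) (.node (nat_lit 0x10f2a49) (.node (nat_lit 0x10f299f) (.node (nat_lit 0x10f2999) (.node (nat_lit 0x10f2997) (.leaf (nat_lit 0x10f2995) (nat_lit 3077))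
 (.leaf (nat_lit 0x10f2997) (nat_lit 3333))
) (.node (nat_lit 0x10f299b) (.leaf (nat_lit 0x10f2999) (nat_lit 3076))
 (.node (nat_lit 0x10f299d) (.leaf (nat_lit 0x10f299b) (nat_lit 3332))
 (.leaf (nat_lit 0x10f299d) (nat_lit 3332))
))) (.node (nat_lit 0x10f2a43) (.node (nat_lit 0x10f2a41) (.leaf (nat_lit 0x10f299f) (nat_lit 3076))
 (.leaf (nat_lit 0x10f2a41) (nat_lit 2308))
) (.node (nat_lit 0x10f2a45) (.leaf (nat_lit 0x10f2a43) (nat_lit 2564))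
 (.node (nat_lit 0x10f2a47) (.leaf (nat_lit 0x10f2a45) (nat_lit 2820))
 (.leaf (nat_lit 0x10f2a47) (nat_lit 2564))
)))) (.node (nat_lit 0x10f2a53) (.node (nat_lit 0x10f2a4d) (.node (nat_lit 0x10f2a4b) (.leaf (nat_lit 0x10f2a49) (nat_lit 2820))
 (.leaf (nat_lit 0x10f2a4b) (nat_lit 2564))
) (.node (nat_lit 0x10f2a4f) (.leaf (nat_lit 0x10f2a4d) (nat_lit 2820))
 (.node (nat_lit 0x10f2a51) (.leaf (nat_lit 0x10f2a4f) (nat_lit 3076))
 (.leaf (nat_lit 0x10f2a51) (nat_lit 2820))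
))) (.node (nat_lit 0x10f2a59) (.node (nat_lit 0x10f2a55) (.leaf (nat_lit 0x10f2a53) (nat_lit 2564))
 (.node (nat_lit 0x10f2a57) (.leaf (nat_lit 0x10f2a55) (nat_lit 2820))
 (.leaf (nat_lit 0x10f2a57) (nat_lit 3076))
)) (.node (nat_lit 0x10f2a5b) (.leaf (nat_lit 0x10f2a59) (nat_lit 2820))
 (.node (nat_lit 0x10f2a5d) (.leaf (nat_lit 0x10f2a5b) (nat_lit 3076))
 (.leaf (nat_lit 0x10f2a5d) (nat_lit 3332))
))))) (.node (nat_lit 0x10f2ad3) (.node (nat_lit 0x10f2ac9) (.node (nat_lit 0x10f2ac3) (.node (nat_lit 0x10f2ac1) (.leaf (nat_lit 0x10f2a5f) (nat_lit 3076))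
 (.leaf (nat_lit 0x10f2ac1) (nat_lit 2050))
) (.node (nat_lit 0x10f2ac5) (.leaf (nat_lit 0x10f2ac3) (nat_lit 2306))
 (.node (nat_lit 0x10f2ac7) (.leaf (nat_lit 0x10f2ac5) (nat_lit 2818))
 (.leaf (nat_lit 0x10f2ac7) (nat_lit 2818))
))) (.node (nat_lit 0x10f2acd) (.node (nat_lit 0x10f2acb) (.leaf (nat_lit 0x10f2ac9) (nat_lit 2820))
 (.leaf (nat_lit 0x10f2acb) (nat_lit 2564))
) (.node (nat_lit 0x10f2acf) (.leaf (nat_lit 0x10f2acd) (nat_lit 3076))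
 (.node (nat_lit 0x10f2ad1) (.leaf (nat_lit 0x10f2acf) (nat_lit 3076))
 (.leaf (nat_lit 0x10f2ad1) (nat_lit 3074))
)))) (.node (nat_lit 0x10f2add) (.node (nat_lit 0x10f2ad7) (.node (nat_lit 0x10f2ad5) (.leaf (nat_lit 0x10f2ad3) (nat_lit 3074))
 (.leaf (nat_lit 0x10f2ad5) (nat_lit 2562))
) (.node (nat_lit 0x10f2ad9) (.leaf (nat_lit 0x10f2ad7) (nat_lit 2306))
 (.node (nat_lit 0x10f2adb) (.leaf (nat_lit 0x10f2ad9) (nat_lit 3332))
 (.leaf (nat_lit 0x10f2adb) (nat_lit 3332))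
))) (.node (nat_lit 0x10f2b03) (.node (nat_lit 0x10f2adf) (.leaf (nat_lit 0x10f2add) (nat_lit 2564))
 (.node (nat_lit 0x10f2b01) (.leaf (nat_lit 0x10f2adf) (nat_lit 2820))
 (.leaf (nat_lit 0x10f2b01) (nat_lit 2308))
)) (.node (nat_lit 0x10f2b05) (.leaf (nat_lit 0x10f2b03) (nat_lit 2564))
 (.node (nat_lit 0x10f2b07) (.leaf (nat_lit 0x10f2b05) (nat_lit 2820))
 (.leaf (nat_lit 0x10f2b07) (nat_lit 2564))
))))))) (.node (nat_lit 0x10f309d) (.node (nat_lit 0x10f2b93) (.node (nat_lit 0x10f2b1d) (.node (nat_lit 0x10f2b13) (.node (nat_lit 0x10f2b0d) (.node (nat_lit 0x10f2b0b) (.leaf (nat_lit 0x10f2b09) (nat_lit 3076))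
 (.leaf (nat_lit 0x10f2b0b) (nat_lit 2820))
) (.node (nat_lit 0x10f2b0f) (.leaf (nat_lit 0x10f2b0d) (nat_lit 2818))
 (.node (nat_lit 0x10f2b11) (.leaf (nat_lit 0x10f2b0f) (nat_lit 3074))
 (.leaf (nat_lit 0x10f2b11) (nat_lit 3076))
))) (.node (nat_lit 0x10f2b17) (.node (nat_lit 0x10f2b15) (.leaf (nat_lit 0x10f2b13) (nat_lit 2820))
 (.leaf (nat_lit 0x10f2b15) (nat_lit 3076))
) (.node (nat_lit 0x10f2b19) (.leaf (nat_lit 0x10f2b17) (nat_lit 3332))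
 (.node (nat_lit 0x10f2b1b) (.leaf (nat_lit 0x10f2b19) (nat_lit 2564))
 (.leaf (nat_lit 0x10f2b1b) (nat_lit 2820))
)))) (.node (nat_lit 0x10f2b87) (.node (nat_lit 0x10f2b81) (.node (nat_lit 0x10f2b1f) (.leaf (nat_lit 0x10f2b1d) (nat_lit 3076))
 (.leaf (nat_lit 0x10f2b1f) (nat_lit 2820))
) (.node (nat_lit 0x10f2b83) (.leaf (nat_lit 0x10f2b81) (nat_lit 2052))
 (.node (nat_lit 0x10f2b85) (.leaf (nat_lit 0x10f2b83) (nat_lit 2308))
 (.leaf (nat_lit 0x10f2b85) (nat_lit 2821))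
))) (.node (nat_lit 0x10f2b8d) (.node (nat_lit 0x10f2b89) (.leaf (nat_lit 0x10f2b87) (nat_lit 2820))
 (.node (nat_lit 0x10f2b8b) (.leaf (nat_lit 0x10f2b89) (nat_lit 2565))
 (.leaf (nat_lit 0x10f2b8b) (nat_lit 2309))
)) (.node (nat_lit 0x10f2b8f) (.leaf (nat_lit 0x10f2b8d) (nat_lit 3077))
 (.node (nat_lit 0x10f2b91) (.leaf (nat_lit 0x10f2b8f) (nat_lit 3076))
 (.leaf (nat_lit 0x10f2b91) (nat_lit 3333))
))))) (.node (nat_lit 0x10f3087) (.node (nat_lit 0x10f2b9d) (.node (nat_lit 0x10f2b97) (.node (nat_lit 0x10f2b95) (.leaf (nat_lit 0x10f2b93) (nat_lit 3332))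
 (.leaf (nat_lit 0x10f2b95) (nat_lit 2821))
) (.node (nat_lit 0x10f2b99) (.leaf (nat_lit 0x10f2b97) (nat_lit 2565))
 (.node (nat_lit 0x10f2b9b) (.leaf (nat_lit 0x10f2b99) (nat_lit 3077))
 (.leaf (nat_lit 0x10f2b9b) (nat_lit 3076))
))) (.node (nat_lit 0x10f3081) (.node (nat_lit 0x10f2b9f) (.leaf (nat_lit 0x10f2b9d) (nat_lit 2308))
 (.leaf (nat_lit 0x10f2b9f) (nat_lit 2564))
) (.node (nat_lit 0x10f3083) (.leaf (nat_lit 0x10f3081) (nat_lit 1541))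
 (.node (nat_lit 0x10f3085) (.leaf (nat_lit 0x10f3083) (nat_lit 1797))
 (.leaf (nat_lit 0x10f3085) (nat_lit 1797))
)))) (.node (nat_lit 0x10f3091) (.node (nat_lit 0x10f308b) (.node (nat_lit 0x10f3089) (.leaf (nat_lit 0x10f3087) (nat_lit 2053))
 (.leaf (nat_lit 0x10f3089) (nat_lit 2305))
) (.node (nat_lit 0x10f308d) (.leaf (nat_lit 0x10f308b) (nat_lit 2561))
 (.node (nat_lit 0x10f308f) (.leaf (nat_lit 0x10f308d) (nat_lit 2309))
 (.leaf (nat_lit 0x10f308f) (nat_lit 2565))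
))) (.node (nat_lit 0x10f3097) (.node (nat_lit 0x10f3093) (.leaf (nat_lit 0x10f3091) (nat_lit 3077))
 (.node (nat_lit 0x10f3095) (.leaf (nat_lit 0x10f3093) (nat_lit 2821))
 (.leaf (nat_lit 0x10f3095) (nat_lit 3074))
)) (.node (nat_lit 0x10f3099) (.leaf (nat_lit 0x10f3097) (nat_lit 2818))
 (.node (nat_lit 0x10f309b) (.leaf (nat_lit 0x10f3099) (nat_lit 3330))
 (.leaf (nat_lit 0x10f309b) (nat_lit 3074))
)))))) (.node (nat_lit 0x10f3107) (.node (nat_lit 0x10f30d1) (.node (nat_lit 0x10f30c7) (.node (nat_lit 0x10f30c1) (.node (nat_lit 0x10f309f) (.leaf (nat_lit 0x10f309d) (nat_lit 3332))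
 (.leaf (nat_lit 0x10f309f) (nat_lit 3076))
) (.node (nat_lit 0x10f30c3) (.leaf (nat_lit 0x10f30c1) (nat_lit 1539))
 (.node (nat_lit 0x10f30c5) (.leaf (nat_lit 0x10f30c3) (nat_lit 1795))
 (.leaf (nat_lit 0x10f30c5) (nat_lit 2051))
))) (.node (nat_lit 0x10f30cb) (.node (nat_lit 0x10f30c9) (.leaf (nat_lit 0x10f30c7) (nat_lit 1795))
 (.leaf (nat_lit 0x10f30c9) (nat_lit 2561))
) (.node (nat_lit 0x10f30cd) (.leaf (nat_lit 0x10f30cb) (nat_lit 2305))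
 (.node (nat_lit 0x10f30cf) (.leaf (nat_lit 0x10f30cd) (nat_lit 2561))
 (.leaf (nat_lit 0x10f30cf) (nat_lit 2817))
)))) (.node (nat_lit 0x10f30db) (.node (nat_lit 0x10f30d5) (.node (nat_lit 0x10f30d3) (.leaf (nat_lit 0x10f30d1) (nat_lit 3074))
 (.leaf (nat_lit 0x10f30d3) (nat_lit 2818))
) (.node (nat_lit 0x10f30d7) (.leaf (nat_lit 0x10f30d5) (nat_lit 2818))
 (.node (nat_lit 0x10f30d9) (.leaf (nat_lit 0x10f30d7) (nat_lit 3074))
 (.leaf (nat_lit 0x10f30d9) (nat_lit 3077))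
))) (.node (nat_lit 0x10f3101) (.node (nat_lit 0x10f30dd) (.leaf (nat_lit 0x10f30db) (nat_lit 3333))
 (.node (nat_lit 0x10f30df) (.leaf (nat_lit 0x10f30dd) (nat_lit 3333))
 (.leaf (nat_lit 0x10f30df) (nat_lit 3077))
)) (.node (nat_lit 0x10f3103) (.leaf (nat_lit 0x10f3101) (nat_lit 1793))
 (.node (nat_lit 0x10f3105) (.leaf (nat_lit 0x10f3103) (nat_lit 2049))
 (.leaf (nat_lit 0x10f3105) (nat_lit 2049))
))))) (.node (nat_lit 0x10f311b) (.node (nat_lit 0x10f3111) (.node (nat_lit 0x10f310b) (.node (nat_lit 0x10f3109) (.leaf (nat_lit 0x10f3107) (nat_lit 2305))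
 (.leaf (nat_lit 0x10f3109) (nat_lit 2048))
) (.node (nat_lit 0x10f310d) (.leaf (nat_lit 0x10f310b) (nat_lit 2304))
 (.node (nat_lit 0x10f310f) (.leaf (nat_lit 0x10f310d) (nat_lit 2304))
 (.leaf (nat_lit 0x10f310f) (nat_lit 2560))
))) (.node (nat_lit 0x10f3115) (.node (nat_lit 0x10f3113) (.leaf (nat_lit 0x10f3111) (nat_lit 3329))
 (.leaf (nat_lit 0x10f3113) (nat_lit 3073))
) (.node (nat_lit 0x10f3117) (.leaf (nat_lit 0x10f3115) (nat_lit 3329))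
 (.node (nat_lit 0x10f3119) (.leaf (nat_lit 0x10f3117) (nat_lit 3073))
 (.leaf (nat_lit 0x10f3119) (nat_lit 3330))
)))) (.node (nat_lit 0x10f3145) (.node (nat_lit 0x10f311f) (.node (nat_lit 0x10f311d) (.leaf (nat_lit 0x10f311b) (nat_lit 3074))
 (.leaf (nat_lit 0x10f311d) (nat_lit 3586))
) (.node (nat_lit 0x10f3141) (.leaf (nat_lit 0x10f311f) (nat_lit 3330))
 (.node (nat_lit 0x10f3143) (.leaf (nat_lit 0x10f3141) (nat_lit 1797))
 (.leaf (nat_lit 0x10f3143) (nat_lit 2053))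
))) (.node (nat_lit 0x10f314b) (.node (nat_lit 0x10f3147) (.leaf (nat_lit 0x10f3145) (nat_lit 2309))
 (.node (nat_lit 0x10f3149) (.leaf (nat_lit 0x10f3147) (nat_lit 2053))
 (.leaf (nat_lit 0x10f3149) (nat_lit 2309))
)) (.node (nat_lit 0x10f314d) (.leaf (nat_lit 0x10f314b) (nat_lit 2053))
 (.node (nat_lit 0x10f314f) (.leaf (nat_lit 0x10f314d) (nat_lit 2309))
 (.leaf (nat_lit 0x10f314f) (nat_lit 2565))
)))))))) (.node (nat_lit 0x10f4899) (.node (nat_lit 0x10f3305) (.node (nat_lit 0x10f329b) (.node (nat_lit 0x10f3285) (.node (nat_lit 0x10f315b) (.node (nat_lit 0x10f3155) (.node (nat_lit 0x10f3153) (.leaf (nat_lit 0x10f3151) (nat_lit 3333))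
 (.leaf (nat_lit 0x10f3153) (nat_lit 3077))
) (.node (nat_lit 0x10f3157) (.leaf (nat_lit 0x10f3155) (nat_lit 3077))
 (.node (nat_lit 0x10f3159) (.leaf (nat_lit 0x10f3157) (nat_lit 3333))
 (.leaf (nat_lit 0x10f3159) (nat_lit 3074))
))) (.node (nat_lit 0x10f315f) (.node (nat_lit 0x10f315d) (.leaf (nat_lit 0x10f315b) (nat_lit 3330))
 (.leaf (nat_lit 0x10f315d) (nat_lit 3333))
) (.node (nat_lit 0x10f3281) (.leaf (nat_lit 0x10f315f) (nat_lit 3077))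
 (.node (nat_lit 0x10f3283) (.leaf (nat_lit 0x10f3281) (nat_lit 2306))
 (.leaf (nat_lit 0x10f3283) (nat_lit 2562))
)))) (.node (nat_lit 0x10f328f) (.node (nat_lit 0x10f3289) (.node (nat_lit 0x10f3287) (.leaf (nat_lit 0x10f3285) (nat_lit 2818))
 (.leaf (nat_lit 0x10f3287) (nat_lit 2562))
) (.node (nat_lit 0x10f328b) (.leaf (nat_lit 0x10f3289) (nat_lit 3077))
 (.node (nat_lit 0x10f328d) (.leaf (nat_lit 0x10f328b) (nat_lit 2821))
 (.leaf (nat_lit 0x10f328d) (nat_lit 2565))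
))) (.node (nat_lit 0x10f3295) (.node (nat_lit 0x10f3291) (.leaf (nat_lit 0x10f328f) (nat_lit 2821))
 (.node (nat_lit 0x10f3293) (.leaf (nat_lit 0x10f3291) (nat_lit 3074))
 (.leaf (nat_lit 0x10f3293) (nat_lit 2818))
)) (.node (nat_lit 0x10f3297) (.leaf (nat_lit 0x10f3295) (nat_lit 2562))
 (.node (nat_lit 0x10f3299) (.leaf (nat_lit 0x10f3297) (nat_lit 2818))
 (.leaf (nat_lit 0x10f3299) (nat_lit 2821))
))))) (.node (nat_lit 0x10f32cf) (.node (nat_lit 0x10f32c5) (.node (nat_lit 0x10f329f) (.node (nat_lit 0x10f329d) (.leaf (nat_lit 0x10f329b) (nat_lit 3077))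
 (.leaf (nat_lit 0x10f329d) (nat_lit 3333))
) (.node (nat_lit 0x10f32c1) (.leaf (nat_lit 0x10f329f) (nat_lit 3077))
 (.node (nat_lit 0x10f32c3) (.leaf (nat_lit 0x10f32c1) (nat_lit 2307))
 (.leaf (nat_lit 0x10f32c3) (nat_lit 2563))
))) (.node (nat_lit 0x10f32c9) (.node (nat_lit 0x10f32c7) (.leaf (nat_lit 0x10f32c5) (nat_lit 2562))
 (.leaf (nat_lit 0x10f32c7) (nat_lit 2818))
) (.node (nat_lit 0x10f32cb) (.leaf (nat_lit 0x10f32c9) (nat_lit 3073))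
 (.node (nat_lit 0x10f32cd) (.leaf (nat_lit 0x10f32cb) (nat_lit 3329))
 (.leaf (nat_lit 0x10f32cd) (nat_lit 2821))
)))) (.node (nat_lit 0x10f32d9) (.node (nat_lit 0x10f32d3) (.node (nat_lit 0x10f32d1) (.leaf (nat_lit 0x10f32cf) (nat_lit 3077))
 (.leaf (nat_lit 0x10f32d1) (nat_lit 3074))
) (.node (nat_lit 0x10f32d5) (.leaf (nat_lit 0x10f32d3) (nat_lit 2818))
 (.node (nat_lit 0x10f32d7) (.leaf (nat_lit 0x10f32d5) (nat_lit 2819))
 (.leaf (nat_lit 0x10f32d7) (nat_lit 2563))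
))) (.node (nat_lit 0x10f32df) (.node (nat_lit 0x10f32db) (.leaf (nat_lit 0x10f32d9) (nat_lit 3073))
 (.node (nat_lit 0x10f32dd) (.leaf (nat_lit 0x10f32db) (nat_lit 2817))
 (.leaf (nat_lit 0x10f32dd) (nat_lit 3329))
)) (.node (nat_lit 0x10f3301) (.leaf (nat_lit 0x10f32df) (nat_lit 3073))
 (.node (nat_lit 0x10f3303) (.leaf (nat_lit 0x10f3301) (nat_lit 2562))
 (.leaf (nat_lit 0x10f3303) (nat_lit 2818))
)))))) (.node (nat_lit 0x10f334f) (.node (nat_lit 0x10f3319) (.node (nat_lit 0x10f330f) (.node (nat_lit 0x10f3309) (.node (nat_lit 0x10f3307) (.leaf (nat_lit 0x10f3305) (nat_lit 3074))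
 (.leaf (nat_lit 0x10f3307) (nat_lit 2818))
) (.node (nat_lit 0x10f330b) (.leaf (nat_lit 0x10f3309) (nat_lit 3074))
 (.node (nat_lit 0x10f330d) (.leaf (nat_lit 0x10f330b) (nat_lit 2818))
 (.leaf (nat_lit 0x10f330d) (nat_lit 2821))
))) (.node (nat_lit 0x10f3313) (.node (nat_lit 0x10f3311) (.leaf (nat_lit 0x10f330f) (nat_lit 3077))
 (.leaf (nat_lit 0x10f3311) (nat_lit 3329))
) (.node (nat_lit 0x10f3315) (.leaf (nat_lit 0x10f3313) (nat_lit 3073))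
 (.node (nat_lit 0x10f3317) (.leaf (nat_lit 0x10f3315) (nat_lit 2817))
 (.leaf (nat_lit 0x10f3317) (nat_lit 3073))
)))) (.node (nat_lit 0x10f3343) (.node (nat_lit 0x10f331d) (.node (nat_lit 0x10f331b) (.leaf (nat_lit 0x10f3319) (nat_lit 2818))
 (.leaf (nat_lit 0x10f331b) (nat_lit 2819))
) (.node (nat_lit 0x10f331f) (.leaf (nat_lit 0x10f331d) (nat_lit 3330))
 (.node (nat_lit 0x10f3341) (.leaf (nat_lit 0x10f331f) (nat_lit 3074))
 (.leaf (nat_lit 0x10f3341) (nat_lit 2309))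
))) (.node (nat_lit 0x10f3349) (.node (nat_lit 0x10f3345) (.leaf (nat_lit 0x10f3343) (nat_lit 2565))
 (.node (nat_lit 0x10f3347) (.leaf (nat_lit 0x10f3345) (nat_lit 2565))
 (.leaf (nat_lit 0x10f3347) (nat_lit 2821))
)) (.node (nat_lit 0x10f334b) (.leaf (nat_lit 0x10f3349) (nat_lit 2821))
 (.node (nat_lit 0x10f334d) (.leaf (nat_lit 0x10f334b) (nat_lit 3077))
 (.leaf (nat_lit 0x10f334d) (nat_lit 2565))
))))) (.node (nat_lit 0x10f4883) (.node (nat_lit 0x10f3359) (.node (nat_lit 0x10f3353) (.node (nat_lit 0x10f3351) (.leaf (nat_lit 0x10f334f) (nat_lit 2821))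
 (.leaf (nat_lit 0x10f3351) (nat_lit 3333))
) (.node (nat_lit 0x10f3355) (.leaf (nat_lit 0x10f3353) (nat_lit 3077))
 (.node (nat_lit 0x10f3357) (.leaf (nat_lit 0x10f3355) (nat_lit 3077))
 (.leaf (nat_lit 0x10f3357) (nat_lit 2821))
))) (.node (nat_lit 0x10f335d) (.node (nat_lit 0x10f335b) (.leaf (nat_lit 0x10f3359) (nat_lit 2821))
 (.leaf (nat_lit 0x10f335b) (nat_lit 2565))
) (.node (nat_lit 0x10f335f) (.leaf (nat_lit 0x10f335d) (nat_lit 3077))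
 (.node (nat_lit 0x10f4881) (.leaf (nat_lit 0x10f335f) (nat_lit 2821))
 (.leaf (nat_lit 0x10f4881) (nat_lit 1797))
)))) (.node (nat_lit 0x10f488d) (.node (nat_lit 0x10f4887) (.node (nat_lit 0x10f4885) (.leaf (nat_lit 0x10f4883) (nat_lit 2053))
 (.leaf (nat_lit 0x10f4885) (nat_lit 2053))
) (.node (nat_lit 0x10f4889) (.leaf (nat_lit 0x10f4887) (nat_lit 2309))
 (.node (nat_lit 0x10f488b) (.leaf (nat_lit 0x10f4889) (nat_lit 2562))
 (.leaf (nat_lit 0x10f488b) (nat_lit 2818))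
))) (.node (nat_lit 0x10f4893) (.node (nat_lit 0x10f488f) (.leaf (nat_lit 0x10f488d) (nat_lit 2565))
 (.node (nat_lit 0x10f4891) (.leaf (nat_lit 0x10f488f) (nat_lit 2821))
 (.leaf (nat_lit 0x10f4891) (nat_lit 2821))
)) (.node (nat_lit 0x10f4895) (.leaf (nat_lit 0x10f4893) (nat_lit 2565))
 (.node (nat_lit 0x10f4897) (.leaf (nat_lit 0x10f4895) (nat_lit 2817))
 (.leaf (nat_lit 0x10f4897) (nat_lit 2561))
))))))) (.node (nat_lit 0x10f494d) (.node (nat_lit 0x10f4903) (.node (nat_lit 0x10f48cd) (.node (nat_lit 0x10f48c3) (.node (nat_lit 0x10f489d) (.node (nat_lit 0x10f489b) (.leaf (nat_lit 0x10f4899) (nat_lit 3076))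
 (.leaf (nat_lit 0x10f489b) (nat_lit 2820))
) (.node (nat_lit 0x10f489f) (.leaf (nat_lit 0x10f489d) (nat_lit 3077))
 (.node (nat_lit 0x10f48c1) (.leaf (nat_lit 0x10f489f) (nat_lit 3076))
 (.leaf (nat_lit 0x10f48c1) (nat_lit 1796))
))) (.node (nat_lit 0x10f48c7) (.node (nat_lit 0x10f48c5) (.leaf (nat_lit 0x10f48c3) (nat_lit 2052))
 (.leaf (nat_lit 0x10f48c5) (nat_lit 2308))
) (.node (nat_lit 0x10f48c9) (.leaf (nat_lit 0x10f48c7) (nat_lit 2052))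
 (.node (nat_lit 0x10f48cb) (.leaf (nat_lit 0x10f48c9) (nat_lit 2820))
 (.leaf (nat_lit 0x10f48cb) (nat_lit 2564))
)))) (.node (nat_lit 0x10f48d7) (.node (nat_lit 0x10f48d1) (.node (nat_lit 0x10f48cf) (.leaf (nat_lit 0x10f48cd) (nat_lit 2820))
 (.leaf (nat_lit 0x10f48cf) (nat_lit 2820))
) (.node (nat_lit 0x10f48d3) (.leaf (nat_lit 0x10f48d1) (nat_lit 2820))
 (.node (nat_lit 0x10f48d5) (.leaf (nat_lit 0x10f48d3) (nat_lit 2564))
 (.leaf (nat_lit 0x10f48d5) (nat_lit 2564))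
))) (.node (nat_lit 0x10f48dd) (.node (nat_lit 0x10f48d9) (.leaf (nat_lit 0x10f48d7) (nat_lit 2820))
 (.node (nat_lit 0x10f48db) (.leaf (nat_lit 0x10f48d9) (nat_lit 2820))
 (.leaf (nat_lit 0x10f48db) (nat_lit 3076))
)) (.node (nat_lit 0x10f48df) (.leaf (nat_lit 0x10f48dd) (nat_lit 3076))
 (.node (nat_lit 0x10f4901) (.leaf (nat_lit 0x10f48df) (nat_lit 2820))
 (.leaf (nat_lit 0x10f4901) (nat_lit 2050))
))))) (.node (nat_lit 0x10f4917) (.node (nat_lit 0x10f490d) (.node (nat_lit 0x10f4907) (.node (nat_lit 0x10f4905) (.leaf (nat_lit 0x10f4903) (nat_lit 2306))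
 (.leaf (nat_lit 0x10f4905) (nat_lit 2306))
) (.node (nat_lit 0x10f4909) (.leaf (nat_lit 0x10f4907) (nat_lit 2562))
 (.node (nat_lit 0x10f490b) (.leaf (nat_lit 0x10f4909) (nat_lit 2306))
 (.leaf (nat_lit 0x10f490b) (nat_lit 2562))
))) (.node (nat_lit 0x10f4911) (.node (nat_lit 0x10f490f) (.leaf (nat_lit 0x10f490d) (nat_lit 2562))
 (.leaf (nat_lit 0x10f490f) (nat_lit 2818))
) (.node (nat_lit 0x10f4913) (.leaf (nat_lit 0x10f4911) (nat_lit 3332))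
 (.node (nat_lit 0x10f4915) (.leaf (nat_lit 0x10f4913) (nat_lit 3076))
 (.leaf (nat_lit 0x10f4915) (nat_lit 3332))
)))) (.node (nat_lit 0x10f4941) (.node (nat_lit 0x10f491b) (.node (nat_lit 0x10f4919) (.leaf (nat_lit 0x10f4917) (nat_lit 3076))
 (.leaf (nat_lit 0x10f4919) (nat_lit 3076))
) (.node (nat_lit 0x10f491d) (.leaf (nat_lit 0x10f491b) (nat_lit 2820))
 (.node (nat_lit 0x10f491f) (.leaf (nat_lit 0x10f491d) (nat_lit 3332))
 (.leaf (nat_lit 0x10f491f) (nat_lit 3076))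
))) (.node (nat_lit 0x10f4947) (.node (nat_lit 0x10f4943) (.leaf (nat_lit 0x10f4941) (nat_lit 2053))
 (.node (nat_lit 0x10f4945) (.leaf (nat_lit 0x10f4943) (nat_lit 2309))
 (.leaf (nat_lit 0x10f4945) (nat_lit 2565))
)) (.node (nat_lit 0x10f4949) (.leaf (nat_lit 0x10f4947) (nat_lit 2309))
 (.node (nat_lit 0x10f494b) (.leaf (nat_lit 0x10f4949) (nat_lit 2565))
 (.leaf (nat_lit 0x10f494b) (nat_lit 2309))
)))))) (.node (nat_lit 0x10f4a97) (.node (nat_lit 0x10f4a81) (.node (nat_lit 0x10f4957) (.node (nat_lit 0x10f4951) (.node (nat_lit 0x10f494f) (.leaf (nat_lit 0x10f494d) (nat_lit 2565))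
 (.leaf (nat_lit 0x10f494f) (nat_lit 2821))
) (.node (nat_lit 0x10f4953) (.leaf (nat_lit 0x10f4951) (nat_lit 3077))
 (.node (nat_lit 0x10f4955) (.leaf (nat_lit 0x10f4953) (nat_lit 2821))
 (.leaf (nat_lit 0x10f4955) (nat_lit 3077))
))) (.node (nat_lit 0x10f495b) (.node (nat_lit 0x10f4959) (.leaf (nat_lit 0x10f4957) (nat_lit 3333))
 (.leaf (nat_lit 0x10f4959) (nat_lit 2817))
) (.node (nat_lit 0x10f495d) (.leaf (nat_lit 0x10f495b) (nat_lit 3073))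
 (.node (nat_lit 0x10f495f) (.leaf (nat_lit 0x10f495d) (nat_lit 3329))
 (.leaf (nat_lit 0x10f495f) (nat_lit 3073))
)))) (.node (nat_lit 0x10f4a8b) (.node (nat_lit 0x10f4a85) (.node (nat_lit 0x10f4a83) (.leaf (nat_lit 0x10f4a81) (nat_lit 2052))
 (.leaf (nat_lit 0x10f4a83) (nat_lit 2308))
) (.node (nat_lit 0x10f4a87) (.leaf (nat_lit 0x10f4a85) (nat_lit 2564))
 (.node (nat_lit 0x10f4a89) (.leaf (nat_lit 0x10f4a87) (nat_lit 2308))
 (.leaf (nat_lit 0x10f4a89) (nat_lit 3076))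
))) (.node (nat_lit 0x10f4a91) (.node (nat_lit 0x10f4a8d) (.leaf (nat_lit 0x10f4a8b) (nat_lit 2820))
 (.node (nat_lit 0x10f4a8f) (.leaf (nat_lit 0x10f4a8d) (nat_lit 2821))
 (.leaf (nat_lit 0x10f4a8f) (nat_lit 3077))
)) (.node (nat_lit 0x10f4a93) (.leaf (nat_lit 0x10f4a91) (nat_lit 2820))
 (.node (nat_lit 0x10f4a95) (.leaf (nat_lit 0x10f4a93) (nat_lit 2564))
 (.leaf (nat_lit 0x10f4a95) (nat_lit 2308))
))))) (.node (nat_lit 0x10f4acb) (.node (nat_lit 0x10f4ac1) (.node (nat_lit 0x10f4a9b) (.node (nat_lit 0x10f4a99) (.leaf (nat_lit 0x10f4a97) (nat_lit 2564))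
 (.leaf (nat_lit 0x10f4a99) (nat_lit 3076))
) (.node (nat_lit 0x10f4a9d) (.leaf (nat_lit 0x10f4a9b) (nat_lit 3332))
 (.node (nat_lit 0x10f4a9f) (.leaf (nat_lit 0x10f4a9d) (nat_lit 3332))
 (.leaf (nat_lit 0x10f4a9f) (nat_lit 3076))
))) (.node (nat_lit 0x10f4ac5) (.node (nat_lit 0x10f4ac3) (.leaf (nat_lit 0x10f4ac1) (nat_lit 2049))
 (.leaf (nat_lit 0x10f4ac3) (nat_lit 2305))
) (.node (nat_lit 0x10f4ac7) (.leaf (nat_lit 0x10f4ac5) (nat_lit 2305))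
 (.node (nat_lit 0x10f4ac9) (.leaf (nat_lit 0x10f4ac7) (nat_lit 2561))
 (.leaf (nat_lit 0x10f4ac9) (nat_lit 2817))
)))) (.node (nat_lit 0x10f4ad5) (.node (nat_lit 0x10f4acf) (.node (nat_lit 0x10f4acd) (.leaf (nat_lit 0x10f4acb) (nat_lit 3073))
 (.leaf (nat_lit 0x10f4acd) (nat_lit 2817))
) (.node (nat_lit 0x10f4ad1) (.leaf (nat_lit 0x10f4acf) (nat_lit 3073))
 (.node (nat_lit 0x10f4ad3) (.leaf (nat_lit 0x10f4ad1) (nat_lit 2816))
 (.leaf (nat_lit 0x10f4ad3) (nat_lit 2560))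
))) (.node (nat_lit 0x10f4adb) (.node (nat_lit 0x10f4ad7) (.leaf (nat_lit 0x10f4ad5) (nat_lit 2560))
 (.node (nat_lit 0x10f4ad9) (.leaf (nat_lit 0x10f4ad7) (nat_lit 2304))
 (.leaf (nat_lit 0x10f4ad9) (nat_lit 3330))
)) (.node (nat_lit 0x10f4add) (.leaf (nat_lit 0x10f4adb) (nat_lit 3074))
 (.node (nat_lit 0x10f4adf) (.leaf (nat_lit 0x10f4add) (nat_lit 3332))
 (.leaf (nat_lit 0x10f4adf) (nat_lit 3076))
)))))))))) (.node (nat_lit 0x10f6181) (.node (nat_lit 0x10f5851) (.node (nat_lit 0x10f5189) (.node (nat_lit 0x10f5055) (.node (nat_lit 0x10f4b4b) (.node (nat_lit 0x10f4b15) (.node (nat_lit 0x10f4b0b) (.node (nat_lit 0x10f4b05) (.node (nat_lit 0x10f4b03) (.leaf (nat_lit 0x10f4b01) (nat_lit 2305))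
 (.leaf (nat_lit 0x10f4b03) (nat_lit 2561))
) (.node (nat_lit 0x10f4b07) (.leaf (nat_lit 0x10f4b05) (nat_lit 2817))
 (.node (nat_lit 0x10f4b09) (.leaf (nat_lit 0x10f4b07) (nat_lit 2561))
 (.leaf (nat_lit 0x10f4b09) (nat_lit 2817))
))) (.node (nat_lit 0x10f4b0f) (.node (nat_lit 0x10f4b0d) (.leaf (nat_lit 0x10f4b0b) (nat_lit 2561))
 (.leaf (nat_lit 0x10f4b0d) (nat_lit 2817))
) (.node (nat_lit 0x10f4b11) (.leaf (nat_lit 0x10f4b0f) (nat_lit 3073))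
 (.node (nat_lit 0x10f4b13) (.leaf (nat_lit 0x10f4b11) (nat_lit 3072))
 (.leaf (nat_lit 0x10f4b13) (nat_lit 2816))
)))) (.node (nat_lit 0x10f4b1f) (.node (nat_lit 0x10f4b19) (.node (nat_lit 0x10f4b17) (.leaf (nat_lit 0x10f4b15) (nat_lit 3072))
 (.leaf (nat_lit 0x10f4b17) (nat_lit 3328))
) (.node (nat_lit 0x10f4b1b) (.leaf (nat_lit 0x10f4b19) (nat_lit 2560))
 (.node (nat_lit 0x10f4b1d) (.leaf (nat_lit 0x10f4b1b) (nat_lit 2816))
 (.leaf (nat_lit 0x10f4b1d) (nat_lit 3072))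
))) (.node (nat_lit 0x10f4b45) (.node (nat_lit 0x10f4b41) (.leaf (nat_lit 0x10f4b1f) (nat_lit 2816))
 (.node (nat_lit 0x10f4b43) (.leaf (nat_lit 0x10f4b41) (nat_lit 2308))
 (.leaf (nat_lit 0x10f4b43) (nat_lit 2564))
)) (.node (nat_lit 0x10f4b47) (.leaf (nat_lit 0x10f4b45) (nat_lit 2561))
 (.node (nat_lit 0x10f4b49) (.leaf (nat_lit 0x10f4b47) (nat_lit 2817))
 (.leaf (nat_lit 0x10f4b49) (nat_lit 2561))
))))) (.node (nat_lit 0x10f4b5f) (.node (nat_lit 0x10f4b55) (.node (nat_lit 0x10f4b4f) (.node (nat_lit 0x10f4b4d) (.leaf (nat_lit 0x10f4b4b) (nat_lit 2817))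
 (.leaf (nat_lit 0x10f4b4d) (nat_lit 2821))
) (.node (nat_lit 0x10f4b51) (.leaf (nat_lit 0x10f4b4f) (nat_lit 3077))
 (.node (nat_lit 0x10f4b53) (.leaf (nat_lit 0x10f4b51) (nat_lit 3077))
 (.leaf (nat_lit 0x10f4b53) (nat_lit 2821))
))) (.node (nat_lit 0x10f4b59) (.node (nat_lit 0x10f4b57) (.leaf (nat_lit 0x10f4b55) (nat_lit 3333))
 (.leaf (nat_lit 0x10f4b57) (nat_lit 3077))
) (.node (nat_lit 0x10f4b5b) (.leaf (nat_lit 0x10f4b59) (nat_lit 2820))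
 (.node (nat_lit 0x10f4b5d) (.leaf (nat_lit 0x10f4b5b) (nat_lit 2564))
 (.leaf (nat_lit 0x10f4b5d) (nat_lit 3076))
)))) (.node (nat_lit 0x10f5049) (.node (nat_lit 0x10f5043) (.node (nat_lit 0x10f5041) (.leaf (nat_lit 0x10f4b5f) (nat_lit 2820))
 (.leaf (nat_lit 0x10f5041) (nat_lit 1541))
) (.node (nat_lit 0x10f5045) (.leaf (nat_lit 0x10f5043) (nat_lit 1797))
 (.node (nat_lit 0x10f5047) (.leaf (nat_lit 0x10f5045) (nat_lit 2309))
 (.leaf (nat_lit 0x10f5047) (nat_lit 2309))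
))) (.node (nat_lit 0x10f504f) (.node (nat_lit 0x10f504b) (.leaf (nat_lit 0x10f5049) (nat_lit 2306))
 (.node (nat_lit 0x10f504d) (.leaf (nat_lit 0x10f504b) (nat_lit 2309))
 (.leaf (nat_lit 0x10f504d) (nat_lit 2565))
)) (.node (nat_lit 0x10f5051) (.leaf (nat_lit 0x10f504f) (nat_lit 2565))
 (.node (nat_lit 0x10f5053) (.leaf (nat_lit 0x10f5051) (nat_lit 3073))
 (.leaf (nat_lit 0x10f5053) (nat_lit 3077))
)))))) (.node (nat_lit 0x10f50df) (.node (nat_lit 0x10f50c9) (.node (nat_lit 0x10f505f) (.node (nat_lit 0x10f5059) (.node (nat_lit 0x10f5057) (.leaf (nat_lit 0x10f5055) (nat_lit 2309))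
 (.leaf (nat_lit 0x10f5057) (nat_lit 2305))
) (.node (nat_lit 0x10f505b) (.leaf (nat_lit 0x10f5059) (nat_lit 2819))
 (.node (nat_lit 0x10f505d) (.leaf (nat_lit 0x10f505b) (nat_lit 2819))
 (.leaf (nat_lit 0x10f505d) (nat_lit 2565))
))) (.node (nat_lit 0x10f50c3) (.node (nat_lit 0x10f50c1) (.leaf (nat_lit 0x10f505f) (nat_lit 2565))
 (.leaf (nat_lit 0x10f50c1) (nat_lit 1794))
) (.node (nat_lit 0x10f50c5) (.leaf (nat_lit 0x10f50c3) (nat_lit 2050))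
 (.node (nat_lit 0x10f50c7) (.leaf (nat_lit 0x10f50c5) (nat_lit 2306))
 (.leaf (nat_lit 0x10f50c7) (nat_lit 2050))
)))) (.node (nat_lit 0x10f50d3) (.node (nat_lit 0x10f50cd) (.node (nat_lit 0x10f50cb) (.leaf (nat_lit 0x10f50c9) (nat_lit 2818))
 (.leaf (nat_lit 0x10f50cb) (nat_lit 2562))
) (.node (nat_lit 0x10f50cf) (.leaf (nat_lit 0x10f50cd) (nat_lit 2562))
 (.node (nat_lit 0x10f50d1) (.leaf (nat_lit 0x10f50cf) (nat_lit 2818))
 (.leaf (nat_lit 0x10f50d1) (nat_lit 2817))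
))) (.node (nat_lit 0x10f50d9) (.node (nat_lit 0x10f50d5) (.leaf (nat_lit 0x10f50d3) (nat_lit 2561))
 (.node (nat_lit 0x10f50d7) (.leaf (nat_lit 0x10f50d5) (nat_lit 2817))
 (.leaf (nat_lit 0x10f50d7) (nat_lit 3073))
)) (.node (nat_lit 0x10f50db) (.leaf (nat_lit 0x10f50d9) (nat_lit 3074))
 (.node (nat_lit 0x10f50dd) (.leaf (nat_lit 0x10f50db) (nat_lit 3075))
 (.leaf (nat_lit 0x10f50dd) (nat_lit 3075))
))))) (.node (nat_lit 0x10f5113) (.node (nat_lit 0x10f5109) (.node (nat_lit 0x10f5103) (.node (nat_lit 0x10f5101) (.leaf (nat_lit 0x10f50df) (nat_lit 3074))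
 (.leaf (nat_lit 0x10f5101) (nat_lit 1794))
) (.node (nat_lit 0x10f5105) (.leaf (nat_lit 0x10f5103) (nat_lit 2050))
 (.node (nat_lit 0x10f5107) (.leaf (nat_lit 0x10f5105) (nat_lit 2562))
 (.leaf (nat_lit 0x10f5107) (nat_lit 2562))
))) (.node (nat_lit 0x10f510d) (.node (nat_lit 0x10f510b) (.leaf (nat_lit 0x10f5109) (nat_lit 2050))
 (.leaf (nat_lit 0x10f510b) (nat_lit 2306))
) (.node (nat_lit 0x10f510f) (.leaf (nat_lit 0x10f510d) (nat_lit 2818))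
 (.node (nat_lit 0x10f5111) (.leaf (nat_lit 0x10f510f) (nat_lit 2818))
 (.leaf (nat_lit 0x10f5111) (nat_lit 3585))
)))) (.node (nat_lit 0x10f511d) (.node (nat_lit 0x10f5117) (.node (nat_lit 0x10f5115) (.leaf (nat_lit 0x10f5113) (nat_lit 3585))
 (.leaf (nat_lit 0x10f5115) (nat_lit 2817))
) (.node (nat_lit 0x10f5119) (.leaf (nat_lit 0x10f5117) (nat_lit 3073))
 (.node (nat_lit 0x10f511b) (.leaf (nat_lit 0x10f5119) (nat_lit 3329))
 (.leaf (nat_lit 0x10f511b) (nat_lit 3329))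
))) (.node (nat_lit 0x10f5183) (.node (nat_lit 0x10f511f) (.leaf (nat_lit 0x10f511d) (nat_lit 2561))
 (.node (nat_lit 0x10f5181) (.leaf (nat_lit 0x10f511f) (nat_lit 2817))
 (.leaf (nat_lit 0x10f5181) (nat_lit 2050))
)) (.node (nat_lit 0x10f5185) (.leaf (nat_lit 0x10f5183) (nat_lit 2306))
 (.node (nat_lit 0x10f5187) (.leaf (nat_lit 0x10f5185) (nat_lit 2562))
 (.leaf (nat_lit 0x10f5187) (nat_lit 2306))
))))))) (.node (nat_lit 0x10f52dd) (.node (nat_lit 0x10f5253) (.node (nat_lit 0x10f519d) (.node (nat_lit 0x10f5193) (.node (nat_lit 0x10f518d) (.node (nat_lit 0x10f518b) (.leaf (nat_lit 0x10f5189) (nat_lit 2818))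
 (.leaf (nat_lit 0x10f518b) (nat_lit 2562))
) (.node (nat_lit 0x10f518f) (.leaf (nat_lit 0x10f518d) (nat_lit 2306))
 (.node (nat_lit 0x10f5191) (.leaf (nat_lit 0x10f518f) (nat_lit 2562))
 (.leaf (nat_lit 0x10f5191) (nat_lit 3333))
))) (.node (nat_lit 0x10f5197) (.node (nat_lit 0x10f5195) (.leaf (nat_lit 0x10f5193) (nat_lit 3077))
 (.leaf (nat_lit 0x10f5195) (nat_lit 2821))
) (.node (nat_lit 0x10f5199) (.leaf (nat_lit 0x10f5197) (nat_lit 3077))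
 (.node (nat_lit 0x10f519b) (.leaf (nat_lit 0x10f5199) (nat_lit 2817))
 (.leaf (nat_lit 0x10f519b) (nat_lit 3073))
)))) (.node (nat_lit 0x10f5247) (.node (nat_lit 0x10f5241) (.node (nat_lit 0x10f519f) (.leaf (nat_lit 0x10f519d) (nat_lit 3329))
 (.leaf (nat_lit 0x10f519f) (nat_lit 3073))
) (.node (nat_lit 0x10f5243) (.leaf (nat_lit 0x10f5241) (nat_lit 2053))
 (.node (nat_lit 0x10f5245) (.leaf (nat_lit 0x10f5243) (nat_lit 2309))
 (.leaf (nat_lit 0x10f5245) (nat_lit 2565))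
))) (.node (nat_lit 0x10f524d) (.node (nat_lit 0x10f5249) (.leaf (nat_lit 0x10f5247) (nat_lit 2309))
 (.node (nat_lit 0x10f524b) (.leaf (nat_lit 0x10f5249) (nat_lit 3077))
 (.leaf (nat_lit 0x10f524b) (nat_lit 2821))
)) (.node (nat_lit 0x10f524f) (.leaf (nat_lit 0x10f524d) (nat_lit 2817))
 (.node (nat_lit 0x10f5251) (.leaf (nat_lit 0x10f524f) (nat_lit 3073))
 (.leaf (nat_lit 0x10f5251) (nat_lit 2565))
))))) (.node (nat_lit 0x10f52c7) (.node (nat_lit 0x10f525d) (.node (nat_lit 0x10f5257) (.node (nat_lit 0x10f5255) (.leaf (nat_lit 0x10f5253) (nat_lit 2309))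
 (.leaf (nat_lit 0x10f5255) (nat_lit 2565))
) (.node (nat_lit 0x10f5259) (.leaf (nat_lit 0x10f5257) (nat_lit 2821))
 (.node (nat_lit 0x10f525b) (.leaf (nat_lit 0x10f5259) (nat_lit 3077))
 (.leaf (nat_lit 0x10f525b) (nat_lit 3333))
))) (.node (nat_lit 0x10f52c1) (.node (nat_lit 0x10f525f) (.leaf (nat_lit 0x10f525d) (nat_lit 3328))
 (.leaf (nat_lit 0x10f525f) (nat_lit 3072))
) (.node (nat_lit 0x10f52c3) (.leaf (nat_lit 0x10f52c1) (nat_lit 1793))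
 (.node (nat_lit 0x10f52c5) (.leaf (nat_lit 0x10f52c3) (nat_lit 2049))
 (.leaf (nat_lit 0x10f52c5) (nat_lit 2561))
)))) (.node (nat_lit 0x10f52d1) (.node (nat_lit 0x10f52cb) (.node (nat_lit 0x10f52c9) (.leaf (nat_lit 0x10f52c7) (nat_lit 2561))
 (.leaf (nat_lit 0x10f52c9) (nat_lit 2561))
) (.node (nat_lit 0x10f52cd) (.leaf (nat_lit 0x10f52cb) (nat_lit 2561))
 (.node (nat_lit 0x10f52cf) (.leaf (nat_lit 0x10f52cd) (nat_lit 2819))
 (.leaf (nat_lit 0x10f52cf) (nat_lit 2817))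
))) (.node (nat_lit 0x10f52d7) (.node (nat_lit 0x10f52d3) (.leaf (nat_lit 0x10f52d1) (nat_lit 2816))
 (.node (nat_lit 0x10f52d5) (.leaf (nat_lit 0x10f52d3) (nat_lit 2816))
 (.leaf (nat_lit 0x10f52d5) (nat_lit 2304))
)) (.node (nat_lit 0x10f52d9) (.leaf (nat_lit 0x10f52d7) (nat_lit 2048))
 (.node (nat_lit 0x10f52db) (.leaf (nat_lit 0x10f52d9) (nat_lit 3072))
 (.leaf (nat_lit 0x10f52db) (nat_lit 3075))
)))))) (.node (nat_lit 0x10f5387) (.node (nat_lit 0x10f5311) (.node (nat_lit 0x10f5307) (.node (nat_lit 0x10f5301) (.node (nat_lit 0x10f52df) (.leaf (nat_lit 0x10f52dd) (nat_lit 2818))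
 (.leaf (nat_lit 0x10f52df) (nat_lit 2817))
) (.node (nat_lit 0x10f5303) (.leaf (nat_lit 0x10f5301) (nat_lit 2305))
 (.node (nat_lit 0x10f5305) (.leaf (nat_lit 0x10f5303) (nat_lit 2561))
 (.leaf (nat_lit 0x10f5305) (nat_lit 2817))
))) (.node (nat_lit 0x10f530b) (.node (nat_lit 0x10f5309) (.leaf (nat_lit 0x10f5307) (nat_lit 2561))
 (.leaf (nat_lit 0x10f5309) (nat_lit 3073))
) (.node (nat_lit 0x10f530d) (.leaf (nat_lit 0x10f530b) (nat_lit 2817))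
 (.node (nat_lit 0x10f530f) (.leaf (nat_lit 0x10f530d) (nat_lit 2561))
 (.leaf (nat_lit 0x10f530f) (nat_lit 2817))
)))) (.node (nat_lit 0x10f531b) (.node (nat_lit 0x10f5315) (.node (nat_lit 0x10f5313) (.leaf (nat_lit 0x10f5311) (nat_lit 3328))
 (.leaf (nat_lit 0x10f5313) (nat_lit 3072))
) (.node (nat_lit 0x10f5317) (.leaf (nat_lit 0x10f5315) (nat_lit 2816))
 (.node (nat_lit 0x10f5319) (.leaf (nat_lit 0x10f5317) (nat_lit 3072))
 (.leaf (nat_lit 0x10f5319) (nat_lit 2560))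
))) (.node (nat_lit 0x10f5381) (.node (nat_lit 0x10f531d) (.leaf (nat_lit 0x10f531b) (nat_lit 2816))
 (.node (nat_lit 0x10f531f) (.leaf (nat_lit 0x10f531d) (nat_lit 3072))
 (.leaf (nat_lit 0x10f531f) (nat_lit 2816))
)) (.node (nat_lit 0x10f5383) (.leaf (nat_lit 0x10f5381) (nat_lit 2049))
 (.node (nat_lit 0x10f5385) (.leaf (nat_lit 0x10f5383) (nat_lit 2305))
 (.leaf (nat_lit 0x10f5385) (nat_lit 2817))
))))) (.node (nat_lit 0x10f539b) (.node (nat_lit 0x10f5391) (.node (nat_lit 0x10f538b) (.node (nat_lit 0x10f5389) (.leaf (nat_lit 0x10f5387) (nat_lit 2817))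
 (.leaf (nat_lit 0x10f5389) (nat_lit 2305))
) (.node (nat_lit 0x10f538d) (.leaf (nat_lit 0x10f538b) (nat_lit 2561))
 (.node (nat_lit 0x10f538f) (.leaf (nat_lit 0x10f538d) (nat_lit 3073))
 (.leaf (nat_lit 0x10f538f) (nat_lit 3073))
))) (.node (nat_lit 0x10f5395) (.node (nat_lit 0x10f5393) (.leaf (nat_lit 0x10f5391) (nat_lit 3328))
 (.leaf (nat_lit 0x10f5393) (nat_lit 3333))
) (.node (nat_lit 0x10f5397) (.leaf (nat_lit 0x10f5395) (nat_lit 2565))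
 (.node (nat_lit 0x10f5399) (.leaf (nat_lit 0x10f5397) (nat_lit 2821))
 (.leaf (nat_lit 0x10f5399) (nat_lit 3072))
)))) (.node (nat_lit 0x10f5845) (.node (nat_lit 0x10f539f) (.node (nat_lit 0x10f539d) (.leaf (nat_lit 0x10f539b) (nat_lit 3072))
 (.leaf (nat_lit 0x10f539d) (nat_lit 2304))
) (.node (nat_lit 0x10f5841) (.leaf (nat_lit 0x10f539f) (nat_lit 2560))
 (.node (nat_lit 0x10f5843) (.leaf (nat_lit 0x10f5841) (nat_lit 1282))
 (.leaf (nat_lit 0x10f5843) (nat_lit 1538))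
))) (.node (nat_lit 0x10f584b) (.node (nat_lit 0x10f5847) (.leaf (nat_lit 0x10f5845) (nat_lit 2050))
 (.node (nat_lit 0x10f5849) (.leaf (nat_lit 0x10f5847) (nat_lit 2050))
 (.leaf (nat_lit 0x10f5849) (nat_lit 2306))
)) (.node (nat_lit 0x10f584d) (.leaf (nat_lit 0x10f584b) (nat_lit 2050))
 (.node (nat_lit 0x10f584f) (.leaf (nat_lit 0x10f584d) (nat_lit 2308))
 (.leaf (nat_lit 0x10f584f) (nat_lit 2308))
)))))))) (.node (nat_lit 0x10f5a99) (.node (nat_lit 0x10f5985) (.node (nat_lit 0x10f589b) (.node (nat_lit 0x10f5885) (.node (nat_lit 0x10f585b) (.node (nat_lit 0x10f5855) (.node (nat_lit 0x10f5853) (.leaf (nat_lit 0x10f5851) (nat_lit 2817))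
 (.leaf (nat_lit 0x10f5853) (nat_lit 2817))
) (.node (nat_lit 0x10f5857) (.leaf (nat_lit 0x10f5855) (nat_lit 2049))
 (.node (nat_lit 0x10f5859) (.leaf (nat_lit 0x10f5857) (nat_lit 2305))
 (.leaf (nat_lit 0x10f5859) (nat_lit 2819))
))) (.node (nat_lit 0x10f585f) (.node (nat_lit 0x10f585d) (.leaf (nat_lit 0x10f585b) (nat_lit 2563))
 (.leaf (nat_lit 0x10f585d) (nat_lit 2308))
) (.node (nat_lit 0x10f5881) (.leaf (nat_lit 0x10f585f) (nat_lit 2308))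
 (.node (nat_lit 0x10f5883) (.leaf (nat_lit 0x10f5881) (nat_lit 1538))
 (.leaf (nat_lit 0x10f5883) (nat_lit 1794))
)))) (.node (nat_lit 0x10f588f) (.node (nat_lit 0x10f5889) (.node (nat_lit 0x10f5887) (.leaf (nat_lit 0x10f5885) (nat_lit 1794))
 (.leaf (nat_lit 0x10f5887) (nat_lit 2050))
) (.node (nat_lit 0x10f588b) (.leaf (nat_lit 0x10f5889) (nat_lit 2562))
 (.node (nat_lit 0x10f588d) (.leaf (nat_lit 0x10f588b) (nat_lit 2564))
 (.leaf (nat_lit 0x10f588d) (nat_lit 2306))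
))) (.node (nat_lit 0x10f5895) (.node (nat_lit 0x10f5891) (.leaf (nat_lit 0x10f588f) (nat_lit 2562))
 (.node (nat_lit 0x10f5893) (.leaf (nat_lit 0x10f5891) (nat_lit 2561))
 (.leaf (nat_lit 0x10f5893) (nat_lit 2305))
)) (.node (nat_lit 0x10f5897) (.leaf (nat_lit 0x10f5895) (nat_lit 2817))
 (.node (nat_lit 0x10f5899) (.leaf (nat_lit 0x10f5897) (nat_lit 2561))
 (.leaf (nat_lit 0x10f5899) (nat_lit 2820))
))))) (.node (nat_lit 0x10f594f) (.node (nat_lit 0x10f5945) (.node (nat_lit 0x10f589f) (.node (nat_lit 0x10f589d) (.leaf (nat_lit 0x10f589b) (nat_lit 2564))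
 (.leaf (nat_lit 0x10f589d) (nat_lit 2819))
) (.node (nat_lit 0x10f5941) (.leaf (nat_lit 0x10f589f) (nat_lit 2820))
 (.node (nat_lit 0x10f5943) (.leaf (nat_lit 0x10f5941) (nat_lit 1538))
 (.leaf (nat_lit 0x10f5943) (nat_lit 1794))
))) (.node (nat_lit 0x10f5949) (.node (nat_lit 0x10f5947) (.leaf (nat_lit 0x10f5945) (nat_lit 2306))
 (.leaf (nat_lit 0x10f5947) (nat_lit 2306))
) (.node (nat_lit 0x10f594b) (.leaf (nat_lit 0x10f5949) (nat_lit 2050))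
 (.node (nat_lit 0x10f594d) (.leaf (nat_lit 0x10f594b) (nat_lit 1794))
 (.leaf (nat_lit 0x10f594d) (nat_lit 2562))
)))) (.node (nat_lit 0x10f5959) (.node (nat_lit 0x10f5953) (.node (nat_lit 0x10f5951) (.leaf (nat_lit 0x10f594f) (nat_lit 2564))
 (.leaf (nat_lit 0x10f5951) (nat_lit 3331))
) (.node (nat_lit 0x10f5955) (.leaf (nat_lit 0x10f5953) (nat_lit 3075))
 (.node (nat_lit 0x10f5957) (.leaf (nat_lit 0x10f5955) (nat_lit 2820))
 (.leaf (nat_lit 0x10f5957) (nat_lit 2564))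
))) (.node (nat_lit 0x10f595f) (.node (nat_lit 0x10f595b) (.leaf (nat_lit 0x10f5959) (nat_lit 3076))
 (.node (nat_lit 0x10f595d) (.leaf (nat_lit 0x10f595b) (nat_lit 3076))
 (.leaf (nat_lit 0x10f595d) (nat_lit 2308))
)) (.node (nat_lit 0x10f5981) (.leaf (nat_lit 0x10f595f) (nat_lit 2564))
 (.node (nat_lit 0x10f5983) (.leaf (nat_lit 0x10f5981) (nat_lit 1796))
 (.leaf (nat_lit 0x10f5983) (nat_lit 2052))
)))))) (.node (nat_lit 0x10f5a4f) (.node (nat_lit 0x10f5999) (.node (nat_lit 0x10f598f) (.node (nat_lit 0x10f5989) (.node (nat_lit 0x10f5987) (.leaf (nat_lit 0x10f5985) (nat_lit 2050))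
 (.leaf (nat_lit 0x10f5987) (nat_lit 2306))
) (.node (nat_lit 0x10f598b) (.leaf (nat_lit 0x10f5989) (nat_lit 2306))
 (.node (nat_lit 0x10f598d) (.leaf (nat_lit 0x10f598b) (nat_lit 2562))
 (.leaf (nat_lit 0x10f598d) (nat_lit 2052))
))) (.node (nat_lit 0x10f5993) (.node (nat_lit 0x10f5991) (.leaf (nat_lit 0x10f598f) (nat_lit 2308))
 (.leaf (nat_lit 0x10f5991) (nat_lit 3332))
) (.node (nat_lit 0x10f5995) (.leaf (nat_lit 0x10f5993) (nat_lit 3076))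
 (.node (nat_lit 0x10f5997) (.leaf (nat_lit 0x10f5995) (nat_lit 2819))
 (.leaf (nat_lit 0x10f5997) (nat_lit 2820))
)))) (.node (nat_lit 0x10f5a43) (.node (nat_lit 0x10f599d) (.node (nat_lit 0x10f599b) (.leaf (nat_lit 0x10f5999) (nat_lit 2820))
 (.leaf (nat_lit 0x10f599b) (nat_lit 2564))
) (.node (nat_lit 0x10f599f) (.leaf (nat_lit 0x10f599d) (nat_lit 3076))
 (.node (nat_lit 0x10f5a41) (.leaf (nat_lit 0x10f599f) (nat_lit 2820))
 (.leaf (nat_lit 0x10f5a41) (nat_lit 1793))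
))) (.node (nat_lit 0x10f5a49) (.node (nat_lit 0x10f5a45) (.leaf (nat_lit 0x10f5a43) (nat_lit 2049))
 (.node (nat_lit 0x10f5a47) (.leaf (nat_lit 0x10f5a45) (nat_lit 2049))
 (.leaf (nat_lit 0x10f5a47) (nat_lit 2305))
)) (.node (nat_lit 0x10f5a4b) (.leaf (nat_lit 0x10f5a49) (nat_lit 2817))
 (.node (nat_lit 0x10f5a4d) (.leaf (nat_lit 0x10f5a4b) (nat_lit 2820))
 (.leaf (nat_lit 0x10f5a4d) (nat_lit 2561))
))))) (.node (nat_lit 0x10f5a83) (.node (nat_lit 0x10f5a59) (.node (nat_lit 0x10f5a53) (.node (nat_lit 0x10f5a51) (.leaf (nat_lit 0x10f5a4f) (nat_lit 2817))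
 (.leaf (nat_lit 0x10f5a51) (nat_lit 2304))
) (.node (nat_lit 0x10f5a55) (.leaf (nat_lit 0x10f5a53) (nat_lit 2048))
 (.node (nat_lit 0x10f5a57) (.leaf (nat_lit 0x10f5a55) (nat_lit 2560))
 (.leaf (nat_lit 0x10f5a57) (nat_lit 2304))
))) (.node (nat_lit 0x10f5a5d) (.node (nat_lit 0x10f5a5b) (.leaf (nat_lit 0x10f5a59) (nat_lit 3076))
 (.leaf (nat_lit 0x10f5a5b) (nat_lit 2820))
) (.node (nat_lit 0x10f5a5f) (.leaf (nat_lit 0x10f5a5d) (nat_lit 3076))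
 (.node (nat_lit 0x10f5a81) (.leaf (nat_lit 0x10f5a5f) (nat_lit 2820))
 (.leaf (nat_lit 0x10f5a81) (nat_lit 1537))
)))) (.node (nat_lit 0x10f5a8d) (.node (nat_lit 0x10f5a87) (.node (nat_lit 0x10f5a85) (.leaf (nat_lit 0x10f5a83) (nat_lit 1793))
 (.leaf (nat_lit 0x10f5a85) (nat_lit 2305))
) (.node (nat_lit 0x10f5a89) (.leaf (nat_lit 0x10f5a87) (nat_lit 2305))
 (.node (nat_lit 0x10f5a8b) (.leaf (nat_lit 0x10f5a89) (nat_lit 2561))
 (.leaf (nat_lit 0x10f5a8b) (nat_lit 2305))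
))) (.node (nat_lit 0x10f5a93) (.node (nat_lit 0x10f5a8f) (.leaf (nat_lit 0x10f5a8d) (nat_lit 2564))
 (.node (nat_lit 0x10f5a91) (.leaf (nat_lit 0x10f5a8f) (nat_lit 2564))
 (.leaf (nat_lit 0x10f5a91) (nat_lit 2560))
)) (.node (nat_lit 0x10f5a95) (.leaf (nat_lit 0x10f5a93) (nat_lit 2560))
 (.node (nat_lit 0x10f5a97) (.leaf (nat_lit 0x10f5a95) (nat_lit 1792))
 (.leaf (nat_lit 0x10f5a97) (nat_lit 2048))
))))))) (.node (nat_lit 0x10f604d) (.node (nat_lit 0x10f5b83) (.node (nat_lit 0x10f5b4d) (.node (nat_lit 0x10f5b43) (.node (nat_lit 0x10f5a9d) (.node (nat_lit 0x10f5a9b) (.leaf (nat_lit 0x10f5a99) (nat_lit 2820))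
 (.leaf (nat_lit 0x10f5a9b) (nat_lit 2820))
) (.node (nat_lit 0x10f5a9f) (.leaf (nat_lit 0x10f5a9d) (nat_lit 2564))
 (.node (nat_lit 0x10f5b41) (.leaf (nat_lit 0x10f5a9f) (nat_lit 2564))
 (.leaf (nat_lit 0x10f5b41) (nat_lit 2052))
))) (.node (nat_lit 0x10f5b47) (.node (nat_lit 0x10f5b45) (.leaf (nat_lit 0x10f5b43) (nat_lit 2308))
 (.leaf (nat_lit 0x10f5b45) (nat_lit 2308))
) (.node (nat_lit 0x10f5b49) (.leaf (nat_lit 0x10f5b47) (nat_lit 2564))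
 (.node (nat_lit 0x10f5b4b) (.leaf (nat_lit 0x10f5b49) (nat_lit 2561))
 (.leaf (nat_lit 0x10f5b4b) (nat_lit 2817))
)))) (.node (nat_lit 0x10f5b57) (.node (nat_lit 0x10f5b51) (.node (nat_lit 0x10f5b4f) (.leaf (nat_lit 0x10f5b4d) (nat_lit 2308))
 (.leaf (nat_lit 0x10f5b4f) (nat_lit 2564))
) (.node (nat_lit 0x10f5b53) (.leaf (nat_lit 0x10f5b51) (nat_lit 3072))
 (.node (nat_lit 0x10f5b55) (.leaf (nat_lit 0x10f5b53) (nat_lit 2816))
 (.leaf (nat_lit 0x10f5b55) (nat_lit 2820))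
))) (.node (nat_lit 0x10f5b5d) (.node (nat_lit 0x10f5b59) (.leaf (nat_lit 0x10f5b57) (nat_lit 2564))
 (.node (nat_lit 0x10f5b5b) (.leaf (nat_lit 0x10f5b59) (nat_lit 2564))
 (.leaf (nat_lit 0x10f5b5b) (nat_lit 2308))
)) (.node (nat_lit 0x10f5b5f) (.leaf (nat_lit 0x10f5b5d) (nat_lit 2820))
 (.node (nat_lit 0x10f5b81) (.leaf (nat_lit 0x10f5b5f) (nat_lit 2564))
 (.leaf (nat_lit 0x10f5b81) (nat_lit 1796))
))))) (.node (nat_lit 0x10f5b97) (.node (nat_lit 0x10f5b8d) (.node (nat_lit 0x10f5b87) (.node (nat_lit 0x10f5b85) (.leaf (nat_lit 0x10f5b83) (nat_lit 2052))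
 (.leaf (nat_lit 0x10f5b85) (nat_lit 2564))
) (.node (nat_lit 0x10f5b89) (.leaf (nat_lit 0x10f5b87) (nat_lit 2564))
 (.node (nat_lit 0x10f5b8b) (.leaf (nat_lit 0x10f5b89) (nat_lit 2305))
 (.leaf (nat_lit 0x10f5b8b) (nat_lit 2049))
))) (.node (nat_lit 0x10f5b91) (.node (nat_lit 0x10f5b8f) (.leaf (nat_lit 0x10f5b8d) (nat_lit 2817))
 (.leaf (nat_lit 0x10f5b8f) (nat_lit 2820))
) (.node (nat_lit 0x10f5b93) (.leaf (nat_lit 0x10f5b91) (nat_lit 3072))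
 (.node (nat_lit 0x10f5b95) (.leaf (nat_lit 0x10f5b93) (nat_lit 3076))
 (.leaf (nat_lit 0x10f5b95) (nat_lit 2560))
)))) (.node (nat_lit 0x10f6041) (.node (nat_lit 0x10f5b9b) (.node (nat_lit 0x10f5b99) (.leaf (nat_lit 0x10f5b97) (nat_lit 2304))
 (.leaf (nat_lit 0x10f5b99) (nat_lit 2820))
) (.node (nat_lit 0x10f5b9d) (.leaf (nat_lit 0x10f5b9b) (nat_lit 2820))
 (.node (nat_lit 0x10f5b9f) (.leaf (nat_lit 0x10f5b9d) (nat_lit 2052))
 (.leaf (nat_lit 0x10f5b9f) (nat_lit 2308))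
))) (.node (nat_lit 0x10f6047) (.node (nat_lit 0x10f6043) (.leaf (nat_lit 0x10f6041) (nat_lit 1026))
 (.node (nat_lit 0x10f6045) (.leaf (nat_lit 0x10f6043) (nat_lit 1282))
 (.leaf (nat_lit 0x10f6045) (nat_lit 1794))
)) (.node (nat_lit 0x10f6049) (.leaf (nat_lit 0x10f6047) (nat_lit 1794))
 (.node (nat_lit 0x10f604b) (.leaf (nat_lit 0x10f6049) (nat_lit 2562))
 (.leaf (nat_lit 0x10f604b) (nat_lit 2306))
)))))) (.node (nat_lit 0x10f6097) (.node (nat_lit 0x10f6081) (.node (nat_lit 0x10f6057) (.node (nat_lit 0x10f6051) (.node (nat_lit 0x10f604f) (.leaf (nat_lit 0x10f604d) (nat_lit 2306))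
 (.leaf (nat_lit 0x10f604f) (nat_lit 2306))
) (.node (nat_lit 0x10f6053) (.leaf (nat_lit 0x10f6051) (nat_lit 3073))
 (.node (nat_lit 0x10f6055) (.leaf (nat_lit 0x10f6053) (nat_lit 3329))
 (.leaf (nat_lit 0x10f6055) (nat_lit 2563))
))) (.node (nat_lit 0x10f605b) (.node (nat_lit 0x10f6059) (.leaf (nat_lit 0x10f6057) (nat_lit 2563))
 (.leaf (nat_lit 0x10f6059) (nat_lit 2049))
) (.node (nat_lit 0x10f605d) (.leaf (nat_lit 0x10f605b) (nat_lit 1793))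
 (.node (nat_lit 0x10f605f) (.leaf (nat_lit 0x10f605d) (nat_lit 2306))
 (.leaf (nat_lit 0x10f605f) (nat_lit 2306))
)))) (.node (nat_lit 0x10f608b) (.node (nat_lit 0x10f6085) (.node (nat_lit 0x10f6083) (.leaf (nat_lit 0x10f6081) (nat_lit 1282))
 (.leaf (nat_lit 0x10f6083) (nat_lit 1538))
) (.node (nat_lit 0x10f6087) (.leaf (nat_lit 0x10f6085) (nat_lit 1538))
 (.node (nat_lit 0x10f6089) (.leaf (nat_lit 0x10f6087) (nat_lit 1794))
 (.leaf (nat_lit 0x10f6089) (nat_lit 2818))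
))) (.node (nat_lit 0x10f6091) (.node (nat_lit 0x10f608d) (.leaf (nat_lit 0x10f608b) (nat_lit 2562))
 (.node (nat_lit 0x10f608f) (.leaf (nat_lit 0x10f608d) (nat_lit 2562))
 (.leaf (nat_lit 0x10f608f) (nat_lit 2562))
)) (.node (nat_lit 0x10f6093) (.leaf (nat_lit 0x10f6091) (nat_lit 3075))
 (.node (nat_lit 0x10f6095) (.leaf (nat_lit 0x10f6093) (nat_lit 2819))
 (.leaf (nat_lit 0x10f6095) (nat_lit 3331))
))))) (.node (nat_lit 0x10f614b) (.node (nat_lit 0x10f6141) (.node (nat_lit 0x10f609b) (.node (nat_lit 0x10f6099) (.leaf (nat_lit 0x10f6097) (nat_lit 3075))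
 (.leaf (nat_lit 0x10f6099) (nat_lit 2305))
) (.node (nat_lit 0x10f609d) (.leaf (nat_lit 0x10f609b) (nat_lit 2561))
 (.node (nat_lit 0x10f609f) (.leaf (nat_lit 0x10f609d) (nat_lit 2049))
 (.leaf (nat_lit 0x10f609f) (nat_lit 2305))
))) (.node (nat_lit 0x10f6145) (.node (nat_lit 0x10f6143) (.leaf (nat_lit 0x10f6141) (nat_lit 1794))
 (.leaf (nat_lit 0x10f6143) (nat_lit 2050))
) (.node (nat_lit 0x10f6147) (.leaf (nat_lit 0x10f6145) (nat_lit 2306))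
 (.node (nat_lit 0x10f6149) (.leaf (nat_lit 0x10f6147) (nat_lit 2050))
 (.leaf (nat_lit 0x10f6149) (nat_lit 2306))
)))) (.node (nat_lit 0x10f6155) (.node (nat_lit 0x10f614f) (.node (nat_lit 0x10f614d) (.leaf (nat_lit 0x10f614b) (nat_lit 2050))
 (.leaf (nat_lit 0x10f614d) (nat_lit 2306))
) (.node (nat_lit 0x10f6151) (.leaf (nat_lit 0x10f614f) (nat_lit 2562))
 (.node (nat_lit 0x10f6153) (.leaf (nat_lit 0x10f6151) (nat_lit 2817))
 (.leaf (nat_lit 0x10f6153) (nat_lit 2561))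
))) (.node (nat_lit 0x10f615b) (.node (nat_lit 0x10f6157) (.leaf (nat_lit 0x10f6155) (nat_lit 2817))
 (.node (nat_lit 0x10f6159) (.leaf (nat_lit 0x10f6157) (nat_lit 3073))
 (.leaf (nat_lit 0x10f6159) (nat_lit 2817))
)) (.node (nat_lit 0x10f615d) (.leaf (nat_lit 0x10f615b) (nat_lit 3073))
 (.node (nat_lit 0x10f615f) (.leaf (nat_lit 0x10f615d) (nat_lit 3075))
 (.leaf (nat_lit 0x10f615f) (nat_lit 3073))
))))))))) (.node (nat_lit 0x10f6ad1) (.node (nat_lit 0x10f6849) (.node (nat_lit 0x10f6295) (.node (nat_lit 0x10f624b) (.node (nat_lit 0x10f6195) (.node (nat_lit 0x10f618b) (.node (nat_lit 0x10f6185) (.node (nat_lit 0x10f6183) (.leaf (nat_lit 0x10f6181) (nat_lit 1794))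
 (.leaf (nat_lit 0x10f6183) (nat_lit 2050))
) (.node (nat_lit 0x10f6187) (.leaf (nat_lit 0x10f6185) (nat_lit 2306))
 (.node (nat_lit 0x10f6189) (.leaf (nat_lit 0x10f6187) (nat_lit 2306))
 (.leaf (nat_lit 0x10f6189) (nat_lit 2562))
))) (.node (nat_lit 0x10f618f) (.node (nat_lit 0x10f618d) (.leaf (nat_lit 0x10f618b) (nat_lit 2306))
 (.leaf (nat_lit 0x10f618d) (nat_lit 2050))
) (.node (nat_lit 0x10f6191) (.leaf (nat_lit 0x10f618f) (nat_lit 2306))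
 (.node (nat_lit 0x10f6193) (.leaf (nat_lit 0x10f6191) (nat_lit 3073))
 (.leaf (nat_lit 0x10f6193) (nat_lit 2817))
)))) (.node (nat_lit 0x10f619f) (.node (nat_lit 0x10f6199) (.node (nat_lit 0x10f6197) (.leaf (nat_lit 0x10f6195) (nat_lit 2563))
 (.leaf (nat_lit 0x10f6197) (nat_lit 2819))
) (.node (nat_lit 0x10f619b) (.leaf (nat_lit 0x10f6199) (nat_lit 2819))
 (.node (nat_lit 0x10f619d) (.leaf (nat_lit 0x10f619b) (nat_lit 2819))
 (.leaf (nat_lit 0x10f619d) (nat_lit 3329))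
))) (.node (nat_lit 0x10f6245) (.node (nat_lit 0x10f6241) (.leaf (nat_lit 0x10f619f) (nat_lit 3073))
 (.node (nat_lit 0x10f6243) (.leaf (nat_lit 0x10f6241) (nat_lit 2049))
 (.leaf (nat_lit 0x10f6243) (nat_lit 2305))
)) (.node (nat_lit 0x10f6247) (.leaf (nat_lit 0x10f6245) (nat_lit 2561))
 (.node (nat_lit 0x10f6249) (.leaf (nat_lit 0x10f6247) (nat_lit 2305))
 (.leaf (nat_lit 0x10f6249) (nat_lit 2561))
))))) (.node (nat_lit 0x10f625f) (.node (nat_lit 0x10f6255) (.node (nat_lit 0x10f624f) (.node (nat_lit 0x10f624d) (.leaf (nat_lit 0x10f624b) (nat_lit 2305))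
 (.leaf (nat_lit 0x10f624d) (nat_lit 2561))
) (.node (nat_lit 0x10f6251) (.leaf (nat_lit 0x10f624f) (nat_lit 2817))
 (.node (nat_lit 0x10f6253) (.leaf (nat_lit 0x10f6251) (nat_lit 2560))
 (.leaf (nat_lit 0x10f6253) (nat_lit 2304))
))) (.node (nat_lit 0x10f6259) (.node (nat_lit 0x10f6257) (.leaf (nat_lit 0x10f6255) (nat_lit 2560))
 (.leaf (nat_lit 0x10f6257) (nat_lit 2816))
) (.node (nat_lit 0x10f625b) (.leaf (nat_lit 0x10f6259) (nat_lit 2560))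
 (.node (nat_lit 0x10f625d) (.leaf (nat_lit 0x10f625b) (nat_lit 2816))
 (.leaf (nat_lit 0x10f625d) (nat_lit 3072))
)))) (.node (nat_lit 0x10f6289) (.node (nat_lit 0x10f6283) (.node (nat_lit 0x10f6281) (.leaf (nat_lit 0x10f625f) (nat_lit 2816))
 (.leaf (nat_lit 0x10f6281) (nat_lit 2051))
) (.node (nat_lit 0x10f6285) (.leaf (nat_lit 0x10f6283) (nat_lit 2307))
 (.node (nat_lit 0x10f6287) (.leaf (nat_lit 0x10f6285) (nat_lit 2561))
 (.leaf (nat_lit 0x10f6287) (nat_lit 2561))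
))) (.node (nat_lit 0x10f628f) (.node (nat_lit 0x10f628b) (.leaf (nat_lit 0x10f6289) (nat_lit 2817))
 (.node (nat_lit 0x10f628d) (.leaf (nat_lit 0x10f628b) (nat_lit 2561))
 (.leaf (nat_lit 0x10f628d) (nat_lit 2305))
)) (.node (nat_lit 0x10f6291) (.leaf (nat_lit 0x10f628f) (nat_lit 2561))
 (.node (nat_lit 0x10f6293) (.leaf (nat_lit 0x10f6291) (nat_lit 2818))
 (.leaf (nat_lit 0x10f6293) (nat_lit 2562))
)))))) (.node (nat_lit 0x10f635f) (.node (nat_lit 0x10f6349) (.node (nat_lit 0x10f629f) (.node (nat_lit 0x10f6299) (.node (nat_lit 0x10f6297) (.leaf (nat_lit 0x10f6295) (nat_lit 2307))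
 (.leaf (nat_lit 0x10f6297) (nat_lit 2563))
) (.node (nat_lit 0x10f629b) (.leaf (nat_lit 0x10f6299) (nat_lit 2560))
 (.node (nat_lit 0x10f629d) (.leaf (nat_lit 0x10f629b) (nat_lit 2816))
 (.leaf (nat_lit 0x10f629d) (nat_lit 3072))
))) (.node (nat_lit 0x10f6343) (.node (nat_lit 0x10f6341) (.leaf (nat_lit 0x10f629f) (nat_lit 2816))
 (.leaf (nat_lit 0x10f6341) (nat_lit 1281))
) (.node (nat_lit 0x10f6345) (.leaf (nat_lit 0x10f6343) (nat_lit 1537))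
 (.node (nat_lit 0x10f6347) (.leaf (nat_lit 0x10f6345) (nat_lit 2049))
 (.leaf (nat_lit 0x10f6347) (nat_lit 2049))
)))) (.node (nat_lit 0x10f6353) (.node (nat_lit 0x10f634d) (.node (nat_lit 0x10f634b) (.leaf (nat_lit 0x10f6349) (nat_lit 2817))
 (.leaf (nat_lit 0x10f634b) (nat_lit 2561))
) (.node (nat_lit 0x10f634f) (.leaf (nat_lit 0x10f634d) (nat_lit 2563))
 (.node (nat_lit 0x10f6351) (.leaf (nat_lit 0x10f634f) (nat_lit 2561))
 (.leaf (nat_lit 0x10f6351) (nat_lit 2816))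
))) (.node (nat_lit 0x10f6359) (.node (nat_lit 0x10f6355) (.leaf (nat_lit 0x10f6353) (nat_lit 3072))
 (.node (nat_lit 0x10f6357) (.leaf (nat_lit 0x10f6355) (nat_lit 2816))
 (.leaf (nat_lit 0x10f6357) (nat_lit 2819))
)) (.node (nat_lit 0x10f635b) (.leaf (nat_lit 0x10f6359) (nat_lit 1792))
 (.node (nat_lit 0x10f635d) (.leaf (nat_lit 0x10f635b) (nat_lit 1536))
 (.leaf (nat_lit 0x10f635d) (nat_lit 2304))
))))) (.node (nat_lit 0x10f6393) (.node (nat_lit 0x10f6389) (.node (nat_lit 0x10f6383) (.node (nat_lit 0x10f6381) (.leaf (nat_lit 0x10f635f) (nat_lit 2304))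
 (.leaf (nat_lit 0x10f6381) (nat_lit 1537))
) (.node (nat_lit 0x10f6385) (.leaf (nat_lit 0x10f6383) (nat_lit 1793))
 (.node (nat_lit 0x10f6387) (.leaf (nat_lit 0x10f6385) (nat_lit 1793))
 (.leaf (nat_lit 0x10f6387) (nat_lit 2049))
))) (.node (nat_lit 0x10f638d) (.node (nat_lit 0x10f638b) (.leaf (nat_lit 0x10f6389) (nat_lit 3073))
 (.leaf (nat_lit 0x10f638b) (nat_lit 2817))
) (.node (nat_lit 0x10f638f) (.leaf (nat_lit 0x10f638d) (nat_lit 2817))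
 (.node (nat_lit 0x10f6391) (.leaf (nat_lit 0x10f638f) (nat_lit 2817))
 (.leaf (nat_lit 0x10f6391) (nat_lit 3072))
)))) (.node (nat_lit 0x10f639d) (.node (nat_lit 0x10f6397) (.node (nat_lit 0x10f6395) (.leaf (nat_lit 0x10f6393) (nat_lit 3072))
 (.leaf (nat_lit 0x10f6395) (nat_lit 3328))
) (.node (nat_lit 0x10f6399) (.leaf (nat_lit 0x10f6397) (nat_lit 3072))
 (.node (nat_lit 0x10f639b) (.leaf (nat_lit 0x10f6399) (nat_lit 2048))
 (.leaf (nat_lit 0x10f639b) (nat_lit 2304))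
))) (.node (nat_lit 0x10f6843) (.node (nat_lit 0x10f639f) (.leaf (nat_lit 0x10f639d) (nat_lit 1792))
 (.node (nat_lit 0x10f6841) (.leaf (nat_lit 0x10f639f) (nat_lit 2048))
 (.leaf (nat_lit 0x10f6841) (nat_lit 1285))
)) (.node (nat_lit 0x10f6845) (.leaf (nat_lit 0x10f6843) (nat_lit 1541))
 (.node (nat_lit 0x10f6847) (.leaf (nat_lit 0x10f6845) (nat_lit 2053))
 (.leaf (nat_lit 0x10f6847) (nat_lit 2053))
))))))) (.node (nat_lit 0x10f691d) (.node (nat_lit 0x10f68d3) (.node (nat_lit 0x10f685d) (.node (nat_lit 0x10f6853) (.node (nat_lit 0x10f684d) (.node (nat_lit 0x10f684b) (.leaf (nat_lit 0x10f6849) (nat_lit 2562))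
 (.leaf (nat_lit 0x10f684b) (nat_lit 2565))
) (.node (nat_lit 0x10f684f) (.leaf (nat_lit 0x10f684d) (nat_lit 2564))
 (.node (nat_lit 0x10f6851) (.leaf (nat_lit 0x10f684f) (nat_lit 2565))
 (.leaf (nat_lit 0x10f6851) (nat_lit 3333))
))) (.node (nat_lit 0x10f6857) (.node (nat_lit 0x10f6855) (.leaf (nat_lit 0x10f6853) (nat_lit 3329))
 (.leaf (nat_lit 0x10f6855) (nat_lit 2821))
) (.node (nat_lit 0x10f6859) (.leaf (nat_lit 0x10f6857) (nat_lit 2821))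
 (.node (nat_lit 0x10f685b) (.leaf (nat_lit 0x10f6859) (nat_lit 2049))
 (.leaf (nat_lit 0x10f685b) (nat_lit 2053))
)))) (.node (nat_lit 0x10f68c7) (.node (nat_lit 0x10f68c1) (.node (nat_lit 0x10f685f) (.leaf (nat_lit 0x10f685d) (nat_lit 2308))
 (.leaf (nat_lit 0x10f685f) (nat_lit 2308))
) (.node (nat_lit 0x10f68c3) (.leaf (nat_lit 0x10f68c1) (nat_lit 1540))
 (.node (nat_lit 0x10f68c5) (.leaf (nat_lit 0x10f68c3) (nat_lit 1796))
 (.leaf (nat_lit 0x10f68c5) (nat_lit 2052))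
))) (.node (nat_lit 0x10f68cd) (.node (nat_lit 0x10f68c9) (.leaf (nat_lit 0x10f68c7) (nat_lit 1796))
 (.node (nat_lit 0x10f68cb) (.leaf (nat_lit 0x10f68c9) (nat_lit 2818))
 (.leaf (nat_lit 0x10f68cb) (nat_lit 2820))
)) (.node (nat_lit 0x10f68cf) (.leaf (nat_lit 0x10f68cd) (nat_lit 2818))
 (.node (nat_lit 0x10f68d1) (.leaf (nat_lit 0x10f68cf) (nat_lit 2820))
 (.leaf (nat_lit 0x10f68d1) (nat_lit 3588))
))))) (.node (nat_lit 0x10f6907) (.node (nat_lit 0x10f68dd) (.node (nat_lit 0x10f68d7) (.node (nat_lit 0x10f68d5) (.leaf (nat_lit 0x10f68d3) (nat_lit 3332))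
 (.leaf (nat_lit 0x10f68d5) (nat_lit 3333))
) (.node (nat_lit 0x10f68d9) (.leaf (nat_lit 0x10f68d7) (nat_lit 3589))
 (.node (nat_lit 0x10f68db) (.leaf (nat_lit 0x10f68d9) (nat_lit 2564))
 (.leaf (nat_lit 0x10f68db) (nat_lit 2308))
))) (.node (nat_lit 0x10f6901) (.node (nat_lit 0x10f68df) (.leaf (nat_lit 0x10f68dd) (nat_lit 2308))
 (.leaf (nat_lit 0x10f68df) (nat_lit 2564))
) (.node (nat_lit 0x10f6903) (.leaf (nat_lit 0x10f6901) (nat_lit 2050))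
 (.node (nat_lit 0x10f6905) (.leaf (nat_lit 0x10f6903) (nat_lit 2306))
 (.leaf (nat_lit 0x10f6905) (nat_lit 2562))
)))) (.node (nat_lit 0x10f6911) (.node (nat_lit 0x10f690b) (.node (nat_lit 0x10f6909) (.leaf (nat_lit 0x10f6907) (nat_lit 2818))
 (.leaf (nat_lit 0x10f6909) (nat_lit 2306))
) (.node (nat_lit 0x10f690d) (.leaf (nat_lit 0x10f690b) (nat_lit 2562))
 (.node (nat_lit 0x10f690f) (.leaf (nat_lit 0x10f690d) (nat_lit 2562))
 (.leaf (nat_lit 0x10f690f) (nat_lit 2818))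
))) (.node (nat_lit 0x10f6917) (.node (nat_lit 0x10f6913) (.leaf (nat_lit 0x10f6911) (nat_lit 3073))
 (.node (nat_lit 0x10f6915) (.leaf (nat_lit 0x10f6913) (nat_lit 2817))
 (.leaf (nat_lit 0x10f6915) (nat_lit 3329))
)) (.node (nat_lit 0x10f6919) (.leaf (nat_lit 0x10f6917) (nat_lit 3073))
 (.node (nat_lit 0x10f691b) (.leaf (nat_lit 0x10f6919) (nat_lit 3333))
 (.leaf (nat_lit 0x10f691b) (nat_lit 3077))
)))))) (.node (nat_lit 0x10f6a47) (.node (nat_lit 0x10f6991) (.node (nat_lit 0x10f6987) (.node (nat_lit 0x10f6981) (.node (nat_lit 0x10f691f) (.leaf (nat_lit 0x10f691d) (nat_lit 3331))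
 (.leaf (nat_lit 0x10f691f) (nat_lit 3333))
) (.node (nat_lit 0x10f6983) (.leaf (nat_lit 0x10f6981) (nat_lit 2052))
 (.node (nat_lit 0x10f6985) (.leaf (nat_lit 0x10f6983) (nat_lit 2308))
 (.leaf (nat_lit 0x10f6985) (nat_lit 2309))
))) (.node (nat_lit 0x10f698b) (.node (nat_lit 0x10f6989) (.leaf (nat_lit 0x10f6987) (nat_lit 2565))
 (.leaf (nat_lit 0x10f6989) (nat_lit 2565))
) (.node (nat_lit 0x10f698d) (.leaf (nat_lit 0x10f698b) (nat_lit 2821))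
 (.node (nat_lit 0x10f698f) (.leaf (nat_lit 0x10f698d) (nat_lit 2308))
 (.leaf (nat_lit 0x10f698f) (nat_lit 2564))
)))) (.node (nat_lit 0x10f699b) (.node (nat_lit 0x10f6995) (.node (nat_lit 0x10f6993) (.leaf (nat_lit 0x10f6991) (nat_lit 3329))
 (.leaf (nat_lit 0x10f6993) (nat_lit 3073))
) (.node (nat_lit 0x10f6997) (.leaf (nat_lit 0x10f6995) (nat_lit 3076))
 (.node (nat_lit 0x10f6999) (.leaf (nat_lit 0x10f6997) (nat_lit 2820))
 (.leaf (nat_lit 0x10f6999) (nat_lit 3077))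
))) (.node (nat_lit 0x10f6a41) (.node (nat_lit 0x10f699d) (.leaf (nat_lit 0x10f699b) (nat_lit 2821))
 (.node (nat_lit 0x10f699f) (.leaf (nat_lit 0x10f699d) (nat_lit 3333))
 (.leaf (nat_lit 0x10f699f) (nat_lit 3077))
)) (.node (nat_lit 0x10f6a43) (.leaf (nat_lit 0x10f6a41) (nat_lit 2309))
 (.node (nat_lit 0x10f6a45) (.leaf (nat_lit 0x10f6a43) (nat_lit 2565))
 (.leaf (nat_lit 0x10f6a45) (nat_lit 2565))
))))) (.node (nat_lit 0x10f6a5b) (.node (nat_lit 0x10f6a51) (.node (nat_lit 0x10f6a4b) (.node (nat_lit 0x10f6a49) (.leaf (nat_lit 0x10f6a47) (nat_lit 2821))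
 (.leaf (nat_lit 0x10f6a49) (nat_lit 2561))
) (.node (nat_lit 0x10f6a4d) (.leaf (nat_lit 0x10f6a4b) (nat_lit 2817))
 (.node (nat_lit 0x10f6a4f) (.leaf (nat_lit 0x10f6a4d) (nat_lit 2817))
 (.leaf (nat_lit 0x10f6a4f) (nat_lit 3073))
))) (.node (nat_lit 0x10f6a55) (.node (nat_lit 0x10f6a53) (.leaf (nat_lit 0x10f6a51) (nat_lit 2821))
 (.leaf (nat_lit 0x10f6a53) (nat_lit 2565))
) (.node (nat_lit 0x10f6a57) (.leaf (nat_lit 0x10f6a55) (nat_lit 3077))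
 (.node (nat_lit 0x10f6a59) (.leaf (nat_lit 0x10f6a57) (nat_lit 2821))
 (.leaf (nat_lit 0x10f6a59) (nat_lit 3072))
)))) (.node (nat_lit 0x10f6ac5) (.node (nat_lit 0x10f6a5f) (.node (nat_lit 0x10f6a5d) (.leaf (nat_lit 0x10f6a5b) (nat_lit 2816))
 (.leaf (nat_lit 0x10f6a5d) (nat_lit 3332))
) (.node (nat_lit 0x10f6ac1) (.leaf (nat_lit 0x10f6a5f) (nat_lit 3076))
 (.node (nat_lit 0x10f6ac3) (.leaf (nat_lit 0x10f6ac1) (nat_lit 2308))
 (.leaf (nat_lit 0x10f6ac3) (nat_lit 2564))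
))) (.node (nat_lit 0x10f6acb) (.node (nat_lit 0x10f6ac7) (.leaf (nat_lit 0x10f6ac5) (nat_lit 2561))
 (.node (nat_lit 0x10f6ac9) (.leaf (nat_lit 0x10f6ac7) (nat_lit 2817))
 (.leaf (nat_lit 0x10f6ac9) (nat_lit 2817))
)) (.node (nat_lit 0x10f6acd) (.leaf (nat_lit 0x10f6acb) (nat_lit 3073))
 (.node (nat_lit 0x10f6acf) (.leaf (nat_lit 0x10f6acd) (nat_lit 2564))
 (.leaf (nat_lit 0x10f6acf) (nat_lit 2820))
)))))))) (.node (nat_lit 0x10f7119) (.node (nat_lit 0x10f7085) (.node (nat_lit 0x10f6b1b) (.node (nat_lit 0x10f6b05) (.node (nat_lit 0x10f6adb) (.node (nat_lit 0x10f6ad5) (.node (nat_lit 0x10f6ad3) (.leaf (nat_lit 0x10f6ad1) (nat_lit 3072))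
 (.leaf (nat_lit 0x10f6ad3) (nat_lit 2816))
) (.node (nat_lit 0x10f6ad7) (.leaf (nat_lit 0x10f6ad5) (nat_lit 2820))
 (.node (nat_lit 0x10f6ad9) (.leaf (nat_lit 0x10f6ad7) (nat_lit 2564))
 (.leaf (nat_lit 0x10f6ad9) (nat_lit 3076))
))) (.node (nat_lit 0x10f6adf) (.node (nat_lit 0x10f6add) (.leaf (nat_lit 0x10f6adb) (nat_lit 2820))
 (.leaf (nat_lit 0x10f6add) (nat_lit 3332))
) (.node (nat_lit 0x10f6b01) (.leaf (nat_lit 0x10f6adf) (nat_lit 3076))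
 (.node (nat_lit 0x10f6b03) (.leaf (nat_lit 0x10f6b01) (nat_lit 1537))
 (.leaf (nat_lit 0x10f6b03) (nat_lit 1793))
)))) (.node (nat_lit 0x10f6b0f) (.node (nat_lit 0x10f6b09) (.node (nat_lit 0x10f6b07) (.leaf (nat_lit 0x10f6b05) (nat_lit 2305))
 (.leaf (nat_lit 0x10f6b07) (nat_lit 2305))
) (.node (nat_lit 0x10f6b0b) (.leaf (nat_lit 0x10f6b09) (nat_lit 2817))
 (.node (nat_lit 0x10f6b0d) (.leaf (nat_lit 0x10f6b0b) (nat_lit 2817))
 (.leaf (nat_lit 0x10f6b0d) (nat_lit 2820))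
))) (.node (nat_lit 0x10f6b15) (.node (nat_lit 0x10f6b11) (.leaf (nat_lit 0x10f6b0f) (nat_lit 2817))
 (.node (nat_lit 0x10f6b13) (.leaf (nat_lit 0x10f6b11) (nat_lit 3072))
 (.leaf (nat_lit 0x10f6b13) (nat_lit 3072))
)) (.node (nat_lit 0x10f6b17) (.leaf (nat_lit 0x10f6b15) (nat_lit 3073))
 (.node (nat_lit 0x10f6b19) (.leaf (nat_lit 0x10f6b17) (nat_lit 3072))
 (.leaf (nat_lit 0x10f6b19) (nat_lit 1792))
))))) (.node (nat_lit 0x10f6b8f) (.node (nat_lit 0x10f6b85) (.node (nat_lit 0x10f6b1f) (.node (nat_lit 0x10f6b1d) (.leaf (nat_lit 0x10f6b1b) (nat_lit 2048))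
 (.leaf (nat_lit 0x10f6b1d) (nat_lit 2564))
) (.node (nat_lit 0x10f6b81) (.leaf (nat_lit 0x10f6b1f) (nat_lit 2560))
 (.node (nat_lit 0x10f6b83) (.leaf (nat_lit 0x10f6b81) (nat_lit 1796))
 (.leaf (nat_lit 0x10f6b83) (nat_lit 2052))
))) (.node (nat_lit 0x10f6b89) (.node (nat_lit 0x10f6b87) (.leaf (nat_lit 0x10f6b85) (nat_lit 2308))
 (.leaf (nat_lit 0x10f6b87) (nat_lit 2052))
) (.node (nat_lit 0x10f6b8b) (.leaf (nat_lit 0x10f6b89) (nat_lit 3075))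
 (.node (nat_lit 0x10f6b8d) (.leaf (nat_lit 0x10f6b8b) (nat_lit 3076))
 (.leaf (nat_lit 0x10f6b8d) (nat_lit 3073))
)))) (.node (nat_lit 0x10f6b99) (.node (nat_lit 0x10f6b93) (.node (nat_lit 0x10f6b91) (.leaf (nat_lit 0x10f6b8f) (nat_lit 3076))
 (.leaf (nat_lit 0x10f6b91) (nat_lit 3328))
) (.node (nat_lit 0x10f6b95) (.leaf (nat_lit 0x10f6b93) (nat_lit 3332))
 (.node (nat_lit 0x10f6b97) (.leaf (nat_lit 0x10f6b95) (nat_lit 3333))
 (.leaf (nat_lit 0x10f6b97) (nat_lit 3332))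
))) (.node (nat_lit 0x10f6b9f) (.node (nat_lit 0x10f6b9b) (.leaf (nat_lit 0x10f6b99) (nat_lit 2564))
 (.node (nat_lit 0x10f6b9d) (.leaf (nat_lit 0x10f6b9b) (nat_lit 2308))
 (.leaf (nat_lit 0x10f6b9d) (nat_lit 2052))
)) (.node (nat_lit 0x10f7081) (.leaf (nat_lit 0x10f6b9f) (nat_lit 2308))
 (.node (nat_lit 0x10f7083) (.leaf (nat_lit 0x10f7081) (nat_lit 1541))
 (.leaf (nat_lit 0x10f7083) (nat_lit 1797))
)))))) (.node (nat_lit 0x10f70cf) (.node (nat_lit 0x10f7099) (.node (nat_lit 0x10f708f) (.node (nat_lit 0x10f7089) (.node (nat_lit 0x10f7087) (.leaf (nat_lit 0x10f7085) (nat_lit 1797))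
 (.leaf (nat_lit 0x10f7087) (nat_lit 2053))
) (.node (nat_lit 0x10f708b) (.leaf (nat_lit 0x10f7089) (nat_lit 2818))
 (.node (nat_lit 0x10f708d) (.leaf (nat_lit 0x10f708b) (nat_lit 2818))
 (.leaf (nat_lit 0x10f708d) (nat_lit 2821))
))) (.node (nat_lit 0x10f7093) (.node (nat_lit 0x10f7091) (.leaf (nat_lit 0x10f708f) (nat_lit 2821))
 (.leaf (nat_lit 0x10f7091) (nat_lit 3333))
) (.node (nat_lit 0x10f7095) (.leaf (nat_lit 0x10f7093) (nat_lit 3077))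
 (.node (nat_lit 0x10f7097) (.leaf (nat_lit 0x10f7095) (nat_lit 3331))
 (.leaf (nat_lit 0x10f7097) (nat_lit 3075))
)))) (.node (nat_lit 0x10f70c3) (.node (nat_lit 0x10f709d) (.node (nat_lit 0x10f709b) (.leaf (nat_lit 0x10f7099) (nat_lit 2305))
 (.leaf (nat_lit 0x10f709b) (nat_lit 2561))
) (.node (nat_lit 0x10f709f) (.leaf (nat_lit 0x10f709d) (nat_lit 2309))
 (.node (nat_lit 0x10f70c1) (.leaf (nat_lit 0x10f709f) (nat_lit 2565))
 (.leaf (nat_lit 0x10f70c1) (nat_lit 1538))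
))) (.node (nat_lit 0x10f70c9) (.node (nat_lit 0x10f70c5) (.leaf (nat_lit 0x10f70c3) (nat_lit 1794))
 (.node (nat_lit 0x10f70c7) (.leaf (nat_lit 0x10f70c5) (nat_lit 2050))
 (.leaf (nat_lit 0x10f70c7) (nat_lit 1794))
)) (.node (nat_lit 0x10f70cb) (.leaf (nat_lit 0x10f70c9) (nat_lit 2818))
 (.node (nat_lit 0x10f70cd) (.leaf (nat_lit 0x10f70cb) (nat_lit 2818))
 (.leaf (nat_lit 0x10f70cd) (nat_lit 3074))
))))) (.node (nat_lit 0x10f7103) (.node (nat_lit 0x10f70d9) (.node (nat_lit 0x10f70d3) (.node (nat_lit 0x10f70d1) (.leaf (nat_lit 0x10f70cf) (nat_lit 2818))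
 (.leaf (nat_lit 0x10f70d1) (nat_lit 3331))
) (.node (nat_lit 0x10f70d5) (.leaf (nat_lit 0x10f70d3) (nat_lit 3075))
 (.node (nat_lit 0x10f70d7) (.leaf (nat_lit 0x10f70d5) (nat_lit 3075))
 (.leaf (nat_lit 0x10f70d7) (nat_lit 3331))
))) (.node (nat_lit 0x10f70dd) (.node (nat_lit 0x10f70db) (.leaf (nat_lit 0x10f70d9) (nat_lit 2561))
 (.leaf (nat_lit 0x10f70db) (nat_lit 2305))
) (.node (nat_lit 0x10f70df) (.leaf (nat_lit 0x10f70dd) (nat_lit 2561))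
 (.node (nat_lit 0x10f7101) (.leaf (nat_lit 0x10f70df) (nat_lit 2817))
 (.leaf (nat_lit 0x10f7101) (nat_lit 2050))
)))) (.node (nat_lit 0x10f710d) (.node (nat_lit 0x10f7107) (.node (nat_lit 0x10f7105) (.leaf (nat_lit 0x10f7103) (nat_lit 2306))
 (.leaf (nat_lit 0x10f7105) (nat_lit 2562))
) (.node (nat_lit 0x10f7109) (.leaf (nat_lit 0x10f7107) (nat_lit 2562))
 (.node (nat_lit 0x10f710b) (.leaf (nat_lit 0x10f7109) (nat_lit 2306))
 (.leaf (nat_lit 0x10f710b) (nat_lit 2306))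
))) (.node (nat_lit 0x10f7113) (.node (nat_lit 0x10f710f) (.leaf (nat_lit 0x10f710d) (nat_lit 2818))
 (.node (nat_lit 0x10f7111) (.leaf (nat_lit 0x10f710f) (nat_lit 2818))
 (.leaf (nat_lit 0x10f7111) (nat_lit 3329))
)) (.node (nat_lit 0x10f7115) (.leaf (nat_lit 0x10f7113) (nat_lit 3329))
 (.node (nat_lit 0x10f7117) (.leaf (nat_lit 0x10f7115) (nat_lit 2561))
 (.leaf (nat_lit 0x10f7117) (nat_lit 2817))
))))))) (.node (nat_lit 0x10f72cd) (.node (nat_lit 0x10f7283) (.node (nat_lit 0x10f714d) (.node (nat_lit 0x10f7143) (.node (nat_lit 0x10f711d) (.node (nat_lit 0x10f711b) (.leaf (nat_lit 0x10f7119) (nat_lit 3587))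
 (.leaf (nat_lit 0x10f711b) (nat_lit 3331))
) (.node (nat_lit 0x10f711f) (.leaf (nat_lit 0x10f711d) (nat_lit 2816))
 (.node (nat_lit 0x10f7141) (.leaf (nat_lit 0x10f711f) (nat_lit 3072))
 (.leaf (nat_lit 0x10f7141) (nat_lit 1794))
))) (.node (nat_lit 0x10f7147) (.node (nat_lit 0x10f7145) (.leaf (nat_lit 0x10f7143) (nat_lit 2050))
 (.leaf (nat_lit 0x10f7145) (nat_lit 2565))
) (.node (nat_lit 0x10f7149) (.leaf (nat_lit 0x10f7147) (nat_lit 2562))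
 (.node (nat_lit 0x10f714b) (.leaf (nat_lit 0x10f7149) (nat_lit 2306))
 (.leaf (nat_lit 0x10f714b) (nat_lit 2050))
)))) (.node (nat_lit 0x10f7157) (.node (nat_lit 0x10f7151) (.node (nat_lit 0x10f714f) (.leaf (nat_lit 0x10f714d) (nat_lit 2818))
 (.leaf (nat_lit 0x10f714f) (nat_lit 2821))
) (.node (nat_lit 0x10f7153) (.leaf (nat_lit 0x10f7151) (nat_lit 3329))
 (.node (nat_lit 0x10f7155) (.leaf (nat_lit 0x10f7153) (nat_lit 3331))
 (.leaf (nat_lit 0x10f7155) (nat_lit 2817))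
))) (.node (nat_lit 0x10f715d) (.node (nat_lit 0x10f7159) (.leaf (nat_lit 0x10f7157) (nat_lit 2561))
 (.node (nat_lit 0x10f715b) (.leaf (nat_lit 0x10f7159) (nat_lit 3333))
 (.leaf (nat_lit 0x10f715b) (nat_lit 3333))
)) (.node (nat_lit 0x10f715f) (.leaf (nat_lit 0x10f715d) (nat_lit 2565))
 (.node (nat_lit 0x10f7281) (.leaf (nat_lit 0x10f715f) (nat_lit 2821))
 (.leaf (nat_lit 0x10f7281) (nat_lit 2053))
))))) (.node (nat_lit 0x10f7297) (.node (nat_lit 0x10f728d) (.node (nat_lit 0x10f7287) (.node (nat_lit 0x10f7285) (.leaf (nat_lit 0x10f7283) (nat_lit 2309))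
 (.leaf (nat_lit 0x10f7285) (nat_lit 2821))
) (.node (nat_lit 0x10f7289) (.leaf (nat_lit 0x10f7287) (nat_lit 2821))
 (.node (nat_lit 0x10f728b) (.leaf (nat_lit 0x10f7289) (nat_lit 2561))
 (.leaf (nat_lit 0x10f728b) (nat_lit 2561))
))) (.node (nat_lit 0x10f7291) (.node (nat_lit 0x10f728f) (.leaf (nat_lit 0x10f728d) (nat_lit 3077))
 (.leaf (nat_lit 0x10f728f) (nat_lit 3073))
) (.node (nat_lit 0x10f7293) (.leaf (nat_lit 0x10f7291) (nat_lit 3077))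
 (.node (nat_lit 0x10f7295) (.leaf (nat_lit 0x10f7293) (nat_lit 3077))
 (.leaf (nat_lit 0x10f7295) (nat_lit 2309))
)))) (.node (nat_lit 0x10f72c1) (.node (nat_lit 0x10f729b) (.node (nat_lit 0x10f7299) (.leaf (nat_lit 0x10f7297) (nat_lit 2565))
 (.leaf (nat_lit 0x10f7299) (nat_lit 3333))
) (.node (nat_lit 0x10f729d) (.leaf (nat_lit 0x10f729b) (nat_lit 3328))
 (.node (nat_lit 0x10f729f) (.leaf (nat_lit 0x10f729d) (nat_lit 2821))
 (.leaf (nat_lit 0x10f729f) (nat_lit 2816))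
))) (.node (nat_lit 0x10f72c7) (.node (nat_lit 0x10f72c3) (.leaf (nat_lit 0x10f72c1) (nat_lit 2049))
 (.node (nat_lit 0x10f72c5) (.leaf (nat_lit 0x10f72c3) (nat_lit 2305))
 (.leaf (nat_lit 0x10f72c5) (nat_lit 2817))
)) (.node (nat_lit 0x10f72c9) (.leaf (nat_lit 0x10f72c7) (nat_lit 2817))
 (.node (nat_lit 0x10f72cb) (.leaf (nat_lit 0x10f72c9) (nat_lit 2561))
 (.leaf (nat_lit 0x10f72cb) (nat_lit 2305))
)))))) (.node (nat_lit 0x10f7317) (.node (nat_lit 0x10f7301) (.node (nat_lit 0x10f72d7) (.node (nat_lit 0x10f72d1) (.node (nat_lit 0x10f72cf) (.leaf (nat_lit 0x10f72cd) (nat_lit 3073))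
 (.leaf (nat_lit 0x10f72cf) (nat_lit 3074))
) (.node (nat_lit 0x10f72d3) (.leaf (nat_lit 0x10f72d1) (nat_lit 3072))
 (.node (nat_lit 0x10f72d5) (.leaf (nat_lit 0x10f72d3) (nat_lit 3072))
 (.leaf (nat_lit 0x10f72d5) (nat_lit 2560))
))) (.node (nat_lit 0x10f72db) (.node (nat_lit 0x10f72d9) (.leaf (nat_lit 0x10f72d7) (nat_lit 2304))
 (.leaf (nat_lit 0x10f72d9) (nat_lit 3330))
) (.node (nat_lit 0x10f72dd) (.leaf (nat_lit 0x10f72db) (nat_lit 3328))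
 (.node (nat_lit 0x10f72df) (.leaf (nat_lit 0x10f72dd) (nat_lit 2560))
 (.leaf (nat_lit 0x10f72df) (nat_lit 2816))
)))) (.node (nat_lit 0x10f730b) (.node (nat_lit 0x10f7305) (.node (nat_lit 0x10f7303) (.leaf (nat_lit 0x10f7301) (nat_lit 1793))
 (.leaf (nat_lit 0x10f7303) (nat_lit 2049))
) (.node (nat_lit 0x10f7307) (.leaf (nat_lit 0x10f7305) (nat_lit 2049))
 (.node (nat_lit 0x10f7309) (.leaf (nat_lit 0x10f7307) (nat_lit 2305))
 (.leaf (nat_lit 0x10f7309) (nat_lit 3073))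
))) (.node (nat_lit 0x10f7311) (.node (nat_lit 0x10f730d) (.leaf (nat_lit 0x10f730b) (nat_lit 3075))
 (.node (nat_lit 0x10f730f) (.leaf (nat_lit 0x10f730d) (nat_lit 3073))
 (.leaf (nat_lit 0x10f730f) (nat_lit 3073))
)) (.node (nat_lit 0x10f7313) (.leaf (nat_lit 0x10f7311) (nat_lit 3328))
 (.node (nat_lit 0x10f7315) (.leaf (nat_lit 0x10f7313) (nat_lit 3331))
 (.leaf (nat_lit 0x10f7315) (nat_lit 3330))
))))) (.node (nat_lit 0x10f734b) (.node (nat_lit 0x10f7341) (.node (nat_lit 0x10f731b) (.node (nat_lit 0x10f7319) (.leaf (nat_lit 0x10f7317) (nat_lit 3328))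
 (.leaf (nat_lit 0x10f7319) (nat_lit 2048))
) (.node (nat_lit 0x10f731d) (.leaf (nat_lit 0x10f731b) (nat_lit 2304))
 (.node (nat_lit 0x10f731f) (.leaf (nat_lit 0x10f731d) (nat_lit 2304))
 (.leaf (nat_lit 0x10f731f) (nat_lit 2560))
))) (.node (nat_lit 0x10f7345) (.node (nat_lit 0x10f7343) (.leaf (nat_lit 0x10f7341) (nat_lit 1797))
 (.leaf (nat_lit 0x10f7343) (nat_lit 2053))
) (.node (nat_lit 0x10f7347) (.leaf (nat_lit 0x10f7345) (nat_lit 2309))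
 (.node (nat_lit 0x10f7349) (.leaf (nat_lit 0x10f7347) (nat_lit 2053))
 (.leaf (nat_lit 0x10f7349) (nat_lit 3075))
)))) (.node (nat_lit 0x10f7355) (.node (nat_lit 0x10f734f) (.node (nat_lit 0x10f734d) (.leaf (nat_lit 0x10f734b) (nat_lit 3077))
 (.leaf (nat_lit 0x10f734d) (nat_lit 3077))
) (.node (nat_lit 0x10f7351) (.leaf (nat_lit 0x10f734f) (nat_lit 3073))
 (.node (nat_lit 0x10f7353) (.leaf (nat_lit 0x10f7351) (nat_lit 3333))
 (.leaf (nat_lit 0x10f7353) (nat_lit 3331))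
))) (.node (nat_lit 0x10f735b) (.node (nat_lit 0x10f7357) (.leaf (nat_lit 0x10f7355) (nat_lit 3328))
 (.node (nat_lit 0x10f7359) (.leaf (nat_lit 0x10f7357) (nat_lit 3330))
 (.leaf (nat_lit 0x10f7359) (nat_lit 2309))
)) (.node (nat_lit 0x10f735d) (.leaf (nat_lit 0x10f735b) (nat_lit 2053))
 (.node (nat_lit 0x10f735f) (.leaf (nat_lit 0x10f735d) (nat_lit 2309))
 (.leaf (nat_lit 0x10f735f) (nat_lit 2565))
)))))))))))))))

theorem H_ok : genOK A [(nat_lit 0x1041043), (nat_lit 0x10410c1), (nat_lit 0x1043041), (nat_lit 0x10c1041), (nat_lit 0x1061041), (nat_lit 0x1041841)] H_t (nat_lit 21504) = true := by decide +kernel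

noncomputable def T_t : ST :=
(.node (nat_lit 0x10c1041) (.node (nat_lit 0x1045041) (.node (nat_lit 0x1043041) (.node (nat_lit 0x1041241) (.node (nat_lit 0x1041141) (.node (nat_lit 0x10410c1) (.node (nat_lit 0x1041051) (.node (nat_lit 0x1041049) (.node (nat_lit 0x1041045) (.node (nat_lit 0x1041043) (.leaf (nat_lit 0x1041041) (nat_lit 0))
 (.leaf (nat_lit 0x1041043) (nat_lit 256))
) (.node (nat_lit 0x1041047) (.leaf (nat_lit 0x1041045) (nat_lit 1025))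
 (.leaf (nat_lit 0x1041047) (nat_lit 769))
)) (.node (nat_lit 0x104104d) (.node (nat_lit 0x104104b) (.leaf (nat_lit 0x1041049) (nat_lit 2049))
 (.leaf (nat_lit 0x104104b) (nat_lit 1793))
) (.node (nat_lit 0x104104f) (.leaf (nat_lit 0x104104d) (nat_lit 1538))
 (.leaf (nat_lit 0x104104f) (nat_lit 1282))
))) (.node (nat_lit 0x1041059) (.node (nat_lit 0x1041055) (.node (nat_lit 0x1041053) (.leaf (nat_lit 0x1041051) (nat_lit 3073))
 (.leaf (nat_lit 0x1041053) (nat_lit 2817))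
) (.node (nat_lit 0x1041057) (.leaf (nat_lit 0x1041055) (nat_lit 2562))
 (.leaf (nat_lit 0x1041057) (nat_lit 2306))
)) (.node (nat_lit 0x104105d) (.node (nat_lit 0x104105b) (.leaf (nat_lit 0x1041059) (nat_lit 2563))
 (.leaf (nat_lit 0x104105b) (nat_lit 2307))
) (.node (nat_lit 0x104105f) (.leaf (nat_lit 0x104105d) (nat_lit 2051))
 (.leaf (nat_lit 0x104105f) (nat_lit 1795))
)))) (.node (nat_lit 0x10410d1) (.node (nat_lit 0x10410c9) (.node (nat_lit 0x10410c5) (.node (nat_lit 0x10410c3) (.leaf (nat_lit 0x10410c1) (nat_lit 257))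
 (.leaf (nat_lit 0x10410c3) (nat_lit 513))
) (.node (nat_lit 0x10410c7) (.leaf (nat_lit 0x10410c5) (nat_lit 768))
 (.leaf (nat_lit 0x10410c7) (nat_lit 512))
)) (.node (nat_lit 0x10410cd) (.node (nat_lit 0x10410cb) (.leaf (nat_lit 0x10410c9) (nat_lit 1794))
 (.leaf (nat_lit 0x10410cb) (nat_lit 1538))
) (.node (nat_lit 0x10410cf) (.leaf (nat_lit 0x10410cd) (nat_lit 1793))
 (.leaf (nat_lit 0x10410cf) (nat_lit 1537))
))) (.node (nat_lit 0x10410d9) (.node (nat_lit 0x10410d5) (.node (nat_lit 0x10410d3) (.leaf (nat_lit 0x10410d1) (nat_lit 2818))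
 (.leaf (nat_lit 0x10410d3) (nat_lit 2562))
) (.node (nat_lit 0x10410d7) (.leaf (nat_lit 0x10410d5) (nat_lit 2817))
 (.leaf (nat_lit 0x10410d7) (nat_lit 2561))
)) (.node (nat_lit 0x10410dd) (.node (nat_lit 0x10410db) (.leaf (nat_lit 0x10410d9) (nat_lit 2307))
 (.leaf (nat_lit 0x10410db) (nat_lit 2051))
) (.node (nat_lit 0x10410df) (.leaf (nat_lit 0x10410dd) (nat_lit 2307))
 (.leaf (nat_lit 0x10410df) (nat_lit 2051))
))))) (.node (nat_lit 0x10411c1) (.node (nat_lit 0x1041151) (.node (nat_lit 0x1041149) (.node (nat_lit 0x1041145) (.node (nat_lit 0x1041143) (.leaf (nat_lit 0x1041141) (nat_lit 1026))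
 (.leaf (nat_lit 0x1041143) (nat_lit 1282))
) (.node (nat_lit 0x1041147) (.leaf (nat_lit 0x1041145) (nat_lit 1538))
 (.leaf (nat_lit 0x1041147) (nat_lit 1282))
)) (.node (nat_lit 0x104114d) (.node (nat_lit 0x104114b) (.leaf (nat_lit 0x1041149) (nat_lit 1538))
 (.leaf (nat_lit 0x104114b) (nat_lit 1282))
) (.node (nat_lit 0x104114f) (.leaf (nat_lit 0x104114d) (nat_lit 1537))
 (.leaf (nat_lit 0x104114f) (nat_lit 1281))
))) (.node (nat_lit 0x1041159) (.node (nat_lit 0x1041155) (.node (nat_lit 0x1041153) (.leaf (nat_lit 0x1041151) (nat_lit 3074))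
 (.leaf (nat_lit 0x1041153) (nat_lit 2818))
) (.node (nat_lit 0x1041157) (.leaf (nat_lit 0x1041155) (nat_lit 3075))
 (.leaf (nat_lit 0x1041157) (nat_lit 2819))
)) (.node (nat_lit 0x104115d) (.node (nat_lit 0x104115b) (.leaf (nat_lit 0x1041159) (nat_lit 3074))
 (.leaf (nat_lit 0x104115b) (nat_lit 2818))
) (.node (nat_lit 0x104115f) (.leaf (nat_lit 0x104115d) (nat_lit 3074))
 (.leaf (nat_lit 0x104115f) (nat_lit 2818))
)))) (.node (nat_lit 0x10411d1) (.node (nat_lit 0x10411c9) (.node (nat_lit 0x10411c5) (.node (nat_lit 0x10411c3) (.leaf (nat_lit 0x10411c1) (nat_lit 770))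
 (.leaf (nat_lit 0x10411c3) (nat_lit 1026))
) (.node (nat_lit 0x10411c7) (.leaf (nat_lit 0x10411c5) (nat_lit 1794))
 (.leaf (nat_lit 0x10411c7) (nat_lit 1538))
)) (.node (nat_lit 0x10411cd) (.node (nat_lit 0x10411cb) (.leaf (nat_lit 0x10411c9) (nat_lit 1793))
 (.leaf (nat_lit 0x10411cb) (nat_lit 1537))
) (.node (nat_lit 0x10411cf) (.leaf (nat_lit 0x10411cd) (nat_lit 1282))
 (.leaf (nat_lit 0x10411cf) (nat_lit 1026))
))) (.node (nat_lit 0x10411d9) (.node (nat_lit 0x10411d5) (.node (nat_lit 0x10411d3) (.leaf (nat_lit 0x10411d1) (nat_lit 2819))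
 (.leaf (nat_lit 0x10411d3) (nat_lit 2563))
) (.node (nat_lit 0x10411d7) (.leaf (nat_lit 0x10411d5) (nat_lit 2818))
 (.leaf (nat_lit 0x10411d7) (nat_lit 2562))
)) (.node (nat_lit 0x10411dd) (.node (nat_lit 0x10411db) (.leaf (nat_lit 0x10411d9) (nat_lit 2818))
 (.leaf (nat_lit 0x10411db) (nat_lit 2562))
) (.node (nat_lit 0x10411df) (.leaf (nat_lit 0x10411dd) (nat_lit 2818))
 (.leaf (nat_lit 0x10411df) (nat_lit 2562))
)))))) (.node (nat_lit 0x1041341) (.node (nat_lit 0x10412c1) (.node (nat_lit 0x1041251) (.node (nat_lit 0x1041249) (.node (nat_lit 0x1041245) (.node (nat_lit 0x1041243) (.leaf (nat_lit 0x1041241) (nat_lit 2050))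
 (.leaf (nat_lit 0x1041243) (nat_lit 2306))
) (.node (nat_lit 0x1041247) (.leaf (nat_lit 0x1041245) (nat_lit 2562))
 (.leaf (nat_lit 0x1041247) (nat_lit 2306))
)) (.node (nat_lit 0x104124d) (.node (nat_lit 0x104124b) (.leaf (nat_lit 0x1041249) (nat_lit 3074))
 (.leaf (nat_lit 0x104124b) (nat_lit 2818))
) (.node (nat_lit 0x104124f) (.leaf (nat_lit 0x104124d) (nat_lit 2563))
 (.leaf (nat_lit 0x104124f) (nat_lit 2307))
))) (.node (nat_lit 0x1041259) (.node (nat_lit 0x1041255) (.node (nat_lit 0x1041253) (.leaf (nat_lit 0x1041251) (nat_lit 2562))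
 (.leaf (nat_lit 0x1041253) (nat_lit 2306))
) (.node (nat_lit 0x1041257) (.leaf (nat_lit 0x1041255) (nat_lit 2561))
 (.leaf (nat_lit 0x1041257) (nat_lit 2305))
)) (.node (nat_lit 0x104125d) (.node (nat_lit 0x104125b) (.leaf (nat_lit 0x1041259) (nat_lit 3074))
 (.leaf (nat_lit 0x104125b) (nat_lit 2818))
) (.node (nat_lit 0x104125f) (.leaf (nat_lit 0x104125d) (nat_lit 2562))
 (.leaf (nat_lit 0x104125f) (nat_lit 2306))
)))) (.node (nat_lit 0x10412d1) (.node (nat_lit 0x10412c9) (.node (nat_lit 0x10412c5) (.node (nat_lit 0x10412c3) (.leaf (nat_lit 0x10412c1) (nat_lit 1794))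
 (.leaf (nat_lit 0x10412c3) (nat_lit 2050))
) (.node (nat_lit 0x10412c7) (.leaf (nat_lit 0x10412c5) (nat_lit 2818))
 (.leaf (nat_lit 0x10412c7) (nat_lit 2562))
)) (.node (nat_lit 0x10412cd) (.node (nat_lit 0x10412cb) (.leaf (nat_lit 0x10412c9) (nat_lit 2819))
 (.leaf (nat_lit 0x10412cb) (nat_lit 2563))
) (.node (nat_lit 0x10412cf) (.leaf (nat_lit 0x10412cd) (nat_lit 2818))
 (.leaf (nat_lit 0x10412cf) (nat_lit 2562))
))) (.node (nat_lit 0x10412d9) (.node (nat_lit 0x10412d5) (.node (nat_lit 0x10412d3) (.leaf (nat_lit 0x10412d1) (nat_lit 2817))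
 (.leaf (nat_lit 0x10412d3) (nat_lit 2561))
) (.node (nat_lit 0x10412d7) (.leaf (nat_lit 0x10412d5) (nat_lit 2306))
 (.leaf (nat_lit 0x10412d7) (nat_lit 2050))
)) (.node (nat_lit 0x10412dd) (.node (nat_lit 0x10412db) (.leaf (nat_lit 0x10412d9) (nat_lit 2818))
 (.leaf (nat_lit 0x10412db) (nat_lit 2562))
) (.node (nat_lit 0x10412df) (.leaf (nat_lit 0x10412dd) (nat_lit 2818))
 (.leaf (nat_lit 0x10412df) (nat_lit 2562))
))))) (.node (nat_lit 0x10413c1) (.node (nat_lit 0x1041351) (.node (nat_lit 0x1041349) (.node (nat_lit 0x1041345) (.node (nat_lit 0x1041343) (.leaf (nat_lit 0x1041341) (nat_lit 1539))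
 (.leaf (nat_lit 0x1041343) (nat_lit 1795))
) (.node (nat_lit 0x1041347) (.leaf (nat_lit 0x1041345) (nat_lit 2051))
 (.leaf (nat_lit 0x1041347) (nat_lit 1795))
)) (.node (nat_lit 0x104134d) (.node (nat_lit 0x104134b) (.leaf (nat_lit 0x1041349) (nat_lit 3075))
 (.leaf (nat_lit 0x104134b) (nat_lit 2819))
) (.node (nat_lit 0x104134f) (.leaf (nat_lit 0x104134d) (nat_lit 2562))
 (.leaf (nat_lit 0x104134f) (nat_lit 2306))
))) (.node (nat_lit 0x1041359) (.node (nat_lit 0x1041355) (.node (nat_lit 0x1041353) (.leaf (nat_lit 0x1041351) (nat_lit 3073))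
 (.leaf (nat_lit 0x1041353) (nat_lit 2817))
) (.node (nat_lit 0x1041357) (.leaf (nat_lit 0x1041355) (nat_lit 2562))
 (.leaf (nat_lit 0x1041357) (nat_lit 2306))
)) (.node (nat_lit 0x104135d) (.node (nat_lit 0x104135b) (.leaf (nat_lit 0x1041359) (nat_lit 2051))
 (.leaf (nat_lit 0x104135b) (nat_lit 1795))
) (.node (nat_lit 0x104135f) (.leaf (nat_lit 0x104135d) (nat_lit 2051))
 (.leaf (nat_lit 0x104135f) (nat_lit 1795))
)))) (.node (nat_lit 0x10413d1) (.node (nat_lit 0x10413c9) (.node (nat_lit 0x10413c5) (.node (nat_lit 0x10413c3) (.leaf (nat_lit 0x10413c1) (nat_lit 1283))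
 (.leaf (nat_lit 0x10413c3) (nat_lit 1539))
) (.node (nat_lit 0x10413c7) (.leaf (nat_lit 0x10413c5) (nat_lit 2307))
 (.leaf (nat_lit 0x10413c7) (nat_lit 2051))
)) (.node (nat_lit 0x10413cd) (.node (nat_lit 0x10413cb) (.leaf (nat_lit 0x10413c9) (nat_lit 2818))
 (.leaf (nat_lit 0x10413cb) (nat_lit 2562))
) (.node (nat_lit 0x10413cf) (.leaf (nat_lit 0x10413cd) (nat_lit 2819))
 (.leaf (nat_lit 0x10413cf) (nat_lit 2563))
))) (.node (nat_lit 0x10413d9) (.node (nat_lit 0x10413d5) (.node (nat_lit 0x10413d3) (.leaf (nat_lit 0x10413d1) (nat_lit 2818))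
 (.leaf (nat_lit 0x10413d3) (nat_lit 2562))
) (.node (nat_lit 0x10413d7) (.leaf (nat_lit 0x10413d5) (nat_lit 2817))
 (.leaf (nat_lit 0x10413d7) (nat_lit 2561))
)) (.node (nat_lit 0x10413dd) (.node (nat_lit 0x10413db) (.leaf (nat_lit 0x10413d9) (nat_lit 2307))
 (.leaf (nat_lit 0x10413db) (nat_lit 2051))
) (.node (nat_lit 0x10413df) (.leaf (nat_lit 0x10413dd) (nat_lit 1795))
 (.leaf (nat_lit 0x10413df) (nat_lit 1539))
))))))) (.node (nat_lit 0x1043241) (.node (nat_lit 0x1043141) (.node (nat_lit 0x10430c1) (.node (nat_lit 0x1043051) (.node (nat_lit 0x1043049) (.node (nat_lit 0x1043045) (.node (nat_lit 0x1043043) (.leaf (nat_lit 0x1043041) (nat_lit 258))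
 (.leaf (nat_lit 0x1043043) (nat_lit 514))
) (.node (nat_lit 0x1043047) (.leaf (nat_lit 0x1043045) (nat_lit 1282))
 (.leaf (nat_lit 0x1043047) (nat_lit 1026))
)) (.node (nat_lit 0x104304d) (.node (nat_lit 0x104304b) (.leaf (nat_lit 0x1043049) (nat_lit 1793))
 (.leaf (nat_lit 0x104304b) (nat_lit 2049))
) (.node (nat_lit 0x104304f) (.leaf (nat_lit 0x104304d) (nat_lit 1281))
 (.leaf (nat_lit 0x104304f) (nat_lit 1025))
))) (.node (nat_lit 0x1043059) (.node (nat_lit 0x1043055) (.node (nat_lit 0x1043053) (.leaf (nat_lit 0x1043051) (nat_lit 2819))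
 (.leaf (nat_lit 0x1043053) (nat_lit 3075))
) (.node (nat_lit 0x1043057) (.leaf (nat_lit 0x1043055) (nat_lit 2307))
 (.leaf (nat_lit 0x1043057) (nat_lit 2051))
)) (.node (nat_lit 0x104305d) (.node (nat_lit 0x104305b) (.leaf (nat_lit 0x1043059) (nat_lit 2818))
 (.leaf (nat_lit 0x104305b) (nat_lit 2562))
) (.node (nat_lit 0x104305f) (.leaf (nat_lit 0x104305d) (nat_lit 2306))
 (.leaf (nat_lit 0x104305f) (nat_lit 2050))
)))) (.node (nat_lit 0x10430d1) (.node (nat_lit 0x10430c9) (.node (nat_lit 0x10430c5) (.node (nat_lit 0x10430c3) (.leaf (nat_lit 0x10430c1) (nat_lit 514))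
 (.leaf (nat_lit 0x10430c3) (nat_lit 770))
) (.node (nat_lit 0x10430c7) (.leaf (nat_lit 0x10430c5) (nat_lit 1026))
 (.leaf (nat_lit 0x10430c7) (nat_lit 770))
)) (.node (nat_lit 0x10430cd) (.node (nat_lit 0x10430cb) (.leaf (nat_lit 0x10430c9) (nat_lit 1537))
 (.leaf (nat_lit 0x10430cb) (nat_lit 1281))
) (.node (nat_lit 0x10430cf) (.leaf (nat_lit 0x10430cd) (nat_lit 1537))
 (.leaf (nat_lit 0x10430cf) (nat_lit 1793))
))) (.node (nat_lit 0x10430d9) (.node (nat_lit 0x10430d5) (.node (nat_lit 0x10430d3) (.leaf (nat_lit 0x10430d1) (nat_lit 2563))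
 (.leaf (nat_lit 0x10430d3) (nat_lit 2307))
) (.node (nat_lit 0x10430d7) (.leaf (nat_lit 0x10430d5) (nat_lit 2563))
 (.leaf (nat_lit 0x10430d7) (nat_lit 2819))
)) (.node (nat_lit 0x10430dd) (.node (nat_lit 0x10430db) (.leaf (nat_lit 0x10430d9) (nat_lit 2562))
 (.leaf (nat_lit 0x10430db) (nat_lit 2306))
) (.node (nat_lit 0x10430df) (.leaf (nat_lit 0x10430dd) (nat_lit 2562))
 (.leaf (nat_lit 0x10430df) (nat_lit 2306))
))))) (.node (nat_lit 0x10431c1) (.node (nat_lit 0x1043151) (.node (nat_lit 0x1043149) (.node (nat_lit 0x1043145) (.node (nat_lit 0x1043143) (.leaf (nat_lit 0x1043141) (nat_lit 769))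
 (.leaf (nat_lit 0x1043143) (nat_lit 1025))
) (.node (nat_lit 0x1043147) (.leaf (nat_lit 0x1043145) (nat_lit 1281))
 (.leaf (nat_lit 0x1043147) (nat_lit 1025))
)) (.node (nat_lit 0x104314d) (.node (nat_lit 0x104314b) (.leaf (nat_lit 0x1043149) (nat_lit 1280))
 (.leaf (nat_lit 0x104314b) (nat_lit 1024))
) (.node (nat_lit 0x104314f) (.leaf (nat_lit 0x104314d) (nat_lit 1280))
 (.leaf (nat_lit 0x104314f) (nat_lit 1536))
))) (.node (nat_lit 0x1043159) (.node (nat_lit 0x1043155) (.node (nat_lit 0x1043153) (.leaf (nat_lit 0x1043151) (nat_lit 2819))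
 (.leaf (nat_lit 0x1043153) (nat_lit 2563))
) (.node (nat_lit 0x1043157) (.leaf (nat_lit 0x1043155) (nat_lit 2819))
 (.leaf (nat_lit 0x1043157) (nat_lit 3075))
)) (.node (nat_lit 0x104315d) (.node (nat_lit 0x104315b) (.leaf (nat_lit 0x1043159) (nat_lit 2817))
 (.leaf (nat_lit 0x104315b) (nat_lit 2561))
) (.node (nat_lit 0x104315f) (.leaf (nat_lit 0x104315d) (nat_lit 2819))
 (.leaf (nat_lit 0x104315f) (nat_lit 2563))
)))) (.node (nat_lit 0x10431d1) (.node (nat_lit 0x10431c9) (.node (nat_lit 0x10431c5) (.node (nat_lit 0x10431c3) (.leaf (nat_lit 0x10431c1) (nat_lit 513))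
 (.leaf (nat_lit 0x10431c3) (nat_lit 769))
) (.node (nat_lit 0x10431c7) (.leaf (nat_lit 0x10431c5) (nat_lit 1537))
 (.leaf (nat_lit 0x10431c7) (nat_lit 1281))
)) (.node (nat_lit 0x10431cd) (.node (nat_lit 0x10431cb) (.leaf (nat_lit 0x10431c9) (nat_lit 1536))
 (.leaf (nat_lit 0x10431cb) (nat_lit 1792))
) (.node (nat_lit 0x10431cf) (.leaf (nat_lit 0x10431cd) (nat_lit 1024))
 (.leaf (nat_lit 0x10431cf) (nat_lit 768))
))) (.node (nat_lit 0x10431d9) (.node (nat_lit 0x10431d5) (.node (nat_lit 0x10431d3) (.leaf (nat_lit 0x10431d1) (nat_lit 2560))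
 (.leaf (nat_lit 0x10431d3) (nat_lit 2816))
) (.node (nat_lit 0x10431d7) (.leaf (nat_lit 0x10431d5) (nat_lit 2563))
 (.leaf (nat_lit 0x10431d7) (nat_lit 2307))
)) (.node (nat_lit 0x10431dd) (.node (nat_lit 0x10431db) (.leaf (nat_lit 0x10431d9) (nat_lit 2563))
 (.leaf (nat_lit 0x10431db) (nat_lit 2307))
) (.node (nat_lit 0x10431df) (.leaf (nat_lit 0x10431dd) (nat_lit 2561))
 (.leaf (nat_lit 0x10431df) (nat_lit 2305))
)))))) (.node (nat_lit 0x1043341) (.node (nat_lit 0x10432c1) (.node (nat_lit 0x1043251) (.node (nat_lit 0x1043249) (.node (nat_lit 0x1043245) (.node (nat_lit 0x1043243) (.leaf (nat_lit 0x1043241) (nat_lit 1795))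
 (.leaf (nat_lit 0x1043243) (nat_lit 2051))
) (.node (nat_lit 0x1043247) (.leaf (nat_lit 0x1043245) (nat_lit 2307))
 (.leaf (nat_lit 0x1043247) (nat_lit 2051))
)) (.node (nat_lit 0x104324d) (.node (nat_lit 0x104324b) (.leaf (nat_lit 0x1043249) (nat_lit 2819))
 (.leaf (nat_lit 0x104324b) (nat_lit 2563))
) (.node (nat_lit 0x104324f) (.leaf (nat_lit 0x104324d) (nat_lit 2304))
 (.leaf (nat_lit 0x104324f) (nat_lit 2560))
))) (.node (nat_lit 0x1043259) (.node (nat_lit 0x1043255) (.node (nat_lit 0x1043253) (.leaf (nat_lit 0x1043251) (nat_lit 2307))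
 (.leaf (nat_lit 0x1043253) (nat_lit 2051))
) (.node (nat_lit 0x1043257) (.leaf (nat_lit 0x1043255) (nat_lit 2307))
 (.leaf (nat_lit 0x1043257) (nat_lit 2563))
)) (.node (nat_lit 0x104325d) (.node (nat_lit 0x104325b) (.leaf (nat_lit 0x1043259) (nat_lit 2817))
 (.leaf (nat_lit 0x104325b) (nat_lit 2561))
) (.node (nat_lit 0x104325f) (.leaf (nat_lit 0x104325d) (nat_lit 2305))
 (.leaf (nat_lit 0x104325f) (nat_lit 2049))
)))) (.node (nat_lit 0x10432d1) (.node (nat_lit 0x10432c9) (.node (nat_lit 0x10432c5) (.node (nat_lit 0x10432c3) (.leaf (nat_lit 0x10432c1) (nat_lit 1539))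
 (.leaf (nat_lit 0x10432c3) (nat_lit 1795))
) (.node (nat_lit 0x10432c7) (.leaf (nat_lit 0x10432c5) (nat_lit 2563))
 (.leaf (nat_lit 0x10432c7) (nat_lit 2307))
)) (.node (nat_lit 0x10432cd) (.node (nat_lit 0x10432cb) (.leaf (nat_lit 0x10432c9) (nat_lit 2560))
 (.leaf (nat_lit 0x10432cb) (nat_lit 2816))
) (.node (nat_lit 0x10432cf) (.leaf (nat_lit 0x10432cd) (nat_lit 2563))
 (.leaf (nat_lit 0x10432cf) (nat_lit 2307))
))) (.node (nat_lit 0x10432d9) (.node (nat_lit 0x10432d5) (.node (nat_lit 0x10432d3) (.leaf (nat_lit 0x10432d1) (nat_lit 2563))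
 (.leaf (nat_lit 0x10432d3) (nat_lit 2819))
) (.node (nat_lit 0x10432d7) (.leaf (nat_lit 0x10432d5) (nat_lit 2051))
 (.leaf (nat_lit 0x10432d7) (nat_lit 1795))
)) (.node (nat_lit 0x10432dd) (.node (nat_lit 0x10432db) (.leaf (nat_lit 0x10432d9) (nat_lit 2561))
 (.leaf (nat_lit 0x10432db) (nat_lit 2305))
) (.node (nat_lit 0x10432df) (.leaf (nat_lit 0x10432dd) (nat_lit 2561))
 (.leaf (nat_lit 0x10432df) (nat_lit 2305))
))))) (.node (nat_lit 0x10433c1) (.node (nat_lit 0x1043351) (.node (nat_lit 0x1043349) (.node (nat_lit 0x1043345) (.node (nat_lit 0x1043343) (.leaf (nat_lit 0x1043341) (nat_lit 1794))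
 (.leaf (nat_lit 0x1043343) (nat_lit 2050))
) (.node (nat_lit 0x1043347) (.leaf (nat_lit 0x1043345) (nat_lit 2306))
 (.leaf (nat_lit 0x1043347) (nat_lit 2050))
)) (.node (nat_lit 0x104334d) (.node (nat_lit 0x104334b) (.leaf (nat_lit 0x1043349) (nat_lit 2819))
 (.leaf (nat_lit 0x104334b) (nat_lit 3075))
) (.node (nat_lit 0x104334f) (.leaf (nat_lit 0x104334d) (nat_lit 2307))
 (.leaf (nat_lit 0x104334f) (nat_lit 2051))
))) (.node (nat_lit 0x1043359) (.node (nat_lit 0x1043355) (.node (nat_lit 0x1043353) (.leaf (nat_lit 0x1043351) (nat_lit 2819))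
 (.leaf (nat_lit 0x1043353) (nat_lit 3075))
) (.node (nat_lit 0x1043357) (.leaf (nat_lit 0x1043355) (nat_lit 2307))
 (.leaf (nat_lit 0x1043357) (nat_lit 2051))
)) (.node (nat_lit 0x104335d) (.node (nat_lit 0x104335b) (.leaf (nat_lit 0x1043359) (nat_lit 2306))
 (.leaf (nat_lit 0x104335b) (nat_lit 2050))
) (.node (nat_lit 0x104335f) (.leaf (nat_lit 0x104335d) (nat_lit 2306))
 (.leaf (nat_lit 0x104335f) (nat_lit 2050))
)))) (.node (nat_lit 0x10433d1) (.node (nat_lit 0x10433c9) (.node (nat_lit 0x10433c5) (.node (nat_lit 0x10433c3) (.leaf (nat_lit 0x10433c1) (nat_lit 1538))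
 (.leaf (nat_lit 0x10433c3) (nat_lit 1794))
) (.node (nat_lit 0x10433c7) (.leaf (nat_lit 0x10433c5) (nat_lit 2562))
 (.leaf (nat_lit 0x10433c7) (nat_lit 2306))
)) (.node (nat_lit 0x10433cd) (.node (nat_lit 0x10433cb) (.leaf (nat_lit 0x10433c9) (nat_lit 2563))
 (.leaf (nat_lit 0x10433cb) (nat_lit 2307))
) (.node (nat_lit 0x10433cf) (.leaf (nat_lit 0x10433cd) (nat_lit 2563))
 (.leaf (nat_lit 0x10433cf) (nat_lit 2819))
))) (.node (nat_lit 0x10433d9) (.node (nat_lit 0x10433d5) (.node (nat_lit 0x10433d3) (.leaf (nat_lit 0x10433d1) (nat_lit 2563))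
 (.leaf (nat_lit 0x10433d3) (nat_lit 2307))
) (.node (nat_lit 0x10433d7) (.leaf (nat_lit 0x10433d5) (nat_lit 2563))
 (.leaf (nat_lit 0x10433d7) (nat_lit 2819))
)) (.node (nat_lit 0x10433dd) (.node (nat_lit 0x10433db) (.leaf (nat_lit 0x10433d9) (nat_lit 2562))
 (.leaf (nat_lit 0x10433db) (nat_lit 2306))
) (.node (nat_lit 0x10433df) (.leaf (nat_lit 0x10433dd) (nat_lit 2050))
 (.leaf (nat_lit 0x10433df) (nat_lit 1794))
)))))))) (.node (nat_lit 0x1047041) (.node (nat_lit 0x1045241) (.node (nat_lit 0x1045141) (.node (nat_lit 0x10450c1) (.node (nat_lit 0x1045051) (.node (nat_lit 0x1045049) (.node (nat_lit 0x1045045) (.node (nat_lit 0x1045043) (.leaf (nat_lit 0x1045041) (nat_lit 1027))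
 (.leaf (nat_lit 0x1045043) (nat_lit 1283))
) (.node (nat_lit 0x1045047) (.leaf (nat_lit 0x1045045) (nat_lit 2051))
 (.leaf (nat_lit 0x1045047) (nat_lit 1795))
)) (.node (nat_lit 0x104504d) (.node (nat_lit 0x104504b) (.leaf (nat_lit 0x1045049) (nat_lit 2563))
 (.leaf (nat_lit 0x104504b) (nat_lit 2819))
) (.node (nat_lit 0x104504f) (.leaf (nat_lit 0x104504d) (nat_lit 2051))
 (.leaf (nat_lit 0x104504f) (nat_lit 1795))
))) (.node (nat_lit 0x1045059) (.node (nat_lit 0x1045055) (.node (nat_lit 0x1045053) (.leaf (nat_lit 0x1045051) (nat_lit 2563))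
 (.leaf (nat_lit 0x1045053) (nat_lit 2819))
) (.node (nat_lit 0x1045057) (.leaf (nat_lit 0x1045055) (nat_lit 2051))
 (.leaf (nat_lit 0x1045057) (nat_lit 1795))
)) (.node (nat_lit 0x104505d) (.node (nat_lit 0x104505b) (.leaf (nat_lit 0x1045059) (nat_lit 2562))
 (.leaf (nat_lit 0x104505b) (nat_lit 2818))
) (.node (nat_lit 0x104505f) (.leaf (nat_lit 0x104505d) (nat_lit 2050))
 (.leaf (nat_lit 0x104505f) (nat_lit 1794))
)))) (.node (nat_lit 0x10450d1) (.node (nat_lit 0x10450c9) (.node (nat_lit 0x10450c5) (.node (nat_lit 0x10450c3) (.leaf (nat_lit 0x10450c1) (nat_lit 1283))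
 (.leaf (nat_lit 0x10450c3) (nat_lit 1539))
) (.node (nat_lit 0x10450c7) (.leaf (nat_lit 0x10450c5) (nat_lit 1795))
 (.leaf (nat_lit 0x10450c7) (nat_lit 1539))
)) (.node (nat_lit 0x10450cd) (.node (nat_lit 0x10450cb) (.leaf (nat_lit 0x10450c9) (nat_lit 2307))
 (.leaf (nat_lit 0x10450cb) (nat_lit 2051))
) (.node (nat_lit 0x10450cf) (.leaf (nat_lit 0x10450cd) (nat_lit 2307))
 (.leaf (nat_lit 0x10450cf) (nat_lit 2563))
))) (.node (nat_lit 0x10450d9) (.node (nat_lit 0x10450d5) (.node (nat_lit 0x10450d3) (.leaf (nat_lit 0x10450d1) (nat_lit 2307))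
 (.leaf (nat_lit 0x10450d3) (nat_lit 2051))
) (.node (nat_lit 0x10450d7) (.leaf (nat_lit 0x10450d5) (nat_lit 2307))
 (.leaf (nat_lit 0x10450d7) (nat_lit 2563))
)) (.node (nat_lit 0x10450dd) (.node (nat_lit 0x10450db) (.leaf (nat_lit 0x10450d9) (nat_lit 2306))
 (.leaf (nat_lit 0x10450db) (nat_lit 2050))
) (.node (nat_lit 0x10450df) (.leaf (nat_lit 0x10450dd) (nat_lit 2306))
 (.leaf (nat_lit 0x10450df) (nat_lit 2562))
))))) (.node (nat_lit 0x10451c1) (.node (nat_lit 0x1045151) (.node (nat_lit 0x1045149) (.node (nat_lit 0x1045145) (.node (nat_lit 0x1045143) (.leaf (nat_lit 0x1045141) (nat_lit 1539))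
 (.leaf (nat_lit 0x1045143) (nat_lit 1795))
) (.node (nat_lit 0x1045147) (.leaf (nat_lit 0x1045145) (nat_lit 2051))
 (.leaf (nat_lit 0x1045147) (nat_lit 1795))
)) (.node (nat_lit 0x104514d) (.node (nat_lit 0x104514b) (.leaf (nat_lit 0x1045149) (nat_lit 2051))
 (.leaf (nat_lit 0x104514b) (nat_lit 1795))
) (.node (nat_lit 0x104514f) (.leaf (nat_lit 0x104514d) (nat_lit 2051))
 (.leaf (nat_lit 0x104514f) (nat_lit 2307))
))) (.node (nat_lit 0x1045159) (.node (nat_lit 0x1045155) (.node (nat_lit 0x1045153) (.leaf (nat_lit 0x1045151) (nat_lit 3072))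
 (.leaf (nat_lit 0x1045153) (nat_lit 2816))
) (.node (nat_lit 0x1045157) (.leaf (nat_lit 0x1045155) (nat_lit 2048))
 (.leaf (nat_lit 0x1045157) (nat_lit 2304))
)) (.node (nat_lit 0x104515d) (.node (nat_lit 0x104515b) (.leaf (nat_lit 0x1045159) (nat_lit 2561))
 (.leaf (nat_lit 0x104515b) (nat_lit 2817))
) (.node (nat_lit 0x104515f) (.leaf (nat_lit 0x104515d) (nat_lit 2049))
 (.leaf (nat_lit 0x104515f) (nat_lit 1793))
)))) (.node (nat_lit 0x10451d1) (.node (nat_lit 0x10451c9) (.node (nat_lit 0x10451c5) (.node (nat_lit 0x10451c3) (.leaf (nat_lit 0x10451c1) (nat_lit 1283))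
 (.leaf (nat_lit 0x10451c3) (nat_lit 1539))
) (.node (nat_lit 0x10451c7) (.leaf (nat_lit 0x10451c5) (nat_lit 2307))
 (.leaf (nat_lit 0x10451c7) (nat_lit 2051))
)) (.node (nat_lit 0x10451cd) (.node (nat_lit 0x10451cb) (.leaf (nat_lit 0x10451c9) (nat_lit 2307))
 (.leaf (nat_lit 0x10451cb) (nat_lit 2563))
) (.node (nat_lit 0x10451cf) (.leaf (nat_lit 0x10451cd) (nat_lit 1795))
 (.leaf (nat_lit 0x10451cf) (nat_lit 1539))
))) (.node (nat_lit 0x10451d9) (.node (nat_lit 0x10451d5) (.node (nat_lit 0x10451d3) (.leaf (nat_lit 0x10451d1) (nat_lit 2816))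
 (.leaf (nat_lit 0x10451d3) (nat_lit 2560))
) (.node (nat_lit 0x10451d7) (.leaf (nat_lit 0x10451d5) (nat_lit 2304))
 (.leaf (nat_lit 0x10451d7) (nat_lit 2560))
)) (.node (nat_lit 0x10451dd) (.node (nat_lit 0x10451db) (.leaf (nat_lit 0x10451d9) (nat_lit 2305))
 (.leaf (nat_lit 0x10451db) (nat_lit 2049))
) (.node (nat_lit 0x10451df) (.leaf (nat_lit 0x10451dd) (nat_lit 2305))
 (.leaf (nat_lit 0x10451df) (nat_lit 2561))
)))))) (.node (nat_lit 0x1045341) (.node (nat_lit 0x10452c1) (.node (nat_lit 0x1045251) (.node (nat_lit 0x1045249) (.node (nat_lit 0x1045245) (.node (nat_lit 0x1045243) (.leaf (nat_lit 0x1045241) (nat_lit 1539))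
 (.leaf (nat_lit 0x1045243) (nat_lit 1795))
) (.node (nat_lit 0x1045247) (.leaf (nat_lit 0x1045245) (nat_lit 2051))
 (.leaf (nat_lit 0x1045247) (nat_lit 1795))
)) (.node (nat_lit 0x104524d) (.node (nat_lit 0x104524b) (.leaf (nat_lit 0x1045249) (nat_lit 2563))
 (.leaf (nat_lit 0x104524b) (nat_lit 2307))
) (.node (nat_lit 0x104524f) (.leaf (nat_lit 0x104524d) (nat_lit 2562))
 (.leaf (nat_lit 0x104524f) (nat_lit 2306))
))) (.node (nat_lit 0x1045259) (.node (nat_lit 0x1045255) (.node (nat_lit 0x1045253) (.leaf (nat_lit 0x1045251) (nat_lit 2051))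
 (.leaf (nat_lit 0x1045253) (nat_lit 1795))
) (.node (nat_lit 0x1045257) (.leaf (nat_lit 0x1045255) (nat_lit 2051))
 (.leaf (nat_lit 0x1045257) (nat_lit 2307))
)) (.node (nat_lit 0x104525d) (.node (nat_lit 0x104525b) (.leaf (nat_lit 0x1045259) (nat_lit 2561))
 (.leaf (nat_lit 0x104525b) (nat_lit 2305))
) (.node (nat_lit 0x104525f) (.leaf (nat_lit 0x104525d) (nat_lit 2561))
 (.leaf (nat_lit 0x104525f) (nat_lit 2817))
)))) (.node (nat_lit 0x10452d1) (.node (nat_lit 0x10452c9) (.node (nat_lit 0x10452c5) (.node (nat_lit 0x10452c3) (.leaf (nat_lit 0x10452c1) (nat_lit 1283))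
 (.leaf (nat_lit 0x10452c3) (nat_lit 1539))
) (.node (nat_lit 0x10452c7) (.leaf (nat_lit 0x10452c5) (nat_lit 2307))
 (.leaf (nat_lit 0x10452c7) (nat_lit 2051))
)) (.node (nat_lit 0x10452cd) (.node (nat_lit 0x10452cb) (.leaf (nat_lit 0x10452c9) (nat_lit 2304))
 (.leaf (nat_lit 0x10452cb) (nat_lit 2560))
) (.node (nat_lit 0x10452cf) (.leaf (nat_lit 0x10452cd) (nat_lit 2307))
 (.leaf (nat_lit 0x10452cf) (nat_lit 2051))
))) (.node (nat_lit 0x10452d9) (.node (nat_lit 0x10452d5) (.node (nat_lit 0x10452d3) (.leaf (nat_lit 0x10452d1) (nat_lit 2307))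
 (.leaf (nat_lit 0x10452d3) (nat_lit 2563))
) (.node (nat_lit 0x10452d7) (.leaf (nat_lit 0x10452d5) (nat_lit 1795))
 (.leaf (nat_lit 0x10452d7) (nat_lit 1539))
)) (.node (nat_lit 0x10452dd) (.node (nat_lit 0x10452db) (.leaf (nat_lit 0x10452d9) (nat_lit 2307))
 (.leaf (nat_lit 0x10452db) (nat_lit 2563))
) (.node (nat_lit 0x10452df) (.leaf (nat_lit 0x10452dd) (nat_lit 2305))
 (.leaf (nat_lit 0x10452df) (nat_lit 2049))
))))) (.node (nat_lit 0x10453c1) (.node (nat_lit 0x1045351) (.node (nat_lit 0x1045349) (.node (nat_lit 0x1045345) (.node (nat_lit 0x1045343) (.leaf (nat_lit 0x1045341) (nat_lit 1538))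
 (.leaf (nat_lit 0x1045343) (nat_lit 1794))
) (.node (nat_lit 0x1045347) (.leaf (nat_lit 0x1045345) (nat_lit 2050))
 (.leaf (nat_lit 0x1045347) (nat_lit 1794))
)) (.node (nat_lit 0x104534d) (.node (nat_lit 0x104534b) (.leaf (nat_lit 0x1045349) (nat_lit 2563))
 (.leaf (nat_lit 0x104534b) (nat_lit 2819))
) (.node (nat_lit 0x104534f) (.leaf (nat_lit 0x104534d) (nat_lit 2051))
 (.leaf (nat_lit 0x104534f) (nat_lit 1795))
))) (.node (nat_lit 0x1045359) (.node (nat_lit 0x1045355) (.node (nat_lit 0x1045353) (.leaf (nat_lit 0x1045351) (nat_lit 3075))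
 (.leaf (nat_lit 0x1045353) (nat_lit 2819))
) (.node (nat_lit 0x1045357) (.leaf (nat_lit 0x1045355) (nat_lit 2051))
 (.leaf (nat_lit 0x1045357) (nat_lit 2307))
)) (.node (nat_lit 0x104535d) (.node (nat_lit 0x104535b) (.leaf (nat_lit 0x1045359) (nat_lit 2050))
 (.leaf (nat_lit 0x104535b) (nat_lit 1794))
) (.node (nat_lit 0x104535f) (.leaf (nat_lit 0x104535d) (nat_lit 2050))
 (.leaf (nat_lit 0x104535f) (nat_lit 2306))
)))) (.node (nat_lit 0x10453d1) (.node (nat_lit 0x10453c9) (.node (nat_lit 0x10453c5) (.node (nat_lit 0x10453c3) (.leaf (nat_lit 0x10453c1) (nat_lit 1282))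
 (.leaf (nat_lit 0x10453c3) (nat_lit 1538))
) (.node (nat_lit 0x10453c7) (.leaf (nat_lit 0x10453c5) (nat_lit 2306))
 (.leaf (nat_lit 0x10453c7) (nat_lit 2050))
)) (.node (nat_lit 0x10453cd) (.node (nat_lit 0x10453cb) (.leaf (nat_lit 0x10453c9) (nat_lit 2307))
 (.leaf (nat_lit 0x10453cb) (nat_lit 2051))
) (.node (nat_lit 0x10453cf) (.leaf (nat_lit 0x10453cd) (nat_lit 2307))
 (.leaf (nat_lit 0x10453cf) (nat_lit 2563))
))) (.node (nat_lit 0x10453d9) (.node (nat_lit 0x10453d5) (.node (nat_lit 0x10453d3) (.leaf (nat_lit 0x10453d1) (nat_lit 2819))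
 (.leaf (nat_lit 0x10453d3) (nat_lit 2563))
) (.node (nat_lit 0x10453d7) (.leaf (nat_lit 0x10453d5) (nat_lit 2307))
 (.leaf (nat_lit 0x10453d7) (nat_lit 2563))
)) (.node (nat_lit 0x10453dd) (.node (nat_lit 0x10453db) (.leaf (nat_lit 0x10453d9) (nat_lit 2306))
 (.leaf (nat_lit 0x10453db) (nat_lit 2562))
) (.node (nat_lit 0x10453df) (.leaf (nat_lit 0x10453dd) (nat_lit 1794))
 (.leaf (nat_lit 0x10453df) (nat_lit 1538))
))))))) (.node (nat_lit 0x1047241) (.node (nat_lit 0x1047141) (.node (nat_lit 0x10470c1) (.node (nat_lit 0x1047051) (.node (nat_lit 0x1047049) (.node (nat_lit 0x1047045) (.node (nat_lit 0x1047043) (.leaf (nat_lit 0x1047041) (nat_lit 771))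
 (.leaf (nat_lit 0x1047043) (nat_lit 1027))
) (.node (nat_lit 0x1047047) (.leaf (nat_lit 0x1047045) (nat_lit 1795))
 (.leaf (nat_lit 0x1047047) (nat_lit 1539))
)) (.node (nat_lit 0x104704d) (.node (nat_lit 0x104704b) (.leaf (nat_lit 0x1047049) (nat_lit 2819))
 (.leaf (nat_lit 0x104704b) (nat_lit 2563))
) (.node (nat_lit 0x104704f) (.leaf (nat_lit 0x104704d) (nat_lit 2307))
 (.leaf (nat_lit 0x104704f) (nat_lit 2051))
))) (.node (nat_lit 0x1047059) (.node (nat_lit 0x1047055) (.node (nat_lit 0x1047053) (.leaf (nat_lit 0x1047051) (nat_lit 2818))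
 (.leaf (nat_lit 0x1047053) (nat_lit 3074))
) (.node (nat_lit 0x1047057) (.leaf (nat_lit 0x1047055) (nat_lit 2306))
 (.leaf (nat_lit 0x1047057) (nat_lit 2050))
)) (.node (nat_lit 0x104705d) (.node (nat_lit 0x104705b) (.leaf (nat_lit 0x1047059) (nat_lit 2307))
 (.leaf (nat_lit 0x104705b) (nat_lit 2563))
) (.node (nat_lit 0x104705f) (.leaf (nat_lit 0x104705d) (nat_lit 1795))
 (.leaf (nat_lit 0x104705f) (nat_lit 1539))
)))) (.node (nat_lit 0x10470d1) (.node (nat_lit 0x10470c9) (.node (nat_lit 0x10470c5) (.node (nat_lit 0x10470c3) (.leaf (nat_lit 0x10470c1) (nat_lit 1027))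
 (.leaf (nat_lit 0x10470c3) (nat_lit 1283))
) (.node (nat_lit 0x10470c7) (.leaf (nat_lit 0x10470c5) (nat_lit 1539))
 (.leaf (nat_lit 0x10470c7) (nat_lit 1283))
)) (.node (nat_lit 0x10470cd) (.node (nat_lit 0x10470cb) (.leaf (nat_lit 0x10470c9) (nat_lit 2563))
 (.leaf (nat_lit 0x10470cb) (nat_lit 2307))
) (.node (nat_lit 0x10470cf) (.leaf (nat_lit 0x10470cd) (nat_lit 2563))
 (.leaf (nat_lit 0x10470cf) (nat_lit 2307))
))) (.node (nat_lit 0x10470d9) (.node (nat_lit 0x10470d5) (.node (nat_lit 0x10470d3) (.leaf (nat_lit 0x10470d1) (nat_lit 2562))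
 (.leaf (nat_lit 0x10470d3) (nat_lit 2306))
) (.node (nat_lit 0x10470d7) (.leaf (nat_lit 0x10470d5) (nat_lit 2562))
 (.leaf (nat_lit 0x10470d7) (nat_lit 2818))
)) (.node (nat_lit 0x10470dd) (.node (nat_lit 0x10470db) (.leaf (nat_lit 0x10470d9) (nat_lit 2051))
 (.leaf (nat_lit 0x10470db) (nat_lit 1795))
) (.node (nat_lit 0x10470df) (.leaf (nat_lit 0x10470dd) (nat_lit 2051))
 (.leaf (nat_lit 0x10470df) (nat_lit 2307))
))))) (.node (nat_lit 0x10471c1) (.node (nat_lit 0x1047151) (.node (nat_lit 0x1047149) (.node (nat_lit 0x1047145) (.node (nat_lit 0x1047143) (.leaf (nat_lit 0x1047141) (nat_lit 1795))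
 (.leaf (nat_lit 0x1047143) (nat_lit 2051))
) (.node (nat_lit 0x1047147) (.leaf (nat_lit 0x1047145) (nat_lit 2307))
 (.leaf (nat_lit 0x1047147) (nat_lit 2051))
)) (.node (nat_lit 0x104714d) (.node (nat_lit 0x104714b) (.leaf (nat_lit 0x1047149) (nat_lit 2307))
 (.leaf (nat_lit 0x104714b) (nat_lit 2051))
) (.node (nat_lit 0x104714f) (.leaf (nat_lit 0x104714d) (nat_lit 2307))
 (.leaf (nat_lit 0x104714f) (nat_lit 2051))
))) (.node (nat_lit 0x1047159) (.node (nat_lit 0x1047155) (.node (nat_lit 0x1047153) (.leaf (nat_lit 0x1047151) (nat_lit 2817))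
 (.leaf (nat_lit 0x1047153) (nat_lit 3073))
) (.node (nat_lit 0x1047157) (.leaf (nat_lit 0x1047155) (nat_lit 2305))
 (.leaf (nat_lit 0x1047157) (nat_lit 2049))
)) (.node (nat_lit 0x104715d) (.node (nat_lit 0x104715b) (.leaf (nat_lit 0x1047159) (nat_lit 2818))
 (.leaf (nat_lit 0x104715b) (nat_lit 3074))
) (.node (nat_lit 0x104715f) (.leaf (nat_lit 0x104715d) (nat_lit 2306))
 (.leaf (nat_lit 0x104715f) (nat_lit 2050))
)))) (.node (nat_lit 0x10471d1) (.node (nat_lit 0x10471c9) (.node (nat_lit 0x10471c5) (.node (nat_lit 0x10471c3) (.leaf (nat_lit 0x10471c1) (nat_lit 1539))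
 (.leaf (nat_lit 0x10471c3) (nat_lit 1795))
) (.node (nat_lit 0x10471c7) (.leaf (nat_lit 0x10471c5) (nat_lit 2563))
 (.leaf (nat_lit 0x10471c7) (nat_lit 2307))
)) (.node (nat_lit 0x10471cd) (.node (nat_lit 0x10471cb) (.leaf (nat_lit 0x10471c9) (nat_lit 2563))
 (.leaf (nat_lit 0x10471cb) (nat_lit 2307))
) (.node (nat_lit 0x10471cf) (.leaf (nat_lit 0x10471cd) (nat_lit 2051))
 (.leaf (nat_lit 0x10471cf) (nat_lit 1795))
))) (.node (nat_lit 0x10471d9) (.node (nat_lit 0x10471d5) (.node (nat_lit 0x10471d3) (.leaf (nat_lit 0x10471d1) (nat_lit 2561))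
 (.leaf (nat_lit 0x10471d3) (nat_lit 2305))
) (.node (nat_lit 0x10471d7) (.leaf (nat_lit 0x10471d5) (nat_lit 2561))
 (.leaf (nat_lit 0x10471d7) (nat_lit 2817))
)) (.node (nat_lit 0x10471dd) (.node (nat_lit 0x10471db) (.leaf (nat_lit 0x10471d9) (nat_lit 2562))
 (.leaf (nat_lit 0x10471db) (nat_lit 2306))
) (.node (nat_lit 0x10471df) (.leaf (nat_lit 0x10471dd) (nat_lit 2562))
 (.leaf (nat_lit 0x10471df) (nat_lit 2818))
)))))) (.node (nat_lit 0x1047341) (.node (nat_lit 0x10472c1) (.node (nat_lit 0x1047251) (.node (nat_lit 0x1047249) (.node (nat_lit 0x1047245) (.node (nat_lit 0x1047243) (.leaf (nat_lit 0x1047241) (nat_lit 1794))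
 (.leaf (nat_lit 0x1047243) (nat_lit 2050))
) (.node (nat_lit 0x1047247) (.leaf (nat_lit 0x1047245) (nat_lit 2306))
 (.leaf (nat_lit 0x1047247) (nat_lit 2050))
)) (.node (nat_lit 0x104724d) (.node (nat_lit 0x104724b) (.leaf (nat_lit 0x1047249) (nat_lit 2818))
 (.leaf (nat_lit 0x104724b) (nat_lit 2562))
) (.node (nat_lit 0x104724f) (.leaf (nat_lit 0x104724d) (nat_lit 2307))
 (.leaf (nat_lit 0x104724f) (nat_lit 2051))
))) (.node (nat_lit 0x1047259) (.node (nat_lit 0x1047255) (.node (nat_lit 0x1047253) (.leaf (nat_lit 0x1047251) (nat_lit 2306))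
 (.leaf (nat_lit 0x1047253) (nat_lit 2050))
) (.node (nat_lit 0x1047257) (.leaf (nat_lit 0x1047255) (nat_lit 2306))
 (.leaf (nat_lit 0x1047257) (nat_lit 2562))
)) (.node (nat_lit 0x104725d) (.node (nat_lit 0x104725b) (.leaf (nat_lit 0x1047259) (nat_lit 2818))
 (.leaf (nat_lit 0x104725b) (nat_lit 2562))
) (.node (nat_lit 0x104725f) (.leaf (nat_lit 0x104725d) (nat_lit 2307))
 (.leaf (nat_lit 0x104725f) (nat_lit 2563))
)))) (.node (nat_lit 0x10472d1) (.node (nat_lit 0x10472c9) (.node (nat_lit 0x10472c5) (.node (nat_lit 0x10472c3) (.leaf (nat_lit 0x10472c1) (nat_lit 1538))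
 (.leaf (nat_lit 0x10472c3) (nat_lit 1794))
) (.node (nat_lit 0x10472c7) (.leaf (nat_lit 0x10472c5) (nat_lit 2562))
 (.leaf (nat_lit 0x10472c7) (nat_lit 2306))
)) (.node (nat_lit 0x10472cd) (.node (nat_lit 0x10472cb) (.leaf (nat_lit 0x10472c9) (nat_lit 2563))
 (.leaf (nat_lit 0x10472cb) (nat_lit 2307))
) (.node (nat_lit 0x10472cf) (.leaf (nat_lit 0x10472cd) (nat_lit 2562))
 (.leaf (nat_lit 0x10472cf) (nat_lit 2306))
))) (.node (nat_lit 0x10472d9) (.node (nat_lit 0x10472d5) (.node (nat_lit 0x10472d3) (.leaf (nat_lit 0x10472d1) (nat_lit 2562))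
 (.leaf (nat_lit 0x10472d3) (nat_lit 2818))
) (.node (nat_lit 0x10472d7) (.leaf (nat_lit 0x10472d5) (nat_lit 2050))
 (.leaf (nat_lit 0x10472d7) (nat_lit 1794))
)) (.node (nat_lit 0x10472dd) (.node (nat_lit 0x10472db) (.leaf (nat_lit 0x10472d9) (nat_lit 2562))
 (.leaf (nat_lit 0x10472db) (nat_lit 2818))
) (.node (nat_lit 0x10472df) (.leaf (nat_lit 0x10472dd) (nat_lit 2562))
 (.leaf (nat_lit 0x10472df) (nat_lit 2306))
))))) (.node (nat_lit 0x10473c1) (.node (nat_lit 0x1047351) (.node (nat_lit 0x1047349) (.node (nat_lit 0x1047345) (.node (nat_lit 0x1047343) (.leaf (nat_lit 0x1047341) (nat_lit 1283))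
 (.leaf (nat_lit 0x1047343) (nat_lit 1539))
) (.node (nat_lit 0x1047347) (.leaf (nat_lit 0x1047345) (nat_lit 1795))
 (.leaf (nat_lit 0x1047347) (nat_lit 1539))
)) (.node (nat_lit 0x104734d) (.node (nat_lit 0x104734b) (.leaf (nat_lit 0x1047349) (nat_lit 2819))
 (.leaf (nat_lit 0x104734b) (nat_lit 2563))
) (.node (nat_lit 0x104734f) (.leaf (nat_lit 0x104734d) (nat_lit 2306))
 (.leaf (nat_lit 0x104734f) (nat_lit 2050))
))) (.node (nat_lit 0x1047359) (.node (nat_lit 0x1047355) (.node (nat_lit 0x1047353) (.leaf (nat_lit 0x1047351) (nat_lit 2817))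
 (.leaf (nat_lit 0x1047353) (nat_lit 2561))
) (.node (nat_lit 0x1047357) (.leaf (nat_lit 0x1047355) (nat_lit 2306))
 (.leaf (nat_lit 0x1047357) (nat_lit 2562))
)) (.node (nat_lit 0x104735d) (.node (nat_lit 0x104735b) (.leaf (nat_lit 0x1047359) (nat_lit 1795))
 (.leaf (nat_lit 0x104735b) (nat_lit 1539))
) (.node (nat_lit 0x104735f) (.leaf (nat_lit 0x104735d) (nat_lit 1795))
 (.leaf (nat_lit 0x104735f) (nat_lit 2051))
)))) (.node (nat_lit 0x10473d1) (.node (nat_lit 0x10473c9) (.node (nat_lit 0x10473c5) (.node (nat_lit 0x10473c3) (.leaf (nat_lit 0x10473c1) (nat_lit 1027))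
 (.leaf (nat_lit 0x10473c3) (nat_lit 1283))
) (.node (nat_lit 0x10473c7) (.leaf (nat_lit 0x10473c5) (nat_lit 2051))
 (.leaf (nat_lit 0x10473c7) (nat_lit 1795))
)) (.node (nat_lit 0x10473cd) (.node (nat_lit 0x10473cb) (.leaf (nat_lit 0x10473c9) (nat_lit 2562))
 (.leaf (nat_lit 0x10473cb) (nat_lit 2306))
) (.node (nat_lit 0x10473cf) (.leaf (nat_lit 0x10473cd) (nat_lit 2563))
 (.leaf (nat_lit 0x10473cf) (nat_lit 2307))
))) (.node (nat_lit 0x10473d9) (.node (nat_lit 0x10473d5) (.node (nat_lit 0x10473d3) (.leaf (nat_lit 0x10473d1) (nat_lit 2563))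
 (.leaf (nat_lit 0x10473d3) (nat_lit 2819))
) (.node (nat_lit 0x10473d7) (.leaf (nat_lit 0x10473d5) (nat_lit 2561))
 (.leaf (nat_lit 0x10473d7) (nat_lit 2305))
)) (.node (nat_lit 0x10473dd) (.node (nat_lit 0x10473db) (.leaf (nat_lit 0x10473d9) (nat_lit 2051))
 (.leaf (nat_lit 0x10473db) (nat_lit 2307))
) (.node (nat_lit 0x10473df) (.leaf (nat_lit 0x10473dd) (nat_lit 1539))
 (.leaf (nat_lit 0x10473df) (nat_lit 1283))
))))))))) (.node (nat_lit 0x10c5041) (.node (nat_lit 0x10c3041) (.node (nat_lit 0x10c1241) (.node (nat_lit 0x10c1141) (.node (nat_lit 0x10c10c1) (.node (nat_lit 0x10c1051) (.node (nat_lit 0x10c1049) (.node (nat_lit 0x10c1045) (.node (nat_lit 0x10c1043) (.leaf (nat_lit 0x10c1041) (nat_lit 259))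
 (.leaf (nat_lit 0x10c1043) (nat_lit 515))
) (.node (nat_lit 0x10c1047) (.leaf (nat_lit 0x10c1045) (nat_lit 1283))
 (.leaf (nat_lit 0x10c1047) (nat_lit 1027))
)) (.node (nat_lit 0x10c104d) (.node (nat_lit 0x10c104b) (.leaf (nat_lit 0x10c1049) (nat_lit 2307))
 (.leaf (nat_lit 0x10c104b) (nat_lit 2051))
) (.node (nat_lit 0x10c104f) (.leaf (nat_lit 0x10c104d) (nat_lit 1795))
 (.leaf (nat_lit 0x10c104f) (nat_lit 1539))
))) (.node (nat_lit 0x10c1059) (.node (nat_lit 0x10c1055) (.node (nat_lit 0x10c1053) (.leaf (nat_lit 0x10c1051) (nat_lit 2818))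
 (.leaf (nat_lit 0x10c1053) (nat_lit 3074))
) (.node (nat_lit 0x10c1057) (.leaf (nat_lit 0x10c1055) (nat_lit 2819))
 (.leaf (nat_lit 0x10c1057) (nat_lit 2563))
)) (.node (nat_lit 0x10c105d) (.node (nat_lit 0x10c105b) (.leaf (nat_lit 0x10c1059) (nat_lit 2305))
 (.leaf (nat_lit 0x10c105b) (nat_lit 2049))
) (.node (nat_lit 0x10c105f) (.leaf (nat_lit 0x10c105d) (nat_lit 1794))
 (.leaf (nat_lit 0x10c105f) (nat_lit 1538))
)))) (.node (nat_lit 0x10c10d1) (.node (nat_lit 0x10c10c9) (.node (nat_lit 0x10c10c5) (.node (nat_lit 0x10c10c3) (.leaf (nat_lit 0x10c10c1) (nat_lit 515))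
 (.leaf (nat_lit 0x10c10c3) (nat_lit 771))
) (.node (nat_lit 0x10c10c7) (.leaf (nat_lit 0x10c10c5) (nat_lit 1027))
 (.leaf (nat_lit 0x10c10c7) (nat_lit 771))
)) (.node (nat_lit 0x10c10cd) (.node (nat_lit 0x10c10cb) (.leaf (nat_lit 0x10c10c9) (nat_lit 2051))
 (.leaf (nat_lit 0x10c10cb) (nat_lit 1795))
) (.node (nat_lit 0x10c10cf) (.leaf (nat_lit 0x10c10cd) (nat_lit 2051))
 (.leaf (nat_lit 0x10c10cf) (nat_lit 1795))
))) (.node (nat_lit 0x10c10d9) (.node (nat_lit 0x10c10d5) (.node (nat_lit 0x10c10d3) (.leaf (nat_lit 0x10c10d1) (nat_lit 3075))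
 (.leaf (nat_lit 0x10c10d3) (nat_lit 2819))
) (.node (nat_lit 0x10c10d7) (.leaf (nat_lit 0x10c10d5) (nat_lit 3075))
 (.leaf (nat_lit 0x10c10d7) (nat_lit 2819))
)) (.node (nat_lit 0x10c10dd) (.node (nat_lit 0x10c10db) (.leaf (nat_lit 0x10c10d9) (nat_lit 2050))
 (.leaf (nat_lit 0x10c10db) (nat_lit 1794))
) (.node (nat_lit 0x10c10df) (.leaf (nat_lit 0x10c10dd) (nat_lit 2049))
 (.leaf (nat_lit 0x10c10df) (nat_lit 1793))
))))) (.node (nat_lit 0x10c11c1) (.node (nat_lit 0x10c1151) (.node (nat_lit 0x10c1149) (.node (nat_lit 0x10c1145) (.node (nat_lit 0x10c1143) (.leaf (nat_lit 0x10c1141) (nat_lit 1283))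
 (.leaf (nat_lit 0x10c1143) (nat_lit 1539))
) (.node (nat_lit 0x10c1147) (.leaf (nat_lit 0x10c1145) (nat_lit 1795))
 (.leaf (nat_lit 0x10c1147) (nat_lit 1539))
)) (.node (nat_lit 0x10c114d) (.node (nat_lit 0x10c114b) (.leaf (nat_lit 0x10c1149) (nat_lit 1795))
 (.leaf (nat_lit 0x10c114b) (nat_lit 1539))
) (.node (nat_lit 0x10c114f) (.leaf (nat_lit 0x10c114d) (nat_lit 1795))
 (.leaf (nat_lit 0x10c114f) (nat_lit 1539))
))) (.node (nat_lit 0x10c1159) (.node (nat_lit 0x10c1155) (.node (nat_lit 0x10c1153) (.leaf (nat_lit 0x10c1151) (nat_lit 2817))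
 (.leaf (nat_lit 0x10c1153) (nat_lit 2561))
) (.node (nat_lit 0x10c1157) (.leaf (nat_lit 0x10c1155) (nat_lit 2818))
 (.leaf (nat_lit 0x10c1157) (nat_lit 2562))
)) (.node (nat_lit 0x10c115d) (.node (nat_lit 0x10c115b) (.leaf (nat_lit 0x10c1159) (nat_lit 2818))
 (.leaf (nat_lit 0x10c115b) (nat_lit 3074))
) (.node (nat_lit 0x10c115f) (.leaf (nat_lit 0x10c115d) (nat_lit 2818))
 (.leaf (nat_lit 0x10c115f) (nat_lit 2562))
)))) (.node (nat_lit 0x10c11d1) (.node (nat_lit 0x10c11c9) (.node (nat_lit 0x10c11c5) (.node (nat_lit 0x10c11c3) (.leaf (nat_lit 0x10c11c1) (nat_lit 1027))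
 (.leaf (nat_lit 0x10c11c3) (nat_lit 1283))
) (.node (nat_lit 0x10c11c7) (.leaf (nat_lit 0x10c11c5) (nat_lit 2051))
 (.leaf (nat_lit 0x10c11c7) (nat_lit 1795))
)) (.node (nat_lit 0x10c11cd) (.node (nat_lit 0x10c11cb) (.leaf (nat_lit 0x10c11c9) (nat_lit 2051))
 (.leaf (nat_lit 0x10c11cb) (nat_lit 1795))
) (.node (nat_lit 0x10c11cf) (.leaf (nat_lit 0x10c11cd) (nat_lit 1539))
 (.leaf (nat_lit 0x10c11cf) (nat_lit 1283))
))) (.node (nat_lit 0x10c11d9) (.node (nat_lit 0x10c11d5) (.node (nat_lit 0x10c11d3) (.leaf (nat_lit 0x10c11d1) (nat_lit 2562))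
 (.leaf (nat_lit 0x10c11d3) (nat_lit 2306))
) (.node (nat_lit 0x10c11d7) (.leaf (nat_lit 0x10c11d5) (nat_lit 3073))
 (.leaf (nat_lit 0x10c11d7) (nat_lit 2817))
)) (.node (nat_lit 0x10c11dd) (.node (nat_lit 0x10c11db) (.leaf (nat_lit 0x10c11d9) (nat_lit 3074))
 (.leaf (nat_lit 0x10c11db) (nat_lit 2818))
) (.node (nat_lit 0x10c11df) (.leaf (nat_lit 0x10c11dd) (nat_lit 2562))
 (.leaf (nat_lit 0x10c11df) (nat_lit 2818))
)))))) (.node (nat_lit 0x10c1341) (.node (nat_lit 0x10c12c1) (.node (nat_lit 0x10c1251) (.node (nat_lit 0x10c1249) (.node (nat_lit 0x10c1245) (.node (nat_lit 0x10c1243) (.leaf (nat_lit 0x10c1241) (nat_lit 1794))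
 (.leaf (nat_lit 0x10c1243) (nat_lit 2050))
) (.node (nat_lit 0x10c1247) (.leaf (nat_lit 0x10c1245) (nat_lit 2818))
 (.leaf (nat_lit 0x10c1247) (nat_lit 2562))
)) (.node (nat_lit 0x10c124d) (.node (nat_lit 0x10c124b) (.leaf (nat_lit 0x10c1249) (nat_lit 2818))
 (.leaf (nat_lit 0x10c124b) (nat_lit 2562))
) (.node (nat_lit 0x10c124f) (.leaf (nat_lit 0x10c124d) (nat_lit 2306))
 (.leaf (nat_lit 0x10c124f) (nat_lit 2050))
))) (.node (nat_lit 0x10c1259) (.node (nat_lit 0x10c1255) (.node (nat_lit 0x10c1253) (.leaf (nat_lit 0x10c1251) (nat_lit 2306))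
 (.leaf (nat_lit 0x10c1253) (nat_lit 2050))
) (.node (nat_lit 0x10c1257) (.leaf (nat_lit 0x10c1255) (nat_lit 2817))
 (.leaf (nat_lit 0x10c1257) (nat_lit 2561))
)) (.node (nat_lit 0x10c125d) (.node (nat_lit 0x10c125b) (.leaf (nat_lit 0x10c1259) (nat_lit 2818))
 (.leaf (nat_lit 0x10c125b) (nat_lit 3074))
) (.node (nat_lit 0x10c125f) (.leaf (nat_lit 0x10c125d) (nat_lit 2306))
 (.leaf (nat_lit 0x10c125f) (nat_lit 2562))
)))) (.node (nat_lit 0x10c12d1) (.node (nat_lit 0x10c12c9) (.node (nat_lit 0x10c12c5) (.node (nat_lit 0x10c12c3) (.leaf (nat_lit 0x10c12c1) (nat_lit 2050))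
 (.leaf (nat_lit 0x10c12c3) (nat_lit 2306))
) (.node (nat_lit 0x10c12c7) (.leaf (nat_lit 0x10c12c5) (nat_lit 2562))
 (.leaf (nat_lit 0x10c12c7) (nat_lit 2306))
)) (.node (nat_lit 0x10c12cd) (.node (nat_lit 0x10c12cb) (.leaf (nat_lit 0x10c12c9) (nat_lit 2562))
 (.leaf (nat_lit 0x10c12cb) (nat_lit 2306))
) (.node (nat_lit 0x10c12cf) (.leaf (nat_lit 0x10c12cd) (nat_lit 2562))
 (.leaf (nat_lit 0x10c12cf) (nat_lit 2306))
))) (.node (nat_lit 0x10c12d9) (.node (nat_lit 0x10c12d5) (.node (nat_lit 0x10c12d3) (.leaf (nat_lit 0x10c12d1) (nat_lit 2561))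
 (.leaf (nat_lit 0x10c12d3) (nat_lit 2305))
) (.node (nat_lit 0x10c12d7) (.leaf (nat_lit 0x10c12d5) (nat_lit 2562))
 (.leaf (nat_lit 0x10c12d7) (nat_lit 2306))
)) (.node (nat_lit 0x10c12dd) (.node (nat_lit 0x10c12db) (.leaf (nat_lit 0x10c12d9) (nat_lit 2562))
 (.leaf (nat_lit 0x10c12db) (nat_lit 2818))
) (.node (nat_lit 0x10c12df) (.leaf (nat_lit 0x10c12dd) (nat_lit 2562))
 (.leaf (nat_lit 0x10c12df) (nat_lit 2818))
))))) (.node (nat_lit 0x10c13c1) (.node (nat_lit 0x10c1351) (.node (nat_lit 0x10c1349) (.node (nat_lit 0x10c1345) (.node (nat_lit 0x10c1343) (.leaf (nat_lit 0x10c1341) (nat_lit 1282))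
 (.leaf (nat_lit 0x10c1343) (nat_lit 1538))
) (.node (nat_lit 0x10c1347) (.leaf (nat_lit 0x10c1345) (nat_lit 1794))
 (.leaf (nat_lit 0x10c1347) (nat_lit 1538))
)) (.node (nat_lit 0x10c134d) (.node (nat_lit 0x10c134b) (.leaf (nat_lit 0x10c1349) (nat_lit 2818))
 (.leaf (nat_lit 0x10c134b) (nat_lit 2562))
) (.node (nat_lit 0x10c134f) (.leaf (nat_lit 0x10c134d) (nat_lit 2818))
 (.leaf (nat_lit 0x10c134f) (nat_lit 2562))
))) (.node (nat_lit 0x10c1359) (.node (nat_lit 0x10c1355) (.node (nat_lit 0x10c1353) (.leaf (nat_lit 0x10c1351) (nat_lit 2818))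
 (.leaf (nat_lit 0x10c1353) (nat_lit 3074))
) (.node (nat_lit 0x10c1357) (.leaf (nat_lit 0x10c1355) (nat_lit 2819))
 (.leaf (nat_lit 0x10c1357) (nat_lit 2563))
)) (.node (nat_lit 0x10c135d) (.node (nat_lit 0x10c135b) (.leaf (nat_lit 0x10c1359) (nat_lit 1794))
 (.leaf (nat_lit 0x10c135b) (nat_lit 1538))
) (.node (nat_lit 0x10c135f) (.leaf (nat_lit 0x10c135d) (nat_lit 1793))
 (.leaf (nat_lit 0x10c135f) (nat_lit 1537))
)))) (.node (nat_lit 0x10c13d1) (.node (nat_lit 0x10c13c9) (.node (nat_lit 0x10c13c5) (.node (nat_lit 0x10c13c3) (.leaf (nat_lit 0x10c13c1) (nat_lit 1026))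
 (.leaf (nat_lit 0x10c13c3) (nat_lit 1282))
) (.node (nat_lit 0x10c13c7) (.leaf (nat_lit 0x10c13c5) (nat_lit 2050))
 (.leaf (nat_lit 0x10c13c7) (nat_lit 1794))
)) (.node (nat_lit 0x10c13cd) (.node (nat_lit 0x10c13cb) (.leaf (nat_lit 0x10c13c9) (nat_lit 3074))
 (.leaf (nat_lit 0x10c13cb) (nat_lit 2818))
) (.node (nat_lit 0x10c13cf) (.leaf (nat_lit 0x10c13cd) (nat_lit 2562))
 (.leaf (nat_lit 0x10c13cf) (nat_lit 2306))
))) (.node (nat_lit 0x10c13d9) (.node (nat_lit 0x10c13d5) (.node (nat_lit 0x10c13d3) (.leaf (nat_lit 0x10c13d1) (nat_lit 2562))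
 (.leaf (nat_lit 0x10c13d3) (nat_lit 2818))
) (.node (nat_lit 0x10c13d7) (.leaf (nat_lit 0x10c13d5) (nat_lit 3074))
 (.leaf (nat_lit 0x10c13d7) (nat_lit 2818))
)) (.node (nat_lit 0x10c13dd) (.node (nat_lit 0x10c13db) (.leaf (nat_lit 0x10c13d9) (nat_lit 2049))
 (.leaf (nat_lit 0x10c13db) (nat_lit 1793))
) (.node (nat_lit 0x10c13df) (.leaf (nat_lit 0x10c13dd) (nat_lit 1538))
 (.leaf (nat_lit 0x10c13df) (nat_lit 1282))
))))))) (.node (nat_lit 0x10c3241) (.node (nat_lit 0x10c3141) (.node (nat_lit 0x10c30c1) (.node (nat_lit 0x10c3051) (.node (nat_lit 0x10c3049) (.node (nat_lit 0x10c3045) (.node (nat_lit 0x10c3043) (.leaf (nat_lit 0x10c3041) (nat_lit 515))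
 (.leaf (nat_lit 0x10c3043) (nat_lit 771))
) (.node (nat_lit 0x10c3047) (.leaf (nat_lit 0x10c3045) (nat_lit 1539))
 (.leaf (nat_lit 0x10c3047) (nat_lit 1283))
)) (.node (nat_lit 0x10c304d) (.node (nat_lit 0x10c304b) (.leaf (nat_lit 0x10c3049) (nat_lit 2051))
 (.leaf (nat_lit 0x10c304b) (nat_lit 2307))
) (.node (nat_lit 0x10c304f) (.leaf (nat_lit 0x10c304d) (nat_lit 1539))
 (.leaf (nat_lit 0x10c304f) (nat_lit 1283))
))) (.node (nat_lit 0x10c3059) (.node (nat_lit 0x10c3055) (.node (nat_lit 0x10c3053) (.leaf (nat_lit 0x10c3051) (nat_lit 2562))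
 (.leaf (nat_lit 0x10c3053) (nat_lit 2818))
) (.node (nat_lit 0x10c3057) (.leaf (nat_lit 0x10c3055) (nat_lit 2050))
 (.leaf (nat_lit 0x10c3057) (nat_lit 1794))
)) (.node (nat_lit 0x10c305d) (.node (nat_lit 0x10c305b) (.leaf (nat_lit 0x10c3059) (nat_lit 2561))
 (.leaf (nat_lit 0x10c305b) (nat_lit 2305))
) (.node (nat_lit 0x10c305f) (.leaf (nat_lit 0x10c305d) (nat_lit 2563))
 (.leaf (nat_lit 0x10c305f) (nat_lit 2307))
)))) (.node (nat_lit 0x10c30d1) (.node (nat_lit 0x10c30c9) (.node (nat_lit 0x10c30c5) (.node (nat_lit 0x10c30c3) (.leaf (nat_lit 0x10c30c1) (nat_lit 771))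
 (.leaf (nat_lit 0x10c30c3) (nat_lit 1027))
) (.node (nat_lit 0x10c30c7) (.leaf (nat_lit 0x10c30c5) (nat_lit 1283))
 (.leaf (nat_lit 0x10c30c7) (nat_lit 1027))
)) (.node (nat_lit 0x10c30cd) (.node (nat_lit 0x10c30cb) (.leaf (nat_lit 0x10c30c9) (nat_lit 1795))
 (.leaf (nat_lit 0x10c30cb) (nat_lit 1539))
) (.node (nat_lit 0x10c30cf) (.leaf (nat_lit 0x10c30cd) (nat_lit 1795))
 (.leaf (nat_lit 0x10c30cf) (nat_lit 2051))
))) (.node (nat_lit 0x10c30d9) (.node (nat_lit 0x10c30d5) (.node (nat_lit 0x10c30d3) (.leaf (nat_lit 0x10c30d1) (nat_lit 2306))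
 (.leaf (nat_lit 0x10c30d3) (nat_lit 2050))
) (.node (nat_lit 0x10c30d7) (.leaf (nat_lit 0x10c30d5) (nat_lit 2306))
 (.leaf (nat_lit 0x10c30d7) (nat_lit 2562))
)) (.node (nat_lit 0x10c30dd) (.node (nat_lit 0x10c30db) (.leaf (nat_lit 0x10c30d9) (nat_lit 2819))
 (.leaf (nat_lit 0x10c30db) (nat_lit 2563))
) (.node (nat_lit 0x10c30df) (.leaf (nat_lit 0x10c30dd) (nat_lit 2817))
 (.leaf (nat_lit 0x10c30df) (nat_lit 2561))
))))) (.node (nat_lit 0x10c31c1) (.node (nat_lit 0x10c3151) (.node (nat_lit 0x10c3149) (.node (nat_lit 0x10c3145) (.node (nat_lit 0x10c3143) (.leaf (nat_lit 0x10c3141) (nat_lit 1027))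
 (.leaf (nat_lit 0x10c3143) (nat_lit 1283))
) (.node (nat_lit 0x10c3147) (.leaf (nat_lit 0x10c3145) (nat_lit 1539))
 (.leaf (nat_lit 0x10c3147) (nat_lit 1283))
)) (.node (nat_lit 0x10c314d) (.node (nat_lit 0x10c314b) (.leaf (nat_lit 0x10c3149) (nat_lit 1539))
 (.leaf (nat_lit 0x10c314b) (nat_lit 1283))
) (.node (nat_lit 0x10c314f) (.leaf (nat_lit 0x10c314d) (nat_lit 1539))
 (.leaf (nat_lit 0x10c314f) (nat_lit 1795))
))) (.node (nat_lit 0x10c3159) (.node (nat_lit 0x10c3155) (.node (nat_lit 0x10c3153) (.leaf (nat_lit 0x10c3151) (nat_lit 2561))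
 (.leaf (nat_lit 0x10c3153) (nat_lit 2305))
) (.node (nat_lit 0x10c3157) (.leaf (nat_lit 0x10c3155) (nat_lit 2561))
 (.leaf (nat_lit 0x10c3157) (nat_lit 2817))
)) (.node (nat_lit 0x10c315d) (.node (nat_lit 0x10c315b) (.leaf (nat_lit 0x10c3159) (nat_lit 2562))
 (.leaf (nat_lit 0x10c315b) (nat_lit 2818))
) (.node (nat_lit 0x10c315f) (.leaf (nat_lit 0x10c315d) (nat_lit 2562))
 (.leaf (nat_lit 0x10c315f) (nat_lit 2306))
)))) (.node (nat_lit 0x10c31d1) (.node (nat_lit 0x10c31c9) (.node (nat_lit 0x10c31c5) (.node (nat_lit 0x10c31c3) (.leaf (nat_lit 0x10c31c1) (nat_lit 771))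
 (.leaf (nat_lit 0x10c31c3) (nat_lit 1027))
) (.node (nat_lit 0x10c31c7) (.leaf (nat_lit 0x10c31c5) (nat_lit 1795))
 (.leaf (nat_lit 0x10c31c7) (nat_lit 1539))
)) (.node (nat_lit 0x10c31cd) (.node (nat_lit 0x10c31cb) (.leaf (nat_lit 0x10c31c9) (nat_lit 1795))
 (.leaf (nat_lit 0x10c31cb) (nat_lit 2051))
) (.node (nat_lit 0x10c31cf) (.leaf (nat_lit 0x10c31cd) (nat_lit 1283))
 (.leaf (nat_lit 0x10c31cf) (nat_lit 1027))
))) (.node (nat_lit 0x10c31d9) (.node (nat_lit 0x10c31d5) (.node (nat_lit 0x10c31d3) (.leaf (nat_lit 0x10c31d1) (nat_lit 2817))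
 (.leaf (nat_lit 0x10c31d3) (nat_lit 3073))
) (.node (nat_lit 0x10c31d7) (.leaf (nat_lit 0x10c31d5) (nat_lit 2305))
 (.leaf (nat_lit 0x10c31d7) (nat_lit 2049))
)) (.node (nat_lit 0x10c31dd) (.node (nat_lit 0x10c31db) (.leaf (nat_lit 0x10c31d9) (nat_lit 2306))
 (.leaf (nat_lit 0x10c31db) (nat_lit 2050))
) (.node (nat_lit 0x10c31df) (.leaf (nat_lit 0x10c31dd) (nat_lit 2819))
 (.leaf (nat_lit 0x10c31df) (nat_lit 2563))
)))))) (.node (nat_lit 0x10c3341) (.node (nat_lit 0x10c32c1) (.node (nat_lit 0x10c3251) (.node (nat_lit 0x10c3249) (.node (nat_lit 0x10c3245) (.node (nat_lit 0x10c3243) (.leaf (nat_lit 0x10c3241) (nat_lit 1538))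
 (.leaf (nat_lit 0x10c3243) (nat_lit 1794))
) (.node (nat_lit 0x10c3247) (.leaf (nat_lit 0x10c3245) (nat_lit 2050))
 (.leaf (nat_lit 0x10c3247) (nat_lit 1794))
)) (.node (nat_lit 0x10c324d) (.node (nat_lit 0x10c324b) (.leaf (nat_lit 0x10c3249) (nat_lit 2562))
 (.leaf (nat_lit 0x10c324b) (nat_lit 2306))
) (.node (nat_lit 0x10c324f) (.leaf (nat_lit 0x10c324d) (nat_lit 2562))
 (.leaf (nat_lit 0x10c324f) (nat_lit 2818))
))) (.node (nat_lit 0x10c3259) (.node (nat_lit 0x10c3255) (.node (nat_lit 0x10c3253) (.leaf (nat_lit 0x10c3251) (nat_lit 2050))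
 (.leaf (nat_lit 0x10c3253) (nat_lit 1794))
) (.node (nat_lit 0x10c3257) (.leaf (nat_lit 0x10c3255) (nat_lit 2050))
 (.leaf (nat_lit 0x10c3257) (nat_lit 2306))
)) (.node (nat_lit 0x10c325d) (.node (nat_lit 0x10c325b) (.leaf (nat_lit 0x10c3259) (nat_lit 2561))
 (.leaf (nat_lit 0x10c325b) (nat_lit 2817))
) (.node (nat_lit 0x10c325f) (.leaf (nat_lit 0x10c325d) (nat_lit 2561))
 (.leaf (nat_lit 0x10c325f) (nat_lit 2305))
)))) (.node (nat_lit 0x10c32d1) (.node (nat_lit 0x10c32c9) (.node (nat_lit 0x10c32c5) (.node (nat_lit 0x10c32c3) (.leaf (nat_lit 0x10c32c1) (nat_lit 1282))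
 (.leaf (nat_lit 0x10c32c3) (nat_lit 1538))
) (.node (nat_lit 0x10c32c7) (.leaf (nat_lit 0x10c32c5) (nat_lit 2306))
 (.leaf (nat_lit 0x10c32c7) (nat_lit 2050))
)) (.node (nat_lit 0x10c32cd) (.node (nat_lit 0x10c32cb) (.leaf (nat_lit 0x10c32c9) (nat_lit 2818))
 (.leaf (nat_lit 0x10c32cb) (nat_lit 3074))
) (.node (nat_lit 0x10c32cf) (.leaf (nat_lit 0x10c32cd) (nat_lit 2306))
 (.leaf (nat_lit 0x10c32cf) (nat_lit 2050))
))) (.node (nat_lit 0x10c32d9) (.node (nat_lit 0x10c32d5) (.node (nat_lit 0x10c32d3) (.leaf (nat_lit 0x10c32d1) (nat_lit 2306))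
 (.leaf (nat_lit 0x10c32d3) (nat_lit 2562))
) (.node (nat_lit 0x10c32d7) (.leaf (nat_lit 0x10c32d5) (nat_lit 1794))
 (.leaf (nat_lit 0x10c32d7) (nat_lit 1538))
)) (.node (nat_lit 0x10c32dd) (.node (nat_lit 0x10c32db) (.leaf (nat_lit 0x10c32d9) (nat_lit 2305))
 (.leaf (nat_lit 0x10c32db) (nat_lit 2049))
) (.node (nat_lit 0x10c32df) (.leaf (nat_lit 0x10c32dd) (nat_lit 2818))
 (.leaf (nat_lit 0x10c32df) (nat_lit 2562))
))))) (.node (nat_lit 0x10c33c1) (.node (nat_lit 0x10c3351) (.node (nat_lit 0x10c3349) (.node (nat_lit 0x10c3345) (.node (nat_lit 0x10c3343) (.leaf (nat_lit 0x10c3341) (nat_lit 1538))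
 (.leaf (nat_lit 0x10c3343) (nat_lit 1794))
) (.node (nat_lit 0x10c3347) (.leaf (nat_lit 0x10c3345) (nat_lit 2562))
 (.leaf (nat_lit 0x10c3347) (nat_lit 2306))
)) (.node (nat_lit 0x10c334d) (.node (nat_lit 0x10c334b) (.leaf (nat_lit 0x10c3349) (nat_lit 2562))
 (.leaf (nat_lit 0x10c334b) (nat_lit 2818))
) (.node (nat_lit 0x10c334f) (.leaf (nat_lit 0x10c334d) (nat_lit 2050))
 (.leaf (nat_lit 0x10c334f) (nat_lit 1794))
))) (.node (nat_lit 0x10c3359) (.node (nat_lit 0x10c3355) (.node (nat_lit 0x10c3353) (.leaf (nat_lit 0x10c3351) (nat_lit 2561))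
 (.leaf (nat_lit 0x10c3353) (nat_lit 2817))
) (.node (nat_lit 0x10c3357) (.leaf (nat_lit 0x10c3355) (nat_lit 2049))
 (.leaf (nat_lit 0x10c3357) (nat_lit 1793))
)) (.node (nat_lit 0x10c335d) (.node (nat_lit 0x10c335b) (.leaf (nat_lit 0x10c3359) (nat_lit 2050))
 (.leaf (nat_lit 0x10c335b) (nat_lit 1794))
) (.node (nat_lit 0x10c335f) (.leaf (nat_lit 0x10c335d) (nat_lit 2563))
 (.leaf (nat_lit 0x10c335f) (nat_lit 2307))
)))) (.node (nat_lit 0x10c33d1) (.node (nat_lit 0x10c33c9) (.node (nat_lit 0x10c33c5) (.node (nat_lit 0x10c33c3) (.leaf (nat_lit 0x10c33c1) (nat_lit 1794))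
 (.leaf (nat_lit 0x10c33c3) (nat_lit 2050))
) (.node (nat_lit 0x10c33c7) (.leaf (nat_lit 0x10c33c5) (nat_lit 2306))
 (.leaf (nat_lit 0x10c33c7) (nat_lit 2050))
)) (.node (nat_lit 0x10c33cd) (.node (nat_lit 0x10c33cb) (.leaf (nat_lit 0x10c33c9) (nat_lit 2306))
 (.leaf (nat_lit 0x10c33cb) (nat_lit 2050))
) (.node (nat_lit 0x10c33cf) (.leaf (nat_lit 0x10c33cd) (nat_lit 2306))
 (.leaf (nat_lit 0x10c33cf) (nat_lit 2562))
))) (.node (nat_lit 0x10c33d9) (.node (nat_lit 0x10c33d5) (.node (nat_lit 0x10c33d3) (.leaf (nat_lit 0x10c33d1) (nat_lit 2305))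
 (.leaf (nat_lit 0x10c33d3) (nat_lit 2049))
) (.node (nat_lit 0x10c33d7) (.leaf (nat_lit 0x10c33d5) (nat_lit 2305))
 (.leaf (nat_lit 0x10c33d7) (nat_lit 2561))
)) (.node (nat_lit 0x10c33dd) (.node (nat_lit 0x10c33db) (.leaf (nat_lit 0x10c33d9) (nat_lit 2306))
 (.leaf (nat_lit 0x10c33db) (nat_lit 2562))
) (.node (nat_lit 0x10c33df) (.leaf (nat_lit 0x10c33dd) (nat_lit 2306))
 (.leaf (nat_lit 0x10c33df) (nat_lit 2050))
)))))))) (.node (nat_lit 0x10c7041) (.node (nat_lit 0x10c5241) (.node (nat_lit 0x10c5141) (.node (nat_lit 0x10c50c1) (.node (nat_lit 0x10c5051) (.node (nat_lit 0x10c5049) (.node (nat_lit 0x10c5045) (.node (nat_lit 0x10c5043) (.leaf (nat_lit 0x10c5041) (nat_lit 770))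
 (.leaf (nat_lit 0x10c5043) (nat_lit 1026))
) (.node (nat_lit 0x10c5047) (.leaf (nat_lit 0x10c5045) (nat_lit 1794))
 (.leaf (nat_lit 0x10c5047) (nat_lit 1538))
)) (.node (nat_lit 0x10c504d) (.node (nat_lit 0x10c504b) (.leaf (nat_lit 0x10c5049) (nat_lit 2306))
 (.leaf (nat_lit 0x10c504b) (nat_lit 2562))
) (.node (nat_lit 0x10c504f) (.leaf (nat_lit 0x10c504d) (nat_lit 1794))
 (.leaf (nat_lit 0x10c504f) (nat_lit 1538))
))) (.node (nat_lit 0x10c5059) (.node (nat_lit 0x10c5055) (.node (nat_lit 0x10c5053) (.leaf (nat_lit 0x10c5051) (nat_lit 2305))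
 (.leaf (nat_lit 0x10c5053) (nat_lit 2561))
) (.node (nat_lit 0x10c5057) (.leaf (nat_lit 0x10c5055) (nat_lit 1793))
 (.leaf (nat_lit 0x10c5057) (nat_lit 1537))
)) (.node (nat_lit 0x10c505d) (.node (nat_lit 0x10c505b) (.leaf (nat_lit 0x10c5059) (nat_lit 2305))
 (.leaf (nat_lit 0x10c505b) (nat_lit 2561))
) (.node (nat_lit 0x10c505f) (.leaf (nat_lit 0x10c505d) (nat_lit 2307))
 (.leaf (nat_lit 0x10c505f) (nat_lit 2051))
)))) (.node (nat_lit 0x10c50d1) (.node (nat_lit 0x10c50c9) (.node (nat_lit 0x10c50c5) (.node (nat_lit 0x10c50c3) (.leaf (nat_lit 0x10c50c1) (nat_lit 1026))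
 (.leaf (nat_lit 0x10c50c3) (nat_lit 1282))
) (.node (nat_lit 0x10c50c7) (.leaf (nat_lit 0x10c50c5) (nat_lit 1538))
 (.leaf (nat_lit 0x10c50c7) (nat_lit 1282))
)) (.node (nat_lit 0x10c50cd) (.node (nat_lit 0x10c50cb) (.leaf (nat_lit 0x10c50c9) (nat_lit 2050))
 (.leaf (nat_lit 0x10c50cb) (nat_lit 1794))
) (.node (nat_lit 0x10c50cf) (.leaf (nat_lit 0x10c50cd) (nat_lit 2050))
 (.leaf (nat_lit 0x10c50cf) (nat_lit 2306))
))) (.node (nat_lit 0x10c50d9) (.node (nat_lit 0x10c50d5) (.node (nat_lit 0x10c50d3) (.leaf (nat_lit 0x10c50d1) (nat_lit 2049))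
 (.leaf (nat_lit 0x10c50d3) (nat_lit 1793))
) (.node (nat_lit 0x10c50d7) (.leaf (nat_lit 0x10c50d5) (nat_lit 2049))
 (.leaf (nat_lit 0x10c50d7) (nat_lit 2305))
)) (.node (nat_lit 0x10c50dd) (.node (nat_lit 0x10c50db) (.leaf (nat_lit 0x10c50d9) (nat_lit 2563))
 (.leaf (nat_lit 0x10c50db) (nat_lit 2307))
) (.node (nat_lit 0x10c50df) (.leaf (nat_lit 0x10c50dd) (nat_lit 2563))
 (.leaf (nat_lit 0x10c50df) (nat_lit 2819))
))))) (.node (nat_lit 0x10c51c1) (.node (nat_lit 0x10c5151) (.node (nat_lit 0x10c5149) (.node (nat_lit 0x10c5145) (.node (nat_lit 0x10c5143) (.leaf (nat_lit 0x10c5141) (nat_lit 1282))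
 (.leaf (nat_lit 0x10c5143) (nat_lit 1538))
) (.node (nat_lit 0x10c5147) (.leaf (nat_lit 0x10c5145) (nat_lit 1794))
 (.leaf (nat_lit 0x10c5147) (nat_lit 1538))
)) (.node (nat_lit 0x10c514d) (.node (nat_lit 0x10c514b) (.leaf (nat_lit 0x10c5149) (nat_lit 1794))
 (.leaf (nat_lit 0x10c514b) (nat_lit 1538))
) (.node (nat_lit 0x10c514f) (.leaf (nat_lit 0x10c514d) (nat_lit 1794))
 (.leaf (nat_lit 0x10c514f) (nat_lit 2050))
))) (.node (nat_lit 0x10c5159) (.node (nat_lit 0x10c5155) (.node (nat_lit 0x10c5153) (.leaf (nat_lit 0x10c5151) (nat_lit 2817))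
 (.leaf (nat_lit 0x10c5153) (nat_lit 2561))
) (.node (nat_lit 0x10c5157) (.leaf (nat_lit 0x10c5155) (nat_lit 2305))
 (.leaf (nat_lit 0x10c5157) (nat_lit 2561))
)) (.node (nat_lit 0x10c515d) (.node (nat_lit 0x10c515b) (.leaf (nat_lit 0x10c5159) (nat_lit 2305))
 (.leaf (nat_lit 0x10c515b) (nat_lit 2561))
) (.node (nat_lit 0x10c515f) (.leaf (nat_lit 0x10c515d) (nat_lit 2305))
 (.leaf (nat_lit 0x10c515f) (nat_lit 2049))
)))) (.node (nat_lit 0x10c51d1) (.node (nat_lit 0x10c51c9) (.node (nat_lit 0x10c51c5) (.node (nat_lit 0x10c51c3) (.leaf (nat_lit 0x10c51c1) (nat_lit 1026))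
 (.leaf (nat_lit 0x10c51c3) (nat_lit 1282))
) (.node (nat_lit 0x10c51c7) (.leaf (nat_lit 0x10c51c5) (nat_lit 2050))
 (.leaf (nat_lit 0x10c51c7) (nat_lit 1794))
)) (.node (nat_lit 0x10c51cd) (.node (nat_lit 0x10c51cb) (.leaf (nat_lit 0x10c51c9) (nat_lit 2050))
 (.leaf (nat_lit 0x10c51cb) (nat_lit 2306))
) (.node (nat_lit 0x10c51cf) (.leaf (nat_lit 0x10c51cd) (nat_lit 1538))
 (.leaf (nat_lit 0x10c51cf) (nat_lit 1282))
))) (.node (nat_lit 0x10c51d9) (.node (nat_lit 0x10c51d5) (.node (nat_lit 0x10c51d3) (.leaf (nat_lit 0x10c51d1) (nat_lit 3073))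
 (.leaf (nat_lit 0x10c51d3) (nat_lit 2817))
) (.node (nat_lit 0x10c51d7) (.leaf (nat_lit 0x10c51d5) (nat_lit 2049))
 (.leaf (nat_lit 0x10c51d7) (nat_lit 2305))
)) (.node (nat_lit 0x10c51dd) (.node (nat_lit 0x10c51db) (.leaf (nat_lit 0x10c51d9) (nat_lit 2049))
 (.leaf (nat_lit 0x10c51db) (nat_lit 1793))
) (.node (nat_lit 0x10c51df) (.leaf (nat_lit 0x10c51dd) (nat_lit 2561))
 (.leaf (nat_lit 0x10c51df) (nat_lit 2817))
)))))) (.node (nat_lit 0x10c5341) (.node (nat_lit 0x10c52c1) (.node (nat_lit 0x10c5251) (.node (nat_lit 0x10c5249) (.node (nat_lit 0x10c5245) (.node (nat_lit 0x10c5243) (.leaf (nat_lit 0x10c5241) (nat_lit 1281))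
 (.leaf (nat_lit 0x10c5243) (nat_lit 1537))
) (.node (nat_lit 0x10c5247) (.leaf (nat_lit 0x10c5245) (nat_lit 1793))
 (.leaf (nat_lit 0x10c5247) (nat_lit 1537))
)) (.node (nat_lit 0x10c524d) (.node (nat_lit 0x10c524b) (.leaf (nat_lit 0x10c5249) (nat_lit 2305))
 (.leaf (nat_lit 0x10c524b) (nat_lit 2049))
) (.node (nat_lit 0x10c524f) (.leaf (nat_lit 0x10c524d) (nat_lit 2305))
 (.leaf (nat_lit 0x10c524f) (nat_lit 2561))
))) (.node (nat_lit 0x10c5259) (.node (nat_lit 0x10c5255) (.node (nat_lit 0x10c5253) (.leaf (nat_lit 0x10c5251) (nat_lit 1792))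
 (.leaf (nat_lit 0x10c5253) (nat_lit 1536))
) (.node (nat_lit 0x10c5257) (.leaf (nat_lit 0x10c5255) (nat_lit 1792))
 (.leaf (nat_lit 0x10c5257) (nat_lit 2048))
)) (.node (nat_lit 0x10c525d) (.node (nat_lit 0x10c525b) (.leaf (nat_lit 0x10c5259) (nat_lit 2304))
 (.leaf (nat_lit 0x10c525b) (nat_lit 2560))
) (.node (nat_lit 0x10c525f) (.leaf (nat_lit 0x10c525d) (nat_lit 2816))
 (.leaf (nat_lit 0x10c525f) (nat_lit 2560))
)))) (.node (nat_lit 0x10c52d1) (.node (nat_lit 0x10c52c9) (.node (nat_lit 0x10c52c5) (.node (nat_lit 0x10c52c3) (.leaf (nat_lit 0x10c52c1) (nat_lit 1025))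
 (.leaf (nat_lit 0x10c52c3) (nat_lit 1281))
) (.node (nat_lit 0x10c52c7) (.leaf (nat_lit 0x10c52c5) (nat_lit 2049))
 (.leaf (nat_lit 0x10c52c7) (nat_lit 1793))
)) (.node (nat_lit 0x10c52cd) (.node (nat_lit 0x10c52cb) (.leaf (nat_lit 0x10c52c9) (nat_lit 2561))
 (.leaf (nat_lit 0x10c52cb) (nat_lit 2817))
) (.node (nat_lit 0x10c52cf) (.leaf (nat_lit 0x10c52cd) (nat_lit 2049))
 (.leaf (nat_lit 0x10c52cf) (nat_lit 1793))
))) (.node (nat_lit 0x10c52d9) (.node (nat_lit 0x10c52d5) (.node (nat_lit 0x10c52d3) (.leaf (nat_lit 0x10c52d1) (nat_lit 2048))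
 (.leaf (nat_lit 0x10c52d3) (nat_lit 2304))
) (.node (nat_lit 0x10c52d7) (.leaf (nat_lit 0x10c52d5) (nat_lit 1536))
 (.leaf (nat_lit 0x10c52d7) (nat_lit 1280))
)) (.node (nat_lit 0x10c52dd) (.node (nat_lit 0x10c52db) (.leaf (nat_lit 0x10c52d9) (nat_lit 2048))
 (.leaf (nat_lit 0x10c52db) (nat_lit 2304))
) (.node (nat_lit 0x10c52df) (.leaf (nat_lit 0x10c52dd) (nat_lit 2563))
 (.leaf (nat_lit 0x10c52df) (nat_lit 2307))
))))) (.node (nat_lit 0x10c53c1) (.node (nat_lit 0x10c5351) (.node (nat_lit 0x10c5349) (.node (nat_lit 0x10c5345) (.node (nat_lit 0x10c5343) (.leaf (nat_lit 0x10c5341) (nat_lit 1281))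
 (.leaf (nat_lit 0x10c5343) (nat_lit 1537))
) (.node (nat_lit 0x10c5347) (.leaf (nat_lit 0x10c5345) (nat_lit 2305))
 (.leaf (nat_lit 0x10c5347) (nat_lit 2049))
)) (.node (nat_lit 0x10c534d) (.node (nat_lit 0x10c534b) (.leaf (nat_lit 0x10c5349) (nat_lit 2305))
 (.leaf (nat_lit 0x10c534b) (nat_lit 2561))
) (.node (nat_lit 0x10c534f) (.leaf (nat_lit 0x10c534d) (nat_lit 1793))
 (.leaf (nat_lit 0x10c534f) (nat_lit 1537))
))) (.node (nat_lit 0x10c5359) (.node (nat_lit 0x10c5355) (.node (nat_lit 0x10c5353) (.leaf (nat_lit 0x10c5351) (nat_lit 2816))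
 (.leaf (nat_lit 0x10c5353) (nat_lit 2560))
) (.node (nat_lit 0x10c5357) (.leaf (nat_lit 0x10c5355) (nat_lit 1792))
 (.leaf (nat_lit 0x10c5357) (nat_lit 2048))
)) (.node (nat_lit 0x10c535d) (.node (nat_lit 0x10c535b) (.leaf (nat_lit 0x10c5359) (nat_lit 1792))
 (.leaf (nat_lit 0x10c535b) (nat_lit 1536))
) (.node (nat_lit 0x10c535f) (.leaf (nat_lit 0x10c535d) (nat_lit 2304))
 (.leaf (nat_lit 0x10c535f) (nat_lit 2560))
)))) (.node (nat_lit 0x10c53d1) (.node (nat_lit 0x10c53c9) (.node (nat_lit 0x10c53c5) (.node (nat_lit 0x10c53c3) (.leaf (nat_lit 0x10c53c1) (nat_lit 1537))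
 (.leaf (nat_lit 0x10c53c3) (nat_lit 1793))
) (.node (nat_lit 0x10c53c7) (.leaf (nat_lit 0x10c53c5) (nat_lit 2049))
 (.leaf (nat_lit 0x10c53c7) (nat_lit 1793))
)) (.node (nat_lit 0x10c53cd) (.node (nat_lit 0x10c53cb) (.leaf (nat_lit 0x10c53c9) (nat_lit 2049))
 (.leaf (nat_lit 0x10c53cb) (nat_lit 1793))
) (.node (nat_lit 0x10c53cf) (.leaf (nat_lit 0x10c53cd) (nat_lit 2049))
 (.leaf (nat_lit 0x10c53cf) (nat_lit 2305))
))) (.node (nat_lit 0x10c53d9) (.node (nat_lit 0x10c53d5) (.node (nat_lit 0x10c53d3) (.leaf (nat_lit 0x10c53d1) (nat_lit 2560))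
 (.leaf (nat_lit 0x10c53d3) (nat_lit 2304))
) (.node (nat_lit 0x10c53d7) (.leaf (nat_lit 0x10c53d5) (nat_lit 2048))
 (.leaf (nat_lit 0x10c53d7) (nat_lit 2304))
)) (.node (nat_lit 0x10c53dd) (.node (nat_lit 0x10c53db) (.leaf (nat_lit 0x10c53d9) (nat_lit 2048))
 (.leaf (nat_lit 0x10c53db) (nat_lit 2304))
) (.node (nat_lit 0x10c53df) (.leaf (nat_lit 0x10c53dd) (nat_lit 2048))
 (.leaf (nat_lit 0x10c53df) (nat_lit 1792))
))))))) (.node (nat_lit 0x10c7241) (.node (nat_lit 0x10c7141) (.node (nat_lit 0x10c70c1) (.node (nat_lit 0x10c7051) (.node (nat_lit 0x10c7049) (.node (nat_lit 0x10c7045) (.node (nat_lit 0x10c7043) (.leaf (nat_lit 0x10c7041) (nat_lit 514))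
 (.leaf (nat_lit 0x10c7043) (nat_lit 770))
) (.node (nat_lit 0x10c7047) (.leaf (nat_lit 0x10c7045) (nat_lit 1538))
 (.leaf (nat_lit 0x10c7047) (nat_lit 1282))
)) (.node (nat_lit 0x10c704d) (.node (nat_lit 0x10c704b) (.leaf (nat_lit 0x10c7049) (nat_lit 2562))
 (.leaf (nat_lit 0x10c704b) (nat_lit 2306))
) (.node (nat_lit 0x10c704f) (.leaf (nat_lit 0x10c704d) (nat_lit 2050))
 (.leaf (nat_lit 0x10c704f) (nat_lit 1794))
))) (.node (nat_lit 0x10c7059) (.node (nat_lit 0x10c7055) (.node (nat_lit 0x10c7053) (.leaf (nat_lit 0x10c7051) (nat_lit 2561))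
 (.leaf (nat_lit 0x10c7053) (nat_lit 2817))
) (.node (nat_lit 0x10c7057) (.leaf (nat_lit 0x10c7055) (nat_lit 2563))
 (.leaf (nat_lit 0x10c7057) (nat_lit 2307))
)) (.node (nat_lit 0x10c705d) (.node (nat_lit 0x10c705b) (.leaf (nat_lit 0x10c7059) (nat_lit 2049))
 (.leaf (nat_lit 0x10c705b) (nat_lit 2305))
) (.node (nat_lit 0x10c705f) (.leaf (nat_lit 0x10c705d) (nat_lit 1537))
 (.leaf (nat_lit 0x10c705f) (nat_lit 1281))
)))) (.node (nat_lit 0x10c70d1) (.node (nat_lit 0x10c70c9) (.node (nat_lit 0x10c70c5) (.node (nat_lit 0x10c70c3) (.leaf (nat_lit 0x10c70c1) (nat_lit 770))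
 (.leaf (nat_lit 0x10c70c3) (nat_lit 1026))
) (.node (nat_lit 0x10c70c7) (.leaf (nat_lit 0x10c70c5) (nat_lit 1282))
 (.leaf (nat_lit 0x10c70c7) (nat_lit 1026))
)) (.node (nat_lit 0x10c70cd) (.node (nat_lit 0x10c70cb) (.leaf (nat_lit 0x10c70c9) (nat_lit 2306))
 (.leaf (nat_lit 0x10c70cb) (nat_lit 2050))
) (.node (nat_lit 0x10c70cf) (.leaf (nat_lit 0x10c70cd) (nat_lit 2306))
 (.leaf (nat_lit 0x10c70cf) (nat_lit 2050))
))) (.node (nat_lit 0x10c70d9) (.node (nat_lit 0x10c70d5) (.node (nat_lit 0x10c70d3) (.leaf (nat_lit 0x10c70d1) (nat_lit 2819))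
 (.leaf (nat_lit 0x10c70d3) (nat_lit 2563))
) (.node (nat_lit 0x10c70d7) (.leaf (nat_lit 0x10c70d5) (nat_lit 2819))
 (.leaf (nat_lit 0x10c70d7) (nat_lit 3075))
)) (.node (nat_lit 0x10c70dd) (.node (nat_lit 0x10c70db) (.leaf (nat_lit 0x10c70d9) (nat_lit 1793))
 (.leaf (nat_lit 0x10c70db) (nat_lit 1537))
) (.node (nat_lit 0x10c70df) (.leaf (nat_lit 0x10c70dd) (nat_lit 1793))
 (.leaf (nat_lit 0x10c70df) (nat_lit 2049))
))))) (.node (nat_lit 0x10c71c1) (.node (nat_lit 0x10c7151) (.node (nat_lit 0x10c7149) (.node (nat_lit 0x10c7145) (.node (nat_lit 0x10c7143) (.leaf (nat_lit 0x10c7141) (nat_lit 1538))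
 (.leaf (nat_lit 0x10c7143) (nat_lit 1794))
) (.node (nat_lit 0x10c7147) (.leaf (nat_lit 0x10c7145) (nat_lit 2050))
 (.leaf (nat_lit 0x10c7147) (nat_lit 1794))
)) (.node (nat_lit 0x10c714d) (.node (nat_lit 0x10c714b) (.leaf (nat_lit 0x10c7149) (nat_lit 2050))
 (.leaf (nat_lit 0x10c714b) (nat_lit 1794))
) (.node (nat_lit 0x10c714f) (.leaf (nat_lit 0x10c714d) (nat_lit 2050))
 (.leaf (nat_lit 0x10c714f) (nat_lit 1794))
))) (.node (nat_lit 0x10c7159) (.node (nat_lit 0x10c7155) (.node (nat_lit 0x10c7153) (.leaf (nat_lit 0x10c7151) (nat_lit 2561))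
 (.leaf (nat_lit 0x10c7153) (nat_lit 2817))
) (.node (nat_lit 0x10c7157) (.leaf (nat_lit 0x10c7155) (nat_lit 2561))
 (.leaf (nat_lit 0x10c7157) (nat_lit 2305))
)) (.node (nat_lit 0x10c715d) (.node (nat_lit 0x10c715b) (.leaf (nat_lit 0x10c7159) (nat_lit 2561))
 (.leaf (nat_lit 0x10c715b) (nat_lit 2817))
) (.node (nat_lit 0x10c715f) (.leaf (nat_lit 0x10c715d) (nat_lit 2563))
 (.leaf (nat_lit 0x10c715f) (nat_lit 2307))
)))) (.node (nat_lit 0x10c71d1) (.node (nat_lit 0x10c71c9) (.node (nat_lit 0x10c71c5) (.node (nat_lit 0x10c71c3) (.leaf (nat_lit 0x10c71c1) (nat_lit 1282))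
 (.leaf (nat_lit 0x10c71c3) (nat_lit 1538))
) (.node (nat_lit 0x10c71c7) (.leaf (nat_lit 0x10c71c5) (nat_lit 2306))
 (.leaf (nat_lit 0x10c71c7) (nat_lit 2050))
)) (.node (nat_lit 0x10c71cd) (.node (nat_lit 0x10c71cb) (.leaf (nat_lit 0x10c71c9) (nat_lit 2306))
 (.leaf (nat_lit 0x10c71cb) (nat_lit 2050))
) (.node (nat_lit 0x10c71cf) (.leaf (nat_lit 0x10c71cd) (nat_lit 1794))
 (.leaf (nat_lit 0x10c71cf) (nat_lit 1538))
))) (.node (nat_lit 0x10c71d9) (.node (nat_lit 0x10c71d5) (.node (nat_lit 0x10c71d3) (.leaf (nat_lit 0x10c71d1) (nat_lit 2305))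
 (.leaf (nat_lit 0x10c71d3) (nat_lit 2049))
) (.node (nat_lit 0x10c71d7) (.leaf (nat_lit 0x10c71d5) (nat_lit 2817))
 (.leaf (nat_lit 0x10c71d7) (nat_lit 3073))
)) (.node (nat_lit 0x10c71dd) (.node (nat_lit 0x10c71db) (.leaf (nat_lit 0x10c71d9) (nat_lit 2819))
 (.leaf (nat_lit 0x10c71db) (nat_lit 2563))
) (.node (nat_lit 0x10c71df) (.leaf (nat_lit 0x10c71dd) (nat_lit 2305))
 (.leaf (nat_lit 0x10c71df) (nat_lit 2561))
)))))) (.node (nat_lit 0x10c7341) (.node (nat_lit 0x10c72c1) (.node (nat_lit 0x10c7251) (.node (nat_lit 0x10c7249) (.node (nat_lit 0x10c7245) (.node (nat_lit 0x10c7243) (.leaf (nat_lit 0x10c7241) (nat_lit 1537))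
 (.leaf (nat_lit 0x10c7243) (nat_lit 1793))
) (.node (nat_lit 0x10c7247) (.leaf (nat_lit 0x10c7245) (nat_lit 2561))
 (.leaf (nat_lit 0x10c7247) (nat_lit 2305))
)) (.node (nat_lit 0x10c724d) (.node (nat_lit 0x10c724b) (.leaf (nat_lit 0x10c7249) (nat_lit 2561))
 (.leaf (nat_lit 0x10c724b) (nat_lit 2305))
) (.node (nat_lit 0x10c724f) (.leaf (nat_lit 0x10c724d) (nat_lit 2049))
 (.leaf (nat_lit 0x10c724f) (nat_lit 1793))
))) (.node (nat_lit 0x10c7259) (.node (nat_lit 0x10c7255) (.node (nat_lit 0x10c7253) (.leaf (nat_lit 0x10c7251) (nat_lit 2048))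
 (.leaf (nat_lit 0x10c7253) (nat_lit 1792))
) (.node (nat_lit 0x10c7257) (.leaf (nat_lit 0x10c7255) (nat_lit 2560))
 (.leaf (nat_lit 0x10c7257) (nat_lit 2816))
)) (.node (nat_lit 0x10c725d) (.node (nat_lit 0x10c725b) (.leaf (nat_lit 0x10c7259) (nat_lit 2560))
 (.leaf (nat_lit 0x10c725b) (nat_lit 2816))
) (.node (nat_lit 0x10c725f) (.leaf (nat_lit 0x10c725d) (nat_lit 2048))
 (.leaf (nat_lit 0x10c725f) (nat_lit 2304))
)))) (.node (nat_lit 0x10c72d1) (.node (nat_lit 0x10c72c9) (.node (nat_lit 0x10c72c5) (.node (nat_lit 0x10c72c3) (.leaf (nat_lit 0x10c72c1) (nat_lit 1793))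
 (.leaf (nat_lit 0x10c72c3) (nat_lit 2049))
) (.node (nat_lit 0x10c72c7) (.leaf (nat_lit 0x10c72c5) (nat_lit 2305))
 (.leaf (nat_lit 0x10c72c7) (nat_lit 2049))
)) (.node (nat_lit 0x10c72cd) (.node (nat_lit 0x10c72cb) (.leaf (nat_lit 0x10c72c9) (nat_lit 2305))
 (.leaf (nat_lit 0x10c72cb) (nat_lit 2049))
) (.node (nat_lit 0x10c72cf) (.leaf (nat_lit 0x10c72cd) (nat_lit 2305))
 (.leaf (nat_lit 0x10c72cf) (nat_lit 2049))
))) (.node (nat_lit 0x10c72d9) (.node (nat_lit 0x10c72d5) (.node (nat_lit 0x10c72d3) (.leaf (nat_lit 0x10c72d1) (nat_lit 2304))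
 (.leaf (nat_lit 0x10c72d3) (nat_lit 2560))
) (.node (nat_lit 0x10c72d7) (.leaf (nat_lit 0x10c72d5) (nat_lit 2304))
 (.leaf (nat_lit 0x10c72d7) (nat_lit 2048))
)) (.node (nat_lit 0x10c72dd) (.node (nat_lit 0x10c72db) (.leaf (nat_lit 0x10c72d9) (nat_lit 2304))
 (.leaf (nat_lit 0x10c72db) (nat_lit 2560))
) (.node (nat_lit 0x10c72df) (.leaf (nat_lit 0x10c72dd) (nat_lit 2304))
 (.leaf (nat_lit 0x10c72df) (nat_lit 2560))
))))) (.node (nat_lit 0x10c73c1) (.node (nat_lit 0x10c7351) (.node (nat_lit 0x10c7349) (.node (nat_lit 0x10c7345) (.node (nat_lit 0x10c7343) (.leaf (nat_lit 0x10c7341) (nat_lit 1025))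
 (.leaf (nat_lit 0x10c7343) (nat_lit 1281))
) (.node (nat_lit 0x10c7347) (.leaf (nat_lit 0x10c7345) (nat_lit 1537))
 (.leaf (nat_lit 0x10c7347) (nat_lit 1281))
)) (.node (nat_lit 0x10c734d) (.node (nat_lit 0x10c734b) (.leaf (nat_lit 0x10c7349) (nat_lit 2561))
 (.leaf (nat_lit 0x10c734b) (nat_lit 2305))
) (.node (nat_lit 0x10c734f) (.leaf (nat_lit 0x10c734d) (nat_lit 2561))
 (.leaf (nat_lit 0x10c734f) (nat_lit 2305))
))) (.node (nat_lit 0x10c7359) (.node (nat_lit 0x10c7355) (.node (nat_lit 0x10c7353) (.leaf (nat_lit 0x10c7351) (nat_lit 2560))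
 (.leaf (nat_lit 0x10c7353) (nat_lit 2816))
) (.node (nat_lit 0x10c7357) (.leaf (nat_lit 0x10c7355) (nat_lit 2560))
 (.leaf (nat_lit 0x10c7357) (nat_lit 2816))
)) (.node (nat_lit 0x10c735d) (.node (nat_lit 0x10c735b) (.leaf (nat_lit 0x10c7359) (nat_lit 1536))
 (.leaf (nat_lit 0x10c735b) (nat_lit 1280))
) (.node (nat_lit 0x10c735f) (.leaf (nat_lit 0x10c735d) (nat_lit 1536))
 (.leaf (nat_lit 0x10c735f) (nat_lit 1792))
)))) (.node (nat_lit 0x10c73d1) (.node (nat_lit 0x10c73c9) (.node (nat_lit 0x10c73c5) (.node (nat_lit 0x10c73c3) (.leaf (nat_lit 0x10c73c1) (nat_lit 769))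
 (.leaf (nat_lit 0x10c73c3) (nat_lit 1025))
) (.node (nat_lit 0x10c73c7) (.leaf (nat_lit 0x10c73c5) (nat_lit 1793))
 (.leaf (nat_lit 0x10c73c7) (nat_lit 1537))
)) (.node (nat_lit 0x10c73cd) (.node (nat_lit 0x10c73cb) (.leaf (nat_lit 0x10c73c9) (nat_lit 2817))
 (.leaf (nat_lit 0x10c73cb) (nat_lit 2561))
) (.node (nat_lit 0x10c73cf) (.leaf (nat_lit 0x10c73cd) (nat_lit 2305))
 (.leaf (nat_lit 0x10c73cf) (nat_lit 2049))
))) (.node (nat_lit 0x10c73d9) (.node (nat_lit 0x10c73d5) (.node (nat_lit 0x10c73d3) (.leaf (nat_lit 0x10c73d1) (nat_lit 2304))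
 (.leaf (nat_lit 0x10c73d3) (nat_lit 2560))
) (.node (nat_lit 0x10c73d7) (.leaf (nat_lit 0x10c73d5) (nat_lit 2819))
 (.leaf (nat_lit 0x10c73d7) (nat_lit 2563))
)) (.node (nat_lit 0x10c73dd) (.node (nat_lit 0x10c73db) (.leaf (nat_lit 0x10c73d9) (nat_lit 1792))
 (.leaf (nat_lit 0x10c73db) (nat_lit 2048))
) (.node (nat_lit 0x10c73df) (.leaf (nat_lit 0x10c73dd) (nat_lit 1280))
 (.leaf (nat_lit 0x10c73df) (nat_lit 1024))
))))))))))

theorem T_ok : genOK A [(nat_lit 0x1041043), (nat_lit 0x10410c1), (nat_lit 0x1043041), (nat_lit 0x10c1041)] T_t (nat_lit 1024) = true := by decide +kernel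

noncomputable def R1_t : ST :=
(.node (nat_lit 0x1041241) (.node (nat_lit 0x1041141) (.node (nat_lit 0x10410c1) (.node (nat_lit 0x1041051) (.node (nat_lit 0x1041049) (.node (nat_lit 0x1041045) (.leaf (nat_lit 0x1041041) (nat_lit 0))
 (.leaf (nat_lit 0x1041045) (nat_lit 256))
) (.node (nat_lit 0x104104d) (.leaf (nat_lit 0x1041049) (nat_lit 257))
 (.leaf (nat_lit 0x104104d) (nat_lit 513))
)) (.node (nat_lit 0x1041059) (.node (nat_lit 0x1041055) (.leaf (nat_lit 0x1041051) (nat_lit 258))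
 (.leaf (nat_lit 0x1041055) (nat_lit 514))
) (.node (nat_lit 0x104105d) (.leaf (nat_lit 0x1041059) (nat_lit 514))
 (.leaf (nat_lit 0x104105d) (nat_lit 770))
))) (.node (nat_lit 0x10410d1) (.node (nat_lit 0x10410c9) (.node (nat_lit 0x10410c5) (.leaf (nat_lit 0x10410c1) (nat_lit 259))
 (.leaf (nat_lit 0x10410c5) (nat_lit 515))
) (.node (nat_lit 0x10410cd) (.leaf (nat_lit 0x10410c9) (nat_lit 515))
 (.leaf (nat_lit 0x10410cd) (nat_lit 771))
)) (.node (nat_lit 0x10410d9) (.node (nat_lit 0x10410d5) (.leaf (nat_lit 0x10410d1) (nat_lit 515))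
 (.leaf (nat_lit 0x10410d5) (nat_lit 771))
) (.node (nat_lit 0x10410dd) (.leaf (nat_lit 0x10410d9) (nat_lit 771))
 (.leaf (nat_lit 0x10410dd) (nat_lit 1027))
)))) (.node (nat_lit 0x10411c1) (.node (nat_lit 0x1041151) (.node (nat_lit 0x1041149) (.node (nat_lit 0x1041145) (.leaf (nat_lit 0x1041141) (nat_lit 260))
 (.leaf (nat_lit 0x1041145) (nat_lit 516))
) (.node (nat_lit 0x104114d) (.leaf (nat_lit 0x1041149) (nat_lit 516))
 (.leaf (nat_lit 0x104114d) (nat_lit 772))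
)) (.node (nat_lit 0x1041159) (.node (nat_lit 0x1041155) (.leaf (nat_lit 0x1041151) (nat_lit 516))
 (.leaf (nat_lit 0x1041155) (nat_lit 772))
) (.node (nat_lit 0x104115d) (.leaf (nat_lit 0x1041159) (nat_lit 772))
 (.leaf (nat_lit 0x104115d) (nat_lit 1028))
))) (.node (nat_lit 0x10411d1) (.node (nat_lit 0x10411c9) (.node (nat_lit 0x10411c5) (.leaf (nat_lit 0x10411c1) (nat_lit 516))
 (.leaf (nat_lit 0x10411c5) (nat_lit 772))
) (.node (nat_lit 0x10411cd) (.leaf (nat_lit 0x10411c9) (nat_lit 772))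
 (.leaf (nat_lit 0x10411cd) (nat_lit 1028))
)) (.node (nat_lit 0x10411d9) (.node (nat_lit 0x10411d5) (.leaf (nat_lit 0x10411d1) (nat_lit 772))
 (.leaf (nat_lit 0x10411d5) (nat_lit 1028))
) (.node (nat_lit 0x10411dd) (.leaf (nat_lit 0x10411d9) (nat_lit 1028))
 (.leaf (nat_lit 0x10411dd) (nat_lit 1284))
))))) (.node (nat_lit 0x1041341) (.node (nat_lit 0x10412c1) (.node (nat_lit 0x1041251) (.node (nat_lit 0x1041249) (.node (nat_lit 0x1041245) (.leaf (nat_lit 0x1041241) (nat_lit 261))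
 (.leaf (nat_lit 0x1041245) (nat_lit 517))
) (.node (nat_lit 0x104124d) (.leaf (nat_lit 0x1041249) (nat_lit 517))
 (.leaf (nat_lit 0x104124d) (nat_lit 773))
)) (.node (nat_lit 0x1041259) (.node (nat_lit 0x1041255) (.leaf (nat_lit 0x1041251) (nat_lit 517))
 (.leaf (nat_lit 0x1041255) (nat_lit 773))
) (.node (nat_lit 0x104125d) (.leaf (nat_lit 0x1041259) (nat_lit 773))
 (.leaf (nat_lit 0x104125d) (nat_lit 1029))
))) (.node (nat_lit 0x10412d1) (.node (nat_lit 0x10412c9) (.node (nat_lit 0x10412c5) (.leaf (nat_lit 0x10412c1) (nat_lit 517))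
 (.leaf (nat_lit 0x10412c5) (nat_lit 773))
) (.node (nat_lit 0x10412cd) (.leaf (nat_lit 0x10412c9) (nat_lit 773))
 (.leaf (nat_lit 0x10412cd) (nat_lit 1029))
)) (.node (nat_lit 0x10412d9) (.node (nat_lit 0x10412d5) (.leaf (nat_lit 0x10412d1) (nat_lit 773))
 (.leaf (nat_lit 0x10412d5) (nat_lit 1029))
) (.node (nat_lit 0x10412dd) (.leaf (nat_lit 0x10412d9) (nat_lit 1029))
 (.leaf (nat_lit 0x10412dd) (nat_lit 1285))
)))) (.node (nat_lit 0x10413c1) (.node (nat_lit 0x1041351) (.node (nat_lit 0x1041349) (.node (nat_lit 0x1041345) (.leaf (nat_lit 0x1041341) (nat_lit 517))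
 (.leaf (nat_lit 0x1041345) (nat_lit 773))
) (.node (nat_lit 0x104134d) (.leaf (nat_lit 0x1041349) (nat_lit 773))
 (.leaf (nat_lit 0x104134d) (nat_lit 1029))
)) (.node (nat_lit 0x1041359) (.node (nat_lit 0x1041355) (.leaf (nat_lit 0x1041351) (nat_lit 773))
 (.leaf (nat_lit 0x1041355) (nat_lit 1029))
) (.node (nat_lit 0x104135d) (.leaf (nat_lit 0x1041359) (nat_lit 1029))
 (.leaf (nat_lit 0x104135d) (nat_lit 1285))
))) (.node (nat_lit 0x10413d1) (.node (nat_lit 0x10413c9) (.node (nat_lit 0x10413c5) (.leaf (nat_lit 0x10413c1) (nat_lit 773))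
 (.leaf (nat_lit 0x10413c5) (nat_lit 1029))
) (.node (nat_lit 0x10413cd) (.leaf (nat_lit 0x10413c9) (nat_lit 1029))
 (.leaf (nat_lit 0x10413cd) (nat_lit 1285))
)) (.node (nat_lit 0x10413d9) (.node (nat_lit 0x10413d5) (.leaf (nat_lit 0x10413d1) (nat_lit 1029))
 (.leaf (nat_lit 0x10413d5) (nat_lit 1285))
) (.node (nat_lit 0x10413dd) (.leaf (nat_lit 0x10413d9) (nat_lit 1285))
 (.leaf (nat_lit 0x10413dd) (nat_lit 1541))
))))))

theorem R1_ok : genOK A [(nat_lit 0x1041045), (nat_lit 0x1041049), (nat_lit 0x1041051), (nat_lit 0x10410c1), (nat_lit 0x1041141), (nat_lit 0x1041241)] R1_t (nat_lit 64) = true := by decide +kernel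

noncomputable def R2_t : ST :=
(.node (nat_lit 0x1045041) (.node (nat_lit 0x1043041) (.node (nat_lit 0x1041241) (.node (nat_lit 0x1041141) (.node (nat_lit 0x1041051) (.node (nat_lit 0x1041049) (.leaf (nat_lit 0x1041041) (nat_lit 0))
 (.leaf (nat_lit 0x1041049) (nat_lit 261))
) (.node (nat_lit 0x1041059) (.leaf (nat_lit 0x1041051) (nat_lit 258))
 (.leaf (nat_lit 0x1041059) (nat_lit 517))
)) (.node (nat_lit 0x1041151) (.node (nat_lit 0x1041149) (.leaf (nat_lit 0x1041141) (nat_lit 260))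
 (.leaf (nat_lit 0x1041149) (nat_lit 517))
) (.node (nat_lit 0x1041159) (.leaf (nat_lit 0x1041151) (nat_lit 516))
 (.leaf (nat_lit 0x1041159) (nat_lit 773))
))) (.node (nat_lit 0x1041341) (.node (nat_lit 0x1041251) (.node (nat_lit 0x1041249) (.leaf (nat_lit 0x1041241) (nat_lit 257))
 (.leaf (nat_lit 0x1041249) (nat_lit 517))
) (.node (nat_lit 0x1041259) (.leaf (nat_lit 0x1041251) (nat_lit 514))
 (.leaf (nat_lit 0x1041259) (nat_lit 773))
)) (.node (nat_lit 0x1041351) (.node (nat_lit 0x1041349) (.leaf (nat_lit 0x1041341) (nat_lit 516))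
 (.leaf (nat_lit 0x1041349) (nat_lit 773))
) (.node (nat_lit 0x1041359) (.leaf (nat_lit 0x1041351) (nat_lit 772))
 (.leaf (nat_lit 0x1041359) (nat_lit 1029))
)))) (.node (nat_lit 0x1043241) (.node (nat_lit 0x1043141) (.node (nat_lit 0x1043051) (.node (nat_lit 0x1043049) (.leaf (nat_lit 0x1043041) (nat_lit 259))
 (.leaf (nat_lit 0x1043049) (nat_lit 517))
) (.node (nat_lit 0x1043059) (.leaf (nat_lit 0x1043051) (nat_lit 515))
 (.leaf (nat_lit 0x1043059) (nat_lit 773))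
)) (.node (nat_lit 0x1043151) (.node (nat_lit 0x1043149) (.leaf (nat_lit 0x1043141) (nat_lit 516))
 (.leaf (nat_lit 0x1043149) (nat_lit 773))
) (.node (nat_lit 0x1043159) (.leaf (nat_lit 0x1043151) (nat_lit 772))
 (.leaf (nat_lit 0x1043159) (nat_lit 1029))
))) (.node (nat_lit 0x1043341) (.node (nat_lit 0x1043251) (.node (nat_lit 0x1043249) (.leaf (nat_lit 0x1043241) (nat_lit 515))
 (.leaf (nat_lit 0x1043249) (nat_lit 773))
) (.node (nat_lit 0x1043259) (.leaf (nat_lit 0x1043251) (nat_lit 771))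
 (.leaf (nat_lit 0x1043259) (nat_lit 1029))
)) (.node (nat_lit 0x1043351) (.node (nat_lit 0x1043349) (.leaf (nat_lit 0x1043341) (nat_lit 772))
 (.leaf (nat_lit 0x1043349) (nat_lit 1029))
) (.node (nat_lit 0x1043359) (.leaf (nat_lit 0x1043351) (nat_lit 1028))
 (.leaf (nat_lit 0x1043359) (nat_lit 1285))
))))) (.node (nat_lit 0x1047041) (.node (nat_lit 0x1045241) (.node (nat_lit 0x1045141) (.node (nat_lit 0x1045051) (.node (nat_lit 0x1045049) (.leaf (nat_lit 0x1045041) (nat_lit 256))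
 (.leaf (nat_lit 0x1045049) (nat_lit 517))
) (.node (nat_lit 0x1045059) (.leaf (nat_lit 0x1045051) (nat_lit 514))
 (.leaf (nat_lit 0x1045059) (nat_lit 773))
)) (.node (nat_lit 0x1045151) (.node (nat_lit 0x1045149) (.leaf (nat_lit 0x1045141) (nat_lit 516))
 (.leaf (nat_lit 0x1045149) (nat_lit 773))
) (.node (nat_lit 0x1045159) (.leaf (nat_lit 0x1045151) (nat_lit 772))
 (.leaf (nat_lit 0x1045159) (nat_lit 1029))
))) (.node (nat_lit 0x1045341) (.node (nat_lit 0x1045251) (.node (nat_lit 0x1045249) (.leaf (nat_lit 0x1045241) (nat_lit 513))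
 (.leaf (nat_lit 0x1045249) (nat_lit 773))
) (.node (nat_lit 0x1045259) (.leaf (nat_lit 0x1045251) (nat_lit 770))
 (.leaf (nat_lit 0x1045259) (nat_lit 1029))
)) (.node (nat_lit 0x1045351) (.node (nat_lit 0x1045349) (.leaf (nat_lit 0x1045341) (nat_lit 772))
 (.leaf (nat_lit 0x1045349) (nat_lit 1029))
) (.node (nat_lit 0x1045359) (.leaf (nat_lit 0x1045351) (nat_lit 1028))
 (.leaf (nat_lit 0x1045359) (nat_lit 1285))
)))) (.node (nat_lit 0x1047241) (.node (nat_lit 0x1047141) (.node (nat_lit 0x1047051) (.node (nat_lit 0x1047049) (.leaf (nat_lit 0x1047041) (nat_lit 515))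
 (.leaf (nat_lit 0x1047049) (nat_lit 773))
) (.node (nat_lit 0x1047059) (.leaf (nat_lit 0x1047051) (nat_lit 771))
 (.leaf (nat_lit 0x1047059) (nat_lit 1029))
)) (.node (nat_lit 0x1047151) (.node (nat_lit 0x1047149) (.leaf (nat_lit 0x1047141) (nat_lit 772))
 (.leaf (nat_lit 0x1047149) (nat_lit 1029))
) (.node (nat_lit 0x1047159) (.leaf (nat_lit 0x1047151) (nat_lit 1028))
 (.leaf (nat_lit 0x1047159) (nat_lit 1285))
))) (.node (nat_lit 0x1047341) (.node (nat_lit 0x1047251) (.node (nat_lit 0x1047249) (.leaf (nat_lit 0x1047241) (nat_lit 771))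
 (.leaf (nat_lit 0x1047249) (nat_lit 1029))
) (.node (nat_lit 0x1047259) (.leaf (nat_lit 0x1047251) (nat_lit 1027))
 (.leaf (nat_lit 0x1047259) (nat_lit 1285))
)) (.node (nat_lit 0x1047351) (.node (nat_lit 0x1047349) (.leaf (nat_lit 0x1047341) (nat_lit 1028))
 (.leaf (nat_lit 0x1047349) (nat_lit 1285))
) (.node (nat_lit 0x1047359) (.leaf (nat_lit 0x1047351) (nat_lit 1284))
 (.leaf (nat_lit 0x1047359) (nat_lit 1541))
))))))

theorem R2_ok : genOK A [(nat_lit 0x1045041), (nat_lit 0x1041241), (nat_lit 0x1041051), (nat_lit 0x1043041), (nat_lit 0x1041141), (nat_lit 0x1041049)] R2_t (nat_lit 64) = true := by decide +kernel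

noncomputable def E_t : ST :=
(.node (nat_lit 0x1041241) (.node (nat_lit 0x1041141) (.node (nat_lit 0x1041051) (.node (nat_lit 0x1041049) (.leaf (nat_lit 0x1041041) (nat_lit 0))
 (.leaf (nat_lit 0x1041049) (nat_lit 256))
) (.node (nat_lit 0x1041059) (.leaf (nat_lit 0x1041051) (nat_lit 257))
 (.leaf (nat_lit 0x1041059) (nat_lit 513))
)) (.node (nat_lit 0x1041151) (.node (nat_lit 0x1041149) (.leaf (nat_lit 0x1041141) (nat_lit 258))
 (.leaf (nat_lit 0x1041149) (nat_lit 514))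
) (.node (nat_lit 0x1041159) (.leaf (nat_lit 0x1041151) (nat_lit 514))
 (.leaf (nat_lit 0x1041159) (nat_lit 770))
))) (.node (nat_lit 0x1041341) (.node (nat_lit 0x1041251) (.node (nat_lit 0x1041249) (.leaf (nat_lit 0x1041241) (nat_lit 259))
 (.leaf (nat_lit 0x1041249) (nat_lit 515))
) (.node (nat_lit 0x1041259) (.leaf (nat_lit 0x1041251) (nat_lit 515))
 (.leaf (nat_lit 0x1041259) (nat_lit 771))
)) (.node (nat_lit 0x1041351) (.node (nat_lit 0x1041349) (.leaf (nat_lit 0x1041341) (nat_lit 515))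
 (.leaf (nat_lit 0x1041349) (nat_lit 771))
) (.node (nat_lit 0x1041359) (.leaf (nat_lit 0x1041351) (nat_lit 771))
 (.leaf (nat_lit 0x1041359) (nat_lit 1027))
))))

theorem E_ok : genOK A [(nat_lit 0x1041049), (nat_lit 0x1041051), (nat_lit 0x1041141), (nat_lit 0x1041241)] E_t (nat_lit 16) = true := by decide +kernel

noncomputable def D1_t : ST :=
(.node (nat_lit 0x10a2041) (.node (nat_lit 0x1045041) (.node (nat_lit 0x1027041) (.node (nat_lit 0x1023241) (.node (nat_lit 0x1022341) (.node (nat_lit 0x10221c1) (.node (nat_lit 0x10220d1) (.node (nat_lit 0x1022059) (.node (nat_lit 0x102204d) (.node (nat_lit 0x1022045) (.leaf (nat_lit 0x1022041) (nat_lit 770))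
 (.node (nat_lit 0x1022049) (.leaf (nat_lit 0x1022045) (nat_lit 1026))
 (.leaf (nat_lit 0x1022049) (nat_lit 1024))
)) (.node (nat_lit 0x1022051) (.leaf (nat_lit 0x102204d) (nat_lit 1026))
 (.node (nat_lit 0x1022055) (.leaf (nat_lit 0x1022051) (nat_lit 2306))
 (.leaf (nat_lit 0x1022055) (nat_lit 2050))
))) (.node (nat_lit 0x10220c5) (.node (nat_lit 0x102205d) (.leaf (nat_lit 0x1022059) (nat_lit 2051))
 (.node (nat_lit 0x10220c1) (.leaf (nat_lit 0x102205d) (nat_lit 1795))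
 (.leaf (nat_lit 0x10220c1) (nat_lit 1026))
)) (.node (nat_lit 0x10220c9) (.leaf (nat_lit 0x10220c5) (nat_lit 1282))
 (.node (nat_lit 0x10220cd) (.leaf (nat_lit 0x10220c9) (nat_lit 1280))
 (.leaf (nat_lit 0x10220cd) (nat_lit 1282))
)))) (.node (nat_lit 0x1022149) (.node (nat_lit 0x10220dd) (.node (nat_lit 0x10220d5) (.leaf (nat_lit 0x10220d1) (nat_lit 2562))
 (.node (nat_lit 0x10220d9) (.leaf (nat_lit 0x10220d5) (nat_lit 2306))
 (.leaf (nat_lit 0x10220d9) (nat_lit 2307))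
)) (.node (nat_lit 0x1022141) (.leaf (nat_lit 0x10220dd) (nat_lit 2051))
 (.node (nat_lit 0x1022145) (.leaf (nat_lit 0x1022141) (nat_lit 1025))
 (.leaf (nat_lit 0x1022145) (nat_lit 1281))
))) (.node (nat_lit 0x1022155) (.node (nat_lit 0x102214d) (.leaf (nat_lit 0x1022149) (nat_lit 1281))
 (.node (nat_lit 0x1022151) (.leaf (nat_lit 0x102214d) (nat_lit 1281))
 (.leaf (nat_lit 0x1022151) (nat_lit 2561))
)) (.node (nat_lit 0x1022159) (.leaf (nat_lit 0x1022155) (nat_lit 2305))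
 (.node (nat_lit 0x102215d) (.leaf (nat_lit 0x1022159) (nat_lit 2307))
 (.leaf (nat_lit 0x102215d) (nat_lit 2051))
))))) (.node (nat_lit 0x1022251) (.node (nat_lit 0x10221d9) (.node (nat_lit 0x10221cd) (.node (nat_lit 0x10221c5) (.leaf (nat_lit 0x10221c1) (nat_lit 1026))
 (.node (nat_lit 0x10221c9) (.leaf (nat_lit 0x10221c5) (nat_lit 1282))
 (.leaf (nat_lit 0x10221c9) (nat_lit 1280))
)) (.node (nat_lit 0x10221d1) (.leaf (nat_lit 0x10221cd) (nat_lit 1282))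
 (.node (nat_lit 0x10221d5) (.leaf (nat_lit 0x10221d1) (nat_lit 2562))
 (.leaf (nat_lit 0x10221d5) (nat_lit 2306))
))) (.node (nat_lit 0x1022245) (.node (nat_lit 0x10221dd) (.leaf (nat_lit 0x10221d9) (nat_lit 2306))
 (.node (nat_lit 0x1022241) (.leaf (nat_lit 0x10221dd) (nat_lit 2307))
 (.leaf (nat_lit 0x1022241) (nat_lit 2306))
)) (.node (nat_lit 0x1022249) (.leaf (nat_lit 0x1022245) (nat_lit 2562))
 (.node (nat_lit 0x102224d) (.leaf (nat_lit 0x1022249) (nat_lit 2560))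
 (.leaf (nat_lit 0x102224d) (nat_lit 2562))
)))) (.node (nat_lit 0x10222c9) (.node (nat_lit 0x102225d) (.node (nat_lit 0x1022255) (.leaf (nat_lit 0x1022251) (nat_lit 2818))
 (.node (nat_lit 0x1022259) (.leaf (nat_lit 0x1022255) (nat_lit 2562))
 (.leaf (nat_lit 0x1022259) (nat_lit 2561))
)) (.node (nat_lit 0x10222c1) (.leaf (nat_lit 0x102225d) (nat_lit 2563))
 (.node (nat_lit 0x10222c5) (.leaf (nat_lit 0x10222c1) (nat_lit 2050))
 (.leaf (nat_lit 0x10222c5) (nat_lit 2306))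
))) (.node (nat_lit 0x10222d5) (.node (nat_lit 0x10222cd) (.leaf (nat_lit 0x10222c9) (nat_lit 2304))
 (.node (nat_lit 0x10222d1) (.leaf (nat_lit 0x10222cd) (nat_lit 2306))
 (.leaf (nat_lit 0x10222d1) (nat_lit 2562))
)) (.node (nat_lit 0x10222d9) (.leaf (nat_lit 0x10222d5) (nat_lit 2306))
 (.node (nat_lit 0x10222dd) (.leaf (nat_lit 0x10222d9) (nat_lit 2563))
 (.leaf (nat_lit 0x10222dd) (nat_lit 2307))
)))))) (.node (nat_lit 0x10230c1) (.node (nat_lit 0x10223d1) (.node (nat_lit 0x1022359) (.node (nat_lit 0x102234d) (.node (nat_lit 0x1022345) (.leaf (nat_lit 0x1022341) (nat_lit 2051))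
 (.node (nat_lit 0x1022349) (.leaf (nat_lit 0x1022345) (nat_lit 2307))
 (.leaf (nat_lit 0x1022349) (nat_lit 2307))
)) (.node (nat_lit 0x1022351) (.leaf (nat_lit 0x102234d) (nat_lit 2306))
 (.node (nat_lit 0x1022355) (.leaf (nat_lit 0x1022351) (nat_lit 2560))
 (.leaf (nat_lit 0x1022355) (nat_lit 2563))
))) (.node (nat_lit 0x10223c5) (.node (nat_lit 0x102235d) (.leaf (nat_lit 0x1022359) (nat_lit 2306))
 (.node (nat_lit 0x10223c1) (.leaf (nat_lit 0x102235d) (nat_lit 2307))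
 (.leaf (nat_lit 0x10223c1) (nat_lit 1795))
)) (.node (nat_lit 0x10223c9) (.leaf (nat_lit 0x10223c5) (nat_lit 2051))
 (.node (nat_lit 0x10223cd) (.leaf (nat_lit 0x10223c9) (nat_lit 2051))
 (.leaf (nat_lit 0x10223cd) (nat_lit 2307))
)))) (.node (nat_lit 0x1023049) (.node (nat_lit 0x10223dd) (.node (nat_lit 0x10223d5) (.leaf (nat_lit 0x10223d1) (nat_lit 2563))
 (.node (nat_lit 0x10223d9) (.leaf (nat_lit 0x10223d5) (nat_lit 2307))
 (.leaf (nat_lit 0x10223d9) (nat_lit 2307))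
)) (.node (nat_lit 0x1023041) (.leaf (nat_lit 0x10223dd) (nat_lit 2051))
 (.node (nat_lit 0x1023045) (.leaf (nat_lit 0x1023041) (nat_lit 516))
 (.leaf (nat_lit 0x1023045) (nat_lit 772))
))) (.node (nat_lit 0x1023055) (.node (nat_lit 0x102304d) (.leaf (nat_lit 0x1023049) (nat_lit 1028))
 (.node (nat_lit 0x1023051) (.leaf (nat_lit 0x102304d) (nat_lit 772))
 (.leaf (nat_lit 0x1023051) (nat_lit 2052))
)) (.node (nat_lit 0x1023059) (.leaf (nat_lit 0x1023055) (nat_lit 1796))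
 (.node (nat_lit 0x102305d) (.leaf (nat_lit 0x1023059) (nat_lit 1795))
 (.leaf (nat_lit 0x102305d) (nat_lit 1796))
))))) (.node (nat_lit 0x1023151) (.node (nat_lit 0x10230d9) (.node (nat_lit 0x10230cd) (.node (nat_lit 0x10230c5) (.leaf (nat_lit 0x10230c1) (nat_lit 772))
 (.node (nat_lit 0x10230c9) (.leaf (nat_lit 0x10230c5) (nat_lit 1028))
 (.leaf (nat_lit 0x10230c9) (nat_lit 1284))
)) (.node (nat_lit 0x10230d1) (.leaf (nat_lit 0x10230cd) (nat_lit 1028))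
 (.node (nat_lit 0x10230d5) (.leaf (nat_lit 0x10230d1) (nat_lit 2308))
 (.leaf (nat_lit 0x10230d5) (nat_lit 2052))
))) (.node (nat_lit 0x1023145) (.node (nat_lit 0x10230dd) (.leaf (nat_lit 0x10230d9) (nat_lit 2051))
 (.node (nat_lit 0x1023141) (.leaf (nat_lit 0x10230dd) (nat_lit 2052))
 (.leaf (nat_lit 0x1023141) (nat_lit 1028))
)) (.node (nat_lit 0x1023149) (.leaf (nat_lit 0x1023145) (nat_lit 1284))
 (.node (nat_lit 0x102314d) (.leaf (nat_lit 0x1023149) (nat_lit 1540))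
 (.leaf (nat_lit 0x102314d) (nat_lit 1284))
)))) (.node (nat_lit 0x10231c9) (.node (nat_lit 0x102315d) (.node (nat_lit 0x1023155) (.leaf (nat_lit 0x1023151) (nat_lit 2564))
 (.node (nat_lit 0x1023159) (.leaf (nat_lit 0x1023155) (nat_lit 2308))
 (.leaf (nat_lit 0x1023159) (nat_lit 2307))
)) (.node (nat_lit 0x10231c1) (.leaf (nat_lit 0x102315d) (nat_lit 2308))
 (.node (nat_lit 0x10231c5) (.leaf (nat_lit 0x10231c1) (nat_lit 772))
 (.leaf (nat_lit 0x10231c5) (nat_lit 1028))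
))) (.node (nat_lit 0x10231d5) (.node (nat_lit 0x10231cd) (.leaf (nat_lit 0x10231c9) (nat_lit 1284))
 (.node (nat_lit 0x10231d1) (.leaf (nat_lit 0x10231cd) (nat_lit 1028))
 (.leaf (nat_lit 0x10231d1) (nat_lit 2308))
)) (.node (nat_lit 0x10231d9) (.leaf (nat_lit 0x10231d5) (nat_lit 2052))
 (.node (nat_lit 0x10231dd) (.leaf (nat_lit 0x10231d9) (nat_lit 2051))
 (.leaf (nat_lit 0x10231dd) (nat_lit 2052))
))))))) (.node (nat_lit 0x1026141) (.node (nat_lit 0x10233c1) (.node (nat_lit 0x10232d1) (.node (nat_lit 0x1023259) (.node (nat_lit 0x102324d) (.node (nat_lit 0x1023245) (.leaf (nat_lit 0x1023241) (nat_lit 2052))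
 (.node (nat_lit 0x1023249) (.leaf (nat_lit 0x1023245) (nat_lit 2308))
 (.leaf (nat_lit 0x1023249) (nat_lit 2564))
)) (.node (nat_lit 0x1023251) (.leaf (nat_lit 0x102324d) (nat_lit 2308))
 (.node (nat_lit 0x1023255) (.leaf (nat_lit 0x1023251) (nat_lit 2564))
 (.leaf (nat_lit 0x1023255) (nat_lit 2308))
))) (.node (nat_lit 0x10232c5) (.node (nat_lit 0x102325d) (.leaf (nat_lit 0x1023259) (nat_lit 2564))
 (.node (nat_lit 0x10232c1) (.leaf (nat_lit 0x102325d) (nat_lit 2308))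
 (.leaf (nat_lit 0x10232c1) (nat_lit 1796))
)) (.node (nat_lit 0x10232c9) (.leaf (nat_lit 0x10232c5) (nat_lit 2052))
 (.node (nat_lit 0x10232cd) (.leaf (nat_lit 0x10232c9) (nat_lit 2308))
 (.leaf (nat_lit 0x10232cd) (nat_lit 2052))
)))) (.node (nat_lit 0x1023349) (.node (nat_lit 0x10232dd) (.node (nat_lit 0x10232d5) (.leaf (nat_lit 0x10232d1) (nat_lit 2308))
 (.node (nat_lit 0x10232d9) (.leaf (nat_lit 0x10232d5) (nat_lit 2052))
 (.leaf (nat_lit 0x10232d9) (nat_lit 2308))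
)) (.node (nat_lit 0x1023341) (.leaf (nat_lit 0x10232dd) (nat_lit 2564))
 (.node (nat_lit 0x1023345) (.leaf (nat_lit 0x1023341) (nat_lit 1795))
 (.leaf (nat_lit 0x1023345) (nat_lit 2051))
))) (.node (nat_lit 0x1023355) (.node (nat_lit 0x102334d) (.leaf (nat_lit 0x1023349) (nat_lit 2307))
 (.node (nat_lit 0x1023351) (.leaf (nat_lit 0x102334d) (nat_lit 2051))
 (.leaf (nat_lit 0x1023351) (nat_lit 2563))
)) (.node (nat_lit 0x1023359) (.leaf (nat_lit 0x1023355) (nat_lit 2307))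
 (.node (nat_lit 0x102335d) (.leaf (nat_lit 0x1023359) (nat_lit 2051))
 (.leaf (nat_lit 0x102335d) (nat_lit 2307))
))))) (.node (nat_lit 0x1026051) (.node (nat_lit 0x10233d9) (.node (nat_lit 0x10233cd) (.node (nat_lit 0x10233c5) (.leaf (nat_lit 0x10233c1) (nat_lit 1796))
 (.node (nat_lit 0x10233c9) (.leaf (nat_lit 0x10233c5) (nat_lit 2052))
 (.leaf (nat_lit 0x10233c9) (nat_lit 2308))
)) (.node (nat_lit 0x10233d1) (.leaf (nat_lit 0x10233cd) (nat_lit 2052))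
 (.node (nat_lit 0x10233d5) (.leaf (nat_lit 0x10233d1) (nat_lit 2308))
 (.leaf (nat_lit 0x10233d5) (nat_lit 2564))
))) (.node (nat_lit 0x1026045) (.node (nat_lit 0x10233dd) (.leaf (nat_lit 0x10233d9) (nat_lit 2308))
 (.node (nat_lit 0x1026041) (.leaf (nat_lit 0x10233dd) (nat_lit 2052))
 (.leaf (nat_lit 0x1026041) (nat_lit 1026))
)) (.node (nat_lit 0x1026049) (.leaf (nat_lit 0x1026045) (nat_lit 1282))
 (.node (nat_lit 0x102604d) (.leaf (nat_lit 0x1026049) (nat_lit 1795))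
 (.leaf (nat_lit 0x102604d) (nat_lit 1539))
)))) (.node (nat_lit 0x10260c9) (.node (nat_lit 0x102605d) (.node (nat_lit 0x1026055) (.leaf (nat_lit 0x1026051) (nat_lit 2051))
 (.node (nat_lit 0x1026059) (.leaf (nat_lit 0x1026055) (nat_lit 1795))
 (.leaf (nat_lit 0x1026059) (nat_lit 1280))
)) (.node (nat_lit 0x10260c1) (.leaf (nat_lit 0x102605d) (nat_lit 1282))
 (.node (nat_lit 0x10260c5) (.leaf (nat_lit 0x10260c1) (nat_lit 1282))
 (.leaf (nat_lit 0x10260c5) (nat_lit 1538))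
))) (.node (nat_lit 0x10260d5) (.node (nat_lit 0x10260cd) (.leaf (nat_lit 0x10260c9) (nat_lit 2051))
 (.node (nat_lit 0x10260d1) (.leaf (nat_lit 0x10260cd) (nat_lit 1795))
 (.leaf (nat_lit 0x10260d1) (nat_lit 2307))
)) (.node (nat_lit 0x10260d9) (.leaf (nat_lit 0x10260d5) (nat_lit 2051))
 (.node (nat_lit 0x10260dd) (.leaf (nat_lit 0x10260d9) (nat_lit 1536))
 (.leaf (nat_lit 0x10260dd) (nat_lit 1538))
)))))) (.node (nat_lit 0x10262c1) (.node (nat_lit 0x10261d1) (.node (nat_lit 0x1026159) (.node (nat_lit 0x102614d) (.node (nat_lit 0x1026145) (.leaf (nat_lit 0x1026141) (nat_lit 1795))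
 (.node (nat_lit 0x1026149) (.leaf (nat_lit 0x1026145) (nat_lit 2051))
 (.leaf (nat_lit 0x1026149) (nat_lit 2052))
)) (.node (nat_lit 0x1026151) (.leaf (nat_lit 0x102614d) (nat_lit 2051))
 (.node (nat_lit 0x1026155) (.leaf (nat_lit 0x1026151) (nat_lit 2308))
 (.leaf (nat_lit 0x1026155) (nat_lit 2307))
))) (.node (nat_lit 0x10261c5) (.node (nat_lit 0x102615d) (.leaf (nat_lit 0x1026159) (nat_lit 2051))
 (.node (nat_lit 0x10261c1) (.leaf (nat_lit 0x102615d) (nat_lit 2307))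
 (.leaf (nat_lit 0x10261c1) (nat_lit 1539))
)) (.node (nat_lit 0x10261c9) (.leaf (nat_lit 0x10261c5) (nat_lit 1795))
 (.node (nat_lit 0x10261cd) (.leaf (nat_lit 0x10261c9) (nat_lit 2051))
 (.leaf (nat_lit 0x10261cd) (nat_lit 1795))
)))) (.node (nat_lit 0x1026249) (.node (nat_lit 0x10261dd) (.node (nat_lit 0x10261d5) (.leaf (nat_lit 0x10261d1) (nat_lit 2307))
 (.node (nat_lit 0x10261d9) (.leaf (nat_lit 0x10261d5) (nat_lit 2051))
 (.leaf (nat_lit 0x10261d9) (nat_lit 1795))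
)) (.node (nat_lit 0x1026241) (.leaf (nat_lit 0x10261dd) (nat_lit 2051))
 (.node (nat_lit 0x1026245) (.leaf (nat_lit 0x1026241) (nat_lit 2051))
 (.leaf (nat_lit 0x1026245) (nat_lit 2307))
))) (.node (nat_lit 0x1026255) (.node (nat_lit 0x102624d) (.leaf (nat_lit 0x1026249) (nat_lit 2308))
 (.node (nat_lit 0x1026251) (.leaf (nat_lit 0x102624d) (nat_lit 2307))
 (.leaf (nat_lit 0x1026251) (nat_lit 2562))
)) (.node (nat_lit 0x1026259) (.leaf (nat_lit 0x1026255) (nat_lit 2563))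
 (.node (nat_lit 0x102625d) (.leaf (nat_lit 0x1026259) (nat_lit 2307))
 (.leaf (nat_lit 0x102625d) (nat_lit 2306))
))))) (.node (nat_lit 0x1026351) (.node (nat_lit 0x10262d9) (.node (nat_lit 0x10262cd) (.node (nat_lit 0x10262c5) (.leaf (nat_lit 0x10262c1) (nat_lit 1795))
 (.node (nat_lit 0x10262c9) (.leaf (nat_lit 0x10262c5) (nat_lit 2051))
 (.leaf (nat_lit 0x10262c9) (nat_lit 2307))
)) (.node (nat_lit 0x10262d1) (.leaf (nat_lit 0x10262cd) (nat_lit 2051))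
 (.node (nat_lit 0x10262d5) (.leaf (nat_lit 0x10262d1) (nat_lit 2563))
 (.leaf (nat_lit 0x10262d5) (nat_lit 2307))
))) (.node (nat_lit 0x1026345) (.node (nat_lit 0x10262dd) (.leaf (nat_lit 0x10262d9) (nat_lit 2051))
 (.node (nat_lit 0x1026341) (.leaf (nat_lit 0x10262dd) (nat_lit 2307))
 (.leaf (nat_lit 0x1026341) (nat_lit 1281))
)) (.node (nat_lit 0x1026349) (.leaf (nat_lit 0x1026345) (nat_lit 1537))
 (.node (nat_lit 0x102634d) (.leaf (nat_lit 0x1026349) (nat_lit 2051))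
 (.leaf (nat_lit 0x102634d) (nat_lit 1795))
)))) (.node (nat_lit 0x10263c9) (.node (nat_lit 0x102635d) (.node (nat_lit 0x1026355) (.leaf (nat_lit 0x1026351) (nat_lit 2307))
 (.node (nat_lit 0x1026359) (.leaf (nat_lit 0x1026355) (nat_lit 2051))
 (.leaf (nat_lit 0x1026359) (nat_lit 1537))
)) (.node (nat_lit 0x10263c1) (.leaf (nat_lit 0x102635d) (nat_lit 1537))
 (.node (nat_lit 0x10263c5) (.leaf (nat_lit 0x10263c1) (nat_lit 1282))
 (.leaf (nat_lit 0x10263c5) (nat_lit 1538))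
))) (.node (nat_lit 0x10263d5) (.node (nat_lit 0x10263cd) (.leaf (nat_lit 0x10263c9) (nat_lit 2307))
 (.node (nat_lit 0x10263d1) (.leaf (nat_lit 0x10263cd) (nat_lit 2051))
 (.leaf (nat_lit 0x10263d1) (nat_lit 2306))
)) (.node (nat_lit 0x10263d9) (.leaf (nat_lit 0x10263d5) (nat_lit 2307))
 (.node (nat_lit 0x10263dd) (.leaf (nat_lit 0x10263d9) (nat_lit 1536))
 (.leaf (nat_lit 0x10263dd) (nat_lit 1538))
)))))))) (.node (nat_lit 0x1041241) (.node (nat_lit 0x1027341) (.node (nat_lit 0x10271c1) (.node (nat_lit 0x10270d1) (.node (nat_lit 0x1027059) (.node (nat_lit 0x102704d) (.node (nat_lit 0x1027045) (.leaf (nat_lit 0x1027041) (nat_lit 772))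
 (.node (nat_lit 0x1027049) (.leaf (nat_lit 0x1027045) (nat_lit 1028))
 (.leaf (nat_lit 0x1027049) (nat_lit 1796))
)) (.node (nat_lit 0x1027051) (.leaf (nat_lit 0x102704d) (nat_lit 1540))
 (.node (nat_lit 0x1027055) (.leaf (nat_lit 0x1027051) (nat_lit 1796))
 (.leaf (nat_lit 0x1027055) (nat_lit 2052))
))) (.node (nat_lit 0x10270c5) (.node (nat_lit 0x102705d) (.leaf (nat_lit 0x1027059) (nat_lit 1284))
 (.node (nat_lit 0x10270c1) (.leaf (nat_lit 0x102705d) (nat_lit 1028))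
 (.leaf (nat_lit 0x10270c1) (nat_lit 1028))
)) (.node (nat_lit 0x10270c9) (.leaf (nat_lit 0x10270c5) (nat_lit 1284))
 (.node (nat_lit 0x10270cd) (.leaf (nat_lit 0x10270c9) (nat_lit 2052))
 (.leaf (nat_lit 0x10270cd) (nat_lit 1796))
)))) (.node (nat_lit 0x1027149) (.node (nat_lit 0x10270dd) (.node (nat_lit 0x10270d5) (.leaf (nat_lit 0x10270d1) (nat_lit 2052))
 (.node (nat_lit 0x10270d9) (.leaf (nat_lit 0x10270d5) (nat_lit 2308))
 (.leaf (nat_lit 0x10270d9) (nat_lit 1540))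
)) (.node (nat_lit 0x1027141) (.leaf (nat_lit 0x10270dd) (nat_lit 1284))
 (.node (nat_lit 0x1027145) (.leaf (nat_lit 0x1027141) (nat_lit 1796))
 (.leaf (nat_lit 0x1027145) (nat_lit 2052))
))) (.node (nat_lit 0x1027155) (.node (nat_lit 0x102714d) (.leaf (nat_lit 0x1027149) (nat_lit 2051))
 (.node (nat_lit 0x1027151) (.leaf (nat_lit 0x102714d) (nat_lit 2052))
 (.leaf (nat_lit 0x1027151) (nat_lit 2308))
)) (.node (nat_lit 0x1027159) (.leaf (nat_lit 0x1027155) (nat_lit 2307))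
 (.node (nat_lit 0x102715d) (.leaf (nat_lit 0x1027159) (nat_lit 2308))
 (.leaf (nat_lit 0x102715d) (nat_lit 2052))
))))) (.node (nat_lit 0x1027251) (.node (nat_lit 0x10271d9) (.node (nat_lit 0x10271cd) (.node (nat_lit 0x10271c5) (.leaf (nat_lit 0x10271c1) (nat_lit 1540))
 (.node (nat_lit 0x10271c9) (.leaf (nat_lit 0x10271c5) (nat_lit 1796))
 (.leaf (nat_lit 0x10271c9) (nat_lit 2052))
)) (.node (nat_lit 0x10271d1) (.leaf (nat_lit 0x10271cd) (nat_lit 1796))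
 (.node (nat_lit 0x10271d5) (.leaf (nat_lit 0x10271d1) (nat_lit 2052))
 (.leaf (nat_lit 0x10271d5) (nat_lit 2308))
))) (.node (nat_lit 0x1027245) (.node (nat_lit 0x10271dd) (.leaf (nat_lit 0x10271d9) (nat_lit 2052))
 (.node (nat_lit 0x1027241) (.leaf (nat_lit 0x10271dd) (nat_lit 1796))
 (.leaf (nat_lit 0x1027241) (nat_lit 1796))
)) (.node (nat_lit 0x1027249) (.leaf (nat_lit 0x1027245) (nat_lit 2052))
 (.node (nat_lit 0x102724d) (.leaf (nat_lit 0x1027249) (nat_lit 2308))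
 (.leaf (nat_lit 0x102724d) (nat_lit 2052))
)))) (.node (nat_lit 0x10272c9) (.node (nat_lit 0x102725d) (.node (nat_lit 0x1027255) (.leaf (nat_lit 0x1027251) (nat_lit 2308))
 (.node (nat_lit 0x1027259) (.leaf (nat_lit 0x1027255) (nat_lit 2564))
 (.leaf (nat_lit 0x1027259) (nat_lit 2308))
)) (.node (nat_lit 0x10272c1) (.leaf (nat_lit 0x102725d) (nat_lit 2052))
 (.node (nat_lit 0x10272c5) (.leaf (nat_lit 0x10272c1) (nat_lit 2052))
 (.leaf (nat_lit 0x10272c5) (nat_lit 2308))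
))) (.node (nat_lit 0x10272d5) (.node (nat_lit 0x10272cd) (.leaf (nat_lit 0x10272c9) (nat_lit 2307))
 (.node (nat_lit 0x10272d1) (.leaf (nat_lit 0x10272cd) (nat_lit 2308))
 (.leaf (nat_lit 0x10272d1) (nat_lit 2564))
)) (.node (nat_lit 0x10272d9) (.leaf (nat_lit 0x10272d5) (nat_lit 2308))
 (.node (nat_lit 0x10272dd) (.leaf (nat_lit 0x10272d9) (nat_lit 2306))
 (.leaf (nat_lit 0x10272dd) (nat_lit 2308))
)))))) (.node (nat_lit 0x10410c1) (.node (nat_lit 0x10273d1) (.node (nat_lit 0x1027359) (.node (nat_lit 0x102734d) (.node (nat_lit 0x1027345) (.leaf (nat_lit 0x1027341) (nat_lit 1284))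
 (.node (nat_lit 0x1027349) (.leaf (nat_lit 0x1027345) (nat_lit 1540))
 (.leaf (nat_lit 0x1027349) (nat_lit 2308))
)) (.node (nat_lit 0x1027351) (.leaf (nat_lit 0x102734d) (nat_lit 2052))
 (.node (nat_lit 0x1027355) (.leaf (nat_lit 0x1027351) (nat_lit 2308))
 (.leaf (nat_lit 0x1027355) (nat_lit 2306))
))) (.node (nat_lit 0x10273c5) (.node (nat_lit 0x102735d) (.leaf (nat_lit 0x1027359) (nat_lit 1796))
 (.node (nat_lit 0x10273c1) (.leaf (nat_lit 0x102735d) (nat_lit 1540))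
 (.leaf (nat_lit 0x10273c1) (nat_lit 1028))
)) (.node (nat_lit 0x10273c9) (.leaf (nat_lit 0x10273c5) (nat_lit 1284))
 (.node (nat_lit 0x10273cd) (.leaf (nat_lit 0x10273c9) (nat_lit 2052))
 (.leaf (nat_lit 0x10273cd) (nat_lit 1796))
)))) (.node (nat_lit 0x1041049) (.node (nat_lit 0x10273dd) (.node (nat_lit 0x10273d5) (.leaf (nat_lit 0x10273d1) (nat_lit 2052))
 (.node (nat_lit 0x10273d9) (.leaf (nat_lit 0x10273d5) (nat_lit 2308))
 (.leaf (nat_lit 0x10273d9) (nat_lit 1540))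
)) (.node (nat_lit 0x1041041) (.leaf (nat_lit 0x10273dd) (nat_lit 1284))
 (.node (nat_lit 0x1041045) (.leaf (nat_lit 0x1041041) (nat_lit 0))
 (.leaf (nat_lit 0x1041045) (nat_lit 256))
))) (.node (nat_lit 0x1041055) (.node (nat_lit 0x104104d) (.leaf (nat_lit 0x1041049) (nat_lit 1026))
 (.node (nat_lit 0x1041051) (.leaf (nat_lit 0x104104d) (nat_lit 770))
 (.leaf (nat_lit 0x1041051) (nat_lit 2050))
)) (.node (nat_lit 0x1041059) (.leaf (nat_lit 0x1041055) (nat_lit 1794))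
 (.node (nat_lit 0x104105d) (.leaf (nat_lit 0x1041059) (nat_lit 1539))
 (.leaf (nat_lit 0x104105d) (nat_lit 1283))
))))) (.node (nat_lit 0x1041151) (.node (nat_lit 0x10410d9) (.node (nat_lit 0x10410cd) (.node (nat_lit 0x10410c5) (.leaf (nat_lit 0x10410c1) (nat_lit 257))
 (.node (nat_lit 0x10410c9) (.leaf (nat_lit 0x10410c5) (nat_lit 513))
 (.leaf (nat_lit 0x10410c9) (nat_lit 1282))
)) (.node (nat_lit 0x10410d1) (.leaf (nat_lit 0x10410cd) (nat_lit 1026))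
 (.node (nat_lit 0x10410d5) (.leaf (nat_lit 0x10410d1) (nat_lit 2306))
 (.leaf (nat_lit 0x10410d5) (nat_lit 2050))
))) (.node (nat_lit 0x1041145) (.node (nat_lit 0x10410dd) (.leaf (nat_lit 0x10410d9) (nat_lit 1795))
 (.node (nat_lit 0x1041141) (.leaf (nat_lit 0x10410dd) (nat_lit 1539))
 (.leaf (nat_lit 0x1041141) (nat_lit 1026))
)) (.node (nat_lit 0x1041149) (.leaf (nat_lit 0x1041145) (nat_lit 1282))
 (.node (nat_lit 0x104114d) (.leaf (nat_lit 0x1041149) (nat_lit 1538))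
 (.leaf (nat_lit 0x104114d) (nat_lit 1282))
)))) (.node (nat_lit 0x10411c9) (.node (nat_lit 0x104115d) (.node (nat_lit 0x1041155) (.leaf (nat_lit 0x1041151) (nat_lit 2562))
 (.node (nat_lit 0x1041159) (.leaf (nat_lit 0x1041155) (nat_lit 2306))
 (.leaf (nat_lit 0x1041159) (nat_lit 2563))
)) (.node (nat_lit 0x10411c1) (.leaf (nat_lit 0x104115d) (nat_lit 2307))
 (.node (nat_lit 0x10411c5) (.leaf (nat_lit 0x10411c1) (nat_lit 770))
 (.leaf (nat_lit 0x10411c5) (nat_lit 1026))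
))) (.node (nat_lit 0x10411d5) (.node (nat_lit 0x10411cd) (.leaf (nat_lit 0x10411c9) (nat_lit 1282))
 (.node (nat_lit 0x10411d1) (.leaf (nat_lit 0x10411cd) (nat_lit 1026))
 (.leaf (nat_lit 0x10411d1) (nat_lit 2306))
)) (.node (nat_lit 0x10411d9) (.leaf (nat_lit 0x10411d5) (nat_lit 2050))
 (.node (nat_lit 0x10411dd) (.leaf (nat_lit 0x10411d9) (nat_lit 2307))
 (.leaf (nat_lit 0x10411dd) (nat_lit 2051))
))))))) (.node (nat_lit 0x1043141) (.node (nat_lit 0x10413c1) (.node (nat_lit 0x10412d1) (.node (nat_lit 0x1041259) (.node (nat_lit 0x104124d) (.node (nat_lit 0x1041245) (.leaf (nat_lit 0x1041241) (nat_lit 2050))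
 (.node (nat_lit 0x1041249) (.leaf (nat_lit 0x1041245) (nat_lit 2306))
 (.leaf (nat_lit 0x1041249) (nat_lit 2562))
)) (.node (nat_lit 0x1041251) (.leaf (nat_lit 0x104124d) (nat_lit 2306))
 (.node (nat_lit 0x1041255) (.leaf (nat_lit 0x1041251) (nat_lit 2562))
 (.leaf (nat_lit 0x1041255) (nat_lit 2306))
))) (.node (nat_lit 0x10412c5) (.node (nat_lit 0x104125d) (.leaf (nat_lit 0x1041259) (nat_lit 2563))
 (.node (nat_lit 0x10412c1) (.leaf (nat_lit 0x104125d) (nat_lit 2307))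
 (.leaf (nat_lit 0x10412c1) (nat_lit 1794))
)) (.node (nat_lit 0x10412c9) (.leaf (nat_lit 0x10412c5) (nat_lit 2050))
 (.node (nat_lit 0x10412cd) (.leaf (nat_lit 0x10412c9) (nat_lit 2306))
 (.leaf (nat_lit 0x10412cd) (nat_lit 2050))
)))) (.node (nat_lit 0x1041349) (.node (nat_lit 0x10412dd) (.node (nat_lit 0x10412d5) (.leaf (nat_lit 0x10412d1) (nat_lit 2306))
 (.node (nat_lit 0x10412d9) (.leaf (nat_lit 0x10412d5) (nat_lit 2050))
 (.leaf (nat_lit 0x10412d9) (nat_lit 2306))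
)) (.node (nat_lit 0x1041341) (.leaf (nat_lit 0x10412dd) (nat_lit 2562))
 (.node (nat_lit 0x1041345) (.leaf (nat_lit 0x1041341) (nat_lit 1539))
 (.leaf (nat_lit 0x1041345) (nat_lit 1795))
))) (.node (nat_lit 0x1041355) (.node (nat_lit 0x104134d) (.leaf (nat_lit 0x1041349) (nat_lit 2563))
 (.node (nat_lit 0x1041351) (.leaf (nat_lit 0x104134d) (nat_lit 2307))
 (.leaf (nat_lit 0x1041351) (nat_lit 2562))
)) (.node (nat_lit 0x1041359) (.leaf (nat_lit 0x1041355) (nat_lit 2306))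
 (.node (nat_lit 0x104135d) (.leaf (nat_lit 0x1041359) (nat_lit 2051))
 (.leaf (nat_lit 0x104135d) (nat_lit 1795))
))))) (.node (nat_lit 0x1043051) (.node (nat_lit 0x10413d9) (.node (nat_lit 0x10413cd) (.node (nat_lit 0x10413c5) (.leaf (nat_lit 0x10413c1) (nat_lit 1283))
 (.node (nat_lit 0x10413c9) (.leaf (nat_lit 0x10413c5) (nat_lit 1539))
 (.leaf (nat_lit 0x10413c9) (nat_lit 2307))
)) (.node (nat_lit 0x10413d1) (.leaf (nat_lit 0x10413cd) (nat_lit 2051))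
 (.node (nat_lit 0x10413d5) (.leaf (nat_lit 0x10413d1) (nat_lit 2307))
 (.leaf (nat_lit 0x10413d5) (nat_lit 2563))
))) (.node (nat_lit 0x1043045) (.node (nat_lit 0x10413dd) (.leaf (nat_lit 0x10413d9) (nat_lit 1795))
 (.node (nat_lit 0x1043041) (.leaf (nat_lit 0x10413dd) (nat_lit 1539))
 (.leaf (nat_lit 0x1043041) (nat_lit 258))
)) (.node (nat_lit 0x1043049) (.leaf (nat_lit 0x1043045) (nat_lit 514))
 (.node (nat_lit 0x104304d) (.leaf (nat_lit 0x1043049) (nat_lit 768))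
 (.leaf (nat_lit 0x104304d) (nat_lit 512))
)))) (.node (nat_lit 0x10430c9) (.node (nat_lit 0x104305d) (.node (nat_lit 0x1043055) (.leaf (nat_lit 0x1043051) (nat_lit 1795))
 (.node (nat_lit 0x1043059) (.leaf (nat_lit 0x1043055) (nat_lit 1539))
 (.leaf (nat_lit 0x1043059) (nat_lit 1794))
)) (.node (nat_lit 0x10430c1) (.leaf (nat_lit 0x104305d) (nat_lit 1538))
 (.node (nat_lit 0x10430c5) (.leaf (nat_lit 0x10430c1) (nat_lit 514))
 (.leaf (nat_lit 0x10430c5) (nat_lit 770))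
))) (.node (nat_lit 0x10430d5) (.node (nat_lit 0x10430cd) (.leaf (nat_lit 0x10430c9) (nat_lit 1024))
 (.node (nat_lit 0x10430d1) (.leaf (nat_lit 0x10430cd) (nat_lit 768))
 (.leaf (nat_lit 0x10430d1) (nat_lit 2051))
)) (.node (nat_lit 0x10430d9) (.leaf (nat_lit 0x10430d5) (nat_lit 1795))
 (.node (nat_lit 0x10430dd) (.leaf (nat_lit 0x10430d9) (nat_lit 2050))
 (.leaf (nat_lit 0x10430dd) (nat_lit 1794))
)))))) (.node (nat_lit 0x10432c1) (.node (nat_lit 0x10431d1) (.node (nat_lit 0x1043159) (.node (nat_lit 0x104314d) (.node (nat_lit 0x1043145) (.leaf (nat_lit 0x1043141) (nat_lit 769))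
 (.node (nat_lit 0x1043149) (.leaf (nat_lit 0x1043145) (nat_lit 1025))
 (.leaf (nat_lit 0x1043149) (nat_lit 1281))
)) (.node (nat_lit 0x1043151) (.leaf (nat_lit 0x104314d) (nat_lit 1025))
 (.node (nat_lit 0x1043155) (.leaf (nat_lit 0x1043151) (nat_lit 2307))
 (.leaf (nat_lit 0x1043155) (nat_lit 2051))
))) (.node (nat_lit 0x10431c5) (.node (nat_lit 0x104315d) (.leaf (nat_lit 0x1043159) (nat_lit 2305))
 (.node (nat_lit 0x10431c1) (.leaf (nat_lit 0x104315d) (nat_lit 2049))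
 (.leaf (nat_lit 0x10431c1) (nat_lit 513))
)) (.node (nat_lit 0x10431c9) (.leaf (nat_lit 0x10431c5) (nat_lit 769))
 (.node (nat_lit 0x10431cd) (.leaf (nat_lit 0x10431c9) (nat_lit 1025))
 (.leaf (nat_lit 0x10431cd) (nat_lit 769))
)))) (.node (nat_lit 0x1043249) (.node (nat_lit 0x10431dd) (.node (nat_lit 0x10431d5) (.leaf (nat_lit 0x10431d1) (nat_lit 2051))
 (.node (nat_lit 0x10431d9) (.leaf (nat_lit 0x10431d5) (nat_lit 1795))
 (.leaf (nat_lit 0x10431d9) (nat_lit 2049))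
)) (.node (nat_lit 0x1043241) (.leaf (nat_lit 0x10431dd) (nat_lit 1793))
 (.node (nat_lit 0x1043245) (.leaf (nat_lit 0x1043241) (nat_lit 1795))
 (.leaf (nat_lit 0x1043245) (nat_lit 2051))
))) (.node (nat_lit 0x1043255) (.node (nat_lit 0x104324d) (.leaf (nat_lit 0x1043249) (nat_lit 2307))
 (.node (nat_lit 0x1043251) (.leaf (nat_lit 0x104324d) (nat_lit 2051))
 (.leaf (nat_lit 0x1043251) (nat_lit 2307))
)) (.node (nat_lit 0x1043259) (.leaf (nat_lit 0x1043255) (nat_lit 2051))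
 (.node (nat_lit 0x104325d) (.leaf (nat_lit 0x1043259) (nat_lit 2305))
 (.leaf (nat_lit 0x104325d) (nat_lit 2049))
))))) (.node (nat_lit 0x1043351) (.node (nat_lit 0x10432d9) (.node (nat_lit 0x10432cd) (.node (nat_lit 0x10432c5) (.leaf (nat_lit 0x10432c1) (nat_lit 1539))
 (.node (nat_lit 0x10432c9) (.leaf (nat_lit 0x10432c5) (nat_lit 1795))
 (.leaf (nat_lit 0x10432c9) (nat_lit 2051))
)) (.node (nat_lit 0x10432d1) (.leaf (nat_lit 0x10432cd) (nat_lit 1795))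
 (.node (nat_lit 0x10432d5) (.leaf (nat_lit 0x10432d1) (nat_lit 2051))
 (.leaf (nat_lit 0x10432d5) (nat_lit 1795))
))) (.node (nat_lit 0x1043345) (.node (nat_lit 0x10432dd) (.leaf (nat_lit 0x10432d9) (nat_lit 2051))
 (.node (nat_lit 0x1043341) (.leaf (nat_lit 0x10432dd) (nat_lit 2307))
 (.leaf (nat_lit 0x1043341) (nat_lit 1794))
)) (.node (nat_lit 0x1043349) (.leaf (nat_lit 0x1043345) (nat_lit 2050))
 (.node (nat_lit 0x104334d) (.leaf (nat_lit 0x1043349) (nat_lit 2304))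
 (.leaf (nat_lit 0x104334d) (nat_lit 2048))
)))) (.node (nat_lit 0x10433c9) (.node (nat_lit 0x104335d) (.node (nat_lit 0x1043355) (.leaf (nat_lit 0x1043351) (nat_lit 2307))
 (.node (nat_lit 0x1043359) (.leaf (nat_lit 0x1043355) (nat_lit 2051))
 (.leaf (nat_lit 0x1043359) (nat_lit 2306))
)) (.node (nat_lit 0x10433c1) (.leaf (nat_lit 0x104335d) (nat_lit 2050))
 (.node (nat_lit 0x10433c5) (.leaf (nat_lit 0x10433c1) (nat_lit 1538))
 (.leaf (nat_lit 0x10433c5) (nat_lit 1794))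
))) (.node (nat_lit 0x10433d5) (.node (nat_lit 0x10433cd) (.leaf (nat_lit 0x10433c9) (nat_lit 2048))
 (.node (nat_lit 0x10433d1) (.leaf (nat_lit 0x10433cd) (nat_lit 1792))
 (.leaf (nat_lit 0x10433d1) (nat_lit 2048))
)) (.node (nat_lit 0x10433d9) (.leaf (nat_lit 0x10433d5) (nat_lit 2304))
 (.node (nat_lit 0x10433dd) (.leaf (nat_lit 0x10433d9) (nat_lit 2050))
 (.leaf (nat_lit 0x10433dd) (nat_lit 1794))
))))))))) (.node (nat_lit 0x1062041) (.node (nat_lit 0x1047241) (.node (nat_lit 0x1045341) (.node (nat_lit 0x10451c1) (.node (nat_lit 0x10450d1) (.node (nat_lit 0x1045059) (.node (nat_lit 0x104504d) (.node (nat_lit 0x1045045) (.leaf (nat_lit 0x1045041) (nat_lit 1027))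
 (.node (nat_lit 0x1045049) (.leaf (nat_lit 0x1045045) (nat_lit 1283))
 (.leaf (nat_lit 0x1045049) (nat_lit 1539))
)) (.node (nat_lit 0x1045051) (.leaf (nat_lit 0x104504d) (nat_lit 1283))
 (.node (nat_lit 0x1045055) (.leaf (nat_lit 0x1045051) (nat_lit 1539))
 (.leaf (nat_lit 0x1045055) (nat_lit 1283))
))) (.node (nat_lit 0x10450c5) (.node (nat_lit 0x104505d) (.leaf (nat_lit 0x1045059) (nat_lit 1538))
 (.node (nat_lit 0x10450c1) (.leaf (nat_lit 0x104505d) (nat_lit 1282))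
 (.leaf (nat_lit 0x10450c1) (nat_lit 1283))
)) (.node (nat_lit 0x10450c9) (.leaf (nat_lit 0x10450c5) (nat_lit 1539))
 (.node (nat_lit 0x10450cd) (.leaf (nat_lit 0x10450c9) (nat_lit 1795))
 (.leaf (nat_lit 0x10450cd) (nat_lit 1539))
)))) (.node (nat_lit 0x1045149) (.node (nat_lit 0x10450dd) (.node (nat_lit 0x10450d5) (.leaf (nat_lit 0x10450d1) (nat_lit 1795))
 (.node (nat_lit 0x10450d9) (.leaf (nat_lit 0x10450d5) (nat_lit 1539))
 (.leaf (nat_lit 0x10450d9) (nat_lit 1794))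
)) (.node (nat_lit 0x1045141) (.leaf (nat_lit 0x10450dd) (nat_lit 1538))
 (.node (nat_lit 0x1045145) (.leaf (nat_lit 0x1045141) (nat_lit 1539))
 (.leaf (nat_lit 0x1045145) (nat_lit 1795))
))) (.node (nat_lit 0x1045155) (.node (nat_lit 0x104514d) (.leaf (nat_lit 0x1045149) (nat_lit 1796))
 (.node (nat_lit 0x1045151) (.leaf (nat_lit 0x104514d) (nat_lit 1795))
 (.leaf (nat_lit 0x1045151) (nat_lit 2051))
)) (.node (nat_lit 0x1045159) (.leaf (nat_lit 0x1045155) (nat_lit 1795))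
 (.node (nat_lit 0x104515d) (.leaf (nat_lit 0x1045159) (nat_lit 2049))
 (.leaf (nat_lit 0x104515d) (nat_lit 1793))
))))) (.node (nat_lit 0x1045251) (.node (nat_lit 0x10451d9) (.node (nat_lit 0x10451cd) (.node (nat_lit 0x10451c5) (.leaf (nat_lit 0x10451c1) (nat_lit 1283))
 (.node (nat_lit 0x10451c9) (.leaf (nat_lit 0x10451c5) (nat_lit 1539))
 (.leaf (nat_lit 0x10451c9) (nat_lit 1795))
)) (.node (nat_lit 0x10451d1) (.leaf (nat_lit 0x10451cd) (nat_lit 1539))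
 (.node (nat_lit 0x10451d5) (.leaf (nat_lit 0x10451d1) (nat_lit 1795))
 (.leaf (nat_lit 0x10451d5) (nat_lit 1539))
))) (.node (nat_lit 0x1045245) (.node (nat_lit 0x10451dd) (.leaf (nat_lit 0x10451d9) (nat_lit 1795))
 (.node (nat_lit 0x1045241) (.leaf (nat_lit 0x10451dd) (nat_lit 2051))
 (.leaf (nat_lit 0x1045241) (nat_lit 1539))
)) (.node (nat_lit 0x1045249) (.leaf (nat_lit 0x1045245) (nat_lit 1795))
 (.node (nat_lit 0x104524d) (.leaf (nat_lit 0x1045249) (nat_lit 2051))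
 (.leaf (nat_lit 0x104524d) (nat_lit 1795))
)))) (.node (nat_lit 0x10452c9) (.node (nat_lit 0x104525d) (.node (nat_lit 0x1045255) (.leaf (nat_lit 0x1045251) (nat_lit 2051))
 (.node (nat_lit 0x1045259) (.leaf (nat_lit 0x1045255) (nat_lit 1795))
 (.leaf (nat_lit 0x1045259) (nat_lit 2049))
)) (.node (nat_lit 0x10452c1) (.leaf (nat_lit 0x104525d) (nat_lit 1793))
 (.node (nat_lit 0x10452c5) (.leaf (nat_lit 0x10452c1) (nat_lit 1283))
 (.leaf (nat_lit 0x10452c5) (nat_lit 1539))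
))) (.node (nat_lit 0x10452d5) (.node (nat_lit 0x10452cd) (.leaf (nat_lit 0x10452c9) (nat_lit 1795))
 (.node (nat_lit 0x10452d1) (.leaf (nat_lit 0x10452cd) (nat_lit 1539))
 (.leaf (nat_lit 0x10452d1) (nat_lit 1795))
)) (.node (nat_lit 0x10452d9) (.leaf (nat_lit 0x10452d5) (nat_lit 1539))
 (.node (nat_lit 0x10452dd) (.leaf (nat_lit 0x10452d9) (nat_lit 1793))
 (.leaf (nat_lit 0x10452dd) (nat_lit 1537))
)))))) (.node (nat_lit 0x10470c1) (.node (nat_lit 0x10453d1) (.node (nat_lit 0x1045359) (.node (nat_lit 0x104534d) (.node (nat_lit 0x1045345) (.leaf (nat_lit 0x1045341) (nat_lit 1538))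
 (.node (nat_lit 0x1045349) (.leaf (nat_lit 0x1045345) (nat_lit 1794))
 (.leaf (nat_lit 0x1045349) (nat_lit 2051))
)) (.node (nat_lit 0x1045351) (.leaf (nat_lit 0x104534d) (nat_lit 1795))
 (.node (nat_lit 0x1045355) (.leaf (nat_lit 0x1045351) (nat_lit 2048))
 (.leaf (nat_lit 0x1045355) (nat_lit 1792))
))) (.node (nat_lit 0x10453c5) (.node (nat_lit 0x104535d) (.leaf (nat_lit 0x1045359) (nat_lit 2050))
 (.node (nat_lit 0x10453c1) (.leaf (nat_lit 0x104535d) (nat_lit 1794))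
 (.leaf (nat_lit 0x10453c1) (nat_lit 1282))
)) (.node (nat_lit 0x10453c9) (.leaf (nat_lit 0x10453c5) (nat_lit 1538))
 (.node (nat_lit 0x10453cd) (.leaf (nat_lit 0x10453c9) (nat_lit 1792))
 (.leaf (nat_lit 0x10453cd) (nat_lit 2048))
)))) (.node (nat_lit 0x1047049) (.node (nat_lit 0x10453dd) (.node (nat_lit 0x10453d5) (.leaf (nat_lit 0x10453d1) (nat_lit 1792))
 (.node (nat_lit 0x10453d9) (.leaf (nat_lit 0x10453d5) (nat_lit 1536))
 (.leaf (nat_lit 0x10453d9) (nat_lit 1794))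
)) (.node (nat_lit 0x1047041) (.leaf (nat_lit 0x10453dd) (nat_lit 1538))
 (.node (nat_lit 0x1047045) (.leaf (nat_lit 0x1047041) (nat_lit 771))
 (.leaf (nat_lit 0x1047045) (nat_lit 1027))
))) (.node (nat_lit 0x1047055) (.node (nat_lit 0x104704d) (.leaf (nat_lit 0x1047049) (nat_lit 1795))
 (.node (nat_lit 0x1047051) (.leaf (nat_lit 0x104704d) (nat_lit 1539))
 (.leaf (nat_lit 0x1047051) (nat_lit 1794))
)) (.node (nat_lit 0x1047059) (.leaf (nat_lit 0x1047055) (nat_lit 1538))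
 (.node (nat_lit 0x104705d) (.leaf (nat_lit 0x1047059) (nat_lit 1283))
 (.leaf (nat_lit 0x104705d) (nat_lit 1027))
))))) (.node (nat_lit 0x1047151) (.node (nat_lit 0x10470d9) (.node (nat_lit 0x10470cd) (.node (nat_lit 0x10470c5) (.leaf (nat_lit 0x10470c1) (nat_lit 1027))
 (.node (nat_lit 0x10470c9) (.leaf (nat_lit 0x10470c5) (nat_lit 1283))
 (.leaf (nat_lit 0x10470c9) (nat_lit 2051))
)) (.node (nat_lit 0x10470d1) (.leaf (nat_lit 0x10470cd) (nat_lit 1795))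
 (.node (nat_lit 0x10470d5) (.leaf (nat_lit 0x10470d1) (nat_lit 2050))
 (.leaf (nat_lit 0x10470d5) (nat_lit 1794))
))) (.node (nat_lit 0x1047145) (.node (nat_lit 0x10470dd) (.leaf (nat_lit 0x10470d9) (nat_lit 1539))
 (.node (nat_lit 0x1047141) (.leaf (nat_lit 0x10470dd) (nat_lit 1283))
 (.leaf (nat_lit 0x1047141) (nat_lit 1795))
)) (.node (nat_lit 0x1047149) (.leaf (nat_lit 0x1047145) (nat_lit 2051))
 (.node (nat_lit 0x104714d) (.leaf (nat_lit 0x1047149) (nat_lit 2052))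
 (.leaf (nat_lit 0x104714d) (nat_lit 2051))
)))) (.node (nat_lit 0x10471c9) (.node (nat_lit 0x104715d) (.node (nat_lit 0x1047155) (.leaf (nat_lit 0x1047151) (nat_lit 2306))
 (.node (nat_lit 0x1047159) (.leaf (nat_lit 0x1047155) (nat_lit 2050))
 (.leaf (nat_lit 0x1047159) (nat_lit 2307))
)) (.node (nat_lit 0x10471c1) (.leaf (nat_lit 0x104715d) (nat_lit 2051))
 (.node (nat_lit 0x10471c5) (.leaf (nat_lit 0x10471c1) (nat_lit 1539))
 (.leaf (nat_lit 0x10471c5) (nat_lit 1795))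
))) (.node (nat_lit 0x10471d5) (.node (nat_lit 0x10471cd) (.leaf (nat_lit 0x10471c9) (nat_lit 2051))
 (.node (nat_lit 0x10471d1) (.leaf (nat_lit 0x10471cd) (nat_lit 1795))
 (.leaf (nat_lit 0x10471d1) (nat_lit 2050))
)) (.node (nat_lit 0x10471d9) (.leaf (nat_lit 0x10471d5) (nat_lit 1794))
 (.node (nat_lit 0x10471dd) (.leaf (nat_lit 0x10471d9) (nat_lit 2051))
 (.leaf (nat_lit 0x10471dd) (nat_lit 1795))
))))))) (.node (nat_lit 0x1061141) (.node (nat_lit 0x10473c1) (.node (nat_lit 0x10472d1) (.node (nat_lit 0x1047259) (.node (nat_lit 0x104724d) (.node (nat_lit 0x1047245) (.leaf (nat_lit 0x1047241) (nat_lit 1794))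
 (.node (nat_lit 0x1047249) (.leaf (nat_lit 0x1047245) (nat_lit 2050))
 (.leaf (nat_lit 0x1047249) (nat_lit 2306))
)) (.node (nat_lit 0x1047251) (.leaf (nat_lit 0x104724d) (nat_lit 2050))
 (.node (nat_lit 0x1047255) (.leaf (nat_lit 0x1047251) (nat_lit 2306))
 (.leaf (nat_lit 0x1047255) (nat_lit 2050))
))) (.node (nat_lit 0x10472c5) (.node (nat_lit 0x104725d) (.leaf (nat_lit 0x1047259) (nat_lit 2304))
 (.node (nat_lit 0x10472c1) (.leaf (nat_lit 0x104725d) (nat_lit 2048))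
 (.leaf (nat_lit 0x10472c1) (nat_lit 1538))
)) (.node (nat_lit 0x10472c9) (.leaf (nat_lit 0x10472c5) (nat_lit 1794))
 (.node (nat_lit 0x10472cd) (.leaf (nat_lit 0x10472c9) (nat_lit 2050))
 (.leaf (nat_lit 0x10472cd) (nat_lit 1794))
)))) (.node (nat_lit 0x1047349) (.node (nat_lit 0x10472dd) (.node (nat_lit 0x10472d5) (.leaf (nat_lit 0x10472d1) (nat_lit 2050))
 (.node (nat_lit 0x10472d9) (.leaf (nat_lit 0x10472d5) (nat_lit 1794))
 (.leaf (nat_lit 0x10472d9) (nat_lit 2048))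
)) (.node (nat_lit 0x1047341) (.leaf (nat_lit 0x10472dd) (nat_lit 1792))
 (.node (nat_lit 0x1047345) (.leaf (nat_lit 0x1047341) (nat_lit 1283))
 (.leaf (nat_lit 0x1047345) (nat_lit 1539))
))) (.node (nat_lit 0x1047355) (.node (nat_lit 0x104734d) (.leaf (nat_lit 0x1047349) (nat_lit 2307))
 (.node (nat_lit 0x1047351) (.leaf (nat_lit 0x104734d) (nat_lit 2051))
 (.leaf (nat_lit 0x1047351) (nat_lit 2305))
)) (.node (nat_lit 0x1047359) (.leaf (nat_lit 0x1047355) (nat_lit 2049))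
 (.node (nat_lit 0x104735d) (.leaf (nat_lit 0x1047359) (nat_lit 1795))
 (.leaf (nat_lit 0x104735d) (nat_lit 1539))
))))) (.node (nat_lit 0x1061051) (.node (nat_lit 0x10473d9) (.node (nat_lit 0x10473cd) (.node (nat_lit 0x10473c5) (.leaf (nat_lit 0x10473c1) (nat_lit 1027))
 (.node (nat_lit 0x10473c9) (.leaf (nat_lit 0x10473c5) (nat_lit 1283))
 (.leaf (nat_lit 0x10473c9) (nat_lit 2051))
)) (.node (nat_lit 0x10473d1) (.leaf (nat_lit 0x10473cd) (nat_lit 1795))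
 (.node (nat_lit 0x10473d5) (.leaf (nat_lit 0x10473d1) (nat_lit 2049))
 (.leaf (nat_lit 0x10473d5) (nat_lit 1793))
))) (.node (nat_lit 0x1061045) (.node (nat_lit 0x10473dd) (.leaf (nat_lit 0x10473d9) (nat_lit 1539))
 (.node (nat_lit 0x1061041) (.leaf (nat_lit 0x10473dd) (nat_lit 1283))
 (.leaf (nat_lit 0x1061041) (nat_lit 260))
)) (.node (nat_lit 0x1061049) (.leaf (nat_lit 0x1061045) (nat_lit 516))
 (.node (nat_lit 0x106104d) (.leaf (nat_lit 0x1061049) (nat_lit 1026))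
 (.leaf (nat_lit 0x106104d) (nat_lit 1028))
)))) (.node (nat_lit 0x10610c9) (.node (nat_lit 0x106105d) (.node (nat_lit 0x1061055) (.leaf (nat_lit 0x1061051) (nat_lit 2308))
 (.node (nat_lit 0x1061059) (.leaf (nat_lit 0x1061055) (nat_lit 2052))
 (.leaf (nat_lit 0x1061059) (nat_lit 1539))
)) (.node (nat_lit 0x10610c1) (.leaf (nat_lit 0x106105d) (nat_lit 1540))
 (.node (nat_lit 0x10610c5) (.leaf (nat_lit 0x10610c1) (nat_lit 516))
 (.leaf (nat_lit 0x10610c5) (nat_lit 772))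
))) (.node (nat_lit 0x10610d5) (.node (nat_lit 0x10610cd) (.leaf (nat_lit 0x10610c9) (nat_lit 1282))
 (.node (nat_lit 0x10610d1) (.leaf (nat_lit 0x10610cd) (nat_lit 1284))
 (.leaf (nat_lit 0x10610d1) (nat_lit 2564))
)) (.node (nat_lit 0x10610d9) (.leaf (nat_lit 0x10610d5) (nat_lit 2308))
 (.node (nat_lit 0x10610dd) (.leaf (nat_lit 0x10610d9) (nat_lit 1795))
 (.leaf (nat_lit 0x10610dd) (nat_lit 1796))
)))))) (.node (nat_lit 0x10612c1) (.node (nat_lit 0x10611d1) (.node (nat_lit 0x1061159) (.node (nat_lit 0x106114d) (.node (nat_lit 0x1061145) (.leaf (nat_lit 0x1061141) (nat_lit 1026))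
 (.node (nat_lit 0x1061149) (.leaf (nat_lit 0x1061145) (nat_lit 1282))
 (.leaf (nat_lit 0x1061149) (nat_lit 1282))
)) (.node (nat_lit 0x1061151) (.leaf (nat_lit 0x106114d) (nat_lit 1538))
 (.node (nat_lit 0x1061155) (.leaf (nat_lit 0x1061151) (nat_lit 2562))
 (.leaf (nat_lit 0x1061155) (nat_lit 2306))
))) (.node (nat_lit 0x10611c5) (.node (nat_lit 0x106115d) (.leaf (nat_lit 0x1061159) (nat_lit 2306))
 (.node (nat_lit 0x10611c1) (.leaf (nat_lit 0x106115d) (nat_lit 2306))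
 (.leaf (nat_lit 0x10611c1) (nat_lit 1028))
)) (.node (nat_lit 0x10611c9) (.leaf (nat_lit 0x10611c5) (nat_lit 1284))
 (.node (nat_lit 0x10611cd) (.leaf (nat_lit 0x10611c9) (nat_lit 1540))
 (.leaf (nat_lit 0x10611cd) (nat_lit 1284))
)))) (.node (nat_lit 0x1061249) (.node (nat_lit 0x10611dd) (.node (nat_lit 0x10611d5) (.leaf (nat_lit 0x10611d1) (nat_lit 2564))
 (.node (nat_lit 0x10611d9) (.leaf (nat_lit 0x10611d5) (nat_lit 2308))
 (.leaf (nat_lit 0x10611d9) (nat_lit 2307))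
)) (.node (nat_lit 0x1061241) (.leaf (nat_lit 0x10611dd) (nat_lit 2308))
 (.node (nat_lit 0x1061245) (.leaf (nat_lit 0x1061241) (nat_lit 2308))
 (.leaf (nat_lit 0x1061245) (nat_lit 2564))
))) (.node (nat_lit 0x1061255) (.node (nat_lit 0x106124d) (.leaf (nat_lit 0x1061249) (nat_lit 2562))
 (.node (nat_lit 0x1061251) (.leaf (nat_lit 0x106124d) (nat_lit 2564))
 (.leaf (nat_lit 0x1061251) (nat_lit 2820))
)) (.node (nat_lit 0x1061259) (.leaf (nat_lit 0x1061255) (nat_lit 2564))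
 (.node (nat_lit 0x106125d) (.leaf (nat_lit 0x1061259) (nat_lit 2562))
 (.leaf (nat_lit 0x106125d) (nat_lit 2564))
))))) (.node (nat_lit 0x1061351) (.node (nat_lit 0x10612d9) (.node (nat_lit 0x10612cd) (.node (nat_lit 0x10612c5) (.leaf (nat_lit 0x10612c1) (nat_lit 2052))
 (.node (nat_lit 0x10612c9) (.leaf (nat_lit 0x10612c5) (nat_lit 2308))
 (.leaf (nat_lit 0x10612c9) (nat_lit 2306))
)) (.node (nat_lit 0x10612d1) (.leaf (nat_lit 0x10612cd) (nat_lit 2308))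
 (.node (nat_lit 0x10612d5) (.leaf (nat_lit 0x10612d1) (nat_lit 2564))
 (.leaf (nat_lit 0x10612d5) (nat_lit 2308))
))) (.node (nat_lit 0x1061345) (.node (nat_lit 0x10612dd) (.leaf (nat_lit 0x10612d9) (nat_lit 2564))
 (.node (nat_lit 0x1061341) (.leaf (nat_lit 0x10612dd) (nat_lit 2562))
 (.leaf (nat_lit 0x1061341) (nat_lit 1539))
)) (.node (nat_lit 0x1061349) (.leaf (nat_lit 0x1061345) (nat_lit 1795))
 (.node (nat_lit 0x106134d) (.leaf (nat_lit 0x1061349) (nat_lit 2306))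
 (.leaf (nat_lit 0x106134d) (nat_lit 2307))
)))) (.node (nat_lit 0x10613c9) (.node (nat_lit 0x106135d) (.node (nat_lit 0x1061355) (.leaf (nat_lit 0x1061351) (nat_lit 2562))
 (.node (nat_lit 0x1061359) (.leaf (nat_lit 0x1061355) (nat_lit 2563))
 (.leaf (nat_lit 0x1061359) (nat_lit 1795))
)) (.node (nat_lit 0x10613c1) (.leaf (nat_lit 0x106135d) (nat_lit 2051))
 (.node (nat_lit 0x10613c5) (.leaf (nat_lit 0x10613c1) (nat_lit 1540))
 (.leaf (nat_lit 0x10613c5) (nat_lit 1796))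
))) (.node (nat_lit 0x10613d5) (.node (nat_lit 0x10613cd) (.leaf (nat_lit 0x10613c9) (nat_lit 2306))
 (.node (nat_lit 0x10613d1) (.leaf (nat_lit 0x10613cd) (nat_lit 2308))
 (.leaf (nat_lit 0x10613d1) (nat_lit 2564))
)) (.node (nat_lit 0x10613d9) (.leaf (nat_lit 0x10613d5) (nat_lit 2562))
 (.node (nat_lit 0x10613dd) (.leaf (nat_lit 0x10613d9) (nat_lit 2052))
 (.leaf (nat_lit 0x10613dd) (nat_lit 1796))
)))))))) (.node (nat_lit 0x1065241) (.node (nat_lit 0x1062341) (.node (nat_lit 0x10621c1) (.node (nat_lit 0x10620d1) (.node (nat_lit 0x1062059) (.node (nat_lit 0x106204d) (.node (nat_lit 0x1062045) (.leaf (nat_lit 0x1062041) (nat_lit 514))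
 (.node (nat_lit 0x1062049) (.leaf (nat_lit 0x1062045) (nat_lit 770))
 (.leaf (nat_lit 0x1062049) (nat_lit 768))
)) (.node (nat_lit 0x1062051) (.leaf (nat_lit 0x106204d) (nat_lit 1024))
 (.node (nat_lit 0x1062055) (.leaf (nat_lit 0x1062051) (nat_lit 2051))
 (.leaf (nat_lit 0x1062055) (nat_lit 1795))
))) (.node (nat_lit 0x10620c5) (.node (nat_lit 0x106205d) (.leaf (nat_lit 0x1062059) (nat_lit 1794))
 (.node (nat_lit 0x10620c1) (.leaf (nat_lit 0x106205d) (nat_lit 1794))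
 (.leaf (nat_lit 0x10620c1) (nat_lit 770))
)) (.node (nat_lit 0x10620c9) (.leaf (nat_lit 0x10620c5) (nat_lit 1026))
 (.node (nat_lit 0x10620cd) (.leaf (nat_lit 0x10620c9) (nat_lit 1024))
 (.leaf (nat_lit 0x10620cd) (nat_lit 1280))
)))) (.node (nat_lit 0x1062149) (.node (nat_lit 0x10620dd) (.node (nat_lit 0x10620d5) (.leaf (nat_lit 0x10620d1) (nat_lit 2307))
 (.node (nat_lit 0x10620d9) (.leaf (nat_lit 0x10620d5) (nat_lit 2051))
 (.leaf (nat_lit 0x10620d9) (nat_lit 2050))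
)) (.node (nat_lit 0x1062141) (.leaf (nat_lit 0x10620dd) (nat_lit 2050))
 (.node (nat_lit 0x1062145) (.leaf (nat_lit 0x1062141) (nat_lit 769))
 (.leaf (nat_lit 0x1062145) (nat_lit 1025))
))) (.node (nat_lit 0x1062155) (.node (nat_lit 0x106214d) (.leaf (nat_lit 0x1062149) (nat_lit 1025))
 (.node (nat_lit 0x1062151) (.leaf (nat_lit 0x106214d) (nat_lit 1281))
 (.leaf (nat_lit 0x1062151) (nat_lit 2307))
)) (.node (nat_lit 0x1062159) (.leaf (nat_lit 0x1062155) (nat_lit 2051))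
 (.node (nat_lit 0x106215d) (.leaf (nat_lit 0x1062159) (nat_lit 2049))
 (.leaf (nat_lit 0x106215d) (nat_lit 2049))
))))) (.node (nat_lit 0x1062251) (.node (nat_lit 0x10621d9) (.node (nat_lit 0x10621cd) (.node (nat_lit 0x10621c5) (.leaf (nat_lit 0x10621c1) (nat_lit 1025))
 (.node (nat_lit 0x10621c9) (.leaf (nat_lit 0x10621c5) (nat_lit 1281))
 (.leaf (nat_lit 0x10621c9) (nat_lit 1281))
)) (.node (nat_lit 0x10621d1) (.leaf (nat_lit 0x10621cd) (nat_lit 1537))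
 (.node (nat_lit 0x10621d5) (.leaf (nat_lit 0x10621d1) (nat_lit 2563))
 (.leaf (nat_lit 0x10621d5) (nat_lit 2307))
))) (.node (nat_lit 0x1062245) (.node (nat_lit 0x10621dd) (.leaf (nat_lit 0x10621d9) (nat_lit 2305))
 (.node (nat_lit 0x1062241) (.leaf (nat_lit 0x10621dd) (nat_lit 2305))
 (.leaf (nat_lit 0x1062241) (nat_lit 2051))
)) (.node (nat_lit 0x1062249) (.leaf (nat_lit 0x1062245) (nat_lit 2307))
 (.node (nat_lit 0x106224d) (.leaf (nat_lit 0x1062249) (nat_lit 2307))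
 (.leaf (nat_lit 0x106224d) (nat_lit 2563))
)))) (.node (nat_lit 0x10622c9) (.node (nat_lit 0x106225d) (.node (nat_lit 0x1062255) (.leaf (nat_lit 0x1062251) (nat_lit 2563))
 (.node (nat_lit 0x1062259) (.leaf (nat_lit 0x1062255) (nat_lit 2307))
 (.leaf (nat_lit 0x1062259) (nat_lit 2305))
)) (.node (nat_lit 0x10622c1) (.leaf (nat_lit 0x106225d) (nat_lit 2561))
 (.node (nat_lit 0x10622c5) (.leaf (nat_lit 0x10622c1) (nat_lit 1795))
 (.leaf (nat_lit 0x10622c5) (nat_lit 2051))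
))) (.node (nat_lit 0x10622d5) (.node (nat_lit 0x10622cd) (.leaf (nat_lit 0x10622c9) (nat_lit 2051))
 (.node (nat_lit 0x10622d1) (.leaf (nat_lit 0x10622cd) (nat_lit 2307))
 (.leaf (nat_lit 0x10622d1) (nat_lit 2307))
)) (.node (nat_lit 0x10622d9) (.leaf (nat_lit 0x10622d5) (nat_lit 2051))
 (.node (nat_lit 0x10622dd) (.leaf (nat_lit 0x10622d9) (nat_lit 2561))
 (.leaf (nat_lit 0x10622dd) (nat_lit 2305))
)))))) (.node (nat_lit 0x10650c1) (.node (nat_lit 0x10623d1) (.node (nat_lit 0x1062359) (.node (nat_lit 0x106234d) (.node (nat_lit 0x1062345) (.leaf (nat_lit 0x1062341) (nat_lit 1794))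
 (.node (nat_lit 0x1062349) (.leaf (nat_lit 0x1062345) (nat_lit 2050))
 (.leaf (nat_lit 0x1062349) (nat_lit 2048))
)) (.node (nat_lit 0x1062351) (.leaf (nat_lit 0x106234d) (nat_lit 2304))
 (.node (nat_lit 0x1062355) (.leaf (nat_lit 0x1062351) (nat_lit 2304))
 (.leaf (nat_lit 0x1062355) (nat_lit 2560))
))) (.node (nat_lit 0x10623c5) (.node (nat_lit 0x106235d) (.leaf (nat_lit 0x1062359) (nat_lit 2050))
 (.node (nat_lit 0x10623c1) (.leaf (nat_lit 0x106235d) (nat_lit 2306))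
 (.leaf (nat_lit 0x10623c1) (nat_lit 1794))
)) (.node (nat_lit 0x10623c9) (.leaf (nat_lit 0x10623c5) (nat_lit 2050))
 (.node (nat_lit 0x10623cd) (.leaf (nat_lit 0x10623c9) (nat_lit 2048))
 (.leaf (nat_lit 0x10623cd) (nat_lit 2304))
)))) (.node (nat_lit 0x1065049) (.node (nat_lit 0x10623dd) (.node (nat_lit 0x10623d5) (.leaf (nat_lit 0x10623d1) (nat_lit 2560))
 (.node (nat_lit 0x10623d9) (.leaf (nat_lit 0x10623d5) (nat_lit 2304))
 (.leaf (nat_lit 0x10623d9) (nat_lit 2306))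
)) (.node (nat_lit 0x1065041) (.leaf (nat_lit 0x10623dd) (nat_lit 2050))
 (.node (nat_lit 0x1065045) (.leaf (nat_lit 0x1065041) (nat_lit 1028))
 (.leaf (nat_lit 0x1065045) (nat_lit 1284))
))) (.node (nat_lit 0x1065055) (.node (nat_lit 0x106504d) (.leaf (nat_lit 0x1065049) (nat_lit 1540))
 (.node (nat_lit 0x1065051) (.leaf (nat_lit 0x106504d) (nat_lit 1284))
 (.leaf (nat_lit 0x1065051) (nat_lit 1540))
)) (.node (nat_lit 0x1065059) (.leaf (nat_lit 0x1065055) (nat_lit 1284))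
 (.node (nat_lit 0x106505d) (.leaf (nat_lit 0x1065059) (nat_lit 1540))
 (.leaf (nat_lit 0x106505d) (nat_lit 1796))
))))) (.node (nat_lit 0x1065151) (.node (nat_lit 0x10650d9) (.node (nat_lit 0x10650cd) (.node (nat_lit 0x10650c5) (.leaf (nat_lit 0x10650c1) (nat_lit 1284))
 (.node (nat_lit 0x10650c9) (.leaf (nat_lit 0x10650c5) (nat_lit 1540))
 (.leaf (nat_lit 0x10650c9) (nat_lit 1796))
)) (.node (nat_lit 0x10650d1) (.leaf (nat_lit 0x10650cd) (nat_lit 1540))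
 (.node (nat_lit 0x10650d5) (.leaf (nat_lit 0x10650d1) (nat_lit 1796))
 (.leaf (nat_lit 0x10650d5) (nat_lit 1540))
))) (.node (nat_lit 0x1065145) (.node (nat_lit 0x10650dd) (.leaf (nat_lit 0x10650d9) (nat_lit 1796))
 (.node (nat_lit 0x1065141) (.leaf (nat_lit 0x10650dd) (nat_lit 2052))
 (.leaf (nat_lit 0x1065141) (nat_lit 1540))
)) (.node (nat_lit 0x1065149) (.leaf (nat_lit 0x1065145) (nat_lit 1796))
 (.node (nat_lit 0x106514d) (.leaf (nat_lit 0x1065149) (nat_lit 1795))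
 (.leaf (nat_lit 0x106514d) (nat_lit 1796))
)))) (.node (nat_lit 0x10651c9) (.node (nat_lit 0x106515d) (.node (nat_lit 0x1065155) (.leaf (nat_lit 0x1065151) (nat_lit 2052))
 (.node (nat_lit 0x1065159) (.leaf (nat_lit 0x1065155) (nat_lit 1796))
 (.leaf (nat_lit 0x1065159) (nat_lit 2052))
)) (.node (nat_lit 0x10651c1) (.leaf (nat_lit 0x106515d) (nat_lit 2051))
 (.node (nat_lit 0x10651c5) (.leaf (nat_lit 0x10651c1) (nat_lit 1284))
 (.leaf (nat_lit 0x10651c5) (nat_lit 1540))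
))) (.node (nat_lit 0x10651d5) (.node (nat_lit 0x10651cd) (.leaf (nat_lit 0x10651c9) (nat_lit 1796))
 (.node (nat_lit 0x10651d1) (.leaf (nat_lit 0x10651cd) (nat_lit 1540))
 (.leaf (nat_lit 0x10651d1) (nat_lit 1796))
)) (.node (nat_lit 0x10651d9) (.leaf (nat_lit 0x10651d5) (nat_lit 1540))
 (.node (nat_lit 0x10651dd) (.leaf (nat_lit 0x10651d9) (nat_lit 1796))
 (.leaf (nat_lit 0x10651dd) (nat_lit 2052))
))))))) (.node (nat_lit 0x1066141) (.node (nat_lit 0x10653c1) (.node (nat_lit 0x10652d1) (.node (nat_lit 0x1065259) (.node (nat_lit 0x106524d) (.node (nat_lit 0x1065245) (.leaf (nat_lit 0x1065241) (nat_lit 1540))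
 (.node (nat_lit 0x1065249) (.leaf (nat_lit 0x1065245) (nat_lit 1796))
 (.leaf (nat_lit 0x1065249) (nat_lit 2052))
)) (.node (nat_lit 0x1065251) (.leaf (nat_lit 0x106524d) (nat_lit 1796))
 (.node (nat_lit 0x1065255) (.leaf (nat_lit 0x1065251) (nat_lit 2052))
 (.leaf (nat_lit 0x1065255) (nat_lit 1796))
))) (.node (nat_lit 0x10652c5) (.node (nat_lit 0x106525d) (.leaf (nat_lit 0x1065259) (nat_lit 2052))
 (.node (nat_lit 0x10652c1) (.leaf (nat_lit 0x106525d) (nat_lit 2308))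
 (.leaf (nat_lit 0x10652c1) (nat_lit 1284))
)) (.node (nat_lit 0x10652c9) (.leaf (nat_lit 0x10652c5) (nat_lit 1540))
 (.node (nat_lit 0x10652cd) (.leaf (nat_lit 0x10652c9) (nat_lit 1796))
 (.leaf (nat_lit 0x10652cd) (nat_lit 1540))
)))) (.node (nat_lit 0x1065349) (.node (nat_lit 0x10652dd) (.node (nat_lit 0x10652d5) (.leaf (nat_lit 0x10652d1) (nat_lit 1796))
 (.node (nat_lit 0x10652d9) (.leaf (nat_lit 0x10652d5) (nat_lit 1540))
 (.leaf (nat_lit 0x10652d9) (nat_lit 1796))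
)) (.node (nat_lit 0x1065341) (.leaf (nat_lit 0x10652dd) (nat_lit 2052))
 (.node (nat_lit 0x1065345) (.leaf (nat_lit 0x1065341) (nat_lit 1540))
 (.leaf (nat_lit 0x1065345) (nat_lit 1796))
))) (.node (nat_lit 0x1065355) (.node (nat_lit 0x106534d) (.leaf (nat_lit 0x1065349) (nat_lit 2052))
 (.node (nat_lit 0x1065351) (.leaf (nat_lit 0x106534d) (nat_lit 1796))
 (.leaf (nat_lit 0x1065351) (nat_lit 2052))
)) (.node (nat_lit 0x1065359) (.leaf (nat_lit 0x1065355) (nat_lit 1796))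
 (.node (nat_lit 0x106535d) (.leaf (nat_lit 0x1065359) (nat_lit 1794))
 (.leaf (nat_lit 0x106535d) (nat_lit 2050))
))))) (.node (nat_lit 0x1066051) (.node (nat_lit 0x10653d9) (.node (nat_lit 0x10653cd) (.node (nat_lit 0x10653c5) (.leaf (nat_lit 0x10653c1) (nat_lit 1796))
 (.node (nat_lit 0x10653c9) (.leaf (nat_lit 0x10653c5) (nat_lit 2052))
 (.leaf (nat_lit 0x10653c9) (nat_lit 2051))
)) (.node (nat_lit 0x10653d1) (.leaf (nat_lit 0x10653cd) (nat_lit 2052))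
 (.node (nat_lit 0x10653d5) (.leaf (nat_lit 0x10653d1) (nat_lit 2308))
 (.leaf (nat_lit 0x10653d5) (nat_lit 2052))
))) (.node (nat_lit 0x1066045) (.node (nat_lit 0x10653dd) (.leaf (nat_lit 0x10653d9) (nat_lit 2050))
 (.node (nat_lit 0x1066041) (.leaf (nat_lit 0x10653dd) (nat_lit 2052))
 (.leaf (nat_lit 0x1066041) (nat_lit 1027))
)) (.node (nat_lit 0x1066049) (.leaf (nat_lit 0x1066045) (nat_lit 1283))
 (.node (nat_lit 0x106604d) (.leaf (nat_lit 0x1066049) (nat_lit 1794))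
 (.leaf (nat_lit 0x106604d) (nat_lit 1538))
)))) (.node (nat_lit 0x10660c9) (.node (nat_lit 0x106605d) (.node (nat_lit 0x1066055) (.leaf (nat_lit 0x1066051) (nat_lit 1794))
 (.node (nat_lit 0x1066059) (.leaf (nat_lit 0x1066055) (nat_lit 1538))
 (.leaf (nat_lit 0x1066059) (nat_lit 1283))
)) (.node (nat_lit 0x10660c1) (.leaf (nat_lit 0x106605d) (nat_lit 1539))
 (.node (nat_lit 0x10660c5) (.leaf (nat_lit 0x10660c1) (nat_lit 1283))
 (.leaf (nat_lit 0x10660c5) (nat_lit 1539))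
))) (.node (nat_lit 0x10660d5) (.node (nat_lit 0x10660cd) (.leaf (nat_lit 0x10660c9) (nat_lit 2050))
 (.node (nat_lit 0x10660d1) (.leaf (nat_lit 0x10660cd) (nat_lit 1794))
 (.leaf (nat_lit 0x10660d1) (nat_lit 2050))
)) (.node (nat_lit 0x10660d9) (.leaf (nat_lit 0x10660d5) (nat_lit 1794))
 (.node (nat_lit 0x10660dd) (.leaf (nat_lit 0x10660d9) (nat_lit 1539))
 (.leaf (nat_lit 0x10660dd) (nat_lit 1795))
)))))) (.node (nat_lit 0x10662c1) (.node (nat_lit 0x10661d1) (.node (nat_lit 0x1066159) (.node (nat_lit 0x106614d) (.node (nat_lit 0x1066145) (.leaf (nat_lit 0x1066141) (nat_lit 1794))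
 (.node (nat_lit 0x1066149) (.leaf (nat_lit 0x1066145) (nat_lit 2050))
 (.leaf (nat_lit 0x1066149) (nat_lit 2051))
)) (.node (nat_lit 0x1066151) (.leaf (nat_lit 0x106614d) (nat_lit 2050))
 (.node (nat_lit 0x1066155) (.leaf (nat_lit 0x1066151) (nat_lit 2306))
 (.leaf (nat_lit 0x1066155) (nat_lit 2050))
))) (.node (nat_lit 0x10661c5) (.node (nat_lit 0x106615d) (.leaf (nat_lit 0x1066159) (nat_lit 2048))
 (.node (nat_lit 0x10661c1) (.leaf (nat_lit 0x106615d) (nat_lit 2304))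
 (.leaf (nat_lit 0x10661c1) (nat_lit 1538))
)) (.node (nat_lit 0x10661c9) (.leaf (nat_lit 0x10661c5) (nat_lit 1794))
 (.node (nat_lit 0x10661cd) (.leaf (nat_lit 0x10661c9) (nat_lit 2050))
 (.leaf (nat_lit 0x10661cd) (nat_lit 1794))
)))) (.node (nat_lit 0x1066249) (.node (nat_lit 0x10661dd) (.node (nat_lit 0x10661d5) (.leaf (nat_lit 0x10661d1) (nat_lit 2050))
 (.node (nat_lit 0x10661d9) (.leaf (nat_lit 0x10661d5) (nat_lit 1794))
 (.leaf (nat_lit 0x10661d9) (nat_lit 1792))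
)) (.node (nat_lit 0x1066241) (.leaf (nat_lit 0x10661dd) (nat_lit 2048))
 (.node (nat_lit 0x1066245) (.leaf (nat_lit 0x1066241) (nat_lit 1794))
 (.leaf (nat_lit 0x1066245) (nat_lit 2050))
))) (.node (nat_lit 0x1066255) (.node (nat_lit 0x106624d) (.leaf (nat_lit 0x1066249) (nat_lit 2306))
 (.node (nat_lit 0x1066251) (.leaf (nat_lit 0x106624d) (nat_lit 2050))
 (.leaf (nat_lit 0x1066251) (nat_lit 2306))
)) (.node (nat_lit 0x1066259) (.leaf (nat_lit 0x1066255) (nat_lit 2050))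
 (.node (nat_lit 0x106625d) (.leaf (nat_lit 0x1066259) (nat_lit 2048))
 (.leaf (nat_lit 0x106625d) (nat_lit 2304))
))))) (.node (nat_lit 0x1066351) (.node (nat_lit 0x10662d9) (.node (nat_lit 0x10662cd) (.node (nat_lit 0x10662c5) (.leaf (nat_lit 0x10662c1) (nat_lit 1538))
 (.node (nat_lit 0x10662c9) (.leaf (nat_lit 0x10662c5) (nat_lit 1794))
 (.leaf (nat_lit 0x10662c9) (nat_lit 2050))
)) (.node (nat_lit 0x10662d1) (.leaf (nat_lit 0x10662cd) (nat_lit 1794))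
 (.node (nat_lit 0x10662d5) (.leaf (nat_lit 0x10662d1) (nat_lit 2050))
 (.leaf (nat_lit 0x10662d5) (nat_lit 1794))
))) (.node (nat_lit 0x1066345) (.node (nat_lit 0x10662dd) (.leaf (nat_lit 0x10662d9) (nat_lit 1792))
 (.node (nat_lit 0x1066341) (.leaf (nat_lit 0x10662dd) (nat_lit 2048))
 (.leaf (nat_lit 0x1066341) (nat_lit 1283))
)) (.node (nat_lit 0x1066349) (.leaf (nat_lit 0x1066345) (nat_lit 1539))
 (.node (nat_lit 0x106634d) (.leaf (nat_lit 0x1066349) (nat_lit 2049))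
 (.leaf (nat_lit 0x106634d) (nat_lit 1793))
)))) (.node (nat_lit 0x10663c9) (.node (nat_lit 0x106635d) (.node (nat_lit 0x1066355) (.leaf (nat_lit 0x1066351) (nat_lit 2049))
 (.node (nat_lit 0x1066359) (.leaf (nat_lit 0x1066355) (nat_lit 1793))
 (.leaf (nat_lit 0x1066359) (nat_lit 1539))
)) (.node (nat_lit 0x10663c1) (.leaf (nat_lit 0x106635d) (nat_lit 1795))
 (.node (nat_lit 0x10663c5) (.leaf (nat_lit 0x10663c1) (nat_lit 1539))
 (.leaf (nat_lit 0x10663c5) (nat_lit 1795))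
))) (.node (nat_lit 0x10663d5) (.node (nat_lit 0x10663cd) (.leaf (nat_lit 0x10663c9) (nat_lit 2305))
 (.node (nat_lit 0x10663d1) (.leaf (nat_lit 0x10663cd) (nat_lit 2049))
 (.leaf (nat_lit 0x10663d1) (nat_lit 2305))
)) (.node (nat_lit 0x10663d9) (.leaf (nat_lit 0x10663d5) (nat_lit 2049))
 (.node (nat_lit 0x10663dd) (.leaf (nat_lit 0x10663d9) (nat_lit 1795))
 (.leaf (nat_lit 0x10663dd) (nat_lit 2051))
)))))))))) (.node (nat_lit 0x10c5041) (.node (nat_lit 0x10a7041) (.node (nat_lit 0x10a3241) (.node (nat_lit 0x10a2341) (.node (nat_lit 0x10a21c1) (.node (nat_lit 0x10a20d1) (.node (nat_lit 0x10a2059) (.node (nat_lit 0x10a204d) (.node (nat_lit 0x10a2045) (.leaf (nat_lit 0x10a2041) (nat_lit 1027))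
 (.node (nat_lit 0x10a2049) (.leaf (nat_lit 0x10a2045) (nat_lit 1283))
 (.leaf (nat_lit 0x10a2049) (nat_lit 1283))
)) (.node (nat_lit 0x10a2051) (.leaf (nat_lit 0x10a204d) (nat_lit 1283))
 (.node (nat_lit 0x10a2055) (.leaf (nat_lit 0x10a2051) (nat_lit 2048))
 (.leaf (nat_lit 0x10a2055) (nat_lit 1792))
))) (.node (nat_lit 0x10a20c5) (.node (nat_lit 0x10a205d) (.leaf (nat_lit 0x10a2059) (nat_lit 1794))
 (.node (nat_lit 0x10a20c1) (.leaf (nat_lit 0x10a205d) (nat_lit 1538))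
 (.leaf (nat_lit 0x10a20c1) (nat_lit 1283))
)) (.node (nat_lit 0x10a20c9) (.leaf (nat_lit 0x10a20c5) (nat_lit 1539))
 (.node (nat_lit 0x10a20cd) (.leaf (nat_lit 0x10a20c9) (nat_lit 1539))
 (.leaf (nat_lit 0x10a20cd) (nat_lit 1539))
)))) (.node (nat_lit 0x10a2149) (.node (nat_lit 0x10a20dd) (.node (nat_lit 0x10a20d5) (.leaf (nat_lit 0x10a20d1) (nat_lit 2304))
 (.node (nat_lit 0x10a20d9) (.leaf (nat_lit 0x10a20d5) (nat_lit 2048))
 (.leaf (nat_lit 0x10a20d9) (nat_lit 2050))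
)) (.node (nat_lit 0x10a2141) (.leaf (nat_lit 0x10a20dd) (nat_lit 1794))
 (.node (nat_lit 0x10a2145) (.leaf (nat_lit 0x10a2141) (nat_lit 1283))
 (.leaf (nat_lit 0x10a2145) (nat_lit 1539))
))) (.node (nat_lit 0x10a2155) (.node (nat_lit 0x10a214d) (.leaf (nat_lit 0x10a2149) (nat_lit 1539))
 (.node (nat_lit 0x10a2151) (.leaf (nat_lit 0x10a214d) (nat_lit 1539))
 (.leaf (nat_lit 0x10a2151) (nat_lit 2305))
)) (.node (nat_lit 0x10a2159) (.leaf (nat_lit 0x10a2155) (nat_lit 2049))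
 (.node (nat_lit 0x10a215d) (.leaf (nat_lit 0x10a2159) (nat_lit 2049))
 (.leaf (nat_lit 0x10a215d) (nat_lit 1793))
))))) (.node (nat_lit 0x10a2251) (.node (nat_lit 0x10a21d9) (.node (nat_lit 0x10a21cd) (.node (nat_lit 0x10a21c5) (.leaf (nat_lit 0x10a21c1) (nat_lit 1283))
 (.node (nat_lit 0x10a21c9) (.leaf (nat_lit 0x10a21c5) (nat_lit 1539))
 (.leaf (nat_lit 0x10a21c9) (nat_lit 1539))
)) (.node (nat_lit 0x10a21d1) (.leaf (nat_lit 0x10a21cd) (nat_lit 1539))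
 (.node (nat_lit 0x10a21d5) (.leaf (nat_lit 0x10a21d1) (nat_lit 2306))
 (.leaf (nat_lit 0x10a21d5) (nat_lit 2305))
))) (.node (nat_lit 0x10a2245) (.node (nat_lit 0x10a21dd) (.leaf (nat_lit 0x10a21d9) (nat_lit 2305))
 (.node (nat_lit 0x10a2241) (.leaf (nat_lit 0x10a21dd) (nat_lit 2049))
 (.leaf (nat_lit 0x10a2241) (nat_lit 2049))
)) (.node (nat_lit 0x10a2249) (.leaf (nat_lit 0x10a2245) (nat_lit 2305))
 (.node (nat_lit 0x10a224d) (.leaf (nat_lit 0x10a2249) (nat_lit 2305))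
 (.leaf (nat_lit 0x10a224d) (nat_lit 2306))
)))) (.node (nat_lit 0x10a22c9) (.node (nat_lit 0x10a225d) (.node (nat_lit 0x10a2255) (.leaf (nat_lit 0x10a2251) (nat_lit 2564))
 (.node (nat_lit 0x10a2259) (.leaf (nat_lit 0x10a2255) (nat_lit 2308))
 (.leaf (nat_lit 0x10a2259) (nat_lit 2561))
)) (.node (nat_lit 0x10a22c1) (.leaf (nat_lit 0x10a225d) (nat_lit 2305))
 (.node (nat_lit 0x10a22c5) (.leaf (nat_lit 0x10a22c1) (nat_lit 1793))
 (.leaf (nat_lit 0x10a22c5) (nat_lit 2049))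
))) (.node (nat_lit 0x10a22d5) (.node (nat_lit 0x10a22cd) (.leaf (nat_lit 0x10a22c9) (nat_lit 2049))
 (.node (nat_lit 0x10a22d1) (.leaf (nat_lit 0x10a22cd) (nat_lit 2305))
 (.leaf (nat_lit 0x10a22d1) (nat_lit 2308))
)) (.node (nat_lit 0x10a22d9) (.leaf (nat_lit 0x10a22d5) (nat_lit 2052))
 (.node (nat_lit 0x10a22dd) (.leaf (nat_lit 0x10a22d9) (nat_lit 2305))
 (.leaf (nat_lit 0x10a22dd) (nat_lit 2049))
)))))) (.node (nat_lit 0x10a30c1) (.node (nat_lit 0x10a23d1) (.node (nat_lit 0x10a2359) (.node (nat_lit 0x10a234d) (.node (nat_lit 0x10a2345) (.leaf (nat_lit 0x10a2341) (nat_lit 1794))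
 (.node (nat_lit 0x10a2349) (.leaf (nat_lit 0x10a2345) (nat_lit 2050))
 (.leaf (nat_lit 0x10a2349) (nat_lit 2048))
)) (.node (nat_lit 0x10a2351) (.leaf (nat_lit 0x10a234d) (nat_lit 2304))
 (.node (nat_lit 0x10a2355) (.leaf (nat_lit 0x10a2351) (nat_lit 2560))
 (.leaf (nat_lit 0x10a2355) (nat_lit 2304))
))) (.node (nat_lit 0x10a23c5) (.node (nat_lit 0x10a235d) (.leaf (nat_lit 0x10a2359) (nat_lit 2306))
 (.node (nat_lit 0x10a23c1) (.leaf (nat_lit 0x10a235d) (nat_lit 2050))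
 (.leaf (nat_lit 0x10a23c1) (nat_lit 1538))
)) (.node (nat_lit 0x10a23c9) (.leaf (nat_lit 0x10a23c5) (nat_lit 1794))
 (.node (nat_lit 0x10a23cd) (.leaf (nat_lit 0x10a23c9) (nat_lit 1792))
 (.leaf (nat_lit 0x10a23cd) (nat_lit 2048))
)))) (.node (nat_lit 0x10a3049) (.node (nat_lit 0x10a23dd) (.node (nat_lit 0x10a23d5) (.leaf (nat_lit 0x10a23d1) (nat_lit 2304))
 (.node (nat_lit 0x10a23d9) (.leaf (nat_lit 0x10a23d5) (nat_lit 2048))
 (.leaf (nat_lit 0x10a23d9) (nat_lit 2050))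
)) (.node (nat_lit 0x10a3041) (.leaf (nat_lit 0x10a23dd) (nat_lit 1794))
 (.node (nat_lit 0x10a3045) (.leaf (nat_lit 0x10a3041) (nat_lit 772))
 (.leaf (nat_lit 0x10a3045) (nat_lit 1028))
))) (.node (nat_lit 0x10a3055) (.node (nat_lit 0x10a304d) (.leaf (nat_lit 0x10a3049) (nat_lit 1284))
 (.node (nat_lit 0x10a3051) (.leaf (nat_lit 0x10a304d) (nat_lit 1028))
 (.leaf (nat_lit 0x10a3051) (nat_lit 1796))
)) (.node (nat_lit 0x10a3059) (.leaf (nat_lit 0x10a3055) (nat_lit 1540))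
 (.node (nat_lit 0x10a305d) (.leaf (nat_lit 0x10a3059) (nat_lit 1538))
 (.leaf (nat_lit 0x10a305d) (nat_lit 1794))
))))) (.node (nat_lit 0x10a3151) (.node (nat_lit 0x10a30d9) (.node (nat_lit 0x10a30cd) (.node (nat_lit 0x10a30c5) (.leaf (nat_lit 0x10a30c1) (nat_lit 1028))
 (.node (nat_lit 0x10a30c9) (.leaf (nat_lit 0x10a30c5) (nat_lit 1284))
 (.leaf (nat_lit 0x10a30c9) (nat_lit 1540))
)) (.node (nat_lit 0x10a30d1) (.leaf (nat_lit 0x10a30cd) (nat_lit 1284))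
 (.node (nat_lit 0x10a30d5) (.leaf (nat_lit 0x10a30d1) (nat_lit 2052))
 (.leaf (nat_lit 0x10a30d5) (nat_lit 1796))
))) (.node (nat_lit 0x10a3145) (.node (nat_lit 0x10a30dd) (.leaf (nat_lit 0x10a30d9) (nat_lit 1794))
 (.node (nat_lit 0x10a3141) (.leaf (nat_lit 0x10a30dd) (nat_lit 2050))
 (.leaf (nat_lit 0x10a3141) (nat_lit 1284))
)) (.node (nat_lit 0x10a3149) (.leaf (nat_lit 0x10a3145) (nat_lit 1540))
 (.node (nat_lit 0x10a314d) (.leaf (nat_lit 0x10a3149) (nat_lit 1796))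
 (.leaf (nat_lit 0x10a314d) (nat_lit 1540))
)))) (.node (nat_lit 0x10a31c9) (.node (nat_lit 0x10a315d) (.node (nat_lit 0x10a3155) (.leaf (nat_lit 0x10a3151) (nat_lit 2308))
 (.node (nat_lit 0x10a3159) (.leaf (nat_lit 0x10a3155) (nat_lit 2052))
 (.leaf (nat_lit 0x10a3159) (nat_lit 2050))
)) (.node (nat_lit 0x10a31c1) (.leaf (nat_lit 0x10a315d) (nat_lit 2306))
 (.node (nat_lit 0x10a31c5) (.leaf (nat_lit 0x10a31c1) (nat_lit 1028))
 (.leaf (nat_lit 0x10a31c5) (nat_lit 1284))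
))) (.node (nat_lit 0x10a31d5) (.node (nat_lit 0x10a31cd) (.leaf (nat_lit 0x10a31c9) (nat_lit 1540))
 (.node (nat_lit 0x10a31d1) (.leaf (nat_lit 0x10a31cd) (nat_lit 1284))
 (.leaf (nat_lit 0x10a31d1) (nat_lit 2052))
)) (.node (nat_lit 0x10a31d9) (.leaf (nat_lit 0x10a31d5) (nat_lit 1796))
 (.node (nat_lit 0x10a31dd) (.leaf (nat_lit 0x10a31d9) (nat_lit 1794))
 (.leaf (nat_lit 0x10a31dd) (nat_lit 2050))
))))))) (.node (nat_lit 0x10a6141) (.node (nat_lit 0x10a33c1) (.node (nat_lit 0x10a32d1) (.node (nat_lit 0x10a3259) (.node (nat_lit 0x10a324d) (.node (nat_lit 0x10a3245) (.leaf (nat_lit 0x10a3241) (nat_lit 1796))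
 (.node (nat_lit 0x10a3249) (.leaf (nat_lit 0x10a3245) (nat_lit 2052))
 (.leaf (nat_lit 0x10a3249) (nat_lit 2308))
)) (.node (nat_lit 0x10a3251) (.leaf (nat_lit 0x10a324d) (nat_lit 2052))
 (.node (nat_lit 0x10a3255) (.leaf (nat_lit 0x10a3251) (nat_lit 2308))
 (.leaf (nat_lit 0x10a3255) (nat_lit 2052))
))) (.node (nat_lit 0x10a32c5) (.node (nat_lit 0x10a325d) (.leaf (nat_lit 0x10a3259) (nat_lit 2308))
 (.node (nat_lit 0x10a32c1) (.leaf (nat_lit 0x10a325d) (nat_lit 2305))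
 (.leaf (nat_lit 0x10a32c1) (nat_lit 1540))
)) (.node (nat_lit 0x10a32c9) (.leaf (nat_lit 0x10a32c5) (nat_lit 1796))
 (.node (nat_lit 0x10a32cd) (.leaf (nat_lit 0x10a32c9) (nat_lit 2052))
 (.leaf (nat_lit 0x10a32cd) (nat_lit 1796))
)))) (.node (nat_lit 0x10a3349) (.node (nat_lit 0x10a32dd) (.node (nat_lit 0x10a32d5) (.leaf (nat_lit 0x10a32d1) (nat_lit 2052))
 (.node (nat_lit 0x10a32d9) (.leaf (nat_lit 0x10a32d5) (nat_lit 1796))
 (.leaf (nat_lit 0x10a32d9) (nat_lit 2052))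
)) (.node (nat_lit 0x10a3341) (.leaf (nat_lit 0x10a32dd) (nat_lit 2308))
 (.node (nat_lit 0x10a3345) (.leaf (nat_lit 0x10a3341) (nat_lit 1538))
 (.leaf (nat_lit 0x10a3345) (nat_lit 1794))
))) (.node (nat_lit 0x10a3355) (.node (nat_lit 0x10a334d) (.leaf (nat_lit 0x10a3349) (nat_lit 2050))
 (.node (nat_lit 0x10a3351) (.leaf (nat_lit 0x10a334d) (nat_lit 1794))
 (.leaf (nat_lit 0x10a3351) (nat_lit 2306))
)) (.node (nat_lit 0x10a3359) (.leaf (nat_lit 0x10a3355) (nat_lit 2050))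
 (.node (nat_lit 0x10a335d) (.leaf (nat_lit 0x10a3359) (nat_lit 1794))
 (.leaf (nat_lit 0x10a335d) (nat_lit 2050))
))))) (.node (nat_lit 0x10a6051) (.node (nat_lit 0x10a33d9) (.node (nat_lit 0x10a33cd) (.node (nat_lit 0x10a33c5) (.leaf (nat_lit 0x10a33c1) (nat_lit 1794))
 (.node (nat_lit 0x10a33c9) (.leaf (nat_lit 0x10a33c5) (nat_lit 2050))
 (.leaf (nat_lit 0x10a33c9) (nat_lit 2306))
)) (.node (nat_lit 0x10a33d1) (.leaf (nat_lit 0x10a33cd) (nat_lit 2050))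
 (.node (nat_lit 0x10a33d5) (.leaf (nat_lit 0x10a33d1) (nat_lit 2304))
 (.leaf (nat_lit 0x10a33d5) (nat_lit 2306))
))) (.node (nat_lit 0x10a6045) (.node (nat_lit 0x10a33dd) (.leaf (nat_lit 0x10a33d9) (nat_lit 2050))
 (.node (nat_lit 0x10a6041) (.leaf (nat_lit 0x10a33dd) (nat_lit 2050))
 (.leaf (nat_lit 0x10a6041) (nat_lit 1026))
)) (.node (nat_lit 0x10a6049) (.leaf (nat_lit 0x10a6045) (nat_lit 1282))
 (.node (nat_lit 0x10a604d) (.leaf (nat_lit 0x10a6049) (nat_lit 1538))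
 (.leaf (nat_lit 0x10a604d) (nat_lit 1282))
)))) (.node (nat_lit 0x10a60c9) (.node (nat_lit 0x10a605d) (.node (nat_lit 0x10a6055) (.leaf (nat_lit 0x10a6051) (nat_lit 1792))
 (.node (nat_lit 0x10a6059) (.leaf (nat_lit 0x10a6055) (nat_lit 1536))
 (.leaf (nat_lit 0x10a6059) (nat_lit 1280))
)) (.node (nat_lit 0x10a60c1) (.leaf (nat_lit 0x10a605d) (nat_lit 1536))
 (.node (nat_lit 0x10a60c5) (.leaf (nat_lit 0x10a60c1) (nat_lit 1282))
 (.leaf (nat_lit 0x10a60c5) (nat_lit 1538))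
))) (.node (nat_lit 0x10a60d5) (.node (nat_lit 0x10a60cd) (.leaf (nat_lit 0x10a60c9) (nat_lit 1794))
 (.node (nat_lit 0x10a60d1) (.leaf (nat_lit 0x10a60cd) (nat_lit 1538))
 (.leaf (nat_lit 0x10a60d1) (nat_lit 2048))
)) (.node (nat_lit 0x10a60d9) (.leaf (nat_lit 0x10a60d5) (nat_lit 1792))
 (.node (nat_lit 0x10a60dd) (.leaf (nat_lit 0x10a60d9) (nat_lit 1536))
 (.leaf (nat_lit 0x10a60dd) (nat_lit 1792))
)))))) (.node (nat_lit 0x10a62c1) (.node (nat_lit 0x10a61d1) (.node (nat_lit 0x10a6159) (.node (nat_lit 0x10a614d) (.node (nat_lit 0x10a6145) (.leaf (nat_lit 0x10a6141) (nat_lit 1538))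
 (.node (nat_lit 0x10a6149) (.leaf (nat_lit 0x10a6145) (nat_lit 1794))
 (.leaf (nat_lit 0x10a6149) (nat_lit 2050))
)) (.node (nat_lit 0x10a6151) (.leaf (nat_lit 0x10a614d) (nat_lit 1794))
 (.node (nat_lit 0x10a6155) (.leaf (nat_lit 0x10a6151) (nat_lit 2304))
 (.leaf (nat_lit 0x10a6155) (nat_lit 2048))
))) (.node (nat_lit 0x10a61c5) (.node (nat_lit 0x10a615d) (.leaf (nat_lit 0x10a6159) (nat_lit 1792))
 (.node (nat_lit 0x10a61c1) (.leaf (nat_lit 0x10a615d) (nat_lit 2048))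
 (.leaf (nat_lit 0x10a61c1) (nat_lit 1282))
)) (.node (nat_lit 0x10a61c9) (.leaf (nat_lit 0x10a61c5) (nat_lit 1538))
 (.node (nat_lit 0x10a61cd) (.leaf (nat_lit 0x10a61c9) (nat_lit 1794))
 (.leaf (nat_lit 0x10a61cd) (nat_lit 1538))
)))) (.node (nat_lit 0x10a6249) (.node (nat_lit 0x10a61dd) (.node (nat_lit 0x10a61d5) (.leaf (nat_lit 0x10a61d1) (nat_lit 2048))
 (.node (nat_lit 0x10a61d9) (.leaf (nat_lit 0x10a61d5) (nat_lit 1792))
 (.leaf (nat_lit 0x10a61d9) (nat_lit 1536))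
)) (.node (nat_lit 0x10a6241) (.leaf (nat_lit 0x10a61dd) (nat_lit 1792))
 (.node (nat_lit 0x10a6245) (.leaf (nat_lit 0x10a6241) (nat_lit 1793))
 (.leaf (nat_lit 0x10a6245) (nat_lit 2049))
))) (.node (nat_lit 0x10a6255) (.node (nat_lit 0x10a624d) (.leaf (nat_lit 0x10a6249) (nat_lit 2305))
 (.node (nat_lit 0x10a6251) (.leaf (nat_lit 0x10a624d) (nat_lit 2049))
 (.leaf (nat_lit 0x10a6251) (nat_lit 2561))
)) (.node (nat_lit 0x10a6259) (.leaf (nat_lit 0x10a6255) (nat_lit 2305))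
 (.node (nat_lit 0x10a625d) (.leaf (nat_lit 0x10a6259) (nat_lit 2049))
 (.leaf (nat_lit 0x10a625d) (nat_lit 2305))
))))) (.node (nat_lit 0x10a6351) (.node (nat_lit 0x10a62d9) (.node (nat_lit 0x10a62cd) (.node (nat_lit 0x10a62c5) (.leaf (nat_lit 0x10a62c1) (nat_lit 1537))
 (.node (nat_lit 0x10a62c9) (.leaf (nat_lit 0x10a62c5) (nat_lit 1793))
 (.leaf (nat_lit 0x10a62c9) (nat_lit 2049))
)) (.node (nat_lit 0x10a62d1) (.leaf (nat_lit 0x10a62cd) (nat_lit 1793))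
 (.node (nat_lit 0x10a62d5) (.leaf (nat_lit 0x10a62d1) (nat_lit 2305))
 (.leaf (nat_lit 0x10a62d5) (nat_lit 2049))
))) (.node (nat_lit 0x10a6345) (.node (nat_lit 0x10a62dd) (.leaf (nat_lit 0x10a62d9) (nat_lit 1793))
 (.node (nat_lit 0x10a6341) (.leaf (nat_lit 0x10a62dd) (nat_lit 2049))
 (.leaf (nat_lit 0x10a6341) (nat_lit 1281))
)) (.node (nat_lit 0x10a6349) (.leaf (nat_lit 0x10a6345) (nat_lit 1537))
 (.node (nat_lit 0x10a634d) (.leaf (nat_lit 0x10a6349) (nat_lit 1793))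
 (.leaf (nat_lit 0x10a634d) (nat_lit 1537))
)))) (.node (nat_lit 0x10a63c9) (.node (nat_lit 0x10a635d) (.node (nat_lit 0x10a6355) (.leaf (nat_lit 0x10a6351) (nat_lit 2049))
 (.node (nat_lit 0x10a6359) (.leaf (nat_lit 0x10a6355) (nat_lit 1793))
 (.leaf (nat_lit 0x10a6359) (nat_lit 1537))
)) (.node (nat_lit 0x10a63c1) (.leaf (nat_lit 0x10a635d) (nat_lit 1793))
 (.node (nat_lit 0x10a63c5) (.leaf (nat_lit 0x10a63c1) (nat_lit 1537))
 (.leaf (nat_lit 0x10a63c5) (nat_lit 1793))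
))) (.node (nat_lit 0x10a63d5) (.node (nat_lit 0x10a63cd) (.leaf (nat_lit 0x10a63c9) (nat_lit 2049))
 (.node (nat_lit 0x10a63d1) (.leaf (nat_lit 0x10a63cd) (nat_lit 1793))
 (.leaf (nat_lit 0x10a63d1) (nat_lit 2305))
)) (.node (nat_lit 0x10a63d9) (.leaf (nat_lit 0x10a63d5) (nat_lit 2049))
 (.node (nat_lit 0x10a63dd) (.leaf (nat_lit 0x10a63d9) (nat_lit 1793))
 (.leaf (nat_lit 0x10a63dd) (nat_lit 1795))
)))))))) (.node (nat_lit 0x10c1241) (.node (nat_lit 0x10a7341) (.node (nat_lit 0x10a71c1) (.node (nat_lit 0x10a70d1) (.node (nat_lit 0x10a7059) (.node (nat_lit 0x10a704d) (.node (nat_lit 0x10a7045) (.leaf (nat_lit 0x10a7041) (nat_lit 1028))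
 (.node (nat_lit 0x10a7049) (.leaf (nat_lit 0x10a7045) (nat_lit 1284))
 (.leaf (nat_lit 0x10a7049) (nat_lit 1538))
)) (.node (nat_lit 0x10a7051) (.leaf (nat_lit 0x10a704d) (nat_lit 1538))
 (.node (nat_lit 0x10a7055) (.leaf (nat_lit 0x10a7051) (nat_lit 1792))
 (.leaf (nat_lit 0x10a7055) (nat_lit 1796))
))) (.node (nat_lit 0x10a70c5) (.node (nat_lit 0x10a705d) (.leaf (nat_lit 0x10a7059) (nat_lit 1540))
 (.node (nat_lit 0x10a70c1) (.leaf (nat_lit 0x10a705d) (nat_lit 1284))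
 (.leaf (nat_lit 0x10a70c1) (nat_lit 1284))
)) (.node (nat_lit 0x10a70c9) (.leaf (nat_lit 0x10a70c5) (nat_lit 1540))
 (.node (nat_lit 0x10a70cd) (.leaf (nat_lit 0x10a70c9) (nat_lit 1794))
 (.leaf (nat_lit 0x10a70cd) (nat_lit 1794))
)))) (.node (nat_lit 0x10a7149) (.node (nat_lit 0x10a70dd) (.node (nat_lit 0x10a70d5) (.leaf (nat_lit 0x10a70d1) (nat_lit 2048))
 (.node (nat_lit 0x10a70d9) (.leaf (nat_lit 0x10a70d5) (nat_lit 2052))
 (.leaf (nat_lit 0x10a70d9) (nat_lit 1796))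
)) (.node (nat_lit 0x10a7141) (.leaf (nat_lit 0x10a70dd) (nat_lit 1540))
 (.node (nat_lit 0x10a7145) (.leaf (nat_lit 0x10a7141) (nat_lit 1538))
 (.leaf (nat_lit 0x10a7145) (nat_lit 1794))
))) (.node (nat_lit 0x10a7155) (.node (nat_lit 0x10a714d) (.leaf (nat_lit 0x10a7149) (nat_lit 1794))
 (.node (nat_lit 0x10a7151) (.leaf (nat_lit 0x10a714d) (nat_lit 1794))
 (.leaf (nat_lit 0x10a7151) (nat_lit 2048))
)) (.node (nat_lit 0x10a7159) (.leaf (nat_lit 0x10a7155) (nat_lit 2048))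
 (.node (nat_lit 0x10a715d) (.leaf (nat_lit 0x10a7159) (nat_lit 2048))
 (.leaf (nat_lit 0x10a715d) (nat_lit 1792))
))))) (.node (nat_lit 0x10a7251) (.node (nat_lit 0x10a71d9) (.node (nat_lit 0x10a71cd) (.node (nat_lit 0x10a71c5) (.leaf (nat_lit 0x10a71c1) (nat_lit 1538))
 (.node (nat_lit 0x10a71c9) (.leaf (nat_lit 0x10a71c5) (nat_lit 1794))
 (.leaf (nat_lit 0x10a71c9) (nat_lit 1794))
)) (.node (nat_lit 0x10a71d1) (.leaf (nat_lit 0x10a71cd) (nat_lit 1794))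
 (.node (nat_lit 0x10a71d5) (.leaf (nat_lit 0x10a71d1) (nat_lit 2048))
 (.leaf (nat_lit 0x10a71d5) (nat_lit 2052))
))) (.node (nat_lit 0x10a7245) (.node (nat_lit 0x10a71dd) (.leaf (nat_lit 0x10a71d9) (nat_lit 2048))
 (.node (nat_lit 0x10a7241) (.leaf (nat_lit 0x10a71dd) (nat_lit 1792))
 (.leaf (nat_lit 0x10a7241) (nat_lit 1793))
)) (.node (nat_lit 0x10a7249) (.leaf (nat_lit 0x10a7245) (nat_lit 2049))
 (.node (nat_lit 0x10a724d) (.leaf (nat_lit 0x10a7249) (nat_lit 2049))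
 (.leaf (nat_lit 0x10a724d) (nat_lit 2049))
)))) (.node (nat_lit 0x10a72c9) (.node (nat_lit 0x10a725d) (.node (nat_lit 0x10a7255) (.leaf (nat_lit 0x10a7251) (nat_lit 2305))
 (.node (nat_lit 0x10a7259) (.leaf (nat_lit 0x10a7255) (nat_lit 2308))
 (.leaf (nat_lit 0x10a7259) (nat_lit 2305))
)) (.node (nat_lit 0x10a72c1) (.leaf (nat_lit 0x10a725d) (nat_lit 2049))
 (.node (nat_lit 0x10a72c5) (.leaf (nat_lit 0x10a72c1) (nat_lit 1796))
 (.leaf (nat_lit 0x10a72c5) (nat_lit 2052))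
))) (.node (nat_lit 0x10a72d5) (.node (nat_lit 0x10a72cd) (.leaf (nat_lit 0x10a72c9) (nat_lit 2049))
 (.node (nat_lit 0x10a72d1) (.leaf (nat_lit 0x10a72cd) (nat_lit 2052))
 (.leaf (nat_lit 0x10a72d1) (nat_lit 2308))
)) (.node (nat_lit 0x10a72d9) (.leaf (nat_lit 0x10a72d5) (nat_lit 2052))
 (.node (nat_lit 0x10a72dd) (.leaf (nat_lit 0x10a72d9) (nat_lit 2308))
 (.leaf (nat_lit 0x10a72dd) (nat_lit 2052))
)))))) (.node (nat_lit 0x10c10c1) (.node (nat_lit 0x10a73d1) (.node (nat_lit 0x10a7359) (.node (nat_lit 0x10a734d) (.node (nat_lit 0x10a7345) (.leaf (nat_lit 0x10a7341) (nat_lit 1540))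
 (.node (nat_lit 0x10a7349) (.leaf (nat_lit 0x10a7345) (nat_lit 1796))
 (.leaf (nat_lit 0x10a7349) (nat_lit 2049))
)) (.node (nat_lit 0x10a7351) (.leaf (nat_lit 0x10a734d) (nat_lit 2049))
 (.node (nat_lit 0x10a7355) (.leaf (nat_lit 0x10a7351) (nat_lit 2305))
 (.leaf (nat_lit 0x10a7355) (nat_lit 2308))
))) (.node (nat_lit 0x10a73c5) (.node (nat_lit 0x10a735d) (.leaf (nat_lit 0x10a7359) (nat_lit 2052))
 (.node (nat_lit 0x10a73c1) (.leaf (nat_lit 0x10a735d) (nat_lit 1796))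
 (.leaf (nat_lit 0x10a73c1) (nat_lit 1284))
)) (.node (nat_lit 0x10a73c9) (.leaf (nat_lit 0x10a73c5) (nat_lit 1540))
 (.node (nat_lit 0x10a73cd) (.leaf (nat_lit 0x10a73c9) (nat_lit 1793))
 (.leaf (nat_lit 0x10a73cd) (nat_lit 1793))
)))) (.node (nat_lit 0x10c1049) (.node (nat_lit 0x10a73dd) (.node (nat_lit 0x10a73d5) (.leaf (nat_lit 0x10a73d1) (nat_lit 2049))
 (.node (nat_lit 0x10a73d9) (.leaf (nat_lit 0x10a73d5) (nat_lit 2052))
 (.leaf (nat_lit 0x10a73d9) (nat_lit 1796))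
)) (.node (nat_lit 0x10c1041) (.leaf (nat_lit 0x10a73dd) (nat_lit 1540))
 (.node (nat_lit 0x10c1045) (.leaf (nat_lit 0x10c1041) (nat_lit 259))
 (.leaf (nat_lit 0x10c1045) (nat_lit 515))
))) (.node (nat_lit 0x10c1055) (.node (nat_lit 0x10c104d) (.leaf (nat_lit 0x10c1049) (nat_lit 1283))
 (.node (nat_lit 0x10c1051) (.leaf (nat_lit 0x10c104d) (nat_lit 1027))
 (.leaf (nat_lit 0x10c1051) (nat_lit 1794))
)) (.node (nat_lit 0x10c1059) (.leaf (nat_lit 0x10c1055) (nat_lit 2050))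
 (.node (nat_lit 0x10c105d) (.leaf (nat_lit 0x10c1059) (nat_lit 1282))
 (.leaf (nat_lit 0x10c105d) (nat_lit 1026))
))))) (.node (nat_lit 0x10c1151) (.node (nat_lit 0x10c10d9) (.node (nat_lit 0x10c10cd) (.node (nat_lit 0x10c10c5) (.leaf (nat_lit 0x10c10c1) (nat_lit 515))
 (.node (nat_lit 0x10c10c9) (.leaf (nat_lit 0x10c10c5) (nat_lit 771))
 (.leaf (nat_lit 0x10c10c9) (nat_lit 1539))
)) (.node (nat_lit 0x10c10d1) (.leaf (nat_lit 0x10c10cd) (nat_lit 1283))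
 (.node (nat_lit 0x10c10d5) (.leaf (nat_lit 0x10c10d1) (nat_lit 2050))
 (.leaf (nat_lit 0x10c10d5) (nat_lit 2306))
))) (.node (nat_lit 0x10c1145) (.node (nat_lit 0x10c10dd) (.leaf (nat_lit 0x10c10d9) (nat_lit 1538))
 (.node (nat_lit 0x10c1141) (.leaf (nat_lit 0x10c10dd) (nat_lit 1282))
 (.leaf (nat_lit 0x10c1141) (nat_lit 1283))
)) (.node (nat_lit 0x10c1149) (.leaf (nat_lit 0x10c1145) (nat_lit 1539))
 (.node (nat_lit 0x10c114d) (.leaf (nat_lit 0x10c1149) (nat_lit 1795))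
 (.leaf (nat_lit 0x10c114d) (nat_lit 1539))
)))) (.node (nat_lit 0x10c11c9) (.node (nat_lit 0x10c115d) (.node (nat_lit 0x10c1155) (.leaf (nat_lit 0x10c1151) (nat_lit 2306))
 (.node (nat_lit 0x10c1159) (.leaf (nat_lit 0x10c1155) (nat_lit 2562))
 (.leaf (nat_lit 0x10c1159) (nat_lit 2306))
)) (.node (nat_lit 0x10c11c1) (.leaf (nat_lit 0x10c115d) (nat_lit 2050))
 (.node (nat_lit 0x10c11c5) (.leaf (nat_lit 0x10c11c1) (nat_lit 1027))
 (.leaf (nat_lit 0x10c11c5) (nat_lit 1283))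
))) (.node (nat_lit 0x10c11d5) (.node (nat_lit 0x10c11cd) (.leaf (nat_lit 0x10c11c9) (nat_lit 1539))
 (.node (nat_lit 0x10c11d1) (.leaf (nat_lit 0x10c11cd) (nat_lit 1283))
 (.leaf (nat_lit 0x10c11d1) (nat_lit 2050))
)) (.node (nat_lit 0x10c11d9) (.leaf (nat_lit 0x10c11d5) (nat_lit 2306))
 (.node (nat_lit 0x10c11dd) (.leaf (nat_lit 0x10c11d9) (nat_lit 2050))
 (.leaf (nat_lit 0x10c11dd) (nat_lit 1794))
))))))) (.node (nat_lit 0x10c3141) (.node (nat_lit 0x10c13c1) (.node (nat_lit 0x10c12d1) (.node (nat_lit 0x10c1259) (.node (nat_lit 0x10c124d) (.node (nat_lit 0x10c1245) (.leaf (nat_lit 0x10c1241) (nat_lit 1794))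
 (.node (nat_lit 0x10c1249) (.leaf (nat_lit 0x10c1245) (nat_lit 2050))
 (.leaf (nat_lit 0x10c1249) (nat_lit 2306))
)) (.node (nat_lit 0x10c1251) (.leaf (nat_lit 0x10c124d) (nat_lit 2050))
 (.node (nat_lit 0x10c1255) (.leaf (nat_lit 0x10c1251) (nat_lit 2306))
 (.leaf (nat_lit 0x10c1255) (nat_lit 2562))
))) (.node (nat_lit 0x10c12c5) (.node (nat_lit 0x10c125d) (.leaf (nat_lit 0x10c1259) (nat_lit 2306))
 (.node (nat_lit 0x10c12c1) (.leaf (nat_lit 0x10c125d) (nat_lit 2050))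
 (.leaf (nat_lit 0x10c12c1) (nat_lit 2050))
)) (.node (nat_lit 0x10c12c9) (.leaf (nat_lit 0x10c12c5) (nat_lit 2306))
 (.node (nat_lit 0x10c12cd) (.leaf (nat_lit 0x10c12c9) (nat_lit 2562))
 (.leaf (nat_lit 0x10c12cd) (nat_lit 2306))
)))) (.node (nat_lit 0x10c1349) (.node (nat_lit 0x10c12dd) (.node (nat_lit 0x10c12d5) (.leaf (nat_lit 0x10c12d1) (nat_lit 2563))
 (.node (nat_lit 0x10c12d9) (.leaf (nat_lit 0x10c12d5) (nat_lit 2307))
 (.leaf (nat_lit 0x10c12d9) (nat_lit 2562))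
)) (.node (nat_lit 0x10c1341) (.leaf (nat_lit 0x10c12dd) (nat_lit 2306))
 (.node (nat_lit 0x10c1345) (.leaf (nat_lit 0x10c1341) (nat_lit 1282))
 (.leaf (nat_lit 0x10c1345) (nat_lit 1538))
))) (.node (nat_lit 0x10c1355) (.node (nat_lit 0x10c134d) (.leaf (nat_lit 0x10c1349) (nat_lit 2306))
 (.node (nat_lit 0x10c1351) (.leaf (nat_lit 0x10c134d) (nat_lit 2050))
 (.leaf (nat_lit 0x10c1351) (nat_lit 2306))
)) (.node (nat_lit 0x10c1359) (.leaf (nat_lit 0x10c1355) (nat_lit 2562))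
 (.node (nat_lit 0x10c135d) (.leaf (nat_lit 0x10c1359) (nat_lit 1794))
 (.leaf (nat_lit 0x10c135d) (nat_lit 1538))
))))) (.node (nat_lit 0x10c3051) (.node (nat_lit 0x10c13d9) (.node (nat_lit 0x10c13cd) (.node (nat_lit 0x10c13c5) (.leaf (nat_lit 0x10c13c1) (nat_lit 1026))
 (.node (nat_lit 0x10c13c9) (.leaf (nat_lit 0x10c13c5) (nat_lit 1282))
 (.leaf (nat_lit 0x10c13c9) (nat_lit 2050))
)) (.node (nat_lit 0x10c13d1) (.leaf (nat_lit 0x10c13cd) (nat_lit 1794))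
 (.node (nat_lit 0x10c13d5) (.leaf (nat_lit 0x10c13d1) (nat_lit 2050))
 (.leaf (nat_lit 0x10c13d5) (nat_lit 2306))
))) (.node (nat_lit 0x10c3045) (.node (nat_lit 0x10c13dd) (.leaf (nat_lit 0x10c13d9) (nat_lit 1538))
 (.node (nat_lit 0x10c3041) (.leaf (nat_lit 0x10c13dd) (nat_lit 1282))
 (.leaf (nat_lit 0x10c3041) (nat_lit 515))
)) (.node (nat_lit 0x10c3049) (.leaf (nat_lit 0x10c3045) (nat_lit 771))
 (.node (nat_lit 0x10c304d) (.leaf (nat_lit 0x10c3049) (nat_lit 1027))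
 (.leaf (nat_lit 0x10c304d) (nat_lit 771))
)))) (.node (nat_lit 0x10c30c9) (.node (nat_lit 0x10c305d) (.node (nat_lit 0x10c3055) (.leaf (nat_lit 0x10c3051) (nat_lit 1538))
 (.node (nat_lit 0x10c3059) (.leaf (nat_lit 0x10c3055) (nat_lit 1282))
 (.leaf (nat_lit 0x10c3059) (nat_lit 1538))
)) (.node (nat_lit 0x10c30c1) (.leaf (nat_lit 0x10c305d) (nat_lit 1794))
 (.node (nat_lit 0x10c30c5) (.leaf (nat_lit 0x10c30c1) (nat_lit 771))
 (.leaf (nat_lit 0x10c30c5) (nat_lit 1027))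
))) (.node (nat_lit 0x10c30d5) (.node (nat_lit 0x10c30cd) (.leaf (nat_lit 0x10c30c9) (nat_lit 1283))
 (.node (nat_lit 0x10c30d1) (.leaf (nat_lit 0x10c30cd) (nat_lit 1027))
 (.leaf (nat_lit 0x10c30d1) (nat_lit 1794))
)) (.node (nat_lit 0x10c30d9) (.leaf (nat_lit 0x10c30d5) (nat_lit 1538))
 (.node (nat_lit 0x10c30dd) (.leaf (nat_lit 0x10c30d9) (nat_lit 1794))
 (.leaf (nat_lit 0x10c30dd) (nat_lit 2050))
)))))) (.node (nat_lit 0x10c32c1) (.node (nat_lit 0x10c31d1) (.node (nat_lit 0x10c3159) (.node (nat_lit 0x10c314d) (.node (nat_lit 0x10c3145) (.leaf (nat_lit 0x10c3141) (nat_lit 1027))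
 (.node (nat_lit 0x10c3149) (.leaf (nat_lit 0x10c3145) (nat_lit 1283))
 (.leaf (nat_lit 0x10c3149) (nat_lit 1539))
)) (.node (nat_lit 0x10c3151) (.leaf (nat_lit 0x10c314d) (nat_lit 1283))
 (.node (nat_lit 0x10c3155) (.leaf (nat_lit 0x10c3151) (nat_lit 2050))
 (.leaf (nat_lit 0x10c3155) (nat_lit 1794))
))) (.node (nat_lit 0x10c31c5) (.node (nat_lit 0x10c315d) (.leaf (nat_lit 0x10c3159) (nat_lit 2050))
 (.node (nat_lit 0x10c31c1) (.leaf (nat_lit 0x10c315d) (nat_lit 2306))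
 (.leaf (nat_lit 0x10c31c1) (nat_lit 771))
)) (.node (nat_lit 0x10c31c9) (.leaf (nat_lit 0x10c31c5) (nat_lit 1027))
 (.node (nat_lit 0x10c31cd) (.leaf (nat_lit 0x10c31c9) (nat_lit 1283))
 (.leaf (nat_lit 0x10c31cd) (nat_lit 1027))
)))) (.node (nat_lit 0x10c3249) (.node (nat_lit 0x10c31dd) (.node (nat_lit 0x10c31d5) (.leaf (nat_lit 0x10c31d1) (nat_lit 1794))
 (.node (nat_lit 0x10c31d9) (.leaf (nat_lit 0x10c31d5) (nat_lit 1538))
 (.leaf (nat_lit 0x10c31d9) (nat_lit 1794))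
)) (.node (nat_lit 0x10c3241) (.leaf (nat_lit 0x10c31dd) (nat_lit 2050))
 (.node (nat_lit 0x10c3245) (.leaf (nat_lit 0x10c3241) (nat_lit 1538))
 (.leaf (nat_lit 0x10c3245) (nat_lit 1794))
))) (.node (nat_lit 0x10c3255) (.node (nat_lit 0x10c324d) (.leaf (nat_lit 0x10c3249) (nat_lit 2050))
 (.node (nat_lit 0x10c3251) (.leaf (nat_lit 0x10c324d) (nat_lit 1794))
 (.leaf (nat_lit 0x10c3251) (nat_lit 2050))
)) (.node (nat_lit 0x10c3259) (.leaf (nat_lit 0x10c3255) (nat_lit 1794))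
 (.node (nat_lit 0x10c325d) (.leaf (nat_lit 0x10c3259) (nat_lit 2050))
 (.leaf (nat_lit 0x10c325d) (nat_lit 2306))
))))) (.node (nat_lit 0x10c3351) (.node (nat_lit 0x10c32d9) (.node (nat_lit 0x10c32cd) (.node (nat_lit 0x10c32c5) (.leaf (nat_lit 0x10c32c1) (nat_lit 1282))
 (.node (nat_lit 0x10c32c9) (.leaf (nat_lit 0x10c32c5) (nat_lit 1538))
 (.leaf (nat_lit 0x10c32c9) (nat_lit 1794))
)) (.node (nat_lit 0x10c32d1) (.leaf (nat_lit 0x10c32cd) (nat_lit 1538))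
 (.node (nat_lit 0x10c32d5) (.leaf (nat_lit 0x10c32d1) (nat_lit 1794))
 (.leaf (nat_lit 0x10c32d5) (nat_lit 1538))
))) (.node (nat_lit 0x10c3345) (.node (nat_lit 0x10c32dd) (.leaf (nat_lit 0x10c32d9) (nat_lit 1794))
 (.node (nat_lit 0x10c3341) (.leaf (nat_lit 0x10c32dd) (nat_lit 2050))
 (.leaf (nat_lit 0x10c3341) (nat_lit 1538))
)) (.node (nat_lit 0x10c3349) (.leaf (nat_lit 0x10c3345) (nat_lit 1794))
 (.node (nat_lit 0x10c334d) (.leaf (nat_lit 0x10c3349) (nat_lit 2050))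
 (.leaf (nat_lit 0x10c334d) (nat_lit 1794))
)))) (.node (nat_lit 0x10c33c9) (.node (nat_lit 0x10c335d) (.node (nat_lit 0x10c3355) (.leaf (nat_lit 0x10c3351) (nat_lit 2050))
 (.node (nat_lit 0x10c3359) (.leaf (nat_lit 0x10c3355) (nat_lit 1794))
 (.leaf (nat_lit 0x10c3359) (nat_lit 2050))
)) (.node (nat_lit 0x10c33c1) (.leaf (nat_lit 0x10c335d) (nat_lit 2306))
 (.node (nat_lit 0x10c33c5) (.leaf (nat_lit 0x10c33c1) (nat_lit 1794))
 (.leaf (nat_lit 0x10c33c5) (nat_lit 2050))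
))) (.node (nat_lit 0x10c33d5) (.node (nat_lit 0x10c33cd) (.leaf (nat_lit 0x10c33c9) (nat_lit 2306))
 (.node (nat_lit 0x10c33d1) (.leaf (nat_lit 0x10c33cd) (nat_lit 2050))
 (.leaf (nat_lit 0x10c33d1) (nat_lit 2306))
)) (.node (nat_lit 0x10c33d9) (.leaf (nat_lit 0x10c33d5) (nat_lit 2050))
 (.node (nat_lit 0x10c33dd) (.leaf (nat_lit 0x10c33d9) (nat_lit 2307))
 (.leaf (nat_lit 0x10c33dd) (nat_lit 2051))
))))))))) (.node (nat_lit 0x10e2041) (.node (nat_lit 0x10c7241) (.node (nat_lit 0x10c5341) (.node (nat_lit 0x10c51c1) (.node (nat_lit 0x10c50d1) (.node (nat_lit 0x10c5059) (.node (nat_lit 0x10c504d) (.node (nat_lit 0x10c5045) (.leaf (nat_lit 0x10c5041) (nat_lit 770))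
 (.node (nat_lit 0x10c5049) (.leaf (nat_lit 0x10c5045) (nat_lit 1026))
 (.leaf (nat_lit 0x10c5049) (nat_lit 1282))
)) (.node (nat_lit 0x10c5051) (.leaf (nat_lit 0x10c504d) (nat_lit 1026))
 (.node (nat_lit 0x10c5055) (.leaf (nat_lit 0x10c5051) (nat_lit 1280))
 (.leaf (nat_lit 0x10c5055) (nat_lit 1024))
))) (.node (nat_lit 0x10c50c5) (.node (nat_lit 0x10c505d) (.leaf (nat_lit 0x10c5059) (nat_lit 1280))
 (.node (nat_lit 0x10c50c1) (.leaf (nat_lit 0x10c505d) (nat_lit 1536))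
 (.leaf (nat_lit 0x10c50c1) (nat_lit 1026))
)) (.node (nat_lit 0x10c50c9) (.leaf (nat_lit 0x10c50c5) (nat_lit 1282))
 (.node (nat_lit 0x10c50cd) (.leaf (nat_lit 0x10c50c9) (nat_lit 1538))
 (.leaf (nat_lit 0x10c50cd) (nat_lit 1282))
)))) (.node (nat_lit 0x10c5149) (.node (nat_lit 0x10c50dd) (.node (nat_lit 0x10c50d5) (.leaf (nat_lit 0x10c50d1) (nat_lit 1536))
 (.node (nat_lit 0x10c50d9) (.leaf (nat_lit 0x10c50d5) (nat_lit 1280))
 (.leaf (nat_lit 0x10c50d9) (nat_lit 1536))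
)) (.node (nat_lit 0x10c5141) (.leaf (nat_lit 0x10c50dd) (nat_lit 1792))
 (.node (nat_lit 0x10c5145) (.leaf (nat_lit 0x10c5141) (nat_lit 1282))
 (.leaf (nat_lit 0x10c5145) (nat_lit 1538))
))) (.node (nat_lit 0x10c5155) (.node (nat_lit 0x10c514d) (.leaf (nat_lit 0x10c5149) (nat_lit 1794))
 (.node (nat_lit 0x10c5151) (.leaf (nat_lit 0x10c514d) (nat_lit 1538))
 (.leaf (nat_lit 0x10c5151) (nat_lit 1792))
)) (.node (nat_lit 0x10c5159) (.leaf (nat_lit 0x10c5155) (nat_lit 1536))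
 (.node (nat_lit 0x10c515d) (.leaf (nat_lit 0x10c5159) (nat_lit 1792))
 (.leaf (nat_lit 0x10c515d) (nat_lit 2048))
))))) (.node (nat_lit 0x10c5251) (.node (nat_lit 0x10c51d9) (.node (nat_lit 0x10c51cd) (.node (nat_lit 0x10c51c5) (.leaf (nat_lit 0x10c51c1) (nat_lit 1026))
 (.node (nat_lit 0x10c51c9) (.leaf (nat_lit 0x10c51c5) (nat_lit 1282))
 (.leaf (nat_lit 0x10c51c9) (nat_lit 1538))
)) (.node (nat_lit 0x10c51d1) (.leaf (nat_lit 0x10c51cd) (nat_lit 1282))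
 (.node (nat_lit 0x10c51d5) (.leaf (nat_lit 0x10c51d1) (nat_lit 1536))
 (.leaf (nat_lit 0x10c51d5) (nat_lit 1280))
))) (.node (nat_lit 0x10c5245) (.node (nat_lit 0x10c51dd) (.leaf (nat_lit 0x10c51d9) (nat_lit 1536))
 (.node (nat_lit 0x10c5241) (.leaf (nat_lit 0x10c51dd) (nat_lit 1792))
 (.leaf (nat_lit 0x10c5241) (nat_lit 1281))
)) (.node (nat_lit 0x10c5249) (.leaf (nat_lit 0x10c5245) (nat_lit 1537))
 (.node (nat_lit 0x10c524d) (.leaf (nat_lit 0x10c5249) (nat_lit 1793))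
 (.leaf (nat_lit 0x10c524d) (nat_lit 1537))
)))) (.node (nat_lit 0x10c52c9) (.node (nat_lit 0x10c525d) (.node (nat_lit 0x10c5255) (.leaf (nat_lit 0x10c5251) (nat_lit 1793))
 (.node (nat_lit 0x10c5259) (.leaf (nat_lit 0x10c5255) (nat_lit 1537))
 (.leaf (nat_lit 0x10c5259) (nat_lit 1793))
)) (.node (nat_lit 0x10c52c1) (.leaf (nat_lit 0x10c525d) (nat_lit 2049))
 (.node (nat_lit 0x10c52c5) (.leaf (nat_lit 0x10c52c1) (nat_lit 1025))
 (.leaf (nat_lit 0x10c52c5) (nat_lit 1281))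
))) (.node (nat_lit 0x10c52d5) (.node (nat_lit 0x10c52cd) (.leaf (nat_lit 0x10c52c9) (nat_lit 1537))
 (.node (nat_lit 0x10c52d1) (.leaf (nat_lit 0x10c52cd) (nat_lit 1281))
 (.leaf (nat_lit 0x10c52d1) (nat_lit 1537))
)) (.node (nat_lit 0x10c52d9) (.leaf (nat_lit 0x10c52d5) (nat_lit 1281))
 (.node (nat_lit 0x10c52dd) (.leaf (nat_lit 0x10c52d9) (nat_lit 1537))
 (.leaf (nat_lit 0x10c52dd) (nat_lit 1793))
)))))) (.node (nat_lit 0x10c70c1) (.node (nat_lit 0x10c53d1) (.node (nat_lit 0x10c5359) (.node (nat_lit 0x10c534d) (.node (nat_lit 0x10c5345) (.leaf (nat_lit 0x10c5341) (nat_lit 1281))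
 (.node (nat_lit 0x10c5349) (.leaf (nat_lit 0x10c5345) (nat_lit 1537))
 (.leaf (nat_lit 0x10c5349) (nat_lit 1793))
)) (.node (nat_lit 0x10c5351) (.leaf (nat_lit 0x10c534d) (nat_lit 1537))
 (.node (nat_lit 0x10c5355) (.leaf (nat_lit 0x10c5351) (nat_lit 1793))
 (.leaf (nat_lit 0x10c5355) (nat_lit 1537))
))) (.node (nat_lit 0x10c53c5) (.node (nat_lit 0x10c535d) (.leaf (nat_lit 0x10c5359) (nat_lit 1793))
 (.node (nat_lit 0x10c53c1) (.leaf (nat_lit 0x10c535d) (nat_lit 2049))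
 (.leaf (nat_lit 0x10c53c1) (nat_lit 1537))
)) (.node (nat_lit 0x10c53c9) (.leaf (nat_lit 0x10c53c5) (nat_lit 1793))
 (.node (nat_lit 0x10c53cd) (.leaf (nat_lit 0x10c53c9) (nat_lit 2049))
 (.leaf (nat_lit 0x10c53cd) (nat_lit 1793))
)))) (.node (nat_lit 0x10c7049) (.node (nat_lit 0x10c53dd) (.node (nat_lit 0x10c53d5) (.leaf (nat_lit 0x10c53d1) (nat_lit 2049))
 (.node (nat_lit 0x10c53d9) (.leaf (nat_lit 0x10c53d5) (nat_lit 1793))
 (.leaf (nat_lit 0x10c53d9) (nat_lit 2051))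
)) (.node (nat_lit 0x10c7041) (.leaf (nat_lit 0x10c53dd) (nat_lit 1795))
 (.node (nat_lit 0x10c7045) (.leaf (nat_lit 0x10c7041) (nat_lit 514))
 (.leaf (nat_lit 0x10c7045) (nat_lit 770))
))) (.node (nat_lit 0x10c7055) (.node (nat_lit 0x10c704d) (.leaf (nat_lit 0x10c7049) (nat_lit 1538))
 (.node (nat_lit 0x10c7051) (.leaf (nat_lit 0x10c704d) (nat_lit 1282))
 (.leaf (nat_lit 0x10c7051) (nat_lit 1536))
)) (.node (nat_lit 0x10c7059) (.leaf (nat_lit 0x10c7055) (nat_lit 1792))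
 (.node (nat_lit 0x10c705d) (.leaf (nat_lit 0x10c7059) (nat_lit 1024))
 (.leaf (nat_lit 0x10c705d) (nat_lit 768))
))))) (.node (nat_lit 0x10c7151) (.node (nat_lit 0x10c70d9) (.node (nat_lit 0x10c70cd) (.node (nat_lit 0x10c70c5) (.leaf (nat_lit 0x10c70c1) (nat_lit 770))
 (.node (nat_lit 0x10c70c9) (.leaf (nat_lit 0x10c70c5) (nat_lit 1026))
 (.leaf (nat_lit 0x10c70c9) (nat_lit 1794))
)) (.node (nat_lit 0x10c70d1) (.leaf (nat_lit 0x10c70cd) (nat_lit 1538))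
 (.node (nat_lit 0x10c70d5) (.leaf (nat_lit 0x10c70d1) (nat_lit 1792))
 (.leaf (nat_lit 0x10c70d5) (nat_lit 2048))
))) (.node (nat_lit 0x10c7145) (.node (nat_lit 0x10c70dd) (.leaf (nat_lit 0x10c70d9) (nat_lit 1280))
 (.node (nat_lit 0x10c7141) (.leaf (nat_lit 0x10c70dd) (nat_lit 1024))
 (.leaf (nat_lit 0x10c7141) (nat_lit 1538))
)) (.node (nat_lit 0x10c7149) (.leaf (nat_lit 0x10c7145) (nat_lit 1794))
 (.node (nat_lit 0x10c714d) (.leaf (nat_lit 0x10c7149) (nat_lit 2050))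
 (.leaf (nat_lit 0x10c714d) (nat_lit 1794))
)))) (.node (nat_lit 0x10c71c9) (.node (nat_lit 0x10c715d) (.node (nat_lit 0x10c7155) (.leaf (nat_lit 0x10c7151) (nat_lit 2048))
 (.node (nat_lit 0x10c7159) (.leaf (nat_lit 0x10c7155) (nat_lit 2304))
 (.leaf (nat_lit 0x10c7159) (nat_lit 2048))
)) (.node (nat_lit 0x10c71c1) (.leaf (nat_lit 0x10c715d) (nat_lit 1792))
 (.node (nat_lit 0x10c71c5) (.leaf (nat_lit 0x10c71c1) (nat_lit 1282))
 (.leaf (nat_lit 0x10c71c5) (nat_lit 1538))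
))) (.node (nat_lit 0x10c71d5) (.node (nat_lit 0x10c71cd) (.leaf (nat_lit 0x10c71c9) (nat_lit 1794))
 (.node (nat_lit 0x10c71d1) (.leaf (nat_lit 0x10c71cd) (nat_lit 1538))
 (.leaf (nat_lit 0x10c71d1) (nat_lit 1792))
)) (.node (nat_lit 0x10c71d9) (.leaf (nat_lit 0x10c71d5) (nat_lit 2048))
 (.node (nat_lit 0x10c71dd) (.leaf (nat_lit 0x10c71d9) (nat_lit 1792))
 (.leaf (nat_lit 0x10c71dd) (nat_lit 1536))
))))))) (.node (nat_lit 0x10e1141) (.node (nat_lit 0x10c73c1) (.node (nat_lit 0x10c72d1) (.node (nat_lit 0x10c7259) (.node (nat_lit 0x10c724d) (.node (nat_lit 0x10c7245) (.leaf (nat_lit 0x10c7241) (nat_lit 1537))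
 (.node (nat_lit 0x10c7249) (.leaf (nat_lit 0x10c7245) (nat_lit 1793))
 (.leaf (nat_lit 0x10c7249) (nat_lit 2049))
)) (.node (nat_lit 0x10c7251) (.leaf (nat_lit 0x10c724d) (nat_lit 1793))
 (.node (nat_lit 0x10c7255) (.leaf (nat_lit 0x10c7251) (nat_lit 2049))
 (.leaf (nat_lit 0x10c7255) (nat_lit 2305))
))) (.node (nat_lit 0x10c72c5) (.node (nat_lit 0x10c725d) (.leaf (nat_lit 0x10c7259) (nat_lit 2049))
 (.node (nat_lit 0x10c72c1) (.leaf (nat_lit 0x10c725d) (nat_lit 1793))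
 (.leaf (nat_lit 0x10c72c1) (nat_lit 1793))
)) (.node (nat_lit 0x10c72c9) (.leaf (nat_lit 0x10c72c5) (nat_lit 2049))
 (.node (nat_lit 0x10c72cd) (.leaf (nat_lit 0x10c72c9) (nat_lit 2305))
 (.leaf (nat_lit 0x10c72cd) (nat_lit 2049))
)))) (.node (nat_lit 0x10c7349) (.node (nat_lit 0x10c72dd) (.node (nat_lit 0x10c72d5) (.leaf (nat_lit 0x10c72d1) (nat_lit 2307))
 (.node (nat_lit 0x10c72d9) (.leaf (nat_lit 0x10c72d5) (nat_lit 2051))
 (.leaf (nat_lit 0x10c72d9) (nat_lit 2305))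
)) (.node (nat_lit 0x10c7341) (.leaf (nat_lit 0x10c72dd) (nat_lit 2049))
 (.node (nat_lit 0x10c7345) (.leaf (nat_lit 0x10c7341) (nat_lit 1025))
 (.leaf (nat_lit 0x10c7345) (nat_lit 1281))
))) (.node (nat_lit 0x10c7355) (.node (nat_lit 0x10c734d) (.leaf (nat_lit 0x10c7349) (nat_lit 2049))
 (.node (nat_lit 0x10c7351) (.leaf (nat_lit 0x10c734d) (nat_lit 1793))
 (.leaf (nat_lit 0x10c7351) (nat_lit 2049))
)) (.node (nat_lit 0x10c7359) (.leaf (nat_lit 0x10c7355) (nat_lit 2305))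
 (.node (nat_lit 0x10c735d) (.leaf (nat_lit 0x10c7359) (nat_lit 1537))
 (.leaf (nat_lit 0x10c735d) (nat_lit 1281))
))))) (.node (nat_lit 0x10e1051) (.node (nat_lit 0x10c73d9) (.node (nat_lit 0x10c73cd) (.node (nat_lit 0x10c73c5) (.leaf (nat_lit 0x10c73c1) (nat_lit 769))
 (.node (nat_lit 0x10c73c9) (.leaf (nat_lit 0x10c73c5) (nat_lit 1025))
 (.leaf (nat_lit 0x10c73c9) (nat_lit 1793))
)) (.node (nat_lit 0x10c73d1) (.leaf (nat_lit 0x10c73cd) (nat_lit 1537))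
 (.node (nat_lit 0x10c73d5) (.leaf (nat_lit 0x10c73d1) (nat_lit 1793))
 (.leaf (nat_lit 0x10c73d5) (nat_lit 2049))
))) (.node (nat_lit 0x10e1045) (.node (nat_lit 0x10c73dd) (.leaf (nat_lit 0x10c73d9) (nat_lit 1281))
 (.node (nat_lit 0x10e1041) (.leaf (nat_lit 0x10c73dd) (nat_lit 1025))
 (.leaf (nat_lit 0x10e1041) (nat_lit 516))
)) (.node (nat_lit 0x10e1049) (.leaf (nat_lit 0x10e1045) (nat_lit 772))
 (.node (nat_lit 0x10e104d) (.leaf (nat_lit 0x10e1049) (nat_lit 1283))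
 (.leaf (nat_lit 0x10e104d) (nat_lit 1284))
)))) (.node (nat_lit 0x10e10c9) (.node (nat_lit 0x10e105d) (.node (nat_lit 0x10e1055) (.leaf (nat_lit 0x10e1051) (nat_lit 2052))
 (.node (nat_lit 0x10e1059) (.leaf (nat_lit 0x10e1055) (nat_lit 2050))
 (.leaf (nat_lit 0x10e1059) (nat_lit 1282))
)) (.node (nat_lit 0x10e10c1) (.leaf (nat_lit 0x10e105d) (nat_lit 1284))
 (.node (nat_lit 0x10e10c5) (.leaf (nat_lit 0x10e10c1) (nat_lit 772))
 (.leaf (nat_lit 0x10e10c5) (nat_lit 1028))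
))) (.node (nat_lit 0x10e10d5) (.node (nat_lit 0x10e10cd) (.leaf (nat_lit 0x10e10c9) (nat_lit 1539))
 (.node (nat_lit 0x10e10d1) (.leaf (nat_lit 0x10e10cd) (nat_lit 1540))
 (.leaf (nat_lit 0x10e10d1) (nat_lit 2308))
)) (.node (nat_lit 0x10e10d9) (.leaf (nat_lit 0x10e10d5) (nat_lit 2306))
 (.node (nat_lit 0x10e10dd) (.leaf (nat_lit 0x10e10d9) (nat_lit 1538))
 (.leaf (nat_lit 0x10e10dd) (nat_lit 1540))
)))))) (.node (nat_lit 0x10e12c1) (.node (nat_lit 0x10e11d1) (.node (nat_lit 0x10e1159) (.node (nat_lit 0x10e114d) (.node (nat_lit 0x10e1145) (.leaf (nat_lit 0x10e1141) (nat_lit 1283))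
 (.node (nat_lit 0x10e1149) (.leaf (nat_lit 0x10e1145) (nat_lit 1539))
 (.leaf (nat_lit 0x10e1149) (nat_lit 1539))
)) (.node (nat_lit 0x10e1151) (.leaf (nat_lit 0x10e114d) (nat_lit 1795))
 (.node (nat_lit 0x10e1155) (.leaf (nat_lit 0x10e1151) (nat_lit 2306))
 (.leaf (nat_lit 0x10e1155) (nat_lit 2562))
))) (.node (nat_lit 0x10e11c5) (.node (nat_lit 0x10e115d) (.leaf (nat_lit 0x10e1159) (nat_lit 2050))
 (.node (nat_lit 0x10e11c1) (.leaf (nat_lit 0x10e115d) (nat_lit 2306))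
 (.leaf (nat_lit 0x10e11c1) (nat_lit 1284))
)) (.node (nat_lit 0x10e11c9) (.leaf (nat_lit 0x10e11c5) (nat_lit 1540))
 (.node (nat_lit 0x10e11cd) (.leaf (nat_lit 0x10e11c9) (nat_lit 1796))
 (.leaf (nat_lit 0x10e11cd) (nat_lit 1540))
)))) (.node (nat_lit 0x10e1249) (.node (nat_lit 0x10e11dd) (.node (nat_lit 0x10e11d5) (.leaf (nat_lit 0x10e11d1) (nat_lit 2308))
 (.node (nat_lit 0x10e11d9) (.leaf (nat_lit 0x10e11d5) (nat_lit 2306))
 (.leaf (nat_lit 0x10e11d9) (nat_lit 2050))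
)) (.node (nat_lit 0x10e1241) (.leaf (nat_lit 0x10e11dd) (nat_lit 2052))
 (.node (nat_lit 0x10e1245) (.leaf (nat_lit 0x10e1241) (nat_lit 2052))
 (.leaf (nat_lit 0x10e1245) (nat_lit 2308))
))) (.node (nat_lit 0x10e1255) (.node (nat_lit 0x10e124d) (.leaf (nat_lit 0x10e1249) (nat_lit 2306))
 (.node (nat_lit 0x10e1251) (.leaf (nat_lit 0x10e124d) (nat_lit 2308))
 (.leaf (nat_lit 0x10e1251) (nat_lit 2564))
)) (.node (nat_lit 0x10e1259) (.leaf (nat_lit 0x10e1255) (nat_lit 2562))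
 (.node (nat_lit 0x10e125d) (.leaf (nat_lit 0x10e1259) (nat_lit 2306))
 (.leaf (nat_lit 0x10e125d) (nat_lit 2308))
))))) (.node (nat_lit 0x10e1351) (.node (nat_lit 0x10e12d9) (.node (nat_lit 0x10e12cd) (.node (nat_lit 0x10e12c5) (.leaf (nat_lit 0x10e12c1) (nat_lit 2050))
 (.node (nat_lit 0x10e12c9) (.leaf (nat_lit 0x10e12c5) (nat_lit 2306))
 (.leaf (nat_lit 0x10e12c9) (nat_lit 2562))
)) (.node (nat_lit 0x10e12d1) (.leaf (nat_lit 0x10e12cd) (nat_lit 2306))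
 (.node (nat_lit 0x10e12d5) (.leaf (nat_lit 0x10e12d1) (nat_lit 2562))
 (.leaf (nat_lit 0x10e12d5) (nat_lit 2306))
))) (.node (nat_lit 0x10e1345) (.node (nat_lit 0x10e12dd) (.leaf (nat_lit 0x10e12d9) (nat_lit 2306))
 (.node (nat_lit 0x10e1341) (.leaf (nat_lit 0x10e12dd) (nat_lit 2562))
 (.leaf (nat_lit 0x10e1341) (nat_lit 1282))
)) (.node (nat_lit 0x10e1349) (.leaf (nat_lit 0x10e1345) (nat_lit 1538))
 (.node (nat_lit 0x10e134d) (.leaf (nat_lit 0x10e1349) (nat_lit 2050))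
 (.leaf (nat_lit 0x10e134d) (nat_lit 2050))
)))) (.node (nat_lit 0x10e13c9) (.node (nat_lit 0x10e135d) (.node (nat_lit 0x10e1355) (.leaf (nat_lit 0x10e1351) (nat_lit 2306))
 (.node (nat_lit 0x10e1359) (.leaf (nat_lit 0x10e1355) (nat_lit 2306))
 (.leaf (nat_lit 0x10e1359) (nat_lit 1538))
)) (.node (nat_lit 0x10e13c1) (.leaf (nat_lit 0x10e135d) (nat_lit 1794))
 (.node (nat_lit 0x10e13c5) (.leaf (nat_lit 0x10e13c1) (nat_lit 1284))
 (.leaf (nat_lit 0x10e13c5) (nat_lit 1540))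
))) (.node (nat_lit 0x10e13d5) (.node (nat_lit 0x10e13cd) (.leaf (nat_lit 0x10e13c9) (nat_lit 2308))
 (.node (nat_lit 0x10e13d1) (.leaf (nat_lit 0x10e13cd) (nat_lit 2052))
 (.leaf (nat_lit 0x10e13d1) (nat_lit 2308))
)) (.node (nat_lit 0x10e13d9) (.leaf (nat_lit 0x10e13d5) (nat_lit 2564))
 (.node (nat_lit 0x10e13dd) (.leaf (nat_lit 0x10e13d9) (nat_lit 1796))
 (.leaf (nat_lit 0x10e13dd) (nat_lit 1540))
)))))))) (.node (nat_lit 0x10e5241) (.node (nat_lit 0x10e2341) (.node (nat_lit 0x10e21c1) (.node (nat_lit 0x10e20d1) (.node (nat_lit 0x10e2059) (.node (nat_lit 0x10e204d) (.node (nat_lit 0x10e2045) (.leaf (nat_lit 0x10e2041) (nat_lit 771))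
 (.node (nat_lit 0x10e2049) (.leaf (nat_lit 0x10e2045) (nat_lit 1027))
 (.leaf (nat_lit 0x10e2049) (nat_lit 1027))
)) (.node (nat_lit 0x10e2051) (.leaf (nat_lit 0x10e204d) (nat_lit 1283))
 (.node (nat_lit 0x10e2055) (.leaf (nat_lit 0x10e2051) (nat_lit 1794))
 (.leaf (nat_lit 0x10e2055) (nat_lit 1538))
))) (.node (nat_lit 0x10e20c5) (.node (nat_lit 0x10e205d) (.leaf (nat_lit 0x10e2059) (nat_lit 2050))
 (.node (nat_lit 0x10e20c1) (.leaf (nat_lit 0x10e205d) (nat_lit 1794))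
 (.leaf (nat_lit 0x10e20c1) (nat_lit 1027))
)) (.node (nat_lit 0x10e20c9) (.leaf (nat_lit 0x10e20c5) (nat_lit 1283))
 (.node (nat_lit 0x10e20cd) (.leaf (nat_lit 0x10e20c9) (nat_lit 1283))
 (.leaf (nat_lit 0x10e20cd) (nat_lit 1539))
)))) (.node (nat_lit 0x10e2149) (.node (nat_lit 0x10e20dd) (.node (nat_lit 0x10e20d5) (.leaf (nat_lit 0x10e20d1) (nat_lit 2050))
 (.node (nat_lit 0x10e20d9) (.leaf (nat_lit 0x10e20d5) (nat_lit 1794))
 (.leaf (nat_lit 0x10e20d9) (nat_lit 2306))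
)) (.node (nat_lit 0x10e2141) (.leaf (nat_lit 0x10e20dd) (nat_lit 2050))
 (.node (nat_lit 0x10e2145) (.leaf (nat_lit 0x10e2141) (nat_lit 1027))
 (.leaf (nat_lit 0x10e2145) (nat_lit 1283))
))) (.node (nat_lit 0x10e2155) (.node (nat_lit 0x10e214d) (.leaf (nat_lit 0x10e2149) (nat_lit 1283))
 (.node (nat_lit 0x10e2151) (.leaf (nat_lit 0x10e214d) (nat_lit 1539))
 (.leaf (nat_lit 0x10e2151) (nat_lit 2050))
)) (.node (nat_lit 0x10e2159) (.leaf (nat_lit 0x10e2155) (nat_lit 1794))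
 (.node (nat_lit 0x10e215d) (.leaf (nat_lit 0x10e2159) (nat_lit 2305))
 (.leaf (nat_lit 0x10e215d) (nat_lit 2049))
))))) (.node (nat_lit 0x10e2251) (.node (nat_lit 0x10e21d9) (.node (nat_lit 0x10e21cd) (.node (nat_lit 0x10e21c5) (.leaf (nat_lit 0x10e21c1) (nat_lit 1283))
 (.node (nat_lit 0x10e21c9) (.leaf (nat_lit 0x10e21c5) (nat_lit 1539))
 (.leaf (nat_lit 0x10e21c9) (nat_lit 1539))
)) (.node (nat_lit 0x10e21d1) (.leaf (nat_lit 0x10e21cd) (nat_lit 1795))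
 (.node (nat_lit 0x10e21d5) (.leaf (nat_lit 0x10e21d1) (nat_lit 2306))
 (.leaf (nat_lit 0x10e21d5) (nat_lit 2050))
))) (.node (nat_lit 0x10e2245) (.node (nat_lit 0x10e21dd) (.leaf (nat_lit 0x10e21d9) (nat_lit 2306))
 (.node (nat_lit 0x10e2241) (.leaf (nat_lit 0x10e21dd) (nat_lit 2305))
 (.leaf (nat_lit 0x10e2241) (nat_lit 1794))
)) (.node (nat_lit 0x10e2249) (.leaf (nat_lit 0x10e2245) (nat_lit 2050))
 (.node (nat_lit 0x10e224d) (.leaf (nat_lit 0x10e2249) (nat_lit 2050))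
 (.leaf (nat_lit 0x10e224d) (nat_lit 2306))
)))) (.node (nat_lit 0x10e22c9) (.node (nat_lit 0x10e225d) (.node (nat_lit 0x10e2255) (.leaf (nat_lit 0x10e2251) (nat_lit 2306))
 (.node (nat_lit 0x10e2259) (.leaf (nat_lit 0x10e2255) (nat_lit 2050))
 (.leaf (nat_lit 0x10e2259) (nat_lit 2562))
)) (.node (nat_lit 0x10e22c1) (.leaf (nat_lit 0x10e225d) (nat_lit 2306))
 (.node (nat_lit 0x10e22c5) (.leaf (nat_lit 0x10e22c1) (nat_lit 1538))
 (.leaf (nat_lit 0x10e22c5) (nat_lit 1794))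
))) (.node (nat_lit 0x10e22d5) (.node (nat_lit 0x10e22cd) (.leaf (nat_lit 0x10e22c9) (nat_lit 1794))
 (.node (nat_lit 0x10e22d1) (.leaf (nat_lit 0x10e22cd) (nat_lit 2050))
 (.leaf (nat_lit 0x10e22d1) (nat_lit 2050))
)) (.node (nat_lit 0x10e22d9) (.leaf (nat_lit 0x10e22d5) (nat_lit 1794))
 (.node (nat_lit 0x10e22dd) (.leaf (nat_lit 0x10e22d9) (nat_lit 2306))
 (.leaf (nat_lit 0x10e22dd) (nat_lit 2050))
)))))) (.node (nat_lit 0x10e50c1) (.node (nat_lit 0x10e23d1) (.node (nat_lit 0x10e2359) (.node (nat_lit 0x10e234d) (.node (nat_lit 0x10e2345) (.leaf (nat_lit 0x10e2341) (nat_lit 2050))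
 (.node (nat_lit 0x10e2349) (.leaf (nat_lit 0x10e2345) (nat_lit 2306))
 (.leaf (nat_lit 0x10e2349) (nat_lit 2304))
)) (.node (nat_lit 0x10e2351) (.leaf (nat_lit 0x10e234d) (nat_lit 2306))
 (.node (nat_lit 0x10e2355) (.leaf (nat_lit 0x10e2351) (nat_lit 2562))
 (.leaf (nat_lit 0x10e2355) (nat_lit 2306))
))) (.node (nat_lit 0x10e23c5) (.node (nat_lit 0x10e235d) (.leaf (nat_lit 0x10e2359) (nat_lit 2307))
 (.node (nat_lit 0x10e23c1) (.leaf (nat_lit 0x10e235d) (nat_lit 2306))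
 (.leaf (nat_lit 0x10e23c1) (nat_lit 1794))
)) (.node (nat_lit 0x10e23c9) (.leaf (nat_lit 0x10e23c5) (nat_lit 2050))
 (.node (nat_lit 0x10e23cd) (.leaf (nat_lit 0x10e23c9) (nat_lit 2048))
 (.leaf (nat_lit 0x10e23cd) (nat_lit 2304))
)))) (.node (nat_lit 0x10e5049) (.node (nat_lit 0x10e23dd) (.node (nat_lit 0x10e23d5) (.leaf (nat_lit 0x10e23d1) (nat_lit 2306))
 (.node (nat_lit 0x10e23d9) (.leaf (nat_lit 0x10e23d5) (nat_lit 2050))
 (.leaf (nat_lit 0x10e23d9) (nat_lit 2306))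
)) (.node (nat_lit 0x10e5041) (.leaf (nat_lit 0x10e23dd) (nat_lit 2050))
 (.node (nat_lit 0x10e5045) (.leaf (nat_lit 0x10e5041) (nat_lit 1026))
 (.leaf (nat_lit 0x10e5045) (nat_lit 1282))
))) (.node (nat_lit 0x10e5055) (.node (nat_lit 0x10e504d) (.leaf (nat_lit 0x10e5049) (nat_lit 1282))
 (.node (nat_lit 0x10e5051) (.leaf (nat_lit 0x10e504d) (nat_lit 1538))
 (.leaf (nat_lit 0x10e5051) (nat_lit 1536))
)) (.node (nat_lit 0x10e5059) (.leaf (nat_lit 0x10e5055) (nat_lit 1280))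
 (.node (nat_lit 0x10e505d) (.leaf (nat_lit 0x10e5059) (nat_lit 1796))
 (.leaf (nat_lit 0x10e505d) (nat_lit 1540))
))))) (.node (nat_lit 0x10e5151) (.node (nat_lit 0x10e50d9) (.node (nat_lit 0x10e50cd) (.node (nat_lit 0x10e50c5) (.leaf (nat_lit 0x10e50c1) (nat_lit 1282))
 (.node (nat_lit 0x10e50c9) (.leaf (nat_lit 0x10e50c5) (nat_lit 1538))
 (.leaf (nat_lit 0x10e50c9) (nat_lit 1538))
)) (.node (nat_lit 0x10e50d1) (.leaf (nat_lit 0x10e50cd) (nat_lit 1794))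
 (.node (nat_lit 0x10e50d5) (.leaf (nat_lit 0x10e50d1) (nat_lit 1792))
 (.leaf (nat_lit 0x10e50d5) (nat_lit 1536))
))) (.node (nat_lit 0x10e5145) (.node (nat_lit 0x10e50dd) (.leaf (nat_lit 0x10e50d9) (nat_lit 2052))
 (.node (nat_lit 0x10e5141) (.leaf (nat_lit 0x10e50dd) (nat_lit 1796))
 (.leaf (nat_lit 0x10e5141) (nat_lit 1282))
)) (.node (nat_lit 0x10e5149) (.leaf (nat_lit 0x10e5145) (nat_lit 1538))
 (.node (nat_lit 0x10e514d) (.leaf (nat_lit 0x10e5149) (nat_lit 1538))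
 (.leaf (nat_lit 0x10e514d) (nat_lit 1794))
)))) (.node (nat_lit 0x10e51c9) (.node (nat_lit 0x10e515d) (.node (nat_lit 0x10e5155) (.leaf (nat_lit 0x10e5151) (nat_lit 1792))
 (.node (nat_lit 0x10e5159) (.leaf (nat_lit 0x10e5155) (nat_lit 1536))
 (.leaf (nat_lit 0x10e5159) (nat_lit 2048))
)) (.node (nat_lit 0x10e51c1) (.leaf (nat_lit 0x10e515d) (nat_lit 1792))
 (.node (nat_lit 0x10e51c5) (.leaf (nat_lit 0x10e51c1) (nat_lit 1538))
 (.leaf (nat_lit 0x10e51c5) (nat_lit 1794))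
))) (.node (nat_lit 0x10e51d5) (.node (nat_lit 0x10e51cd) (.leaf (nat_lit 0x10e51c9) (nat_lit 1794))
 (.node (nat_lit 0x10e51d1) (.leaf (nat_lit 0x10e51cd) (nat_lit 1796))
 (.leaf (nat_lit 0x10e51d1) (nat_lit 2048))
)) (.node (nat_lit 0x10e51d9) (.leaf (nat_lit 0x10e51d5) (nat_lit 1792))
 (.node (nat_lit 0x10e51dd) (.leaf (nat_lit 0x10e51d9) (nat_lit 2052))
 (.leaf (nat_lit 0x10e51dd) (nat_lit 2048))
))))))) (.node (nat_lit 0x10e6141) (.node (nat_lit 0x10e53c1) (.node (nat_lit 0x10e52d1) (.node (nat_lit 0x10e5259) (.node (nat_lit 0x10e524d) (.node (nat_lit 0x10e5245) (.leaf (nat_lit 0x10e5241) (nat_lit 1537))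
 (.node (nat_lit 0x10e5249) (.leaf (nat_lit 0x10e5245) (nat_lit 1793))
 (.leaf (nat_lit 0x10e5249) (nat_lit 1793))
)) (.node (nat_lit 0x10e5251) (.leaf (nat_lit 0x10e524d) (nat_lit 2049))
 (.node (nat_lit 0x10e5255) (.leaf (nat_lit 0x10e5251) (nat_lit 2049))
 (.leaf (nat_lit 0x10e5255) (nat_lit 1793))
))) (.node (nat_lit 0x10e52c5) (.node (nat_lit 0x10e525d) (.leaf (nat_lit 0x10e5259) (nat_lit 2308))
 (.node (nat_lit 0x10e52c1) (.leaf (nat_lit 0x10e525d) (nat_lit 2052))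
 (.leaf (nat_lit 0x10e52c1) (nat_lit 1281))
)) (.node (nat_lit 0x10e52c9) (.leaf (nat_lit 0x10e52c5) (nat_lit 1537))
 (.node (nat_lit 0x10e52cd) (.leaf (nat_lit 0x10e52c9) (nat_lit 1537))
 (.leaf (nat_lit 0x10e52cd) (nat_lit 1793))
)))) (.node (nat_lit 0x10e5349) (.node (nat_lit 0x10e52dd) (.node (nat_lit 0x10e52d5) (.leaf (nat_lit 0x10e52d1) (nat_lit 1793))
 (.node (nat_lit 0x10e52d9) (.leaf (nat_lit 0x10e52d5) (nat_lit 1537))
 (.leaf (nat_lit 0x10e52d9) (nat_lit 2052))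
)) (.node (nat_lit 0x10e5341) (.leaf (nat_lit 0x10e52dd) (nat_lit 1796))
 (.node (nat_lit 0x10e5345) (.leaf (nat_lit 0x10e5341) (nat_lit 1796))
 (.leaf (nat_lit 0x10e5345) (nat_lit 2052))
))) (.node (nat_lit 0x10e5355) (.node (nat_lit 0x10e534d) (.leaf (nat_lit 0x10e5349) (nat_lit 2049))
 (.node (nat_lit 0x10e5351) (.leaf (nat_lit 0x10e534d) (nat_lit 2052))
 (.leaf (nat_lit 0x10e5351) (nat_lit 2308))
)) (.node (nat_lit 0x10e5359) (.leaf (nat_lit 0x10e5355) (nat_lit 2052))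
 (.node (nat_lit 0x10e535d) (.leaf (nat_lit 0x10e5359) (nat_lit 2051))
 (.leaf (nat_lit 0x10e535d) (nat_lit 2052))
))))) (.node (nat_lit 0x10e6051) (.node (nat_lit 0x10e53d9) (.node (nat_lit 0x10e53cd) (.node (nat_lit 0x10e53c5) (.leaf (nat_lit 0x10e53c1) (nat_lit 1540))
 (.node (nat_lit 0x10e53c9) (.leaf (nat_lit 0x10e53c5) (nat_lit 1796))
 (.leaf (nat_lit 0x10e53c9) (nat_lit 1793))
)) (.node (nat_lit 0x10e53d1) (.leaf (nat_lit 0x10e53cd) (nat_lit 2049))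
 (.node (nat_lit 0x10e53d5) (.leaf (nat_lit 0x10e53d1) (nat_lit 2052))
 (.leaf (nat_lit 0x10e53d5) (nat_lit 1796))
))) (.node (nat_lit 0x10e6045) (.node (nat_lit 0x10e53dd) (.leaf (nat_lit 0x10e53d9) (nat_lit 2052))
 (.node (nat_lit 0x10e6041) (.leaf (nat_lit 0x10e53dd) (nat_lit 1796))
 (.leaf (nat_lit 0x10e6041) (nat_lit 770))
)) (.node (nat_lit 0x10e6049) (.leaf (nat_lit 0x10e6045) (nat_lit 1026))
 (.node (nat_lit 0x10e604d) (.leaf (nat_lit 0x10e6049) (nat_lit 1538))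
 (.leaf (nat_lit 0x10e604d) (nat_lit 1538))
)))) (.node (nat_lit 0x10e60c9) (.node (nat_lit 0x10e605d) (.node (nat_lit 0x10e6055) (.leaf (nat_lit 0x10e6051) (nat_lit 1792))
 (.node (nat_lit 0x10e6059) (.leaf (nat_lit 0x10e6055) (nat_lit 1792))
 (.leaf (nat_lit 0x10e6059) (nat_lit 1024))
)) (.node (nat_lit 0x10e60c1) (.leaf (nat_lit 0x10e605d) (nat_lit 1280))
 (.node (nat_lit 0x10e60c5) (.leaf (nat_lit 0x10e60c1) (nat_lit 1026))
 (.leaf (nat_lit 0x10e60c5) (nat_lit 1282))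
))) (.node (nat_lit 0x10e60d5) (.node (nat_lit 0x10e60cd) (.leaf (nat_lit 0x10e60c9) (nat_lit 1794))
 (.node (nat_lit 0x10e60d1) (.leaf (nat_lit 0x10e60cd) (nat_lit 1794))
 (.leaf (nat_lit 0x10e60d1) (nat_lit 2048))
)) (.node (nat_lit 0x10e60d9) (.leaf (nat_lit 0x10e60d5) (nat_lit 2048))
 (.node (nat_lit 0x10e60dd) (.leaf (nat_lit 0x10e60d9) (nat_lit 1280))
 (.leaf (nat_lit 0x10e60dd) (nat_lit 1536))
)))))) (.node (nat_lit 0x10e62c1) (.node (nat_lit 0x10e61d1) (.node (nat_lit 0x10e6159) (.node (nat_lit 0x10e614d) (.node (nat_lit 0x10e6145) (.leaf (nat_lit 0x10e6141) (nat_lit 1538))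
 (.node (nat_lit 0x10e6149) (.leaf (nat_lit 0x10e6145) (nat_lit 1794))
 (.leaf (nat_lit 0x10e6149) (nat_lit 1794))
)) (.node (nat_lit 0x10e6151) (.leaf (nat_lit 0x10e614d) (nat_lit 2050))
 (.node (nat_lit 0x10e6155) (.leaf (nat_lit 0x10e6151) (nat_lit 2048))
 (.leaf (nat_lit 0x10e6155) (nat_lit 2304))
))) (.node (nat_lit 0x10e61c5) (.node (nat_lit 0x10e615d) (.leaf (nat_lit 0x10e6159) (nat_lit 1792))
 (.node (nat_lit 0x10e61c1) (.leaf (nat_lit 0x10e615d) (nat_lit 2048))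
 (.leaf (nat_lit 0x10e61c1) (nat_lit 1538))
)) (.node (nat_lit 0x10e61c9) (.leaf (nat_lit 0x10e61c5) (nat_lit 1794))
 (.node (nat_lit 0x10e61cd) (.leaf (nat_lit 0x10e61c9) (nat_lit 2050))
 (.leaf (nat_lit 0x10e61cd) (nat_lit 1794))
)))) (.node (nat_lit 0x10e6249) (.node (nat_lit 0x10e61dd) (.node (nat_lit 0x10e61d5) (.leaf (nat_lit 0x10e61d1) (nat_lit 2304))
 (.node (nat_lit 0x10e61d9) (.leaf (nat_lit 0x10e61d5) (nat_lit 2048))
 (.leaf (nat_lit 0x10e61d9) (nat_lit 1792))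
)) (.node (nat_lit 0x10e6241) (.leaf (nat_lit 0x10e61dd) (nat_lit 2048))
 (.node (nat_lit 0x10e6245) (.leaf (nat_lit 0x10e6241) (nat_lit 1793))
 (.leaf (nat_lit 0x10e6245) (nat_lit 2049))
))) (.node (nat_lit 0x10e6255) (.node (nat_lit 0x10e624d) (.leaf (nat_lit 0x10e6249) (nat_lit 2049))
 (.node (nat_lit 0x10e6251) (.leaf (nat_lit 0x10e624d) (nat_lit 2305))
 (.leaf (nat_lit 0x10e6251) (nat_lit 2305))
)) (.node (nat_lit 0x10e6259) (.leaf (nat_lit 0x10e6255) (nat_lit 2307))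
 (.node (nat_lit 0x10e625d) (.leaf (nat_lit 0x10e6259) (nat_lit 2049))
 (.leaf (nat_lit 0x10e625d) (nat_lit 2305))
))))) (.node (nat_lit 0x10e6351) (.node (nat_lit 0x10e62d9) (.node (nat_lit 0x10e62cd) (.node (nat_lit 0x10e62c5) (.leaf (nat_lit 0x10e62c1) (nat_lit 1793))
 (.node (nat_lit 0x10e62c9) (.leaf (nat_lit 0x10e62c5) (nat_lit 2049))
 (.leaf (nat_lit 0x10e62c9) (nat_lit 2305))
)) (.node (nat_lit 0x10e62d1) (.leaf (nat_lit 0x10e62cd) (nat_lit 2049))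
 (.node (nat_lit 0x10e62d5) (.leaf (nat_lit 0x10e62d1) (nat_lit 2307))
 (.leaf (nat_lit 0x10e62d5) (nat_lit 2051))
))) (.node (nat_lit 0x10e6345) (.node (nat_lit 0x10e62dd) (.leaf (nat_lit 0x10e62d9) (nat_lit 2049))
 (.node (nat_lit 0x10e6341) (.leaf (nat_lit 0x10e62dd) (nat_lit 2305))
 (.leaf (nat_lit 0x10e6341) (nat_lit 1025))
)) (.node (nat_lit 0x10e6349) (.leaf (nat_lit 0x10e6345) (nat_lit 1281))
 (.node (nat_lit 0x10e634d) (.leaf (nat_lit 0x10e6349) (nat_lit 1793))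
 (.leaf (nat_lit 0x10e634d) (nat_lit 1793))
)))) (.node (nat_lit 0x10e63c9) (.node (nat_lit 0x10e635d) (.node (nat_lit 0x10e6355) (.leaf (nat_lit 0x10e6351) (nat_lit 2049))
 (.node (nat_lit 0x10e6359) (.leaf (nat_lit 0x10e6355) (nat_lit 2049))
 (.leaf (nat_lit 0x10e6359) (nat_lit 1281))
)) (.node (nat_lit 0x10e63c1) (.leaf (nat_lit 0x10e635d) (nat_lit 1537))
 (.node (nat_lit 0x10e63c5) (.leaf (nat_lit 0x10e63c1) (nat_lit 1281))
 (.leaf (nat_lit 0x10e63c5) (nat_lit 1537))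
))) (.node (nat_lit 0x10e63d5) (.node (nat_lit 0x10e63cd) (.leaf (nat_lit 0x10e63c9) (nat_lit 2049))
 (.node (nat_lit 0x10e63d1) (.leaf (nat_lit 0x10e63cd) (nat_lit 2049))
 (.leaf (nat_lit 0x10e63d1) (nat_lit 2305))
)) (.node (nat_lit 0x10e63d9) (.leaf (nat_lit 0x10e63d5) (nat_lit 2305))
 (.node (nat_lit 0x10e63dd) (.leaf (nat_lit 0x10e63d9) (nat_lit 1537))
 (.leaf (nat_lit 0x10e63dd) (nat_lit 1793))
)))))))))))

theorem D1_ok : genOK A [(nat_lit 0x1041045), (nat_lit 0x10410c1), (nat_lit 0x1043041), (nat_lit 0x10c1041), (nat_lit 0x1061041)] D1_t (nat_lit 1536) = true := by decide +kernel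

noncomputable def T1_t : ST :=
(.node (nat_lit 0x10c1041) (.node (nat_lit 0x1045041) (.node (nat_lit 0x1043041) (.node (nat_lit 0x1041241) (.node (nat_lit 0x1041141) (.node (nat_lit 0x10410c1) (.node (nat_lit 0x1041051) (.node (nat_lit 0x1041049) (.node (nat_lit 0x1041045) (.leaf (nat_lit 0x1041041) (nat_lit 0))
 (.leaf (nat_lit 0x1041045) (nat_lit 256))
) (.node (nat_lit 0x104104d) (.leaf (nat_lit 0x1041049) (nat_lit 1026))
 (.leaf (nat_lit 0x104104d) (nat_lit 770))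
)) (.node (nat_lit 0x1041059) (.node (nat_lit 0x1041055) (.leaf (nat_lit 0x1041051) (nat_lit 2050))
 (.leaf (nat_lit 0x1041055) (nat_lit 1794))
) (.node (nat_lit 0x104105d) (.leaf (nat_lit 0x1041059) (nat_lit 1539))
 (.leaf (nat_lit 0x104105d) (nat_lit 1283))
))) (.node (nat_lit 0x10410d1) (.node (nat_lit 0x10410c9) (.node (nat_lit 0x10410c5) (.leaf (nat_lit 0x10410c1) (nat_lit 257))
 (.leaf (nat_lit 0x10410c5) (nat_lit 513))
) (.node (nat_lit 0x10410cd) (.leaf (nat_lit 0x10410c9) (nat_lit 1282))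
 (.leaf (nat_lit 0x10410cd) (nat_lit 1026))
)) (.node (nat_lit 0x10410d9) (.node (nat_lit 0x10410d5) (.leaf (nat_lit 0x10410d1) (nat_lit 2306))
 (.leaf (nat_lit 0x10410d5) (nat_lit 2050))
) (.node (nat_lit 0x10410dd) (.leaf (nat_lit 0x10410d9) (nat_lit 1795))
 (.leaf (nat_lit 0x10410dd) (nat_lit 1539))
)))) (.node (nat_lit 0x10411c1) (.node (nat_lit 0x1041151) (.node (nat_lit 0x1041149) (.node (nat_lit 0x1041145) (.leaf (nat_lit 0x1041141) (nat_lit 1026))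
 (.leaf (nat_lit 0x1041145) (nat_lit 1282))
) (.node (nat_lit 0x104114d) (.leaf (nat_lit 0x1041149) (nat_lit 1538))
 (.leaf (nat_lit 0x104114d) (nat_lit 1282))
)) (.node (nat_lit 0x1041159) (.node (nat_lit 0x1041155) (.leaf (nat_lit 0x1041151) (nat_lit 2562))
 (.leaf (nat_lit 0x1041155) (nat_lit 2306))
) (.node (nat_lit 0x104115d) (.leaf (nat_lit 0x1041159) (nat_lit 2563))
 (.leaf (nat_lit 0x104115d) (nat_lit 2307))
))) (.node (nat_lit 0x10411d1) (.node (nat_lit 0x10411c9) (.node (nat_lit 0x10411c5) (.leaf (nat_lit 0x10411c1) (nat_lit 770))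
 (.leaf (nat_lit 0x10411c5) (nat_lit 1026))
) (.node (nat_lit 0x10411cd) (.leaf (nat_lit 0x10411c9) (nat_lit 1282))
 (.leaf (nat_lit 0x10411cd) (nat_lit 1026))
)) (.node (nat_lit 0x10411d9) (.node (nat_lit 0x10411d5) (.leaf (nat_lit 0x10411d1) (nat_lit 2306))
 (.leaf (nat_lit 0x10411d5) (nat_lit 2050))
) (.node (nat_lit 0x10411dd) (.leaf (nat_lit 0x10411d9) (nat_lit 2307))
 (.leaf (nat_lit 0x10411dd) (nat_lit 2051))
))))) (.node (nat_lit 0x1041341) (.node (nat_lit 0x10412c1) (.node (nat_lit 0x1041251) (.node (nat_lit 0x1041249) (.node (nat_lit 0x1041245) (.leaf (nat_lit 0x1041241) (nat_lit 2050))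
 (.leaf (nat_lit 0x1041245) (nat_lit 2306))
) (.node (nat_lit 0x104124d) (.leaf (nat_lit 0x1041249) (nat_lit 2562))
 (.leaf (nat_lit 0x104124d) (nat_lit 2306))
)) (.node (nat_lit 0x1041259) (.node (nat_lit 0x1041255) (.leaf (nat_lit 0x1041251) (nat_lit 2562))
 (.leaf (nat_lit 0x1041255) (nat_lit 2306))
) (.node (nat_lit 0x104125d) (.leaf (nat_lit 0x1041259) (nat_lit 2563))
 (.leaf (nat_lit 0x104125d) (nat_lit 2307))
))) (.node (nat_lit 0x10412d1) (.node (nat_lit 0x10412c9) (.node (nat_lit 0x10412c5) (.leaf (nat_lit 0x10412c1) (nat_lit 1794))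
 (.leaf (nat_lit 0x10412c5) (nat_lit 2050))
) (.node (nat_lit 0x10412cd) (.leaf (nat_lit 0x10412c9) (nat_lit 2306))
 (.leaf (nat_lit 0x10412cd) (nat_lit 2050))
)) (.node (nat_lit 0x10412d9) (.node (nat_lit 0x10412d5) (.leaf (nat_lit 0x10412d1) (nat_lit 2306))
 (.leaf (nat_lit 0x10412d5) (nat_lit 2050))
) (.node (nat_lit 0x10412dd) (.leaf (nat_lit 0x10412d9) (nat_lit 2306))
 (.leaf (nat_lit 0x10412dd) (nat_lit 2562))
)))) (.node (nat_lit 0x10413c1) (.node (nat_lit 0x1041351) (.node (nat_lit 0x1041349) (.node (nat_lit 0x1041345) (.leaf (nat_lit 0x1041341) (nat_lit 1539))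
 (.leaf (nat_lit 0x1041345) (nat_lit 1795))
) (.node (nat_lit 0x104134d) (.leaf (nat_lit 0x1041349) (nat_lit 2563))
 (.leaf (nat_lit 0x104134d) (nat_lit 2307))
)) (.node (nat_lit 0x1041359) (.node (nat_lit 0x1041355) (.leaf (nat_lit 0x1041351) (nat_lit 2562))
 (.leaf (nat_lit 0x1041355) (nat_lit 2306))
) (.node (nat_lit 0x104135d) (.leaf (nat_lit 0x1041359) (nat_lit 2051))
 (.leaf (nat_lit 0x104135d) (nat_lit 1795))
))) (.node (nat_lit 0x10413d1) (.node (nat_lit 0x10413c9) (.node (nat_lit 0x10413c5) (.leaf (nat_lit 0x10413c1) (nat_lit 1283))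
 (.leaf (nat_lit 0x10413c5) (nat_lit 1539))
) (.node (nat_lit 0x10413cd) (.leaf (nat_lit 0x10413c9) (nat_lit 2307))
 (.leaf (nat_lit 0x10413cd) (nat_lit 2051))
)) (.node (nat_lit 0x10413d9) (.node (nat_lit 0x10413d5) (.leaf (nat_lit 0x10413d1) (nat_lit 2307))
 (.leaf (nat_lit 0x10413d5) (nat_lit 2563))
) (.node (nat_lit 0x10413dd) (.leaf (nat_lit 0x10413d9) (nat_lit 1795))
 (.leaf (nat_lit 0x10413dd) (nat_lit 1539))
)))))) (.node (nat_lit 0x1043241) (.node (nat_lit 0x1043141) (.node (nat_lit 0x10430c1) (.node (nat_lit 0x1043051) (.node (nat_lit 0x1043049) (.node (nat_lit 0x1043045) (.leaf (nat_lit 0x1043041) (nat_lit 258))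
 (.leaf (nat_lit 0x1043045) (nat_lit 514))
) (.node (nat_lit 0x104304d) (.leaf (nat_lit 0x1043049) (nat_lit 768))
 (.leaf (nat_lit 0x104304d) (nat_lit 512))
)) (.node (nat_lit 0x1043059) (.node (nat_lit 0x1043055) (.leaf (nat_lit 0x1043051) (nat_lit 1795))
 (.leaf (nat_lit 0x1043055) (nat_lit 1539))
) (.node (nat_lit 0x104305d) (.leaf (nat_lit 0x1043059) (nat_lit 1794))
 (.leaf (nat_lit 0x104305d) (nat_lit 1538))
))) (.node (nat_lit 0x10430d1) (.node (nat_lit 0x10430c9) (.node (nat_lit 0x10430c5) (.leaf (nat_lit 0x10430c1) (nat_lit 514))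
 (.leaf (nat_lit 0x10430c5) (nat_lit 770))
) (.node (nat_lit 0x10430cd) (.leaf (nat_lit 0x10430c9) (nat_lit 1024))
 (.leaf (nat_lit 0x10430cd) (nat_lit 768))
)) (.node (nat_lit 0x10430d9) (.node (nat_lit 0x10430d5) (.leaf (nat_lit 0x10430d1) (nat_lit 2051))
 (.leaf (nat_lit 0x10430d5) (nat_lit 1795))
) (.node (nat_lit 0x10430dd) (.leaf (nat_lit 0x10430d9) (nat_lit 2050))
 (.leaf (nat_lit 0x10430dd) (nat_lit 1794))
)))) (.node (nat_lit 0x10431c1) (.node (nat_lit 0x1043151) (.node (nat_lit 0x1043149) (.node (nat_lit 0x1043145) (.leaf (nat_lit 0x1043141) (nat_lit 769))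
 (.leaf (nat_lit 0x1043145) (nat_lit 1025))
) (.node (nat_lit 0x104314d) (.leaf (nat_lit 0x1043149) (nat_lit 1281))
 (.leaf (nat_lit 0x104314d) (nat_lit 1025))
)) (.node (nat_lit 0x1043159) (.node (nat_lit 0x1043155) (.leaf (nat_lit 0x1043151) (nat_lit 2307))
 (.leaf (nat_lit 0x1043155) (nat_lit 2051))
) (.node (nat_lit 0x104315d) (.leaf (nat_lit 0x1043159) (nat_lit 2305))
 (.leaf (nat_lit 0x104315d) (nat_lit 2049))
))) (.node (nat_lit 0x10431d1) (.node (nat_lit 0x10431c9) (.node (nat_lit 0x10431c5) (.leaf (nat_lit 0x10431c1) (nat_lit 513))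
 (.leaf (nat_lit 0x10431c5) (nat_lit 769))
) (.node (nat_lit 0x10431cd) (.leaf (nat_lit 0x10431c9) (nat_lit 1025))
 (.leaf (nat_lit 0x10431cd) (nat_lit 769))
)) (.node (nat_lit 0x10431d9) (.node (nat_lit 0x10431d5) (.leaf (nat_lit 0x10431d1) (nat_lit 2051))
 (.leaf (nat_lit 0x10431d5) (nat_lit 1795))
) (.node (nat_lit 0x10431dd) (.leaf (nat_lit 0x10431d9) (nat_lit 2049))
 (.leaf (nat_lit 0x10431dd) (nat_lit 1793))
))))) (.node (nat_lit 0x1043341) (.node (nat_lit 0x10432c1) (.node (nat_lit 0x1043251) (.node (nat_lit 0x1043249) (.node (nat_lit 0x1043245) (.leaf (nat_lit 0x1043241) (nat_lit 1795))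
 (.leaf (nat_lit 0x1043245) (nat_lit 2051))
) (.node (nat_lit 0x104324d) (.leaf (nat_lit 0x1043249) (nat_lit 2307))
 (.leaf (nat_lit 0x104324d) (nat_lit 2051))
)) (.node (nat_lit 0x1043259) (.node (nat_lit 0x1043255) (.leaf (nat_lit 0x1043251) (nat_lit 2307))
 (.leaf (nat_lit 0x1043255) (nat_lit 2051))
) (.node (nat_lit 0x104325d) (.leaf (nat_lit 0x1043259) (nat_lit 2305))
 (.leaf (nat_lit 0x104325d) (nat_lit 2049))
))) (.node (nat_lit 0x10432d1) (.node (nat_lit 0x10432c9) (.node (nat_lit 0x10432c5) (.leaf (nat_lit 0x10432c1) (nat_lit 1539))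
 (.leaf (nat_lit 0x10432c5) (nat_lit 1795))
) (.node (nat_lit 0x10432cd) (.leaf (nat_lit 0x10432c9) (nat_lit 2051))
 (.leaf (nat_lit 0x10432cd) (nat_lit 1795))
)) (.node (nat_lit 0x10432d9) (.node (nat_lit 0x10432d5) (.leaf (nat_lit 0x10432d1) (nat_lit 2051))
 (.leaf (nat_lit 0x10432d5) (nat_lit 1795))
) (.node (nat_lit 0x10432dd) (.leaf (nat_lit 0x10432d9) (nat_lit 2051))
 (.leaf (nat_lit 0x10432dd) (nat_lit 2307))
)))) (.node (nat_lit 0x10433c1) (.node (nat_lit 0x1043351) (.node (nat_lit 0x1043349) (.node (nat_lit 0x1043345) (.leaf (nat_lit 0x1043341) (nat_lit 1794))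
 (.leaf (nat_lit 0x1043345) (nat_lit 2050))
) (.node (nat_lit 0x104334d) (.leaf (nat_lit 0x1043349) (nat_lit 2304))
 (.leaf (nat_lit 0x104334d) (nat_lit 2048))
)) (.node (nat_lit 0x1043359) (.node (nat_lit 0x1043355) (.leaf (nat_lit 0x1043351) (nat_lit 2307))
 (.leaf (nat_lit 0x1043355) (nat_lit 2051))
) (.node (nat_lit 0x104335d) (.leaf (nat_lit 0x1043359) (nat_lit 2306))
 (.leaf (nat_lit 0x104335d) (nat_lit 2050))
))) (.node (nat_lit 0x10433d1) (.node (nat_lit 0x10433c9) (.node (nat_lit 0x10433c5) (.leaf (nat_lit 0x10433c1) (nat_lit 1538))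
 (.leaf (nat_lit 0x10433c5) (nat_lit 1794))
) (.node (nat_lit 0x10433cd) (.leaf (nat_lit 0x10433c9) (nat_lit 2048))
 (.leaf (nat_lit 0x10433cd) (nat_lit 1792))
)) (.node (nat_lit 0x10433d9) (.node (nat_lit 0x10433d5) (.leaf (nat_lit 0x10433d1) (nat_lit 2048))
 (.leaf (nat_lit 0x10433d5) (nat_lit 2304))
) (.node (nat_lit 0x10433dd) (.leaf (nat_lit 0x10433d9) (nat_lit 2050))
 (.leaf (nat_lit 0x10433dd) (nat_lit 1794))
))))))) (.node (nat_lit 0x1047041) (.node (nat_lit 0x1045241) (.node (nat_lit 0x1045141) (.node (nat_lit 0x10450c1) (.node (nat_lit 0x1045051) (.node (nat_lit 0x1045049) (.node (nat_lit 0x1045045) (.leaf (nat_lit 0x1045041) (nat_lit 1027))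
 (.leaf (nat_lit 0x1045045) (nat_lit 1283))
) (.node (nat_lit 0x104504d) (.leaf (nat_lit 0x1045049) (nat_lit 1539))
 (.leaf (nat_lit 0x104504d) (nat_lit 1283))
)) (.node (nat_lit 0x1045059) (.node (nat_lit 0x1045055) (.leaf (nat_lit 0x1045051) (nat_lit 1539))
 (.leaf (nat_lit 0x1045055) (nat_lit 1283))
) (.node (nat_lit 0x104505d) (.leaf (nat_lit 0x1045059) (nat_lit 1538))
 (.leaf (nat_lit 0x104505d) (nat_lit 1282))
))) (.node (nat_lit 0x10450d1) (.node (nat_lit 0x10450c9) (.node (nat_lit 0x10450c5) (.leaf (nat_lit 0x10450c1) (nat_lit 1283))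
 (.leaf (nat_lit 0x10450c5) (nat_lit 1539))
) (.node (nat_lit 0x10450cd) (.leaf (nat_lit 0x10450c9) (nat_lit 1795))
 (.leaf (nat_lit 0x10450cd) (nat_lit 1539))
)) (.node (nat_lit 0x10450d9) (.node (nat_lit 0x10450d5) (.leaf (nat_lit 0x10450d1) (nat_lit 1795))
 (.leaf (nat_lit 0x10450d5) (nat_lit 1539))
) (.node (nat_lit 0x10450dd) (.leaf (nat_lit 0x10450d9) (nat_lit 1794))
 (.leaf (nat_lit 0x10450dd) (nat_lit 1538))
)))) (.node (nat_lit 0x10451c1) (.node (nat_lit 0x1045151) (.node (nat_lit 0x1045149) (.node (nat_lit 0x1045145) (.leaf (nat_lit 0x1045141) (nat_lit 1539))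
 (.leaf (nat_lit 0x1045145) (nat_lit 1795))
) (.node (nat_lit 0x104514d) (.leaf (nat_lit 0x1045149) (nat_lit 2051))
 (.leaf (nat_lit 0x104514d) (nat_lit 1795))
)) (.node (nat_lit 0x1045159) (.node (nat_lit 0x1045155) (.leaf (nat_lit 0x1045151) (nat_lit 2051))
 (.leaf (nat_lit 0x1045155) (nat_lit 1795))
) (.node (nat_lit 0x104515d) (.leaf (nat_lit 0x1045159) (nat_lit 2049))
 (.leaf (nat_lit 0x104515d) (nat_lit 1793))
))) (.node (nat_lit 0x10451d1) (.node (nat_lit 0x10451c9) (.node (nat_lit 0x10451c5) (.leaf (nat_lit 0x10451c1) (nat_lit 1283))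
 (.leaf (nat_lit 0x10451c5) (nat_lit 1539))
) (.node (nat_lit 0x10451cd) (.leaf (nat_lit 0x10451c9) (nat_lit 1795))
 (.leaf (nat_lit 0x10451cd) (nat_lit 1539))
)) (.node (nat_lit 0x10451d9) (.node (nat_lit 0x10451d5) (.leaf (nat_lit 0x10451d1) (nat_lit 1795))
 (.leaf (nat_lit 0x10451d5) (nat_lit 1539))
) (.node (nat_lit 0x10451dd) (.leaf (nat_lit 0x10451d9) (nat_lit 1795))
 (.leaf (nat_lit 0x10451dd) (nat_lit 2051))
))))) (.node (nat_lit 0x1045341) (.node (nat_lit 0x10452c1) (.node (nat_lit 0x1045251) (.node (nat_lit 0x1045249) (.node (nat_lit 0x1045245) (.leaf (nat_lit 0x1045241) (nat_lit 1539))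
 (.leaf (nat_lit 0x1045245) (nat_lit 1795))
) (.node (nat_lit 0x104524d) (.leaf (nat_lit 0x1045249) (nat_lit 2051))
 (.leaf (nat_lit 0x104524d) (nat_lit 1795))
)) (.node (nat_lit 0x1045259) (.node (nat_lit 0x1045255) (.leaf (nat_lit 0x1045251) (nat_lit 2051))
 (.leaf (nat_lit 0x1045255) (nat_lit 1795))
) (.node (nat_lit 0x104525d) (.leaf (nat_lit 0x1045259) (nat_lit 2049))
 (.leaf (nat_lit 0x104525d) (nat_lit 1793))
))) (.node (nat_lit 0x10452d1) (.node (nat_lit 0x10452c9) (.node (nat_lit 0x10452c5) (.leaf (nat_lit 0x10452c1) (nat_lit 1283))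
 (.leaf (nat_lit 0x10452c5) (nat_lit 1539))
) (.node (nat_lit 0x10452cd) (.leaf (nat_lit 0x10452c9) (nat_lit 1795))
 (.leaf (nat_lit 0x10452cd) (nat_lit 1539))
)) (.node (nat_lit 0x10452d9) (.node (nat_lit 0x10452d5) (.leaf (nat_lit 0x10452d1) (nat_lit 1795))
 (.leaf (nat_lit 0x10452d5) (nat_lit 1539))
) (.node (nat_lit 0x10452dd) (.leaf (nat_lit 0x10452d9) (nat_lit 1793))
 (.leaf (nat_lit 0x10452dd) (nat_lit 1537))
)))) (.node (nat_lit 0x10453c1) (.node (nat_lit 0x1045351) (.node (nat_lit 0x1045349) (.node (nat_lit 0x1045345) (.leaf (nat_lit 0x1045341) (nat_lit 1538))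
 (.leaf (nat_lit 0x1045345) (nat_lit 1794))
) (.node (nat_lit 0x104534d) (.leaf (nat_lit 0x1045349) (nat_lit 2051))
 (.leaf (nat_lit 0x104534d) (nat_lit 1795))
)) (.node (nat_lit 0x1045359) (.node (nat_lit 0x1045355) (.leaf (nat_lit 0x1045351) (nat_lit 2048))
 (.leaf (nat_lit 0x1045355) (nat_lit 1792))
) (.node (nat_lit 0x104535d) (.leaf (nat_lit 0x1045359) (nat_lit 2050))
 (.leaf (nat_lit 0x104535d) (nat_lit 1794))
))) (.node (nat_lit 0x10453d1) (.node (nat_lit 0x10453c9) (.node (nat_lit 0x10453c5) (.leaf (nat_lit 0x10453c1) (nat_lit 1282))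
 (.leaf (nat_lit 0x10453c5) (nat_lit 1538))
) (.node (nat_lit 0x10453cd) (.leaf (nat_lit 0x10453c9) (nat_lit 1792))
 (.leaf (nat_lit 0x10453cd) (nat_lit 2048))
)) (.node (nat_lit 0x10453d9) (.node (nat_lit 0x10453d5) (.leaf (nat_lit 0x10453d1) (nat_lit 1792))
 (.leaf (nat_lit 0x10453d5) (nat_lit 1536))
) (.node (nat_lit 0x10453dd) (.leaf (nat_lit 0x10453d9) (nat_lit 1794))
 (.leaf (nat_lit 0x10453dd) (nat_lit 1538))
)))))) (.node (nat_lit 0x1047241) (.node (nat_lit 0x1047141) (.node (nat_lit 0x10470c1) (.node (nat_lit 0x1047051) (.node (nat_lit 0x1047049) (.node (nat_lit 0x1047045) (.leaf (nat_lit 0x1047041) (nat_lit 771))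
 (.leaf (nat_lit 0x1047045) (nat_lit 1027))
) (.node (nat_lit 0x104704d) (.leaf (nat_lit 0x1047049) (nat_lit 1795))
 (.leaf (nat_lit 0x104704d) (nat_lit 1539))
)) (.node (nat_lit 0x1047059) (.node (nat_lit 0x1047055) (.leaf (nat_lit 0x1047051) (nat_lit 1794))
 (.leaf (nat_lit 0x1047055) (nat_lit 1538))
) (.node (nat_lit 0x104705d) (.leaf (nat_lit 0x1047059) (nat_lit 1283))
 (.leaf (nat_lit 0x104705d) (nat_lit 1027))
))) (.node (nat_lit 0x10470d1) (.node (nat_lit 0x10470c9) (.node (nat_lit 0x10470c5) (.leaf (nat_lit 0x10470c1) (nat_lit 1027))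
 (.leaf (nat_lit 0x10470c5) (nat_lit 1283))
) (.node (nat_lit 0x10470cd) (.leaf (nat_lit 0x10470c9) (nat_lit 2051))
 (.leaf (nat_lit 0x10470cd) (nat_lit 1795))
)) (.node (nat_lit 0x10470d9) (.node (nat_lit 0x10470d5) (.leaf (nat_lit 0x10470d1) (nat_lit 2050))
 (.leaf (nat_lit 0x10470d5) (nat_lit 1794))
) (.node (nat_lit 0x10470dd) (.leaf (nat_lit 0x10470d9) (nat_lit 1539))
 (.leaf (nat_lit 0x10470dd) (nat_lit 1283))
)))) (.node (nat_lit 0x10471c1) (.node (nat_lit 0x1047151) (.node (nat_lit 0x1047149) (.node (nat_lit 0x1047145) (.leaf (nat_lit 0x1047141) (nat_lit 1795))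
 (.leaf (nat_lit 0x1047145) (nat_lit 2051))
) (.node (nat_lit 0x104714d) (.leaf (nat_lit 0x1047149) (nat_lit 2307))
 (.leaf (nat_lit 0x104714d) (nat_lit 2051))
)) (.node (nat_lit 0x1047159) (.node (nat_lit 0x1047155) (.leaf (nat_lit 0x1047151) (nat_lit 2306))
 (.leaf (nat_lit 0x1047155) (nat_lit 2050))
) (.node (nat_lit 0x104715d) (.leaf (nat_lit 0x1047159) (nat_lit 2307))
 (.leaf (nat_lit 0x104715d) (nat_lit 2051))
))) (.node (nat_lit 0x10471d1) (.node (nat_lit 0x10471c9) (.node (nat_lit 0x10471c5) (.leaf (nat_lit 0x10471c1) (nat_lit 1539))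
 (.leaf (nat_lit 0x10471c5) (nat_lit 1795))
) (.node (nat_lit 0x10471cd) (.leaf (nat_lit 0x10471c9) (nat_lit 2051))
 (.leaf (nat_lit 0x10471cd) (nat_lit 1795))
)) (.node (nat_lit 0x10471d9) (.node (nat_lit 0x10471d5) (.leaf (nat_lit 0x10471d1) (nat_lit 2050))
 (.leaf (nat_lit 0x10471d5) (nat_lit 1794))
) (.node (nat_lit 0x10471dd) (.leaf (nat_lit 0x10471d9) (nat_lit 2051))
 (.leaf (nat_lit 0x10471dd) (nat_lit 1795))
))))) (.node (nat_lit 0x1047341) (.node (nat_lit 0x10472c1) (.node (nat_lit 0x1047251) (.node (nat_lit 0x1047249) (.node (nat_lit 0x1047245) (.leaf (nat_lit 0x1047241) (nat_lit 1794))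
 (.leaf (nat_lit 0x1047245) (nat_lit 2050))
) (.node (nat_lit 0x104724d) (.leaf (nat_lit 0x1047249) (nat_lit 2306))
 (.leaf (nat_lit 0x104724d) (nat_lit 2050))
)) (.node (nat_lit 0x1047259) (.node (nat_lit 0x1047255) (.leaf (nat_lit 0x1047251) (nat_lit 2306))
 (.leaf (nat_lit 0x1047255) (nat_lit 2050))
) (.node (nat_lit 0x104725d) (.leaf (nat_lit 0x1047259) (nat_lit 2304))
 (.leaf (nat_lit 0x104725d) (nat_lit 2048))
))) (.node (nat_lit 0x10472d1) (.node (nat_lit 0x10472c9) (.node (nat_lit 0x10472c5) (.leaf (nat_lit 0x10472c1) (nat_lit 1538))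
 (.leaf (nat_lit 0x10472c5) (nat_lit 1794))
) (.node (nat_lit 0x10472cd) (.leaf (nat_lit 0x10472c9) (nat_lit 2050))
 (.leaf (nat_lit 0x10472cd) (nat_lit 1794))
)) (.node (nat_lit 0x10472d9) (.node (nat_lit 0x10472d5) (.leaf (nat_lit 0x10472d1) (nat_lit 2050))
 (.leaf (nat_lit 0x10472d5) (nat_lit 1794))
) (.node (nat_lit 0x10472dd) (.leaf (nat_lit 0x10472d9) (nat_lit 2048))
 (.leaf (nat_lit 0x10472dd) (nat_lit 1792))
)))) (.node (nat_lit 0x10473c1) (.node (nat_lit 0x1047351) (.node (nat_lit 0x1047349) (.node (nat_lit 0x1047345) (.leaf (nat_lit 0x1047341) (nat_lit 1283))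
 (.leaf (nat_lit 0x1047345) (nat_lit 1539))
) (.node (nat_lit 0x104734d) (.leaf (nat_lit 0x1047349) (nat_lit 2307))
 (.leaf (nat_lit 0x104734d) (nat_lit 2051))
)) (.node (nat_lit 0x1047359) (.node (nat_lit 0x1047355) (.leaf (nat_lit 0x1047351) (nat_lit 2305))
 (.leaf (nat_lit 0x1047355) (nat_lit 2049))
) (.node (nat_lit 0x104735d) (.leaf (nat_lit 0x1047359) (nat_lit 1795))
 (.leaf (nat_lit 0x104735d) (nat_lit 1539))
))) (.node (nat_lit 0x10473d1) (.node (nat_lit 0x10473c9) (.node (nat_lit 0x10473c5) (.leaf (nat_lit 0x10473c1) (nat_lit 1027))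
 (.leaf (nat_lit 0x10473c5) (nat_lit 1283))
) (.node (nat_lit 0x10473cd) (.leaf (nat_lit 0x10473c9) (nat_lit 2051))
 (.leaf (nat_lit 0x10473cd) (nat_lit 1795))
)) (.node (nat_lit 0x10473d9) (.node (nat_lit 0x10473d5) (.leaf (nat_lit 0x10473d1) (nat_lit 2049))
 (.leaf (nat_lit 0x10473d5) (nat_lit 1793))
) (.node (nat_lit 0x10473dd) (.leaf (nat_lit 0x10473d9) (nat_lit 1539))
 (.leaf (nat_lit 0x10473dd) (nat_lit 1283))
)))))))) (.node (nat_lit 0x10c5041) (.node (nat_lit 0x10c3041) (.node (nat_lit 0x10c1241) (.node (nat_lit 0x10c1141) (.node (nat_lit 0x10c10c1) (.node (nat_lit 0x10c1051) (.node (nat_lit 0x10c1049) (.node (nat_lit 0x10c1045) (.leaf (nat_lit 0x10c1041) (nat_lit 259))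
 (.leaf (nat_lit 0x10c1045) (nat_lit 515))
) (.node (nat_lit 0x10c104d) (.leaf (nat_lit 0x10c1049) (nat_lit 1283))
 (.leaf (nat_lit 0x10c104d) (nat_lit 1027))
)) (.node (nat_lit 0x10c1059) (.node (nat_lit 0x10c1055) (.leaf (nat_lit 0x10c1051) (nat_lit 1794))
 (.leaf (nat_lit 0x10c1055) (nat_lit 2050))
) (.node (nat_lit 0x10c105d) (.leaf (nat_lit 0x10c1059) (nat_lit 1282))
 (.leaf (nat_lit 0x10c105d) (nat_lit 1026))
))) (.node (nat_lit 0x10c10d1) (.node (nat_lit 0x10c10c9) (.node (nat_lit 0x10c10c5) (.leaf (nat_lit 0x10c10c1) (nat_lit 515))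
 (.leaf (nat_lit 0x10c10c5) (nat_lit 771))
) (.node (nat_lit 0x10c10cd) (.leaf (nat_lit 0x10c10c9) (nat_lit 1539))
 (.leaf (nat_lit 0x10c10cd) (nat_lit 1283))
)) (.node (nat_lit 0x10c10d9) (.node (nat_lit 0x10c10d5) (.leaf (nat_lit 0x10c10d1) (nat_lit 2050))
 (.leaf (nat_lit 0x10c10d5) (nat_lit 2306))
) (.node (nat_lit 0x10c10dd) (.leaf (nat_lit 0x10c10d9) (nat_lit 1538))
 (.leaf (nat_lit 0x10c10dd) (nat_lit 1282))
)))) (.node (nat_lit 0x10c11c1) (.node (nat_lit 0x10c1151) (.node (nat_lit 0x10c1149) (.node (nat_lit 0x10c1145) (.leaf (nat_lit 0x10c1141) (nat_lit 1283))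
 (.leaf (nat_lit 0x10c1145) (nat_lit 1539))
) (.node (nat_lit 0x10c114d) (.leaf (nat_lit 0x10c1149) (nat_lit 1795))
 (.leaf (nat_lit 0x10c114d) (nat_lit 1539))
)) (.node (nat_lit 0x10c1159) (.node (nat_lit 0x10c1155) (.leaf (nat_lit 0x10c1151) (nat_lit 2306))
 (.leaf (nat_lit 0x10c1155) (nat_lit 2562))
) (.node (nat_lit 0x10c115d) (.leaf (nat_lit 0x10c1159) (nat_lit 2306))
 (.leaf (nat_lit 0x10c115d) (nat_lit 2050))
))) (.node (nat_lit 0x10c11d1) (.node (nat_lit 0x10c11c9) (.node (nat_lit 0x10c11c5) (.leaf (nat_lit 0x10c11c1) (nat_lit 1027))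
 (.leaf (nat_lit 0x10c11c5) (nat_lit 1283))
) (.node (nat_lit 0x10c11cd) (.leaf (nat_lit 0x10c11c9) (nat_lit 1539))
 (.leaf (nat_lit 0x10c11cd) (nat_lit 1283))
)) (.node (nat_lit 0x10c11d9) (.node (nat_lit 0x10c11d5) (.leaf (nat_lit 0x10c11d1) (nat_lit 2050))
 (.leaf (nat_lit 0x10c11d5) (nat_lit 2306))
) (.node (nat_lit 0x10c11dd) (.leaf (nat_lit 0x10c11d9) (nat_lit 2050))
 (.leaf (nat_lit 0x10c11dd) (nat_lit 1794))
))))) (.node (nat_lit 0x10c1341) (.node (nat_lit 0x10c12c1) (.node (nat_lit 0x10c1251) (.node (nat_lit 0x10c1249) (.node (nat_lit 0x10c1245) (.leaf (nat_lit 0x10c1241) (nat_lit 1794))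
 (.leaf (nat_lit 0x10c1245) (nat_lit 2050))
) (.node (nat_lit 0x10c124d) (.leaf (nat_lit 0x10c1249) (nat_lit 2306))
 (.leaf (nat_lit 0x10c124d) (nat_lit 2050))
)) (.node (nat_lit 0x10c1259) (.node (nat_lit 0x10c1255) (.leaf (nat_lit 0x10c1251) (nat_lit 2306))
 (.leaf (nat_lit 0x10c1255) (nat_lit 2562))
) (.node (nat_lit 0x10c125d) (.leaf (nat_lit 0x10c1259) (nat_lit 2306))
 (.leaf (nat_lit 0x10c125d) (nat_lit 2050))
))) (.node (nat_lit 0x10c12d1) (.node (nat_lit 0x10c12c9) (.node (nat_lit 0x10c12c5) (.leaf (nat_lit 0x10c12c1) (nat_lit 2050))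
 (.leaf (nat_lit 0x10c12c5) (nat_lit 2306))
) (.node (nat_lit 0x10c12cd) (.leaf (nat_lit 0x10c12c9) (nat_lit 2562))
 (.leaf (nat_lit 0x10c12cd) (nat_lit 2306))
)) (.node (nat_lit 0x10c12d9) (.node (nat_lit 0x10c12d5) (.leaf (nat_lit 0x10c12d1) (nat_lit 2563))
 (.leaf (nat_lit 0x10c12d5) (nat_lit 2307))
) (.node (nat_lit 0x10c12dd) (.leaf (nat_lit 0x10c12d9) (nat_lit 2562))
 (.leaf (nat_lit 0x10c12dd) (nat_lit 2306))
)))) (.node (nat_lit 0x10c13c1) (.node (nat_lit 0x10c1351) (.node (nat_lit 0x10c1349) (.node (nat_lit 0x10c1345) (.leaf (nat_lit 0x10c1341) (nat_lit 1282))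
 (.leaf (nat_lit 0x10c1345) (nat_lit 1538))
) (.node (nat_lit 0x10c134d) (.leaf (nat_lit 0x10c1349) (nat_lit 2306))
 (.leaf (nat_lit 0x10c134d) (nat_lit 2050))
)) (.node (nat_lit 0x10c1359) (.node (nat_lit 0x10c1355) (.leaf (nat_lit 0x10c1351) (nat_lit 2306))
 (.leaf (nat_lit 0x10c1355) (nat_lit 2562))
) (.node (nat_lit 0x10c135d) (.leaf (nat_lit 0x10c1359) (nat_lit 1794))
 (.leaf (nat_lit 0x10c135d) (nat_lit 1538))
))) (.node (nat_lit 0x10c13d1) (.node (nat_lit 0x10c13c9) (.node (nat_lit 0x10c13c5) (.leaf (nat_lit 0x10c13c1) (nat_lit 1026))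
 (.leaf (nat_lit 0x10c13c5) (nat_lit 1282))
) (.node (nat_lit 0x10c13cd) (.leaf (nat_lit 0x10c13c9) (nat_lit 2050))
 (.leaf (nat_lit 0x10c13cd) (nat_lit 1794))
)) (.node (nat_lit 0x10c13d9) (.node (nat_lit 0x10c13d5) (.leaf (nat_lit 0x10c13d1) (nat_lit 2050))
 (.leaf (nat_lit 0x10c13d5) (nat_lit 2306))
) (.node (nat_lit 0x10c13dd) (.leaf (nat_lit 0x10c13d9) (nat_lit 1538))
 (.leaf (nat_lit 0x10c13dd) (nat_lit 1282))
)))))) (.node (nat_lit 0x10c3241) (.node (nat_lit 0x10c3141) (.node (nat_lit 0x10c30c1) (.node (nat_lit 0x10c3051) (.node (nat_lit 0x10c3049) (.node (nat_lit 0x10c3045) (.leaf (nat_lit 0x10c3041) (nat_lit 515))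
 (.leaf (nat_lit 0x10c3045) (nat_lit 771))
) (.node (nat_lit 0x10c304d) (.leaf (nat_lit 0x10c3049) (nat_lit 1027))
 (.leaf (nat_lit 0x10c304d) (nat_lit 771))
)) (.node (nat_lit 0x10c3059) (.node (nat_lit 0x10c3055) (.leaf (nat_lit 0x10c3051) (nat_lit 1538))
 (.leaf (nat_lit 0x10c3055) (nat_lit 1282))
) (.node (nat_lit 0x10c305d) (.leaf (nat_lit 0x10c3059) (nat_lit 1538))
 (.leaf (nat_lit 0x10c305d) (nat_lit 1794))
))) (.node (nat_lit 0x10c30d1) (.node (nat_lit 0x10c30c9) (.node (nat_lit 0x10c30c5) (.leaf (nat_lit 0x10c30c1) (nat_lit 771))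
 (.leaf (nat_lit 0x10c30c5) (nat_lit 1027))
) (.node (nat_lit 0x10c30cd) (.leaf (nat_lit 0x10c30c9) (nat_lit 1283))
 (.leaf (nat_lit 0x10c30cd) (nat_lit 1027))
)) (.node (nat_lit 0x10c30d9) (.node (nat_lit 0x10c30d5) (.leaf (nat_lit 0x10c30d1) (nat_lit 1794))
 (.leaf (nat_lit 0x10c30d5) (nat_lit 1538))
) (.node (nat_lit 0x10c30dd) (.leaf (nat_lit 0x10c30d9) (nat_lit 1794))
 (.leaf (nat_lit 0x10c30dd) (nat_lit 2050))
)))) (.node (nat_lit 0x10c31c1) (.node (nat_lit 0x10c3151) (.node (nat_lit 0x10c3149) (.node (nat_lit 0x10c3145) (.leaf (nat_lit 0x10c3141) (nat_lit 1027))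
 (.leaf (nat_lit 0x10c3145) (nat_lit 1283))
) (.node (nat_lit 0x10c314d) (.leaf (nat_lit 0x10c3149) (nat_lit 1539))
 (.leaf (nat_lit 0x10c314d) (nat_lit 1283))
)) (.node (nat_lit 0x10c3159) (.node (nat_lit 0x10c3155) (.leaf (nat_lit 0x10c3151) (nat_lit 2050))
 (.leaf (nat_lit 0x10c3155) (nat_lit 1794))
) (.node (nat_lit 0x10c315d) (.leaf (nat_lit 0x10c3159) (nat_lit 2050))
 (.leaf (nat_lit 0x10c315d) (nat_lit 2306))
))) (.node (nat_lit 0x10c31d1) (.node (nat_lit 0x10c31c9) (.node (nat_lit 0x10c31c5) (.leaf (nat_lit 0x10c31c1) (nat_lit 771))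
 (.leaf (nat_lit 0x10c31c5) (nat_lit 1027))
) (.node (nat_lit 0x10c31cd) (.leaf (nat_lit 0x10c31c9) (nat_lit 1283))
 (.leaf (nat_lit 0x10c31cd) (nat_lit 1027))
)) (.node (nat_lit 0x10c31d9) (.node (nat_lit 0x10c31d5) (.leaf (nat_lit 0x10c31d1) (nat_lit 1794))
 (.leaf (nat_lit 0x10c31d5) (nat_lit 1538))
) (.node (nat_lit 0x10c31dd) (.leaf (nat_lit 0x10c31d9) (nat_lit 1794))
 (.leaf (nat_lit 0x10c31dd) (nat_lit 2050))
))))) (.node (nat_lit 0x10c3341) (.node (nat_lit 0x10c32c1) (.node (nat_lit 0x10c3251) (.node (nat_lit 0x10c3249) (.node (nat_lit 0x10c3245) (.leaf (nat_lit 0x10c3241) (nat_lit 1538))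
 (.leaf (nat_lit 0x10c3245) (nat_lit 1794))
) (.node (nat_lit 0x10c324d) (.leaf (nat_lit 0x10c3249) (nat_lit 2050))
 (.leaf (nat_lit 0x10c324d) (nat_lit 1794))
)) (.node (nat_lit 0x10c3259) (.node (nat_lit 0x10c3255) (.leaf (nat_lit 0x10c3251) (nat_lit 2050))
 (.leaf (nat_lit 0x10c3255) (nat_lit 1794))
) (.node (nat_lit 0x10c325d) (.leaf (nat_lit 0x10c3259) (nat_lit 2050))
 (.leaf (nat_lit 0x10c325d) (nat_lit 2306))
))) (.node (nat_lit 0x10c32d1) (.node (nat_lit 0x10c32c9) (.node (nat_lit 0x10c32c5) (.leaf (nat_lit 0x10c32c1) (nat_lit 1282))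
 (.leaf (nat_lit 0x10c32c5) (nat_lit 1538))
) (.node (nat_lit 0x10c32cd) (.leaf (nat_lit 0x10c32c9) (nat_lit 1794))
 (.leaf (nat_lit 0x10c32cd) (nat_lit 1538))
)) (.node (nat_lit 0x10c32d9) (.node (nat_lit 0x10c32d5) (.leaf (nat_lit 0x10c32d1) (nat_lit 1794))
 (.leaf (nat_lit 0x10c32d5) (nat_lit 1538))
) (.node (nat_lit 0x10c32dd) (.leaf (nat_lit 0x10c32d9) (nat_lit 1794))
 (.leaf (nat_lit 0x10c32dd) (nat_lit 2050))
)))) (.node (nat_lit 0x10c33c1) (.node (nat_lit 0x10c3351) (.node (nat_lit 0x10c3349) (.node (nat_lit 0x10c3345) (.leaf (nat_lit 0x10c3341) (nat_lit 1538))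
 (.leaf (nat_lit 0x10c3345) (nat_lit 1794))
) (.node (nat_lit 0x10c334d) (.leaf (nat_lit 0x10c3349) (nat_lit 2050))
 (.leaf (nat_lit 0x10c334d) (nat_lit 1794))
)) (.node (nat_lit 0x10c3359) (.node (nat_lit 0x10c3355) (.leaf (nat_lit 0x10c3351) (nat_lit 2050))
 (.leaf (nat_lit 0x10c3355) (nat_lit 1794))
) (.node (nat_lit 0x10c335d) (.leaf (nat_lit 0x10c3359) (nat_lit 2050))
 (.leaf (nat_lit 0x10c335d) (nat_lit 2306))
))) (.node (nat_lit 0x10c33d1) (.node (nat_lit 0x10c33c9) (.node (nat_lit 0x10c33c5) (.leaf (nat_lit 0x10c33c1) (nat_lit 1794))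
 (.leaf (nat_lit 0x10c33c5) (nat_lit 2050))
) (.node (nat_lit 0x10c33cd) (.leaf (nat_lit 0x10c33c9) (nat_lit 2306))
 (.leaf (nat_lit 0x10c33cd) (nat_lit 2050))
)) (.node (nat_lit 0x10c33d9) (.node (nat_lit 0x10c33d5) (.leaf (nat_lit 0x10c33d1) (nat_lit 2306))
 (.leaf (nat_lit 0x10c33d5) (nat_lit 2050))
) (.node (nat_lit 0x10c33dd) (.leaf (nat_lit 0x10c33d9) (nat_lit 2307))
 (.leaf (nat_lit 0x10c33dd) (nat_lit 2051))
))))))) (.node (nat_lit 0x10c7041) (.node (nat_lit 0x10c5241) (.node (nat_lit 0x10c5141) (.node (nat_lit 0x10c50c1) (.node (nat_lit 0x10c5051) (.node (nat_lit 0x10c5049) (.node (nat_lit 0x10c5045) (.leaf (nat_lit 0x10c5041) (nat_lit 770))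
 (.leaf (nat_lit 0x10c5045) (nat_lit 1026))
) (.node (nat_lit 0x10c504d) (.leaf (nat_lit 0x10c5049) (nat_lit 1282))
 (.leaf (nat_lit 0x10c504d) (nat_lit 1026))
)) (.node (nat_lit 0x10c5059) (.node (nat_lit 0x10c5055) (.leaf (nat_lit 0x10c5051) (nat_lit 1280))
 (.leaf (nat_lit 0x10c5055) (nat_lit 1024))
) (.node (nat_lit 0x10c505d) (.leaf (nat_lit 0x10c5059) (nat_lit 1280))
 (.leaf (nat_lit 0x10c505d) (nat_lit 1536))
))) (.node (nat_lit 0x10c50d1) (.node (nat_lit 0x10c50c9) (.node (nat_lit 0x10c50c5) (.leaf (nat_lit 0x10c50c1) (nat_lit 1026))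
 (.leaf (nat_lit 0x10c50c5) (nat_lit 1282))
) (.node (nat_lit 0x10c50cd) (.leaf (nat_lit 0x10c50c9) (nat_lit 1538))
 (.leaf (nat_lit 0x10c50cd) (nat_lit 1282))
)) (.node (nat_lit 0x10c50d9) (.node (nat_lit 0x10c50d5) (.leaf (nat_lit 0x10c50d1) (nat_lit 1536))
 (.leaf (nat_lit 0x10c50d5) (nat_lit 1280))
) (.node (nat_lit 0x10c50dd) (.leaf (nat_lit 0x10c50d9) (nat_lit 1536))
 (.leaf (nat_lit 0x10c50dd) (nat_lit 1792))
)))) (.node (nat_lit 0x10c51c1) (.node (nat_lit 0x10c5151) (.node (nat_lit 0x10c5149) (.node (nat_lit 0x10c5145) (.leaf (nat_lit 0x10c5141) (nat_lit 1282))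
 (.leaf (nat_lit 0x10c5145) (nat_lit 1538))
) (.node (nat_lit 0x10c514d) (.leaf (nat_lit 0x10c5149) (nat_lit 1794))
 (.leaf (nat_lit 0x10c514d) (nat_lit 1538))
)) (.node (nat_lit 0x10c5159) (.node (nat_lit 0x10c5155) (.leaf (nat_lit 0x10c5151) (nat_lit 1792))
 (.leaf (nat_lit 0x10c5155) (nat_lit 1536))
) (.node (nat_lit 0x10c515d) (.leaf (nat_lit 0x10c5159) (nat_lit 1792))
 (.leaf (nat_lit 0x10c515d) (nat_lit 2048))
))) (.node (nat_lit 0x10c51d1) (.node (nat_lit 0x10c51c9) (.node (nat_lit 0x10c51c5) (.leaf (nat_lit 0x10c51c1) (nat_lit 1026))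
 (.leaf (nat_lit 0x10c51c5) (nat_lit 1282))
) (.node (nat_lit 0x10c51cd) (.leaf (nat_lit 0x10c51c9) (nat_lit 1538))
 (.leaf (nat_lit 0x10c51cd) (nat_lit 1282))
)) (.node (nat_lit 0x10c51d9) (.node (nat_lit 0x10c51d5) (.leaf (nat_lit 0x10c51d1) (nat_lit 1536))
 (.leaf (nat_lit 0x10c51d5) (nat_lit 1280))
) (.node (nat_lit 0x10c51dd) (.leaf (nat_lit 0x10c51d9) (nat_lit 1536))
 (.leaf (nat_lit 0x10c51dd) (nat_lit 1792))
))))) (.node (nat_lit 0x10c5341) (.node (nat_lit 0x10c52c1) (.node (nat_lit 0x10c5251) (.node (nat_lit 0x10c5249) (.node (nat_lit 0x10c5245) (.leaf (nat_lit 0x10c5241) (nat_lit 1281))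
 (.leaf (nat_lit 0x10c5245) (nat_lit 1537))
) (.node (nat_lit 0x10c524d) (.leaf (nat_lit 0x10c5249) (nat_lit 1793))
 (.leaf (nat_lit 0x10c524d) (nat_lit 1537))
)) (.node (nat_lit 0x10c5259) (.node (nat_lit 0x10c5255) (.leaf (nat_lit 0x10c5251) (nat_lit 1793))
 (.leaf (nat_lit 0x10c5255) (nat_lit 1537))
) (.node (nat_lit 0x10c525d) (.leaf (nat_lit 0x10c5259) (nat_lit 1793))
 (.leaf (nat_lit 0x10c525d) (nat_lit 2049))
))) (.node (nat_lit 0x10c52d1) (.node (nat_lit 0x10c52c9) (.node (nat_lit 0x10c52c5) (.leaf (nat_lit 0x10c52c1) (nat_lit 1025))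
 (.leaf (nat_lit 0x10c52c5) (nat_lit 1281))
) (.node (nat_lit 0x10c52cd) (.leaf (nat_lit 0x10c52c9) (nat_lit 1537))
 (.leaf (nat_lit 0x10c52cd) (nat_lit 1281))
)) (.node (nat_lit 0x10c52d9) (.node (nat_lit 0x10c52d5) (.leaf (nat_lit 0x10c52d1) (nat_lit 1537))
 (.leaf (nat_lit 0x10c52d5) (nat_lit 1281))
) (.node (nat_lit 0x10c52dd) (.leaf (nat_lit 0x10c52d9) (nat_lit 1537))
 (.leaf (nat_lit 0x10c52dd) (nat_lit 1793))
)))) (.node (nat_lit 0x10c53c1) (.node (nat_lit 0x10c5351) (.node (nat_lit 0x10c5349) (.node (nat_lit 0x10c5345) (.leaf (nat_lit 0x10c5341) (nat_lit 1281))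
 (.leaf (nat_lit 0x10c5345) (nat_lit 1537))
) (.node (nat_lit 0x10c534d) (.leaf (nat_lit 0x10c5349) (nat_lit 1793))
 (.leaf (nat_lit 0x10c534d) (nat_lit 1537))
)) (.node (nat_lit 0x10c5359) (.node (nat_lit 0x10c5355) (.leaf (nat_lit 0x10c5351) (nat_lit 1793))
 (.leaf (nat_lit 0x10c5355) (nat_lit 1537))
) (.node (nat_lit 0x10c535d) (.leaf (nat_lit 0x10c5359) (nat_lit 1793))
 (.leaf (nat_lit 0x10c535d) (nat_lit 2049))
))) (.node (nat_lit 0x10c53d1) (.node (nat_lit 0x10c53c9) (.node (nat_lit 0x10c53c5) (.leaf (nat_lit 0x10c53c1) (nat_lit 1537))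
 (.leaf (nat_lit 0x10c53c5) (nat_lit 1793))
) (.node (nat_lit 0x10c53cd) (.leaf (nat_lit 0x10c53c9) (nat_lit 2049))
 (.leaf (nat_lit 0x10c53cd) (nat_lit 1793))
)) (.node (nat_lit 0x10c53d9) (.node (nat_lit 0x10c53d5) (.leaf (nat_lit 0x10c53d1) (nat_lit 2049))
 (.leaf (nat_lit 0x10c53d5) (nat_lit 1793))
) (.node (nat_lit 0x10c53dd) (.leaf (nat_lit 0x10c53d9) (nat_lit 2051))
 (.leaf (nat_lit 0x10c53dd) (nat_lit 1795))
)))))) (.node (nat_lit 0x10c7241) (.node (nat_lit 0x10c7141) (.node (nat_lit 0x10c70c1) (.node (nat_lit 0x10c7051) (.node (nat_lit 0x10c7049) (.node (nat_lit 0x10c7045) (.leaf (nat_lit 0x10c7041) (nat_lit 514))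
 (.leaf (nat_lit 0x10c7045) (nat_lit 770))
) (.node (nat_lit 0x10c704d) (.leaf (nat_lit 0x10c7049) (nat_lit 1538))
 (.leaf (nat_lit 0x10c704d) (nat_lit 1282))
)) (.node (nat_lit 0x10c7059) (.node (nat_lit 0x10c7055) (.leaf (nat_lit 0x10c7051) (nat_lit 1536))
 (.leaf (nat_lit 0x10c7055) (nat_lit 1792))
) (.node (nat_lit 0x10c705d) (.leaf (nat_lit 0x10c7059) (nat_lit 1024))
 (.leaf (nat_lit 0x10c705d) (nat_lit 768))
))) (.node (nat_lit 0x10c70d1) (.node (nat_lit 0x10c70c9) (.node (nat_lit 0x10c70c5) (.leaf (nat_lit 0x10c70c1) (nat_lit 770))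
 (.leaf (nat_lit 0x10c70c5) (nat_lit 1026))
) (.node (nat_lit 0x10c70cd) (.leaf (nat_lit 0x10c70c9) (nat_lit 1794))
 (.leaf (nat_lit 0x10c70cd) (nat_lit 1538))
)) (.node (nat_lit 0x10c70d9) (.node (nat_lit 0x10c70d5) (.leaf (nat_lit 0x10c70d1) (nat_lit 1792))
 (.leaf (nat_lit 0x10c70d5) (nat_lit 2048))
) (.node (nat_lit 0x10c70dd) (.leaf (nat_lit 0x10c70d9) (nat_lit 1280))
 (.leaf (nat_lit 0x10c70dd) (nat_lit 1024))
)))) (.node (nat_lit 0x10c71c1) (.node (nat_lit 0x10c7151) (.node (nat_lit 0x10c7149) (.node (nat_lit 0x10c7145) (.leaf (nat_lit 0x10c7141) (nat_lit 1538))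
 (.leaf (nat_lit 0x10c7145) (nat_lit 1794))
) (.node (nat_lit 0x10c714d) (.leaf (nat_lit 0x10c7149) (nat_lit 2050))
 (.leaf (nat_lit 0x10c714d) (nat_lit 1794))
)) (.node (nat_lit 0x10c7159) (.node (nat_lit 0x10c7155) (.leaf (nat_lit 0x10c7151) (nat_lit 2048))
 (.leaf (nat_lit 0x10c7155) (nat_lit 2304))
) (.node (nat_lit 0x10c715d) (.leaf (nat_lit 0x10c7159) (nat_lit 2048))
 (.leaf (nat_lit 0x10c715d) (nat_lit 1792))
))) (.node (nat_lit 0x10c71d1) (.node (nat_lit 0x10c71c9) (.node (nat_lit 0x10c71c5) (.leaf (nat_lit 0x10c71c1) (nat_lit 1282))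
 (.leaf (nat_lit 0x10c71c5) (nat_lit 1538))
) (.node (nat_lit 0x10c71cd) (.leaf (nat_lit 0x10c71c9) (nat_lit 1794))
 (.leaf (nat_lit 0x10c71cd) (nat_lit 1538))
)) (.node (nat_lit 0x10c71d9) (.node (nat_lit 0x10c71d5) (.leaf (nat_lit 0x10c71d1) (nat_lit 1792))
 (.leaf (nat_lit 0x10c71d5) (nat_lit 2048))
) (.node (nat_lit 0x10c71dd) (.leaf (nat_lit 0x10c71d9) (nat_lit 1792))
 (.leaf (nat_lit 0x10c71dd) (nat_lit 1536))
))))) (.node (nat_lit 0x10c7341) (.node (nat_lit 0x10c72c1) (.node (nat_lit 0x10c7251) (.node (nat_lit 0x10c7249) (.node (nat_lit 0x10c7245) (.leaf (nat_lit 0x10c7241) (nat_lit 1537))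
 (.leaf (nat_lit 0x10c7245) (nat_lit 1793))
) (.node (nat_lit 0x10c724d) (.leaf (nat_lit 0x10c7249) (nat_lit 2049))
 (.leaf (nat_lit 0x10c724d) (nat_lit 1793))
)) (.node (nat_lit 0x10c7259) (.node (nat_lit 0x10c7255) (.leaf (nat_lit 0x10c7251) (nat_lit 2049))
 (.leaf (nat_lit 0x10c7255) (nat_lit 2305))
) (.node (nat_lit 0x10c725d) (.leaf (nat_lit 0x10c7259) (nat_lit 2049))
 (.leaf (nat_lit 0x10c725d) (nat_lit 1793))
))) (.node (nat_lit 0x10c72d1) (.node (nat_lit 0x10c72c9) (.node (nat_lit 0x10c72c5) (.leaf (nat_lit 0x10c72c1) (nat_lit 1793))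
 (.leaf (nat_lit 0x10c72c5) (nat_lit 2049))
) (.node (nat_lit 0x10c72cd) (.leaf (nat_lit 0x10c72c9) (nat_lit 2305))
 (.leaf (nat_lit 0x10c72cd) (nat_lit 2049))
)) (.node (nat_lit 0x10c72d9) (.node (nat_lit 0x10c72d5) (.leaf (nat_lit 0x10c72d1) (nat_lit 2307))
 (.leaf (nat_lit 0x10c72d5) (nat_lit 2051))
) (.node (nat_lit 0x10c72dd) (.leaf (nat_lit 0x10c72d9) (nat_lit 2305))
 (.leaf (nat_lit 0x10c72dd) (nat_lit 2049))
)))) (.node (nat_lit 0x10c73c1) (.node (nat_lit 0x10c7351) (.node (nat_lit 0x10c7349) (.node (nat_lit 0x10c7345) (.leaf (nat_lit 0x10c7341) (nat_lit 1025))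
 (.leaf (nat_lit 0x10c7345) (nat_lit 1281))
) (.node (nat_lit 0x10c734d) (.leaf (nat_lit 0x10c7349) (nat_lit 2049))
 (.leaf (nat_lit 0x10c734d) (nat_lit 1793))
)) (.node (nat_lit 0x10c7359) (.node (nat_lit 0x10c7355) (.leaf (nat_lit 0x10c7351) (nat_lit 2049))
 (.leaf (nat_lit 0x10c7355) (nat_lit 2305))
) (.node (nat_lit 0x10c735d) (.leaf (nat_lit 0x10c7359) (nat_lit 1537))
 (.leaf (nat_lit 0x10c735d) (nat_lit 1281))
))) (.node (nat_lit 0x10c73d1) (.node (nat_lit 0x10c73c9) (.node (nat_lit 0x10c73c5) (.leaf (nat_lit 0x10c73c1) (nat_lit 769))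
 (.leaf (nat_lit 0x10c73c5) (nat_lit 1025))
) (.node (nat_lit 0x10c73cd) (.leaf (nat_lit 0x10c73c9) (nat_lit 1793))
 (.leaf (nat_lit 0x10c73cd) (nat_lit 1537))
)) (.node (nat_lit 0x10c73d9) (.node (nat_lit 0x10c73d5) (.leaf (nat_lit 0x10c73d1) (nat_lit 1793))
 (.leaf (nat_lit 0x10c73d5) (nat_lit 2049))
) (.node (nat_lit 0x10c73dd) (.leaf (nat_lit 0x10c73d9) (nat_lit 1281))
 (.leaf (nat_lit 0x10c73dd) (nat_lit 1025))
)))))))))

theorem T1_ok : genOK A [(nat_lit 0x1041045), (nat_lit 0x10410c1), (nat_lit 0x1043041), (nat_lit 0x10c1041)] T1_t (nat_lit 512) = true := by decide +kernel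

noncomputable def cm : List ℕ := [(nat_lit 0x10c1043)]

noncomputable def Tm_t : ST :=
(.node (nat_lit 0x10c1043) (.node (nat_lit 0x1045041) (.node (nat_lit 0x1043041) (.node (nat_lit 0x1041241) (.node (nat_lit 0x1041141) (.node (nat_lit 0x10410c1) (.node (nat_lit 0x1041051) (.node (nat_lit 0x1041049) (.node (nat_lit 0x1041045) (.leaf (nat_lit 0x1041041) (nat_lit 0))
 (.leaf (nat_lit 0x1041045) (nat_lit 256))
) (.node (nat_lit 0x104104d) (.leaf (nat_lit 0x1041049) (nat_lit 1026))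
 (.leaf (nat_lit 0x104104d) (nat_lit 770))
)) (.node (nat_lit 0x1041059) (.node (nat_lit 0x1041055) (.leaf (nat_lit 0x1041051) (nat_lit 1027))
 (.leaf (nat_lit 0x1041055) (nat_lit 771))
) (.node (nat_lit 0x104105d) (.leaf (nat_lit 0x1041059) (nat_lit 1539))
 (.leaf (nat_lit 0x104105d) (nat_lit 1283))
))) (.node (nat_lit 0x10410d1) (.node (nat_lit 0x10410c9) (.node (nat_lit 0x10410c5) (.leaf (nat_lit 0x10410c1) (nat_lit 257))
 (.leaf (nat_lit 0x10410c5) (nat_lit 513))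
) (.node (nat_lit 0x10410cd) (.leaf (nat_lit 0x10410c9) (nat_lit 1282))
 (.leaf (nat_lit 0x10410cd) (nat_lit 1026))
)) (.node (nat_lit 0x10410d9) (.node (nat_lit 0x10410d5) (.leaf (nat_lit 0x10410d1) (nat_lit 1283))
 (.leaf (nat_lit 0x10410d5) (nat_lit 1027))
) (.node (nat_lit 0x10410dd) (.leaf (nat_lit 0x10410d9) (nat_lit 1540))
 (.leaf (nat_lit 0x10410dd) (nat_lit 1539))
)))) (.node (nat_lit 0x10411c1) (.node (nat_lit 0x1041151) (.node (nat_lit 0x1041149) (.node (nat_lit 0x1041145) (.leaf (nat_lit 0x1041141) (nat_lit 1026))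
 (.leaf (nat_lit 0x1041145) (nat_lit 1282))
) (.node (nat_lit 0x104114d) (.leaf (nat_lit 0x1041149) (nat_lit 1538))
 (.leaf (nat_lit 0x104114d) (nat_lit 1282))
)) (.node (nat_lit 0x1041159) (.node (nat_lit 0x1041155) (.leaf (nat_lit 0x1041151) (nat_lit 2051))
 (.leaf (nat_lit 0x1041155) (nat_lit 1795))
) (.node (nat_lit 0x104115d) (.leaf (nat_lit 0x1041159) (nat_lit 2051))
 (.leaf (nat_lit 0x104115d) (nat_lit 1795))
))) (.node (nat_lit 0x10411d1) (.node (nat_lit 0x10411c9) (.node (nat_lit 0x10411c5) (.leaf (nat_lit 0x10411c1) (nat_lit 770))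
 (.leaf (nat_lit 0x10411c5) (nat_lit 1026))
) (.node (nat_lit 0x10411cd) (.leaf (nat_lit 0x10411c9) (nat_lit 1282))
 (.leaf (nat_lit 0x10411cd) (nat_lit 1026))
)) (.node (nat_lit 0x10411d9) (.node (nat_lit 0x10411d5) (.leaf (nat_lit 0x10411d1) (nat_lit 1795))
 (.leaf (nat_lit 0x10411d5) (nat_lit 1539))
) (.node (nat_lit 0x10411dd) (.leaf (nat_lit 0x10411d9) (nat_lit 1795))
 (.leaf (nat_lit 0x10411dd) (nat_lit 1539))
))))) (.node (nat_lit 0x1041341) (.node (nat_lit 0x10412c1) (.node (nat_lit 0x1041251) (.node (nat_lit 0x1041249) (.node (nat_lit 0x1041245) (.leaf (nat_lit 0x1041241) (nat_lit 1027))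
 (.leaf (nat_lit 0x1041245) (nat_lit 1283))
) (.node (nat_lit 0x104124d) (.leaf (nat_lit 0x1041249) (nat_lit 2051))
 (.leaf (nat_lit 0x104124d) (nat_lit 1795))
)) (.node (nat_lit 0x1041259) (.node (nat_lit 0x1041255) (.leaf (nat_lit 0x1041251) (nat_lit 1539))
 (.leaf (nat_lit 0x1041255) (nat_lit 1283))
) (.node (nat_lit 0x104125d) (.leaf (nat_lit 0x1041259) (nat_lit 2051))
 (.leaf (nat_lit 0x104125d) (nat_lit 1795))
))) (.node (nat_lit 0x10412d1) (.node (nat_lit 0x10412c9) (.node (nat_lit 0x10412c5) (.leaf (nat_lit 0x10412c1) (nat_lit 771))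
 (.leaf (nat_lit 0x10412c5) (nat_lit 1027))
) (.node (nat_lit 0x10412cd) (.leaf (nat_lit 0x10412c9) (nat_lit 1795))
 (.leaf (nat_lit 0x10412cd) (nat_lit 1539))
)) (.node (nat_lit 0x10412d9) (.node (nat_lit 0x10412d5) (.leaf (nat_lit 0x10412d1) (nat_lit 1283))
 (.leaf (nat_lit 0x10412d5) (nat_lit 1027))
) (.node (nat_lit 0x10412dd) (.leaf (nat_lit 0x10412d9) (nat_lit 1795))
 (.leaf (nat_lit 0x10412dd) (nat_lit 1539))
)))) (.node (nat_lit 0x10413c1) (.node (nat_lit 0x1041351) (.node (nat_lit 0x1041349) (.node (nat_lit 0x1041345) (.leaf (nat_lit 0x1041341) (nat_lit 1539))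
 (.leaf (nat_lit 0x1041345) (nat_lit 1795))
) (.node (nat_lit 0x104134d) (.leaf (nat_lit 0x1041349) (nat_lit 2051))
 (.leaf (nat_lit 0x104134d) (nat_lit 1795))
)) (.node (nat_lit 0x1041359) (.node (nat_lit 0x1041355) (.leaf (nat_lit 0x1041351) (nat_lit 2051))
 (.leaf (nat_lit 0x1041355) (nat_lit 1795))
) (.node (nat_lit 0x104135d) (.leaf (nat_lit 0x1041359) (nat_lit 1540))
 (.leaf (nat_lit 0x104135d) (nat_lit 1540))
))) (.node (nat_lit 0x10413d1) (.node (nat_lit 0x10413c9) (.node (nat_lit 0x10413c5) (.leaf (nat_lit 0x10413c1) (nat_lit 1283))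
 (.leaf (nat_lit 0x10413c5) (nat_lit 1539))
) (.node (nat_lit 0x10413cd) (.leaf (nat_lit 0x10413c9) (nat_lit 1795))
 (.leaf (nat_lit 0x10413cd) (nat_lit 1539))
)) (.node (nat_lit 0x10413d9) (.node (nat_lit 0x10413d5) (.leaf (nat_lit 0x10413d1) (nat_lit 1795))
 (.leaf (nat_lit 0x10413d5) (nat_lit 1539))
) (.node (nat_lit 0x10413dd) (.leaf (nat_lit 0x10413d9) (nat_lit 1540))
 (.leaf (nat_lit 0x10413dd) (nat_lit 1284))
)))))) (.node (nat_lit 0x1043241) (.node (nat_lit 0x1043141) (.node (nat_lit 0x10430c1) (.node (nat_lit 0x1043051) (.node (nat_lit 0x1043049) (.node (nat_lit 0x1043045) (.leaf (nat_lit 0x1043041) (nat_lit 258))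
 (.leaf (nat_lit 0x1043045) (nat_lit 514))
) (.node (nat_lit 0x104304d) (.leaf (nat_lit 0x1043049) (nat_lit 768))
 (.leaf (nat_lit 0x104304d) (nat_lit 512))
)) (.node (nat_lit 0x1043059) (.node (nat_lit 0x1043055) (.leaf (nat_lit 0x1043051) (nat_lit 1283))
 (.leaf (nat_lit 0x1043055) (nat_lit 1027))
) (.node (nat_lit 0x104305d) (.leaf (nat_lit 0x1043059) (nat_lit 1283))
 (.leaf (nat_lit 0x104305d) (nat_lit 1027))
))) (.node (nat_lit 0x10430d1) (.node (nat_lit 0x10430c9) (.node (nat_lit 0x10430c5) (.leaf (nat_lit 0x10430c1) (nat_lit 514))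
 (.leaf (nat_lit 0x10430c5) (nat_lit 770))
) (.node (nat_lit 0x10430cd) (.leaf (nat_lit 0x10430c9) (nat_lit 1024))
 (.leaf (nat_lit 0x10430cd) (nat_lit 768))
)) (.node (nat_lit 0x10430d9) (.node (nat_lit 0x10430d5) (.leaf (nat_lit 0x10430d1) (nat_lit 1539))
 (.leaf (nat_lit 0x10430d5) (nat_lit 1283))
) (.node (nat_lit 0x10430dd) (.leaf (nat_lit 0x10430d9) (nat_lit 1539))
 (.leaf (nat_lit 0x10430dd) (nat_lit 1283))
)))) (.node (nat_lit 0x10431c1) (.node (nat_lit 0x1043151) (.node (nat_lit 0x1043149) (.node (nat_lit 0x1043145) (.leaf (nat_lit 0x1043141) (nat_lit 769))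
 (.leaf (nat_lit 0x1043145) (nat_lit 1025))
) (.node (nat_lit 0x104314d) (.leaf (nat_lit 0x1043149) (nat_lit 1281))
 (.leaf (nat_lit 0x104314d) (nat_lit 1025))
)) (.node (nat_lit 0x1043159) (.node (nat_lit 0x1043155) (.leaf (nat_lit 0x1043151) (nat_lit 1793))
 (.leaf (nat_lit 0x1043155) (nat_lit 1537))
) (.node (nat_lit 0x104315d) (.leaf (nat_lit 0x1043159) (nat_lit 1795))
 (.leaf (nat_lit 0x104315d) (nat_lit 1539))
))) (.node (nat_lit 0x10431d1) (.node (nat_lit 0x10431c9) (.node (nat_lit 0x10431c5) (.leaf (nat_lit 0x10431c1) (nat_lit 513))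
 (.leaf (nat_lit 0x10431c5) (nat_lit 769))
) (.node (nat_lit 0x10431cd) (.leaf (nat_lit 0x10431c9) (nat_lit 1025))
 (.leaf (nat_lit 0x10431cd) (nat_lit 769))
)) (.node (nat_lit 0x10431d9) (.node (nat_lit 0x10431d5) (.leaf (nat_lit 0x10431d1) (nat_lit 1537))
 (.leaf (nat_lit 0x10431d5) (nat_lit 1281))
) (.node (nat_lit 0x10431dd) (.leaf (nat_lit 0x10431d9) (nat_lit 1539))
 (.leaf (nat_lit 0x10431dd) (nat_lit 1283))
))))) (.node (nat_lit 0x1043341) (.node (nat_lit 0x10432c1) (.node (nat_lit 0x1043251) (.node (nat_lit 0x1043249) (.node (nat_lit 0x1043245) (.leaf (nat_lit 0x1043241) (nat_lit 1283))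
 (.leaf (nat_lit 0x1043245) (nat_lit 1539))
) (.node (nat_lit 0x104324d) (.leaf (nat_lit 0x1043249) (nat_lit 1792))
 (.leaf (nat_lit 0x104324d) (nat_lit 1536))
)) (.node (nat_lit 0x1043259) (.node (nat_lit 0x1043255) (.leaf (nat_lit 0x1043251) (nat_lit 1540))
 (.leaf (nat_lit 0x1043255) (nat_lit 1539))
) (.node (nat_lit 0x104325d) (.leaf (nat_lit 0x1043259) (nat_lit 1795))
 (.leaf (nat_lit 0x104325d) (nat_lit 1539))
))) (.node (nat_lit 0x10432d1) (.node (nat_lit 0x10432c9) (.node (nat_lit 0x10432c5) (.leaf (nat_lit 0x10432c1) (nat_lit 1027))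
 (.leaf (nat_lit 0x10432c5) (nat_lit 1283))
) (.node (nat_lit 0x10432cd) (.leaf (nat_lit 0x10432c9) (nat_lit 1536))
 (.leaf (nat_lit 0x10432cd) (nat_lit 1280))
)) (.node (nat_lit 0x10432d9) (.node (nat_lit 0x10432d5) (.leaf (nat_lit 0x10432d1) (nat_lit 1539))
 (.leaf (nat_lit 0x10432d5) (nat_lit 1283))
) (.node (nat_lit 0x10432dd) (.leaf (nat_lit 0x10432d9) (nat_lit 1539))
 (.leaf (nat_lit 0x10432dd) (nat_lit 1283))
)))) (.node (nat_lit 0x10433c1) (.node (nat_lit 0x1043351) (.node (nat_lit 0x1043349) (.node (nat_lit 0x1043345) (.leaf (nat_lit 0x1043341) (nat_lit 1283))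
 (.leaf (nat_lit 0x1043345) (nat_lit 1539))
) (.node (nat_lit 0x104334d) (.leaf (nat_lit 0x1043349) (nat_lit 1795))
 (.leaf (nat_lit 0x104334d) (nat_lit 1539))
)) (.node (nat_lit 0x1043359) (.node (nat_lit 0x1043355) (.leaf (nat_lit 0x1043351) (nat_lit 1795))
 (.leaf (nat_lit 0x1043355) (nat_lit 1539))
) (.node (nat_lit 0x104335d) (.leaf (nat_lit 0x1043359) (nat_lit 1540))
 (.leaf (nat_lit 0x104335d) (nat_lit 1539))
))) (.node (nat_lit 0x10433d1) (.node (nat_lit 0x10433c9) (.node (nat_lit 0x10433c5) (.leaf (nat_lit 0x10433c1) (nat_lit 1027))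
 (.leaf (nat_lit 0x10433c5) (nat_lit 1283))
) (.node (nat_lit 0x10433cd) (.leaf (nat_lit 0x10433c9) (nat_lit 1539))
 (.leaf (nat_lit 0x10433cd) (nat_lit 1283))
)) (.node (nat_lit 0x10433d9) (.node (nat_lit 0x10433d5) (.leaf (nat_lit 0x10433d1) (nat_lit 1539))
 (.leaf (nat_lit 0x10433d5) (nat_lit 1283))
) (.node (nat_lit 0x10433dd) (.leaf (nat_lit 0x10433d9) (nat_lit 1539))
 (.leaf (nat_lit 0x10433dd) (nat_lit 1283))
))))))) (.node (nat_lit 0x1047041) (.node (nat_lit 0x1045241) (.node (nat_lit 0x1045141) (.node (nat_lit 0x10450c1) (.node (nat_lit 0x1045051) (.node (nat_lit 0x1045049) (.node (nat_lit 0x1045045) (.leaf (nat_lit 0x1045041) (nat_lit 259))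
 (.leaf (nat_lit 0x1045045) (nat_lit 515))
) (.node (nat_lit 0x104504d) (.leaf (nat_lit 0x1045049) (nat_lit 1283))
 (.leaf (nat_lit 0x104504d) (nat_lit 1027))
)) (.node (nat_lit 0x1045059) (.node (nat_lit 0x1045055) (.leaf (nat_lit 0x1045051) (nat_lit 768))
 (.leaf (nat_lit 0x1045055) (nat_lit 512))
) (.node (nat_lit 0x104505d) (.leaf (nat_lit 0x1045059) (nat_lit 1282))
 (.leaf (nat_lit 0x104505d) (nat_lit 1026))
))) (.node (nat_lit 0x10450d1) (.node (nat_lit 0x10450c9) (.node (nat_lit 0x10450c5) (.leaf (nat_lit 0x10450c1) (nat_lit 515))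
 (.leaf (nat_lit 0x10450c5) (nat_lit 771))
) (.node (nat_lit 0x10450cd) (.leaf (nat_lit 0x10450c9) (nat_lit 1539))
 (.leaf (nat_lit 0x10450cd) (nat_lit 1283))
)) (.node (nat_lit 0x10450d9) (.node (nat_lit 0x10450d5) (.leaf (nat_lit 0x10450d1) (nat_lit 1024))
 (.leaf (nat_lit 0x10450d5) (nat_lit 768))
) (.node (nat_lit 0x10450dd) (.leaf (nat_lit 0x10450d9) (nat_lit 1538))
 (.leaf (nat_lit 0x10450dd) (nat_lit 1282))
)))) (.node (nat_lit 0x10451c1) (.node (nat_lit 0x1045151) (.node (nat_lit 0x1045149) (.node (nat_lit 0x1045145) (.leaf (nat_lit 0x1045141) (nat_lit 1283))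
 (.leaf (nat_lit 0x1045145) (nat_lit 1539))
) (.node (nat_lit 0x104514d) (.leaf (nat_lit 0x1045149) (nat_lit 1795))
 (.leaf (nat_lit 0x104514d) (nat_lit 1539))
)) (.node (nat_lit 0x1045159) (.node (nat_lit 0x1045155) (.leaf (nat_lit 0x1045151) (nat_lit 1792))
 (.leaf (nat_lit 0x1045155) (nat_lit 1536))
) (.node (nat_lit 0x104515d) (.leaf (nat_lit 0x1045159) (nat_lit 1794))
 (.leaf (nat_lit 0x104515d) (nat_lit 1538))
))) (.node (nat_lit 0x10451d1) (.node (nat_lit 0x10451c9) (.node (nat_lit 0x10451c5) (.leaf (nat_lit 0x10451c1) (nat_lit 1027))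
 (.leaf (nat_lit 0x10451c5) (nat_lit 1283))
) (.node (nat_lit 0x10451cd) (.leaf (nat_lit 0x10451c9) (nat_lit 1539))
 (.leaf (nat_lit 0x10451cd) (nat_lit 1283))
)) (.node (nat_lit 0x10451d9) (.node (nat_lit 0x10451d5) (.leaf (nat_lit 0x10451d1) (nat_lit 1536))
 (.leaf (nat_lit 0x10451d5) (nat_lit 1280))
) (.node (nat_lit 0x10451dd) (.leaf (nat_lit 0x10451d9) (nat_lit 1538))
 (.leaf (nat_lit 0x10451dd) (nat_lit 1282))
))))) (.node (nat_lit 0x1045341) (.node (nat_lit 0x10452c1) (.node (nat_lit 0x1045251) (.node (nat_lit 0x1045249) (.node (nat_lit 0x1045245) (.leaf (nat_lit 0x1045241) (nat_lit 769))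
 (.leaf (nat_lit 0x1045245) (nat_lit 1025))
) (.node (nat_lit 0x104524d) (.leaf (nat_lit 0x1045249) (nat_lit 1793))
 (.leaf (nat_lit 0x104524d) (nat_lit 1537))
)) (.node (nat_lit 0x1045259) (.node (nat_lit 0x1045255) (.leaf (nat_lit 0x1045251) (nat_lit 1281))
 (.leaf (nat_lit 0x1045255) (nat_lit 1025))
) (.node (nat_lit 0x104525d) (.leaf (nat_lit 0x1045259) (nat_lit 1793))
 (.leaf (nat_lit 0x104525d) (nat_lit 1537))
))) (.node (nat_lit 0x10452d1) (.node (nat_lit 0x10452c9) (.node (nat_lit 0x10452c5) (.leaf (nat_lit 0x10452c1) (nat_lit 513))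
 (.leaf (nat_lit 0x10452c5) (nat_lit 769))
) (.node (nat_lit 0x10452cd) (.leaf (nat_lit 0x10452c9) (nat_lit 1537))
 (.leaf (nat_lit 0x10452cd) (nat_lit 1281))
)) (.node (nat_lit 0x10452d9) (.node (nat_lit 0x10452d5) (.leaf (nat_lit 0x10452d1) (nat_lit 1025))
 (.leaf (nat_lit 0x10452d5) (nat_lit 769))
) (.node (nat_lit 0x10452dd) (.leaf (nat_lit 0x10452d9) (nat_lit 1537))
 (.leaf (nat_lit 0x10452dd) (nat_lit 1281))
)))) (.node (nat_lit 0x10453c1) (.node (nat_lit 0x1045351) (.node (nat_lit 0x1045349) (.node (nat_lit 0x1045345) (.leaf (nat_lit 0x1045341) (nat_lit 1282))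
 (.leaf (nat_lit 0x1045345) (nat_lit 1538))
) (.node (nat_lit 0x104534d) (.leaf (nat_lit 0x1045349) (nat_lit 1794))
 (.leaf (nat_lit 0x104534d) (nat_lit 1538))
)) (.node (nat_lit 0x1045359) (.node (nat_lit 0x1045355) (.leaf (nat_lit 0x1045351) (nat_lit 1792))
 (.leaf (nat_lit 0x1045355) (nat_lit 1536))
) (.node (nat_lit 0x104535d) (.leaf (nat_lit 0x1045359) (nat_lit 1540))
 (.leaf (nat_lit 0x104535d) (nat_lit 1538))
))) (.node (nat_lit 0x10453d1) (.node (nat_lit 0x10453c9) (.node (nat_lit 0x10453c5) (.leaf (nat_lit 0x10453c1) (nat_lit 1026))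
 (.leaf (nat_lit 0x10453c5) (nat_lit 1282))
) (.node (nat_lit 0x10453cd) (.leaf (nat_lit 0x10453c9) (nat_lit 1538))
 (.leaf (nat_lit 0x10453cd) (nat_lit 1282))
)) (.node (nat_lit 0x10453d9) (.node (nat_lit 0x10453d5) (.leaf (nat_lit 0x10453d1) (nat_lit 1536))
 (.leaf (nat_lit 0x10453d5) (nat_lit 1280))
) (.node (nat_lit 0x10453dd) (.leaf (nat_lit 0x10453d9) (nat_lit 1538))
 (.leaf (nat_lit 0x10453dd) (nat_lit 1282))
)))))) (.node (nat_lit 0x1047241) (.node (nat_lit 0x1047141) (.node (nat_lit 0x10470c1) (.node (nat_lit 0x1047051) (.node (nat_lit 0x1047049) (.node (nat_lit 0x1047045) (.leaf (nat_lit 0x1047041) (nat_lit 515))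
 (.leaf (nat_lit 0x1047045) (nat_lit 771))
) (.node (nat_lit 0x104704d) (.leaf (nat_lit 0x1047049) (nat_lit 1027))
 (.leaf (nat_lit 0x104704d) (nat_lit 771))
)) (.node (nat_lit 0x1047059) (.node (nat_lit 0x1047055) (.leaf (nat_lit 0x1047051) (nat_lit 1026))
 (.leaf (nat_lit 0x1047055) (nat_lit 770))
) (.node (nat_lit 0x104705d) (.leaf (nat_lit 0x1047059) (nat_lit 1024))
 (.leaf (nat_lit 0x104705d) (nat_lit 768))
))) (.node (nat_lit 0x10470d1) (.node (nat_lit 0x10470c9) (.node (nat_lit 0x10470c5) (.leaf (nat_lit 0x10470c1) (nat_lit 771))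
 (.leaf (nat_lit 0x10470c5) (nat_lit 1027))
) (.node (nat_lit 0x10470cd) (.leaf (nat_lit 0x10470c9) (nat_lit 1283))
 (.leaf (nat_lit 0x10470cd) (nat_lit 1027))
)) (.node (nat_lit 0x10470d9) (.node (nat_lit 0x10470d5) (.leaf (nat_lit 0x10470d1) (nat_lit 1282))
 (.leaf (nat_lit 0x10470d5) (nat_lit 1026))
) (.node (nat_lit 0x10470dd) (.leaf (nat_lit 0x10470d9) (nat_lit 1280))
 (.leaf (nat_lit 0x10470dd) (nat_lit 1024))
)))) (.node (nat_lit 0x10471c1) (.node (nat_lit 0x1047151) (.node (nat_lit 0x1047149) (.node (nat_lit 0x1047145) (.leaf (nat_lit 0x1047141) (nat_lit 1027))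
 (.leaf (nat_lit 0x1047145) (nat_lit 1283))
) (.node (nat_lit 0x104714d) (.leaf (nat_lit 0x1047149) (nat_lit 1539))
 (.leaf (nat_lit 0x104714d) (nat_lit 1283))
)) (.node (nat_lit 0x1047159) (.node (nat_lit 0x1047155) (.leaf (nat_lit 0x1047151) (nat_lit 1537))
 (.leaf (nat_lit 0x1047155) (nat_lit 1281))
) (.node (nat_lit 0x104715d) (.leaf (nat_lit 0x1047159) (nat_lit 1536))
 (.leaf (nat_lit 0x104715d) (nat_lit 1280))
))) (.node (nat_lit 0x10471d1) (.node (nat_lit 0x10471c9) (.node (nat_lit 0x10471c5) (.leaf (nat_lit 0x10471c1) (nat_lit 771))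
 (.leaf (nat_lit 0x10471c5) (nat_lit 1027))
) (.node (nat_lit 0x10471cd) (.leaf (nat_lit 0x10471c9) (nat_lit 1283))
 (.leaf (nat_lit 0x10471cd) (nat_lit 1027))
)) (.node (nat_lit 0x10471d9) (.node (nat_lit 0x10471d5) (.leaf (nat_lit 0x10471d1) (nat_lit 1280))
 (.leaf (nat_lit 0x10471d5) (nat_lit 1536))
) (.node (nat_lit 0x10471dd) (.leaf (nat_lit 0x10471d9) (nat_lit 1280))
 (.leaf (nat_lit 0x10471dd) (nat_lit 1024))
))))) (.node (nat_lit 0x1047341) (.node (nat_lit 0x10472c1) (.node (nat_lit 0x1047251) (.node (nat_lit 0x1047249) (.node (nat_lit 0x1047245) (.leaf (nat_lit 0x1047241) (nat_lit 1026))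
 (.leaf (nat_lit 0x1047245) (nat_lit 1282))
) (.node (nat_lit 0x104724d) (.leaf (nat_lit 0x1047249) (nat_lit 1537))
 (.leaf (nat_lit 0x104724d) (nat_lit 1281))
)) (.node (nat_lit 0x1047259) (.node (nat_lit 0x1047255) (.leaf (nat_lit 0x1047251) (nat_lit 1538))
 (.leaf (nat_lit 0x1047255) (nat_lit 1282))
) (.node (nat_lit 0x104725d) (.leaf (nat_lit 0x1047259) (nat_lit 1536))
 (.leaf (nat_lit 0x104725d) (nat_lit 1280))
))) (.node (nat_lit 0x10472d1) (.node (nat_lit 0x10472c9) (.node (nat_lit 0x10472c5) (.leaf (nat_lit 0x10472c1) (nat_lit 770))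
 (.leaf (nat_lit 0x10472c5) (nat_lit 1026))
) (.node (nat_lit 0x10472cd) (.leaf (nat_lit 0x10472c9) (nat_lit 1280))
 (.leaf (nat_lit 0x10472cd) (nat_lit 1536))
)) (.node (nat_lit 0x10472d9) (.node (nat_lit 0x10472d5) (.leaf (nat_lit 0x10472d1) (nat_lit 1282))
 (.leaf (nat_lit 0x10472d5) (nat_lit 1026))
) (.node (nat_lit 0x10472dd) (.leaf (nat_lit 0x10472d9) (nat_lit 1280))
 (.leaf (nat_lit 0x10472dd) (nat_lit 1024))
)))) (.node (nat_lit 0x10473c1) (.node (nat_lit 0x1047351) (.node (nat_lit 0x1047349) (.node (nat_lit 0x1047345) (.leaf (nat_lit 0x1047341) (nat_lit 1025))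
 (.leaf (nat_lit 0x1047345) (nat_lit 1281))
) (.node (nat_lit 0x104734d) (.leaf (nat_lit 0x1047349) (nat_lit 1537))
 (.leaf (nat_lit 0x104734d) (nat_lit 1281))
)) (.node (nat_lit 0x1047359) (.node (nat_lit 0x1047355) (.leaf (nat_lit 0x1047351) (nat_lit 1537))
 (.leaf (nat_lit 0x1047355) (nat_lit 1281))
) (.node (nat_lit 0x104735d) (.leaf (nat_lit 0x1047359) (nat_lit 1284))
 (.leaf (nat_lit 0x104735d) (nat_lit 1281))
))) (.node (nat_lit 0x10473d1) (.node (nat_lit 0x10473c9) (.node (nat_lit 0x10473c5) (.leaf (nat_lit 0x10473c1) (nat_lit 769))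
 (.leaf (nat_lit 0x10473c5) (nat_lit 1025))
) (.node (nat_lit 0x10473cd) (.leaf (nat_lit 0x10473c9) (nat_lit 1281))
 (.leaf (nat_lit 0x10473cd) (nat_lit 1025))
)) (.node (nat_lit 0x10473d9) (.node (nat_lit 0x10473d5) (.leaf (nat_lit 0x10473d1) (nat_lit 1281))
 (.leaf (nat_lit 0x10473d5) (nat_lit 1025))
) (.node (nat_lit 0x10473dd) (.leaf (nat_lit 0x10473d9) (nat_lit 1281))
 (.leaf (nat_lit 0x10473dd) (nat_lit 1025))
)))))))) (.node (nat_lit 0x10c5043) (.node (nat_lit 0x10c3043) (.node (nat_lit 0x10c1243) (.node (nat_lit 0x10c1143) (.node (nat_lit 0x10c10c3) (.node (nat_lit 0x10c1053) (.node (nat_lit 0x10c104b) (.node (nat_lit 0x10c1047) (.leaf (nat_lit 0x10c1043) (nat_lit 260))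
 (.leaf (nat_lit 0x10c1047) (nat_lit 516))
) (.node (nat_lit 0x10c104f) (.leaf (nat_lit 0x10c104b) (nat_lit 1284))
 (.leaf (nat_lit 0x10c104f) (nat_lit 1028))
)) (.node (nat_lit 0x10c105b) (.node (nat_lit 0x10c1057) (.leaf (nat_lit 0x10c1053) (nat_lit 1284))
 (.leaf (nat_lit 0x10c1057) (nat_lit 1028))
) (.node (nat_lit 0x10c105f) (.leaf (nat_lit 0x10c105b) (nat_lit 1282))
 (.leaf (nat_lit 0x10c105f) (nat_lit 1026))
))) (.node (nat_lit 0x10c10d3) (.node (nat_lit 0x10c10cb) (.node (nat_lit 0x10c10c7) (.leaf (nat_lit 0x10c10c3) (nat_lit 513))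
 (.leaf (nat_lit 0x10c10c7) (nat_lit 516))
) (.node (nat_lit 0x10c10cf) (.leaf (nat_lit 0x10c10cb) (nat_lit 1284))
 (.leaf (nat_lit 0x10c10cf) (nat_lit 1281))
)) (.node (nat_lit 0x10c10db) (.node (nat_lit 0x10c10d7) (.leaf (nat_lit 0x10c10d3) (nat_lit 1284))
 (.leaf (nat_lit 0x10c10d7) (nat_lit 1281))
) (.node (nat_lit 0x10c10df) (.leaf (nat_lit 0x10c10db) (nat_lit 1282))
 (.leaf (nat_lit 0x10c10df) (nat_lit 1282))
)))) (.node (nat_lit 0x10c11c3) (.node (nat_lit 0x10c1153) (.node (nat_lit 0x10c114b) (.node (nat_lit 0x10c1147) (.leaf (nat_lit 0x10c1143) (nat_lit 1537))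
 (.leaf (nat_lit 0x10c1147) (nat_lit 1540))
) (.node (nat_lit 0x10c114f) (.leaf (nat_lit 0x10c114b) (nat_lit 1284))
 (.leaf (nat_lit 0x10c114f) (nat_lit 1281))
)) (.node (nat_lit 0x10c115b) (.node (nat_lit 0x10c1157) (.leaf (nat_lit 0x10c1153) (nat_lit 1794))
 (.leaf (nat_lit 0x10c1157) (nat_lit 1538))
) (.node (nat_lit 0x10c115f) (.leaf (nat_lit 0x10c115b) (nat_lit 1794))
 (.leaf (nat_lit 0x10c115f) (nat_lit 1795))
))) (.node (nat_lit 0x10c11d3) (.node (nat_lit 0x10c11cb) (.node (nat_lit 0x10c11c7) (.leaf (nat_lit 0x10c11c3) (nat_lit 1284))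
 (.leaf (nat_lit 0x10c11c7) (nat_lit 1540))
) (.node (nat_lit 0x10c11cf) (.leaf (nat_lit 0x10c11cb) (nat_lit 1284))
 (.leaf (nat_lit 0x10c11cf) (nat_lit 1028))
)) (.node (nat_lit 0x10c11db) (.node (nat_lit 0x10c11d7) (.leaf (nat_lit 0x10c11d3) (nat_lit 1538))
 (.leaf (nat_lit 0x10c11d7) (nat_lit 1539))
) (.node (nat_lit 0x10c11df) (.leaf (nat_lit 0x10c11db) (nat_lit 1539))
 (.leaf (nat_lit 0x10c11df) (nat_lit 1538))
))))) (.node (nat_lit 0x10c1343) (.node (nat_lit 0x10c12c3) (.node (nat_lit 0x10c1253) (.node (nat_lit 0x10c124b) (.node (nat_lit 0x10c1247) (.leaf (nat_lit 0x10c1243) (nat_lit 1281))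
 (.leaf (nat_lit 0x10c1247) (nat_lit 1283))
) (.node (nat_lit 0x10c124f) (.leaf (nat_lit 0x10c124b) (nat_lit 1794))
 (.leaf (nat_lit 0x10c124f) (nat_lit 1538))
)) (.node (nat_lit 0x10c125b) (.node (nat_lit 0x10c1257) (.leaf (nat_lit 0x10c1253) (nat_lit 1284))
 (.leaf (nat_lit 0x10c1257) (nat_lit 1281))
) (.node (nat_lit 0x10c125f) (.leaf (nat_lit 0x10c125b) (nat_lit 2050))
 (.leaf (nat_lit 0x10c125f) (nat_lit 1794))
))) (.node (nat_lit 0x10c12d3) (.node (nat_lit 0x10c12cb) (.node (nat_lit 0x10c12c7) (.leaf (nat_lit 0x10c12c3) (nat_lit 1027))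
 (.leaf (nat_lit 0x10c12c7) (nat_lit 1283))
) (.node (nat_lit 0x10c12cf) (.leaf (nat_lit 0x10c12cb) (nat_lit 1538))
 (.leaf (nat_lit 0x10c12cf) (nat_lit 1539))
)) (.node (nat_lit 0x10c12db) (.node (nat_lit 0x10c12d7) (.leaf (nat_lit 0x10c12d3) (nat_lit 1284))
 (.leaf (nat_lit 0x10c12d7) (nat_lit 1028))
) (.node (nat_lit 0x10c12df) (.leaf (nat_lit 0x10c12db) (nat_lit 1796))
 (.leaf (nat_lit 0x10c12df) (nat_lit 1795))
)))) (.node (nat_lit 0x10c13c3) (.node (nat_lit 0x10c1353) (.node (nat_lit 0x10c134b) (.node (nat_lit 0x10c1347) (.leaf (nat_lit 0x10c1343) (nat_lit 1282))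
 (.leaf (nat_lit 0x10c1347) (nat_lit 1282))
) (.node (nat_lit 0x10c134f) (.leaf (nat_lit 0x10c134b) (nat_lit 1795))
 (.leaf (nat_lit 0x10c134f) (nat_lit 1539))
)) (.node (nat_lit 0x10c135b) (.node (nat_lit 0x10c1357) (.leaf (nat_lit 0x10c1353) (nat_lit 1794))
 (.leaf (nat_lit 0x10c1357) (nat_lit 1794))
) (.node (nat_lit 0x10c135f) (.leaf (nat_lit 0x10c135b) (nat_lit 1538))
 (.leaf (nat_lit 0x10c135f) (nat_lit 1537))
))) (.node (nat_lit 0x10c13d3) (.node (nat_lit 0x10c13cb) (.node (nat_lit 0x10c13c7) (.leaf (nat_lit 0x10c13c3) (nat_lit 1026))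
 (.leaf (nat_lit 0x10c13c7) (nat_lit 1282))
) (.node (nat_lit 0x10c13cf) (.leaf (nat_lit 0x10c13cb) (nat_lit 1538))
 (.leaf (nat_lit 0x10c13cf) (nat_lit 1538))
)) (.node (nat_lit 0x10c13db) (.node (nat_lit 0x10c13d7) (.leaf (nat_lit 0x10c13d3) (nat_lit 1538))
 (.leaf (nat_lit 0x10c13d7) (nat_lit 1538))
) (.node (nat_lit 0x10c13df) (.leaf (nat_lit 0x10c13db) (nat_lit 1538))
 (.leaf (nat_lit 0x10c13df) (nat_lit 1282))
)))))) (.node (nat_lit 0x10c3243) (.node (nat_lit 0x10c3143) (.node (nat_lit 0x10c30c3) (.node (nat_lit 0x10c3053) (.node (nat_lit 0x10c304b) (.node (nat_lit 0x10c3047) (.leaf (nat_lit 0x10c3043) (nat_lit 516))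
 (.leaf (nat_lit 0x10c3047) (nat_lit 772))
) (.node (nat_lit 0x10c304f) (.leaf (nat_lit 0x10c304b) (nat_lit 1028))
 (.leaf (nat_lit 0x10c304f) (nat_lit 772))
)) (.node (nat_lit 0x10c305b) (.node (nat_lit 0x10c3057) (.leaf (nat_lit 0x10c3053) (nat_lit 1282))
 (.leaf (nat_lit 0x10c3057) (nat_lit 1026))
) (.node (nat_lit 0x10c305f) (.leaf (nat_lit 0x10c305b) (nat_lit 1283))
 (.leaf (nat_lit 0x10c305f) (nat_lit 1027))
))) (.node (nat_lit 0x10c30d3) (.node (nat_lit 0x10c30cb) (.node (nat_lit 0x10c30c7) (.leaf (nat_lit 0x10c30c3) (nat_lit 1028))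
 (.leaf (nat_lit 0x10c30c7) (nat_lit 772))
) (.node (nat_lit 0x10c30cf) (.leaf (nat_lit 0x10c30cb) (nat_lit 1028))
 (.leaf (nat_lit 0x10c30cf) (nat_lit 1284))
)) (.node (nat_lit 0x10c30db) (.node (nat_lit 0x10c30d7) (.leaf (nat_lit 0x10c30d3) (nat_lit 1282))
 (.leaf (nat_lit 0x10c30d7) (nat_lit 1282))
) (.node (nat_lit 0x10c30df) (.leaf (nat_lit 0x10c30db) (nat_lit 1283))
 (.leaf (nat_lit 0x10c30df) (nat_lit 1283))
)))) (.node (nat_lit 0x10c31c3) (.node (nat_lit 0x10c3153) (.node (nat_lit 0x10c314b) (.node (nat_lit 0x10c3147) (.leaf (nat_lit 0x10c3143) (nat_lit 1281))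
 (.leaf (nat_lit 0x10c3147) (nat_lit 1025))
) (.node (nat_lit 0x10c314f) (.leaf (nat_lit 0x10c314b) (nat_lit 1028))
 (.leaf (nat_lit 0x10c314f) (nat_lit 1284))
)) (.node (nat_lit 0x10c315b) (.node (nat_lit 0x10c3157) (.leaf (nat_lit 0x10c3153) (nat_lit 1537))
 (.leaf (nat_lit 0x10c3157) (nat_lit 1539))
) (.node (nat_lit 0x10c315f) (.leaf (nat_lit 0x10c315b) (nat_lit 1537))
 (.leaf (nat_lit 0x10c315f) (nat_lit 1537))
))) (.node (nat_lit 0x10c31d3) (.node (nat_lit 0x10c31cb) (.node (nat_lit 0x10c31c7) (.leaf (nat_lit 0x10c31c3) (nat_lit 769))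
 (.leaf (nat_lit 0x10c31c7) (nat_lit 1025))
) (.node (nat_lit 0x10c31cf) (.leaf (nat_lit 0x10c31cb) (nat_lit 1028))
 (.leaf (nat_lit 0x10c31cf) (nat_lit 772))
)) (.node (nat_lit 0x10c31db) (.node (nat_lit 0x10c31d7) (.leaf (nat_lit 0x10c31d3) (nat_lit 1537))
 (.leaf (nat_lit 0x10c31d7) (nat_lit 1281))
) (.node (nat_lit 0x10c31df) (.leaf (nat_lit 0x10c31db) (nat_lit 1537))
 (.leaf (nat_lit 0x10c31df) (nat_lit 1281))
))))) (.node (nat_lit 0x10c3343) (.node (nat_lit 0x10c32c3) (.node (nat_lit 0x10c3253) (.node (nat_lit 0x10c324b) (.node (nat_lit 0x10c3247) (.leaf (nat_lit 0x10c3243) (nat_lit 1282))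
 (.leaf (nat_lit 0x10c3247) (nat_lit 1282))
) (.node (nat_lit 0x10c324f) (.leaf (nat_lit 0x10c324b) (nat_lit 1536))
 (.leaf (nat_lit 0x10c324f) (nat_lit 1539))
)) (.node (nat_lit 0x10c325b) (.node (nat_lit 0x10c3257) (.leaf (nat_lit 0x10c3253) (nat_lit 1282))
 (.leaf (nat_lit 0x10c3257) (nat_lit 1538))
) (.node (nat_lit 0x10c325f) (.leaf (nat_lit 0x10c325b) (nat_lit 1792))
 (.leaf (nat_lit 0x10c325f) (nat_lit 1536))
))) (.node (nat_lit 0x10c32d3) (.node (nat_lit 0x10c32cb) (.node (nat_lit 0x10c32c7) (.leaf (nat_lit 0x10c32c3) (nat_lit 1026))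
 (.leaf (nat_lit 0x10c32c7) (nat_lit 1282))
) (.node (nat_lit 0x10c32cf) (.leaf (nat_lit 0x10c32cb) (nat_lit 1536))
 (.leaf (nat_lit 0x10c32cf) (nat_lit 1280))
)) (.node (nat_lit 0x10c32db) (.node (nat_lit 0x10c32d7) (.leaf (nat_lit 0x10c32d3) (nat_lit 1282))
 (.leaf (nat_lit 0x10c32d7) (nat_lit 1026))
) (.node (nat_lit 0x10c32df) (.leaf (nat_lit 0x10c32db) (nat_lit 1280))
 (.leaf (nat_lit 0x10c32df) (nat_lit 1536))
)))) (.node (nat_lit 0x10c33c3) (.node (nat_lit 0x10c3353) (.node (nat_lit 0x10c334b) (.node (nat_lit 0x10c3347) (.leaf (nat_lit 0x10c3343) (nat_lit 1281))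
 (.leaf (nat_lit 0x10c3347) (nat_lit 1283))
) (.node (nat_lit 0x10c334f) (.leaf (nat_lit 0x10c334b) (nat_lit 1536))
 (.leaf (nat_lit 0x10c334f) (nat_lit 1538))
)) (.node (nat_lit 0x10c335b) (.node (nat_lit 0x10c3357) (.leaf (nat_lit 0x10c3353) (nat_lit 1537))
 (.leaf (nat_lit 0x10c3357) (nat_lit 1281))
) (.node (nat_lit 0x10c335f) (.leaf (nat_lit 0x10c335b) (nat_lit 1540))
 (.leaf (nat_lit 0x10c335f) (nat_lit 1539))
))) (.node (nat_lit 0x10c33d3) (.node (nat_lit 0x10c33cb) (.node (nat_lit 0x10c33c7) (.leaf (nat_lit 0x10c33c3) (nat_lit 1027))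
 (.leaf (nat_lit 0x10c33c7) (nat_lit 1283))
) (.node (nat_lit 0x10c33cf) (.leaf (nat_lit 0x10c33cb) (nat_lit 1536))
 (.leaf (nat_lit 0x10c33cf) (nat_lit 1280))
)) (.node (nat_lit 0x10c33db) (.node (nat_lit 0x10c33d7) (.leaf (nat_lit 0x10c33d3) (nat_lit 1537))
 (.leaf (nat_lit 0x10c33d7) (nat_lit 1539))
) (.node (nat_lit 0x10c33df) (.leaf (nat_lit 0x10c33db) (nat_lit 1540))
 (.leaf (nat_lit 0x10c33df) (nat_lit 1284))
))))))) (.node (nat_lit 0x10c7043) (.node (nat_lit 0x10c5243) (.node (nat_lit 0x10c5143) (.node (nat_lit 0x10c50c3) (.node (nat_lit 0x10c5053) (.node (nat_lit 0x10c504b) (.node (nat_lit 0x10c5047) (.leaf (nat_lit 0x10c5043) (nat_lit 516))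
 (.leaf (nat_lit 0x10c5047) (nat_lit 772))
) (.node (nat_lit 0x10c504f) (.leaf (nat_lit 0x10c504b) (nat_lit 1282))
 (.leaf (nat_lit 0x10c504f) (nat_lit 1026))
)) (.node (nat_lit 0x10c505b) (.node (nat_lit 0x10c5057) (.leaf (nat_lit 0x10c5053) (nat_lit 1028))
 (.leaf (nat_lit 0x10c5057) (nat_lit 772))
) (.node (nat_lit 0x10c505f) (.leaf (nat_lit 0x10c505b) (nat_lit 1280))
 (.leaf (nat_lit 0x10c505f) (nat_lit 1284))
))) (.node (nat_lit 0x10c50d3) (.node (nat_lit 0x10c50cb) (.node (nat_lit 0x10c50c7) (.leaf (nat_lit 0x10c50c3) (nat_lit 771))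
 (.leaf (nat_lit 0x10c50c7) (nat_lit 772))
) (.node (nat_lit 0x10c50cf) (.leaf (nat_lit 0x10c50cb) (nat_lit 1282))
 (.leaf (nat_lit 0x10c50cf) (nat_lit 1538))
)) (.node (nat_lit 0x10c50db) (.node (nat_lit 0x10c50d7) (.leaf (nat_lit 0x10c50d3) (nat_lit 1028))
 (.leaf (nat_lit 0x10c50d7) (nat_lit 1024))
) (.node (nat_lit 0x10c50df) (.leaf (nat_lit 0x10c50db) (nat_lit 1540))
 (.leaf (nat_lit 0x10c50df) (nat_lit 1536))
)))) (.node (nat_lit 0x10c51c3) (.node (nat_lit 0x10c5153) (.node (nat_lit 0x10c514b) (.node (nat_lit 0x10c5147) (.leaf (nat_lit 0x10c5143) (nat_lit 1538))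
 (.leaf (nat_lit 0x10c5147) (nat_lit 1282))
) (.node (nat_lit 0x10c514f) (.leaf (nat_lit 0x10c514b) (nat_lit 1282))
 (.leaf (nat_lit 0x10c514f) (nat_lit 1538))
)) (.node (nat_lit 0x10c515b) (.node (nat_lit 0x10c5157) (.leaf (nat_lit 0x10c5153) (nat_lit 1536))
 (.leaf (nat_lit 0x10c5157) (nat_lit 1792))
) (.node (nat_lit 0x10c515f) (.leaf (nat_lit 0x10c515b) (nat_lit 1792))
 (.leaf (nat_lit 0x10c515f) (nat_lit 1536))
))) (.node (nat_lit 0x10c51d3) (.node (nat_lit 0x10c51cb) (.node (nat_lit 0x10c51c7) (.leaf (nat_lit 0x10c51c3) (nat_lit 1026))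
 (.leaf (nat_lit 0x10c51c7) (nat_lit 1282))
) (.node (nat_lit 0x10c51cf) (.leaf (nat_lit 0x10c51cb) (nat_lit 1282))
 (.leaf (nat_lit 0x10c51cf) (nat_lit 1026))
)) (.node (nat_lit 0x10c51db) (.node (nat_lit 0x10c51d7) (.leaf (nat_lit 0x10c51d3) (nat_lit 1536))
 (.leaf (nat_lit 0x10c51d7) (nat_lit 1280))
) (.node (nat_lit 0x10c51df) (.leaf (nat_lit 0x10c51db) (nat_lit 1280))
 (.leaf (nat_lit 0x10c51df) (nat_lit 1536))
))))) (.node (nat_lit 0x10c5343) (.node (nat_lit 0x10c52c3) (.node (nat_lit 0x10c5253) (.node (nat_lit 0x10c524b) (.node (nat_lit 0x10c5247) (.leaf (nat_lit 0x10c5243) (nat_lit 1025))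
 (.leaf (nat_lit 0x10c5247) (nat_lit 1025))
) (.node (nat_lit 0x10c524f) (.leaf (nat_lit 0x10c524b) (nat_lit 1537))
 (.leaf (nat_lit 0x10c524f) (nat_lit 1793))
)) (.node (nat_lit 0x10c525b) (.node (nat_lit 0x10c5257) (.leaf (nat_lit 0x10c5253) (nat_lit 1028))
 (.leaf (nat_lit 0x10c5257) (nat_lit 1284))
) (.node (nat_lit 0x10c525f) (.leaf (nat_lit 0x10c525b) (nat_lit 1793))
 (.leaf (nat_lit 0x10c525f) (nat_lit 1796))
))) (.node (nat_lit 0x10c52d3) (.node (nat_lit 0x10c52cb) (.node (nat_lit 0x10c52c7) (.leaf (nat_lit 0x10c52c3) (nat_lit 769))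
 (.leaf (nat_lit 0x10c52c7) (nat_lit 1025))
) (.node (nat_lit 0x10c52cf) (.leaf (nat_lit 0x10c52cb) (nat_lit 1537))
 (.leaf (nat_lit 0x10c52cf) (nat_lit 1281))
)) (.node (nat_lit 0x10c52db) (.node (nat_lit 0x10c52d7) (.leaf (nat_lit 0x10c52d3) (nat_lit 1028))
 (.leaf (nat_lit 0x10c52d7) (nat_lit 772))
) (.node (nat_lit 0x10c52df) (.leaf (nat_lit 0x10c52db) (nat_lit 1540))
 (.leaf (nat_lit 0x10c52df) (nat_lit 1537))
)))) (.node (nat_lit 0x10c53c3) (.node (nat_lit 0x10c5353) (.node (nat_lit 0x10c534b) (.node (nat_lit 0x10c5347) (.leaf (nat_lit 0x10c5343) (nat_lit 1281))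
 (.leaf (nat_lit 0x10c5347) (nat_lit 1537))
) (.node (nat_lit 0x10c534f) (.leaf (nat_lit 0x10c534b) (nat_lit 1537))
 (.leaf (nat_lit 0x10c534f) (nat_lit 1281))
)) (.node (nat_lit 0x10c535b) (.node (nat_lit 0x10c5357) (.leaf (nat_lit 0x10c5353) (nat_lit 1793))
 (.leaf (nat_lit 0x10c5357) (nat_lit 1537))
) (.node (nat_lit 0x10c535f) (.leaf (nat_lit 0x10c535b) (nat_lit 1540))
 (.leaf (nat_lit 0x10c535f) (nat_lit 1796))
))) (.node (nat_lit 0x10c53d3) (.node (nat_lit 0x10c53cb) (.node (nat_lit 0x10c53c7) (.leaf (nat_lit 0x10c53c3) (nat_lit 1283))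
 (.leaf (nat_lit 0x10c53c7) (nat_lit 1539))
) (.node (nat_lit 0x10c53cf) (.leaf (nat_lit 0x10c53cb) (nat_lit 1537))
 (.leaf (nat_lit 0x10c53cf) (nat_lit 1538))
)) (.node (nat_lit 0x10c53db) (.node (nat_lit 0x10c53d7) (.leaf (nat_lit 0x10c53d3) (nat_lit 1540))
 (.leaf (nat_lit 0x10c53d7) (nat_lit 1536))
) (.node (nat_lit 0x10c53df) (.leaf (nat_lit 0x10c53db) (nat_lit 1540))
 (.leaf (nat_lit 0x10c53df) (nat_lit 1284))
)))))) (.node (nat_lit 0x10c7243) (.node (nat_lit 0x10c7143) (.node (nat_lit 0x10c70c3) (.node (nat_lit 0x10c7053) (.node (nat_lit 0x10c704b) (.node (nat_lit 0x10c7047) (.leaf (nat_lit 0x10c7043) (nat_lit 514))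
 (.leaf (nat_lit 0x10c7047) (nat_lit 770))
) (.node (nat_lit 0x10c704f) (.leaf (nat_lit 0x10c704b) (nat_lit 1284))
 (.leaf (nat_lit 0x10c704f) (nat_lit 1028))
)) (.node (nat_lit 0x10c705b) (.node (nat_lit 0x10c7057) (.leaf (nat_lit 0x10c7053) (nat_lit 1284))
 (.leaf (nat_lit 0x10c7057) (nat_lit 1028))
) (.node (nat_lit 0x10c705f) (.leaf (nat_lit 0x10c705b) (nat_lit 1024))
 (.leaf (nat_lit 0x10c705f) (nat_lit 768))
))) (.node (nat_lit 0x10c70d3) (.node (nat_lit 0x10c70cb) (.node (nat_lit 0x10c70c7) (.leaf (nat_lit 0x10c70c3) (nat_lit 770))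
 (.leaf (nat_lit 0x10c70c7) (nat_lit 770))
) (.node (nat_lit 0x10c70cf) (.leaf (nat_lit 0x10c70cb) (nat_lit 1284))
 (.leaf (nat_lit 0x10c70cf) (nat_lit 1540))
)) (.node (nat_lit 0x10c70db) (.node (nat_lit 0x10c70d7) (.leaf (nat_lit 0x10c70d3) (nat_lit 1284))
 (.leaf (nat_lit 0x10c70d7) (nat_lit 1540))
) (.node (nat_lit 0x10c70df) (.leaf (nat_lit 0x10c70db) (nat_lit 1024))
 (.leaf (nat_lit 0x10c70df) (nat_lit 1024))
)))) (.node (nat_lit 0x10c71c3) (.node (nat_lit 0x10c7153) (.node (nat_lit 0x10c714b) (.node (nat_lit 0x10c7147) (.leaf (nat_lit 0x10c7143) (nat_lit 1539))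
 (.leaf (nat_lit 0x10c7147) (nat_lit 1283))
) (.node (nat_lit 0x10c714f) (.leaf (nat_lit 0x10c714b) (nat_lit 1284))
 (.leaf (nat_lit 0x10c714f) (nat_lit 1540))
)) (.node (nat_lit 0x10c715b) (.node (nat_lit 0x10c7157) (.leaf (nat_lit 0x10c7153) (nat_lit 1537))
 (.leaf (nat_lit 0x10c7157) (nat_lit 1281))
) (.node (nat_lit 0x10c715f) (.leaf (nat_lit 0x10c715b) (nat_lit 1536))
 (.leaf (nat_lit 0x10c715f) (nat_lit 1540))
))) (.node (nat_lit 0x10c71d3) (.node (nat_lit 0x10c71cb) (.node (nat_lit 0x10c71c7) (.leaf (nat_lit 0x10c71c3) (nat_lit 1027))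
 (.leaf (nat_lit 0x10c71c7) (nat_lit 1283))
) (.node (nat_lit 0x10c71cf) (.leaf (nat_lit 0x10c71cb) (nat_lit 1284))
 (.leaf (nat_lit 0x10c71cf) (nat_lit 1028))
)) (.node (nat_lit 0x10c71db) (.node (nat_lit 0x10c71d7) (.leaf (nat_lit 0x10c71d3) (nat_lit 1284))
 (.leaf (nat_lit 0x10c71d7) (nat_lit 1540))
) (.node (nat_lit 0x10c71df) (.leaf (nat_lit 0x10c71db) (nat_lit 1536))
 (.leaf (nat_lit 0x10c71df) (nat_lit 1280))
))))) (.node (nat_lit 0x10c7343) (.node (nat_lit 0x10c72c3) (.node (nat_lit 0x10c7253) (.node (nat_lit 0x10c724b) (.node (nat_lit 0x10c7247) (.leaf (nat_lit 0x10c7243) (nat_lit 1281))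
 (.leaf (nat_lit 0x10c7247) (nat_lit 1537))
) (.node (nat_lit 0x10c724f) (.leaf (nat_lit 0x10c724b) (nat_lit 1537))
 (.leaf (nat_lit 0x10c724f) (nat_lit 1281))
)) (.node (nat_lit 0x10c725b) (.node (nat_lit 0x10c7257) (.leaf (nat_lit 0x10c7253) (nat_lit 1284))
 (.leaf (nat_lit 0x10c7257) (nat_lit 1540))
) (.node (nat_lit 0x10c725f) (.leaf (nat_lit 0x10c725b) (nat_lit 1796))
 (.leaf (nat_lit 0x10c725f) (nat_lit 1540))
))) (.node (nat_lit 0x10c72d3) (.node (nat_lit 0x10c72cb) (.node (nat_lit 0x10c72c7) (.leaf (nat_lit 0x10c72c3) (nat_lit 1284))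
 (.leaf (nat_lit 0x10c72c7) (nat_lit 1540))
) (.node (nat_lit 0x10c72cf) (.leaf (nat_lit 0x10c72cb) (nat_lit 1284))
 (.leaf (nat_lit 0x10c72cf) (nat_lit 1540))
)) (.node (nat_lit 0x10c72db) (.node (nat_lit 0x10c72d7) (.leaf (nat_lit 0x10c72d3) (nat_lit 1284))
 (.leaf (nat_lit 0x10c72d7) (nat_lit 1028))
) (.node (nat_lit 0x10c72df) (.leaf (nat_lit 0x10c72db) (nat_lit 1539))
 (.leaf (nat_lit 0x10c72df) (nat_lit 1540))
)))) (.node (nat_lit 0x10c73c3) (.node (nat_lit 0x10c7353) (.node (nat_lit 0x10c734b) (.node (nat_lit 0x10c7347) (.leaf (nat_lit 0x10c7343) (nat_lit 1025))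
 (.leaf (nat_lit 0x10c7347) (nat_lit 1025))
) (.node (nat_lit 0x10c734f) (.leaf (nat_lit 0x10c734b) (nat_lit 1537))
 (.leaf (nat_lit 0x10c734f) (nat_lit 1540))
)) (.node (nat_lit 0x10c735b) (.node (nat_lit 0x10c7357) (.leaf (nat_lit 0x10c7353) (nat_lit 1537))
 (.leaf (nat_lit 0x10c7357) (nat_lit 1540))
) (.node (nat_lit 0x10c735f) (.leaf (nat_lit 0x10c735b) (nat_lit 1284))
 (.leaf (nat_lit 0x10c735f) (nat_lit 1281))
))) (.node (nat_lit 0x10c73d3) (.node (nat_lit 0x10c73cb) (.node (nat_lit 0x10c73c7) (.leaf (nat_lit 0x10c73c3) (nat_lit 769))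
 (.leaf (nat_lit 0x10c73c7) (nat_lit 1025))
) (.node (nat_lit 0x10c73cf) (.leaf (nat_lit 0x10c73cb) (nat_lit 1284))
 (.leaf (nat_lit 0x10c73cf) (nat_lit 1281))
)) (.node (nat_lit 0x10c73db) (.node (nat_lit 0x10c73d7) (.leaf (nat_lit 0x10c73d3) (nat_lit 1284))
 (.leaf (nat_lit 0x10c73d7) (nat_lit 1281))
) (.node (nat_lit 0x10c73df) (.leaf (nat_lit 0x10c73db) (nat_lit 1284))
 (.leaf (nat_lit 0x10c73df) (nat_lit 1028))
)))))))))

theorem Tm_ok : genOK A [(nat_lit 0x1041045), (nat_lit 0x10410c1), (nat_lit 0x1043041), (nat_lit 0x1045041), (nat_lit 0x10c1043)] Tm_t (nat_lit 512) = true := by decide +kernel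

noncomputable def cA_t : ST :=
(.node (nat_lit 0x1041053) (.node (nat_lit 0x1041049) (.node (nat_lit 0x1041045) (.leaf (nat_lit 0x1041043) (nat_lit 1025))
 (.node (nat_lit 0x1041047) (.leaf (nat_lit 0x1041045) (nat_lit 514))
 (.leaf (nat_lit 0x1041047) (nat_lit 773))
)) (.node (nat_lit 0x104104d) (.node (nat_lit 0x104104b) (.leaf (nat_lit 0x1041049) (nat_lit 0))
 (.leaf (nat_lit 0x104104b) (nat_lit 769))
) (.node (nat_lit 0x104104f) (.leaf (nat_lit 0x104104d) (nat_lit 260))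
 (.leaf (nat_lit 0x104104f) (nat_lit 517))
))) (.node (nat_lit 0x1041059) (.node (nat_lit 0x1041055) (.leaf (nat_lit 0x1041053) (nat_lit 1281))
 (.node (nat_lit 0x1041057) (.leaf (nat_lit 0x1041055) (nat_lit 770))
 (.leaf (nat_lit 0x1041057) (nat_lit 1029))
)) (.node (nat_lit 0x104105d) (.node (nat_lit 0x104105b) (.leaf (nat_lit 0x1041059) (nat_lit 259))
 (.leaf (nat_lit 0x104105b) (nat_lit 1025))
) (.node (nat_lit 0x104105f) (.leaf (nat_lit 0x104105d) (nat_lit 516))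
 (.leaf (nat_lit 0x104105f) (nat_lit 773))
))))

theorem cA_ok : orbOK A [(nat_lit 0x1041043), (nat_lit 0x10410c1), (nat_lit 0x1043041), (nat_lit 0x10c1041), (nat_lit 0x1061041), (nat_lit 0x1041841)] (nat_lit 0x1041049) cA_t (nat_lit 14) = true := by decide +kernel

noncomputable def cB_t : ST :=
(.node (nat_lit 0x10c1051) (.node (nat_lit 0x1045051) (.node (nat_lit 0x1041251) (.leaf (nat_lit 0x1041241) (nat_lit 0))
 (.node (nat_lit 0x1045041) (.leaf (nat_lit 0x1041251) (nat_lit 256))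
 (.leaf (nat_lit 0x1045041) (nat_lit 513))
)) (.node (nat_lit 0x1045251) (.node (nat_lit 0x1045241) (.leaf (nat_lit 0x1045051) (nat_lit 769))
 (.leaf (nat_lit 0x1045241) (nat_lit 261))
) (.node (nat_lit 0x10c1041) (.leaf (nat_lit 0x1045251) (nat_lit 517))
 (.leaf (nat_lit 0x10c1041) (nat_lit 1026))
))) (.node (nat_lit 0x10c5041) (.node (nat_lit 0x10c1241) (.leaf (nat_lit 0x10c1051) (nat_lit 1282))
 (.node (nat_lit 0x10c1251) (.leaf (nat_lit 0x10c1241) (nat_lit 770))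
 (.leaf (nat_lit 0x10c1251) (nat_lit 1026))
)) (.node (nat_lit 0x10c5241) (.node (nat_lit 0x10c5051) (.leaf (nat_lit 0x10c5041) (nat_lit 772))
 (.leaf (nat_lit 0x10c5051) (nat_lit 1028))
) (.node (nat_lit 0x10c5251) (.leaf (nat_lit 0x10c5241) (nat_lit 516))
 (.leaf (nat_lit 0x10c5251) (nat_lit 772))
))))

theorem cB_ok : orbOK A [(nat_lit 0x1041043), (nat_lit 0x10410c1), (nat_lit 0x1043041), (nat_lit 0x10c1041), (nat_lit 0x1061041), (nat_lit 0x1041841)] (nat_lit 0x1041241) cB_t (nat_lit 14) = true := by decide +kernel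

noncomputable def cM_t : ST :=
(.node (nat_lit 0x10c1053) (.node (nat_lit 0x1045059) (.node (nat_lit 0x104125d) (.node (nat_lit 0x104124d) (.node (nat_lit 0x1041249) (.leaf (nat_lit 0x1041245) (nat_lit 514))
 (.leaf (nat_lit 0x1041249) (nat_lit 0))
) (.node (nat_lit 0x1041255) (.leaf (nat_lit 0x104124d) (nat_lit 260))
 (.node (nat_lit 0x1041259) (.leaf (nat_lit 0x1041255) (nat_lit 770))
 (.leaf (nat_lit 0x1041259) (nat_lit 256))
))) (.node (nat_lit 0x1045049) (.node (nat_lit 0x1045043) (.leaf (nat_lit 0x104125d) (nat_lit 516))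
 (.leaf (nat_lit 0x1045043) (nat_lit 1025))
) (.node (nat_lit 0x104504b) (.leaf (nat_lit 0x1045049) (nat_lit 513))
 (.node (nat_lit 0x1045053) (.leaf (nat_lit 0x104504b) (nat_lit 769))
 (.leaf (nat_lit 0x1045053) (nat_lit 1281))
)))) (.node (nat_lit 0x1045257) (.node (nat_lit 0x1045247) (.node (nat_lit 0x104505b) (.leaf (nat_lit 0x1045059) (nat_lit 769))
 (.leaf (nat_lit 0x104505b) (nat_lit 1025))
) (.node (nat_lit 0x1045249) (.leaf (nat_lit 0x1045247) (nat_lit 773))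
 (.node (nat_lit 0x104524f) (.leaf (nat_lit 0x1045249) (nat_lit 261))
 (.leaf (nat_lit 0x104524f) (nat_lit 517))
))) (.node (nat_lit 0x10c1043) (.node (nat_lit 0x1045259) (.leaf (nat_lit 0x1045257) (nat_lit 1029))
 (.node (nat_lit 0x104525f) (.leaf (nat_lit 0x1045259) (nat_lit 517))
 (.leaf (nat_lit 0x104525f) (nat_lit 773))
)) (.node (nat_lit 0x10c1045) (.leaf (nat_lit 0x10c1043) (nat_lit 1538))
 (.node (nat_lit 0x10c1047) (.leaf (nat_lit 0x10c1045) (nat_lit 1026))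
 (.leaf (nat_lit 0x10c1047) (nat_lit 1282))
))))) (.node (nat_lit 0x10c504d) (.node (nat_lit 0x10c124f) (.node (nat_lit 0x10c1057) (.node (nat_lit 0x10c1055) (.leaf (nat_lit 0x10c1053) (nat_lit 1794))
 (.leaf (nat_lit 0x10c1055) (nat_lit 1282))
) (.node (nat_lit 0x10c1245) (.leaf (nat_lit 0x10c1057) (nat_lit 1538))
 (.node (nat_lit 0x10c124b) (.leaf (nat_lit 0x10c1245) (nat_lit 770))
 (.leaf (nat_lit 0x10c124b) (nat_lit 1026))
))) (.node (nat_lit 0x10c125b) (.node (nat_lit 0x10c1255) (.leaf (nat_lit 0x10c124f) (nat_lit 773))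
 (.leaf (nat_lit 0x10c1255) (nat_lit 1026))
) (.node (nat_lit 0x10c125f) (.leaf (nat_lit 0x10c125b) (nat_lit 1282))
 (.node (nat_lit 0x10c5043) (.leaf (nat_lit 0x10c125f) (nat_lit 1029))
 (.leaf (nat_lit 0x10c5043) (nat_lit 1284))
)))) (.node (nat_lit 0x10c5247) (.node (nat_lit 0x10c5053) (.node (nat_lit 0x10c504f) (.leaf (nat_lit 0x10c504d) (nat_lit 772))
 (.leaf (nat_lit 0x10c504f) (nat_lit 1028))
) (.node (nat_lit 0x10c505d) (.leaf (nat_lit 0x10c5053) (nat_lit 1540))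
 (.node (nat_lit 0x10c505f) (.leaf (nat_lit 0x10c505d) (nat_lit 1028))
 (.leaf (nat_lit 0x10c505f) (nat_lit 1284))
))) (.node (nat_lit 0x10c5257) (.node (nat_lit 0x10c524b) (.leaf (nat_lit 0x10c5247) (nat_lit 1028))
 (.node (nat_lit 0x10c524d) (.leaf (nat_lit 0x10c524b) (nat_lit 772))
 (.leaf (nat_lit 0x10c524d) (nat_lit 516))
)) (.node (nat_lit 0x10c525b) (.leaf (nat_lit 0x10c5257) (nat_lit 1284))
 (.node (nat_lit 0x10c525d) (.leaf (nat_lit 0x10c525b) (nat_lit 1028))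
 (.leaf (nat_lit 0x10c525d) (nat_lit 772))
))))))

theorem cM_ok : orbOK A [(nat_lit 0x1041043), (nat_lit 0x10410c1), (nat_lit 0x1043041), (nat_lit 0x10c1041), (nat_lit 0x1061041), (nat_lit 0x1041841)] (nat_lit 0x1041249) cM_t (nat_lit 42) = true := by decide +kernel

noncomputable def cX_t : ST :=
(.node (nat_lit 0x1047041) (.node (nat_lit 0x10412d5) (.node (nat_lit 0x1032841) (.node (nat_lit 0x102204d) (.node (nat_lit 0x1013901) (.node (nat_lit 0x101110b) (.leaf (nat_lit 0x1011101) (nat_lit 1026))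
 (.leaf (nat_lit 0x101110b) (nat_lit 1282))
) (.node (nat_lit 0x101390b) (.leaf (nat_lit 0x1013901) (nat_lit 772))
 (.node (nat_lit 0x1022041) (.leaf (nat_lit 0x101390b) (nat_lit 1028))
 (.leaf (nat_lit 0x1022041) (nat_lit 772))
))) (.node (nat_lit 0x10221cd) (.node (nat_lit 0x10221c1) (.leaf (nat_lit 0x102204d) (nat_lit 1028))
 (.leaf (nat_lit 0x10221c1) (nat_lit 516))
) (.node (nat_lit 0x1031181) (.leaf (nat_lit 0x10221cd) (nat_lit 772))
 (.node (nat_lit 0x103118f) (.leaf (nat_lit 0x1031181) (nat_lit 773))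
 (.leaf (nat_lit 0x103118f) (nat_lit 1029))
)))) (.node (nat_lit 0x10410c5) (.node (nat_lit 0x1040881) (.node (nat_lit 0x103284f) (.leaf (nat_lit 0x1032841) (nat_lit 1028))
 (.leaf (nat_lit 0x103284f) (nat_lit 1284))
) (.node (nat_lit 0x1040887) (.leaf (nat_lit 0x1040881) (nat_lit 773))
 (.node (nat_lit 0x10410c1) (.leaf (nat_lit 0x1040887) (nat_lit 1029))
 (.leaf (nat_lit 0x10410c1) (nat_lit 514))
))) (.node (nat_lit 0x10411c1) (.node (nat_lit 0x1041141) (.leaf (nat_lit 0x10410c5) (nat_lit 770))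
 (.node (nat_lit 0x1041149) (.leaf (nat_lit 0x1041141) (nat_lit 0))
 (.leaf (nat_lit 0x1041149) (nat_lit 256))
)) (.node (nat_lit 0x10411cd) (.leaf (nat_lit 0x10411c1) (nat_lit 260))
 (.node (nat_lit 0x10412c1) (.leaf (nat_lit 0x10411cd) (nat_lit 516))
 (.leaf (nat_lit 0x10412c1) (nat_lit 770))
))))) (.node (nat_lit 0x1043049) (.node (nat_lit 0x1041841) (.node (nat_lit 0x1041359) (.node (nat_lit 0x1041341) (.leaf (nat_lit 0x10412d5) (nat_lit 1026))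
 (.leaf (nat_lit 0x1041341) (nat_lit 259))
) (.node (nat_lit 0x10413c1) (.leaf (nat_lit 0x1041359) (nat_lit 515))
 (.node (nat_lit 0x10413dd) (.leaf (nat_lit 0x10413c1) (nat_lit 516))
 (.leaf (nat_lit 0x10413dd) (nat_lit 772))
))) (.node (nat_lit 0x1042981) (.node (nat_lit 0x1041843) (.leaf (nat_lit 0x1041841) (nat_lit 1025))
 (.leaf (nat_lit 0x1041843) (nat_lit 1281))
) (.node (nat_lit 0x104298f) (.leaf (nat_lit 0x1042981) (nat_lit 517))
 (.node (nat_lit 0x1043041) (.leaf (nat_lit 0x104298f) (nat_lit 773))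
 (.leaf (nat_lit 0x1043041) (nat_lit 513))
)))) (.node (nat_lit 0x1044a81) (.node (nat_lit 0x1043149) (.node (nat_lit 0x1043141) (.leaf (nat_lit 0x1043049) (nat_lit 769))
 (.leaf (nat_lit 0x1043141) (nat_lit 261))
) (.node (nat_lit 0x1043841) (.leaf (nat_lit 0x1043149) (nat_lit 517))
 (.node (nat_lit 0x104384b) (.leaf (nat_lit 0x1043841) (nat_lit 769))
 (.leaf (nat_lit 0x104384b) (nat_lit 1025))
))) (.node (nat_lit 0x1045853) (.node (nat_lit 0x1044a97) (.leaf (nat_lit 0x1044a81) (nat_lit 1029))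
 (.node (nat_lit 0x1045841) (.leaf (nat_lit 0x1044a97) (nat_lit 1285))
 (.leaf (nat_lit 0x1045841) (nat_lit 1281))
)) (.node (nat_lit 0x1046b81) (.leaf (nat_lit 0x1045853) (nat_lit 1537))
 (.node (nat_lit 0x1046b9f) (.leaf (nat_lit 0x1046b81) (nat_lit 773))
 (.leaf (nat_lit 0x1046b9f) (nat_lit 1029))
)))))) (.node (nat_lit 0x1097b1b) (.node (nat_lit 0x1061041) (.node (nat_lit 0x104785b) (.node (nat_lit 0x1047341) (.node (nat_lit 0x1047059) (.leaf (nat_lit 0x1047041) (nat_lit 769))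
 (.leaf (nat_lit 0x1047059) (nat_lit 1025))
) (.node (nat_lit 0x1047359) (.leaf (nat_lit 0x1047341) (nat_lit 517))
 (.node (nat_lit 0x1047841) (.leaf (nat_lit 0x1047359) (nat_lit 773))
 (.leaf (nat_lit 0x1047841) (nat_lit 1025))
))) (.node (nat_lit 0x1051043) (.node (nat_lit 0x1051041) (.leaf (nat_lit 0x104785b) (nat_lit 1281))
 (.leaf (nat_lit 0x1051041) (nat_lit 1538))
) (.node (nat_lit 0x1051841) (.leaf (nat_lit 0x1051043) (nat_lit 1794))
 (.node (nat_lit 0x1051843) (.leaf (nat_lit 0x1051841) (nat_lit 1284))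
 (.leaf (nat_lit 0x1051843) (nat_lit 1540))
)))) (.node (nat_lit 0x1070887) (.node (nat_lit 0x10610c1) (.node (nat_lit 0x1061045) (.leaf (nat_lit 0x1061041) (nat_lit 1026))
 (.leaf (nat_lit 0x1061045) (nat_lit 1282))
) (.node (nat_lit 0x10610c5) (.leaf (nat_lit 0x10610c1) (nat_lit 770))
 (.node (nat_lit 0x1070881) (.leaf (nat_lit 0x10610c5) (nat_lit 1026))
 (.leaf (nat_lit 0x1070881) (nat_lit 1028))
))) (.node (nat_lit 0x1091301) (.node (nat_lit 0x1071041) (.leaf (nat_lit 0x1070887) (nat_lit 1284))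
 (.node (nat_lit 0x1071047) (.leaf (nat_lit 0x1071041) (nat_lit 1282))
 (.leaf (nat_lit 0x1071047) (nat_lit 1538))
)) (.node (nat_lit 0x109131b) (.leaf (nat_lit 0x1091301) (nat_lit 1282))
 (.node (nat_lit 0x1097b01) (.leaf (nat_lit 0x109131b) (nat_lit 1538))
 (.leaf (nat_lit 0x1097b01) (nat_lit 1028))
))))) (.node (nat_lit 0x10d1053) (.node (nat_lit 0x10b1381) (.node (nat_lit 0x10a605d) (.node (nat_lit 0x10a6041) (.leaf (nat_lit 0x1097b1b) (nat_lit 1284))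
 (.leaf (nat_lit 0x10a6041) (nat_lit 1028))
) (.node (nat_lit 0x10a63c1) (.leaf (nat_lit 0x10a605d) (nat_lit 1284))
 (.node (nat_lit 0x10a63dd) (.leaf (nat_lit 0x10a63c1) (nat_lit 772))
 (.leaf (nat_lit 0x10a63dd) (nat_lit 1028))
))) (.node (nat_lit 0x10b6841) (.node (nat_lit 0x10b139f) (.leaf (nat_lit 0x10b1381) (nat_lit 1029))
 (.leaf (nat_lit 0x10b139f) (nat_lit 1285))
) (.node (nat_lit 0x10b685f) (.leaf (nat_lit 0x10b6841) (nat_lit 1284))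
 (.node (nat_lit 0x10d1041) (.leaf (nat_lit 0x10b685f) (nat_lit 1540))
 (.leaf (nat_lit 0x10d1041) (nat_lit 1794))
)))) (.node (nat_lit 0x10e12c1) (.node (nat_lit 0x10d5853) (.node (nat_lit 0x10d5841) (.leaf (nat_lit 0x10d1053) (nat_lit 2050))
 (.leaf (nat_lit 0x10d5841) (nat_lit 1540))
) (.node (nat_lit 0x10e1041) (.leaf (nat_lit 0x10d5853) (nat_lit 1796))
 (.node (nat_lit 0x10e1055) (.leaf (nat_lit 0x10e1041) (nat_lit 1282))
 (.leaf (nat_lit 0x10e1055) (nat_lit 1538))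
))) (.node (nat_lit 0x10f1057) (.node (nat_lit 0x10e12d5) (.leaf (nat_lit 0x10e12c1) (nat_lit 1026))
 (.node (nat_lit 0x10f1041) (.leaf (nat_lit 0x10e12d5) (nat_lit 1282))
 (.leaf (nat_lit 0x10f1041) (nat_lit 1538))
)) (.node (nat_lit 0x10f4a81) (.leaf (nat_lit 0x10f1057) (nat_lit 1794))
 (.node (nat_lit 0x10f4a97) (.leaf (nat_lit 0x10f4a81) (nat_lit 1284))
 (.leaf (nat_lit 0x10f4a97) (nat_lit 1540))
)))))))

theorem cX_ok : orbOK A [(nat_lit 0x1041043), (nat_lit 0x10410c1), (nat_lit 0x1043041), (nat_lit 0x10c1041), (nat_lit 0x1061041), (nat_lit 0x1041841)] (nat_lit 0x1041141) cX_t (nat_lit 84) = true := by decide +kernel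

noncomputable def cY_t : ST :=
(.node (nat_lit 0x1047049) (.node (nat_lit 0x10412d1) (.node (nat_lit 0x1032851) (.node (nat_lit 0x102205d) (.node (nat_lit 0x1013911) (.node (nat_lit 0x101111b) (.leaf (nat_lit 0x1011111) (nat_lit 1026))
 (.leaf (nat_lit 0x101111b) (nat_lit 1282))
) (.node (nat_lit 0x101391b) (.leaf (nat_lit 0x1013911) (nat_lit 772))
 (.node (nat_lit 0x1022051) (.leaf (nat_lit 0x101391b) (nat_lit 1028))
 (.leaf (nat_lit 0x1022051) (nat_lit 772))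
))) (.node (nat_lit 0x10221dd) (.node (nat_lit 0x10221d1) (.leaf (nat_lit 0x102205d) (nat_lit 1028))
 (.leaf (nat_lit 0x10221d1) (nat_lit 516))
) (.node (nat_lit 0x1031191) (.leaf (nat_lit 0x10221dd) (nat_lit 772))
 (.node (nat_lit 0x103119f) (.leaf (nat_lit 0x1031191) (nat_lit 773))
 (.leaf (nat_lit 0x103119f) (nat_lit 1029))
)))) (.node (nat_lit 0x10410d5) (.node (nat_lit 0x1040891) (.node (nat_lit 0x103285f) (.leaf (nat_lit 0x1032851) (nat_lit 1028))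
 (.leaf (nat_lit 0x103285f) (nat_lit 1284))
) (.node (nat_lit 0x1040897) (.leaf (nat_lit 0x1040891) (nat_lit 773))
 (.node (nat_lit 0x10410d1) (.leaf (nat_lit 0x1040897) (nat_lit 1029))
 (.leaf (nat_lit 0x10410d1) (nat_lit 514))
))) (.node (nat_lit 0x10411d1) (.node (nat_lit 0x1041151) (.leaf (nat_lit 0x10410d5) (nat_lit 770))
 (.node (nat_lit 0x1041159) (.leaf (nat_lit 0x1041151) (nat_lit 0))
 (.leaf (nat_lit 0x1041159) (nat_lit 256))
)) (.node (nat_lit 0x10411dd) (.leaf (nat_lit 0x10411d1) (nat_lit 260))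
 (.node (nat_lit 0x10412c5) (.leaf (nat_lit 0x10411dd) (nat_lit 516))
 (.leaf (nat_lit 0x10412c5) (nat_lit 1026))
))))) (.node (nat_lit 0x1043059) (.node (nat_lit 0x1041851) (.node (nat_lit 0x1041351) (.node (nat_lit 0x1041349) (.leaf (nat_lit 0x10412d1) (nat_lit 770))
 (.leaf (nat_lit 0x1041349) (nat_lit 515))
) (.node (nat_lit 0x10413cd) (.leaf (nat_lit 0x1041351) (nat_lit 259))
 (.node (nat_lit 0x10413d1) (.leaf (nat_lit 0x10413cd) (nat_lit 772))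
 (.leaf (nat_lit 0x10413d1) (nat_lit 516))
))) (.node (nat_lit 0x1042991) (.node (nat_lit 0x1041853) (.leaf (nat_lit 0x1041851) (nat_lit 1025))
 (.leaf (nat_lit 0x1041853) (nat_lit 1281))
) (.node (nat_lit 0x104299f) (.leaf (nat_lit 0x1042991) (nat_lit 517))
 (.node (nat_lit 0x1043051) (.leaf (nat_lit 0x104299f) (nat_lit 773))
 (.leaf (nat_lit 0x1043051) (nat_lit 513))
)))) (.node (nat_lit 0x1044a87) (.node (nat_lit 0x1043159) (.node (nat_lit 0x1043151) (.leaf (nat_lit 0x1043059) (nat_lit 769))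
 (.leaf (nat_lit 0x1043151) (nat_lit 261))
) (.node (nat_lit 0x1043851) (.leaf (nat_lit 0x1043159) (nat_lit 517))
 (.node (nat_lit 0x104385b) (.leaf (nat_lit 0x1043851) (nat_lit 769))
 (.leaf (nat_lit 0x104385b) (nat_lit 1025))
))) (.node (nat_lit 0x1045851) (.node (nat_lit 0x1044a91) (.leaf (nat_lit 0x1044a87) (nat_lit 1285))
 (.node (nat_lit 0x1045843) (.leaf (nat_lit 0x1044a91) (nat_lit 1029))
 (.leaf (nat_lit 0x1045843) (nat_lit 1537))
)) (.node (nat_lit 0x1046b8f) (.leaf (nat_lit 0x1045851) (nat_lit 1281))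
 (.node (nat_lit 0x1046b91) (.leaf (nat_lit 0x1046b8f) (nat_lit 1029))
 (.leaf (nat_lit 0x1046b91) (nat_lit 773))
)))))) (.node (nat_lit 0x1097b11) (.node (nat_lit 0x1061051) (.node (nat_lit 0x1047851) (.node (nat_lit 0x1047349) (.node (nat_lit 0x1047051) (.leaf (nat_lit 0x1047049) (nat_lit 1025))
 (.leaf (nat_lit 0x1047051) (nat_lit 769))
) (.node (nat_lit 0x1047351) (.leaf (nat_lit 0x1047349) (nat_lit 773))
 (.node (nat_lit 0x104784b) (.leaf (nat_lit 0x1047351) (nat_lit 517))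
 (.leaf (nat_lit 0x104784b) (nat_lit 1281))
))) (.node (nat_lit 0x1051053) (.node (nat_lit 0x1051051) (.leaf (nat_lit 0x1047851) (nat_lit 1025))
 (.leaf (nat_lit 0x1051051) (nat_lit 1538))
) (.node (nat_lit 0x1051851) (.leaf (nat_lit 0x1051053) (nat_lit 1794))
 (.node (nat_lit 0x1051853) (.leaf (nat_lit 0x1051851) (nat_lit 1284))
 (.leaf (nat_lit 0x1051853) (nat_lit 1540))
)))) (.node (nat_lit 0x1070897) (.node (nat_lit 0x10610d1) (.node (nat_lit 0x1061055) (.leaf (nat_lit 0x1061051) (nat_lit 1026))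
 (.leaf (nat_lit 0x1061055) (nat_lit 1282))
) (.node (nat_lit 0x10610d5) (.leaf (nat_lit 0x10610d1) (nat_lit 770))
 (.node (nat_lit 0x1070891) (.leaf (nat_lit 0x10610d5) (nat_lit 1026))
 (.leaf (nat_lit 0x1070891) (nat_lit 1028))
))) (.node (nat_lit 0x109130b) (.node (nat_lit 0x1071051) (.leaf (nat_lit 0x1070897) (nat_lit 1284))
 (.node (nat_lit 0x1071057) (.leaf (nat_lit 0x1071051) (nat_lit 1282))
 (.leaf (nat_lit 0x1071057) (nat_lit 1538))
)) (.node (nat_lit 0x1091311) (.leaf (nat_lit 0x109130b) (nat_lit 1538))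
 (.node (nat_lit 0x1097b0b) (.leaf (nat_lit 0x1091311) (nat_lit 1282))
 (.leaf (nat_lit 0x1097b0b) (nat_lit 1284))
))))) (.node (nat_lit 0x10d1051) (.node (nat_lit 0x10b138f) (.node (nat_lit 0x10a6051) (.node (nat_lit 0x10a604d) (.leaf (nat_lit 0x1097b11) (nat_lit 1028))
 (.leaf (nat_lit 0x10a604d) (nat_lit 1284))
) (.node (nat_lit 0x10a63cd) (.leaf (nat_lit 0x10a6051) (nat_lit 1028))
 (.node (nat_lit 0x10a63d1) (.leaf (nat_lit 0x10a63cd) (nat_lit 1028))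
 (.leaf (nat_lit 0x10a63d1) (nat_lit 772))
))) (.node (nat_lit 0x10b684f) (.node (nat_lit 0x10b1391) (.leaf (nat_lit 0x10b138f) (nat_lit 1285))
 (.leaf (nat_lit 0x10b1391) (nat_lit 1029))
) (.node (nat_lit 0x10b6851) (.leaf (nat_lit 0x10b684f) (nat_lit 1540))
 (.node (nat_lit 0x10d1043) (.leaf (nat_lit 0x10b6851) (nat_lit 1284))
 (.leaf (nat_lit 0x10d1043) (nat_lit 2050))
)))) (.node (nat_lit 0x10e12c5) (.node (nat_lit 0x10d5851) (.node (nat_lit 0x10d5843) (.leaf (nat_lit 0x10d1051) (nat_lit 1794))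
 (.leaf (nat_lit 0x10d5843) (nat_lit 1796))
) (.node (nat_lit 0x10e1045) (.leaf (nat_lit 0x10d5851) (nat_lit 1540))
 (.node (nat_lit 0x10e1051) (.leaf (nat_lit 0x10e1045) (nat_lit 1538))
 (.leaf (nat_lit 0x10e1051) (nat_lit 1282))
))) (.node (nat_lit 0x10f1051) (.node (nat_lit 0x10e12d1) (.leaf (nat_lit 0x10e12c5) (nat_lit 1282))
 (.node (nat_lit 0x10f1047) (.leaf (nat_lit 0x10e12d1) (nat_lit 1026))
 (.leaf (nat_lit 0x10f1047) (nat_lit 1794))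
)) (.node (nat_lit 0x10f4a87) (.leaf (nat_lit 0x10f1051) (nat_lit 1538))
 (.node (nat_lit 0x10f4a91) (.leaf (nat_lit 0x10f4a87) (nat_lit 1540))
 (.leaf (nat_lit 0x10f4a91) (nat_lit 1284))
)))))))

theorem cY_ok : orbOK A [(nat_lit 0x1041043), (nat_lit 0x10410c1), (nat_lit 0x1043041), (nat_lit 0x10c1041), (nat_lit 0x1061041), (nat_lit 0x1041841)] (nat_lit 0x1041151) cY_t (nat_lit 84) = true := by decide +kernel

noncomputable def cN_t : ST :=
(.node (nat_lit 0x1047043) (.node (nat_lit 0x10412d9) (.node (nat_lit 0x103284d) (.node (nat_lit 0x1022053) (.node (nat_lit 0x101390d) (.node (nat_lit 0x1011115) (.node (nat_lit 0x101110f) (.leaf (nat_lit 0x1011105) (nat_lit 1026))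
 (.leaf (nat_lit 0x101110f) (nat_lit 1029))
) (.node (nat_lit 0x101111f) (.leaf (nat_lit 0x1011115) (nat_lit 1282))
 (.node (nat_lit 0x1013907) (.leaf (nat_lit 0x101111f) (nat_lit 1285))
 (.leaf (nat_lit 0x1013907) (nat_lit 1028))
))) (.node (nat_lit 0x101391d) (.node (nat_lit 0x1013917) (.leaf (nat_lit 0x101390d) (nat_lit 772))
 (.leaf (nat_lit 0x1013917) (nat_lit 1284))
) (.node (nat_lit 0x1022043) (.leaf (nat_lit 0x101391d) (nat_lit 1028))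
 (.node (nat_lit 0x102204f) (.leaf (nat_lit 0x1022043) (nat_lit 1281))
 (.leaf (nat_lit 0x102204f) (nat_lit 1284))
)))) (.node (nat_lit 0x10221db) (.node (nat_lit 0x10221c7) (.node (nat_lit 0x102205f) (.leaf (nat_lit 0x1022053) (nat_lit 1537))
 (.leaf (nat_lit 0x102205f) (nat_lit 1540))
) (.node (nat_lit 0x10221cb) (.leaf (nat_lit 0x10221c7) (nat_lit 1029))
 (.node (nat_lit 0x10221d7) (.leaf (nat_lit 0x10221cb) (nat_lit 1028))
 (.leaf (nat_lit 0x10221d7) (nat_lit 1285))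
))) (.node (nat_lit 0x1031195) (.node (nat_lit 0x1031185) (.leaf (nat_lit 0x10221db) (nat_lit 1284))
 (.node (nat_lit 0x103118b) (.leaf (nat_lit 0x1031185) (nat_lit 770))
 (.leaf (nat_lit 0x103118b) (nat_lit 1026))
)) (.node (nat_lit 0x103119b) (.leaf (nat_lit 0x1031195) (nat_lit 1026))
 (.node (nat_lit 0x1032843) (.leaf (nat_lit 0x103119b) (nat_lit 1282))
 (.leaf (nat_lit 0x1032843) (nat_lit 1284))
))))) (.node (nat_lit 0x10410dd) (.node (nat_lit 0x1040899) (.node (nat_lit 0x103285d) (.node (nat_lit 0x1032853) (.leaf (nat_lit 0x103284d) (nat_lit 1028))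
 (.leaf (nat_lit 0x1032853) (nat_lit 1540))
) (.node (nat_lit 0x1040889) (.leaf (nat_lit 0x103285d) (nat_lit 1284))
 (.node (nat_lit 0x104088f) (.leaf (nat_lit 0x1040889) (nat_lit 261))
 (.leaf (nat_lit 0x104088f) (nat_lit 517))
))) (.node (nat_lit 0x10410c9) (.node (nat_lit 0x104089f) (.leaf (nat_lit 0x1040899) (nat_lit 517))
 (.leaf (nat_lit 0x104089f) (nat_lit 773))
) (.node (nat_lit 0x10410cd) (.leaf (nat_lit 0x10410c9) (nat_lit 0))
 (.node (nat_lit 0x10410d9) (.leaf (nat_lit 0x10410cd) (nat_lit 256))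
 (.leaf (nat_lit 0x10410d9) (nat_lit 259))
)))) (.node (nat_lit 0x10411c5) (.node (nat_lit 0x104114d) (.node (nat_lit 0x1041145) (.leaf (nat_lit 0x10410dd) (nat_lit 515))
 (.leaf (nat_lit 0x1041145) (nat_lit 772))
) (.node (nat_lit 0x1041155) (.leaf (nat_lit 0x104114d) (nat_lit 516))
 (.node (nat_lit 0x104115d) (.leaf (nat_lit 0x1041155) (nat_lit 1028))
 (.leaf (nat_lit 0x104115d) (nat_lit 772))
))) (.node (nat_lit 0x10411d9) (.node (nat_lit 0x10411c9) (.leaf (nat_lit 0x10411c5) (nat_lit 514))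
 (.node (nat_lit 0x10411d5) (.leaf (nat_lit 0x10411c9) (nat_lit 258))
 (.leaf (nat_lit 0x10411d5) (nat_lit 770))
)) (.node (nat_lit 0x10412c9) (.leaf (nat_lit 0x10411d9) (nat_lit 514))
 (.node (nat_lit 0x10412cd) (.leaf (nat_lit 0x10412c9) (nat_lit 1027))
 (.leaf (nat_lit 0x10412cd) (nat_lit 1026))
)))))) (.node (nat_lit 0x104305b) (.node (nat_lit 0x1041849) (.node (nat_lit 0x104135d) (.node (nat_lit 0x1041345) (.node (nat_lit 0x10412dd) (.leaf (nat_lit 0x10412d9) (nat_lit 770))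
 (.leaf (nat_lit 0x10412dd) (nat_lit 1028))
) (.node (nat_lit 0x104134d) (.leaf (nat_lit 0x1041345) (nat_lit 1028))
 (.node (nat_lit 0x1041355) (.leaf (nat_lit 0x104134d) (nat_lit 1028))
 (.leaf (nat_lit 0x1041355) (nat_lit 1026))
))) (.node (nat_lit 0x10413c9) (.node (nat_lit 0x10413c5) (.leaf (nat_lit 0x104135d) (nat_lit 772))
 (.leaf (nat_lit 0x10413c5) (nat_lit 771))
) (.node (nat_lit 0x10413d5) (.leaf (nat_lit 0x10413c9) (nat_lit 771))
 (.node (nat_lit 0x10413d9) (.leaf (nat_lit 0x10413d5) (nat_lit 1027))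
 (.leaf (nat_lit 0x10413d9) (nat_lit 515))
)))) (.node (nat_lit 0x1042989) (.node (nat_lit 0x1041859) (.node (nat_lit 0x104184b) (.leaf (nat_lit 0x1041849) (nat_lit 513))
 (.leaf (nat_lit 0x104184b) (nat_lit 769))
) (.node (nat_lit 0x104185b) (.leaf (nat_lit 0x1041859) (nat_lit 769))
 (.node (nat_lit 0x1042987) (.leaf (nat_lit 0x104185b) (nat_lit 1025))
 (.leaf (nat_lit 0x1042987) (nat_lit 773))
))) (.node (nat_lit 0x1043043) (.node (nat_lit 0x1042997) (.leaf (nat_lit 0x1042989) (nat_lit 517))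
 (.node (nat_lit 0x1042999) (.leaf (nat_lit 0x1042997) (nat_lit 1029))
 (.leaf (nat_lit 0x1042999) (nat_lit 773))
)) (.node (nat_lit 0x104304b) (.leaf (nat_lit 0x1043043) (nat_lit 1281))
 (.node (nat_lit 0x1043053) (.leaf (nat_lit 0x104304b) (nat_lit 1025))
 (.leaf (nat_lit 0x1043053) (nat_lit 1537))
))))) (.node (nat_lit 0x1044a8f) (.node (nat_lit 0x1043843) (.node (nat_lit 0x104314f) (.node (nat_lit 0x1043147) (.leaf (nat_lit 0x104305b) (nat_lit 1281))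
 (.leaf (nat_lit 0x1043147) (nat_lit 1029))
) (.node (nat_lit 0x1043157) (.leaf (nat_lit 0x104314f) (nat_lit 773))
 (.node (nat_lit 0x104315f) (.leaf (nat_lit 0x1043157) (nat_lit 1285))
 (.leaf (nat_lit 0x104315f) (nat_lit 1029))
))) (.node (nat_lit 0x1043853) (.node (nat_lit 0x1043849) (.leaf (nat_lit 0x1043843) (nat_lit 1025))
 (.leaf (nat_lit 0x1043849) (nat_lit 769))
) (.node (nat_lit 0x1043859) (.leaf (nat_lit 0x1043853) (nat_lit 1281))
 (.node (nat_lit 0x1044a89) (.leaf (nat_lit 0x1043859) (nat_lit 1025))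
 (.leaf (nat_lit 0x1044a89) (nat_lit 1285))
)))) (.node (nat_lit 0x1045859) (.node (nat_lit 0x1044a9f) (.node (nat_lit 0x1044a99) (.leaf (nat_lit 0x1044a8f) (nat_lit 1285))
 (.leaf (nat_lit 0x1044a99) (nat_lit 1029))
) (.node (nat_lit 0x1045849) (.leaf (nat_lit 0x1044a9f) (nat_lit 1285))
 (.node (nat_lit 0x104584b) (.leaf (nat_lit 0x1045849) (nat_lit 1537))
 (.leaf (nat_lit 0x104584b) (nat_lit 1537))
))) (.node (nat_lit 0x1046b89) (.node (nat_lit 0x104585b) (.leaf (nat_lit 0x1045859) (nat_lit 1281))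
 (.node (nat_lit 0x1046b87) (.leaf (nat_lit 0x104585b) (nat_lit 1537))
 (.leaf (nat_lit 0x1046b87) (nat_lit 1029))
)) (.node (nat_lit 0x1046b97) (.leaf (nat_lit 0x1046b89) (nat_lit 1029))
 (.node (nat_lit 0x1046b99) (.leaf (nat_lit 0x1046b97) (nat_lit 1285))
 (.leaf (nat_lit 0x1046b99) (nat_lit 773))
))))))) (.node (nat_lit 0x1097b17) (.node (nat_lit 0x1061047) (.node (nat_lit 0x1047853) (.node (nat_lit 0x104734f) (.node (nat_lit 0x1047053) (.node (nat_lit 0x104704b) (.leaf (nat_lit 0x1047043) (nat_lit 1537))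
 (.leaf (nat_lit 0x104704b) (nat_lit 1537))
) (.node (nat_lit 0x104705b) (.leaf (nat_lit 0x1047053) (nat_lit 1537))
 (.node (nat_lit 0x1047347) (.leaf (nat_lit 0x104705b) (nat_lit 1281))
 (.leaf (nat_lit 0x1047347) (nat_lit 1285))
))) (.node (nat_lit 0x104735f) (.node (nat_lit 0x1047357) (.leaf (nat_lit 0x104734f) (nat_lit 1285))
 (.leaf (nat_lit 0x1047357) (nat_lit 1285))
) (.node (nat_lit 0x1047843) (.leaf (nat_lit 0x104735f) (nat_lit 1029))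
 (.node (nat_lit 0x1047849) (.leaf (nat_lit 0x1047843) (nat_lit 1281))
 (.leaf (nat_lit 0x1047849) (nat_lit 1281))
)))) (.node (nat_lit 0x1051057) (.node (nat_lit 0x1051045) (.node (nat_lit 0x1047859) (.leaf (nat_lit 0x1047853) (nat_lit 1537))
 (.leaf (nat_lit 0x1047859) (nat_lit 1025))
) (.node (nat_lit 0x1051047) (.leaf (nat_lit 0x1051045) (nat_lit 1026))
 (.node (nat_lit 0x1051055) (.leaf (nat_lit 0x1051047) (nat_lit 1282))
 (.leaf (nat_lit 0x1051055) (nat_lit 1282))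
))) (.node (nat_lit 0x105185d) (.node (nat_lit 0x105184d) (.leaf (nat_lit 0x1051057) (nat_lit 1538))
 (.node (nat_lit 0x105184f) (.leaf (nat_lit 0x105184d) (nat_lit 772))
 (.leaf (nat_lit 0x105184f) (nat_lit 1028))
)) (.node (nat_lit 0x105185f) (.leaf (nat_lit 0x105185d) (nat_lit 1028))
 (.node (nat_lit 0x1061043) (.leaf (nat_lit 0x105185f) (nat_lit 1284))
 (.leaf (nat_lit 0x1061043) (nat_lit 1538))
))))) (.node (nat_lit 0x107089d) (.node (nat_lit 0x10610db) (.node (nat_lit 0x1061057) (.node (nat_lit 0x1061053) (.leaf (nat_lit 0x1061047) (nat_lit 1538))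
 (.leaf (nat_lit 0x1061053) (nat_lit 1794))
) (.node (nat_lit 0x10610cb) (.leaf (nat_lit 0x1061057) (nat_lit 1794))
 (.node (nat_lit 0x10610cf) (.leaf (nat_lit 0x10610cb) (nat_lit 1029))
 (.leaf (nat_lit 0x10610cf) (nat_lit 773))
))) (.node (nat_lit 0x107088b) (.node (nat_lit 0x10610df) (.leaf (nat_lit 0x10610db) (nat_lit 1285))
 (.leaf (nat_lit 0x10610df) (nat_lit 1029))
) (.node (nat_lit 0x107088d) (.leaf (nat_lit 0x107088b) (nat_lit 772))
 (.node (nat_lit 0x107089b) (.leaf (nat_lit 0x107088d) (nat_lit 516))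
 (.leaf (nat_lit 0x107089b) (nat_lit 1028))
)))) (.node (nat_lit 0x1091305) (.node (nat_lit 0x1071045) (.node (nat_lit 0x1071043) (.leaf (nat_lit 0x107089d) (nat_lit 772))
 (.leaf (nat_lit 0x1071043) (nat_lit 1538))
) (.node (nat_lit 0x1071053) (.leaf (nat_lit 0x1071045) (nat_lit 1282))
 (.node (nat_lit 0x1071055) (.leaf (nat_lit 0x1071053) (nat_lit 1794))
 (.leaf (nat_lit 0x1071055) (nat_lit 1538))
))) (.node (nat_lit 0x109131f) (.node (nat_lit 0x109130f) (.leaf (nat_lit 0x1091305) (nat_lit 1283))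
 (.node (nat_lit 0x1091315) (.leaf (nat_lit 0x109130f) (nat_lit 1538))
 (.leaf (nat_lit 0x1091315) (nat_lit 1282))
)) (.node (nat_lit 0x1097b07) (.leaf (nat_lit 0x109131f) (nat_lit 1285))
 (.node (nat_lit 0x1097b0d) (.leaf (nat_lit 0x1097b07) (nat_lit 1284))
 (.leaf (nat_lit 0x1097b0d) (nat_lit 1284))
)))))) (.node (nat_lit 0x10d1057) (.node (nat_lit 0x10b1385) (.node (nat_lit 0x10a605f) (.node (nat_lit 0x10a6043) (.node (nat_lit 0x1097b1d) (.leaf (nat_lit 0x1097b17) (nat_lit 1540))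
 (.leaf (nat_lit 0x1097b1d) (nat_lit 1028))
) (.node (nat_lit 0x10a604f) (.leaf (nat_lit 0x10a6043) (nat_lit 1537))
 (.node (nat_lit 0x10a6053) (.leaf (nat_lit 0x10a604f) (nat_lit 1796))
 (.leaf (nat_lit 0x10a6053) (nat_lit 1796))
))) (.node (nat_lit 0x10a63cb) (.node (nat_lit 0x10a63c7) (.leaf (nat_lit 0x10a605f) (nat_lit 1540))
 (.leaf (nat_lit 0x10a63c7) (nat_lit 1285))
) (.node (nat_lit 0x10a63d7) (.leaf (nat_lit 0x10a63cb) (nat_lit 1540))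
 (.node (nat_lit 0x10a63db) (.leaf (nat_lit 0x10a63d7) (nat_lit 1540))
 (.leaf (nat_lit 0x10a63db) (nat_lit 1284))
)))) (.node (nat_lit 0x10b684d) (.node (nat_lit 0x10b1395) (.node (nat_lit 0x10b138b) (.leaf (nat_lit 0x10b1385) (nat_lit 1027))
 (.leaf (nat_lit 0x10b138b) (nat_lit 1539))
) (.node (nat_lit 0x10b139b) (.leaf (nat_lit 0x10b1395) (nat_lit 1283))
 (.node (nat_lit 0x10b6843) (.leaf (nat_lit 0x10b139b) (nat_lit 1283))
 (.leaf (nat_lit 0x10b6843) (nat_lit 1540))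
))) (.node (nat_lit 0x10d1045) (.node (nat_lit 0x10b6853) (.leaf (nat_lit 0x10b684d) (nat_lit 1540))
 (.node (nat_lit 0x10b685d) (.leaf (nat_lit 0x10b6853) (nat_lit 1796))
 (.leaf (nat_lit 0x10b685d) (nat_lit 1284))
)) (.node (nat_lit 0x10d1047) (.leaf (nat_lit 0x10d1045) (nat_lit 1794))
 (.node (nat_lit 0x10d1055) (.leaf (nat_lit 0x10d1047) (nat_lit 2050))
 (.leaf (nat_lit 0x10d1055) (nat_lit 1794))
))))) (.node (nat_lit 0x10e12cf) (.node (nat_lit 0x10e1043) (.node (nat_lit 0x10d584f) (.node (nat_lit 0x10d584d) (.leaf (nat_lit 0x10d1057) (nat_lit 2050))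
 (.leaf (nat_lit 0x10d584d) (nat_lit 1537))
) (.node (nat_lit 0x10d585d) (.leaf (nat_lit 0x10d584f) (nat_lit 1796))
 (.node (nat_lit 0x10d585f) (.leaf (nat_lit 0x10d585d) (nat_lit 1540))
 (.leaf (nat_lit 0x10d585f) (nat_lit 1793))
))) (.node (nat_lit 0x10e1053) (.node (nat_lit 0x10e1047) (.leaf (nat_lit 0x10e1043) (nat_lit 1794))
 (.leaf (nat_lit 0x10e1047) (nat_lit 2050))
) (.node (nat_lit 0x10e1057) (.leaf (nat_lit 0x10e1053) (nat_lit 2050))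
 (.node (nat_lit 0x10e12cb) (.leaf (nat_lit 0x10e1057) (nat_lit 1794))
 (.leaf (nat_lit 0x10e12cb) (nat_lit 1797))
)))) (.node (nat_lit 0x10f1053) (.node (nat_lit 0x10e12df) (.node (nat_lit 0x10e12db) (.leaf (nat_lit 0x10e12cf) (nat_lit 1541))
 (.leaf (nat_lit 0x10e12db) (nat_lit 1538))
) (.node (nat_lit 0x10f1043) (.leaf (nat_lit 0x10e12df) (nat_lit 1541))
 (.node (nat_lit 0x10f1045) (.leaf (nat_lit 0x10f1043) (nat_lit 1794))
 (.leaf (nat_lit 0x10f1045) (nat_lit 1794))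
))) (.node (nat_lit 0x10f4a8d) (.node (nat_lit 0x10f1055) (.leaf (nat_lit 0x10f1053) (nat_lit 2050))
 (.node (nat_lit 0x10f4a8b) (.leaf (nat_lit 0x10f1055) (nat_lit 1538))
 (.leaf (nat_lit 0x10f4a8b) (nat_lit 1540))
)) (.node (nat_lit 0x10f4a9b) (.leaf (nat_lit 0x10f4a8d) (nat_lit 1282))
 (.node (nat_lit 0x10f4a9d) (.leaf (nat_lit 0x10f4a9b) (nat_lit 1538))
 (.leaf (nat_lit 0x10f4a9d) (nat_lit 1284))
))))))))

theorem cN_ok : orbOK A [(nat_lit 0x1041043), (nat_lit 0x10410c1), (nat_lit 0x1043041), (nat_lit 0x10c1041), (nat_lit 0x1061041), (nat_lit 0x1041841)] (nat_lit 0x10410c9) cN_t (nat_lit 168) = true := by decide +kernel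

noncomputable def cO_t : ST :=
(.node (nat_lit 0x10a6241) (.node (nat_lit 0x1047151) (.node (nat_lit 0x1036a4f) (.node (nat_lit 0x1022251) (.node (nat_lit 0x101790b) (.node (nat_lit 0x1015111) (.node (nat_lit 0x101510b) (.leaf (nat_lit 0x1015101) (nat_lit 1025))
 (.leaf (nat_lit 0x101510b) (nat_lit 1280))
) (.node (nat_lit 0x101511b) (.leaf (nat_lit 0x1015111) (nat_lit 1281))
 (.node (nat_lit 0x1017901) (.leaf (nat_lit 0x101511b) (nat_lit 1281))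
 (.leaf (nat_lit 0x1017901) (nat_lit 769))
))) (.node (nat_lit 0x101791b) (.node (nat_lit 0x1017911) (.leaf (nat_lit 0x101790b) (nat_lit 1024))
 (.leaf (nat_lit 0x1017911) (nat_lit 1025))
) (.node (nat_lit 0x1022241) (.leaf (nat_lit 0x101791b) (nat_lit 1280))
 (.node (nat_lit 0x102224d) (.leaf (nat_lit 0x1022241) (nat_lit 260))
 (.leaf (nat_lit 0x102224d) (nat_lit 1284))
)))) (.node (nat_lit 0x10223dd) (.node (nat_lit 0x10223c1) (.node (nat_lit 0x102225d) (.leaf (nat_lit 0x1022251) (nat_lit 516))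
 (.leaf (nat_lit 0x102225d) (nat_lit 1028))
) (.node (nat_lit 0x10223cd) (.leaf (nat_lit 0x10223c1) (nat_lit 516))
 (.node (nat_lit 0x10223d1) (.leaf (nat_lit 0x10223cd) (nat_lit 1028))
 (.leaf (nat_lit 0x10223d1) (nat_lit 772))
))) (.node (nat_lit 0x1035391) (.node (nat_lit 0x1035381) (.leaf (nat_lit 0x10223dd) (nat_lit 772))
 (.node (nat_lit 0x103538f) (.leaf (nat_lit 0x1035381) (nat_lit 773))
 (.leaf (nat_lit 0x103538f) (nat_lit 1285))
)) (.node (nat_lit 0x103539f) (.leaf (nat_lit 0x1035391) (nat_lit 1029))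
 (.node (nat_lit 0x1036a41) (.leaf (nat_lit 0x103539f) (nat_lit 1029))
 (.leaf (nat_lit 0x1036a41) (nat_lit 517))
))))) (.node (nat_lit 0x1043359) (.node (nat_lit 0x1043251) (.node (nat_lit 0x1036a5f) (.node (nat_lit 0x1036a51) (.leaf (nat_lit 0x1036a4f) (nat_lit 1281))
 (.leaf (nat_lit 0x1036a51) (nat_lit 773))
) (.node (nat_lit 0x1043241) (.leaf (nat_lit 0x1036a5f) (nat_lit 1285))
 (.node (nat_lit 0x1043249) (.leaf (nat_lit 0x1043241) (nat_lit 0))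
 (.leaf (nat_lit 0x1043249) (nat_lit 1025))
))) (.node (nat_lit 0x1043341) (.node (nat_lit 0x1043259) (.leaf (nat_lit 0x1043251) (nat_lit 256))
 (.leaf (nat_lit 0x1043259) (nat_lit 769))
) (.node (nat_lit 0x1043349) (.leaf (nat_lit 0x1043341) (nat_lit 257))
 (.node (nat_lit 0x1043351) (.leaf (nat_lit 0x1043349) (nat_lit 768))
 (.leaf (nat_lit 0x1043351) (nat_lit 513))
)))) (.node (nat_lit 0x1045341) (.node (nat_lit 0x1045149) (.node (nat_lit 0x1045141) (.leaf (nat_lit 0x1043359) (nat_lit 512))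
 (.leaf (nat_lit 0x1045141) (nat_lit 773))
) (.node (nat_lit 0x1045151) (.leaf (nat_lit 0x1045149) (nat_lit 1029))
 (.node (nat_lit 0x1045159) (.leaf (nat_lit 0x1045151) (nat_lit 1029))
 (.leaf (nat_lit 0x1045159) (nat_lit 1025))
))) (.node (nat_lit 0x1045359) (.node (nat_lit 0x1045349) (.leaf (nat_lit 0x1045341) (nat_lit 517))
 (.node (nat_lit 0x1045351) (.leaf (nat_lit 0x1045349) (nat_lit 1029))
 (.leaf (nat_lit 0x1045351) (nat_lit 773))
)) (.node (nat_lit 0x1047141) (.leaf (nat_lit 0x1045359) (nat_lit 773))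
 (.node (nat_lit 0x1047149) (.leaf (nat_lit 0x1047141) (nat_lit 515))
 (.leaf (nat_lit 0x1047149) (nat_lit 771))
)))))) (.node (nat_lit 0x10612d5) (.node (nat_lit 0x1055841) (.node (nat_lit 0x1047259) (.node (nat_lit 0x1047241) (.node (nat_lit 0x1047159) (.leaf (nat_lit 0x1047151) (nat_lit 771))
 (.leaf (nat_lit 0x1047159) (nat_lit 1027))
) (.node (nat_lit 0x1047249) (.leaf (nat_lit 0x1047241) (nat_lit 259))
 (.node (nat_lit 0x1047251) (.leaf (nat_lit 0x1047249) (nat_lit 1027))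
 (.leaf (nat_lit 0x1047251) (nat_lit 515))
))) (.node (nat_lit 0x1055043) (.node (nat_lit 0x1055041) (.leaf (nat_lit 0x1047259) (nat_lit 1029))
 (.leaf (nat_lit 0x1055041) (nat_lit 1025))
) (.node (nat_lit 0x1055051) (.leaf (nat_lit 0x1055043) (nat_lit 1793))
 (.node (nat_lit 0x1055053) (.leaf (nat_lit 0x1055051) (nat_lit 1281))
 (.leaf (nat_lit 0x1055053) (nat_lit 1793))
)))) (.node (nat_lit 0x1061245) (.node (nat_lit 0x1055851) (.node (nat_lit 0x1055843) (.leaf (nat_lit 0x1055841) (nat_lit 1281))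
 (.leaf (nat_lit 0x1055843) (nat_lit 1793))
) (.node (nat_lit 0x1055853) (.leaf (nat_lit 0x1055851) (nat_lit 1537))
 (.node (nat_lit 0x1061241) (.leaf (nat_lit 0x1055853) (nat_lit 1537))
 (.leaf (nat_lit 0x1061241) (nat_lit 514))
))) (.node (nat_lit 0x10612c1) (.node (nat_lit 0x1061251) (.leaf (nat_lit 0x1061245) (nat_lit 1538))
 (.node (nat_lit 0x1061255) (.leaf (nat_lit 0x1061251) (nat_lit 770))
 (.leaf (nat_lit 0x1061255) (nat_lit 1282))
)) (.node (nat_lit 0x10612c5) (.leaf (nat_lit 0x10612c1) (nat_lit 770))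
 (.node (nat_lit 0x10612d1) (.leaf (nat_lit 0x10612c5) (nat_lit 1282))
 (.leaf (nat_lit 0x10612d1) (nat_lit 1026))
))))) (.node (nat_lit 0x1093b0b) (.node (nat_lit 0x1075241) (.node (nat_lit 0x1074a87) (.node (nat_lit 0x1074a81) (.leaf (nat_lit 0x10612d5) (nat_lit 1026))
 (.leaf (nat_lit 0x1074a81) (nat_lit 1029))
) (.node (nat_lit 0x1074a91) (.leaf (nat_lit 0x1074a87) (nat_lit 1541))
 (.node (nat_lit 0x1074a97) (.leaf (nat_lit 0x1074a91) (nat_lit 1285))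
 (.leaf (nat_lit 0x1074a97) (nat_lit 1285))
))) (.node (nat_lit 0x1075251) (.node (nat_lit 0x1075247) (.leaf (nat_lit 0x1075241) (nat_lit 773))
 (.leaf (nat_lit 0x1075247) (nat_lit 1538))
) (.node (nat_lit 0x1075257) (.leaf (nat_lit 0x1075251) (nat_lit 1029))
 (.node (nat_lit 0x1093b01) (.leaf (nat_lit 0x1075257) (nat_lit 1541))
 (.leaf (nat_lit 0x1093b01) (nat_lit 1025))
)))) (.node (nat_lit 0x1095311) (.node (nat_lit 0x1093b1b) (.node (nat_lit 0x1093b11) (.leaf (nat_lit 0x1093b0b) (nat_lit 1536))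
 (.leaf (nat_lit 0x1093b11) (nat_lit 1281))
) (.node (nat_lit 0x1095301) (.leaf (nat_lit 0x1093b1b) (nat_lit 1280))
 (.node (nat_lit 0x109530b) (.leaf (nat_lit 0x1095301) (nat_lit 1028))
 (.leaf (nat_lit 0x109530b) (nat_lit 1540))
))) (.node (nat_lit 0x10a61cd) (.node (nat_lit 0x109531b) (.leaf (nat_lit 0x1095311) (nat_lit 1284))
 (.node (nat_lit 0x10a61c1) (.leaf (nat_lit 0x109531b) (nat_lit 1284))
 (.leaf (nat_lit 0x10a61c1) (nat_lit 772))
)) (.node (nat_lit 0x10a61d1) (.leaf (nat_lit 0x10a61cd) (nat_lit 1028))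
 (.node (nat_lit 0x10a61dd) (.leaf (nat_lit 0x10a61d1) (nat_lit 1028))
 (.leaf (nat_lit 0x10a61dd) (nat_lit 1284))
))))))) (.node (nat_lit 0x10c51d1) (.node (nat_lit 0x10c12c5) (.node (nat_lit 0x10b5191) (.node (nat_lit 0x10b2a4f) (.node (nat_lit 0x10a6251) (.node (nat_lit 0x10a624d) (.leaf (nat_lit 0x10a6241) (nat_lit 516))
 (.leaf (nat_lit 0x10a624d) (nat_lit 1284))
) (.node (nat_lit 0x10a625d) (.leaf (nat_lit 0x10a6251) (nat_lit 772))
 (.node (nat_lit 0x10b2a41) (.leaf (nat_lit 0x10a625d) (nat_lit 1284))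
 (.leaf (nat_lit 0x10b2a41) (nat_lit 773))
))) (.node (nat_lit 0x10b2a5f) (.node (nat_lit 0x10b2a51) (.leaf (nat_lit 0x10b2a4f) (nat_lit 1541))
 (.leaf (nat_lit 0x10b2a51) (nat_lit 1029))
) (.node (nat_lit 0x10b5181) (.leaf (nat_lit 0x10b2a5f) (nat_lit 1541))
 (.node (nat_lit 0x10b518f) (.leaf (nat_lit 0x10b5181) (nat_lit 1029))
 (.leaf (nat_lit 0x10b518f) (nat_lit 1285))
)))) (.node (nat_lit 0x10c0897) (.node (nat_lit 0x10c0881) (.node (nat_lit 0x10b519f) (.leaf (nat_lit 0x10b5191) (nat_lit 1285))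
 (.leaf (nat_lit 0x10b519f) (nat_lit 1541))
) (.node (nat_lit 0x10c0887) (.leaf (nat_lit 0x10c0881) (nat_lit 1282))
 (.node (nat_lit 0x10c0891) (.leaf (nat_lit 0x10c0887) (nat_lit 1538))
 (.leaf (nat_lit 0x10c0891) (nat_lit 1538))
))) (.node (nat_lit 0x10c10d1) (.node (nat_lit 0x10c10c1) (.leaf (nat_lit 0x10c0897) (nat_lit 1794))
 (.node (nat_lit 0x10c10c5) (.leaf (nat_lit 0x10c10c1) (nat_lit 1282))
 (.leaf (nat_lit 0x10c10c5) (nat_lit 1538))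
)) (.node (nat_lit 0x10c10d5) (.leaf (nat_lit 0x10c10d1) (nat_lit 1538))
 (.node (nat_lit 0x10c12c1) (.leaf (nat_lit 0x10c10d5) (nat_lit 1538))
 (.leaf (nat_lit 0x10c12c1) (nat_lit 1026))
))))) (.node (nat_lit 0x10c2b9f) (.node (nat_lit 0x10c1851) (.node (nat_lit 0x10c12d5) (.node (nat_lit 0x10c12d1) (.leaf (nat_lit 0x10c12c5) (nat_lit 1538))
 (.leaf (nat_lit 0x10c12d1) (nat_lit 1282))
) (.node (nat_lit 0x10c1841) (.leaf (nat_lit 0x10c12d5) (nat_lit 1282))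
 (.node (nat_lit 0x10c1843) (.leaf (nat_lit 0x10c1841) (nat_lit 1537))
 (.leaf (nat_lit 0x10c1843) (nat_lit 1793))
))) (.node (nat_lit 0x10c2b81) (.node (nat_lit 0x10c1853) (.leaf (nat_lit 0x10c1851) (nat_lit 1793))
 (.leaf (nat_lit 0x10c1853) (nat_lit 2049))
) (.node (nat_lit 0x10c2b8f) (.leaf (nat_lit 0x10c2b81) (nat_lit 1029))
 (.node (nat_lit 0x10c2b91) (.leaf (nat_lit 0x10c2b8f) (nat_lit 1541))
 (.leaf (nat_lit 0x10c2b91) (nat_lit 1285))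
)))) (.node (nat_lit 0x10c4a81) (.node (nat_lit 0x10c3a4b) (.node (nat_lit 0x10c3a41) (.leaf (nat_lit 0x10c2b9f) (nat_lit 1285))
 (.leaf (nat_lit 0x10c3a41) (nat_lit 1028))
) (.node (nat_lit 0x10c3a51) (.leaf (nat_lit 0x10c3a4b) (nat_lit 1793))
 (.node (nat_lit 0x10c3a5b) (.leaf (nat_lit 0x10c3a51) (nat_lit 1284))
 (.leaf (nat_lit 0x10c3a5b) (nat_lit 1537))
))) (.node (nat_lit 0x10c4a97) (.node (nat_lit 0x10c4a87) (.leaf (nat_lit 0x10c4a81) (nat_lit 1284))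
 (.node (nat_lit 0x10c4a91) (.leaf (nat_lit 0x10c4a87) (nat_lit 1796))
 (.leaf (nat_lit 0x10c4a91) (nat_lit 1540))
)) (.node (nat_lit 0x10c51c1) (.leaf (nat_lit 0x10c4a97) (nat_lit 1540))
 (.node (nat_lit 0x10c51cd) (.leaf (nat_lit 0x10c51c1) (nat_lit 1028))
 (.leaf (nat_lit 0x10c51cd) (nat_lit 1284))
)))))) (.node (nat_lit 0x10d1853) (.node (nat_lit 0x10c6981) (.node (nat_lit 0x10c53dd) (.node (nat_lit 0x10c53c1) (.node (nat_lit 0x10c51dd) (.leaf (nat_lit 0x10c51d1) (nat_lit 1284))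
 (.leaf (nat_lit 0x10c51dd) (nat_lit 1284))
) (.node (nat_lit 0x10c53cd) (.leaf (nat_lit 0x10c53c1) (nat_lit 772))
 (.node (nat_lit 0x10c53d1) (.leaf (nat_lit 0x10c53cd) (nat_lit 1284))
 (.leaf (nat_lit 0x10c53d1) (nat_lit 1028))
))) (.node (nat_lit 0x10c5843) (.node (nat_lit 0x10c5841) (.leaf (nat_lit 0x10c53dd) (nat_lit 1028))
 (.leaf (nat_lit 0x10c5841) (nat_lit 1540))
) (.node (nat_lit 0x10c5851) (.leaf (nat_lit 0x10c5843) (nat_lit 2052))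
 (.node (nat_lit 0x10c5853) (.leaf (nat_lit 0x10c5851) (nat_lit 1796))
 (.leaf (nat_lit 0x10c5853) (nat_lit 1796))
)))) (.node (nat_lit 0x10c7a4b) (.node (nat_lit 0x10c6991) (.node (nat_lit 0x10c698f) (.leaf (nat_lit 0x10c6981) (nat_lit 1028))
 (.leaf (nat_lit 0x10c698f) (nat_lit 1284))
) (.node (nat_lit 0x10c699f) (.leaf (nat_lit 0x10c6991) (nat_lit 1284))
 (.node (nat_lit 0x10c7a41) (.leaf (nat_lit 0x10c699f) (nat_lit 1540))
 (.leaf (nat_lit 0x10c7a41) (nat_lit 772))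
))) (.node (nat_lit 0x10d1841) (.node (nat_lit 0x10c7a51) (.leaf (nat_lit 0x10c7a4b) (nat_lit 1540))
 (.node (nat_lit 0x10c7a5b) (.leaf (nat_lit 0x10c7a51) (nat_lit 1028))
 (.leaf (nat_lit 0x10c7a5b) (nat_lit 1540))
)) (.node (nat_lit 0x10d1843) (.leaf (nat_lit 0x10d1841) (nat_lit 1537))
 (.node (nat_lit 0x10d1851) (.leaf (nat_lit 0x10d1843) (nat_lit 1793))
 (.leaf (nat_lit 0x10d1851) (nat_lit 1793))
))))) (.node (nat_lit 0x10e1245) (.node (nat_lit 0x10e10c1) (.node (nat_lit 0x10d5043) (.node (nat_lit 0x10d5041) (.leaf (nat_lit 0x10d1853) (nat_lit 2049))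
 (.leaf (nat_lit 0x10d5041) (nat_lit 1281))
) (.node (nat_lit 0x10d5051) (.leaf (nat_lit 0x10d5043) (nat_lit 2049))
 (.node (nat_lit 0x10d5053) (.leaf (nat_lit 0x10d5051) (nat_lit 1537))
 (.leaf (nat_lit 0x10d5053) (nat_lit 2052))
))) (.node (nat_lit 0x10e10d1) (.node (nat_lit 0x10e10c5) (.leaf (nat_lit 0x10e10c1) (nat_lit 1026))
 (.leaf (nat_lit 0x10e10c5) (nat_lit 1282))
) (.node (nat_lit 0x10e10d5) (.leaf (nat_lit 0x10e10d1) (nat_lit 1282))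
 (.node (nat_lit 0x10e1241) (.leaf (nat_lit 0x10e10d5) (nat_lit 1538))
 (.leaf (nat_lit 0x10e1241) (nat_lit 770))
)))) (.node (nat_lit 0x10f0891) (.node (nat_lit 0x10e1255) (.node (nat_lit 0x10e1251) (.leaf (nat_lit 0x10e1245) (nat_lit 1538))
 (.leaf (nat_lit 0x10e1251) (nat_lit 1026))
) (.node (nat_lit 0x10f0881) (.leaf (nat_lit 0x10e1255) (nat_lit 1538))
 (.node (nat_lit 0x10f0887) (.leaf (nat_lit 0x10f0881) (nat_lit 1285))
 (.leaf (nat_lit 0x10f0887) (nat_lit 1541))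
))) (.node (nat_lit 0x10f5247) (.node (nat_lit 0x10f0897) (.leaf (nat_lit 0x10f0891) (nat_lit 1541))
 (.node (nat_lit 0x10f5241) (.leaf (nat_lit 0x10f0897) (nat_lit 1797))
 (.leaf (nat_lit 0x10f5241) (nat_lit 1029))
)) (.node (nat_lit 0x10f5251) (.leaf (nat_lit 0x10f5247) (nat_lit 1797))
 (.node (nat_lit 0x10f5257) (.leaf (nat_lit 0x10f5251) (nat_lit 1285))
 (.leaf (nat_lit 0x10f5257) (nat_lit 1796))
))))))))

theorem cO_ok : orbOK A [(nat_lit 0x1041043), (nat_lit 0x10410c1), (nat_lit 0x1043041), (nat_lit 0x10c1041), (nat_lit 0x1061041), (nat_lit 0x1041841)] (nat_lit 0x1043241) cO_t (nat_lit 168) = true := by decide +kernel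

end Cfsg.Agent.Rec.L52
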