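import Mathlib
import Cfsg.Agent.Rec.Sim
import Cfsg.Agent.Rec.L52.Trees

/-!
Groups with an involution whose centraliser is the centraliser `2^(1+6) : L₃(2)` of a transvection of `L₅(2)`: the
letters, the listed subgroups and classes, the symmetry induced by the graph automorphism.
-/

set_option autoImplicit false
set_option synthInstance.maxSize 100000
set_option synthInstance.maxHeartbeats 1000000

namespace Cfsg.Agent.Rec.L52

open Cfsg.Agent.Spor Cfsg.Agent.Rec Subgroup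

universe u

variable {G : Type u} [Group G]

section

variable {C : Cod A G} {x13 x14 z x23 x24 x25 x34 x35 x45 x12 x43 x32 : G}
  (h : C.RepL cH [x13, x14, z, x23, x24, x25, x34, x35, x45, x12, x43, x32])
include h

theorem genH : C.Lists H_t.dom (clos [x12, x23, x34, x45, x43, x32]) ∧
    Nat.card (clos [x12, x23, x34, x45, x43, x32]) = 21504 := (h.pick [9, 3, 6, 8, 10, 11]).gen H_ok

theorem clos_eq : clos [x13, x14, z, x23, x24, x25, x34, x35, x45, x12, x43, x32] =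
    clos [x12, x23, x34, x45, x43, x32] := by
  have h1 : ∀ y ∈ {y | y ∈ [x13, x14, z, x23, x24, x25, x34, x35, x45, x12, x43, x32]},
      y ∈ clos [x12, x23, x34, x45, x43, x32] :=
    (h.lists.cons ((genH h).1.cons Cod.listsL_nil)).decide h (by decide +kernel)
  exact le_antisymm (clos_le.2 h1) (clos_le.2 fun x hx => mem_clos (by simp at hx ⊢; tauto))

theorem genR1 : C.Lists R1_t.dom (clos [x13, x14, z, x23, x24, x25]) ∧
    Nat.card (clos [x13, x14, z, x23, x24, x25]) = 64 := (h.pick [0, 1, 2, 3, 4, 5]).gen R1_ok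

end

theorem relH_ok : allL relH (fun w => Nat.beq (evC A cH w) A.one) = true := by decide +kernel

theorem exists_rep0 : ∃ x13 x14 z x23 x24 x25 x34 x35 x45 x12 x43 x32 : GL (Fin 5) (ZMod 2),
    B5.C.RepL cH [x13, x14, z, x23, x24, x25, x34, x35, x45, x12, x43, x32] :=
  ⟨_, _, _, _, _, _, _, _, _, _, _, _, B5.repL cH_ok⟩

/-- Elements satisfying the relators and generating a group of order at least 21504 carry the codes. -/
theorem codH {e : List G} (hl : e.length = 12) (hs : Sat relH e) (hN : 21504 ≤ Nat.card (clos e)) :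
    ∃ C : Cod A G, C.RepL cH e := by
  obtain ⟨_, _, _, _, _, _, _, _, _, _, _, _, h⟩ := exists_rep0
  exact presH.cod_of_card h (h.sat relH_ok) rfl (clos_eq h ▸ (genH h).2) (by norm_num) hs hl hN

/-- The centraliser of `z` is the explicit group; `xij` stands for the elementary matrix, `z` for `x15`. -/
structure StH (G : Type u) [Group G] where
  (x13 x14 z x23 x24 x25 x34 x35 x45 x12 x43 x32 : G)
  C : Cod A G
  rep : C.RepL cH [x13, x14, z, x23, x24, x25, x34, x35, x45, x12, x43, x32]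
  cent : centralizer {z} = clos [x13, x14, z, x23, x24, x25, x34, x35, x45, x12, x43, x32]

namespace StH

variable (s : StH G)

/-- The letters. -/
abbrev e : List G := [s.x13, s.x14, s.z, s.x23, s.x24, s.x25, s.x34, s.x35, s.x45, s.x12, s.x43, s.x32]
/-- The centraliser of `z`, order 21504. -/
def H : Subgroup G := centralizer {s.z}
/-- A Sylow 2-subgroup, order 1024. -/
def T : Subgroup G := clos [s.x12, s.x23, s.x34, s.x45]
/-- The first elementary abelian subgroup of order 64. -/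
def R1 : Subgroup G := clos [s.x13, s.x14, s.z, s.x23, s.x24, s.x25]
/-- The second elementary abelian subgroup of order 64. -/
def R2 : Subgroup G := clos [s.x35, s.x25, s.z, s.x34, s.x24, s.x14]
/-- `R1 ⊓ R2`, order 16. -/
def E : Subgroup G := clos [s.x14, s.z, s.x24, s.x25]
/-- The centraliser of `x25` in `H`, order 1536. -/
def D1 : Subgroup G := clos [s.x13, s.x23, s.x34, s.x45, s.x43]
/-- The centraliser of `x25` in `T`, order 512. -/
def T1 : Subgroup G := clos [s.x13, s.x23, s.x34, s.x45]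
/-- The centraliser of `x14 x25` in `H`, order 512. -/
def Tm : Subgroup G := clos [s.x13, s.x23, s.x34, s.x35, s.x12 * s.x45]
/-- The class of `x` in `H`. -/
def cl (x : G) : Set G := {y | ∃ g ∈ s.H, g * x * g⁻¹ = y}
/-- The class of `x14`, 14 elements. -/
def cA : Set G := s.cl s.x14
/-- The class of `x25`, 14 elements. -/
def cB : Set G := s.cl s.x25
/-- The class of `x14 x25`, 42 elements. -/
def cM : Set G := s.cl (s.x14 * s.x25)
/-- The class of `x24`, 84 elements. -/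
def cX : Set G := s.cl s.x24
/-- The class of `z x24`, 84 elements. -/
def cY : Set G := s.cl (s.z * s.x24)
/-- The class of `x14 x23`, 168 elements. -/
def cN : Set G := s.cl (s.x14 * s.x23)
/-- The class of `x25 x34`, 168 elements. -/
def cO : Set G := s.cl (s.x25 * s.x34)

theorem H_eq : s.H = clos s.e := s.cent
theorem H_eq' : s.H = clos [s.x12, s.x23, s.x34, s.x45, s.x43, s.x32] := s.cent.trans (clos_eq s.rep)
theorem mem_H {g : G} : g ∈ s.H ↔ g * s.z = s.z * g := mem_cen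
theorem mem_H' {g : G} : g ∈ s.H ↔ g * s.z * g⁻¹ = s.z := mem_cen'

theorem genH : s.C.Lists H_t.dom s.H ∧ Nat.card s.H = 21504 := s.H_eq' ▸ L52.genH s.rep
theorem genT : s.C.Lists T_t.dom s.T ∧ Nat.card s.T = 1024 := (s.rep.pick [9, 3, 6, 8]).gen T_ok
theorem genR1 : s.C.Lists R1_t.dom s.R1 ∧ Nat.card s.R1 = 64 := L52.genR1 s.rep
theorem genR2 : s.C.Lists R2_t.dom s.R2 ∧ Nat.card s.R2 = 64 := (s.rep.pick [7, 5, 2, 6, 4, 1]).gen R2_ok
theorem genE : s.C.Lists E_t.dom s.E ∧ Nat.card s.E = 16 := (s.rep.pick [1, 2, 4, 5]).gen E_ok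
theorem genD1 : s.C.Lists D1_t.dom s.D1 ∧ Nat.card s.D1 = 1536 := (s.rep.pick [0, 3, 6, 8, 10]).gen D1_ok
theorem genT1 : s.C.Lists T1_t.dom s.T1 ∧ Nat.card s.T1 = 512 := (s.rep.pick [0, 3, 6, 8]).gen T1_ok
theorem genTm : s.C.Lists Tm_t.dom s.Tm ∧ Nat.card s.Tm = 512 :=
  ((s.rep.nth 0).cons <| (s.rep.nth 3).cons <| (s.rep.nth 6).cons <| (s.rep.nth 7).cons <|
    (s.rep.term _ (by decide +kernel)).cons Cod.repL_nil).gen Tm_ok

theorem gen_cl {r N : ℕ} {t : ST} {x : G} (hr : s.C.Rep r x)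
    (h : orbOK A ([9, 3, 6, 8, 10, 11].map (nth A.one cH)) r t N = true) :
    s.C.Lists t.dom (s.cl x) ∧ (s.cl x).ncard = N := by
  unfold cl
  rw [s.H_eq']
  exact (s.rep.pick [9, 3, 6, 8, 10, 11]).orb hr h

theorem genA : s.C.Lists cA_t.dom s.cA ∧ s.cA.ncard = 14 := s.gen_cl (s.rep.nth 1) cA_ok
theorem genB : s.C.Lists cB_t.dom s.cB ∧ s.cB.ncard = 14 := s.gen_cl (s.rep.nth 5) cB_ok
theorem genM : s.C.Lists cM_t.dom s.cM ∧ s.cM.ncard = 42 := s.gen_cl (s.rep.term _ (by decide +kernel)) cM_ok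
theorem genX : s.C.Lists cX_t.dom s.cX ∧ s.cX.ncard = 84 := s.gen_cl (s.rep.nth 4) cX_ok
theorem genY : s.C.Lists cY_t.dom s.cY ∧ s.cY.ncard = 84 := s.gen_cl (s.rep.term _ (by decide +kernel)) cY_ok
theorem genN : s.C.Lists cN_t.dom s.cN ∧ s.cN.ncard = 168 := s.gen_cl (s.rep.term _ (by decide +kernel)) cN_ok
theorem genO : s.C.Lists cO_t.dom s.cO ∧ s.cO.ncard = 168 := s.gen_cl (s.rep.term _ (by decide +kernel)) cO_ok

/-- The listed sets; use `s.lists.decide s.rep (by decide +kernel)`. -/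
theorem lists : s.C.ListsL
    [H_t.dom, T_t.dom, R1_t.dom, R2_t.dom, E_t.dom, D1_t.dom, T1_t.dom, Tm_t.dom,
      cA_t.dom, cB_t.dom, cM_t.dom, cX_t.dom, cY_t.dom, cN_t.dom, cO_t.dom]
    [s.H, s.T, s.R1, s.R2, s.E, s.D1, s.T1, s.Tm, s.cA, s.cB, s.cM, s.cX, s.cY, s.cN, s.cO] :=
  s.genH.1.cons <| s.genT.1.cons <| s.genR1.1.cons <| s.genR2.1.cons <| s.genE.1.cons <| s.genD1.1.cons <|
    s.genT1.1.cons <| s.genTm.1.cons <| s.genA.1.cons <| s.genB.1.cons <| s.genM.1.cons <| s.genX.1.cons <|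
    s.genY.1.cons <| s.genN.1.cons <| s.genO.1.cons Cod.listsL_nil

theorem sat : Sat relH s.e := s.rep.sat relH_ok

theorem exists_flip : ∃ C : Cod A G,
    C.RepL cH [s.x35, s.x25, s.z, s.x34, s.x24, s.x14, s.x23, s.x13, s.x12, s.x45, s.x32, s.x43] ∧
    centralizer {s.z} = clos [s.x35, s.x25, s.z, s.x34, s.x24, s.x14, s.x23, s.x13, s.x12, s.x45, s.x32, s.x43] := by
  have h : s.H = clos [s.x35, s.x25, s.z, s.x34, s.x24, s.x14, s.x23, s.x13, s.x12, s.x45, s.x32, s.x43] := by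
    rw [s.H_eq]
    exact le_antisymm (clos_le.2 fun x hx => mem_clos (by simp at hx ⊢; tauto))
      (clos_le.2 fun x hx => mem_clos (by simp at hx ⊢; tauto))
  obtain ⟨C, hC⟩ := codH rfl ((s.rep.pick [7, 5, 2, 6, 4, 1, 3, 0, 9, 8, 11, 10]).sat (by decide +kernel))
    (h ▸ s.genH.2).ge
  exact ⟨C, hC, h⟩

/-- The letters after the graph automorphism. -/
noncomputable def flip : StH G where
  x13 := s.x35
  x14 := s.x25
  z := s.z
  x23 := s.x34
  x24 := s.x24
  x25 := s.x14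
  x34 := s.x23
  x35 := s.x13
  x45 := s.x12
  x12 := s.x45
  x43 := s.x32
  x32 := s.x43
  C := s.exists_flip.choose
  rep := s.exists_flip.choose_spec.1
  cent := s.exists_flip.choose_spec.2

theorem flip_T : s.flip.T = s.T :=
  le_antisymm (clos_le.2 fun x hx => mem_clos (by simp [flip] at hx ⊢; tauto))
    (clos_le.2 fun x hx => mem_clos (by simp [flip] at hx ⊢; tauto))

theorem flip_E : s.flip.E = s.E :=
  le_antisymm (clos_le.2 fun x hx => mem_clos (by simp [flip] at hx ⊢; tauto))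
    (clos_le.2 fun x hx => mem_clos (by simp [flip] at hx ⊢; tauto))

theorem flip_m : s.flip.x14 * s.flip.x25 = s.x14 * s.x25 :=
  show s.x25 * s.x14 = s.x14 * s.x25 from s.lists.decide s.rep (by decide +kernel)

theorem conj_mem_cl {x y g : G} (hg : g ∈ s.H) (hy : y ∈ s.cl x) : g * y * g⁻¹ ∈ s.cl x := by
  obtain ⟨h, hh, rfl⟩ := hy
  exact ⟨g * h, mul_mem hg hh, by group⟩

theorem isConj_of_cl {x y : G} (hy : y ∈ s.cl x) : IsConj x y := by
  obtain ⟨h, -, rfl⟩ := hy
  exact isConj_iff.2 ⟨h, rfl⟩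

/-- The classes of involutions of `H`. -/
theorem inv_cases : ∀ x ∈ s.H, x * x = 1 → x = 1 ∨ x = s.z ∨ x ∈ s.cA ∨ x ∈ s.cB ∨ x ∈ s.cM ∨ x ∈ s.cX ∨ x ∈ s.cY ∨
    x ∈ s.cN ∨ x ∈ s.cO := s.lists.decide s.rep (by decide +kernel)

theorem z_sq : s.z * s.z = 1 := s.lists.decide s.rep (by decide +kernel)
theorem z_ne : s.z ≠ 1 := s.lists.decide s.rep (by decide +kernel)
theorem T_le : s.T ≤ s.H := s.lists.decide s.rep (by decide +kernel)
theorem R1_le : s.R1 ≤ s.T := s.lists.decide s.rep (by decide +kernel)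
theorem R2_le : s.R2 ≤ s.T := s.lists.decide s.rep (by decide +kernel)
theorem E_le : s.E ≤ s.R1 := s.lists.decide s.rep (by decide +kernel)
theorem E_le' : s.E ≤ s.R2 := s.lists.decide s.rep (by decide +kernel)
theorem R1_comm : ∀ x ∈ s.R1, ∀ y ∈ s.R1, x * y = y * x := s.lists.decide s.rep (by decide +kernel)
theorem R1_sq : ∀ x ∈ s.R1, x * x = 1 := s.lists.decide s.rep (by decide +kernel)
theorem mem_R1 : s.x13 ∈ s.R1 ∧ s.x14 ∈ s.R1 ∧ s.z ∈ s.R1 ∧ s.x23 ∈ s.R1 ∧ s.x24 ∈ s.R1 ∧ s.x25 ∈ s.R1 :=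
  s.lists.decide s.rep (by decide +kernel)

theorem cent_R1 (g : G) (h : ∀ x ∈ s.R1, g * x = x * g) : g ∈ s.R1 := by
  obtain ⟨h1, h2, h3, h4, h5, h6⟩ := s.mem_R1
  have h7 : ∀ g ∈ s.H, g * s.x13 = s.x13 * g → g * s.x14 = s.x14 * g → g * s.x23 = s.x23 * g →
      g * s.x24 = s.x24 * g → g * s.x25 = s.x25 * g → g ∈ s.R1 := s.lists.decide s.rep (by decide +kernel)
  exact h7 g (s.mem_H.2 (h _ h3)) (h _ h1) (h _ h2) (h _ h4) (h _ h5) (h _ h6)

/-- The union of `{z}` and some of the classes. -/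
def ZS (a b x y n o : Bool) : Set G := {w | w ∈ [s.z]} ∪ ({w | a = true ∧ w ∈ s.cA} ∪ ({w | b = true ∧ w ∈ s.cB} ∪
  ({w | x = true ∧ w ∈ s.cX} ∪ ({w | y = true ∧ w ∈ s.cY} ∪ ({w | n = true ∧ w ∈ s.cN} ∪ {w | o = true ∧ w ∈ s.cO})))))

end StH

/-- The domain listing `ZS`. -/
noncomputable def ZD (a b x y n o : Bool) : Dom := (listDom ([2].map (nth A.one cH))).union ((cA_t.dom.cond a).union
  ((cB_t.dom.cond b).union ((cX_t.dom.cond x).union ((cY_t.dom.cond y).union ((cN_t.dom.cond n).union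
    (cO_t.dom.cond o))))))

theorem StH.genZ (s : StH G) (a b x y n o : Bool) : s.C.Lists (ZD a b x y n o) (s.ZS a b x y n o) :=
  (s.rep.pick [2]).lists.union <| (s.genA.1.cond a).union <| (s.genB.1.cond b).union <| (s.genX.1.cond x).union <|
    (s.genY.1.cond y).union <| (s.genN.1.cond n).union (s.genO.1.cond o)

end Cfsg.Agent.Rec.L52
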