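import Mathlib
import Cfsg.Agent.Rec.L52.Data
import Cfsg.Agent.Rec.Sim

/-! Generated by tools/rec: the element of order three normalising R1 -/

set_option autoImplicit false
set_option maxRecDepth 100000
set_option linter.unusedVariables false
set_option exponentiation.threshold 100000

namespace Cfsg.Agent.Rec.L52

open Cfsg.Agent.Spor Cfsg.Agent.Rec

universe u

/-- Data depending on the types of the two elements of order three. -/
noncomputable def sel {α : Type} (a b : Bool) (x y z : α) : α := Bool.rec x (Bool.rec y z b) a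

def flW : List (List ℕ) :=
  [[7],
   [5],
   [2],
   [6],
   [4],
   [1],
   [3],
   [0],
   [9],
   [8],
   [11],
   [10],
   [14],
   [15],
   [12],
   [13]]

noncomputable def cw (a b : Bool) : List (List ℕ) :=
  sel a b [[9], [6], [10], [8]]
    [[9], [6, 2], [10, 2, 0], [8, 0]]
    [[9, 2, 0], [6, 4, 2], [10, 2, 0], [8, 0]]

noncomputable def WX (a b : Bool) : List (List ℕ) :=
  sel a b [[0], [1], [2], [3], [4], [5], [7], [9, 7, 9, 7], [9], [6], [8]]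
    [[0], [1], [2], [3], [4], [5], [7, 2], [9, 7, 1, 9, 7], [9, 0], [6], [8, 2, 0]]
    [[0], [1], [2], [3], [4], [5], [7, 4, 2], [9, 7, 1, 9, 7, 5], [9, 0], [6, 2, 0], [8, 2, 0]]

noncomputable def WY (a b : Bool) : List (List ℕ) := [[0], [1], [2], [3], [4], [5]] ++ cw a b

def asH : List (List ℕ) :=
  [[0, 0],
   [1, 1],
   [2, 2],
   [3, 3],
   [4, 4],
   [5, 5],
   [0, 1, 0, 1],
   [0, 2, 0, 2],
   [0, 3, 0, 3],
   [0, 4, 0, 4],
   [0, 5, 0, 5],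
   [1, 2, 1, 2],
   [1, 3, 1, 3],
   [1, 4, 1, 4],
   [1, 5, 1, 5],
   [2, 3, 2, 3],
   [2, 4, 2, 4],
   [2, 5, 2, 5],
   [3, 4, 3, 4],
   [3, 5, 3, 5],
   [4, 5, 4, 5],
   [6, 6],
   [7, 7],
   [8, 8],
   [9, 9],
   [6, 0, 6, 0],
   [6, 1, 6, 1],
   [6, 2, 6, 2],
   [6, 3, 6, 3, 0],
   [6, 4, 6, 4, 1],
   [6, 5, 6, 5, 2],
   [7, 0, 7, 1, 0],
   [7, 1, 7, 1],
   [7, 2, 7, 2],
   [7, 3, 7, 4, 3],
   [7, 4, 7, 4],
   [7, 5, 7, 5],
   [8, 0, 8, 0],
   [8, 1, 8, 1, 0],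
   [8, 2, 8, 2],
   [8, 3, 8, 3],
   [8, 4, 8, 4, 3],
   [8, 5, 8, 5],
   [9, 0, 9, 0],
   [9, 1, 9, 2, 1],
   [9, 2, 9, 2],
   [9, 3, 9, 3],
   [9, 4, 9, 5, 4],
   [9, 5, 9, 5]]

def asY : List (List ℕ) :=
  [[10, 11],
   [11, 10],
   [10, 0, 11, 3],
   [10, 1, 11, 4],
   [10, 2, 11, 5],
   [10, 3, 11, 3, 0],
   [10, 4, 11, 4, 1],
   [10, 5, 11, 5, 2]]

noncomputable def asV (a b : Bool) : List (List ℕ) :=
  sel a b [[12, 13], [13, 12], [12, 0, 13, 0], [12, 1, 13, 2, 1], [12, 2, 13, 1], [12, 3, 13, 3], [12, 4, 13, 5, 4], [12, 5, 13, 4]]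
    [[12, 13], [13, 12], [12, 0, 13, 5, 4, 2, 1, 0], [12, 1, 13, 2, 1], [12, 2, 13, 1], [12, 3, 13, 3, 2, 1], [12, 4, 13, 5, 4], [12, 5, 13, 4]]
    [[12, 13], [13, 12], [12, 0, 13, 5, 4, 1, 0], [12, 1, 13, 2, 1], [12, 2, 13, 1], [12, 3, 13, 5, 3, 2, 1], [12, 4, 13, 5, 4], [12, 5, 13, 4]]

noncomputable def act2 (a b : Bool) : List (List ℕ) :=
  sel a b [[12, 13], [13, 12], [12, 7, 13, 7], [12, 5, 13, 2, 5], [12, 2, 13, 5], [12, 6, 13, 6], [12, 4, 13, 1, 4], [12, 1, 13, 4]]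
    [[12, 13], [13, 12], [12, 7, 13, 1, 4, 2, 5, 7], [12, 5, 13, 2, 5], [12, 2, 13, 5], [12, 6, 13, 6, 2, 5], [12, 4, 13, 1, 4], [12, 1, 13, 4]]
    [[12, 13], [13, 12], [12, 7, 13, 1, 4, 5, 7], [12, 5, 13, 2, 5], [12, 2, 13, 5], [12, 6, 13, 1, 6, 2, 5], [12, 4, 13, 1, 4], [12, 1, 13, 4]]

noncomputable def relY (a b : Bool) : List (List ℕ) :=
  sel a b [[12, 13], [13, 12], [12, 12, 12], [12, 0, 13, 3], [12, 1, 13, 4], [12, 2, 13, 5], [12, 3, 13, 3, 0], [12, 4, 13, 4, 1], [12, 5, 13, 5, 2], [9, 12, 9, 12], [6, 12, 6, 13], [10, 12, 10, 13], [8, 12, 8, 13]]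
    [[12, 13], [13, 12], [12, 12, 12], [12, 0, 13, 3], [12, 1, 13, 4], [12, 2, 13, 5], [12, 3, 13, 3, 0], [12, 4, 13, 4, 1], [12, 5, 13, 5, 2], [9, 12, 9, 12], [6, 2, 12, 6, 2, 13], [10, 2, 0, 12, 10, 2, 0, 13], [8, 0, 12, 8, 0, 13]]
    [[12, 13], [13, 12], [12, 12, 12], [12, 0, 13, 3], [12, 1, 13, 4], [12, 2, 13, 5], [12, 3, 13, 3, 0], [12, 4, 13, 4, 1], [12, 5, 13, 5, 2], [9, 2, 0, 12, 9, 2, 0, 12], [6, 4, 2, 12, 6, 4, 2, 13], [10, 2, 0, 12, 10, 2, 0, 13], [8, 0, 12, 8, 0, 13]]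

noncomputable def kY : List ℕ := [(nat_lit 0x1041045), (nat_lit 0x1041049), (nat_lit 0x1041051), (nat_lit 0x10410c1), (nat_lit 0x1041141), (nat_lit 0x1041241), (nat_lit 0x1041043), (nat_lit 0x1043041), (nat_lit 0x1061041), (nat_lit 0x10c1041), (nat_lit 0x1041062), (nat_lit 0x1041023)]

theorem kY_ok : allL kY B5.v = true := by decide +kernel

noncomputable def KY_t : ST :=
(.node (nat_lit 0x10a2022) (.node (nat_lit 0x1045022) (.node (nat_lit 0x1027022) (.node (nat_lit 0x1023043) (.node (nat_lit 0x1022061) (.node (nat_lit 0x1022041) (.node (nat_lit 0x1022023) (.leaf (nat_lit 0x1022022) (nat_lit 1284))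
 (.leaf (nat_lit 0x1022023) (nat_lit 1029))
) (.node (nat_lit 0x1022043) (.leaf (nat_lit 0x1022041) (nat_lit 769))
 (.leaf (nat_lit 0x1022043) (nat_lit 1025))
)) (.node (nat_lit 0x1023022) (.node (nat_lit 0x1022062) (.leaf (nat_lit 0x1022061) (nat_lit 1285))
 (.leaf (nat_lit 0x1022062) (nat_lit 1028))
) (.node (nat_lit 0x1023023) (.leaf (nat_lit 0x1023022) (nat_lit 1028))
 (.node (nat_lit 0x1023041) (.leaf (nat_lit 0x1023023) (nat_lit 773))
 (.leaf (nat_lit 0x1023041) (nat_lit 514))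
)))) (.node (nat_lit 0x1026023) (.node (nat_lit 0x1023062) (.node (nat_lit 0x1023061) (.leaf (nat_lit 0x1023043) (nat_lit 770))
 (.leaf (nat_lit 0x1023061) (nat_lit 1029))
) (.node (nat_lit 0x1026022) (.leaf (nat_lit 0x1023062) (nat_lit 772))
 (.leaf (nat_lit 0x1026022) (nat_lit 1540))
)) (.node (nat_lit 0x1026043) (.node (nat_lit 0x1026041) (.leaf (nat_lit 0x1026023) (nat_lit 1285))
 (.leaf (nat_lit 0x1026041) (nat_lit 1026))
) (.node (nat_lit 0x1026061) (.leaf (nat_lit 0x1026043) (nat_lit 1282))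
 (.node (nat_lit 0x1026062) (.leaf (nat_lit 0x1026061) (nat_lit 1541))
 (.leaf (nat_lit 0x1026062) (nat_lit 1284))
))))) (.node (nat_lit 0x1041043) (.node (nat_lit 0x1027061) (.node (nat_lit 0x1027041) (.node (nat_lit 0x1027023) (.leaf (nat_lit 0x1027022) (nat_lit 1284))
 (.leaf (nat_lit 0x1027023) (nat_lit 1029))
) (.node (nat_lit 0x1027043) (.leaf (nat_lit 0x1027041) (nat_lit 770))
 (.leaf (nat_lit 0x1027043) (nat_lit 1026))
)) (.node (nat_lit 0x1041022) (.node (nat_lit 0x1027062) (.leaf (nat_lit 0x1027061) (nat_lit 1285))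
 (.leaf (nat_lit 0x1027062) (nat_lit 1028))
) (.node (nat_lit 0x1041023) (.leaf (nat_lit 0x1041022) (nat_lit 516))
 (.node (nat_lit 0x1041041) (.leaf (nat_lit 0x1041023) (nat_lit 261))
 (.leaf (nat_lit 0x1041041) (nat_lit 0))
)))) (.node (nat_lit 0x1043023) (.node (nat_lit 0x1041062) (.node (nat_lit 0x1041061) (.leaf (nat_lit 0x1041043) (nat_lit 256))
 (.leaf (nat_lit 0x1041061) (nat_lit 517))
) (.node (nat_lit 0x1043022) (.leaf (nat_lit 0x1041062) (nat_lit 260))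
 (.leaf (nat_lit 0x1043022) (nat_lit 772))
)) (.node (nat_lit 0x1043043) (.node (nat_lit 0x1043041) (.leaf (nat_lit 0x1043023) (nat_lit 517))
 (.leaf (nat_lit 0x1043041) (nat_lit 257))
) (.node (nat_lit 0x1043061) (.leaf (nat_lit 0x1043043) (nat_lit 513))
 (.node (nat_lit 0x1043062) (.leaf (nat_lit 0x1043061) (nat_lit 773))
 (.leaf (nat_lit 0x1043062) (nat_lit 516))
)))))) (.node (nat_lit 0x1062022) (.node (nat_lit 0x1047043) (.node (nat_lit 0x1045061) (.node (nat_lit 0x1045041) (.node (nat_lit 0x1045023) (.leaf (nat_lit 0x1045022) (nat_lit 1540))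
 (.leaf (nat_lit 0x1045023) (nat_lit 1285))
) (.node (nat_lit 0x1045043) (.leaf (nat_lit 0x1045041) (nat_lit 1027))
 (.leaf (nat_lit 0x1045043) (nat_lit 1283))
)) (.node (nat_lit 0x1047022) (.node (nat_lit 0x1045062) (.leaf (nat_lit 0x1045061) (nat_lit 1541))
 (.leaf (nat_lit 0x1045062) (nat_lit 1284))
) (.node (nat_lit 0x1047023) (.leaf (nat_lit 0x1047022) (nat_lit 1284))
 (.node (nat_lit 0x1047041) (.leaf (nat_lit 0x1047023) (nat_lit 1029))
 (.leaf (nat_lit 0x1047041) (nat_lit 771))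
)))) (.node (nat_lit 0x1061023) (.node (nat_lit 0x1047062) (.node (nat_lit 0x1047061) (.leaf (nat_lit 0x1047043) (nat_lit 1027))
 (.leaf (nat_lit 0x1047061) (nat_lit 1285))
) (.node (nat_lit 0x1061022) (.leaf (nat_lit 0x1047062) (nat_lit 1028))
 (.leaf (nat_lit 0x1061022) (nat_lit 772))
)) (.node (nat_lit 0x1061043) (.node (nat_lit 0x1061041) (.leaf (nat_lit 0x1061023) (nat_lit 517))
 (.leaf (nat_lit 0x1061041) (nat_lit 258))
) (.node (nat_lit 0x1061061) (.leaf (nat_lit 0x1061043) (nat_lit 514))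
 (.node (nat_lit 0x1061062) (.leaf (nat_lit 0x1061061) (nat_lit 773))
 (.leaf (nat_lit 0x1061062) (nat_lit 516))
))))) (.node (nat_lit 0x1065043) (.node (nat_lit 0x1062061) (.node (nat_lit 0x1062041) (.node (nat_lit 0x1062023) (.leaf (nat_lit 0x1062022) (nat_lit 1028))
 (.leaf (nat_lit 0x1062023) (nat_lit 773))
) (.node (nat_lit 0x1062043) (.leaf (nat_lit 0x1062041) (nat_lit 513))
 (.leaf (nat_lit 0x1062043) (nat_lit 769))
)) (.node (nat_lit 0x1065022) (.node (nat_lit 0x1062062) (.leaf (nat_lit 0x1062061) (nat_lit 1029))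
 (.leaf (nat_lit 0x1062062) (nat_lit 772))
) (.node (nat_lit 0x1065023) (.leaf (nat_lit 0x1065022) (nat_lit 1540))
 (.node (nat_lit 0x1065041) (.leaf (nat_lit 0x1065023) (nat_lit 1285))
 (.leaf (nat_lit 0x1065041) (nat_lit 1026))
)))) (.node (nat_lit 0x1066023) (.node (nat_lit 0x1065062) (.node (nat_lit 0x1065061) (.leaf (nat_lit 0x1065043) (nat_lit 1282))
 (.leaf (nat_lit 0x1065061) (nat_lit 1541))
) (.node (nat_lit 0x1066022) (.leaf (nat_lit 0x1065062) (nat_lit 1284))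
 (.leaf (nat_lit 0x1066022) (nat_lit 1540))
)) (.node (nat_lit 0x1066043) (.node (nat_lit 0x1066041) (.leaf (nat_lit 0x1066023) (nat_lit 1285))
 (.leaf (nat_lit 0x1066041) (nat_lit 1027))
) (.node (nat_lit 0x1066061) (.leaf (nat_lit 0x1066043) (nat_lit 1283))
 (.node (nat_lit 0x1066062) (.leaf (nat_lit 0x1066061) (nat_lit 1541))
 (.leaf (nat_lit 0x1066062) (nat_lit 1284))
))))))) (.node (nat_lit 0x10c5022) (.node (nat_lit 0x10a7022) (.node (nat_lit 0x10a3043) (.node (nat_lit 0x10a2061) (.node (nat_lit 0x10a2041) (.node (nat_lit 0x10a2023) (.leaf (nat_lit 0x10a2022) (nat_lit 1540))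
 (.leaf (nat_lit 0x10a2023) (nat_lit 1285))
) (.node (nat_lit 0x10a2043) (.leaf (nat_lit 0x10a2041) (nat_lit 1027))
 (.leaf (nat_lit 0x10a2043) (nat_lit 1283))
)) (.node (nat_lit 0x10a3022) (.node (nat_lit 0x10a2062) (.leaf (nat_lit 0x10a2061) (nat_lit 1541))
 (.leaf (nat_lit 0x10a2062) (nat_lit 1284))
) (.node (nat_lit 0x10a3023) (.leaf (nat_lit 0x10a3022) (nat_lit 1284))
 (.node (nat_lit 0x10a3041) (.leaf (nat_lit 0x10a3023) (nat_lit 1029))
 (.leaf (nat_lit 0x10a3041) (nat_lit 771))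
)))) (.node (nat_lit 0x10a6023) (.node (nat_lit 0x10a3062) (.node (nat_lit 0x10a3061) (.leaf (nat_lit 0x10a3043) (nat_lit 1027))
 (.leaf (nat_lit 0x10a3061) (nat_lit 1285))
) (.node (nat_lit 0x10a6022) (.leaf (nat_lit 0x10a3062) (nat_lit 1028))
 (.leaf (nat_lit 0x10a6022) (nat_lit 1540))
)) (.node (nat_lit 0x10a6043) (.node (nat_lit 0x10a6041) (.leaf (nat_lit 0x10a6023) (nat_lit 1285))
 (.leaf (nat_lit 0x10a6041) (nat_lit 1025))
) (.node (nat_lit 0x10a6061) (.leaf (nat_lit 0x10a6043) (nat_lit 1281))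
 (.node (nat_lit 0x10a6062) (.leaf (nat_lit 0x10a6061) (nat_lit 1541))
 (.leaf (nat_lit 0x10a6062) (nat_lit 1284))
))))) (.node (nat_lit 0x10c1043) (.node (nat_lit 0x10a7061) (.node (nat_lit 0x10a7041) (.node (nat_lit 0x10a7023) (.leaf (nat_lit 0x10a7022) (nat_lit 1540))
 (.leaf (nat_lit 0x10a7023) (nat_lit 1285))
) (.node (nat_lit 0x10a7043) (.leaf (nat_lit 0x10a7041) (nat_lit 1027))
 (.leaf (nat_lit 0x10a7043) (nat_lit 1283))
)) (.node (nat_lit 0x10c1022) (.node (nat_lit 0x10a7062) (.leaf (nat_lit 0x10a7061) (nat_lit 1541))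
 (.leaf (nat_lit 0x10a7062) (nat_lit 1284))
) (.node (nat_lit 0x10c1023) (.leaf (nat_lit 0x10c1022) (nat_lit 772))
 (.node (nat_lit 0x10c1041) (.leaf (nat_lit 0x10c1023) (nat_lit 517))
 (.leaf (nat_lit 0x10c1041) (nat_lit 259))
)))) (.node (nat_lit 0x10c3023) (.node (nat_lit 0x10c1062) (.node (nat_lit 0x10c1061) (.leaf (nat_lit 0x10c1043) (nat_lit 515))
 (.leaf (nat_lit 0x10c1061) (nat_lit 773))
) (.node (nat_lit 0x10c3022) (.leaf (nat_lit 0x10c1062) (nat_lit 516))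
 (.leaf (nat_lit 0x10c3022) (nat_lit 1028))
)) (.node (nat_lit 0x10c3043) (.node (nat_lit 0x10c3041) (.leaf (nat_lit 0x10c3023) (nat_lit 773))
 (.leaf (nat_lit 0x10c3041) (nat_lit 515))
) (.node (nat_lit 0x10c3061) (.leaf (nat_lit 0x10c3043) (nat_lit 771))
 (.node (nat_lit 0x10c3062) (.leaf (nat_lit 0x10c3061) (nat_lit 1029))
 (.leaf (nat_lit 0x10c3062) (nat_lit 772))
)))))) (.node (nat_lit 0x10e2022) (.node (nat_lit 0x10c7043) (.node (nat_lit 0x10c5061) (.node (nat_lit 0x10c5041) (.node (nat_lit 0x10c5023) (.leaf (nat_lit 0x10c5022) (nat_lit 1284))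
 (.leaf (nat_lit 0x10c5023) (nat_lit 1029))
) (.node (nat_lit 0x10c5043) (.leaf (nat_lit 0x10c5041) (nat_lit 769))
 (.leaf (nat_lit 0x10c5043) (nat_lit 1025))
)) (.node (nat_lit 0x10c7022) (.node (nat_lit 0x10c5062) (.leaf (nat_lit 0x10c5061) (nat_lit 1285))
 (.leaf (nat_lit 0x10c5062) (nat_lit 1028))
) (.node (nat_lit 0x10c7023) (.leaf (nat_lit 0x10c7022) (nat_lit 1028))
 (.node (nat_lit 0x10c7041) (.leaf (nat_lit 0x10c7023) (nat_lit 773))
 (.leaf (nat_lit 0x10c7041) (nat_lit 513))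
)))) (.node (nat_lit 0x10e1023) (.node (nat_lit 0x10c7062) (.node (nat_lit 0x10c7061) (.leaf (nat_lit 0x10c7043) (nat_lit 769))
 (.leaf (nat_lit 0x10c7061) (nat_lit 1029))
) (.node (nat_lit 0x10e1022) (.leaf (nat_lit 0x10c7062) (nat_lit 772))
 (.leaf (nat_lit 0x10e1022) (nat_lit 1028))
)) (.node (nat_lit 0x10e1043) (.node (nat_lit 0x10e1041) (.leaf (nat_lit 0x10e1023) (nat_lit 773))
 (.leaf (nat_lit 0x10e1041) (nat_lit 515))
) (.node (nat_lit 0x10e1061) (.leaf (nat_lit 0x10e1043) (nat_lit 771))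
 (.node (nat_lit 0x10e1062) (.leaf (nat_lit 0x10e1061) (nat_lit 1029))
 (.leaf (nat_lit 0x10e1062) (nat_lit 772))
))))) (.node (nat_lit 0x10e5043) (.node (nat_lit 0x10e2061) (.node (nat_lit 0x10e2041) (.node (nat_lit 0x10e2023) (.leaf (nat_lit 0x10e2022) (nat_lit 1284))
 (.leaf (nat_lit 0x10e2023) (nat_lit 1029))
) (.node (nat_lit 0x10e2043) (.leaf (nat_lit 0x10e2041) (nat_lit 771))
 (.leaf (nat_lit 0x10e2043) (nat_lit 1027))
)) (.node (nat_lit 0x10e5022) (.node (nat_lit 0x10e2062) (.leaf (nat_lit 0x10e2061) (nat_lit 1285))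
 (.leaf (nat_lit 0x10e2062) (nat_lit 1028))
) (.node (nat_lit 0x10e5023) (.leaf (nat_lit 0x10e5022) (nat_lit 1540))
 (.node (nat_lit 0x10e5041) (.leaf (nat_lit 0x10e5023) (nat_lit 1285))
 (.leaf (nat_lit 0x10e5041) (nat_lit 1025))
)))) (.node (nat_lit 0x10e6023) (.node (nat_lit 0x10e5062) (.node (nat_lit 0x10e5061) (.leaf (nat_lit 0x10e5043) (nat_lit 1281))
 (.leaf (nat_lit 0x10e5061) (nat_lit 1541))
) (.node (nat_lit 0x10e6022) (.leaf (nat_lit 0x10e5062) (nat_lit 1284))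
 (.leaf (nat_lit 0x10e6022) (nat_lit 1284))
)) (.node (nat_lit 0x10e6043) (.node (nat_lit 0x10e6041) (.leaf (nat_lit 0x10e6023) (nat_lit 1029))
 (.leaf (nat_lit 0x10e6041) (nat_lit 769))
) (.node (nat_lit 0x10e6061) (.leaf (nat_lit 0x10e6043) (nat_lit 1025))
 (.node (nat_lit 0x10e6062) (.leaf (nat_lit 0x10e6061) (nat_lit 1285))
 (.leaf (nat_lit 0x10e6062) (nat_lit 1028))
))))))))

theorem KY_ok : genOK A [(nat_lit 0x1041043), (nat_lit 0x1043041), (nat_lit 0x1061041), (nat_lit 0x10c1041), (nat_lit 0x1041062), (nat_lit 0x1041023)] KY_t (nat_lit 144) = true := by decide +kernel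

noncomputable def kX (a b : Bool) : List ℕ :=
  sel a b [(nat_lit 0x1041045), (nat_lit 0x1041049), (nat_lit 0x1041051), (nat_lit 0x10410c1), (nat_lit 0x1041141), (nat_lit 0x1041241), (nat_lit 0x1043041), (nat_lit 0x1045041), (nat_lit 0x10c1041), (nat_lit 0x1041043), (nat_lit 0x1061041)]
    [(nat_lit 0x1041045), (nat_lit 0x1041049), (nat_lit 0x1041051), (nat_lit 0x10410c1), (nat_lit 0x1041141), (nat_lit 0x1041241), (nat_lit 0x1043051), (nat_lit 0x1045059), (nat_lit 0x10c1045), (nat_lit 0x1041043), (nat_lit 0x1061055)]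
    [(nat_lit 0x1041045), (nat_lit 0x1041049), (nat_lit 0x1041051), (nat_lit 0x10410c1), (nat_lit 0x1041141), (nat_lit 0x1041241), (nat_lit 0x1043151), (nat_lit 0x1045259), (nat_lit 0x10c1045), (nat_lit 0x1041057), (nat_lit 0x1061055)]

theorem kX_ok : ∀ a b, beqL ((WX a b).map (evC A kY)) (kX a b) = true := by
  intro a b; cases a <;> cases b <;> decide +kernel

theorem WX_ok : ∀ a b, beqL ((WX a b).map (evC A ((WY a b).map (evC A cH)))) (cH.take 11) = true := by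
  intro a b; cases a <;> cases b <;> decide +kernel

noncomputable def K1L : ST :=
(.node (nat_lit 0x10a2041) (.node (nat_lit 0x1045041) (.node (nat_lit 0x1027041) (.node (nat_lit 0x1023043) (.node (nat_lit 0x1022043) (.leaf (nat_lit 0x1022041) (nat_lit 769))
 (.node (nat_lit 0x1023041) (.leaf (nat_lit 0x1022043) (nat_lit 1025))
 (.leaf (nat_lit 0x1023041) (nat_lit 514))
)) (.node (nat_lit 0x1026041) (.leaf (nat_lit 0x1023043) (nat_lit 770))
 (.node (nat_lit 0x1026043) (.leaf (nat_lit 0x1026041) (nat_lit 1026))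
 (.leaf (nat_lit 0x1026043) (nat_lit 1282))
))) (.node (nat_lit 0x1041043) (.node (nat_lit 0x1027043) (.leaf (nat_lit 0x1027041) (nat_lit 770))
 (.node (nat_lit 0x1041041) (.leaf (nat_lit 0x1027043) (nat_lit 1026))
 (.leaf (nat_lit 0x1041041) (nat_lit 0))
)) (.node (nat_lit 0x1043041) (.leaf (nat_lit 0x1041043) (nat_lit 256))
 (.node (nat_lit 0x1043043) (.leaf (nat_lit 0x1043041) (nat_lit 257))
 (.leaf (nat_lit 0x1043043) (nat_lit 513))
)))) (.node (nat_lit 0x1062041) (.node (nat_lit 0x1047043) (.node (nat_lit 0x1045043) (.leaf (nat_lit 0x1045041) (nat_lit 1027))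
 (.node (nat_lit 0x1047041) (.leaf (nat_lit 0x1045043) (nat_lit 1283))
 (.leaf (nat_lit 0x1047041) (nat_lit 771))
)) (.node (nat_lit 0x1061041) (.leaf (nat_lit 0x1047043) (nat_lit 1027))
 (.node (nat_lit 0x1061043) (.leaf (nat_lit 0x1061041) (nat_lit 258))
 (.leaf (nat_lit 0x1061043) (nat_lit 514))
))) (.node (nat_lit 0x1065043) (.node (nat_lit 0x1062043) (.leaf (nat_lit 0x1062041) (nat_lit 513))
 (.node (nat_lit 0x1065041) (.leaf (nat_lit 0x1062043) (nat_lit 769))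
 (.leaf (nat_lit 0x1065041) (nat_lit 1026))
)) (.node (nat_lit 0x1066041) (.leaf (nat_lit 0x1065043) (nat_lit 1282))
 (.node (nat_lit 0x1066043) (.leaf (nat_lit 0x1066041) (nat_lit 1027))
 (.leaf (nat_lit 0x1066043) (nat_lit 1283))
))))) (.node (nat_lit 0x10c5041) (.node (nat_lit 0x10a7041) (.node (nat_lit 0x10a3043) (.node (nat_lit 0x10a2043) (.leaf (nat_lit 0x10a2041) (nat_lit 1027))
 (.node (nat_lit 0x10a3041) (.leaf (nat_lit 0x10a2043) (nat_lit 1283))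
 (.leaf (nat_lit 0x10a3041) (nat_lit 771))
)) (.node (nat_lit 0x10a6041) (.leaf (nat_lit 0x10a3043) (nat_lit 1027))
 (.node (nat_lit 0x10a6043) (.leaf (nat_lit 0x10a6041) (nat_lit 1025))
 (.leaf (nat_lit 0x10a6043) (nat_lit 1281))
))) (.node (nat_lit 0x10c1043) (.node (nat_lit 0x10a7043) (.leaf (nat_lit 0x10a7041) (nat_lit 1027))
 (.node (nat_lit 0x10c1041) (.leaf (nat_lit 0x10a7043) (nat_lit 1283))
 (.leaf (nat_lit 0x10c1041) (nat_lit 259))
)) (.node (nat_lit 0x10c3041) (.leaf (nat_lit 0x10c1043) (nat_lit 515))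
 (.node (nat_lit 0x10c3043) (.leaf (nat_lit 0x10c3041) (nat_lit 515))
 (.leaf (nat_lit 0x10c3043) (nat_lit 771))
)))) (.node (nat_lit 0x10e2041) (.node (nat_lit 0x10c7043) (.node (nat_lit 0x10c5043) (.leaf (nat_lit 0x10c5041) (nat_lit 769))
 (.node (nat_lit 0x10c7041) (.leaf (nat_lit 0x10c5043) (nat_lit 1025))
 (.leaf (nat_lit 0x10c7041) (nat_lit 513))
)) (.node (nat_lit 0x10e1041) (.leaf (nat_lit 0x10c7043) (nat_lit 769))
 (.node (nat_lit 0x10e1043) (.leaf (nat_lit 0x10e1041) (nat_lit 515))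
 (.leaf (nat_lit 0x10e1043) (nat_lit 771))
))) (.node (nat_lit 0x10e5043) (.node (nat_lit 0x10e2043) (.leaf (nat_lit 0x10e2041) (nat_lit 771))
 (.node (nat_lit 0x10e5041) (.leaf (nat_lit 0x10e2043) (nat_lit 1027))
 (.leaf (nat_lit 0x10e5041) (nat_lit 1025))
)) (.node (nat_lit 0x10e6041) (.leaf (nat_lit 0x10e5043) (nat_lit 1281))
 (.node (nat_lit 0x10e6043) (.leaf (nat_lit 0x10e6041) (nat_lit 769))
 (.leaf (nat_lit 0x10e6043) (nat_lit 1025))
))))))

noncomputable def K4L : ST :=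
(.node (nat_lit 0x10c0881) (.node (nat_lit 0x10410c1) (.node (nat_lit 0x10408c5) (.node (nat_lit 0x1040887) (.node (nat_lit 0x1040883) (.leaf (nat_lit 0x1040881) (nat_lit 769))
 (.node (nat_lit 0x1040885) (.leaf (nat_lit 0x1040883) (nat_lit 1026))
 (.leaf (nat_lit 0x1040885) (nat_lit 1027))
)) (.node (nat_lit 0x10408c1) (.leaf (nat_lit 0x1040887) (nat_lit 1025))
 (.node (nat_lit 0x10408c3) (.leaf (nat_lit 0x10408c1) (nat_lit 514))
 (.leaf (nat_lit 0x10408c3) (nat_lit 770))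
))) (.node (nat_lit 0x1041043) (.node (nat_lit 0x10408c7) (.leaf (nat_lit 0x10408c5) (nat_lit 1027))
 (.node (nat_lit 0x1041041) (.leaf (nat_lit 0x10408c7) (nat_lit 771))
 (.leaf (nat_lit 0x1041041) (nat_lit 0))
)) (.node (nat_lit 0x1041045) (.leaf (nat_lit 0x1041043) (nat_lit 259))
 (.node (nat_lit 0x1041047) (.leaf (nat_lit 0x1041045) (nat_lit 1027))
 (.leaf (nat_lit 0x1041047) (nat_lit 769))
)))) (.node (nat_lit 0x1041845) (.node (nat_lit 0x10410c7) (.node (nat_lit 0x10410c3) (.leaf (nat_lit 0x10410c1) (nat_lit 257))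
 (.node (nat_lit 0x10410c5) (.leaf (nat_lit 0x10410c3) (nat_lit 513))
 (.leaf (nat_lit 0x10410c5) (nat_lit 771))
)) (.node (nat_lit 0x1041841) (.leaf (nat_lit 0x10410c7) (nat_lit 515))
 (.node (nat_lit 0x1041843) (.leaf (nat_lit 0x1041841) (nat_lit 258))
 (.leaf (nat_lit 0x1041843) (nat_lit 515))
))) (.node (nat_lit 0x1041883) (.node (nat_lit 0x1041847) (.leaf (nat_lit 0x1041845) (nat_lit 1025))
 (.node (nat_lit 0x1041881) (.leaf (nat_lit 0x1041847) (nat_lit 1026))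
 (.leaf (nat_lit 0x1041881) (nat_lit 513))
)) (.node (nat_lit 0x1041885) (.leaf (nat_lit 0x1041883) (nat_lit 769))
 (.node (nat_lit 0x1041887) (.leaf (nat_lit 0x1041885) (nat_lit 771))
 (.leaf (nat_lit 0x1041887) (nat_lit 1027))
))))) (.node (nat_lit 0x10c10c1) (.node (nat_lit 0x10c08c5) (.node (nat_lit 0x10c0887) (.node (nat_lit 0x10c0883) (.leaf (nat_lit 0x10c0881) (nat_lit 1025))
 (.node (nat_lit 0x10c0885) (.leaf (nat_lit 0x10c0883) (nat_lit 1282))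
 (.leaf (nat_lit 0x10c0885) (nat_lit 1283))
)) (.node (nat_lit 0x10c08c1) (.leaf (nat_lit 0x10c0887) (nat_lit 1281))
 (.node (nat_lit 0x10c08c3) (.leaf (nat_lit 0x10c08c1) (nat_lit 770))
 (.leaf (nat_lit 0x10c08c3) (nat_lit 1026))
))) (.node (nat_lit 0x10c1043) (.node (nat_lit 0x10c08c7) (.leaf (nat_lit 0x10c08c5) (nat_lit 1283))
 (.node (nat_lit 0x10c1041) (.leaf (nat_lit 0x10c08c7) (nat_lit 1027))
 (.leaf (nat_lit 0x10c1041) (nat_lit 256))
)) (.node (nat_lit 0x10c1045) (.leaf (nat_lit 0x10c1043) (nat_lit 515))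
 (.node (nat_lit 0x10c1047) (.leaf (nat_lit 0x10c1045) (nat_lit 1283))
 (.leaf (nat_lit 0x10c1047) (nat_lit 1025))
)))) (.node (nat_lit 0x10c1845) (.node (nat_lit 0x10c10c7) (.node (nat_lit 0x10c10c3) (.leaf (nat_lit 0x10c10c1) (nat_lit 513))
 (.node (nat_lit 0x10c10c5) (.leaf (nat_lit 0x10c10c3) (nat_lit 769))
 (.leaf (nat_lit 0x10c10c5) (nat_lit 1027))
)) (.node (nat_lit 0x10c1841) (.leaf (nat_lit 0x10c10c7) (nat_lit 771))
 (.node (nat_lit 0x10c1843) (.leaf (nat_lit 0x10c1841) (nat_lit 514))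
 (.leaf (nat_lit 0x10c1843) (nat_lit 771))
))) (.node (nat_lit 0x10c1883) (.node (nat_lit 0x10c1847) (.leaf (nat_lit 0x10c1845) (nat_lit 1281))
 (.node (nat_lit 0x10c1881) (.leaf (nat_lit 0x10c1847) (nat_lit 1282))
 (.leaf (nat_lit 0x10c1881) (nat_lit 769))
)) (.node (nat_lit 0x10c1885) (.leaf (nat_lit 0x10c1883) (nat_lit 1025))
 (.node (nat_lit 0x10c1887) (.leaf (nat_lit 0x10c1885) (nat_lit 1027))
 (.leaf (nat_lit 0x10c1887) (nat_lit 1283))
))))))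

noncomputable def K1S : ST :=
(.node (nat_lit 0x10a2055) (.node (nat_lit 0x1045059) (.node (nat_lit 0x1027059) (.node (nat_lit 0x102304f) (.node (nat_lit 0x102205f) (.leaf (nat_lit 0x102205d) (nat_lit 769))
 (.node (nat_lit 0x102304d) (.leaf (nat_lit 0x102205f) (nat_lit 1025))
 (.leaf (nat_lit 0x102304d) (nat_lit 514))
)) (.node (nat_lit 0x1026049) (.leaf (nat_lit 0x102304f) (nat_lit 770))
 (.node (nat_lit 0x102604b) (.leaf (nat_lit 0x1026049) (nat_lit 1026))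
 (.leaf (nat_lit 0x102604b) (nat_lit 1282))
))) (.node (nat_lit 0x1041043) (.node (nat_lit 0x102705b) (.leaf (nat_lit 0x1027059) (nat_lit 770))
 (.node (nat_lit 0x1041041) (.leaf (nat_lit 0x102705b) (nat_lit 1026))
 (.leaf (nat_lit 0x1041041) (nat_lit 0))
)) (.node (nat_lit 0x1043051) (.leaf (nat_lit 0x1041043) (nat_lit 256))
 (.node (nat_lit 0x1043053) (.leaf (nat_lit 0x1043051) (nat_lit 257))
 (.leaf (nat_lit 0x1043053) (nat_lit 513))
)))) (.node (nat_lit 0x1062045) (.node (nat_lit 0x104704b) (.node (nat_lit 0x104505b) (.leaf (nat_lit 0x1045059) (nat_lit 1027))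
 (.node (nat_lit 0x1047049) (.leaf (nat_lit 0x104505b) (nat_lit 1283))
 (.leaf (nat_lit 0x1047049) (nat_lit 771))
)) (.node (nat_lit 0x1061055) (.leaf (nat_lit 0x104704b) (nat_lit 1027))
 (.node (nat_lit 0x1061057) (.leaf (nat_lit 0x1061055) (nat_lit 258))
 (.leaf (nat_lit 0x1061057) (nat_lit 514))
))) (.node (nat_lit 0x106504b) (.node (nat_lit 0x1062047) (.leaf (nat_lit 0x1062045) (nat_lit 513))
 (.node (nat_lit 0x1065049) (.leaf (nat_lit 0x1062047) (nat_lit 769))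
 (.leaf (nat_lit 0x1065049) (nat_lit 1026))
)) (.node (nat_lit 0x1066059) (.leaf (nat_lit 0x106504b) (nat_lit 1282))
 (.node (nat_lit 0x106605b) (.leaf (nat_lit 0x1066059) (nat_lit 1027))
 (.leaf (nat_lit 0x106605b) (nat_lit 1283))
))))) (.node (nat_lit 0x10c504d) (.node (nat_lit 0x10a7045) (.node (nat_lit 0x10a3043) (.node (nat_lit 0x10a2057) (.leaf (nat_lit 0x10a2055) (nat_lit 1027))
 (.node (nat_lit 0x10a3041) (.leaf (nat_lit 0x10a2057) (nat_lit 1283))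
 (.leaf (nat_lit 0x10a3041) (nat_lit 771))
)) (.node (nat_lit 0x10a6051) (.leaf (nat_lit 0x10a3043) (nat_lit 1027))
 (.node (nat_lit 0x10a6053) (.leaf (nat_lit 0x10a6051) (nat_lit 1025))
 (.leaf (nat_lit 0x10a6053) (nat_lit 1281))
))) (.node (nat_lit 0x10c1047) (.node (nat_lit 0x10a7047) (.leaf (nat_lit 0x10a7045) (nat_lit 1027))
 (.node (nat_lit 0x10c1045) (.leaf (nat_lit 0x10a7047) (nat_lit 1283))
 (.leaf (nat_lit 0x10c1045) (nat_lit 259))
)) (.node (nat_lit 0x10c305d) (.leaf (nat_lit 0x10c1047) (nat_lit 515))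
 (.node (nat_lit 0x10c305f) (.leaf (nat_lit 0x10c305d) (nat_lit 515))
 (.leaf (nat_lit 0x10c305f) (nat_lit 771))
)))) (.node (nat_lit 0x10e204d) (.node (nat_lit 0x10c7057) (.node (nat_lit 0x10c504f) (.leaf (nat_lit 0x10c504d) (nat_lit 769))
 (.node (nat_lit 0x10c7055) (.leaf (nat_lit 0x10c504f) (nat_lit 1025))
 (.leaf (nat_lit 0x10c7055) (nat_lit 513))
)) (.node (nat_lit 0x10e1051) (.leaf (nat_lit 0x10c7057) (nat_lit 769))
 (.node (nat_lit 0x10e1053) (.leaf (nat_lit 0x10e1051) (nat_lit 515))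
 (.leaf (nat_lit 0x10e1053) (nat_lit 771))
))) (.node (nat_lit 0x10e505f) (.node (nat_lit 0x10e204f) (.leaf (nat_lit 0x10e204d) (nat_lit 771))
 (.node (nat_lit 0x10e505d) (.leaf (nat_lit 0x10e204f) (nat_lit 1027))
 (.leaf (nat_lit 0x10e505d) (nat_lit 1025))
)) (.node (nat_lit 0x10e6041) (.leaf (nat_lit 0x10e505f) (nat_lit 1281))
 (.node (nat_lit 0x10e6043) (.leaf (nat_lit 0x10e6041) (nat_lit 769))
 (.leaf (nat_lit 0x10e6043) (nat_lit 1025))
))))))

noncomputable def K4S : ST :=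
(.node (nat_lit 0x10c0897) (.node (nat_lit 0x1044893) (.node (nat_lit 0x1041255) (.node (nat_lit 0x1040ad5) (.node (nat_lit 0x10408c7) (.leaf (nat_lit 0x1040897) (nat_lit 1025))
 (.node (nat_lit 0x1040a85) (.leaf (nat_lit 0x10408c7) (nat_lit 771))
 (.leaf (nat_lit 0x1040a85) (nat_lit 1027))
)) (.node (nat_lit 0x1041041) (.leaf (nat_lit 0x1040ad5) (nat_lit 1027))
 (.node (nat_lit 0x10410d1) (.leaf (nat_lit 0x1041041) (nat_lit 0))
 (.leaf (nat_lit 0x10410d1) (nat_lit 257))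
))) (.node (nat_lit 0x1041883) (.node (nat_lit 0x10412c5) (.leaf (nat_lit 0x1041255) (nat_lit 1027))
 (.node (nat_lit 0x1041853) (.leaf (nat_lit 0x10412c5) (nat_lit 771))
 (.leaf (nat_lit 0x1041853) (nat_lit 515))
)) (.node (nat_lit 0x1041a45) (.leaf (nat_lit 0x1041883) (nat_lit 769))
 (.node (nat_lit 0x1041a95) (.leaf (nat_lit 0x1041a45) (nat_lit 1025))
 (.leaf (nat_lit 0x1041a95) (nat_lit 771))
)))) (.node (nat_lit 0x1045247) (.node (nat_lit 0x1044ac3) (.node (nat_lit 0x10448c1) (.leaf (nat_lit 0x1044893) (nat_lit 1026))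
 (.node (nat_lit 0x1044a91) (.leaf (nat_lit 0x10448c1) (nat_lit 514))
 (.leaf (nat_lit 0x1044a91) (nat_lit 769))
)) (.node (nat_lit 0x1045043) (.leaf (nat_lit 0x1044ac3) (nat_lit 770))
 (.node (nat_lit 0x10450d7) (.leaf (nat_lit 0x1045043) (nat_lit 259))
 (.leaf (nat_lit 0x10450d7) (nat_lit 515))
))) (.node (nat_lit 0x1045887) (.node (nat_lit 0x10452d3) (.leaf (nat_lit 0x1045247) (nat_lit 769))
 (.node (nat_lit 0x1045851) (.leaf (nat_lit 0x10452d3) (nat_lit 513))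
 (.leaf (nat_lit 0x1045851) (nat_lit 258))
)) (.node (nat_lit 0x1045a57) (.leaf (nat_lit 0x1045887) (nat_lit 1027))
 (.node (nat_lit 0x1045a81) (.leaf (nat_lit 0x1045a57) (nat_lit 1026))
 (.leaf (nat_lit 0x1045a81) (nat_lit 513))
))))) (.node (nat_lit 0x10c4893) (.node (nat_lit 0x10c1255) (.node (nat_lit 0x10c0ad5) (.node (nat_lit 0x10c08c7) (.leaf (nat_lit 0x10c0897) (nat_lit 1281))
 (.node (nat_lit 0x10c0a85) (.leaf (nat_lit 0x10c08c7) (nat_lit 1027))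
 (.leaf (nat_lit 0x10c0a85) (nat_lit 1283))
)) (.node (nat_lit 0x10c1041) (.leaf (nat_lit 0x10c0ad5) (nat_lit 1283))
 (.node (nat_lit 0x10c10d1) (.leaf (nat_lit 0x10c1041) (nat_lit 256))
 (.leaf (nat_lit 0x10c10d1) (nat_lit 513))
))) (.node (nat_lit 0x10c1883) (.node (nat_lit 0x10c12c5) (.leaf (nat_lit 0x10c1255) (nat_lit 1283))
 (.node (nat_lit 0x10c1853) (.leaf (nat_lit 0x10c12c5) (nat_lit 1027))
 (.leaf (nat_lit 0x10c1853) (nat_lit 771))
)) (.node (nat_lit 0x10c1a45) (.leaf (nat_lit 0x10c1883) (nat_lit 1025))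
 (.node (nat_lit 0x10c1a95) (.leaf (nat_lit 0x10c1a45) (nat_lit 1281))
 (.leaf (nat_lit 0x10c1a95) (nat_lit 1027))
)))) (.node (nat_lit 0x10c5247) (.node (nat_lit 0x10c4ac3) (.node (nat_lit 0x10c48c1) (.leaf (nat_lit 0x10c4893) (nat_lit 1282))
 (.node (nat_lit 0x10c4a91) (.leaf (nat_lit 0x10c48c1) (nat_lit 770))
 (.leaf (nat_lit 0x10c4a91) (nat_lit 1025))
)) (.node (nat_lit 0x10c5043) (.leaf (nat_lit 0x10c4ac3) (nat_lit 1026))
 (.node (nat_lit 0x10c50d7) (.leaf (nat_lit 0x10c5043) (nat_lit 515))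
 (.leaf (nat_lit 0x10c50d7) (nat_lit 771))
))) (.node (nat_lit 0x10c5887) (.node (nat_lit 0x10c52d3) (.leaf (nat_lit 0x10c5247) (nat_lit 1025))
 (.node (nat_lit 0x10c5851) (.leaf (nat_lit 0x10c52d3) (nat_lit 769))
 (.leaf (nat_lit 0x10c5851) (nat_lit 514))
)) (.node (nat_lit 0x10c5a57) (.leaf (nat_lit 0x10c5887) (nat_lit 1283))
 (.node (nat_lit 0x10c5a81) (.leaf (nat_lit 0x10c5a57) (nat_lit 1282))
 (.leaf (nat_lit 0x10c5a81) (nat_lit 769))
))))))

noncomputable def K1T : ST :=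
(.node (nat_lit 0x10a21c3) (.node (nat_lit 0x104524f) (.node (nat_lit 0x102734f) (.node (nat_lit 0x102315b) (.node (nat_lit 0x10221dd) (.leaf (nat_lit 0x10221cb) (nat_lit 1025))
 (.node (nat_lit 0x102314d) (.leaf (nat_lit 0x10221dd) (nat_lit 769))
 (.leaf (nat_lit 0x102314d) (nat_lit 514))
)) (.node (nat_lit 0x10263c9) (.leaf (nat_lit 0x102315b) (nat_lit 770))
 (.node (nat_lit 0x10263df) (.leaf (nat_lit 0x10263c9) (nat_lit 1026))
 (.leaf (nat_lit 0x10263df) (nat_lit 1282))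
))) (.node (nat_lit 0x1041057) (.node (nat_lit 0x1027359) (.leaf (nat_lit 0x102734f) (nat_lit 1026))
 (.node (nat_lit 0x1041041) (.leaf (nat_lit 0x1027359) (nat_lit 770))
 (.leaf (nat_lit 0x1041041) (nat_lit 0))
)) (.node (nat_lit 0x1043147) (.leaf (nat_lit 0x1041057) (nat_lit 256))
 (.node (nat_lit 0x1043151) (.leaf (nat_lit 0x1043147) (nat_lit 513))
 (.leaf (nat_lit 0x1043151) (nat_lit 257))
)))) (.node (nat_lit 0x10621c5) (.node (nat_lit 0x104735f) (.node (nat_lit 0x1045259) (.leaf (nat_lit 0x104524f) (nat_lit 1283))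
 (.node (nat_lit 0x1047349) (.leaf (nat_lit 0x1045259) (nat_lit 1027))
 (.leaf (nat_lit 0x1047349) (nat_lit 771))
)) (.node (nat_lit 0x1061043) (.leaf (nat_lit 0x104735f) (nat_lit 1027))
 (.node (nat_lit 0x1061055) (.leaf (nat_lit 0x1061043) (nat_lit 514))
 (.leaf (nat_lit 0x1061055) (nat_lit 258))
))) (.node (nat_lit 0x106525f) (.node (nat_lit 0x10621d3) (.leaf (nat_lit 0x10621c5) (nat_lit 513))
 (.node (nat_lit 0x1065249) (.leaf (nat_lit 0x10621d3) (nat_lit 769))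
 (.leaf (nat_lit 0x1065249) (nat_lit 1026))
)) (.node (nat_lit 0x10663cf) (.leaf (nat_lit 0x106525f) (nat_lit 1282))
 (.node (nat_lit 0x10663d9) (.leaf (nat_lit 0x10663cf) (nat_lit 1283))
 (.leaf (nat_lit 0x10663d9) (nat_lit 1027))
))))) (.node (nat_lit 0x10c524d) (.node (nat_lit 0x10a7345) (.node (nat_lit 0x10a3157) (.node (nat_lit 0x10a21d5) (.leaf (nat_lit 0x10a21c3) (nat_lit 1283))
 (.node (nat_lit 0x10a3141) (.leaf (nat_lit 0x10a21d5) (nat_lit 1027))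
 (.leaf (nat_lit 0x10a3141) (nat_lit 771))
)) (.node (nat_lit 0x10a63c7) (.leaf (nat_lit 0x10a3157) (nat_lit 1027))
 (.node (nat_lit 0x10a63d1) (.leaf (nat_lit 0x10a63c7) (nat_lit 1281))
 (.leaf (nat_lit 0x10a63d1) (nat_lit 1025))
))) (.node (nat_lit 0x10c1053) (.node (nat_lit 0x10a7353) (.leaf (nat_lit 0x10a7345) (nat_lit 1027))
 (.node (nat_lit 0x10c1045) (.leaf (nat_lit 0x10a7353) (nat_lit 1283))
 (.leaf (nat_lit 0x10c1045) (nat_lit 259))
)) (.node (nat_lit 0x10c314b) (.leaf (nat_lit 0x10c1053) (nat_lit 515))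
 (.node (nat_lit 0x10c315d) (.leaf (nat_lit 0x10c314b) (nat_lit 771))
 (.leaf (nat_lit 0x10c315d) (nat_lit 515))
)))) (.node (nat_lit 0x10e21cd) (.node (nat_lit 0x10c7355) (.node (nat_lit 0x10c525b) (.leaf (nat_lit 0x10c524d) (nat_lit 769))
 (.node (nat_lit 0x10c7343) (.leaf (nat_lit 0x10c525b) (nat_lit 1025))
 (.leaf (nat_lit 0x10c7343) (nat_lit 769))
)) (.node (nat_lit 0x10e1047) (.leaf (nat_lit 0x10c7355) (nat_lit 513))
 (.node (nat_lit 0x10e1051) (.leaf (nat_lit 0x10e1047) (nat_lit 771))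
 (.leaf (nat_lit 0x10e1051) (nat_lit 515))
))) (.node (nat_lit 0x10e525d) (.node (nat_lit 0x10e21db) (.leaf (nat_lit 0x10e21cd) (nat_lit 771))
 (.node (nat_lit 0x10e524b) (.leaf (nat_lit 0x10e21db) (nat_lit 1027))
 (.leaf (nat_lit 0x10e524b) (nat_lit 1281))
)) (.node (nat_lit 0x10e63c1) (.leaf (nat_lit 0x10e525d) (nat_lit 1025))
 (.node (nat_lit 0x10e63d7) (.leaf (nat_lit 0x10e63c1) (nat_lit 769))
 (.leaf (nat_lit 0x10e63d7) (nat_lit 1025))
))))))

noncomputable def K4T : ST :=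
(.node (nat_lit 0x10c1053) (.node (nat_lit 0x1045043) (.node (nat_lit 0x1041a4d) (.node (nat_lit 0x10413cd) (.node (nat_lit 0x10411d1) (.leaf (nat_lit 0x1041041) (nat_lit 0))
 (.node (nat_lit 0x104125d) (.leaf (nat_lit 0x10411d1) (nat_lit 257))
 (.leaf (nat_lit 0x104125d) (nat_lit 1027))
)) (.node (nat_lit 0x1041853) (.leaf (nat_lit 0x10413cd) (nat_lit 771))
 (.node (nat_lit 0x1041983) (.leaf (nat_lit 0x1041853) (nat_lit 515))
 (.leaf (nat_lit 0x1041983) (nat_lit 769))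
))) (.node (nat_lit 0x10429cf) (.node (nat_lit 0x1041b9d) (.leaf (nat_lit 0x1041a4d) (nat_lit 1025))
 (.node (nat_lit 0x104299f) (.leaf (nat_lit 0x1041b9d) (nat_lit 771))
 (.leaf (nat_lit 0x104299f) (nat_lit 1025))
)) (.node (nat_lit 0x1042b8d) (.leaf (nat_lit 0x10429cf) (nat_lit 771))
 (.node (nat_lit 0x1042bdd) (.leaf (nat_lit 0x1042b8d) (nat_lit 1027))
 (.leaf (nat_lit 0x1042bdd) (nat_lit 1027))
)))) (.node (nat_lit 0x1045a5f) (.node (nat_lit 0x10453d3) (.node (nat_lit 0x10451df) (.leaf (nat_lit 0x1045043) (nat_lit 259))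
 (.node (nat_lit 0x104524f) (.leaf (nat_lit 0x10451df) (nat_lit 515))
 (.leaf (nat_lit 0x104524f) (nat_lit 769))
)) (.node (nat_lit 0x1045851) (.leaf (nat_lit 0x10453d3) (nat_lit 513))
 (.node (nat_lit 0x104598f) (.leaf (nat_lit 0x1045851) (nat_lit 258))
 (.leaf (nat_lit 0x104598f) (nat_lit 1027))
))) (.node (nat_lit 0x10469c1) (.node (nat_lit 0x1045b81) (.leaf (nat_lit 0x1045a5f) (nat_lit 1026))
 (.node (nat_lit 0x1046993) (.leaf (nat_lit 0x1045b81) (nat_lit 513))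
 (.leaf (nat_lit 0x1046993) (nat_lit 1026))
)) (.node (nat_lit 0x1046b91) (.leaf (nat_lit 0x10469c1) (nat_lit 514))
 (.node (nat_lit 0x1046bc3) (.leaf (nat_lit 0x1046b91) (nat_lit 769))
 (.leaf (nat_lit 0x1046bc3) (nat_lit 770))
))))) (.node (nat_lit 0x10c5051) (.node (nat_lit 0x10c1a4f) (.node (nat_lit 0x10c13c3) (.node (nat_lit 0x10c11cf) (.leaf (nat_lit 0x10c1053) (nat_lit 515))
 (.node (nat_lit 0x10c125f) (.leaf (nat_lit 0x10c11cf) (nat_lit 771))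
 (.leaf (nat_lit 0x10c125f) (nat_lit 1025))
)) (.node (nat_lit 0x10c1841) (.leaf (nat_lit 0x10c13c3) (nat_lit 769))
 (.node (nat_lit 0x10c199f) (.leaf (nat_lit 0x10c1841) (nat_lit 514))
 (.leaf (nat_lit 0x10c199f) (nat_lit 1283))
))) (.node (nat_lit 0x10c29d1) (.node (nat_lit 0x10c1b91) (.leaf (nat_lit 0x10c1a4f) (nat_lit 1282))
 (.node (nat_lit 0x10c2983) (.leaf (nat_lit 0x10c1b91) (nat_lit 769))
 (.leaf (nat_lit 0x10c2983) (nat_lit 1282))
)) (.node (nat_lit 0x10c2b81) (.leaf (nat_lit 0x10c29d1) (nat_lit 770))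
 (.node (nat_lit 0x10c2bd3) (.leaf (nat_lit 0x10c2b81) (nat_lit 1025))
 (.leaf (nat_lit 0x10c2bd3) (nat_lit 1026))
)))) (.node (nat_lit 0x10c5a5d) (.node (nat_lit 0x10c53dd) (.node (nat_lit 0x10c51c1) (.leaf (nat_lit 0x10c5051) (nat_lit 256))
 (.node (nat_lit 0x10c524d) (.leaf (nat_lit 0x10c51c1) (nat_lit 513))
 (.leaf (nat_lit 0x10c524d) (nat_lit 1283))
)) (.node (nat_lit 0x10c5843) (.leaf (nat_lit 0x10c53dd) (nat_lit 1027))
 (.node (nat_lit 0x10c5993) (.leaf (nat_lit 0x10c5843) (nat_lit 771))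
 (.leaf (nat_lit 0x10c5993) (nat_lit 1025))
))) (.node (nat_lit 0x10c69df) (.node (nat_lit 0x10c5b8d) (.leaf (nat_lit 0x10c5a5d) (nat_lit 1281))
 (.node (nat_lit 0x10c698f) (.leaf (nat_lit 0x10c5b8d) (nat_lit 1027))
 (.leaf (nat_lit 0x10c698f) (nat_lit 1281))
)) (.node (nat_lit 0x10c6b9d) (.leaf (nat_lit 0x10c69df) (nat_lit 1027))
 (.node (nat_lit 0x10c6bcd) (.leaf (nat_lit 0x10c6b9d) (nat_lit 1283))
 (.leaf (nat_lit 0x10c6bcd) (nat_lit 1283))
))))))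

noncomputable def K1_t (a b : Bool) : ST :=
  sel a b K1L
    K1S
    K1T

noncomputable def K4_t (a b : Bool) : ST :=
  sel a b K4L
    K4S
    K4T

theorem K1_ok : ∀ a b, genOK A ((cw a b).map (evC A cH)) (K1_t a b) 48 = true := by
  intro a b; cases a <;> cases b <;> decide +kernel

noncomputable def cF : List ℕ := [7, 5, 2, 6, 4, 1, 3, 0, 9, 8, 11, 10].map (nth A.one cH)

theorem K4_ok : ∀ a b, genOK A ((cw a b).map (evC A cF)) (K4_t a b) 48 = true := by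
  intro a b; cases a <;> cases b <;> decide +kernel

end Cfsg.Agent.Rec.L52
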