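import Mathlib
import Cfsg.Agent.Rec.L52.DataY

/-! Generated by tools/rec: presentation of 2^4:L4(2) -/

set_option autoImplicit false
set_option maxRecDepth 100000
set_option linter.unusedVariables false
set_option exponentiation.threshold 100000

namespace Cfsg.Agent.Rec.L52

open Cfsg.Agent.Spor Cfsg.Agent.Rec

universe u

def exF : List (List ℕ) :=
  [[9, 12, 9, 9, 12, 3, 11, 3, 9, 12, 9, 9, 12, 3, 11, 3, 9, 12, 9, 9, 12, 3, 11, 3]]

noncomputable def relF : List (List ℕ) := relH ++ relY false false ++ exF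

noncomputable def tF_rels : LT :=
(.node (.node (.node (.node (.node (.node (.node (.leaf [])
 (.leaf [nat_lit 10,nat_lit 4,nat_lit 10,nat_lit 4,nat_lit 3])
) (.leaf [nat_lit 6,nat_lit 2,nat_lit 6,nat_lit 2])
) (.node (.node (.leaf [nat_lit 0,nat_lit 2,nat_lit 0,nat_lit 2])
 (.leaf [nat_lit 11,nat_lit 10,nat_lit 11,nat_lit 10,nat_lit 11,nat_lit 10,nat_lit 11,nat_lit 10])
) (.leaf [nat_lit 9,nat_lit 0,nat_lit 9,nat_lit 0])
)) (.node (.node (.node (.leaf [nat_lit 7,nat_lit 7])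
 (.leaf [nat_lit 11,nat_lit 9,nat_lit 11,nat_lit 9])
) (.leaf [nat_lit 7,nat_lit 4,nat_lit 7,nat_lit 4])
) (.node (.node (.leaf [nat_lit 2,nat_lit 3,nat_lit 2,nat_lit 3])
 (.leaf [nat_lit 9,nat_lit 12,nat_lit 9,nat_lit 12])
) (.leaf [nat_lit 6,nat_lit 8,nat_lit 6,nat_lit 8,nat_lit 7])
))) (.node (.node (.node (.node (.leaf [nat_lit 3,nat_lit 3])
 (.leaf [nat_lit 10,nat_lit 8,nat_lit 10,nat_lit 8])
) (.leaf [nat_lit 7,nat_lit 0,nat_lit 7,nat_lit 2,nat_lit 0])
) (.node (.node (.leaf [nat_lit 1,nat_lit 2,nat_lit 1,nat_lit 2])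
 (.leaf [nat_lit 12,nat_lit 2,nat_lit 13,nat_lit 5])
) (.leaf [nat_lit 9,nat_lit 4,nat_lit 9,nat_lit 4,nat_lit 1])
)) (.node (.node (.node (.leaf [nat_lit 11,nat_lit 11])
 (.leaf [nat_lit 11,nat_lit 4,nat_lit 11,nat_lit 4,nat_lit 6])
) (.leaf [nat_lit 8,nat_lit 2,nat_lit 8,nat_lit 2])
) (.node (.node (.leaf [nat_lit 3,nat_lit 5,nat_lit 3,nat_lit 5])
 (.leaf [nat_lit 9,nat_lit 12,nat_lit 9,nat_lit 9,nat_lit 12,nat_lit 3,nat_lit 11,nat_lit 3,nat_lit 9,nat_lit 12,nat_lit 9,nat_lit 9,nat_lit 12,nat_lit 3,nat_lit 11,nat_lit 3,nat_lit 9,nat_lit 12,nat_lit 9,nat_lit 9,nat_lit 12,nat_lit 3,nat_lit 11,nat_lit 3])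
) (.leaf [nat_lit 10,nat_lit 0,nat_lit 10,nat_lit 0])
)))) (.node (.node (.node (.node (.node (.leaf [nat_lit 1,nat_lit 1])
 (.leaf [nat_lit 10,nat_lit 6,nat_lit 10,nat_lit 6,nat_lit 10,nat_lit 6])
) (.leaf [nat_lit 6,nat_lit 4,nat_lit 6,nat_lit 4])
) (.node (.node (.leaf [nat_lit 0,nat_lit 4,nat_lit 0,nat_lit 4])
 (.leaf [nat_lit 12,nat_lit 0,nat_lit 13,nat_lit 3])
) (.leaf [nat_lit 9,nat_lit 2,nat_lit 9,nat_lit 2])
)) (.node (.node (.node (.leaf [nat_lit 9,nat_lit 9])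
 (.leaf [nat_lit 11,nat_lit 6,nat_lit 11,nat_lit 6])
) (.leaf [nat_lit 8,nat_lit 0,nat_lit 8,nat_lit 0])
) (.node (.node (.leaf [nat_lit 2,nat_lit 5,nat_lit 2,nat_lit 5])
 (.leaf [nat_lit 10,nat_lit 12,nat_lit 10,nat_lit 13])
) (.leaf [nat_lit 9,nat_lit 7,nat_lit 9,nat_lit 7])
))) (.node (.node (.node (.node (.leaf [nat_lit 5,nat_lit 5])
 (.leaf [nat_lit 11,nat_lit 3,nat_lit 11,nat_lit 3,nat_lit 11,nat_lit 3])
) (.leaf [nat_lit 7,nat_lit 2,nat_lit 7,nat_lit 2])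
) (.node (.node (.leaf [nat_lit 1,nat_lit 4,nat_lit 1,nat_lit 4])
 (.leaf [nat_lit 12,nat_lit 4,nat_lit 13,nat_lit 4,nat_lit 1])
) (.leaf [nat_lit 6,nat_lit 7,nat_lit 6,nat_lit 7])
)) (.node (.node (.node (.leaf [nat_lit 13,nat_lit 12])
 (.leaf [nat_lit 11,nat_lit 1,nat_lit 11,nat_lit 1])
) (.leaf [nat_lit 8,nat_lit 4,nat_lit 8,nat_lit 5,nat_lit 4])
) (.node (.leaf [nat_lit 6,nat_lit 0,nat_lit 6,nat_lit 1,nat_lit 0])
 (.leaf [nat_lit 10,nat_lit 2,nat_lit 10,nat_lit 2])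
))))) (.node (.node (.node (.node (.node (.node (.leaf [nat_lit 0,nat_lit 0])
 (.leaf [nat_lit 10,nat_lit 5,nat_lit 10,nat_lit 5])
) (.leaf [nat_lit 6,nat_lit 3,nat_lit 6,nat_lit 4,nat_lit 3])
) (.node (.node (.leaf [nat_lit 0,nat_lit 3,nat_lit 0,nat_lit 3])
 (.leaf [nat_lit 12,nat_lit 12,nat_lit 12])
) (.leaf [nat_lit 9,nat_lit 1,nat_lit 9,nat_lit 1])
)) (.node (.node (.node (.leaf [nat_lit 8,nat_lit 8])
 (.leaf [nat_lit 11,nat_lit 8,nat_lit 11,nat_lit 8])
) (.leaf [nat_lit 7,nat_lit 5,nat_lit 7,nat_lit 5])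
) (.node (.node (.leaf [nat_lit 2,nat_lit 4,nat_lit 2,nat_lit 4])
 (.leaf [nat_lit 6,nat_lit 12,nat_lit 6,nat_lit 13])
) (.leaf [nat_lit 9,nat_lit 6,nat_lit 9,nat_lit 6])
))) (.node (.node (.node (.node (.leaf [nat_lit 4,nat_lit 4])
 (.leaf [nat_lit 10,nat_lit 9,nat_lit 10,nat_lit 9])
) (.leaf [nat_lit 7,nat_lit 1,nat_lit 7,nat_lit 1])
) (.node (.node (.leaf [nat_lit 1,nat_lit 3,nat_lit 1,nat_lit 3])
 (.leaf [nat_lit 12,nat_lit 3,nat_lit 13,nat_lit 3,nat_lit 0])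
) (.leaf [nat_lit 9,nat_lit 5,nat_lit 9,nat_lit 5,nat_lit 2])
)) (.node (.node (.node (.leaf [nat_lit 12,nat_lit 13])
 (.leaf [nat_lit 11,nat_lit 5,nat_lit 11,nat_lit 5,nat_lit 7])
) (.leaf [nat_lit 8,nat_lit 3,nat_lit 8,nat_lit 3])
) (.node (.leaf [nat_lit 4,nat_lit 5,nat_lit 4,nat_lit 5])
 (.leaf [nat_lit 10,nat_lit 1,nat_lit 10,nat_lit 1,nat_lit 0])
)))) (.node (.node (.node (.node (.node (.leaf [nat_lit 2,nat_lit 2])
 (.leaf [nat_lit 10,nat_lit 7,nat_lit 10,nat_lit 7,nat_lit 8])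
) (.leaf [nat_lit 6,nat_lit 5,nat_lit 6,nat_lit 5])
) (.node (.node (.leaf [nat_lit 0,nat_lit 5,nat_lit 0,nat_lit 5])
 (.leaf [nat_lit 12,nat_lit 1,nat_lit 13,nat_lit 4])
) (.leaf [nat_lit 9,nat_lit 3,nat_lit 9,nat_lit 3,nat_lit 0])
)) (.node (.node (.node (.leaf [nat_lit 10,nat_lit 10])
 (.leaf [nat_lit 11,nat_lit 7,nat_lit 11,nat_lit 7])
) (.leaf [nat_lit 8,nat_lit 1,nat_lit 8,nat_lit 2,nat_lit 1])
) (.node (.node (.leaf [nat_lit 3,nat_lit 4,nat_lit 3,nat_lit 4])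
 (.leaf [nat_lit 8,nat_lit 12,nat_lit 8,nat_lit 13])
) (.leaf [nat_lit 9,nat_lit 8,nat_lit 9,nat_lit 8])
))) (.node (.node (.node (.node (.leaf [nat_lit 6,nat_lit 6])
 (.leaf [nat_lit 11,nat_lit 0,nat_lit 11,nat_lit 0,nat_lit 9])
) (.leaf [nat_lit 7,nat_lit 3,nat_lit 7,nat_lit 5,nat_lit 3])
) (.node (.node (.leaf [nat_lit 1,nat_lit 5,nat_lit 1,nat_lit 5])
 (.leaf [nat_lit 12,nat_lit 5,nat_lit 13,nat_lit 5,nat_lit 2])
) (.leaf [nat_lit 7,nat_lit 8,nat_lit 7,nat_lit 8])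
)) (.node (.node (.node (.leaf [nat_lit 0,nat_lit 1,nat_lit 0,nat_lit 1])
 (.leaf [nat_lit 11,nat_lit 2,nat_lit 11,nat_lit 2])
) (.leaf [nat_lit 8,nat_lit 5,nat_lit 8,nat_lit 5])
) (.node (.leaf [nat_lit 6,nat_lit 1,nat_lit 6,nat_lit 1])
 (.leaf [nat_lit 10,nat_lit 3,nat_lit 10,nat_lit 3])
))))))
noncomputable def tF_hws : LT :=
(.leaf [])

noncomputable def tF_inv : ℕ → ℕ := getP (nat_lit 8) (nat_lit 255) (nat_lit 0xc0d0b0a09080706050403020100)

noncomputable def tF_t : BT :=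
(.node (.node (.node (.node (.leaf (nat_lit 0x618400005c090a244c86048432260004498300001da703c41d28000032aa0003ff800003ff800003ff800003ff800003ff800003ff800003ff800003ff800003ff800000358500009b930003ff8007a450190003ff8003c4a00c0003ff800003ff800003ff8003c49b1b0003ff800003ff800003ff800003ff8007a4980e06a48c8d0000a09703c47f0b0484700704845bac03c454080000708a00004d2b02a4351c0008612d00004a290144120200040701001c0000))
 (.leaf (nat_lit 0x3ff800003ff800003ff800003ff800003ff800444152804441aa7056421a60003ff800003ff800003ff800003ff800003ff800003ff800003ff800003ff800003ff800344261c0003ff800003ff80088451190003ff800003ff800003ff800003ff800003ff800003ff800003ff800003ff800003ff800003ff800884990e07448f0d0444860c04447c8b0564730a05645e890444528803444607022441060344370502242f04010429830224118201040981001c0400))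
) (.node (.leaf (nat_lit 0x3ff800003ff800003ff800003ff800003ff80066417a806641e2704e420a60003ff800003ff800003ff800000b1a10008b12204e4ae1d082481990003ff800000aea0000047870000890c0000a38b0000821f0000a9900003ff800003ff800003ff800003ff800003ff800000950e0003ff8001c4a9180003ff800824949200008c080664889b0008a31a05a4768504e45d8900088b8d03a4471c01c43e860000770a01c42d8400842a0301c40e8200840a81001c0200))
 (.leaf (nat_lit 0xa8464aa00003d0600004c260003ff800003ff8000082703000839ac000848a9000059230003ff800000581c0003ff800003ff800003ff8008e482990003ff800003ff80000855a50003ff800003ff8000007a120003ff800003ff800003ff800003ff800003ff800003ff800003ff800003ff800000a88b0003ff8008e4970e03f0ba080008b0150008a60f0604748a0000642d0008911104706e9c00003c2704b06d0700002c2800002d0400000c8000000d8200080601))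
)) (.node (.node (.leaf (nat_lit 0x3ff800003ff800003ff800003ff800003ff8003e4172803e41ca704c420260003ff800003ff800003ff800003ff800003ff800003ff800003ff800003ff800003ff8002e4251c0003ff800003ff8007e44e990003ff800003ff800003ff800003ff800003ff800003ff800003ff800003ff800003ff800003ff8007e4940e06c48d0d03e4880c03e47e8b04c4720a04c45d0903e4538802e444070184420602e4360501843004004428830184130200440801001c0100))
 (.leaf (nat_lit 0x3ff800003ff800003ff800003ff800003ff800008241c0008340500084307012456830003ff800264598409e4b38d05e48b210003ff8008c4839f0003ff800003ff80000024a80003ff800003ff800003ff800003ff800003ff800003ff800003ff800003ff800003ff800003ff800003ff800003ff800003ff8008c4998e0000b4220008af960464800b05ec73890000740a04645508000043a605106a1c000034a700005a23000057250264110201240901001c0500))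
) (.node (.leaf (nat_lit 0x3ff800003ff800003ff800003ff800003ff80068415a806841b27052422260003ff800003ff800003ff800704b3200000ab9d0003ff80000081070003ff800984ab2100084d990003ff800003ff8000004e1c0003ff8006849e0b0003ff800003ff800003ff800003ff80000078050003ff800003ff800003ff800000928a07048e1b0684868800009e970008920e05245f090000870c0008809f020440860008779202042e8400c429030204108200c40881001c0300))
 (.leaf (nat_lit 0xead4658905b4660435b46683c5b4670935946786c5946806d5946883c5746904a4f46b05b4f46b82a4d46c07ea14b50d4454b5886454b61bb454b68d1434b70b6434b78cb434b80cb414b88713f4b90e43f4b988e954ba8d0394bb85a394bc06c394bc85d394bd070374bd8a4354be0bc334be8b4314bf089314bf8d0003ff800003ff800003ff800003ff800003ff800003ff800003ff800003ff800003ff800003ff800003ff800003ff800003ff800003ff800003ff80))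
))) (.node (.node (.node (.leaf (nat_lit 0x3ff800003ff800003ff800003ff800003ff80062416a806241c270003ff800003ff800003ff800003ff800003ff800000a29e0003ff800000938e04a4a2210003ff800003ff800003ff800964a40d0003ff800003ff8006249f0c0003ff800003ff800003ff800003ff8007c478990003ff800003ff800003ff8007c4931f0000a49a00009f9706247d8804a4710704a45c8900007e0b0000718a0164418602c4389c01642f84002428030164128200240781001c0080))
 (.leaf (nat_lit 0xa64628909043a840003ff8005c4332a0003ff8000001a27064419a805c423260003ff800003ff800003ff800003ff800003ff800003ff800003ff800003ff800003ff80000038050003ff800003ff800003ff800000a78f06449d0c0003ff800003ff800003ff800003ff8008a479190003ff800003ff800904a71808a4968e07648f8d00009d9706447b8805c4760a0000632d00007c0b0364468702443f830364379c00003b2c0000400602440f8100001002001c0480))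
) (.node (.leaf (nat_lit 0x3ff800003ff800003ff800003ff800003ff800404182804041ea7050421260003ff800003ff800003ff800003ff800003ff800003ff800003ff800003ff800003ff800304259c0003ff800003ff8008444f190003ff800003ff800003ff800003ff800003ff800003ff800003ff800003ff800003ff800003ff800844958e06e48d8d0404898c04047f8b0504728a05045e09040454880304458701e43f060304368501e42e0400a42a8301e40f0200a40b01001c0280))
 (.leaf (nat_lit 0xaa4638900003a270003ff800000652d0000492600082b8400083b8600084bab0000561c0003ff80028458a50003ff800003ff800003ff80092483120003ff800003ff80000857a30003ff800003ff800003ff800003ff800003ff800003ff800003ff800003ff800003ff80092479990003ff800003ff800000a68b0000978e03f0bb120008b0940008a8100000750a0584602a0008919800006d8502843cac04b06e1c02842c83000027a802840d010000068000080c02))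
)) (.node (.node (.leaf (nat_lit 0xa44622b00004b290003ff80000031a700644aac00081f260008312a00001fa80003ff800003ff800003ff8009c4b20d00008a880000ad8c0003ff800000a18b0000aa9b000045070008aa1d0003ff80080450990003ff800003ff800003ff800003ff800003ff800003ff800003ff800003ff800003ff800003ff800804988e0000b2a20008ad200008a11e00006f8500005b0300088a210384449c01a43d8400086f0a00003e0600085a8901a40e0200640a01001c0180))
 (.leaf (nat_lit 0x3ff800003ff800003ff8009a433aa0003ff80000014810000190209a423a60003ff800003ff800003ff800784b4a20000ac9d09a4af200000908d0003ff8009a4ac2100085188000084870784a50e0008850c0003ff8000009c920003ff800003ff800003ff8000009a8a00089c170003ff800003ff800003ff800000a59a0784901f0000859900007b0500089a13055069890000521c0008841b05106a8100087a8b04d06c84000860a4000818a700081428001c0580))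
) (.node (.leaf (nat_lit 0x3ff800003ff800003ff800003ff800003ff800424162804241ba7054422a60003ff800003ff800003ff800003ff800003ff800003ff800003ff800003ff800003ff800324269c0003ff800003ff8008644f990003ff800003ff800003ff800003ff800003ff800003ff800003ff800003ff800003ff800003ff800864960e07248e8d0424878c04247d0b0544758a05445f89042453080324480700e442860324390500e4308400e42b0300e4138200e40b81001c0380))
 (.leaf (nat_lit 0x2000400018627000206a6000181a7000206260001058100010582000181a80002061c000205830002069c00030221000281880003018c000283070002818b0003019b00018528000285870002820b0002031c00028688000285920003050c0003060c0003068c0002858a00020305000286080002868b0002860b0002830a00028208000285990002058500020185000201830002059c00020526000186a700018527000186a800018628000086800000860000000000))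
))))

noncomputable def tF_rules : LT :=
(.node (.node (.node (.node (.node (.node (.node (.leaf [nat_lit 82,nat_lit 2,nat_lit 1,nat_lit 0,nat_lit 13,nat_lit 3,nat_lit 12])
 (.leaf [nat_lit 33,nat_lit 3,nat_lit 1,nat_lit 3,nat_lit 6,nat_lit 3,nat_lit 4,nat_lit 6])
) (.leaf [nat_lit 77,nat_lit 3,nat_lit 1,nat_lit 5,nat_lit 11,nat_lit 7,nat_lit 5,nat_lit 11])
) (.node (.node (.leaf [nat_lit 89,nat_lit 3,nat_lit 1,nat_lit 6,nat_lit 12,nat_lit 6,nat_lit 13])
 (.leaf [nat_lit 80,nat_lit 0,nat_lit 1,nat_lit 14,nat_lit 10,nat_lit 11,nat_lit 10,nat_lit 11,nat_lit 10,nat_lit 11,nat_lit 10,nat_lit 11])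
) (.leaf [nat_lit 82,nat_lit 3,nat_lit 1,nat_lit 12,nat_lit 3,nat_lit 12,nat_lit 0])
)) (.node (.node (.node (.leaf [nat_lit 91,nat_lit 1,nat_lit 1,nat_lit 8,nat_lit 13,nat_lit 8,nat_lit 12])
 (.leaf [nat_lit 88,nat_lit 1,nat_lit 1,nat_lit 9,nat_lit 13,nat_lit 9,nat_lit 13])
) (.leaf [nat_lit 28,nat_lit 2,nat_lit 1,nat_lit 5,nat_lit 3,nat_lit 5,nat_lit 3])
) (.node (.leaf [nat_lit 65,nat_lit 2,nat_lit 1,nat_lit 5,nat_lit 10,nat_lit 5,nat_lit 10])
 (.leaf [nat_lit 34,nat_lit 1,nat_lit 1,nat_lit 6,nat_lit 4,nat_lit 6,nat_lit 4])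
))) (.node (.node (.node (.node (.leaf [nat_lit 86,nat_lit 3,nat_lit 1,nat_lit 4,nat_lit 13,nat_lit 1,nat_lit 4,nat_lit 12])
 (.leaf [nat_lit 56,nat_lit 3,nat_lit 1,nat_lit 8,nat_lit 6,nat_lit 7,nat_lit 8,nat_lit 6])
) (.leaf [nat_lit 17,nat_lit 1,nat_lit 1,nat_lit 0,nat_lit 3,nat_lit 0,nat_lit 3])
) (.node (.node (.leaf [nat_lit 81,nat_lit 1,nat_lit 0,nat_lit 13,nat_lit 12,nat_lit 12])
 (.leaf [nat_lit 85,nat_lit 4,nat_lit 1,nat_lit 12,nat_lit 0,nat_lit 3,nat_lit 12,nat_lit 3])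
) (.leaf [nat_lit 74,nat_lit 2,nat_lit 1,nat_lit 6,nat_lit 11,nat_lit 6,nat_lit 11])
)) (.node (.node (.node (.leaf [nat_lit 87,nat_lit 0,nat_lit 1,nat_lit 2,nat_lit 5,nat_lit 12,nat_lit 5,nat_lit 13])
 (.leaf [nat_lit 33,nat_lit 4,nat_lit 1,nat_lit 6,nat_lit 3,nat_lit 4,nat_lit 6,nat_lit 3])
) (.leaf [nat_lit 85,nat_lit 2,nat_lit 1,nat_lit 13,nat_lit 3,nat_lit 13,nat_lit 0,nat_lit 3])
) (.node (.leaf [nat_lit 63,nat_lit 2,nat_lit 1,nat_lit 3,nat_lit 10,nat_lit 3,nat_lit 10])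
 (.leaf [nat_lit 76,nat_lit 2,nat_lit 1,nat_lit 11,nat_lit 4,nat_lit 11,nat_lit 6,nat_lit 4])
)))) (.node (.node (.node (.node (.node (.leaf [nat_lit 84,nat_lit 2,nat_lit 1,nat_lit 2,nat_lit 13,nat_lit 5,nat_lit 12])
 (.leaf [nat_lit 35,nat_lit 2,nat_lit 1,nat_lit 5,nat_lit 6,nat_lit 5,nat_lit 6])
) (.leaf [nat_lit 73,nat_lit 2,nat_lit 1,nat_lit 8,nat_lit 11,nat_lit 8,nat_lit 11])
) (.node (.node (.leaf [nat_lit 88,nat_lit 2,nat_lit 0,nat_lit 9,nat_lit 12,nat_lit 9,nat_lit 12])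
 (.leaf [nat_lit 17,nat_lit 2,nat_lit 1,nat_lit 3,nat_lit 0,nat_lit 3,nat_lit 0])
) (.leaf [nat_lit 72,nat_lit 2,nat_lit 1,nat_lit 9,nat_lit 11,nat_lit 9,nat_lit 11])
)) (.node (.node (.node (.leaf [nat_lit 85,nat_lit 0,nat_lit 1,nat_lit 0,nat_lit 3,nat_lit 12,nat_lit 3,nat_lit 13])
 (.leaf [nat_lit 13,nat_lit 0,nat_lit 0,nat_lit 14,nat_lit 12,nat_lit 13])
) (.leaf [nat_lit 39,nat_lit 2,nat_lit 1,nat_lit 7,nat_lit 3,nat_lit 7,nat_lit 3,nat_lit 5])
) (.node (.leaf [nat_lit 68,nat_lit 2,nat_lit 1,nat_lit 8,nat_lit 10,nat_lit 8,nat_lit 10])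
 (.leaf [nat_lit 46,nat_lit 2,nat_lit 1,nat_lit 8,nat_lit 4,nat_lit 8,nat_lit 4,nat_lit 5])
))) (.node (.node (.node (.node (.leaf [nat_lit 89,nat_lit 1,nat_lit 1,nat_lit 6,nat_lit 13,nat_lit 6,nat_lit 12])
 (.leaf [nat_lit 66,nat_lit 3,nat_lit 1,nat_lit 10,nat_lit 6,nat_lit 10,nat_lit 6,nat_lit 10,nat_lit 6])
) (.leaf [nat_lit 24,nat_lit 1,nat_lit 1,nat_lit 2,nat_lit 3,nat_lit 2,nat_lit 3])
) (.node (.node (.leaf [nat_lit 61,nat_lit 3,nat_lit 1,nat_lit 1,nat_lit 10,nat_lit 0,nat_lit 1,nat_lit 10])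
 (.leaf [nat_lit 92,nat_lit 20,nat_lit 1,nat_lit 14,nat_lit 9,nat_lit 9,nat_lit 13,nat_lit 9,nat_lit 3,nat_lit 11,nat_lit 3,nat_lit 13,nat_lit 9,nat_lit 9,nat_lit 13,nat_lit 9,nat_lit 3,nat_lit 11,nat_lit 3,nat_lit 13,nat_lit 9,nat_lit 9,nat_lit 13,nat_lit 9,nat_lit 3,nat_lit 11,nat_lit 3,nat_lit 13])
) (.leaf [nat_lit 25,nat_lit 1,nat_lit 1,nat_lit 2,nat_lit 4,nat_lit 2,nat_lit 4])
)) (.node (.node (.node (.leaf [nat_lit 83,nat_lit 0,nat_lit 1,nat_lit 4,nat_lit 12,nat_lit 1,nat_lit 13])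
 (.leaf [nat_lit 27,nat_lit 1,nat_lit 1,nat_lit 3,nat_lit 4,nat_lit 3,nat_lit 4])
) (.leaf [nat_lit 51,nat_lit 2,nat_lit 1,nat_lit 9,nat_lit 3,nat_lit 9,nat_lit 0,nat_lit 3])
) (.node (.leaf [nat_lit 71,nat_lit 3,nat_lit 1,nat_lit 0,nat_lit 11,nat_lit 9,nat_lit 0,nat_lit 11])
 (.leaf [nat_lit 31,nat_lit 2,nat_lit 1,nat_lit 1,nat_lit 6,nat_lit 1,nat_lit 6])
))))) (.node (.node (.node (.node (.node (.node (.leaf [nat_lit 83,nat_lit 2,nat_lit 1,nat_lit 1,nat_lit 13,nat_lit 4,nat_lit 12])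
 (.leaf [nat_lit 34,nat_lit 2,nat_lit 1,nat_lit 4,nat_lit 6,nat_lit 4,nat_lit 6])
) (.leaf [nat_lit 75,nat_lit 2,nat_lit 1,nat_lit 7,nat_lit 11,nat_lit 7,nat_lit 11])
) (.node (.node (.leaf [nat_lit 91,nat_lit 3,nat_lit 1,nat_lit 8,nat_lit 12,nat_lit 8,nat_lit 13])
 (.leaf [nat_lit 85,nat_lit 4,nat_lit 0,nat_lit 0,nat_lit 12,nat_lit 3,nat_lit 13,nat_lit 3])
) (.leaf [nat_lit 78,nat_lit 2,nat_lit 1,nat_lit 1,nat_lit 11,nat_lit 1,nat_lit 11])
)) (.node (.node (.node (.leaf [nat_lit 90,nat_lit 1,nat_lit 1,nat_lit 10,nat_lit 13,nat_lit 10,nat_lit 12])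
 (.leaf [nat_lit 89,nat_lit 0,nat_lit 1,nat_lit 13,nat_lit 6,nat_lit 13,nat_lit 6])
) (.leaf [nat_lit 33,nat_lit 2,nat_lit 1,nat_lit 6,nat_lit 3,nat_lit 6,nat_lit 3,nat_lit 4])
) (.node (.leaf [nat_lit 67,nat_lit 3,nat_lit 1,nat_lit 7,nat_lit 10,nat_lit 8,nat_lit 7,nat_lit 10])
 (.leaf [nat_lit 40,nat_lit 1,nat_lit 1,nat_lit 7,nat_lit 4,nat_lit 7,nat_lit 4])
))) (.node (.node (.node (.node (.leaf [nat_lit 87,nat_lit 3,nat_lit 1,nat_lit 5,nat_lit 13,nat_lit 2,nat_lit 5,nat_lit 12])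
 (.leaf [nat_lit 57,nat_lit 1,nat_lit 1,nat_lit 9,nat_lit 6,nat_lit 9,nat_lit 6])
) (.leaf [nat_lit 21,nat_lit 1,nat_lit 1,nat_lit 1,nat_lit 3,nat_lit 1,nat_lit 3])
) (.node (.node (.leaf [nat_lit 60,nat_lit 2,nat_lit 1,nat_lit 0,nat_lit 10,nat_lit 0,nat_lit 10])
 (.leaf [nat_lit 82,nat_lit 1,nat_lit 1,nat_lit 13,nat_lit 0,nat_lit 13,nat_lit 3])
) (.leaf [nat_lit 18,nat_lit 1,nat_lit 1,nat_lit 0,nat_lit 4,nat_lit 0,nat_lit 4])
)) (.node (.node (.node (.leaf [nat_lit 82,nat_lit 0,nat_lit 1,nat_lit 3,nat_lit 12,nat_lit 0,nat_lit 13])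
 (.leaf [nat_lit 70,nat_lit 3,nat_lit 1,nat_lit 11,nat_lit 3,nat_lit 11,nat_lit 3,nat_lit 11,nat_lit 3])
) (.leaf [nat_lit 64,nat_lit 1,nat_lit 1,nat_lit 4,nat_lit 10,nat_lit 4,nat_lit 10,nat_lit 3])
) (.node (.leaf [nat_lit 64,nat_lit 3,nat_lit 1,nat_lit 4,nat_lit 10,nat_lit 3,nat_lit 4,nat_lit 10])
 (.leaf [nat_lit 30,nat_lit 3,nat_lit 1,nat_lit 0,nat_lit 6,nat_lit 0,nat_lit 1,nat_lit 6])
)))) (.node (.node (.node (.node (.node (.leaf [nat_lit 85,nat_lit 3,nat_lit 1,nat_lit 3,nat_lit 13,nat_lit 0,nat_lit 3,nat_lit 12])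
 (.leaf [nat_lit 54,nat_lit 2,nat_lit 1,nat_lit 7,nat_lit 6,nat_lit 7,nat_lit 6])
) (.leaf [nat_lit 80,nat_lit 6,nat_lit 1,nat_lit 10,nat_lit 11,nat_lit 10,nat_lit 11,nat_lit 10,nat_lit 11,nat_lit 10,nat_lit 11])
) (.node (.node (.leaf [nat_lit 90,nat_lit 3,nat_lit 1,nat_lit 10,nat_lit 12,nat_lit 10,nat_lit 13])
 (.leaf [nat_lit 48,nat_lit 1,nat_lit 1,nat_lit 9,nat_lit 0,nat_lit 9,nat_lit 0])
) (.leaf [nat_lit 76,nat_lit 3,nat_lit 1,nat_lit 4,nat_lit 11,nat_lit 6,nat_lit 4,nat_lit 11])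
)) (.node (.node (.node (.leaf [nat_lit 86,nat_lit 0,nat_lit 1,nat_lit 1,nat_lit 4,nat_lit 12,nat_lit 4,nat_lit 13])
 (.leaf [nat_lit 22,nat_lit 1,nat_lit 1,nat_lit 1,nat_lit 4,nat_lit 1,nat_lit 4])
) (.leaf [nat_lit 45,nat_lit 1,nat_lit 1,nat_lit 8,nat_lit 3,nat_lit 8,nat_lit 3])
) (.node (.leaf [nat_lit 69,nat_lit 2,nat_lit 1,nat_lit 9,nat_lit 10,nat_lit 9,nat_lit 10])
 (.leaf [nat_lit 52,nat_lit 2,nat_lit 1,nat_lit 9,nat_lit 4,nat_lit 9,nat_lit 1,nat_lit 4])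
))) (.node (.node (.node (.node (.leaf [nat_lit 56,nat_lit 0,nat_lit 1,nat_lit 7,nat_lit 8,nat_lit 6,nat_lit 8,nat_lit 6])
 (.leaf [nat_lit 89,nat_lit 2,nat_lit 1,nat_lit 12,nat_lit 6,nat_lit 12,nat_lit 6])
) (.leaf [nat_lit 27,nat_lit 2,nat_lit 1,nat_lit 4,nat_lit 3,nat_lit 4,nat_lit 3])
) (.node (.leaf [nat_lit 62,nat_lit 2,nat_lit 1,nat_lit 2,nat_lit 10,nat_lit 2,nat_lit 10])
 (.leaf [nat_lit 29,nat_lit 2,nat_lit 1,nat_lit 5,nat_lit 4,nat_lit 5,nat_lit 4])
)) (.node (.node (.node (.leaf [nat_lit 84,nat_lit 0,nat_lit 1,nat_lit 5,nat_lit 12,nat_lit 2,nat_lit 13])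
 (.leaf [nat_lit 64,nat_lit 2,nat_lit 1,nat_lit 10,nat_lit 4,nat_lit 10,nat_lit 3,nat_lit 4])
) (.leaf [nat_lit 63,nat_lit 1,nat_lit 1,nat_lit 10,nat_lit 3,nat_lit 10,nat_lit 3])
) (.node (.leaf [nat_lit 79,nat_lit 2,nat_lit 1,nat_lit 2,nat_lit 11,nat_lit 2,nat_lit 11])
 (.leaf [nat_lit 32,nat_lit 2,nat_lit 1,nat_lit 2,nat_lit 6,nat_lit 2,nat_lit 6])
))))))

noncomputable def tF_subs : LT :=
(.leaf [nat_lit 0,nat_lit 0,nat_lit 0,nat_lit 14])


noncomputable def tF : TC :=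
  ⟨fun x c => Nat.shiftRight (BT.get tF_t x) (Nat.mul (nat_lit 32) c),
  (nat_lit 7), (nat_lit 127), (nat_lit 262143), (nat_lit 18), (nat_lit 16383), (nat_lit 262016), (nat_lit 15), (nat_lit 46), (nat_lit 14), (nat_lit 12), (nat_lit 14), (nat_lit 15), tF_inv, tF_rules, tF_subs⟩

theorem tF_c1 : tF.rules.all (ruleOK tF.m tF.inv tF_rels) = true := by decide +kernel
theorem tF_c2 : tF.subs.all (subOK tF.m tF.inv tF_hws) = true := by decide +kernel
theorem tF_c3 : tF.base = true := by decide +kernel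

theorem tF_s0 : tF.slots (nat_lit 0) (nat_lit 46) = true := by decide +kernel

theorem tF_e0 : allRange (nat_lit 15) (nat_lit 31) tF.slotE = true := by decide +kernel

theorem tF_c4 : tF.Upto tF.N := ((TC.upto_zero tF).step _ tF_s0)
theorem tF_c5 : tF.UptoE tF.N := ((TC.uptoE_n tF).step _ tF_e0)
theorem tF_bound {G : Type*} [Group G] {g : ℕ → G} {H : Subgroup G} (hinv : ∀ x < 14, g x * g (tF_inv x) = 1)
    (hrels : ∀ i, evalW g (tF_rels.get i) = 1) (hH : ∀ x < 12, g x ∈ H) (hhws : ∀ i, evalW g (tF_hws.get i) ∈ H) :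
    H.relIndex (genLt g 14) ≠ 0 ∧ H.relIndex (genLt g 14) ≤ 15 :=
  TC.relIndex_le (T := tF) hinv hrels hH hhws tF_c1 tF_c2 tF_c3 tF_c4 tF_c5

theorem tF_bd : Bound.{u} relF 12 14 15 := fun _ _ _ _ hs hH =>
  tF_bound (hs.hinv (by decide +kernel)) (hs.tree (by decide +kernel)) hH (leaf_nil_mem' _ _ (by decide +kernel))

theorem presF : Pres.{u} relF 14 322560 := presH.step tF_bd (by decide +kernel)

def WS : List (List ℕ) :=
  [[9],
   [3],
   [11],
   [6],
   [10]]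

noncomputable def S_t : ST :=
(.node (nat_lit 0x1042881) (.node (nat_lit 0x1023141) (.node (nat_lit 0x10138c1) (.node (nat_lit 0x1012189) (.node (nat_lit 0x1011945) (.node (nat_lit 0x101118b) (.node (nat_lit 0x1011145) (.node (nat_lit 0x101110b) (.node (nat_lit 0x1011105) (.node (nat_lit 0x1011103) (.leaf (nat_lit 0x1011101) (nat_lit 2049))
 (.leaf (nat_lit 0x1011103) (nat_lit 2305))
) (.node (nat_lit 0x1011107) (.leaf (nat_lit 0x1011105) (nat_lit 2306))
 (.node (nat_lit 0x1011109) (.leaf (nat_lit 0x1011107) (nat_lit 2305))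
 (.leaf (nat_lit 0x1011109) (nat_lit 2304))
))) (.node (nat_lit 0x101110f) (.node (nat_lit 0x101110d) (.leaf (nat_lit 0x101110b) (nat_lit 2560))
 (.leaf (nat_lit 0x101110d) (nat_lit 2305))
) (.node (nat_lit 0x1011141) (.leaf (nat_lit 0x101110f) (nat_lit 2307))
 (.node (nat_lit 0x1011143) (.leaf (nat_lit 0x1011141) (nat_lit 1795))
 (.leaf (nat_lit 0x1011143) (nat_lit 2051))
)))) (.node (nat_lit 0x101114f) (.node (nat_lit 0x1011149) (.node (nat_lit 0x1011147) (.leaf (nat_lit 0x1011145) (nat_lit 2052))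
 (.leaf (nat_lit 0x1011147) (nat_lit 2051))
) (.node (nat_lit 0x101114b) (.leaf (nat_lit 0x1011149) (nat_lit 2307))
 (.node (nat_lit 0x101114d) (.leaf (nat_lit 0x101114b) (nat_lit 2051))
 (.leaf (nat_lit 0x101114d) (nat_lit 2305))
))) (.node (nat_lit 0x1011185) (.node (nat_lit 0x1011181) (.leaf (nat_lit 0x101114f) (nat_lit 2049))
 (.node (nat_lit 0x1011183) (.leaf (nat_lit 0x1011181) (nat_lit 1795))
 (.leaf (nat_lit 0x1011183) (nat_lit 2051))
)) (.node (nat_lit 0x1011187) (.leaf (nat_lit 0x1011185) (nat_lit 2307))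
 (.node (nat_lit 0x1011189) (.leaf (nat_lit 0x1011187) (nat_lit 2051))
 (.leaf (nat_lit 0x1011189) (nat_lit 2563))
))))) (.node (nat_lit 0x10111cf) (.node (nat_lit 0x10111c5) (.node (nat_lit 0x101118f) (.node (nat_lit 0x101118d) (.leaf (nat_lit 0x101118b) (nat_lit 2307))
 (.leaf (nat_lit 0x101118d) (nat_lit 2051))
) (.node (nat_lit 0x10111c1) (.leaf (nat_lit 0x101118f) (nat_lit 2307))
 (.node (nat_lit 0x10111c3) (.leaf (nat_lit 0x10111c1) (nat_lit 1538))
 (.leaf (nat_lit 0x10111c3) (nat_lit 1794))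
))) (.node (nat_lit 0x10111c9) (.node (nat_lit 0x10111c7) (.leaf (nat_lit 0x10111c5) (nat_lit 2050))
 (.leaf (nat_lit 0x10111c7) (nat_lit 2050))
) (.node (nat_lit 0x10111cb) (.leaf (nat_lit 0x10111c9) (nat_lit 2306))
 (.node (nat_lit 0x10111cd) (.leaf (nat_lit 0x10111cb) (nat_lit 2306))
 (.leaf (nat_lit 0x10111cd) (nat_lit 2050))
)))) (.node (nat_lit 0x1011909) (.node (nat_lit 0x1011903) (.node (nat_lit 0x1011901) (.leaf (nat_lit 0x10111cf) (nat_lit 1794))
 (.leaf (nat_lit 0x1011901) (nat_lit 1794))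
) (.node (nat_lit 0x1011905) (.leaf (nat_lit 0x1011903) (nat_lit 2050))
 (.node (nat_lit 0x1011907) (.leaf (nat_lit 0x1011905) (nat_lit 2306))
 (.leaf (nat_lit 0x1011907) (nat_lit 2050))
))) (.node (nat_lit 0x101190f) (.node (nat_lit 0x101190b) (.leaf (nat_lit 0x1011909) (nat_lit 2050))
 (.node (nat_lit 0x101190d) (.leaf (nat_lit 0x101190b) (nat_lit 2306))
 (.leaf (nat_lit 0x101190d) (nat_lit 2308))
)) (.node (nat_lit 0x1011941) (.leaf (nat_lit 0x101190f) (nat_lit 2052))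
 (.node (nat_lit 0x1011943) (.leaf (nat_lit 0x1011941) (nat_lit 1540))
 (.leaf (nat_lit 0x1011943) (nat_lit 1796))
)))))) (.node (nat_lit 0x10119cf) (.node (nat_lit 0x1011989) (.node (nat_lit 0x101194f) (.node (nat_lit 0x1011949) (.node (nat_lit 0x1011947) (.leaf (nat_lit 0x1011945) (nat_lit 2052))
 (.leaf (nat_lit 0x1011947) (nat_lit 1796))
) (.node (nat_lit 0x101194b) (.leaf (nat_lit 0x1011949) (nat_lit 2052))
 (.node (nat_lit 0x101194d) (.leaf (nat_lit 0x101194b) (nat_lit 1796))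
 (.leaf (nat_lit 0x101194d) (nat_lit 2052))
))) (.node (nat_lit 0x1011983) (.node (nat_lit 0x1011981) (.leaf (nat_lit 0x101194f) (nat_lit 2308))
 (.leaf (nat_lit 0x1011981) (nat_lit 1538))
) (.node (nat_lit 0x1011985) (.leaf (nat_lit 0x1011983) (nat_lit 1794))
 (.node (nat_lit 0x1011987) (.leaf (nat_lit 0x1011985) (nat_lit 2050))
 (.leaf (nat_lit 0x1011987) (nat_lit 1794))
)))) (.node (nat_lit 0x10119c3) (.node (nat_lit 0x101198d) (.node (nat_lit 0x101198b) (.leaf (nat_lit 0x1011989) (nat_lit 2306))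
 (.leaf (nat_lit 0x101198b) (nat_lit 2050))
) (.node (nat_lit 0x101198f) (.leaf (nat_lit 0x101198d) (nat_lit 1794))
 (.node (nat_lit 0x10119c1) (.leaf (nat_lit 0x101198f) (nat_lit 2050))
 (.leaf (nat_lit 0x10119c1) (nat_lit 1540))
))) (.node (nat_lit 0x10119c9) (.node (nat_lit 0x10119c5) (.leaf (nat_lit 0x10119c3) (nat_lit 1796))
 (.node (nat_lit 0x10119c7) (.leaf (nat_lit 0x10119c5) (nat_lit 2306))
 (.leaf (nat_lit 0x10119c7) (nat_lit 2050))
)) (.node (nat_lit 0x10119cb) (.leaf (nat_lit 0x10119c9) (nat_lit 2306))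
 (.node (nat_lit 0x10119cd) (.leaf (nat_lit 0x10119cb) (nat_lit 2562))
 (.leaf (nat_lit 0x10119cd) (nat_lit 2052))
))))) (.node (nat_lit 0x10120c3) (.node (nat_lit 0x1012089) (.node (nat_lit 0x1012083) (.node (nat_lit 0x1012081) (.leaf (nat_lit 0x10119cf) (nat_lit 1796))
 (.leaf (nat_lit 0x1012081) (nat_lit 1539))
) (.node (nat_lit 0x1012085) (.leaf (nat_lit 0x1012083) (nat_lit 1795))
 (.node (nat_lit 0x1012087) (.leaf (nat_lit 0x1012085) (nat_lit 1795))
 (.leaf (nat_lit 0x1012087) (nat_lit 1795))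
))) (.node (nat_lit 0x101208d) (.node (nat_lit 0x101208b) (.leaf (nat_lit 0x1012089) (nat_lit 2304))
 (.leaf (nat_lit 0x101208b) (nat_lit 2305))
) (.node (nat_lit 0x101208f) (.leaf (nat_lit 0x101208d) (nat_lit 2049))
 (.node (nat_lit 0x10120c1) (.leaf (nat_lit 0x101208f) (nat_lit 2051))
 (.leaf (nat_lit 0x10120c1) (nat_lit 1283))
)))) (.node (nat_lit 0x10120cd) (.node (nat_lit 0x10120c7) (.node (nat_lit 0x10120c5) (.leaf (nat_lit 0x10120c3) (nat_lit 1539))
 (.leaf (nat_lit 0x10120c5) (nat_lit 1795))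
) (.node (nat_lit 0x10120c9) (.leaf (nat_lit 0x10120c7) (nat_lit 1539))
 (.node (nat_lit 0x10120cb) (.leaf (nat_lit 0x10120c9) (nat_lit 2307))
 (.leaf (nat_lit 0x10120cb) (nat_lit 2051))
))) (.node (nat_lit 0x1012183) (.node (nat_lit 0x10120cf) (.leaf (nat_lit 0x10120cd) (nat_lit 2051))
 (.node (nat_lit 0x1012181) (.leaf (nat_lit 0x10120cf) (nat_lit 2049))
 (.leaf (nat_lit 0x1012181) (nat_lit 1539))
)) (.node (nat_lit 0x1012185) (.leaf (nat_lit 0x1012183) (nat_lit 1795))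
 (.node (nat_lit 0x1012187) (.leaf (nat_lit 0x1012185) (nat_lit 2051))
 (.leaf (nat_lit 0x1012187) (nat_lit 1795))
))))))) (.node (nat_lit 0x10129cd) (.node (nat_lit 0x10128c3) (.node (nat_lit 0x10121cd) (.node (nat_lit 0x10121c3) (.node (nat_lit 0x101218d) (.node (nat_lit 0x101218b) (.leaf (nat_lit 0x1012189) (nat_lit 2307))
 (.leaf (nat_lit 0x101218b) (nat_lit 2051))
) (.node (nat_lit 0x101218f) (.leaf (nat_lit 0x101218d) (nat_lit 1795))
 (.node (nat_lit 0x10121c1) (.leaf (nat_lit 0x101218f) (nat_lit 2051))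
 (.leaf (nat_lit 0x10121c1) (nat_lit 1537))
))) (.node (nat_lit 0x10121c7) (.node (nat_lit 0x10121c5) (.leaf (nat_lit 0x10121c3) (nat_lit 1793))
 (.leaf (nat_lit 0x10121c5) (nat_lit 2049))
) (.node (nat_lit 0x10121c9) (.leaf (nat_lit 0x10121c7) (nat_lit 1793))
 (.node (nat_lit 0x10121cb) (.leaf (nat_lit 0x10121c9) (nat_lit 2048))
 (.leaf (nat_lit 0x10121cb) (nat_lit 2304))
)))) (.node (nat_lit 0x1012887) (.node (nat_lit 0x1012881) (.node (nat_lit 0x10121cf) (.leaf (nat_lit 0x10121cd) (nat_lit 2048))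
 (.leaf (nat_lit 0x10121cf) (nat_lit 1792))
) (.node (nat_lit 0x1012883) (.leaf (nat_lit 0x1012881) (nat_lit 1284))
 (.node (nat_lit 0x1012885) (.leaf (nat_lit 0x1012883) (nat_lit 1540))
 (.leaf (nat_lit 0x1012885) (nat_lit 1540))
))) (.node (nat_lit 0x101288d) (.node (nat_lit 0x1012889) (.leaf (nat_lit 0x1012887) (nat_lit 1540))
 (.node (nat_lit 0x101288b) (.leaf (nat_lit 0x1012889) (nat_lit 2308))
 (.leaf (nat_lit 0x101288b) (nat_lit 2052))
)) (.node (nat_lit 0x101288f) (.leaf (nat_lit 0x101288d) (nat_lit 2052))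
 (.node (nat_lit 0x10128c1) (.leaf (nat_lit 0x101288f) (nat_lit 1796))
 (.leaf (nat_lit 0x10128c1) (nat_lit 1028))
))))) (.node (nat_lit 0x1012987) (.node (nat_lit 0x10128cd) (.node (nat_lit 0x10128c7) (.node (nat_lit 0x10128c5) (.leaf (nat_lit 0x10128c3) (nat_lit 1284))
 (.leaf (nat_lit 0x10128c5) (nat_lit 1540))
) (.node (nat_lit 0x10128c9) (.leaf (nat_lit 0x10128c7) (nat_lit 1284))
 (.node (nat_lit 0x10128cb) (.leaf (nat_lit 0x10128c9) (nat_lit 2052))
 (.leaf (nat_lit 0x10128cb) (nat_lit 1796))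
))) (.node (nat_lit 0x1012981) (.node (nat_lit 0x10128cf) (.leaf (nat_lit 0x10128cd) (nat_lit 1796))
 (.leaf (nat_lit 0x10128cf) (nat_lit 2052))
) (.node (nat_lit 0x1012983) (.leaf (nat_lit 0x1012981) (nat_lit 1284))
 (.node (nat_lit 0x1012985) (.leaf (nat_lit 0x1012983) (nat_lit 1540))
 (.leaf (nat_lit 0x1012985) (nat_lit 1796))
)))) (.node (nat_lit 0x10129c1) (.node (nat_lit 0x101298b) (.node (nat_lit 0x1012989) (.leaf (nat_lit 0x1012987) (nat_lit 1540))
 (.leaf (nat_lit 0x1012989) (nat_lit 2052))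
) (.node (nat_lit 0x101298d) (.leaf (nat_lit 0x101298b) (nat_lit 1796))
 (.node (nat_lit 0x101298f) (.leaf (nat_lit 0x101298d) (nat_lit 1540))
 (.leaf (nat_lit 0x101298f) (nat_lit 1796))
))) (.node (nat_lit 0x10129c7) (.node (nat_lit 0x10129c3) (.leaf (nat_lit 0x10129c1) (nat_lit 1284))
 (.node (nat_lit 0x10129c5) (.leaf (nat_lit 0x10129c3) (nat_lit 1540))
 (.leaf (nat_lit 0x10129c5) (nat_lit 1796))
)) (.node (nat_lit 0x10129c9) (.leaf (nat_lit 0x10129c7) (nat_lit 1796))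
 (.node (nat_lit 0x10129cb) (.leaf (nat_lit 0x10129c9) (nat_lit 2052))
 (.leaf (nat_lit 0x10129cb) (nat_lit 2052))
)))))) (.node (nat_lit 0x1013107) (.node (nat_lit 0x10130c1) (.node (nat_lit 0x1013087) (.node (nat_lit 0x1013081) (.node (nat_lit 0x10129cf) (.leaf (nat_lit 0x10129cd) (nat_lit 1796))
 (.leaf (nat_lit 0x10129cf) (nat_lit 1540))
) (.node (nat_lit 0x1013083) (.leaf (nat_lit 0x1013081) (nat_lit 1540))
 (.node (nat_lit 0x1013085) (.leaf (nat_lit 0x1013083) (nat_lit 1796))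
 (.leaf (nat_lit 0x1013085) (nat_lit 1796))
))) (.node (nat_lit 0x101308b) (.node (nat_lit 0x1013089) (.leaf (nat_lit 0x1013087) (nat_lit 2052))
 (.leaf (nat_lit 0x1013089) (nat_lit 2305))
) (.node (nat_lit 0x101308d) (.leaf (nat_lit 0x101308b) (nat_lit 2307))
 (.node (nat_lit 0x101308f) (.leaf (nat_lit 0x101308d) (nat_lit 2306))
 (.leaf (nat_lit 0x101308f) (nat_lit 2307))
)))) (.node (nat_lit 0x10130cb) (.node (nat_lit 0x10130c5) (.node (nat_lit 0x10130c3) (.leaf (nat_lit 0x10130c1) (nat_lit 1282))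
 (.leaf (nat_lit 0x10130c3) (nat_lit 1538))
) (.node (nat_lit 0x10130c7) (.leaf (nat_lit 0x10130c5) (nat_lit 1794))
 (.node (nat_lit 0x10130c9) (.leaf (nat_lit 0x10130c7) (nat_lit 1538))
 (.leaf (nat_lit 0x10130c9) (nat_lit 2305))
))) (.node (nat_lit 0x1013101) (.node (nat_lit 0x10130cd) (.leaf (nat_lit 0x10130cb) (nat_lit 2049))
 (.node (nat_lit 0x10130cf) (.leaf (nat_lit 0x10130cd) (nat_lit 2050))
 (.leaf (nat_lit 0x10130cf) (nat_lit 2306))
)) (.node (nat_lit 0x1013103) (.leaf (nat_lit 0x1013101) (nat_lit 1795))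
 (.node (nat_lit 0x1013105) (.leaf (nat_lit 0x1013103) (nat_lit 2051))
 (.leaf (nat_lit 0x1013105) (nat_lit 2052))
))))) (.node (nat_lit 0x101314b) (.node (nat_lit 0x1013141) (.node (nat_lit 0x101310b) (.node (nat_lit 0x1013109) (.leaf (nat_lit 0x1013107) (nat_lit 2051))
 (.leaf (nat_lit 0x1013109) (nat_lit 2051))
) (.node (nat_lit 0x101310d) (.leaf (nat_lit 0x101310b) (nat_lit 2307))
 (.node (nat_lit 0x101310f) (.leaf (nat_lit 0x101310d) (nat_lit 2308))
 (.leaf (nat_lit 0x101310f) (nat_lit 2307))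
))) (.node (nat_lit 0x1013145) (.node (nat_lit 0x1013143) (.leaf (nat_lit 0x1013141) (nat_lit 1537))
 (.leaf (nat_lit 0x1013143) (nat_lit 1793))
) (.node (nat_lit 0x1013147) (.leaf (nat_lit 0x1013145) (nat_lit 2049))
 (.node (nat_lit 0x1013149) (.leaf (nat_lit 0x1013147) (nat_lit 1793))
 (.leaf (nat_lit 0x1013149) (nat_lit 2048))
)))) (.node (nat_lit 0x1013885) (.node (nat_lit 0x101314f) (.node (nat_lit 0x101314d) (.leaf (nat_lit 0x101314b) (nat_lit 1792))
 (.leaf (nat_lit 0x101314d) (nat_lit 2048))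
) (.node (nat_lit 0x1013881) (.leaf (nat_lit 0x101314f) (nat_lit 2304))
 (.node (nat_lit 0x1013883) (.leaf (nat_lit 0x1013881) (nat_lit 1538))
 (.leaf (nat_lit 0x1013883) (nat_lit 1794))
))) (.node (nat_lit 0x101388b) (.node (nat_lit 0x1013887) (.leaf (nat_lit 0x1013885) (nat_lit 1794))
 (.node (nat_lit 0x1013889) (.leaf (nat_lit 0x1013887) (nat_lit 1794))
 (.leaf (nat_lit 0x1013889) (nat_lit 2308))
)) (.node (nat_lit 0x101388d) (.leaf (nat_lit 0x101388b) (nat_lit 2052))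
 (.node (nat_lit 0x101388f) (.leaf (nat_lit 0x101388d) (nat_lit 2306))
 (.leaf (nat_lit 0x101388f) (nat_lit 2050))
)))))))) (.node (nat_lit 0x10219c9) (.node (nat_lit 0x1020985) (.node (nat_lit 0x101394b) (.node (nat_lit 0x1013905) (.node (nat_lit 0x10138cb) (.node (nat_lit 0x10138c5) (.node (nat_lit 0x10138c3) (.leaf (nat_lit 0x10138c1) (nat_lit 1284))
 (.leaf (nat_lit 0x10138c3) (nat_lit 1540))
) (.node (nat_lit 0x10138c7) (.leaf (nat_lit 0x10138c5) (nat_lit 1796))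
 (.node (nat_lit 0x10138c9) (.leaf (nat_lit 0x10138c7) (nat_lit 1540))
 (.leaf (nat_lit 0x10138c9) (nat_lit 2052))
))) (.node (nat_lit 0x10138cf) (.node (nat_lit 0x10138cd) (.leaf (nat_lit 0x10138cb) (nat_lit 2308))
 (.leaf (nat_lit 0x10138cd) (nat_lit 2308))
) (.node (nat_lit 0x1013901) (.leaf (nat_lit 0x10138cf) (nat_lit 2052))
 (.node (nat_lit 0x1013903) (.leaf (nat_lit 0x1013901) (nat_lit 1540))
 (.leaf (nat_lit 0x1013903) (nat_lit 1796))
)))) (.node (nat_lit 0x101390f) (.node (nat_lit 0x1013909) (.node (nat_lit 0x1013907) (.leaf (nat_lit 0x1013905) (nat_lit 2052))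
 (.leaf (nat_lit 0x1013907) (nat_lit 1796))
) (.node (nat_lit 0x101390b) (.leaf (nat_lit 0x1013909) (nat_lit 1796))
 (.node (nat_lit 0x101390d) (.leaf (nat_lit 0x101390b) (nat_lit 2052))
 (.leaf (nat_lit 0x101390d) (nat_lit 2308))
))) (.node (nat_lit 0x1013945) (.node (nat_lit 0x1013941) (.leaf (nat_lit 0x101390f) (nat_lit 2052))
 (.node (nat_lit 0x1013943) (.leaf (nat_lit 0x1013941) (nat_lit 1540))
 (.leaf (nat_lit 0x1013943) (nat_lit 1796))
)) (.node (nat_lit 0x1013947) (.leaf (nat_lit 0x1013945) (nat_lit 2049))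
 (.node (nat_lit 0x1013949) (.leaf (nat_lit 0x1013947) (nat_lit 2049))
 (.leaf (nat_lit 0x1013949) (nat_lit 2052))
))))) (.node (nat_lit 0x102090f) (.node (nat_lit 0x1020905) (.node (nat_lit 0x101394f) (.node (nat_lit 0x101394d) (.leaf (nat_lit 0x101394b) (nat_lit 1796))
 (.leaf (nat_lit 0x101394d) (nat_lit 2308))
) (.node (nat_lit 0x1020901) (.leaf (nat_lit 0x101394f) (nat_lit 2052))
 (.node (nat_lit 0x1020903) (.leaf (nat_lit 0x1020901) (nat_lit 1538))
 (.leaf (nat_lit 0x1020903) (nat_lit 1794))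
))) (.node (nat_lit 0x1020909) (.node (nat_lit 0x1020907) (.leaf (nat_lit 0x1020905) (nat_lit 2305))
 (.leaf (nat_lit 0x1020907) (nat_lit 2049))
) (.node (nat_lit 0x102090b) (.leaf (nat_lit 0x1020909) (nat_lit 1794))
 (.node (nat_lit 0x102090d) (.leaf (nat_lit 0x102090b) (nat_lit 1793))
 (.leaf (nat_lit 0x102090d) (nat_lit 2307))
)))) (.node (nat_lit 0x1020949) (.node (nat_lit 0x1020943) (.node (nat_lit 0x1020941) (.leaf (nat_lit 0x102090f) (nat_lit 2051))
 (.leaf (nat_lit 0x1020941) (nat_lit 1282))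
) (.node (nat_lit 0x1020945) (.leaf (nat_lit 0x1020943) (nat_lit 1538))
 (.node (nat_lit 0x1020947) (.leaf (nat_lit 0x1020945) (nat_lit 2051))
 (.leaf (nat_lit 0x1020947) (nat_lit 1795))
))) (.node (nat_lit 0x102094f) (.node (nat_lit 0x102094b) (.leaf (nat_lit 0x1020949) (nat_lit 1794))
 (.node (nat_lit 0x102094d) (.leaf (nat_lit 0x102094b) (nat_lit 1538))
 (.leaf (nat_lit 0x102094d) (nat_lit 2051))
)) (.node (nat_lit 0x1020981) (.leaf (nat_lit 0x102094f) (nat_lit 2050))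
 (.node (nat_lit 0x1020983) (.leaf (nat_lit 0x1020981) (nat_lit 1281))
 (.leaf (nat_lit 0x1020983) (nat_lit 1537))
)))))) (.node (nat_lit 0x102190f) (.node (nat_lit 0x10209c9) (.node (nat_lit 0x102098f) (.node (nat_lit 0x1020989) (.node (nat_lit 0x1020987) (.leaf (nat_lit 0x1020985) (nat_lit 2305))
 (.leaf (nat_lit 0x1020987) (nat_lit 2049))
) (.node (nat_lit 0x102098b) (.leaf (nat_lit 0x1020989) (nat_lit 2307))
 (.node (nat_lit 0x102098d) (.leaf (nat_lit 0x102098b) (nat_lit 2051))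
 (.leaf (nat_lit 0x102098d) (nat_lit 1536))
))) (.node (nat_lit 0x10209c3) (.node (nat_lit 0x10209c1) (.leaf (nat_lit 0x102098f) (nat_lit 1537))
 (.leaf (nat_lit 0x10209c1) (nat_lit 1026))
) (.node (nat_lit 0x10209c5) (.leaf (nat_lit 0x10209c3) (nat_lit 1282))
 (.node (nat_lit 0x10209c7) (.leaf (nat_lit 0x10209c5) (nat_lit 2050))
 (.leaf (nat_lit 0x10209c7) (nat_lit 1794))
)))) (.node (nat_lit 0x1021903) (.node (nat_lit 0x10209cd) (.node (nat_lit 0x10209cb) (.leaf (nat_lit 0x10209c9) (nat_lit 2050))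
 (.leaf (nat_lit 0x10209cb) (nat_lit 2306))
) (.node (nat_lit 0x10209cf) (.leaf (nat_lit 0x10209cd) (nat_lit 1538))
 (.node (nat_lit 0x1021901) (.leaf (nat_lit 0x10209cf) (nat_lit 1282))
 (.leaf (nat_lit 0x1021901) (nat_lit 1537))
))) (.node (nat_lit 0x1021909) (.node (nat_lit 0x1021905) (.leaf (nat_lit 0x1021903) (nat_lit 1793))
 (.node (nat_lit 0x1021907) (.leaf (nat_lit 0x1021905) (nat_lit 2306))
 (.leaf (nat_lit 0x1021907) (nat_lit 2050))
)) (.node (nat_lit 0x102190b) (.leaf (nat_lit 0x1021909) (nat_lit 1792))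
 (.node (nat_lit 0x102190d) (.leaf (nat_lit 0x102190b) (nat_lit 2048))
 (.leaf (nat_lit 0x102190d) (nat_lit 2049))
))))) (.node (nat_lit 0x1021983) (.node (nat_lit 0x1021949) (.node (nat_lit 0x1021943) (.node (nat_lit 0x1021941) (.leaf (nat_lit 0x102190f) (nat_lit 1793))
 (.leaf (nat_lit 0x1021941) (nat_lit 1282))
) (.node (nat_lit 0x1021945) (.leaf (nat_lit 0x1021943) (nat_lit 1538))
 (.node (nat_lit 0x1021947) (.leaf (nat_lit 0x1021945) (nat_lit 1794))
 (.leaf (nat_lit 0x1021947) (nat_lit 1538))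
))) (.node (nat_lit 0x102194d) (.node (nat_lit 0x102194b) (.leaf (nat_lit 0x1021949) (nat_lit 1794))
 (.leaf (nat_lit 0x102194b) (nat_lit 1538))
) (.node (nat_lit 0x102194f) (.leaf (nat_lit 0x102194d) (nat_lit 1794))
 (.node (nat_lit 0x1021981) (.leaf (nat_lit 0x102194f) (nat_lit 2050))
 (.leaf (nat_lit 0x1021981) (nat_lit 1537))
)))) (.node (nat_lit 0x102198d) (.node (nat_lit 0x1021987) (.node (nat_lit 0x1021985) (.leaf (nat_lit 0x1021983) (nat_lit 1793))
 (.leaf (nat_lit 0x1021985) (nat_lit 2049))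
) (.node (nat_lit 0x1021989) (.leaf (nat_lit 0x1021987) (nat_lit 1793))
 (.node (nat_lit 0x102198b) (.leaf (nat_lit 0x1021989) (nat_lit 2049))
 (.leaf (nat_lit 0x102198b) (nat_lit 1793))
))) (.node (nat_lit 0x10219c3) (.node (nat_lit 0x102198f) (.leaf (nat_lit 0x102198d) (nat_lit 1792))
 (.node (nat_lit 0x10219c1) (.leaf (nat_lit 0x102198f) (nat_lit 1795))
 (.leaf (nat_lit 0x10219c1) (nat_lit 1283))
)) (.node (nat_lit 0x10219c5) (.leaf (nat_lit 0x10219c3) (nat_lit 1539))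
 (.node (nat_lit 0x10219c7) (.leaf (nat_lit 0x10219c5) (nat_lit 2050))
 (.leaf (nat_lit 0x10219c7) (nat_lit 1794))
))))))) (.node (nat_lit 0x102284d) (.node (nat_lit 0x1022143) (.node (nat_lit 0x102204d) (.node (nat_lit 0x1022043) (.node (nat_lit 0x10219cd) (.node (nat_lit 0x10219cb) (.leaf (nat_lit 0x10219c9) (nat_lit 2050))
 (.leaf (nat_lit 0x10219cb) (nat_lit 2306))
) (.node (nat_lit 0x10219cf) (.leaf (nat_lit 0x10219cd) (nat_lit 1795))
 (.node (nat_lit 0x1022041) (.leaf (nat_lit 0x10219cf) (nat_lit 1539))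
 (.leaf (nat_lit 0x1022041) (nat_lit 771))
))) (.node (nat_lit 0x1022047) (.node (nat_lit 0x1022045) (.leaf (nat_lit 0x1022043) (nat_lit 1027))
 (.leaf (nat_lit 0x1022045) (nat_lit 1795))
) (.node (nat_lit 0x1022049) (.leaf (nat_lit 0x1022047) (nat_lit 1539))
 (.node (nat_lit 0x102204b) (.leaf (nat_lit 0x1022049) (nat_lit 1793))
 (.leaf (nat_lit 0x102204b) (nat_lit 1537))
)))) (.node (nat_lit 0x10220c7) (.node (nat_lit 0x10220c1) (.node (nat_lit 0x102204f) (.leaf (nat_lit 0x102204d) (nat_lit 1795))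
 (.leaf (nat_lit 0x102204f) (nat_lit 1539))
) (.node (nat_lit 0x10220c3) (.leaf (nat_lit 0x10220c1) (nat_lit 1027))
 (.node (nat_lit 0x10220c5) (.leaf (nat_lit 0x10220c3) (nat_lit 1283))
 (.leaf (nat_lit 0x10220c5) (nat_lit 1539))
))) (.node (nat_lit 0x10220cd) (.node (nat_lit 0x10220c9) (.leaf (nat_lit 0x10220c7) (nat_lit 1283))
 (.node (nat_lit 0x10220cb) (.leaf (nat_lit 0x10220c9) (nat_lit 1792))
 (.leaf (nat_lit 0x10220cb) (nat_lit 1795))
)) (.node (nat_lit 0x10220cf) (.leaf (nat_lit 0x10220cd) (nat_lit 1793))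
 (.node (nat_lit 0x1022141) (.leaf (nat_lit 0x10220cf) (nat_lit 1537))
 (.leaf (nat_lit 0x1022141) (nat_lit 1025))
))))) (.node (nat_lit 0x10221c7) (.node (nat_lit 0x102214d) (.node (nat_lit 0x1022147) (.node (nat_lit 0x1022145) (.leaf (nat_lit 0x1022143) (nat_lit 1281))
 (.leaf (nat_lit 0x1022145) (nat_lit 1795))
) (.node (nat_lit 0x1022149) (.leaf (nat_lit 0x1022147) (nat_lit 1539))
 (.node (nat_lit 0x102214b) (.leaf (nat_lit 0x1022149) (nat_lit 1536))
 (.leaf (nat_lit 0x102214b) (nat_lit 1280))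
))) (.node (nat_lit 0x10221c1) (.node (nat_lit 0x102214f) (.leaf (nat_lit 0x102214d) (nat_lit 1795))
 (.leaf (nat_lit 0x102214f) (nat_lit 1793))
) (.node (nat_lit 0x10221c3) (.leaf (nat_lit 0x10221c1) (nat_lit 1027))
 (.node (nat_lit 0x10221c5) (.leaf (nat_lit 0x10221c3) (nat_lit 1283))
 (.leaf (nat_lit 0x10221c5) (nat_lit 1793))
)))) (.node (nat_lit 0x1022841) (.node (nat_lit 0x10221cb) (.node (nat_lit 0x10221c9) (.leaf (nat_lit 0x10221c7) (nat_lit 1537))
 (.leaf (nat_lit 0x10221c9) (nat_lit 1792))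
) (.node (nat_lit 0x10221cd) (.leaf (nat_lit 0x10221cb) (nat_lit 2048))
 (.node (nat_lit 0x10221cf) (.leaf (nat_lit 0x10221cd) (nat_lit 1539))
 (.leaf (nat_lit 0x10221cf) (nat_lit 1283))
))) (.node (nat_lit 0x1022847) (.node (nat_lit 0x1022843) (.leaf (nat_lit 0x1022841) (nat_lit 1027))
 (.node (nat_lit 0x1022845) (.leaf (nat_lit 0x1022843) (nat_lit 1283))
 (.leaf (nat_lit 0x1022845) (nat_lit 2051))
)) (.node (nat_lit 0x1022849) (.leaf (nat_lit 0x1022847) (nat_lit 1795))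
 (.node (nat_lit 0x102284b) (.leaf (nat_lit 0x1022849) (nat_lit 1793))
 (.leaf (nat_lit 0x102284b) (nat_lit 1794))
)))))) (.node (nat_lit 0x1022987) (.node (nat_lit 0x1022901) (.node (nat_lit 0x10228c7) (.node (nat_lit 0x10228c1) (.node (nat_lit 0x102284f) (.leaf (nat_lit 0x102284d) (nat_lit 1795))
 (.leaf (nat_lit 0x102284f) (nat_lit 1795))
) (.node (nat_lit 0x10228c3) (.leaf (nat_lit 0x10228c1) (nat_lit 1026))
 (.node (nat_lit 0x10228c5) (.leaf (nat_lit 0x10228c3) (nat_lit 1282))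
 (.leaf (nat_lit 0x10228c5) (nat_lit 1538))
))) (.node (nat_lit 0x10228cb) (.node (nat_lit 0x10228c9) (.leaf (nat_lit 0x10228c7) (nat_lit 1282))
 (.leaf (nat_lit 0x10228c9) (nat_lit 2050))
) (.node (nat_lit 0x10228cd) (.leaf (nat_lit 0x10228cb) (nat_lit 1794))
 (.node (nat_lit 0x10228cf) (.leaf (nat_lit 0x10228cd) (nat_lit 1793))
 (.leaf (nat_lit 0x10228cf) (nat_lit 2049))
)))) (.node (nat_lit 0x102290b) (.node (nat_lit 0x1022905) (.node (nat_lit 0x1022903) (.leaf (nat_lit 0x1022901) (nat_lit 1281))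
 (.leaf (nat_lit 0x1022903) (nat_lit 1537))
) (.node (nat_lit 0x1022907) (.leaf (nat_lit 0x1022905) (nat_lit 2305))
 (.node (nat_lit 0x1022909) (.leaf (nat_lit 0x1022907) (nat_lit 2049))
 (.leaf (nat_lit 0x1022909) (nat_lit 1536))
))) (.node (nat_lit 0x1022981) (.node (nat_lit 0x102290d) (.leaf (nat_lit 0x102290b) (nat_lit 1792))
 (.node (nat_lit 0x102290f) (.leaf (nat_lit 0x102290d) (nat_lit 2049))
 (.leaf (nat_lit 0x102290f) (nat_lit 2049))
)) (.node (nat_lit 0x1022983) (.leaf (nat_lit 0x1022981) (nat_lit 1281))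
 (.node (nat_lit 0x1022985) (.leaf (nat_lit 0x1022983) (nat_lit 1537))
 (.leaf (nat_lit 0x1022985) (nat_lit 1793))
))))) (.node (nat_lit 0x102304b) (.node (nat_lit 0x1023041) (.node (nat_lit 0x102298b) (.node (nat_lit 0x1022989) (.leaf (nat_lit 0x1022987) (nat_lit 1537))
 (.leaf (nat_lit 0x1022989) (nat_lit 2048))
) (.node (nat_lit 0x102298d) (.leaf (nat_lit 0x102298b) (nat_lit 1792))
 (.node (nat_lit 0x102298f) (.leaf (nat_lit 0x102298d) (nat_lit 1536))
 (.leaf (nat_lit 0x102298f) (nat_lit 1792))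
))) (.node (nat_lit 0x1023045) (.node (nat_lit 0x1023043) (.leaf (nat_lit 0x1023041) (nat_lit 516))
 (.leaf (nat_lit 0x1023043) (nat_lit 772))
) (.node (nat_lit 0x1023047) (.leaf (nat_lit 0x1023045) (nat_lit 1540))
 (.node (nat_lit 0x1023049) (.leaf (nat_lit 0x1023047) (nat_lit 1284))
 (.leaf (nat_lit 0x1023049) (nat_lit 2051))
)))) (.node (nat_lit 0x10230c5) (.node (nat_lit 0x102304f) (.node (nat_lit 0x102304d) (.leaf (nat_lit 0x102304b) (nat_lit 1795))
 (.leaf (nat_lit 0x102304d) (nat_lit 1540))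
) (.node (nat_lit 0x10230c1) (.leaf (nat_lit 0x102304f) (nat_lit 1284))
 (.node (nat_lit 0x10230c3) (.leaf (nat_lit 0x10230c1) (nat_lit 772))
 (.leaf (nat_lit 0x10230c3) (nat_lit 1028))
))) (.node (nat_lit 0x10230cb) (.node (nat_lit 0x10230c7) (.leaf (nat_lit 0x10230c5) (nat_lit 1284))
 (.node (nat_lit 0x10230c9) (.leaf (nat_lit 0x10230c7) (nat_lit 1028))
 (.leaf (nat_lit 0x10230c9) (nat_lit 1796))
)) (.node (nat_lit 0x10230cd) (.leaf (nat_lit 0x10230cb) (nat_lit 1540))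
 (.node (nat_lit 0x10230cf) (.leaf (nat_lit 0x10230cd) (nat_lit 1796))
 (.leaf (nat_lit 0x10230cf) (nat_lit 1795))
))))))))) (.node (nat_lit 0x10329c1) (.node (nat_lit 0x1031109) (.node (nat_lit 0x1023985) (.node (nat_lit 0x102384b) (.node (nat_lit 0x10231c5) (.node (nat_lit 0x102314b) (.node (nat_lit 0x1023145) (.node (nat_lit 0x1023143) (.leaf (nat_lit 0x1023141) (nat_lit 1028))
 (.leaf (nat_lit 0x1023143) (nat_lit 1284))
) (.node (nat_lit 0x1023147) (.leaf (nat_lit 0x1023145) (nat_lit 1540))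
 (.node (nat_lit 0x1023149) (.leaf (nat_lit 0x1023147) (nat_lit 1284))
 (.leaf (nat_lit 0x1023149) (nat_lit 1540))
))) (.node (nat_lit 0x102314f) (.node (nat_lit 0x102314d) (.leaf (nat_lit 0x102314b) (nat_lit 1284))
 (.leaf (nat_lit 0x102314d) (nat_lit 1540))
) (.node (nat_lit 0x10231c1) (.leaf (nat_lit 0x102314f) (nat_lit 1796))
 (.node (nat_lit 0x10231c3) (.leaf (nat_lit 0x10231c1) (nat_lit 772))
 (.leaf (nat_lit 0x10231c3) (nat_lit 1028))
)))) (.node (nat_lit 0x10231cf) (.node (nat_lit 0x10231c9) (.node (nat_lit 0x10231c7) (.leaf (nat_lit 0x10231c5) (nat_lit 1796))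
 (.leaf (nat_lit 0x10231c7) (nat_lit 1540))
) (.node (nat_lit 0x10231cb) (.leaf (nat_lit 0x10231c9) (nat_lit 1796))
 (.node (nat_lit 0x10231cd) (.leaf (nat_lit 0x10231cb) (nat_lit 2052))
 (.leaf (nat_lit 0x10231cd) (nat_lit 1284))
))) (.node (nat_lit 0x1023845) (.node (nat_lit 0x1023841) (.leaf (nat_lit 0x10231cf) (nat_lit 1028))
 (.node (nat_lit 0x1023843) (.leaf (nat_lit 0x1023841) (nat_lit 770))
 (.leaf (nat_lit 0x1023843) (nat_lit 1026))
)) (.node (nat_lit 0x1023847) (.leaf (nat_lit 0x1023845) (nat_lit 1794))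
 (.node (nat_lit 0x1023849) (.leaf (nat_lit 0x1023847) (nat_lit 1538))
 (.leaf (nat_lit 0x1023849) (nat_lit 2051))
))))) (.node (nat_lit 0x10238cf) (.node (nat_lit 0x10238c5) (.node (nat_lit 0x102384f) (.node (nat_lit 0x102384d) (.leaf (nat_lit 0x102384b) (nat_lit 2051))
 (.leaf (nat_lit 0x102384d) (nat_lit 1537))
) (.node (nat_lit 0x10238c1) (.leaf (nat_lit 0x102384f) (nat_lit 1538))
 (.node (nat_lit 0x10238c3) (.leaf (nat_lit 0x10238c1) (nat_lit 1283))
 (.leaf (nat_lit 0x10238c3) (nat_lit 1539))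
))) (.node (nat_lit 0x10238c9) (.node (nat_lit 0x10238c7) (.leaf (nat_lit 0x10238c5) (nat_lit 1795))
 (.leaf (nat_lit 0x10238c7) (nat_lit 1539))
) (.node (nat_lit 0x10238cb) (.leaf (nat_lit 0x10238c9) (nat_lit 2049))
 (.node (nat_lit 0x10238cd) (.leaf (nat_lit 0x10238cb) (nat_lit 2051))
 (.leaf (nat_lit 0x10238cd) (nat_lit 2050))
)))) (.node (nat_lit 0x1023909) (.node (nat_lit 0x1023903) (.node (nat_lit 0x1023901) (.leaf (nat_lit 0x10238cf) (nat_lit 1794))
 (.leaf (nat_lit 0x1023901) (nat_lit 1537))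
) (.node (nat_lit 0x1023905) (.leaf (nat_lit 0x1023903) (nat_lit 1793))
 (.node (nat_lit 0x1023907) (.leaf (nat_lit 0x1023905) (nat_lit 2049))
 (.leaf (nat_lit 0x1023907) (nat_lit 1793))
))) (.node (nat_lit 0x102390f) (.node (nat_lit 0x102390b) (.leaf (nat_lit 0x1023909) (nat_lit 1792))
 (.node (nat_lit 0x102390d) (.leaf (nat_lit 0x102390b) (nat_lit 2048))
 (.leaf (nat_lit 0x102390d) (nat_lit 2304))
)) (.node (nat_lit 0x1023981) (.leaf (nat_lit 0x102390f) (nat_lit 2048))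
 (.node (nat_lit 0x1023983) (.leaf (nat_lit 0x1023981) (nat_lit 1025))
 (.leaf (nat_lit 0x1023983) (nat_lit 1281))
)))))) (.node (nat_lit 0x103094f) (.node (nat_lit 0x1030909) (.node (nat_lit 0x102398f) (.node (nat_lit 0x1023989) (.node (nat_lit 0x1023987) (.leaf (nat_lit 0x1023985) (nat_lit 2049))
 (.leaf (nat_lit 0x1023987) (nat_lit 1793))
) (.node (nat_lit 0x102398b) (.leaf (nat_lit 0x1023989) (nat_lit 2304))
 (.node (nat_lit 0x102398d) (.leaf (nat_lit 0x102398b) (nat_lit 2048))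
 (.leaf (nat_lit 0x102398d) (nat_lit 1280))
))) (.node (nat_lit 0x1030903) (.node (nat_lit 0x1030901) (.leaf (nat_lit 0x102398f) (nat_lit 1536))
 (.leaf (nat_lit 0x1030901) (nat_lit 1538))
) (.node (nat_lit 0x1030905) (.leaf (nat_lit 0x1030903) (nat_lit 1794))
 (.node (nat_lit 0x1030907) (.leaf (nat_lit 0x1030905) (nat_lit 2305))
 (.leaf (nat_lit 0x1030907) (nat_lit 2306))
)))) (.node (nat_lit 0x1030943) (.node (nat_lit 0x103090d) (.node (nat_lit 0x103090b) (.leaf (nat_lit 0x1030909) (nat_lit 1794))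
 (.leaf (nat_lit 0x103090b) (nat_lit 2050))
) (.node (nat_lit 0x103090f) (.leaf (nat_lit 0x103090d) (nat_lit 2307))
 (.node (nat_lit 0x1030941) (.leaf (nat_lit 0x103090f) (nat_lit 2308))
 (.leaf (nat_lit 0x1030941) (nat_lit 1538))
))) (.node (nat_lit 0x1030949) (.node (nat_lit 0x1030945) (.leaf (nat_lit 0x1030943) (nat_lit 1794))
 (.node (nat_lit 0x1030947) (.leaf (nat_lit 0x1030945) (nat_lit 2051))
 (.leaf (nat_lit 0x1030947) (nat_lit 2052))
)) (.node (nat_lit 0x103094b) (.leaf (nat_lit 0x1030949) (nat_lit 2050))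
 (.node (nat_lit 0x103094d) (.leaf (nat_lit 0x103094b) (nat_lit 1794))
 (.leaf (nat_lit 0x103094d) (nat_lit 2308))
))))) (.node (nat_lit 0x10309c3) (.node (nat_lit 0x1030989) (.node (nat_lit 0x1030983) (.node (nat_lit 0x1030981) (.leaf (nat_lit 0x103094f) (nat_lit 2307))
 (.leaf (nat_lit 0x1030981) (nat_lit 1282))
) (.node (nat_lit 0x1030985) (.leaf (nat_lit 0x1030983) (nat_lit 1538))
 (.node (nat_lit 0x1030987) (.leaf (nat_lit 0x1030985) (nat_lit 2050))
 (.leaf (nat_lit 0x1030987) (nat_lit 2050))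
))) (.node (nat_lit 0x103098d) (.node (nat_lit 0x103098b) (.leaf (nat_lit 0x1030989) (nat_lit 2306))
 (.leaf (nat_lit 0x103098b) (nat_lit 2306))
) (.node (nat_lit 0x103098f) (.leaf (nat_lit 0x103098d) (nat_lit 1538))
 (.node (nat_lit 0x10309c1) (.leaf (nat_lit 0x103098f) (nat_lit 1794))
 (.leaf (nat_lit 0x10309c1) (nat_lit 1284))
)))) (.node (nat_lit 0x10309cd) (.node (nat_lit 0x10309c7) (.node (nat_lit 0x10309c5) (.leaf (nat_lit 0x10309c3) (nat_lit 1540))
 (.leaf (nat_lit 0x10309c5) (nat_lit 2308))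
) (.node (nat_lit 0x10309c9) (.leaf (nat_lit 0x10309c7) (nat_lit 2052))
 (.node (nat_lit 0x10309cb) (.leaf (nat_lit 0x10309c9) (nat_lit 2308))
 (.leaf (nat_lit 0x10309cb) (nat_lit 2307))
))) (.node (nat_lit 0x1031103) (.node (nat_lit 0x10309cf) (.leaf (nat_lit 0x10309cd) (nat_lit 1796))
 (.node (nat_lit 0x1031101) (.leaf (nat_lit 0x10309cf) (nat_lit 1540))
 (.leaf (nat_lit 0x1031101) (nat_lit 1793))
)) (.node (nat_lit 0x1031105) (.leaf (nat_lit 0x1031103) (nat_lit 2049))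
 (.node (nat_lit 0x1031107) (.leaf (nat_lit 0x1031105) (nat_lit 2306))
 (.leaf (nat_lit 0x1031107) (nat_lit 2562))
))))))) (.node (nat_lit 0x103208d) (.node (nat_lit 0x10311c3) (.node (nat_lit 0x103114d) (.node (nat_lit 0x1031143) (.node (nat_lit 0x103110d) (.node (nat_lit 0x103110b) (.leaf (nat_lit 0x1031109) (nat_lit 2048))
 (.leaf (nat_lit 0x103110b) (nat_lit 2304))
) (.node (nat_lit 0x103110f) (.leaf (nat_lit 0x103110d) (nat_lit 2049))
 (.node (nat_lit 0x1031141) (.leaf (nat_lit 0x103110f) (nat_lit 2305))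
 (.leaf (nat_lit 0x1031141) (nat_lit 1538))
))) (.node (nat_lit 0x1031147) (.node (nat_lit 0x1031145) (.leaf (nat_lit 0x1031143) (nat_lit 1794))
 (.leaf (nat_lit 0x1031145) (nat_lit 1794))
) (.node (nat_lit 0x1031149) (.leaf (nat_lit 0x1031147) (nat_lit 2050))
 (.node (nat_lit 0x103114b) (.leaf (nat_lit 0x1031149) (nat_lit 2050))
 (.leaf (nat_lit 0x103114b) (nat_lit 1794))
)))) (.node (nat_lit 0x1031187) (.node (nat_lit 0x1031181) (.node (nat_lit 0x103114f) (.leaf (nat_lit 0x103114d) (nat_lit 2306))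
 (.leaf (nat_lit 0x103114f) (nat_lit 2050))
) (.node (nat_lit 0x1031183) (.leaf (nat_lit 0x1031181) (nat_lit 1539))
 (.node (nat_lit 0x1031185) (.leaf (nat_lit 0x1031183) (nat_lit 1795))
 (.leaf (nat_lit 0x1031185) (nat_lit 2050))
))) (.node (nat_lit 0x103118d) (.node (nat_lit 0x1031189) (.leaf (nat_lit 0x1031187) (nat_lit 2306))
 (.node (nat_lit 0x103118b) (.leaf (nat_lit 0x1031189) (nat_lit 2306))
 (.leaf (nat_lit 0x103118b) (nat_lit 2562))
)) (.node (nat_lit 0x103118f) (.leaf (nat_lit 0x103118d) (nat_lit 1795))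
 (.node (nat_lit 0x10311c1) (.leaf (nat_lit 0x103118f) (nat_lit 2051))
 (.leaf (nat_lit 0x10311c1) (nat_lit 1539))
))))) (.node (nat_lit 0x1032047) (.node (nat_lit 0x10311cd) (.node (nat_lit 0x10311c7) (.node (nat_lit 0x10311c5) (.leaf (nat_lit 0x10311c3) (nat_lit 1795))
 (.leaf (nat_lit 0x10311c5) (nat_lit 2049))
) (.node (nat_lit 0x10311c9) (.leaf (nat_lit 0x10311c7) (nat_lit 2305))
 (.node (nat_lit 0x10311cb) (.leaf (nat_lit 0x10311c9) (nat_lit 2305))
 (.leaf (nat_lit 0x10311cb) (nat_lit 2049))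
))) (.node (nat_lit 0x1032041) (.node (nat_lit 0x10311cf) (.leaf (nat_lit 0x10311cd) (nat_lit 2051))
 (.leaf (nat_lit 0x10311cf) (nat_lit 1795))
) (.node (nat_lit 0x1032043) (.leaf (nat_lit 0x1032041) (nat_lit 1027))
 (.node (nat_lit 0x1032045) (.leaf (nat_lit 0x1032043) (nat_lit 1283))
 (.leaf (nat_lit 0x1032045) (nat_lit 1795))
)))) (.node (nat_lit 0x1032081) (.node (nat_lit 0x103204b) (.node (nat_lit 0x1032049) (.leaf (nat_lit 0x1032047) (nat_lit 1795))
 (.leaf (nat_lit 0x1032049) (nat_lit 2049))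
) (.node (nat_lit 0x103204d) (.leaf (nat_lit 0x103204b) (nat_lit 1793))
 (.node (nat_lit 0x103204f) (.leaf (nat_lit 0x103204d) (nat_lit 1795))
 (.leaf (nat_lit 0x103204f) (nat_lit 1795))
))) (.node (nat_lit 0x1032087) (.node (nat_lit 0x1032083) (.leaf (nat_lit 0x1032081) (nat_lit 1283))
 (.node (nat_lit 0x1032085) (.leaf (nat_lit 0x1032083) (nat_lit 1539))
 (.leaf (nat_lit 0x1032085) (nat_lit 1539))
)) (.node (nat_lit 0x1032089) (.leaf (nat_lit 0x1032087) (nat_lit 1795))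
 (.node (nat_lit 0x103208b) (.leaf (nat_lit 0x1032089) (nat_lit 2048))
 (.leaf (nat_lit 0x103208b) (nat_lit 2051))
)))))) (.node (nat_lit 0x1032847) (.node (nat_lit 0x1032181) (.node (nat_lit 0x1032147) (.node (nat_lit 0x1032141) (.node (nat_lit 0x103208f) (.leaf (nat_lit 0x103208d) (nat_lit 1793))
 (.leaf (nat_lit 0x103208f) (nat_lit 2049))
) (.node (nat_lit 0x1032143) (.leaf (nat_lit 0x1032141) (nat_lit 1281))
 (.node (nat_lit 0x1032145) (.leaf (nat_lit 0x1032143) (nat_lit 1537))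
 (.leaf (nat_lit 0x1032145) (nat_lit 1795))
))) (.node (nat_lit 0x103214b) (.node (nat_lit 0x1032149) (.leaf (nat_lit 0x1032147) (nat_lit 2051))
 (.leaf (nat_lit 0x1032149) (nat_lit 1792))
) (.node (nat_lit 0x103214d) (.leaf (nat_lit 0x103214b) (nat_lit 1536))
 (.node (nat_lit 0x103214f) (.leaf (nat_lit 0x103214d) (nat_lit 2049))
 (.leaf (nat_lit 0x103214f) (nat_lit 2051))
)))) (.node (nat_lit 0x103218b) (.node (nat_lit 0x1032185) (.node (nat_lit 0x1032183) (.leaf (nat_lit 0x1032181) (nat_lit 1283))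
 (.leaf (nat_lit 0x1032183) (nat_lit 1539))
) (.node (nat_lit 0x1032187) (.leaf (nat_lit 0x1032185) (nat_lit 1793))
 (.node (nat_lit 0x1032189) (.leaf (nat_lit 0x1032187) (nat_lit 2049))
 (.leaf (nat_lit 0x1032189) (nat_lit 2048))
))) (.node (nat_lit 0x1032841) (.node (nat_lit 0x103218d) (.leaf (nat_lit 0x103218b) (nat_lit 2304))
 (.node (nat_lit 0x103218f) (.leaf (nat_lit 0x103218d) (nat_lit 1539))
 (.leaf (nat_lit 0x103218f) (nat_lit 1795))
)) (.node (nat_lit 0x1032843) (.leaf (nat_lit 0x1032841) (nat_lit 1028))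
 (.node (nat_lit 0x1032845) (.leaf (nat_lit 0x1032843) (nat_lit 1284))
 (.leaf (nat_lit 0x1032845) (nat_lit 1796))
))))) (.node (nat_lit 0x103288b) (.node (nat_lit 0x1032881) (.node (nat_lit 0x103284b) (.node (nat_lit 0x1032849) (.leaf (nat_lit 0x1032847) (nat_lit 1796))
 (.leaf (nat_lit 0x1032849) (nat_lit 1796))
) (.node (nat_lit 0x103284d) (.leaf (nat_lit 0x103284b) (nat_lit 1796))
 (.node (nat_lit 0x103284f) (.leaf (nat_lit 0x103284d) (nat_lit 2051))
 (.leaf (nat_lit 0x103284f) (nat_lit 2051))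
))) (.node (nat_lit 0x1032885) (.node (nat_lit 0x1032883) (.leaf (nat_lit 0x1032881) (nat_lit 1282))
 (.leaf (nat_lit 0x1032883) (nat_lit 1538))
) (.node (nat_lit 0x1032887) (.leaf (nat_lit 0x1032885) (nat_lit 1538))
 (.node (nat_lit 0x1032889) (.leaf (nat_lit 0x1032887) (nat_lit 1794))
 (.leaf (nat_lit 0x1032889) (nat_lit 2306))
)))) (.node (nat_lit 0x1032905) (.node (nat_lit 0x103288f) (.node (nat_lit 0x103288d) (.leaf (nat_lit 0x103288b) (nat_lit 2050))
 (.leaf (nat_lit 0x103288d) (nat_lit 2305))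
) (.node (nat_lit 0x1032901) (.leaf (nat_lit 0x103288f) (nat_lit 2049))
 (.node (nat_lit 0x1032903) (.leaf (nat_lit 0x1032901) (nat_lit 1284))
 (.leaf (nat_lit 0x1032903) (nat_lit 1540))
))) (.node (nat_lit 0x103290b) (.node (nat_lit 0x1032907) (.leaf (nat_lit 0x1032905) (nat_lit 2052))
 (.node (nat_lit 0x1032909) (.leaf (nat_lit 0x1032907) (nat_lit 2052))
 (.leaf (nat_lit 0x1032909) (nat_lit 1540))
)) (.node (nat_lit 0x103290d) (.leaf (nat_lit 0x103290b) (nat_lit 1796))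
 (.node (nat_lit 0x103290f) (.leaf (nat_lit 0x103290d) (nat_lit 2305))
 (.leaf (nat_lit 0x103290f) (nat_lit 2308))
)))))))) (.node (nat_lit 0x10408c9) (.node (nat_lit 0x1033845) (.node (nat_lit 0x103308b) (.node (nat_lit 0x1033045) (.node (nat_lit 0x10329cb) (.node (nat_lit 0x10329c5) (.node (nat_lit 0x10329c3) (.leaf (nat_lit 0x10329c1) (nat_lit 1537))
 (.leaf (nat_lit 0x10329c3) (nat_lit 1793))
) (.node (nat_lit 0x10329c7) (.leaf (nat_lit 0x10329c5) (nat_lit 1793))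
 (.node (nat_lit 0x10329c9) (.leaf (nat_lit 0x10329c7) (nat_lit 2049))
 (.leaf (nat_lit 0x10329c9) (nat_lit 2304))
))) (.node (nat_lit 0x10329cf) (.node (nat_lit 0x10329cd) (.leaf (nat_lit 0x10329cb) (nat_lit 2048))
 (.leaf (nat_lit 0x10329cd) (nat_lit 2048))
) (.node (nat_lit 0x1033041) (.leaf (nat_lit 0x10329cf) (nat_lit 1792))
 (.node (nat_lit 0x1033043) (.leaf (nat_lit 0x1033041) (nat_lit 1026))
 (.leaf (nat_lit 0x1033043) (nat_lit 1282))
)))) (.node (nat_lit 0x103304f) (.node (nat_lit 0x1033049) (.node (nat_lit 0x1033047) (.leaf (nat_lit 0x1033045) (nat_lit 1794))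
 (.leaf (nat_lit 0x1033047) (nat_lit 1794))
) (.node (nat_lit 0x103304b) (.leaf (nat_lit 0x1033049) (nat_lit 2051))
 (.node (nat_lit 0x103304d) (.leaf (nat_lit 0x103304b) (nat_lit 2051))
 (.leaf (nat_lit 0x103304d) (nat_lit 1794))
))) (.node (nat_lit 0x1033085) (.node (nat_lit 0x1033081) (.leaf (nat_lit 0x103304f) (nat_lit 1793))
 (.node (nat_lit 0x1033083) (.leaf (nat_lit 0x1033081) (nat_lit 1539))
 (.leaf (nat_lit 0x1033083) (nat_lit 1795))
)) (.node (nat_lit 0x1033087) (.leaf (nat_lit 0x1033085) (nat_lit 1795))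
 (.node (nat_lit 0x1033089) (.leaf (nat_lit 0x1033087) (nat_lit 2051))
 (.leaf (nat_lit 0x1033089) (nat_lit 2049))
))))) (.node (nat_lit 0x103310f) (.node (nat_lit 0x1033105) (.node (nat_lit 0x103308f) (.node (nat_lit 0x103308d) (.leaf (nat_lit 0x103308b) (nat_lit 2305))
 (.leaf (nat_lit 0x103308d) (nat_lit 2050))
) (.node (nat_lit 0x1033101) (.leaf (nat_lit 0x103308f) (nat_lit 2306))
 (.node (nat_lit 0x1033103) (.leaf (nat_lit 0x1033101) (nat_lit 1539))
 (.leaf (nat_lit 0x1033103) (nat_lit 1795))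
))) (.node (nat_lit 0x1033109) (.node (nat_lit 0x1033107) (.leaf (nat_lit 0x1033105) (nat_lit 2049))
 (.leaf (nat_lit 0x1033107) (nat_lit 2305))
) (.node (nat_lit 0x103310b) (.leaf (nat_lit 0x1033109) (nat_lit 1795))
 (.node (nat_lit 0x103310d) (.leaf (nat_lit 0x103310b) (nat_lit 2051))
 (.leaf (nat_lit 0x103310d) (nat_lit 2304))
)))) (.node (nat_lit 0x10331c9) (.node (nat_lit 0x10331c3) (.node (nat_lit 0x10331c1) (.leaf (nat_lit 0x103310f) (nat_lit 2560))
 (.leaf (nat_lit 0x10331c1) (nat_lit 1281))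
) (.node (nat_lit 0x10331c5) (.leaf (nat_lit 0x10331c3) (nat_lit 1537))
 (.node (nat_lit 0x10331c7) (.leaf (nat_lit 0x10331c5) (nat_lit 2049))
 (.leaf (nat_lit 0x10331c7) (nat_lit 2049))
))) (.node (nat_lit 0x10331cf) (.node (nat_lit 0x10331cb) (.leaf (nat_lit 0x10331c9) (nat_lit 2304))
 (.node (nat_lit 0x10331cd) (.leaf (nat_lit 0x10331cb) (nat_lit 2304))
 (.leaf (nat_lit 0x10331cd) (nat_lit 1792))
)) (.node (nat_lit 0x1033841) (.leaf (nat_lit 0x10331cf) (nat_lit 1536))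
 (.node (nat_lit 0x1033843) (.leaf (nat_lit 0x1033841) (nat_lit 772))
 (.leaf (nat_lit 0x1033843) (nat_lit 1028))
)))))) (.node (nat_lit 0x103394f) (.node (nat_lit 0x1033889) (.node (nat_lit 0x103384f) (.node (nat_lit 0x1033849) (.node (nat_lit 0x1033847) (.leaf (nat_lit 0x1033845) (nat_lit 1540))
 (.leaf (nat_lit 0x1033847) (nat_lit 1540))
) (.node (nat_lit 0x103384b) (.leaf (nat_lit 0x1033849) (nat_lit 2307))
 (.node (nat_lit 0x103384d) (.leaf (nat_lit 0x103384b) (nat_lit 2051))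
 (.leaf (nat_lit 0x103384d) (nat_lit 1540))
))) (.node (nat_lit 0x1033883) (.node (nat_lit 0x1033881) (.leaf (nat_lit 0x103384f) (nat_lit 1540))
 (.leaf (nat_lit 0x1033881) (nat_lit 1028))
) (.node (nat_lit 0x1033885) (.leaf (nat_lit 0x1033883) (nat_lit 1284))
 (.node (nat_lit 0x1033887) (.leaf (nat_lit 0x1033885) (nat_lit 1284))
 (.leaf (nat_lit 0x1033887) (nat_lit 1540))
)))) (.node (nat_lit 0x1033943) (.node (nat_lit 0x103388d) (.node (nat_lit 0x103388b) (.leaf (nat_lit 0x1033889) (nat_lit 2052))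
 (.leaf (nat_lit 0x103388b) (nat_lit 1796))
) (.node (nat_lit 0x103388f) (.leaf (nat_lit 0x103388d) (nat_lit 2051))
 (.node (nat_lit 0x1033941) (.leaf (nat_lit 0x103388f) (nat_lit 2052))
 (.leaf (nat_lit 0x1033941) (nat_lit 1284))
))) (.node (nat_lit 0x1033949) (.node (nat_lit 0x1033945) (.leaf (nat_lit 0x1033943) (nat_lit 1540))
 (.node (nat_lit 0x1033947) (.leaf (nat_lit 0x1033945) (nat_lit 1540))
 (.leaf (nat_lit 0x1033947) (nat_lit 1796))
)) (.node (nat_lit 0x103394b) (.leaf (nat_lit 0x1033949) (nat_lit 1796))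
 (.node (nat_lit 0x103394d) (.leaf (nat_lit 0x103394b) (nat_lit 1540))
 (.leaf (nat_lit 0x103394d) (nat_lit 2052))
))))) (.node (nat_lit 0x1040883) (.node (nat_lit 0x1033989) (.node (nat_lit 0x1033983) (.node (nat_lit 0x1033981) (.leaf (nat_lit 0x103394f) (nat_lit 1796))
 (.leaf (nat_lit 0x1033981) (nat_lit 1028))
) (.node (nat_lit 0x1033985) (.leaf (nat_lit 0x1033983) (nat_lit 1284))
 (.node (nat_lit 0x1033987) (.leaf (nat_lit 0x1033985) (nat_lit 1796))
 (.leaf (nat_lit 0x1033987) (nat_lit 1796))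
))) (.node (nat_lit 0x103398d) (.node (nat_lit 0x103398b) (.leaf (nat_lit 0x1033989) (nat_lit 2052))
 (.leaf (nat_lit 0x103398b) (nat_lit 2052))
) (.node (nat_lit 0x103398f) (.leaf (nat_lit 0x103398d) (nat_lit 1284))
 (.node (nat_lit 0x1040881) (.leaf (nat_lit 0x103398f) (nat_lit 1540))
 (.leaf (nat_lit 0x1040881) (nat_lit 769))
)))) (.node (nat_lit 0x104088d) (.node (nat_lit 0x1040887) (.node (nat_lit 0x1040885) (.leaf (nat_lit 0x1040883) (nat_lit 1025))
 (.leaf (nat_lit 0x1040885) (nat_lit 1024))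
) (.node (nat_lit 0x1040889) (.leaf (nat_lit 0x1040887) (nat_lit 1025))
 (.node (nat_lit 0x104088b) (.leaf (nat_lit 0x1040889) (nat_lit 2305))
 (.leaf (nat_lit 0x104088b) (nat_lit 2049))
))) (.node (nat_lit 0x10408c3) (.node (nat_lit 0x104088f) (.leaf (nat_lit 0x104088d) (nat_lit 2051))
 (.node (nat_lit 0x10408c1) (.leaf (nat_lit 0x104088f) (nat_lit 1795))
 (.leaf (nat_lit 0x10408c1) (nat_lit 514))
)) (.node (nat_lit 0x10408c5) (.leaf (nat_lit 0x10408c3) (nat_lit 770))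
 (.node (nat_lit 0x10408c7) (.leaf (nat_lit 0x10408c5) (nat_lit 1026))
 (.leaf (nat_lit 0x10408c7) (nat_lit 770))
))))))) (.node (nat_lit 0x104114d) (.node (nat_lit 0x1041043) (.node (nat_lit 0x104098d) (.node (nat_lit 0x1040983) (.node (nat_lit 0x10408cd) (.node (nat_lit 0x10408cb) (.leaf (nat_lit 0x10408c9) (nat_lit 2051))
 (.leaf (nat_lit 0x10408cb) (nat_lit 1795))
) (.node (nat_lit 0x10408cf) (.leaf (nat_lit 0x10408cd) (nat_lit 1795))
 (.node (nat_lit 0x1040981) (.leaf (nat_lit 0x10408cf) (nat_lit 1794))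
 (.leaf (nat_lit 0x1040981) (nat_lit 1026))
))) (.node (nat_lit 0x1040987) (.node (nat_lit 0x1040985) (.leaf (nat_lit 0x1040983) (nat_lit 1282))
 (.leaf (nat_lit 0x1040985) (nat_lit 1795))
) (.node (nat_lit 0x1040989) (.leaf (nat_lit 0x1040987) (nat_lit 1539))
 (.node (nat_lit 0x104098b) (.leaf (nat_lit 0x1040989) (nat_lit 2051))
 (.leaf (nat_lit 0x104098b) (nat_lit 1795))
)))) (.node (nat_lit 0x10409c7) (.node (nat_lit 0x10409c1) (.node (nat_lit 0x104098f) (.leaf (nat_lit 0x104098d) (nat_lit 1282))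
 (.leaf (nat_lit 0x104098f) (nat_lit 1281))
) (.node (nat_lit 0x10409c3) (.leaf (nat_lit 0x10409c1) (nat_lit 770))
 (.node (nat_lit 0x10409c5) (.leaf (nat_lit 0x10409c3) (nat_lit 1026))
 (.leaf (nat_lit 0x10409c5) (nat_lit 1794))
))) (.node (nat_lit 0x10409cd) (.node (nat_lit 0x10409c9) (.leaf (nat_lit 0x10409c7) (nat_lit 1538))
 (.node (nat_lit 0x10409cb) (.leaf (nat_lit 0x10409c9) (nat_lit 1794))
 (.leaf (nat_lit 0x10409cb) (nat_lit 2050))
)) (.node (nat_lit 0x10409cf) (.leaf (nat_lit 0x10409cd) (nat_lit 1282))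
 (.node (nat_lit 0x1041041) (.leaf (nat_lit 0x10409cf) (nat_lit 1026))
 (.leaf (nat_lit 0x1041041) (nat_lit 0))
))))) (.node (nat_lit 0x10410c7) (.node (nat_lit 0x104104d) (.node (nat_lit 0x1041047) (.node (nat_lit 0x1041045) (.leaf (nat_lit 0x1041043) (nat_lit 256))
 (.leaf (nat_lit 0x1041045) (nat_lit 1025))
) (.node (nat_lit 0x1041049) (.leaf (nat_lit 0x1041047) (nat_lit 769))
 (.node (nat_lit 0x104104b) (.leaf (nat_lit 0x1041049) (nat_lit 2049))
 (.leaf (nat_lit 0x104104b) (nat_lit 1793))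
))) (.node (nat_lit 0x10410c1) (.node (nat_lit 0x104104f) (.leaf (nat_lit 0x104104d) (nat_lit 1539))
 (.leaf (nat_lit 0x104104f) (nat_lit 1283))
) (.node (nat_lit 0x10410c3) (.leaf (nat_lit 0x10410c1) (nat_lit 257))
 (.node (nat_lit 0x10410c5) (.leaf (nat_lit 0x10410c3) (nat_lit 513))
 (.leaf (nat_lit 0x10410c5) (nat_lit 768))
)))) (.node (nat_lit 0x1041141) (.node (nat_lit 0x10410cb) (.node (nat_lit 0x10410c9) (.leaf (nat_lit 0x10410c7) (nat_lit 512))
 (.leaf (nat_lit 0x10410c9) (nat_lit 1795))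
) (.node (nat_lit 0x10410cd) (.leaf (nat_lit 0x10410cb) (nat_lit 1539))
 (.node (nat_lit 0x10410cf) (.leaf (nat_lit 0x10410cd) (nat_lit 1793))
 (.leaf (nat_lit 0x10410cf) (nat_lit 1537))
))) (.node (nat_lit 0x1041147) (.node (nat_lit 0x1041143) (.leaf (nat_lit 0x1041141) (nat_lit 1027))
 (.node (nat_lit 0x1041145) (.leaf (nat_lit 0x1041143) (nat_lit 1283))
 (.leaf (nat_lit 0x1041145) (nat_lit 1539))
)) (.node (nat_lit 0x1041149) (.leaf (nat_lit 0x1041147) (nat_lit 1283))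
 (.node (nat_lit 0x104114b) (.leaf (nat_lit 0x1041149) (nat_lit 1539))
 (.leaf (nat_lit 0x104114b) (nat_lit 1283))
)))))) (.node (nat_lit 0x1041887) (.node (nat_lit 0x1041841) (.node (nat_lit 0x10411c7) (.node (nat_lit 0x10411c1) (.node (nat_lit 0x104114f) (.leaf (nat_lit 0x104114d) (nat_lit 1537))
 (.leaf (nat_lit 0x104114f) (nat_lit 1281))
) (.node (nat_lit 0x10411c3) (.leaf (nat_lit 0x10411c1) (nat_lit 771))
 (.node (nat_lit 0x10411c5) (.leaf (nat_lit 0x10411c3) (nat_lit 1027))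
 (.leaf (nat_lit 0x10411c5) (nat_lit 1795))
))) (.node (nat_lit 0x10411cb) (.node (nat_lit 0x10411c9) (.leaf (nat_lit 0x10411c7) (nat_lit 1539))
 (.leaf (nat_lit 0x10411c9) (nat_lit 1793))
) (.node (nat_lit 0x10411cd) (.leaf (nat_lit 0x10411cb) (nat_lit 1537))
 (.node (nat_lit 0x10411cf) (.leaf (nat_lit 0x10411cd) (nat_lit 1283))
 (.leaf (nat_lit 0x10411cf) (nat_lit 1027))
)))) (.node (nat_lit 0x104184b) (.node (nat_lit 0x1041845) (.node (nat_lit 0x1041843) (.leaf (nat_lit 0x1041841) (nat_lit 258))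
 (.leaf (nat_lit 0x1041843) (nat_lit 514))
) (.node (nat_lit 0x1041847) (.leaf (nat_lit 0x1041845) (nat_lit 1025))
 (.node (nat_lit 0x1041849) (.leaf (nat_lit 0x1041847) (nat_lit 1026))
 (.leaf (nat_lit 0x1041849) (nat_lit 2306))
))) (.node (nat_lit 0x1041881) (.node (nat_lit 0x104184d) (.leaf (nat_lit 0x104184b) (nat_lit 2050))
 (.node (nat_lit 0x104184f) (.leaf (nat_lit 0x104184d) (nat_lit 1539))
 (.leaf (nat_lit 0x104184f) (nat_lit 1539))
)) (.node (nat_lit 0x1041883) (.leaf (nat_lit 0x1041881) (nat_lit 513))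
 (.node (nat_lit 0x1041885) (.leaf (nat_lit 0x1041883) (nat_lit 769))
 (.leaf (nat_lit 0x1041885) (nat_lit 768))
))))) (.node (nat_lit 0x104194b) (.node (nat_lit 0x1041941) (.node (nat_lit 0x104188b) (.node (nat_lit 0x1041889) (.leaf (nat_lit 0x1041887) (nat_lit 1024))
 (.leaf (nat_lit 0x1041889) (nat_lit 2051))
) (.node (nat_lit 0x104188d) (.leaf (nat_lit 0x104188b) (nat_lit 1795))
 (.node (nat_lit 0x104188f) (.leaf (nat_lit 0x104188d) (nat_lit 1793))
 (.leaf (nat_lit 0x104188f) (nat_lit 1793))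
))) (.node (nat_lit 0x1041945) (.node (nat_lit 0x1041943) (.leaf (nat_lit 0x1041941) (nat_lit 1026))
 (.leaf (nat_lit 0x1041943) (nat_lit 1282))
) (.node (nat_lit 0x1041947) (.leaf (nat_lit 0x1041945) (nat_lit 1538))
 (.node (nat_lit 0x1041949) (.leaf (nat_lit 0x1041947) (nat_lit 1282))
 (.leaf (nat_lit 0x1041949) (nat_lit 1538))
)))) (.node (nat_lit 0x1041985) (.node (nat_lit 0x104194f) (.node (nat_lit 0x104194d) (.leaf (nat_lit 0x104194b) (nat_lit 1282))
 (.leaf (nat_lit 0x104194d) (nat_lit 1538))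
) (.node (nat_lit 0x1041981) (.leaf (nat_lit 0x104194f) (nat_lit 1794))
 (.node (nat_lit 0x1041983) (.leaf (nat_lit 0x1041981) (nat_lit 1027))
 (.leaf (nat_lit 0x1041983) (nat_lit 1283))
))) (.node (nat_lit 0x104198b) (.node (nat_lit 0x1041987) (.leaf (nat_lit 0x1041985) (nat_lit 1794))
 (.node (nat_lit 0x1041989) (.leaf (nat_lit 0x1041987) (nat_lit 1538))
 (.leaf (nat_lit 0x1041989) (nat_lit 1793))
)) (.node (nat_lit 0x104198d) (.leaf (nat_lit 0x104198b) (nat_lit 1537))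
 (.node (nat_lit 0x104198f) (.leaf (nat_lit 0x104198d) (nat_lit 1283))
 (.leaf (nat_lit 0x104198f) (nat_lit 1539))
)))))))))) (.node (nat_lit 0x1061141) (.node (nat_lit 0x1051881) (.node (nat_lit 0x1043949) (.node (nat_lit 0x10430c5) (.node (nat_lit 0x104298b) (.node (nat_lit 0x10428c5) (.node (nat_lit 0x104288b) (.node (nat_lit 0x1042885) (.node (nat_lit 0x1042883) (.leaf (nat_lit 0x1042881) (nat_lit 1027))
 (.leaf (nat_lit 0x1042883) (nat_lit 1283))
) (.node (nat_lit 0x1042887) (.leaf (nat_lit 0x1042885) (nat_lit 1283))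
 (.node (nat_lit 0x1042889) (.leaf (nat_lit 0x1042887) (nat_lit 1283))
 (.leaf (nat_lit 0x1042889) (nat_lit 2050))
))) (.node (nat_lit 0x104288f) (.node (nat_lit 0x104288d) (.leaf (nat_lit 0x104288b) (nat_lit 1794))
 (.leaf (nat_lit 0x104288d) (nat_lit 1793))
) (.node (nat_lit 0x10428c1) (.leaf (nat_lit 0x104288f) (nat_lit 1537))
 (.node (nat_lit 0x10428c3) (.leaf (nat_lit 0x10428c1) (nat_lit 771))
 (.leaf (nat_lit 0x10428c3) (nat_lit 1027))
)))) (.node (nat_lit 0x10428cf) (.node (nat_lit 0x10428c9) (.node (nat_lit 0x10428c7) (.leaf (nat_lit 0x10428c5) (nat_lit 1283))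
 (.leaf (nat_lit 0x10428c7) (nat_lit 1027))
) (.node (nat_lit 0x10428cb) (.leaf (nat_lit 0x10428c9) (nat_lit 1794))
 (.node (nat_lit 0x10428cd) (.leaf (nat_lit 0x10428cb) (nat_lit 1538))
 (.leaf (nat_lit 0x10428cd) (nat_lit 1537))
))) (.node (nat_lit 0x1042985) (.node (nat_lit 0x1042981) (.leaf (nat_lit 0x10428cf) (nat_lit 1793))
 (.node (nat_lit 0x1042983) (.leaf (nat_lit 0x1042981) (nat_lit 1025))
 (.leaf (nat_lit 0x1042983) (nat_lit 1281))
)) (.node (nat_lit 0x1042987) (.leaf (nat_lit 0x1042985) (nat_lit 1537))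
 (.node (nat_lit 0x1042989) (.leaf (nat_lit 0x1042987) (nat_lit 1281))
 (.leaf (nat_lit 0x1042989) (nat_lit 1792))
))))) (.node (nat_lit 0x10429cf) (.node (nat_lit 0x10429c5) (.node (nat_lit 0x104298f) (.node (nat_lit 0x104298d) (.leaf (nat_lit 0x104298b) (nat_lit 1536))
 (.leaf (nat_lit 0x104298d) (nat_lit 1280))
) (.node (nat_lit 0x10429c1) (.leaf (nat_lit 0x104298f) (nat_lit 1536))
 (.node (nat_lit 0x10429c3) (.leaf (nat_lit 0x10429c1) (nat_lit 1027))
 (.leaf (nat_lit 0x10429c3) (nat_lit 1283))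
))) (.node (nat_lit 0x10429c9) (.node (nat_lit 0x10429c7) (.leaf (nat_lit 0x10429c5) (nat_lit 1537))
 (.leaf (nat_lit 0x10429c7) (nat_lit 1537))
) (.node (nat_lit 0x10429cb) (.leaf (nat_lit 0x10429c9) (nat_lit 1792))
 (.node (nat_lit 0x10429cd) (.leaf (nat_lit 0x10429cb) (nat_lit 1792))
 (.leaf (nat_lit 0x10429cd) (nat_lit 1539))
)))) (.node (nat_lit 0x1043049) (.node (nat_lit 0x1043043) (.node (nat_lit 0x1043041) (.leaf (nat_lit 0x10429cf) (nat_lit 1283))
 (.leaf (nat_lit 0x1043041) (nat_lit 259))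
) (.node (nat_lit 0x1043045) (.leaf (nat_lit 0x1043043) (nat_lit 515))
 (.node (nat_lit 0x1043047) (.leaf (nat_lit 0x1043045) (nat_lit 1283))
 (.leaf (nat_lit 0x1043047) (nat_lit 1027))
))) (.node (nat_lit 0x104304f) (.node (nat_lit 0x104304b) (.leaf (nat_lit 0x1043049) (nat_lit 1793))
 (.node (nat_lit 0x104304d) (.leaf (nat_lit 0x104304b) (nat_lit 2049))
 (.leaf (nat_lit 0x104304d) (nat_lit 1281))
)) (.node (nat_lit 0x10430c1) (.leaf (nat_lit 0x104304f) (nat_lit 1025))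
 (.node (nat_lit 0x10430c3) (.leaf (nat_lit 0x10430c1) (nat_lit 515))
 (.leaf (nat_lit 0x10430c3) (nat_lit 771))
)))))) (.node (nat_lit 0x10431cf) (.node (nat_lit 0x1043149) (.node (nat_lit 0x10430cf) (.node (nat_lit 0x10430c9) (.node (nat_lit 0x10430c7) (.leaf (nat_lit 0x10430c5) (nat_lit 1027))
 (.leaf (nat_lit 0x10430c7) (nat_lit 771))
) (.node (nat_lit 0x10430cb) (.leaf (nat_lit 0x10430c9) (nat_lit 1537))
 (.node (nat_lit 0x10430cd) (.leaf (nat_lit 0x10430cb) (nat_lit 1281))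
 (.leaf (nat_lit 0x10430cd) (nat_lit 1537))
))) (.node (nat_lit 0x1043143) (.node (nat_lit 0x1043141) (.leaf (nat_lit 0x10430cf) (nat_lit 1793))
 (.leaf (nat_lit 0x1043141) (nat_lit 769))
) (.node (nat_lit 0x1043145) (.leaf (nat_lit 0x1043143) (nat_lit 1025))
 (.node (nat_lit 0x1043147) (.leaf (nat_lit 0x1043145) (nat_lit 1281))
 (.leaf (nat_lit 0x1043147) (nat_lit 1025))
)))) (.node (nat_lit 0x10431c3) (.node (nat_lit 0x104314d) (.node (nat_lit 0x104314b) (.leaf (nat_lit 0x1043149) (nat_lit 1280))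
 (.leaf (nat_lit 0x104314b) (nat_lit 1024))
) (.node (nat_lit 0x104314f) (.leaf (nat_lit 0x104314d) (nat_lit 1280))
 (.node (nat_lit 0x10431c1) (.leaf (nat_lit 0x104314f) (nat_lit 1536))
 (.leaf (nat_lit 0x10431c1) (nat_lit 513))
))) (.node (nat_lit 0x10431c9) (.node (nat_lit 0x10431c5) (.leaf (nat_lit 0x10431c3) (nat_lit 769))
 (.node (nat_lit 0x10431c7) (.leaf (nat_lit 0x10431c5) (nat_lit 1537))
 (.leaf (nat_lit 0x10431c7) (nat_lit 1281))
)) (.node (nat_lit 0x10431cb) (.leaf (nat_lit 0x10431c9) (nat_lit 1536))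
 (.node (nat_lit 0x10431cd) (.leaf (nat_lit 0x10431cb) (nat_lit 1792))
 (.leaf (nat_lit 0x10431cd) (nat_lit 1024))
))))) (.node (nat_lit 0x1043883) (.node (nat_lit 0x1043849) (.node (nat_lit 0x1043843) (.node (nat_lit 0x1043841) (.leaf (nat_lit 0x10431cf) (nat_lit 768))
 (.leaf (nat_lit 0x1043841) (nat_lit 515))
) (.node (nat_lit 0x1043845) (.leaf (nat_lit 0x1043843) (nat_lit 771))
 (.node (nat_lit 0x1043847) (.leaf (nat_lit 0x1043845) (nat_lit 1283))
 (.leaf (nat_lit 0x1043847) (nat_lit 1283))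
))) (.node (nat_lit 0x104384d) (.node (nat_lit 0x104384b) (.leaf (nat_lit 0x1043849) (nat_lit 2050))
 (.leaf (nat_lit 0x104384b) (nat_lit 2049))
) (.node (nat_lit 0x104384f) (.leaf (nat_lit 0x104384d) (nat_lit 1281))
 (.node (nat_lit 0x1043881) (.leaf (nat_lit 0x104384f) (nat_lit 1282))
 (.leaf (nat_lit 0x1043881) (nat_lit 771))
)))) (.node (nat_lit 0x104388d) (.node (nat_lit 0x1043887) (.node (nat_lit 0x1043885) (.leaf (nat_lit 0x1043883) (nat_lit 1027))
 (.leaf (nat_lit 0x1043885) (nat_lit 1027))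
) (.node (nat_lit 0x1043889) (.leaf (nat_lit 0x1043887) (nat_lit 1283))
 (.node (nat_lit 0x104388b) (.leaf (nat_lit 0x1043889) (nat_lit 1793))
 (.leaf (nat_lit 0x104388b) (nat_lit 1537))
))) (.node (nat_lit 0x1043943) (.node (nat_lit 0x104388f) (.leaf (nat_lit 0x104388d) (nat_lit 2049))
 (.node (nat_lit 0x1043941) (.leaf (nat_lit 0x104388f) (nat_lit 1793))
 (.leaf (nat_lit 0x1043941) (nat_lit 1025))
)) (.node (nat_lit 0x1043945) (.leaf (nat_lit 0x1043943) (nat_lit 1281))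
 (.node (nat_lit 0x1043947) (.leaf (nat_lit 0x1043945) (nat_lit 1281))
 (.leaf (nat_lit 0x1043947) (nat_lit 1537))
))))))) (.node (nat_lit 0x10509cd) (.node (nat_lit 0x10508c3) (.node (nat_lit 0x104398d) (.node (nat_lit 0x1043983) (.node (nat_lit 0x104394d) (.node (nat_lit 0x104394b) (.leaf (nat_lit 0x1043949) (nat_lit 1536))
 (.leaf (nat_lit 0x104394b) (nat_lit 1280))
) (.node (nat_lit 0x104394f) (.leaf (nat_lit 0x104394d) (nat_lit 1792))
 (.node (nat_lit 0x1043981) (.leaf (nat_lit 0x104394f) (nat_lit 1536))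
 (.leaf (nat_lit 0x1043981) (nat_lit 769))
))) (.node (nat_lit 0x1043987) (.node (nat_lit 0x1043985) (.leaf (nat_lit 0x1043983) (nat_lit 1025))
 (.leaf (nat_lit 0x1043985) (nat_lit 1537))
) (.node (nat_lit 0x1043989) (.leaf (nat_lit 0x1043987) (nat_lit 1537))
 (.node (nat_lit 0x104398b) (.leaf (nat_lit 0x1043989) (nat_lit 1792))
 (.leaf (nat_lit 0x104398b) (nat_lit 1792))
)))) (.node (nat_lit 0x1050887) (.node (nat_lit 0x1050881) (.node (nat_lit 0x104398f) (.leaf (nat_lit 0x104398d) (nat_lit 1024))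
 (.leaf (nat_lit 0x104398f) (nat_lit 1280))
) (.node (nat_lit 0x1050883) (.leaf (nat_lit 0x1050881) (nat_lit 1028))
 (.node (nat_lit 0x1050885) (.leaf (nat_lit 0x1050883) (nat_lit 1284))
 (.leaf (nat_lit 0x1050885) (nat_lit 1284))
))) (.node (nat_lit 0x105088d) (.node (nat_lit 0x1050889) (.leaf (nat_lit 0x1050887) (nat_lit 1284))
 (.node (nat_lit 0x105088b) (.leaf (nat_lit 0x1050889) (nat_lit 2564))
 (.leaf (nat_lit 0x105088b) (nat_lit 2308))
)) (.node (nat_lit 0x105088f) (.leaf (nat_lit 0x105088d) (nat_lit 2308))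
 (.node (nat_lit 0x10508c1) (.leaf (nat_lit 0x105088f) (nat_lit 2052))
 (.leaf (nat_lit 0x10508c1) (nat_lit 772))
))))) (.node (nat_lit 0x1050987) (.node (nat_lit 0x10508cd) (.node (nat_lit 0x10508c7) (.node (nat_lit 0x10508c5) (.leaf (nat_lit 0x10508c3) (nat_lit 1028))
 (.leaf (nat_lit 0x10508c5) (nat_lit 1284))
) (.node (nat_lit 0x10508c9) (.leaf (nat_lit 0x10508c7) (nat_lit 1028))
 (.node (nat_lit 0x10508cb) (.leaf (nat_lit 0x10508c9) (nat_lit 2308))
 (.leaf (nat_lit 0x10508cb) (nat_lit 2052))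
))) (.node (nat_lit 0x1050981) (.node (nat_lit 0x10508cf) (.leaf (nat_lit 0x10508cd) (nat_lit 2052))
 (.leaf (nat_lit 0x10508cf) (nat_lit 2051))
) (.node (nat_lit 0x1050983) (.leaf (nat_lit 0x1050981) (nat_lit 1284))
 (.node (nat_lit 0x1050985) (.leaf (nat_lit 0x1050983) (nat_lit 1540))
 (.leaf (nat_lit 0x1050985) (nat_lit 2052))
)))) (.node (nat_lit 0x10509c1) (.node (nat_lit 0x105098b) (.node (nat_lit 0x1050989) (.leaf (nat_lit 0x1050987) (nat_lit 1796))
 (.leaf (nat_lit 0x1050989) (nat_lit 2308))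
) (.node (nat_lit 0x105098d) (.leaf (nat_lit 0x105098b) (nat_lit 2052))
 (.node (nat_lit 0x105098f) (.leaf (nat_lit 0x105098d) (nat_lit 1540))
 (.leaf (nat_lit 0x105098f) (nat_lit 1540))
))) (.node (nat_lit 0x10509c7) (.node (nat_lit 0x10509c3) (.leaf (nat_lit 0x10509c1) (nat_lit 1028))
 (.node (nat_lit 0x10509c5) (.leaf (nat_lit 0x10509c3) (nat_lit 1284))
 (.leaf (nat_lit 0x10509c5) (nat_lit 2052))
)) (.node (nat_lit 0x10509c9) (.leaf (nat_lit 0x10509c7) (nat_lit 1796))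
 (.node (nat_lit 0x10509cb) (.leaf (nat_lit 0x10509c9) (nat_lit 2052))
 (.leaf (nat_lit 0x10509cb) (nat_lit 2308))
)))))) (.node (nat_lit 0x1051107) (.node (nat_lit 0x10510c1) (.node (nat_lit 0x1051047) (.node (nat_lit 0x1051041) (.node (nat_lit 0x10509cf) (.leaf (nat_lit 0x10509cd) (nat_lit 1540))
 (.leaf (nat_lit 0x10509cf) (nat_lit 1284))
) (.node (nat_lit 0x1051043) (.leaf (nat_lit 0x1051041) (nat_lit 1028))
 (.node (nat_lit 0x1051045) (.leaf (nat_lit 0x1051043) (nat_lit 1284))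
 (.leaf (nat_lit 0x1051045) (nat_lit 1793))
))) (.node (nat_lit 0x105104b) (.node (nat_lit 0x1051049) (.leaf (nat_lit 0x1051047) (nat_lit 1537))
 (.leaf (nat_lit 0x1051049) (nat_lit 2308))
) (.node (nat_lit 0x105104d) (.leaf (nat_lit 0x105104b) (nat_lit 2308))
 (.node (nat_lit 0x105104f) (.leaf (nat_lit 0x105104d) (nat_lit 2051))
 (.leaf (nat_lit 0x105104f) (nat_lit 2051))
)))) (.node (nat_lit 0x10510cb) (.node (nat_lit 0x10510c5) (.node (nat_lit 0x10510c3) (.leaf (nat_lit 0x10510c1) (nat_lit 1026))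
 (.leaf (nat_lit 0x10510c3) (nat_lit 1282))
) (.node (nat_lit 0x10510c7) (.leaf (nat_lit 0x10510c5) (nat_lit 1538))
 (.node (nat_lit 0x10510c9) (.leaf (nat_lit 0x10510c7) (nat_lit 1282))
 (.leaf (nat_lit 0x10510c9) (nat_lit 2307))
))) (.node (nat_lit 0x1051101) (.node (nat_lit 0x10510cd) (.leaf (nat_lit 0x10510cb) (nat_lit 2306))
 (.node (nat_lit 0x10510cf) (.leaf (nat_lit 0x10510cd) (nat_lit 2306))
 (.leaf (nat_lit 0x10510cf) (nat_lit 2307))
)) (.node (nat_lit 0x1051103) (.leaf (nat_lit 0x1051101) (nat_lit 1795))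
 (.node (nat_lit 0x1051105) (.leaf (nat_lit 0x1051103) (nat_lit 2051))
 (.leaf (nat_lit 0x1051105) (nat_lit 2050))
))))) (.node (nat_lit 0x105118b) (.node (nat_lit 0x1051181) (.node (nat_lit 0x105110b) (.node (nat_lit 0x1051109) (.leaf (nat_lit 0x1051107) (nat_lit 2051))
 (.leaf (nat_lit 0x1051109) (nat_lit 2051))
) (.node (nat_lit 0x105110d) (.leaf (nat_lit 0x105110b) (nat_lit 2307))
 (.node (nat_lit 0x105110f) (.leaf (nat_lit 0x105110d) (nat_lit 2049))
 (.leaf (nat_lit 0x105110f) (nat_lit 2305))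
))) (.node (nat_lit 0x1051185) (.node (nat_lit 0x1051183) (.leaf (nat_lit 0x1051181) (nat_lit 1539))
 (.leaf (nat_lit 0x1051183) (nat_lit 1795))
) (.node (nat_lit 0x1051187) (.leaf (nat_lit 0x1051185) (nat_lit 2050))
 (.node (nat_lit 0x1051189) (.leaf (nat_lit 0x1051187) (nat_lit 2050))
 (.leaf (nat_lit 0x1051189) (nat_lit 2306))
)))) (.node (nat_lit 0x1051845) (.node (nat_lit 0x105118f) (.node (nat_lit 0x105118d) (.leaf (nat_lit 0x105118b) (nat_lit 2306))
 (.leaf (nat_lit 0x105118d) (nat_lit 1795))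
) (.node (nat_lit 0x1051841) (.leaf (nat_lit 0x105118f) (nat_lit 2051))
 (.node (nat_lit 0x1051843) (.leaf (nat_lit 0x1051841) (nat_lit 772))
 (.leaf (nat_lit 0x1051843) (nat_lit 1028))
))) (.node (nat_lit 0x105184b) (.node (nat_lit 0x1051847) (.leaf (nat_lit 0x1051845) (nat_lit 1540))
 (.node (nat_lit 0x1051849) (.leaf (nat_lit 0x1051847) (nat_lit 1540))
 (.leaf (nat_lit 0x1051849) (nat_lit 2052))
)) (.node (nat_lit 0x105184d) (.leaf (nat_lit 0x105184b) (nat_lit 2052))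
 (.node (nat_lit 0x105184f) (.leaf (nat_lit 0x105184d) (nat_lit 2308))
 (.leaf (nat_lit 0x105184f) (nat_lit 2052))
)))))))) (.node (nat_lit 0x10531c9) (.node (nat_lit 0x1052185) (.node (nat_lit 0x10519cb) (.node (nat_lit 0x1051905) (.node (nat_lit 0x105188b) (.node (nat_lit 0x1051885) (.node (nat_lit 0x1051883) (.leaf (nat_lit 0x1051881) (nat_lit 1028))
 (.leaf (nat_lit 0x1051883) (nat_lit 1284))
) (.node (nat_lit 0x1051887) (.leaf (nat_lit 0x1051885) (nat_lit 1284))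
 (.node (nat_lit 0x1051889) (.leaf (nat_lit 0x1051887) (nat_lit 1540))
 (.leaf (nat_lit 0x1051889) (nat_lit 2307))
))) (.node (nat_lit 0x105188f) (.node (nat_lit 0x105188d) (.leaf (nat_lit 0x105188b) (nat_lit 2308))
 (.leaf (nat_lit 0x105188d) (nat_lit 2564))
) (.node (nat_lit 0x1051901) (.leaf (nat_lit 0x105188f) (nat_lit 2308))
 (.node (nat_lit 0x1051903) (.leaf (nat_lit 0x1051901) (nat_lit 1540))
 (.leaf (nat_lit 0x1051903) (nat_lit 1796))
)))) (.node (nat_lit 0x105190f) (.node (nat_lit 0x1051909) (.node (nat_lit 0x1051907) (.leaf (nat_lit 0x1051905) (nat_lit 2051))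
 (.leaf (nat_lit 0x1051907) (nat_lit 2050))
) (.node (nat_lit 0x105190b) (.leaf (nat_lit 0x1051909) (nat_lit 1796))
 (.node (nat_lit 0x105190d) (.leaf (nat_lit 0x105190b) (nat_lit 2052))
 (.leaf (nat_lit 0x105190d) (nat_lit 2305))
))) (.node (nat_lit 0x10519c5) (.node (nat_lit 0x10519c1) (.leaf (nat_lit 0x105190f) (nat_lit 2049))
 (.node (nat_lit 0x10519c3) (.leaf (nat_lit 0x10519c1) (nat_lit 1538))
 (.leaf (nat_lit 0x10519c3) (nat_lit 1794))
)) (.node (nat_lit 0x10519c7) (.leaf (nat_lit 0x10519c5) (nat_lit 2050))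
 (.node (nat_lit 0x10519c9) (.leaf (nat_lit 0x10519c7) (nat_lit 1794))
 (.leaf (nat_lit 0x10519c9) (nat_lit 2050))
))))) (.node (nat_lit 0x105208f) (.node (nat_lit 0x1052085) (.node (nat_lit 0x10519cf) (.node (nat_lit 0x10519cd) (.leaf (nat_lit 0x10519cb) (nat_lit 2306))
 (.leaf (nat_lit 0x10519cd) (nat_lit 2050))
) (.node (nat_lit 0x1052081) (.leaf (nat_lit 0x10519cf) (nat_lit 1794))
 (.node (nat_lit 0x1052083) (.leaf (nat_lit 0x1052081) (nat_lit 1283))
 (.leaf (nat_lit 0x1052083) (nat_lit 1539))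
))) (.node (nat_lit 0x1052089) (.node (nat_lit 0x1052087) (.leaf (nat_lit 0x1052085) (nat_lit 1539))
 (.leaf (nat_lit 0x1052087) (nat_lit 1539))
) (.node (nat_lit 0x105208b) (.leaf (nat_lit 0x1052089) (nat_lit 2305))
 (.node (nat_lit 0x105208d) (.leaf (nat_lit 0x105208b) (nat_lit 2305))
 (.leaf (nat_lit 0x105208d) (nat_lit 2049))
)))) (.node (nat_lit 0x10520c9) (.node (nat_lit 0x10520c3) (.node (nat_lit 0x10520c1) (.leaf (nat_lit 0x105208f) (nat_lit 2049))
 (.leaf (nat_lit 0x10520c1) (nat_lit 1027))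
) (.node (nat_lit 0x10520c5) (.leaf (nat_lit 0x10520c3) (nat_lit 1283))
 (.node (nat_lit 0x10520c7) (.leaf (nat_lit 0x10520c5) (nat_lit 1539))
 (.leaf (nat_lit 0x10520c7) (nat_lit 1283))
))) (.node (nat_lit 0x10520cf) (.node (nat_lit 0x10520cb) (.leaf (nat_lit 0x10520c9) (nat_lit 2049))
 (.node (nat_lit 0x10520cd) (.leaf (nat_lit 0x10520cb) (nat_lit 2305))
 (.leaf (nat_lit 0x10520cd) (nat_lit 2049))
)) (.node (nat_lit 0x1052181) (.leaf (nat_lit 0x10520cf) (nat_lit 1793))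
 (.node (nat_lit 0x1052183) (.leaf (nat_lit 0x1052181) (nat_lit 1537))
 (.leaf (nat_lit 0x1052183) (nat_lit 1793))
)))))) (.node (nat_lit 0x105304f) (.node (nat_lit 0x10521c9) (.node (nat_lit 0x105218f) (.node (nat_lit 0x1052189) (.node (nat_lit 0x1052187) (.leaf (nat_lit 0x1052185) (nat_lit 1793))
 (.leaf (nat_lit 0x1052187) (nat_lit 1793))
) (.node (nat_lit 0x105218b) (.leaf (nat_lit 0x1052189) (nat_lit 2048))
 (.node (nat_lit 0x105218d) (.leaf (nat_lit 0x105218b) (nat_lit 2048))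
 (.leaf (nat_lit 0x105218d) (nat_lit 1792))
))) (.node (nat_lit 0x10521c3) (.node (nat_lit 0x10521c1) (.leaf (nat_lit 0x105218f) (nat_lit 1795))
 (.leaf (nat_lit 0x10521c1) (nat_lit 1281))
) (.node (nat_lit 0x10521c5) (.leaf (nat_lit 0x10521c3) (nat_lit 1537))
 (.node (nat_lit 0x10521c7) (.leaf (nat_lit 0x10521c5) (nat_lit 1793))
 (.leaf (nat_lit 0x10521c7) (nat_lit 1537))
)))) (.node (nat_lit 0x1053043) (.node (nat_lit 0x10521cd) (.node (nat_lit 0x10521cb) (.leaf (nat_lit 0x10521c9) (nat_lit 1792))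
 (.leaf (nat_lit 0x10521cb) (nat_lit 2048))
) (.node (nat_lit 0x10521cf) (.leaf (nat_lit 0x10521cd) (nat_lit 1792))
 (.node (nat_lit 0x1053041) (.leaf (nat_lit 0x10521cf) (nat_lit 1536))
 (.leaf (nat_lit 0x1053041) (nat_lit 1027))
))) (.node (nat_lit 0x1053049) (.node (nat_lit 0x1053045) (.leaf (nat_lit 0x1053043) (nat_lit 1283))
 (.node (nat_lit 0x1053047) (.leaf (nat_lit 0x1053045) (nat_lit 1795))
 (.leaf (nat_lit 0x1053047) (nat_lit 1795))
)) (.node (nat_lit 0x105304b) (.leaf (nat_lit 0x1053049) (nat_lit 2307))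
 (.node (nat_lit 0x105304d) (.leaf (nat_lit 0x105304b) (nat_lit 2307))
 (.leaf (nat_lit 0x105304d) (nat_lit 2049))
))))) (.node (nat_lit 0x1053103) (.node (nat_lit 0x1053089) (.node (nat_lit 0x1053083) (.node (nat_lit 0x1053081) (.leaf (nat_lit 0x105304f) (nat_lit 1793))
 (.leaf (nat_lit 0x1053081) (nat_lit 1283))
) (.node (nat_lit 0x1053085) (.leaf (nat_lit 0x1053083) (nat_lit 1539))
 (.node (nat_lit 0x1053087) (.leaf (nat_lit 0x1053085) (nat_lit 1539))
 (.leaf (nat_lit 0x1053087) (nat_lit 1795))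
))) (.node (nat_lit 0x105308d) (.node (nat_lit 0x105308b) (.leaf (nat_lit 0x1053089) (nat_lit 2049))
 (.leaf (nat_lit 0x105308b) (nat_lit 2305))
) (.node (nat_lit 0x105308f) (.leaf (nat_lit 0x105308d) (nat_lit 2306))
 (.node (nat_lit 0x1053101) (.leaf (nat_lit 0x105308f) (nat_lit 2306))
 (.leaf (nat_lit 0x1053101) (nat_lit 1537))
)))) (.node (nat_lit 0x105310d) (.node (nat_lit 0x1053107) (.node (nat_lit 0x1053105) (.leaf (nat_lit 0x1053103) (nat_lit 1793))
 (.leaf (nat_lit 0x1053105) (nat_lit 1793))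
) (.node (nat_lit 0x1053109) (.leaf (nat_lit 0x1053107) (nat_lit 2049))
 (.node (nat_lit 0x105310b) (.leaf (nat_lit 0x1053109) (nat_lit 1792))
 (.leaf (nat_lit 0x105310b) (nat_lit 2048))
))) (.node (nat_lit 0x10531c3) (.node (nat_lit 0x105310f) (.leaf (nat_lit 0x105310d) (nat_lit 2048))
 (.node (nat_lit 0x10531c1) (.leaf (nat_lit 0x105310f) (nat_lit 2304))
 (.leaf (nat_lit 0x10531c1) (nat_lit 1282))
)) (.node (nat_lit 0x10531c5) (.leaf (nat_lit 0x10531c3) (nat_lit 1538))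
 (.node (nat_lit 0x10531c7) (.leaf (nat_lit 0x10531c5) (nat_lit 2049))
 (.leaf (nat_lit 0x10531c7) (nat_lit 2050))
))))))) (.node (nat_lit 0x106088d) (.node (nat_lit 0x1053903) (.node (nat_lit 0x105384d) (.node (nat_lit 0x1053843) (.node (nat_lit 0x10531cd) (.node (nat_lit 0x10531cb) (.leaf (nat_lit 0x10531c9) (nat_lit 2306))
 (.leaf (nat_lit 0x10531cb) (nat_lit 2304))
) (.node (nat_lit 0x10531cf) (.leaf (nat_lit 0x10531cd) (nat_lit 1794))
 (.node (nat_lit 0x1053841) (.leaf (nat_lit 0x10531cf) (nat_lit 1538))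
 (.leaf (nat_lit 0x1053841) (nat_lit 1028))
))) (.node (nat_lit 0x1053847) (.node (nat_lit 0x1053845) (.leaf (nat_lit 0x1053843) (nat_lit 1284))
 (.leaf (nat_lit 0x1053845) (nat_lit 2052))
) (.node (nat_lit 0x1053849) (.leaf (nat_lit 0x1053847) (nat_lit 1796))
 (.node (nat_lit 0x105384b) (.leaf (nat_lit 0x1053849) (nat_lit 2308))
 (.leaf (nat_lit 0x105384b) (nat_lit 2308))
)))) (.node (nat_lit 0x10538c7) (.node (nat_lit 0x10538c1) (.node (nat_lit 0x105384f) (.leaf (nat_lit 0x105384d) (nat_lit 1796))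
 (.leaf (nat_lit 0x105384f) (nat_lit 1796))
) (.node (nat_lit 0x10538c3) (.leaf (nat_lit 0x10538c1) (nat_lit 1283))
 (.node (nat_lit 0x10538c5) (.leaf (nat_lit 0x10538c3) (nat_lit 1539))
 (.leaf (nat_lit 0x10538c5) (nat_lit 1795))
))) (.node (nat_lit 0x10538cd) (.node (nat_lit 0x10538c9) (.leaf (nat_lit 0x10538c7) (nat_lit 1539))
 (.node (nat_lit 0x10538cb) (.leaf (nat_lit 0x10538c9) (nat_lit 2049))
 (.leaf (nat_lit 0x10538cb) (nat_lit 2305))
)) (.node (nat_lit 0x10538cf) (.leaf (nat_lit 0x10538cd) (nat_lit 2306))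
 (.node (nat_lit 0x1053901) (.leaf (nat_lit 0x10538cf) (nat_lit 2050))
 (.leaf (nat_lit 0x1053901) (nat_lit 1537))
))))) (.node (nat_lit 0x1053987) (.node (nat_lit 0x105390d) (.node (nat_lit 0x1053907) (.node (nat_lit 0x1053905) (.leaf (nat_lit 0x1053903) (nat_lit 1793))
 (.leaf (nat_lit 0x1053905) (nat_lit 2049))
) (.node (nat_lit 0x1053909) (.leaf (nat_lit 0x1053907) (nat_lit 1793))
 (.node (nat_lit 0x105390b) (.leaf (nat_lit 0x1053909) (nat_lit 1792))
 (.leaf (nat_lit 0x105390b) (nat_lit 2048))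
))) (.node (nat_lit 0x1053981) (.node (nat_lit 0x105390f) (.leaf (nat_lit 0x105390d) (nat_lit 2304))
 (.leaf (nat_lit 0x105390f) (nat_lit 2048))
) (.node (nat_lit 0x1053983) (.leaf (nat_lit 0x1053981) (nat_lit 1284))
 (.node (nat_lit 0x1053985) (.leaf (nat_lit 0x1053983) (nat_lit 1540))
 (.leaf (nat_lit 0x1053985) (nat_lit 2308))
)))) (.node (nat_lit 0x1060881) (.node (nat_lit 0x105398b) (.node (nat_lit 0x1053989) (.leaf (nat_lit 0x1053987) (nat_lit 2052))
 (.leaf (nat_lit 0x1053989) (nat_lit 2564))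
) (.node (nat_lit 0x105398d) (.leaf (nat_lit 0x105398b) (nat_lit 2308))
 (.node (nat_lit 0x105398f) (.leaf (nat_lit 0x105398d) (nat_lit 1540))
 (.leaf (nat_lit 0x105398f) (nat_lit 1796))
))) (.node (nat_lit 0x1060887) (.node (nat_lit 0x1060883) (.leaf (nat_lit 0x1060881) (nat_lit 1025))
 (.node (nat_lit 0x1060885) (.leaf (nat_lit 0x1060883) (nat_lit 1281))
 (.leaf (nat_lit 0x1060885) (nat_lit 1280))
)) (.node (nat_lit 0x1060889) (.leaf (nat_lit 0x1060887) (nat_lit 1281))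
 (.node (nat_lit 0x106088b) (.leaf (nat_lit 0x1060889) (nat_lit 2307))
 (.leaf (nat_lit 0x106088b) (nat_lit 2051))
)))))) (.node (nat_lit 0x1060947) (.node (nat_lit 0x1060901) (.node (nat_lit 0x10608c7) (.node (nat_lit 0x10608c1) (.node (nat_lit 0x106088f) (.leaf (nat_lit 0x106088d) (nat_lit 2561))
 (.leaf (nat_lit 0x106088f) (nat_lit 2305))
) (.node (nat_lit 0x10608c3) (.leaf (nat_lit 0x10608c1) (nat_lit 770))
 (.node (nat_lit 0x10608c5) (.leaf (nat_lit 0x10608c3) (nat_lit 1026))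
 (.leaf (nat_lit 0x10608c5) (nat_lit 1282))
))) (.node (nat_lit 0x10608cb) (.node (nat_lit 0x10608c9) (.leaf (nat_lit 0x10608c7) (nat_lit 1026))
 (.leaf (nat_lit 0x10608c9) (nat_lit 2051))
) (.node (nat_lit 0x10608cd) (.leaf (nat_lit 0x10608cb) (nat_lit 2050))
 (.node (nat_lit 0x10608cf) (.leaf (nat_lit 0x10608cd) (nat_lit 2307))
 (.leaf (nat_lit 0x10608cf) (nat_lit 2051))
)))) (.node (nat_lit 0x106090b) (.node (nat_lit 0x1060905) (.node (nat_lit 0x1060903) (.leaf (nat_lit 0x1060901) (nat_lit 1282))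
 (.leaf (nat_lit 0x1060903) (nat_lit 1538))
) (.node (nat_lit 0x1060907) (.leaf (nat_lit 0x1060905) (nat_lit 2051))
 (.node (nat_lit 0x1060909) (.leaf (nat_lit 0x1060907) (nat_lit 1795))
 (.leaf (nat_lit 0x1060909) (nat_lit 1538))
))) (.node (nat_lit 0x1060941) (.node (nat_lit 0x106090d) (.leaf (nat_lit 0x106090b) (nat_lit 1537))
 (.node (nat_lit 0x106090f) (.leaf (nat_lit 0x106090d) (nat_lit 2307))
 (.leaf (nat_lit 0x106090f) (nat_lit 2051))
)) (.node (nat_lit 0x1060943) (.leaf (nat_lit 0x1060941) (nat_lit 1026))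
 (.node (nat_lit 0x1060945) (.leaf (nat_lit 0x1060943) (nat_lit 1282))
 (.leaf (nat_lit 0x1060945) (nat_lit 2050))
))))) (.node (nat_lit 0x106104b) (.node (nat_lit 0x1061041) (.node (nat_lit 0x106094b) (.node (nat_lit 0x1060949) (.leaf (nat_lit 0x1060947) (nat_lit 1794))
 (.leaf (nat_lit 0x1060949) (nat_lit 1538))
) (.node (nat_lit 0x106094d) (.leaf (nat_lit 0x106094b) (nat_lit 1282))
 (.node (nat_lit 0x106094f) (.leaf (nat_lit 0x106094d) (nat_lit 2050))
 (.leaf (nat_lit 0x106094f) (nat_lit 2051))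
))) (.node (nat_lit 0x1061045) (.node (nat_lit 0x1061043) (.leaf (nat_lit 0x1061041) (nat_lit 260))
 (.leaf (nat_lit 0x1061043) (nat_lit 516))
) (.node (nat_lit 0x1061047) (.leaf (nat_lit 0x1061045) (nat_lit 1284))
 (.node (nat_lit 0x1061049) (.leaf (nat_lit 0x1061047) (nat_lit 1028))
 (.leaf (nat_lit 0x1061049) (nat_lit 1795))
)))) (.node (nat_lit 0x10610c5) (.node (nat_lit 0x106104f) (.node (nat_lit 0x106104d) (.leaf (nat_lit 0x106104b) (nat_lit 1539))
 (.leaf (nat_lit 0x106104d) (nat_lit 1796))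
) (.node (nat_lit 0x10610c1) (.leaf (nat_lit 0x106104f) (nat_lit 1540))
 (.node (nat_lit 0x10610c3) (.leaf (nat_lit 0x10610c1) (nat_lit 516))
 (.leaf (nat_lit 0x10610c3) (nat_lit 772))
))) (.node (nat_lit 0x10610cb) (.node (nat_lit 0x10610c7) (.leaf (nat_lit 0x10610c5) (nat_lit 1028))
 (.node (nat_lit 0x10610c9) (.leaf (nat_lit 0x10610c7) (nat_lit 772))
 (.leaf (nat_lit 0x10610c9) (nat_lit 2052))
)) (.node (nat_lit 0x10610cd) (.leaf (nat_lit 0x10610cb) (nat_lit 1796))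
 (.node (nat_lit 0x10610cf) (.leaf (nat_lit 0x10610cd) (nat_lit 2051))
 (.leaf (nat_lit 0x10610cf) (nat_lit 1795))
))))))))) (.node (nat_lit 0x1070941) (.node (nat_lit 0x1062849) (.node (nat_lit 0x10619c5) (.node (nat_lit 0x106184b) (.node (nat_lit 0x10611c5) (.node (nat_lit 0x106114b) (.node (nat_lit 0x1061145) (.node (nat_lit 0x1061143) (.leaf (nat_lit 0x1061141) (nat_lit 1027))
 (.leaf (nat_lit 0x1061143) (nat_lit 1283))
) (.node (nat_lit 0x1061147) (.leaf (nat_lit 0x1061145) (nat_lit 1796))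
 (.node (nat_lit 0x1061149) (.leaf (nat_lit 0x1061147) (nat_lit 1540))
 (.leaf (nat_lit 0x1061149) (nat_lit 1539))
))) (.node (nat_lit 0x106114f) (.node (nat_lit 0x106114d) (.leaf (nat_lit 0x106114b) (nat_lit 1283))
 (.leaf (nat_lit 0x106114d) (nat_lit 1796))
) (.node (nat_lit 0x10611c1) (.leaf (nat_lit 0x106114f) (nat_lit 1540))
 (.node (nat_lit 0x10611c3) (.leaf (nat_lit 0x10611c1) (nat_lit 1028))
 (.leaf (nat_lit 0x10611c3) (nat_lit 1284))
)))) (.node (nat_lit 0x10611cf) (.node (nat_lit 0x10611c9) (.node (nat_lit 0x10611c7) (.leaf (nat_lit 0x10611c5) (nat_lit 1795))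
 (.leaf (nat_lit 0x10611c7) (nat_lit 1539))
) (.node (nat_lit 0x10611cb) (.leaf (nat_lit 0x10611c9) (nat_lit 1793))
 (.node (nat_lit 0x10611cd) (.leaf (nat_lit 0x10611cb) (nat_lit 1537))
 (.leaf (nat_lit 0x10611cd) (nat_lit 1540))
))) (.node (nat_lit 0x1061845) (.node (nat_lit 0x1061841) (.leaf (nat_lit 0x10611cf) (nat_lit 1284))
 (.node (nat_lit 0x1061843) (.leaf (nat_lit 0x1061841) (nat_lit 514))
 (.leaf (nat_lit 0x1061843) (nat_lit 770))
)) (.node (nat_lit 0x1061847) (.leaf (nat_lit 0x1061845) (nat_lit 1281))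
 (.node (nat_lit 0x1061849) (.leaf (nat_lit 0x1061847) (nat_lit 1282))
 (.leaf (nat_lit 0x1061849) (nat_lit 1795))
))))) (.node (nat_lit 0x106188f) (.node (nat_lit 0x1061885) (.node (nat_lit 0x106184f) (.node (nat_lit 0x106184d) (.leaf (nat_lit 0x106184b) (nat_lit 1795))
 (.leaf (nat_lit 0x106184d) (nat_lit 2050))
) (.node (nat_lit 0x1061881) (.leaf (nat_lit 0x106184f) (nat_lit 1794))
 (.node (nat_lit 0x1061883) (.leaf (nat_lit 0x1061881) (nat_lit 769))
 (.leaf (nat_lit 0x1061883) (nat_lit 1025))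
))) (.node (nat_lit 0x1061889) (.node (nat_lit 0x1061887) (.leaf (nat_lit 0x1061885) (nat_lit 1024))
 (.leaf (nat_lit 0x1061887) (nat_lit 1280))
) (.node (nat_lit 0x106188b) (.leaf (nat_lit 0x1061889) (nat_lit 2049))
 (.node (nat_lit 0x106188d) (.leaf (nat_lit 0x106188b) (nat_lit 2049))
 (.leaf (nat_lit 0x106188d) (nat_lit 2305))
)))) (.node (nat_lit 0x1061909) (.node (nat_lit 0x1061903) (.node (nat_lit 0x1061901) (.leaf (nat_lit 0x106188f) (nat_lit 2049))
 (.leaf (nat_lit 0x1061901) (nat_lit 1283))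
) (.node (nat_lit 0x1061905) (.leaf (nat_lit 0x1061903) (nat_lit 1539))
 (.node (nat_lit 0x1061907) (.leaf (nat_lit 0x1061905) (nat_lit 2050))
 (.leaf (nat_lit 0x1061907) (nat_lit 1794))
))) (.node (nat_lit 0x106190f) (.node (nat_lit 0x106190b) (.leaf (nat_lit 0x1061909) (nat_lit 1539))
 (.node (nat_lit 0x106190d) (.leaf (nat_lit 0x106190b) (nat_lit 1795))
 (.leaf (nat_lit 0x106190d) (nat_lit 2049))
)) (.node (nat_lit 0x10619c1) (.leaf (nat_lit 0x106190f) (nat_lit 1793))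
 (.node (nat_lit 0x10619c3) (.leaf (nat_lit 0x10619c1) (nat_lit 1282))
 (.leaf (nat_lit 0x10619c3) (nat_lit 1538))
)))))) (.node (nat_lit 0x10620cf) (.node (nat_lit 0x1062049) (.node (nat_lit 0x10619cf) (.node (nat_lit 0x10619c9) (.node (nat_lit 0x10619c7) (.leaf (nat_lit 0x10619c5) (nat_lit 1794))
 (.leaf (nat_lit 0x10619c7) (nat_lit 1538))
) (.node (nat_lit 0x10619cb) (.leaf (nat_lit 0x10619c9) (nat_lit 1794))
 (.node (nat_lit 0x10619cd) (.leaf (nat_lit 0x10619cb) (nat_lit 2050))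
 (.leaf (nat_lit 0x10619cd) (nat_lit 1794))
))) (.node (nat_lit 0x1062043) (.node (nat_lit 0x1062041) (.leaf (nat_lit 0x10619cf) (nat_lit 1538))
 (.leaf (nat_lit 0x1062041) (nat_lit 515))
) (.node (nat_lit 0x1062045) (.leaf (nat_lit 0x1062043) (nat_lit 771))
 (.node (nat_lit 0x1062047) (.leaf (nat_lit 0x1062045) (nat_lit 1539))
 (.leaf (nat_lit 0x1062047) (nat_lit 1283))
)))) (.node (nat_lit 0x10620c3) (.node (nat_lit 0x106204d) (.node (nat_lit 0x106204b) (.leaf (nat_lit 0x1062049) (nat_lit 1537))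
 (.leaf (nat_lit 0x106204b) (nat_lit 1281))
) (.node (nat_lit 0x106204f) (.leaf (nat_lit 0x106204d) (nat_lit 2051))
 (.node (nat_lit 0x10620c1) (.leaf (nat_lit 0x106204f) (nat_lit 1795))
 (.leaf (nat_lit 0x10620c1) (nat_lit 771))
))) (.node (nat_lit 0x10620c9) (.node (nat_lit 0x10620c5) (.leaf (nat_lit 0x10620c3) (nat_lit 1027))
 (.node (nat_lit 0x10620c7) (.leaf (nat_lit 0x10620c5) (nat_lit 1283))
 (.leaf (nat_lit 0x10620c7) (nat_lit 1027))
)) (.node (nat_lit 0x10620cb) (.leaf (nat_lit 0x10620c9) (nat_lit 1793))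
 (.node (nat_lit 0x10620cd) (.leaf (nat_lit 0x10620cb) (nat_lit 2049))
 (.leaf (nat_lit 0x10620cd) (nat_lit 1793))
))))) (.node (nat_lit 0x10621c3) (.node (nat_lit 0x1062149) (.node (nat_lit 0x1062143) (.node (nat_lit 0x1062141) (.leaf (nat_lit 0x10620cf) (nat_lit 1537))
 (.leaf (nat_lit 0x1062141) (nat_lit 769))
) (.node (nat_lit 0x1062145) (.leaf (nat_lit 0x1062143) (nat_lit 1025))
 (.node (nat_lit 0x1062147) (.leaf (nat_lit 0x1062145) (nat_lit 1793))
 (.leaf (nat_lit 0x1062147) (nat_lit 1537))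
))) (.node (nat_lit 0x106214d) (.node (nat_lit 0x106214b) (.leaf (nat_lit 0x1062149) (nat_lit 1280))
 (.leaf (nat_lit 0x106214b) (nat_lit 1024))
) (.node (nat_lit 0x106214f) (.leaf (nat_lit 0x106214d) (nat_lit 1792))
 (.node (nat_lit 0x10621c1) (.leaf (nat_lit 0x106214f) (nat_lit 1795))
 (.leaf (nat_lit 0x10621c1) (nat_lit 1025))
)))) (.node (nat_lit 0x10621cd) (.node (nat_lit 0x10621c7) (.node (nat_lit 0x10621c5) (.leaf (nat_lit 0x10621c3) (nat_lit 1281))
 (.leaf (nat_lit 0x10621c5) (nat_lit 1537))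
) (.node (nat_lit 0x10621c9) (.leaf (nat_lit 0x10621c7) (nat_lit 1281))
 (.node (nat_lit 0x10621cb) (.leaf (nat_lit 0x10621c9) (nat_lit 1536))
 (.leaf (nat_lit 0x10621cb) (nat_lit 1792))
))) (.node (nat_lit 0x1062843) (.node (nat_lit 0x10621cf) (.leaf (nat_lit 0x10621cd) (nat_lit 1536))
 (.node (nat_lit 0x1062841) (.leaf (nat_lit 0x10621cf) (nat_lit 1280))
 (.leaf (nat_lit 0x1062841) (nat_lit 771))
)) (.node (nat_lit 0x1062845) (.leaf (nat_lit 0x1062843) (nat_lit 1027))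
 (.node (nat_lit 0x1062847) (.leaf (nat_lit 0x1062845) (nat_lit 1539))
 (.leaf (nat_lit 0x1062847) (nat_lit 1539))
))))))) (.node (nat_lit 0x10638cd) (.node (nat_lit 0x10629c3) (.node (nat_lit 0x106288d) (.node (nat_lit 0x1062883) (.node (nat_lit 0x106284d) (.node (nat_lit 0x106284b) (.leaf (nat_lit 0x1062849) (nat_lit 1537))
 (.leaf (nat_lit 0x106284b) (nat_lit 1538))
) (.node (nat_lit 0x106284f) (.leaf (nat_lit 0x106284d) (nat_lit 2307))
 (.node (nat_lit 0x1062881) (.leaf (nat_lit 0x106284f) (nat_lit 2051))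
 (.leaf (nat_lit 0x1062881) (nat_lit 1027))
))) (.node (nat_lit 0x1062887) (.node (nat_lit 0x1062885) (.leaf (nat_lit 0x1062883) (nat_lit 1283))
 (.leaf (nat_lit 0x1062885) (nat_lit 1283))
) (.node (nat_lit 0x1062889) (.leaf (nat_lit 0x1062887) (nat_lit 1539))
 (.node (nat_lit 0x106288b) (.leaf (nat_lit 0x1062889) (nat_lit 2304))
 (.leaf (nat_lit 0x106288b) (nat_lit 2048))
)))) (.node (nat_lit 0x1062907) (.node (nat_lit 0x1062901) (.node (nat_lit 0x106288f) (.leaf (nat_lit 0x106288d) (nat_lit 2049))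
 (.leaf (nat_lit 0x106288f) (nat_lit 1793))
) (.node (nat_lit 0x1062903) (.leaf (nat_lit 0x1062901) (nat_lit 1025))
 (.node (nat_lit 0x1062905) (.leaf (nat_lit 0x1062903) (nat_lit 1281))
 (.leaf (nat_lit 0x1062905) (nat_lit 1793))
))) (.node (nat_lit 0x106290d) (.node (nat_lit 0x1062909) (.leaf (nat_lit 0x1062907) (nat_lit 1793))
 (.node (nat_lit 0x106290b) (.leaf (nat_lit 0x1062909) (nat_lit 1280))
 (.leaf (nat_lit 0x106290b) (nat_lit 1536))
)) (.node (nat_lit 0x106290f) (.leaf (nat_lit 0x106290d) (nat_lit 2048))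
 (.node (nat_lit 0x10629c1) (.leaf (nat_lit 0x106290f) (nat_lit 2048))
 (.leaf (nat_lit 0x10629c1) (nat_lit 1282))
))))) (.node (nat_lit 0x1063887) (.node (nat_lit 0x10629cd) (.node (nat_lit 0x10629c7) (.node (nat_lit 0x10629c5) (.leaf (nat_lit 0x10629c3) (nat_lit 1538))
 (.leaf (nat_lit 0x10629c5) (nat_lit 1537))
) (.node (nat_lit 0x10629c9) (.leaf (nat_lit 0x10629c7) (nat_lit 1793))
 (.node (nat_lit 0x10629cb) (.leaf (nat_lit 0x10629c9) (nat_lit 2048))
 (.leaf (nat_lit 0x10629cb) (nat_lit 1792))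
))) (.node (nat_lit 0x1063881) (.node (nat_lit 0x10629cf) (.leaf (nat_lit 0x10629cd) (nat_lit 1794))
 (.leaf (nat_lit 0x10629cf) (nat_lit 1538))
) (.node (nat_lit 0x1063883) (.leaf (nat_lit 0x1063881) (nat_lit 1283))
 (.node (nat_lit 0x1063885) (.leaf (nat_lit 0x1063883) (nat_lit 1539))
 (.leaf (nat_lit 0x1063885) (nat_lit 1539))
)))) (.node (nat_lit 0x10638c1) (.node (nat_lit 0x106388b) (.node (nat_lit 0x1063889) (.leaf (nat_lit 0x1063887) (nat_lit 1539))
 (.leaf (nat_lit 0x1063889) (nat_lit 2049))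
) (.node (nat_lit 0x106388d) (.leaf (nat_lit 0x106388b) (nat_lit 1793))
 (.node (nat_lit 0x106388f) (.leaf (nat_lit 0x106388d) (nat_lit 2305))
 (.leaf (nat_lit 0x106388f) (nat_lit 2049))
))) (.node (nat_lit 0x10638c7) (.node (nat_lit 0x10638c3) (.leaf (nat_lit 0x10638c1) (nat_lit 1027))
 (.node (nat_lit 0x10638c5) (.leaf (nat_lit 0x10638c3) (nat_lit 1283))
 (.leaf (nat_lit 0x10638c5) (nat_lit 1539))
)) (.node (nat_lit 0x10638c9) (.leaf (nat_lit 0x10638c7) (nat_lit 1283))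
 (.node (nat_lit 0x10638cb) (.leaf (nat_lit 0x10638c9) (nat_lit 1793))
 (.leaf (nat_lit 0x10638cb) (nat_lit 2049))
)))))) (.node (nat_lit 0x1070887) (.node (nat_lit 0x1063941) (.node (nat_lit 0x1063907) (.node (nat_lit 0x1063901) (.node (nat_lit 0x10638cf) (.leaf (nat_lit 0x10638cd) (nat_lit 2050))
 (.leaf (nat_lit 0x10638cf) (nat_lit 1794))
) (.node (nat_lit 0x1063903) (.leaf (nat_lit 0x1063901) (nat_lit 1281))
 (.node (nat_lit 0x1063905) (.leaf (nat_lit 0x1063903) (nat_lit 1537))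
 (.leaf (nat_lit 0x1063905) (nat_lit 1793))
))) (.node (nat_lit 0x106390b) (.node (nat_lit 0x1063909) (.leaf (nat_lit 0x1063907) (nat_lit 1537))
 (.leaf (nat_lit 0x1063909) (nat_lit 1536))
) (.node (nat_lit 0x106390d) (.leaf (nat_lit 0x106390b) (nat_lit 1792))
 (.node (nat_lit 0x106390f) (.leaf (nat_lit 0x106390d) (nat_lit 2048))
 (.leaf (nat_lit 0x106390f) (nat_lit 1792))
)))) (.node (nat_lit 0x106394b) (.node (nat_lit 0x1063945) (.node (nat_lit 0x1063943) (.leaf (nat_lit 0x1063941) (nat_lit 1283))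
 (.leaf (nat_lit 0x1063943) (nat_lit 1539))
) (.node (nat_lit 0x1063947) (.leaf (nat_lit 0x1063945) (nat_lit 1793))
 (.node (nat_lit 0x1063949) (.leaf (nat_lit 0x1063947) (nat_lit 1794))
 (.leaf (nat_lit 0x1063949) (nat_lit 1795))
))) (.node (nat_lit 0x1070881) (.node (nat_lit 0x106394d) (.leaf (nat_lit 0x106394b) (nat_lit 1539))
 (.node (nat_lit 0x106394f) (.leaf (nat_lit 0x106394d) (nat_lit 2050))
 (.leaf (nat_lit 0x106394f) (nat_lit 1794))
)) (.node (nat_lit 0x1070883) (.leaf (nat_lit 0x1070881) (nat_lit 1026))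
 (.node (nat_lit 0x1070885) (.leaf (nat_lit 0x1070883) (nat_lit 1282))
 (.leaf (nat_lit 0x1070885) (nat_lit 1282))
))))) (.node (nat_lit 0x10708cb) (.node (nat_lit 0x10708c1) (.node (nat_lit 0x107088b) (.node (nat_lit 0x1070889) (.leaf (nat_lit 0x1070887) (nat_lit 1538))
 (.leaf (nat_lit 0x1070889) (nat_lit 2307))
) (.node (nat_lit 0x107088d) (.leaf (nat_lit 0x107088b) (nat_lit 2306))
 (.node (nat_lit 0x107088f) (.leaf (nat_lit 0x107088d) (nat_lit 2307))
 (.leaf (nat_lit 0x107088f) (nat_lit 2306))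
))) (.node (nat_lit 0x10708c5) (.node (nat_lit 0x10708c3) (.leaf (nat_lit 0x10708c1) (nat_lit 1028))
 (.leaf (nat_lit 0x10708c3) (nat_lit 1284))
) (.node (nat_lit 0x10708c7) (.leaf (nat_lit 0x10708c5) (nat_lit 1540))
 (.node (nat_lit 0x10708c9) (.leaf (nat_lit 0x10708c7) (nat_lit 1284))
 (.leaf (nat_lit 0x10708c9) (nat_lit 2308))
)))) (.node (nat_lit 0x1070905) (.node (nat_lit 0x10708cf) (.node (nat_lit 0x10708cd) (.leaf (nat_lit 0x10708cb) (nat_lit 2308))
 (.leaf (nat_lit 0x10708cd) (nat_lit 2564))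
) (.node (nat_lit 0x1070901) (.leaf (nat_lit 0x10708cf) (nat_lit 2308))
 (.node (nat_lit 0x1070903) (.leaf (nat_lit 0x1070901) (nat_lit 1538))
 (.leaf (nat_lit 0x1070903) (nat_lit 1794))
))) (.node (nat_lit 0x107090b) (.node (nat_lit 0x1070907) (.leaf (nat_lit 0x1070905) (nat_lit 2051))
 (.node (nat_lit 0x1070909) (.leaf (nat_lit 0x1070907) (nat_lit 2052))
 (.leaf (nat_lit 0x1070909) (nat_lit 1794))
)) (.node (nat_lit 0x107090d) (.leaf (nat_lit 0x107090b) (nat_lit 1793))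
 (.node (nat_lit 0x107090f) (.leaf (nat_lit 0x107090d) (nat_lit 2307))
 (.leaf (nat_lit 0x107090f) (nat_lit 2308))
)))))))) (.node (nat_lit 0x1072089) (.node (nat_lit 0x1071845) (.node (nat_lit 0x10710cb) (.node (nat_lit 0x1071045) (.node (nat_lit 0x107094b) (.node (nat_lit 0x1070945) (.node (nat_lit 0x1070943) (.leaf (nat_lit 0x1070941) (nat_lit 1282))
 (.leaf (nat_lit 0x1070943) (nat_lit 1538))
) (.node (nat_lit 0x1070947) (.leaf (nat_lit 0x1070945) (nat_lit 2050))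
 (.node (nat_lit 0x1070949) (.leaf (nat_lit 0x1070947) (nat_lit 2050))
 (.leaf (nat_lit 0x1070949) (nat_lit 1794))
))) (.node (nat_lit 0x107094f) (.node (nat_lit 0x107094d) (.leaf (nat_lit 0x107094b) (nat_lit 1538))
 (.leaf (nat_lit 0x107094d) (nat_lit 2306))
) (.node (nat_lit 0x1071041) (.leaf (nat_lit 0x107094f) (nat_lit 2306))
 (.node (nat_lit 0x1071043) (.leaf (nat_lit 0x1071041) (nat_lit 770))
 (.leaf (nat_lit 0x1071043) (nat_lit 1026))
)))) (.node (nat_lit 0x107104f) (.node (nat_lit 0x1071049) (.node (nat_lit 0x1071047) (.leaf (nat_lit 0x1071045) (nat_lit 1538))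
 (.leaf (nat_lit 0x1071047) (nat_lit 1538))
) (.node (nat_lit 0x107104b) (.leaf (nat_lit 0x1071049) (nat_lit 2051))
 (.node (nat_lit 0x107104d) (.leaf (nat_lit 0x107104b) (nat_lit 2051))
 (.leaf (nat_lit 0x107104d) (nat_lit 2050))
))) (.node (nat_lit 0x10710c5) (.node (nat_lit 0x10710c1) (.leaf (nat_lit 0x107104f) (nat_lit 2050))
 (.node (nat_lit 0x10710c3) (.leaf (nat_lit 0x10710c1) (nat_lit 1025))
 (.leaf (nat_lit 0x10710c3) (nat_lit 1281))
)) (.node (nat_lit 0x10710c7) (.leaf (nat_lit 0x10710c5) (nat_lit 1536))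
 (.node (nat_lit 0x10710c9) (.leaf (nat_lit 0x10710c7) (nat_lit 1280))
 (.leaf (nat_lit 0x10710c9) (nat_lit 2305))
))))) (.node (nat_lit 0x107110f) (.node (nat_lit 0x1071105) (.node (nat_lit 0x10710cf) (.node (nat_lit 0x10710cd) (.leaf (nat_lit 0x10710cb) (nat_lit 2307))
 (.leaf (nat_lit 0x10710cd) (nat_lit 2307))
) (.node (nat_lit 0x1071101) (.leaf (nat_lit 0x10710cf) (nat_lit 2305))
 (.node (nat_lit 0x1071103) (.leaf (nat_lit 0x1071101) (nat_lit 1539))
 (.leaf (nat_lit 0x1071103) (nat_lit 1795))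
))) (.node (nat_lit 0x1071109) (.node (nat_lit 0x1071107) (.leaf (nat_lit 0x1071105) (nat_lit 2050))
 (.leaf (nat_lit 0x1071107) (nat_lit 2306))
) (.node (nat_lit 0x107110b) (.leaf (nat_lit 0x1071109) (nat_lit 1795))
 (.node (nat_lit 0x107110d) (.leaf (nat_lit 0x107110b) (nat_lit 2051))
 (.leaf (nat_lit 0x107110d) (nat_lit 2049))
)))) (.node (nat_lit 0x1071189) (.node (nat_lit 0x1071183) (.node (nat_lit 0x1071181) (.leaf (nat_lit 0x107110f) (nat_lit 2305))
 (.leaf (nat_lit 0x1071181) (nat_lit 1538))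
) (.node (nat_lit 0x1071185) (.leaf (nat_lit 0x1071183) (nat_lit 1794))
 (.node (nat_lit 0x1071187) (.leaf (nat_lit 0x1071185) (nat_lit 1794))
 (.leaf (nat_lit 0x1071187) (nat_lit 2050))
))) (.node (nat_lit 0x107118f) (.node (nat_lit 0x107118b) (.leaf (nat_lit 0x1071189) (nat_lit 2050))
 (.node (nat_lit 0x107118d) (.leaf (nat_lit 0x107118b) (nat_lit 2306))
 (.leaf (nat_lit 0x107118d) (nat_lit 1794))
)) (.node (nat_lit 0x1071841) (.leaf (nat_lit 0x107118f) (nat_lit 2050))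
 (.node (nat_lit 0x1071843) (.leaf (nat_lit 0x1071841) (nat_lit 516))
 (.leaf (nat_lit 0x1071843) (nat_lit 772))
)))))) (.node (nat_lit 0x107194f) (.node (nat_lit 0x1071889) (.node (nat_lit 0x107184f) (.node (nat_lit 0x1071849) (.node (nat_lit 0x1071847) (.leaf (nat_lit 0x1071845) (nat_lit 1284))
 (.leaf (nat_lit 0x1071847) (nat_lit 1284))
) (.node (nat_lit 0x107184b) (.leaf (nat_lit 0x1071849) (nat_lit 2051))
 (.node (nat_lit 0x107184d) (.leaf (nat_lit 0x107184b) (nat_lit 1795))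
 (.leaf (nat_lit 0x107184d) (nat_lit 1796))
))) (.node (nat_lit 0x1071883) (.node (nat_lit 0x1071881) (.leaf (nat_lit 0x107184f) (nat_lit 1796))
 (.leaf (nat_lit 0x1071881) (nat_lit 772))
) (.node (nat_lit 0x1071885) (.leaf (nat_lit 0x1071883) (nat_lit 1028))
 (.node (nat_lit 0x1071887) (.leaf (nat_lit 0x1071885) (nat_lit 1028))
 (.leaf (nat_lit 0x1071887) (nat_lit 1284))
)))) (.node (nat_lit 0x1071943) (.node (nat_lit 0x107188d) (.node (nat_lit 0x107188b) (.leaf (nat_lit 0x1071889) (nat_lit 2308))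
 (.leaf (nat_lit 0x107188b) (nat_lit 2052))
) (.node (nat_lit 0x107188f) (.leaf (nat_lit 0x107188d) (nat_lit 2051))
 (.node (nat_lit 0x1071941) (.leaf (nat_lit 0x107188f) (nat_lit 2052))
 (.leaf (nat_lit 0x1071941) (nat_lit 1284))
))) (.node (nat_lit 0x1071949) (.node (nat_lit 0x1071945) (.leaf (nat_lit 0x1071943) (nat_lit 1540))
 (.node (nat_lit 0x1071947) (.leaf (nat_lit 0x1071945) (nat_lit 1796))
 (.leaf (nat_lit 0x1071947) (nat_lit 1540))
)) (.node (nat_lit 0x107194b) (.leaf (nat_lit 0x1071949) (nat_lit 1796))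
 (.node (nat_lit 0x107194d) (.leaf (nat_lit 0x107194b) (nat_lit 1540))
 (.leaf (nat_lit 0x107194d) (nat_lit 1796))
))))) (.node (nat_lit 0x1072043) (.node (nat_lit 0x1071989) (.node (nat_lit 0x1071983) (.node (nat_lit 0x1071981) (.leaf (nat_lit 0x107194f) (nat_lit 2052))
 (.leaf (nat_lit 0x1071981) (nat_lit 1284))
) (.node (nat_lit 0x1071985) (.leaf (nat_lit 0x1071983) (nat_lit 1540))
 (.node (nat_lit 0x1071987) (.leaf (nat_lit 0x1071985) (nat_lit 1795))
 (.leaf (nat_lit 0x1071987) (nat_lit 1796))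
))) (.node (nat_lit 0x107198d) (.node (nat_lit 0x107198b) (.leaf (nat_lit 0x1071989) (nat_lit 2052))
 (.leaf (nat_lit 0x107198b) (nat_lit 1796))
) (.node (nat_lit 0x107198f) (.leaf (nat_lit 0x107198d) (nat_lit 1540))
 (.node (nat_lit 0x1072041) (.leaf (nat_lit 0x107198f) (nat_lit 1796))
 (.leaf (nat_lit 0x1072041) (nat_lit 771))
)))) (.node (nat_lit 0x107204d) (.node (nat_lit 0x1072047) (.node (nat_lit 0x1072045) (.leaf (nat_lit 0x1072043) (nat_lit 1027))
 (.leaf (nat_lit 0x1072045) (nat_lit 1539))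
) (.node (nat_lit 0x1072049) (.leaf (nat_lit 0x1072047) (nat_lit 1539))
 (.node (nat_lit 0x107204b) (.leaf (nat_lit 0x1072049) (nat_lit 1793))
 (.leaf (nat_lit 0x107204b) (nat_lit 1537))
))) (.node (nat_lit 0x1072083) (.node (nat_lit 0x107204f) (.leaf (nat_lit 0x107204d) (nat_lit 2051))
 (.node (nat_lit 0x1072081) (.leaf (nat_lit 0x107204f) (nat_lit 2051))
 (.leaf (nat_lit 0x1072081) (nat_lit 1027))
)) (.node (nat_lit 0x1072085) (.leaf (nat_lit 0x1072083) (nat_lit 1283))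
 (.node (nat_lit 0x1072087) (.leaf (nat_lit 0x1072085) (nat_lit 1283))
 (.leaf (nat_lit 0x1072087) (nat_lit 1539))
))))))) (.node (nat_lit 0x107290d) (.node (nat_lit 0x1072843) (.node (nat_lit 0x107214d) (.node (nat_lit 0x1072143) (.node (nat_lit 0x107208d) (.node (nat_lit 0x107208b) (.leaf (nat_lit 0x1072089) (nat_lit 2049))
 (.leaf (nat_lit 0x107208b) (nat_lit 2305))
) (.node (nat_lit 0x107208f) (.leaf (nat_lit 0x107208d) (nat_lit 1793))
 (.node (nat_lit 0x1072141) (.leaf (nat_lit 0x107208f) (nat_lit 2049))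
 (.leaf (nat_lit 0x1072141) (nat_lit 1025))
))) (.node (nat_lit 0x1072147) (.node (nat_lit 0x1072145) (.leaf (nat_lit 0x1072143) (nat_lit 1281))
 (.leaf (nat_lit 0x1072145) (nat_lit 1793))
) (.node (nat_lit 0x1072149) (.leaf (nat_lit 0x1072147) (nat_lit 1793))
 (.node (nat_lit 0x107214b) (.leaf (nat_lit 0x1072149) (nat_lit 1536))
 (.leaf (nat_lit 0x107214b) (nat_lit 1280))
)))) (.node (nat_lit 0x1072187) (.node (nat_lit 0x1072181) (.node (nat_lit 0x107214f) (.leaf (nat_lit 0x107214d) (nat_lit 2048))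
 (.leaf (nat_lit 0x107214f) (nat_lit 2048))
) (.node (nat_lit 0x1072183) (.leaf (nat_lit 0x1072181) (nat_lit 1281))
 (.node (nat_lit 0x1072185) (.leaf (nat_lit 0x1072183) (nat_lit 1537))
 (.leaf (nat_lit 0x1072185) (nat_lit 1537))
))) (.node (nat_lit 0x107218d) (.node (nat_lit 0x1072189) (.leaf (nat_lit 0x1072187) (nat_lit 1793))
 (.node (nat_lit 0x107218b) (.leaf (nat_lit 0x1072189) (nat_lit 1792))
 (.leaf (nat_lit 0x107218b) (nat_lit 2048))
)) (.node (nat_lit 0x107218f) (.leaf (nat_lit 0x107218d) (nat_lit 1536))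
 (.node (nat_lit 0x1072841) (.leaf (nat_lit 0x107218f) (nat_lit 1792))
 (.leaf (nat_lit 0x1072841) (nat_lit 1027))
))))) (.node (nat_lit 0x10728c7) (.node (nat_lit 0x107284d) (.node (nat_lit 0x1072847) (.node (nat_lit 0x1072845) (.leaf (nat_lit 0x1072843) (nat_lit 1283))
 (.leaf (nat_lit 0x1072845) (nat_lit 1795))
) (.node (nat_lit 0x1072849) (.leaf (nat_lit 0x1072847) (nat_lit 1795))
 (.node (nat_lit 0x107284b) (.leaf (nat_lit 0x1072849) (nat_lit 1793))
 (.leaf (nat_lit 0x107284b) (nat_lit 1794))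
))) (.node (nat_lit 0x10728c1) (.node (nat_lit 0x107284f) (.leaf (nat_lit 0x107284d) (nat_lit 2052))
 (.leaf (nat_lit 0x107284f) (nat_lit 2052))
) (.node (nat_lit 0x10728c3) (.leaf (nat_lit 0x10728c1) (nat_lit 1284))
 (.node (nat_lit 0x10728c5) (.leaf (nat_lit 0x10728c3) (nat_lit 1540))
 (.leaf (nat_lit 0x10728c5) (nat_lit 1796))
)))) (.node (nat_lit 0x1072901) (.node (nat_lit 0x10728cb) (.node (nat_lit 0x10728c9) (.leaf (nat_lit 0x10728c7) (nat_lit 1540))
 (.leaf (nat_lit 0x10728c9) (nat_lit 2308))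
) (.node (nat_lit 0x10728cd) (.leaf (nat_lit 0x10728cb) (nat_lit 2052))
 (.node (nat_lit 0x10728cf) (.leaf (nat_lit 0x10728cd) (nat_lit 2052))
 (.leaf (nat_lit 0x10728cf) (nat_lit 2308))
))) (.node (nat_lit 0x1072907) (.node (nat_lit 0x1072903) (.leaf (nat_lit 0x1072901) (nat_lit 1281))
 (.node (nat_lit 0x1072905) (.leaf (nat_lit 0x1072903) (nat_lit 1537))
 (.leaf (nat_lit 0x1072905) (nat_lit 2049))
)) (.node (nat_lit 0x1072909) (.leaf (nat_lit 0x1072907) (nat_lit 2049))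
 (.node (nat_lit 0x107290b) (.leaf (nat_lit 0x1072909) (nat_lit 1536))
 (.leaf (nat_lit 0x107290b) (nat_lit 1792))
)))))) (.node (nat_lit 0x10730c7) (.node (nat_lit 0x1073081) (.node (nat_lit 0x1072987) (.node (nat_lit 0x1072981) (.node (nat_lit 0x107290f) (.leaf (nat_lit 0x107290d) (nat_lit 2304))
 (.leaf (nat_lit 0x107290f) (nat_lit 2304))
) (.node (nat_lit 0x1072983) (.leaf (nat_lit 0x1072981) (nat_lit 1540))
 (.node (nat_lit 0x1072985) (.leaf (nat_lit 0x1072983) (nat_lit 1796))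
 (.leaf (nat_lit 0x1072985) (nat_lit 2052))
))) (.node (nat_lit 0x107298b) (.node (nat_lit 0x1072989) (.leaf (nat_lit 0x1072987) (nat_lit 1796))
 (.leaf (nat_lit 0x1072989) (nat_lit 2308))
) (.node (nat_lit 0x107298d) (.leaf (nat_lit 0x107298b) (nat_lit 2052))
 (.node (nat_lit 0x107298f) (.leaf (nat_lit 0x107298d) (nat_lit 1796))
 (.leaf (nat_lit 0x107298f) (nat_lit 2052))
)))) (.node (nat_lit 0x107308b) (.node (nat_lit 0x1073085) (.node (nat_lit 0x1073083) (.leaf (nat_lit 0x1073081) (nat_lit 1283))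
 (.leaf (nat_lit 0x1073083) (nat_lit 1539))
) (.node (nat_lit 0x1073087) (.leaf (nat_lit 0x1073085) (nat_lit 1539))
 (.node (nat_lit 0x1073089) (.leaf (nat_lit 0x1073087) (nat_lit 1795))
 (.leaf (nat_lit 0x1073089) (nat_lit 2049))
))) (.node (nat_lit 0x10730c1) (.node (nat_lit 0x107308d) (.leaf (nat_lit 0x107308b) (nat_lit 2305))
 (.node (nat_lit 0x107308f) (.leaf (nat_lit 0x107308d) (nat_lit 2050))
 (.leaf (nat_lit 0x107308f) (nat_lit 2306))
)) (.node (nat_lit 0x10730c3) (.leaf (nat_lit 0x10730c1) (nat_lit 1283))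
 (.node (nat_lit 0x10730c5) (.leaf (nat_lit 0x10730c3) (nat_lit 1539))
 (.leaf (nat_lit 0x10730c5) (nat_lit 1795))
))))) (.node (nat_lit 0x107310b) (.node (nat_lit 0x1073101) (.node (nat_lit 0x10730cb) (.node (nat_lit 0x10730c9) (.leaf (nat_lit 0x10730c7) (nat_lit 1539))
 (.leaf (nat_lit 0x10730c9) (nat_lit 2305))
) (.node (nat_lit 0x10730cd) (.leaf (nat_lit 0x10730cb) (nat_lit 2049))
 (.node (nat_lit 0x10730cf) (.leaf (nat_lit 0x10730cd) (nat_lit 2305))
 (.leaf (nat_lit 0x10730cf) (nat_lit 2561))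
))) (.node (nat_lit 0x1073105) (.node (nat_lit 0x1073103) (.leaf (nat_lit 0x1073101) (nat_lit 1537))
 (.leaf (nat_lit 0x1073103) (nat_lit 1793))
) (.node (nat_lit 0x1073107) (.leaf (nat_lit 0x1073105) (nat_lit 1793))
 (.node (nat_lit 0x1073109) (.leaf (nat_lit 0x1073107) (nat_lit 2049))
 (.leaf (nat_lit 0x1073109) (nat_lit 1792))
)))) (.node (nat_lit 0x1073145) (.node (nat_lit 0x107310f) (.node (nat_lit 0x107310d) (.leaf (nat_lit 0x107310b) (nat_lit 2048))
 (.leaf (nat_lit 0x107310d) (nat_lit 2048))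
) (.node (nat_lit 0x1073141) (.leaf (nat_lit 0x107310f) (nat_lit 2304))
 (.node (nat_lit 0x1073143) (.leaf (nat_lit 0x1073141) (nat_lit 1538))
 (.leaf (nat_lit 0x1073143) (nat_lit 1794))
))) (.node (nat_lit 0x107314b) (.node (nat_lit 0x1073147) (.leaf (nat_lit 0x1073145) (nat_lit 2050))
 (.node (nat_lit 0x1073149) (.leaf (nat_lit 0x1073147) (nat_lit 1794))
 (.leaf (nat_lit 0x1073149) (nat_lit 2050))
)) (.node (nat_lit 0x107314d) (.leaf (nat_lit 0x107314b) (nat_lit 1794))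
 (.node (nat_lit 0x107314f) (.leaf (nat_lit 0x107314d) (nat_lit 2050))
 (.leaf (nat_lit 0x107314f) (nat_lit 2306))
)))))))))))

theorem S_ok : genOK A [(nat_lit 0x1041043), (nat_lit 0x10410c1), (nat_lit 0x1041841), (nat_lit 0x1043041), (nat_lit 0x1061041)] S_t (nat_lit 1344) = true := by decide +kernel

def exF0 : List (List ℕ) :=
  [[9, 12, 9, 9, 12, 3, 11, 3, 9, 12, 9, 9, 12, 3, 11, 3, 9, 12, 9, 9, 12, 3, 11, 3, 2]]

noncomputable def tF0_rels : LT :=
(.node (.node (.node (.node (.node (.node (.node (.leaf [])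
 (.leaf [nat_lit 10,nat_lit 4,nat_lit 10,nat_lit 4,nat_lit 3])
) (.leaf [nat_lit 6,nat_lit 2,nat_lit 6,nat_lit 2])
) (.node (.node (.leaf [nat_lit 0,nat_lit 2,nat_lit 0,nat_lit 2])
 (.leaf [nat_lit 11,nat_lit 10,nat_lit 11,nat_lit 10,nat_lit 11,nat_lit 10,nat_lit 11,nat_lit 10])
) (.leaf [nat_lit 9,nat_lit 0,nat_lit 9,nat_lit 0])
)) (.node (.node (.node (.leaf [nat_lit 7,nat_lit 7])
 (.leaf [nat_lit 11,nat_lit 9,nat_lit 11,nat_lit 9])
) (.leaf [nat_lit 7,nat_lit 4,nat_lit 7,nat_lit 4])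
) (.node (.node (.leaf [nat_lit 2,nat_lit 3,nat_lit 2,nat_lit 3])
 (.leaf [nat_lit 9,nat_lit 12,nat_lit 9,nat_lit 12])
) (.leaf [nat_lit 6,nat_lit 8,nat_lit 6,nat_lit 8,nat_lit 7])
))) (.node (.node (.node (.node (.leaf [nat_lit 3,nat_lit 3])
 (.leaf [nat_lit 10,nat_lit 8,nat_lit 10,nat_lit 8])
) (.leaf [nat_lit 7,nat_lit 0,nat_lit 7,nat_lit 2,nat_lit 0])
) (.node (.node (.leaf [nat_lit 1,nat_lit 2,nat_lit 1,nat_lit 2])
 (.leaf [nat_lit 12,nat_lit 2,nat_lit 13,nat_lit 5])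
) (.leaf [nat_lit 9,nat_lit 4,nat_lit 9,nat_lit 4,nat_lit 1])
)) (.node (.node (.node (.leaf [nat_lit 11,nat_lit 11])
 (.leaf [nat_lit 11,nat_lit 4,nat_lit 11,nat_lit 4,nat_lit 6])
) (.leaf [nat_lit 8,nat_lit 2,nat_lit 8,nat_lit 2])
) (.node (.node (.leaf [nat_lit 3,nat_lit 5,nat_lit 3,nat_lit 5])
 (.leaf [nat_lit 9,nat_lit 12,nat_lit 9,nat_lit 9,nat_lit 12,nat_lit 3,nat_lit 11,nat_lit 3,nat_lit 9,nat_lit 12,nat_lit 9,nat_lit 9,nat_lit 12,nat_lit 3,nat_lit 11,nat_lit 3,nat_lit 9,nat_lit 12,nat_lit 9,nat_lit 9,nat_lit 12,nat_lit 3,nat_lit 11,nat_lit 3,nat_lit 2])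
) (.leaf [nat_lit 10,nat_lit 0,nat_lit 10,nat_lit 0])
)))) (.node (.node (.node (.node (.node (.leaf [nat_lit 1,nat_lit 1])
 (.leaf [nat_lit 10,nat_lit 6,nat_lit 10,nat_lit 6,nat_lit 10,nat_lit 6])
) (.leaf [nat_lit 6,nat_lit 4,nat_lit 6,nat_lit 4])
) (.node (.node (.leaf [nat_lit 0,nat_lit 4,nat_lit 0,nat_lit 4])
 (.leaf [nat_lit 12,nat_lit 0,nat_lit 13,nat_lit 3])
) (.leaf [nat_lit 9,nat_lit 2,nat_lit 9,nat_lit 2])
)) (.node (.node (.node (.leaf [nat_lit 9,nat_lit 9])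
 (.leaf [nat_lit 11,nat_lit 6,nat_lit 11,nat_lit 6])
) (.leaf [nat_lit 8,nat_lit 0,nat_lit 8,nat_lit 0])
) (.node (.node (.leaf [nat_lit 2,nat_lit 5,nat_lit 2,nat_lit 5])
 (.leaf [nat_lit 10,nat_lit 12,nat_lit 10,nat_lit 13])
) (.leaf [nat_lit 9,nat_lit 7,nat_lit 9,nat_lit 7])
))) (.node (.node (.node (.node (.leaf [nat_lit 5,nat_lit 5])
 (.leaf [nat_lit 11,nat_lit 3,nat_lit 11,nat_lit 3,nat_lit 11,nat_lit 3])
) (.leaf [nat_lit 7,nat_lit 2,nat_lit 7,nat_lit 2])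
) (.node (.node (.leaf [nat_lit 1,nat_lit 4,nat_lit 1,nat_lit 4])
 (.leaf [nat_lit 12,nat_lit 4,nat_lit 13,nat_lit 4,nat_lit 1])
) (.leaf [nat_lit 6,nat_lit 7,nat_lit 6,nat_lit 7])
)) (.node (.node (.node (.leaf [nat_lit 13,nat_lit 12])
 (.leaf [nat_lit 11,nat_lit 1,nat_lit 11,nat_lit 1])
) (.leaf [nat_lit 8,nat_lit 4,nat_lit 8,nat_lit 5,nat_lit 4])
) (.node (.leaf [nat_lit 6,nat_lit 0,nat_lit 6,nat_lit 1,nat_lit 0])
 (.leaf [nat_lit 10,nat_lit 2,nat_lit 10,nat_lit 2])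
))))) (.node (.node (.node (.node (.node (.node (.leaf [nat_lit 0,nat_lit 0])
 (.leaf [nat_lit 10,nat_lit 5,nat_lit 10,nat_lit 5])
) (.leaf [nat_lit 6,nat_lit 3,nat_lit 6,nat_lit 4,nat_lit 3])
) (.node (.node (.leaf [nat_lit 0,nat_lit 3,nat_lit 0,nat_lit 3])
 (.leaf [nat_lit 12,nat_lit 12,nat_lit 12])
) (.leaf [nat_lit 9,nat_lit 1,nat_lit 9,nat_lit 1])
)) (.node (.node (.node (.leaf [nat_lit 8,nat_lit 8])
 (.leaf [nat_lit 11,nat_lit 8,nat_lit 11,nat_lit 8])
) (.leaf [nat_lit 7,nat_lit 5,nat_lit 7,nat_lit 5])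
) (.node (.node (.leaf [nat_lit 2,nat_lit 4,nat_lit 2,nat_lit 4])
 (.leaf [nat_lit 6,nat_lit 12,nat_lit 6,nat_lit 13])
) (.leaf [nat_lit 9,nat_lit 6,nat_lit 9,nat_lit 6])
))) (.node (.node (.node (.node (.leaf [nat_lit 4,nat_lit 4])
 (.leaf [nat_lit 10,nat_lit 9,nat_lit 10,nat_lit 9])
) (.leaf [nat_lit 7,nat_lit 1,nat_lit 7,nat_lit 1])
) (.node (.node (.leaf [nat_lit 1,nat_lit 3,nat_lit 1,nat_lit 3])
 (.leaf [nat_lit 12,nat_lit 3,nat_lit 13,nat_lit 3,nat_lit 0])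
) (.leaf [nat_lit 9,nat_lit 5,nat_lit 9,nat_lit 5,nat_lit 2])
)) (.node (.node (.node (.leaf [nat_lit 12,nat_lit 13])
 (.leaf [nat_lit 11,nat_lit 5,nat_lit 11,nat_lit 5,nat_lit 7])
) (.leaf [nat_lit 8,nat_lit 3,nat_lit 8,nat_lit 3])
) (.node (.leaf [nat_lit 4,nat_lit 5,nat_lit 4,nat_lit 5])
 (.leaf [nat_lit 10,nat_lit 1,nat_lit 10,nat_lit 1,nat_lit 0])
)))) (.node (.node (.node (.node (.node (.leaf [nat_lit 2,nat_lit 2])
 (.leaf [nat_lit 10,nat_lit 7,nat_lit 10,nat_lit 7,nat_lit 8])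
) (.leaf [nat_lit 6,nat_lit 5,nat_lit 6,nat_lit 5])
) (.node (.node (.leaf [nat_lit 0,nat_lit 5,nat_lit 0,nat_lit 5])
 (.leaf [nat_lit 12,nat_lit 1,nat_lit 13,nat_lit 4])
) (.leaf [nat_lit 9,nat_lit 3,nat_lit 9,nat_lit 3,nat_lit 0])
)) (.node (.node (.node (.leaf [nat_lit 10,nat_lit 10])
 (.leaf [nat_lit 11,nat_lit 7,nat_lit 11,nat_lit 7])
) (.leaf [nat_lit 8,nat_lit 1,nat_lit 8,nat_lit 2,nat_lit 1])
) (.node (.node (.leaf [nat_lit 3,nat_lit 4,nat_lit 3,nat_lit 4])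
 (.leaf [nat_lit 8,nat_lit 12,nat_lit 8,nat_lit 13])
) (.leaf [nat_lit 9,nat_lit 8,nat_lit 9,nat_lit 8])
))) (.node (.node (.node (.node (.leaf [nat_lit 6,nat_lit 6])
 (.leaf [nat_lit 11,nat_lit 0,nat_lit 11,nat_lit 0,nat_lit 9])
) (.leaf [nat_lit 7,nat_lit 3,nat_lit 7,nat_lit 5,nat_lit 3])
) (.node (.node (.leaf [nat_lit 1,nat_lit 5,nat_lit 1,nat_lit 5])
 (.leaf [nat_lit 12,nat_lit 5,nat_lit 13,nat_lit 5,nat_lit 2])
) (.leaf [nat_lit 7,nat_lit 8,nat_lit 7,nat_lit 8])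
)) (.node (.node (.node (.leaf [nat_lit 0,nat_lit 1,nat_lit 0,nat_lit 1])
 (.leaf [nat_lit 11,nat_lit 2,nat_lit 11,nat_lit 2])
) (.leaf [nat_lit 8,nat_lit 5,nat_lit 8,nat_lit 5])
) (.node (.leaf [nat_lit 6,nat_lit 1,nat_lit 6,nat_lit 1])
 (.leaf [nat_lit 10,nat_lit 3,nat_lit 10,nat_lit 3])
))))))
noncomputable def tF0_hws : LT :=
(.node (.node (.node (.leaf [])
 (.leaf [nat_lit 6])
) (.leaf [nat_lit 3])
) (.node (.node (.leaf [nat_lit 9])
 (.leaf [nat_lit 10])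
) (.leaf [nat_lit 11])
))
noncomputable def tF0_inv : ℕ → ℕ := getP (nat_lit 8) (nat_lit 255) (nat_lit 0xc0d0b0a09080706050403020100)

noncomputable def tF0_t : BT :=
(.node (.node (.node (.node (.leaf (nat_lit 0x382181748df870001ffc000007ff0000003a6081748e8830182920180007ff000000881f000024f7b0182539c800ca1f7f0004939f80007ff000001ffc000007ff000001ffc000007ff000001ffc000007ff00000083da400014f7d015225c0c0007ff0000003241017c9b45d0001ffc000007ff000001ffc000007ff000182839cc0007ff0000004d57c0007ff000001ffc000007ff000001ffc000007ff0001f255c140007ff0001524d19c0007ff000001ffc0000018f0800321096c0549985806e8a29600001995a000044d200007ff000001ffc000007ff000001ffc000007ff000001ffc000007ff000001ffc000248644e0001ffc000007ff00000035cf40007ff000001ffc000011125707020291c0007ff000001ffc000007ff000032335040007ff0000003390c0007ff00003216cfc0007ff0006c23592c0001c62f0001ffc0017489f2a0182414f80007ff000001ffc000007ff000001ffc000007ff000001ffc0017c8133205f20c4c417483a2b0004714f00007ff000001ffc000007ff000001ffc000000a03a0001ffc000007ff000001ffc000007ff000001ffc000007ff000001ffc000007ff000001ffc000007ff000001ffc000007ff000001ffc000007ff000001ffc000007ff000000cc05000032a130001ffc000f4a32160001ffc00054b2f190152ca4600007ff000001ffc000007ff000001ffc000f4b230e0352c3034054af10c01f6b5024054a3a0a0000b542c07c98e5c018261600000249810000561840548c86f0000261c402485002003207c0400080200))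
 (.leaf (nat_lit 0x1ffc000007ff000001ffc000007ff000001ffc000007ff000001ffc000007ff0000007b5e00007ff0000007dc8c0007ff0000007cc840007ff000001ffc0009c9ec7f000082dac0007ff000001ffc000007ff000001ffc000007ff0000004b58809ca04060001ffc000007ff000001ffc000007ff000502829dc0d0927030001ffc000007ff000001ffc000007ff000001ffc000007ff0000007ed300d092c7100007fc880007ff00000078d500007ff000000709080007ff000001ffc000007ff000001ffc000007ff000000720f00007ff000001ffc000d09e25f0001ffc000007ff000001ffc000007ff000001ffc000007ff000001ffc000e89fa630001ffc000007ff0005022dc080007ff0000040ecd00007ff000001ffc000007ff000001ffc000d09c15d00003c8a00007ff000001ffc000007ff000001ffc001a89c75705021e9800007ff000001ffc000007ff000001ffc000e8923440001ffc0000003c470001ffc0000105625000428c980007ff0005024092009c8750103425e41000001b00000419c900007ff000001ffc0009c8f1410001ffc000000a431000015cc80000682b05127d9f40bc9fe6105027c9ec0bc9e8050001ffc000007ff000001ffc000007ff000001ffc000007ff000001ffc000007ff000001ffc000007ff000001ffc000007ff000001ffc000007ff000001ffc000007ff000001ffc00110b250e03a2c44340d1aec0c02f6b682c0a8af60a0276b38241862a32207d89b88c0002057000007a48000017a2d00004a1a80000b84900001d8b800101a2c))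
) (.node (.leaf (nat_lit 0x1ffc000007ff000001ffc000007ff000001ffc000007ff000001ffc000007ff000001ffc000007ff000001ffc000007ff000001ffc000007ff000001ffc000007ff000001ffc000007ff000001ffc000007ff000001ffc00068939720132265c40007ff000001ffc000007ff000001ffc000007ff000001ffc000007ff000001ffc000007ff000001ffc000007ff000001ffc000007ff000001ffc000011f84c0001ffc0003082a600001ffc000007ff000001ffc000007ff000001ffc000007ff000001ffc000007ff000001ffc000007ff000001ffc000007ff000001ffc000007ff000001ffc000007ff000001ffc000007ff000001ffc000001f9620001ffc0004c9cd2d00c22d0ec0007ff0007320351c0007ff000001ffc000007ff000001ffc000007ff000001ffc000007ff000001ffc000007ff000001ffc000007ff0000002d5240007ff000001ffc000007ff000001ffc000001202e00623714c0000a8260001ffc0018c8153206320d8c40007ff000001ffc0000111f360000739280007ff000001ffc000007ff000001ffc000007ff000001ffc001508a7340542160b00007ff000001ffc000007ff000001ffc000007ff000000d3c7800134e1f01a2d2c68104afa160001ffc0000034c1d0132c1460000306190000cd8300002fb1c0000d08400007ff000001ffc0000031d0e0001ffc00030b41150001ffc00104b1c120000c2c28001335170242b802000130a0d024286c140002e10b01a261c1c0189630600008702404c8ca04013221c0c0308490200620900400880600))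
 (.leaf (nat_lit 0x1ffc000007ff000001ffc000007ff000001ffc000007ff00000094df80007ff00000051dec1f0a547d0001ffc000007ff0000005140c00022f6d0001ffc000001f1210000595c4000243650001ffc000007ff000001ffc0000121d7c0004574180007ff000001ffc000007ff0000008b5400001dd56000081d880011ea780001ffc000001df6c00046f9540007ff000000904140007ff000001ffc00001202700001ffc00000026000001ffc000007ff000001ffc000007ff000001ffc000007ff000001ffc000007ff0007c245ce80011d7680001ffc000007ff000001ffc000011a95900006ad480012277a0001ffc00000062320782230c40007ff0000002acc00007ff0000002ccd000006f2b00041016c0007ff000001ffc000007ff000001ffc000007ff000001ffc000007ff000001ffc000007ff000000354a80007ff0000001e0b00007ff000001ffc000007ff000001ffc000007ff000001ffc000010b0530001ffc000010593f0001ffc000010a93e00003fc900007ff0007889dc840010732e00041ad040010cb430001ffc000007ff000001ffc000007ff000004360d40010ee280001ffc000007ff0000007bda80007ff000001ffc000007ff000001ffc0011cafc160001ffc000007ff000001ffc000007ff000001ffc000002e7120001ffc000007ff000001ffc000007ff000001ffc000003400c0001ffc0011cb210e01c8d802800133b0f0302b702c001315110658a68141da2796508189701c0001677700048f1d8001192750004509fc0000464700000a18000101d01))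
)) (.node (.node (.leaf (nat_lit 0x1ffc000007ff000001ffc000007ff000001ffc000007ff000001ffc000002116900008a9e80002577d0832959f80007ff000001ffc001b4a297f0001ffc000007ff000001ffc000007ff000000769a00007ff0006626c01c0001a266000052d900007ff0000004cd7c1849b5560001ffc000007ff000001ffc000007ff000662842001b49d97503123b0101989a1720001ffc000c494a710001ffc000007ff000001ffc000010884d03124c9bc0007ff000001ffc000002154500001f9100007ff000001ffc000c4970500001ffc000001b66e0001ffc000007ff000001ffc000c48e4030001ffc000001715802c26f0201e4865020000225800007ff000001ffc000007ff000001ffc000007ff000000024000007ff0002c28517018487d5b06d233d040007ff0000003410c0b09a70506d217004000107390001ffc000007ff000001ffc0017889c2a0662418f80007ff000001ffc000007ff000001ffc000007ff000001ffc000000343106120ccc81788392b0001ffc000007ff000001ffc000007ff000001ffc0000009d3a0001ffc000007ff000001ffc000007ff000001ffc000007ff000001ffc000007ff000001ffc000007ff000001ffc000007ff000001ffc000007ff000001ffc000007ff000001ffc000007ff000001ffc000007ff000001ffc000007ff000001ffc000007ff000001ffc000007ff000001ffc000fcb1b0e0362c34340c5af00c02c6b582c088af50a0222b44240001bd4f00006c5cc20225f6900006a1000000ed670000395480000664e0000174fc00100847))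
 (.leaf (nat_lit 0x1ffc000007ff000001ffc000007ff000001ffc000007ff000001ffc000007ff0000008fdd80007ff000001ffc000007ff000000915940007ff000001ffc000007ff000001ffc00020a3e7f0001ffc000007ff000001ffc00001216090004555840007ff000004609700007ff000001ffc000007ff000001ffc000011e6200001ffc000007ff0000046e93c0007ff000102911ec0007ff000001ffc000011fc220000559c40007ff000004849140007ff000001ffc000007ff000001ffc000007ff000001ffc000007ff000000728f00011d3370001ffc000007ff000001ffc000011a5400001ffc000012233300006ed9c0007ff000001ffc000007ff000001ffc000007ff000001ffc000007ff0007620411c0007ff00000084d7c0007ff000001ffc00000237290001ffc000001a6520001ffc000007ff000001ffc001ac9c9570001ffc000007ff000001ffc000007ff000000751580007ff000001ffc000007ff000000891400007ff000001ffc000007ff000102405200007ff000628a84880007ff000001ffc000007ff0005728d9080007ff0006a8a4c800007ff000001ffc0014c86a2b0001ffc000001fd620001ffc000001e76a04e2d4c34130b091e0001ffc00118afe1c0001ffc000007ff000001ffc000007ff000001ffc000007ff000001ffc000007ff000001ffc000007ff000001ffc000007ff000001ffc00118b260e0000d507c0acaf30c0000b4c1c0aca3b0a000085dc800018d040004b482c1ee2716500005040c00118c0800045001404084f0200820880400f00700))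
) (.node (.leaf (nat_lit 0x1ffc000007ff000001ffc000007ff000001ffc000007ff000001ffc000007ff000001ffc000007ff000001ffc000007ff000001ffc000007ff000001ffc000007ff000001ffc000007ff000001ffc000007ff000001ffc0006c93a720142255c40007ff000001ffc000007ff000001ffc000007ff000001ffc000007ff000001ffc000007ff000001ffc000007ff000001ffc000007ff000001ffc000007ff000001ffc0003882d600001ffc000007ff000001ffc000007ff000001ffc000007ff000001ffc000007ff000001ffc000007ff000001ffc000007ff000001ffc000007ff000001ffc000007ff000001ffc000007ff000001ffc000007ff000001ffc000007ff000001ffc000007ff0007420391c0007ff000001ffc000007ff000001ffc000007ff0000721b5040007ff000001ffc000007ff000001ffc000007ff000001ffc000007ff000001ffc000007ff000001ffc000007ff000001ffc000007ff000001ffc000007ff000001ffc000007ff0000e2400ec0007ff000001ffc000007ff0005a2060ac0007ff000001ffc0001c8f02e0001ffc000007ff000001ffc001488692c0001ffc000007ff000001ffc000007ff000382d48740003461a0001ffc000002f9090001ffc0012cb451e0142c0c280007ff000001ffc00000231050001ffc00050b2d0c0001ffc000002e4080001ffc000007ff000001ffc000003180b0382c3c6000032e140004c5c38000304190004be0700012e31201b26201c01c9620600048c0580508c60401422140c03884e0200720840400700400))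
 (.leaf (nat_lit 0xe87a3d10421e8f543987a3dd20e1a8f83e385a3e52c20e8fc3de86a9601c206a5906381a96812606a5b07d81a9781ce02a606f980a988189fea646757fa9955a1fea662d97fa99dbe9fea6808c7fa9a41b5fea6a0327ea9ac1c1f6a6c0637da9b4121eea7021c7ba9c80d5eaa7359c7aa9d1575e6a7558978a9d89e1dea7827275a9eda01cea7c06373a9f4109caa7e06a72a9fc249c6a8004571aa055a1c6a822da71aa0c22dc6a840226faa15495bea865076faa1d629bea8805b6faa24079fea8b5907e6a355a5baa8e50b6eaa3d231b2a9004d6caa44185aaa9246b6aaa50b8da6a9503568aa581b1a2a9703a67aa6022d9ea9902b64aa700a18ea9d2db63aa780918aaa02db62aa88edd82aa402c60aa940217eaa627a5faa9c16d7eaa801b5eaaa406176aaa27b5daaac04972aac0525baab405d6eaae01b5aaabc0a15eab03ba57aac40b15eab200d57aacc04d5aab407a56aad422d52ab62e153aadcbb54eab82ca50aae41713aaba00c4daaec0312eabc00b4aaaf40a526abe01b49aafc13126ac000c48ab040350eac200a42ab0c82d0aac401b36ab180f4daac700d35ab20030beac90032dab281e8b6acb08c2dab301a89eacd05e4fad583507eb570a61fad6062c7eb590d11ead683187ab5b19b1ead7016c76b5d0911cad7839072b5f0ae49ad8434066b6308018ad902d05eb650cc16ad9831056b670a915ada0340007ff000001ffc000007ff000001ffc000007ff000001ffc000007ff000001ffc000007ff000001ffc000007ff000001ffc000007ff000001ffc000007ff00))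
))) (.node (.node (.node (.leaf (nat_lit 0x1ffc000007ff000001ffc000007ff000001ffc000007ff000001ffc000007ff000001ffc000007ff000001ffc000007ff000001ffc000007ff000001ffc000007ff000001ffc000007ff000001ffc000007ff000001ffc000007ff000122259c40007ff0001222f5bc0007ff000001ffc000007ff000001ffc0000019e460001ffc000007ff000001ffc000007ff000001ffc000007ff000001ffc000007ff00020256c1402882e600001ffc000007ff000001ffc000007ff00004210d6c0007ff000001ffc000007ff000001ffc000007ff000001ffc000489e4270000488d80007ff000001ffc000007ff000001ffc000007ff000001ffc000007ff000001ffc000007ff000001ffc000007ff00071202d1c04899d6a0001ffc000007ff000001ffc000007ff000001ffc000007ff000001ffc000007ff000001ffc000007ff000001ffc000007ff000001ffc000007ff000001ffc00128921530042368b815483e2c0001ffc000007ff0006020c8c40007ff000001ffc000000db350001ffc0000003f340001ffc000007ff000001ffc000007ff000000795501548a5250000298980007ff000001ffc000007ff000001ffc000007ff000001ffc000003341b0001ffc0000031a0e0192ccc780007ff000001ffc000007ff0004a2cdc340007ff000001ffc000007ff000001ffc000007ff000001ffc000007ff000001ffc000f8b191c0000ce05c049aee0a0206b78240002ef0c0000b7c2c0809915c01926181c01095f060000571840488c70401222180c0288510200420800400480500))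
 (.leaf (nat_lit 0x242140007ff0005b223e1c0007ff000001ffc000007ff000000945f807497d8000005addc210a50810001ffc000007ff000000584180007ff000001ffc000002096b00f25a9fc0007ff000001ffc000007ff000001ffc0007493b72016224c0c0007ff000000314102049b85e0001ffc000007ff0000f2821e00007ff000001ffc000007ff0000004c57c0007ff000001ffc000007ff000001ffc0005892b6a02125641403c82b0101624c19c0007ff000001ffc000007ff000000134080007ff000001ffc000007ff000001ffc0005891a5d0001ffc000007ff000001ffc000007ff000001ffc000007ff000001ffc000007ff000001ffc000007ff000001ffc000007ff0000f22d94c03c87141075203d1c0007ff000001ffc001bc8804e0001ffc000007ff0000001c9200007ff000001ffc000007ff000000434e40007ff0000f21e4b80007ff000692430f40007ff000001ffc000007ff000001ffc0017083d340001ffc000007ff000001ffc000007ff000001ffc000007ff0001625e09c17081c2c05b2064ac0007ff000001ffc000007ff000001ffc000007ff000001ffc000007ff000001ffc000007ff000001ffc000007ff000001ffc000007ff000001ffc000007ff000001ffc000007ff000001ffc000007ff000001ffc000007ff000000cf83c0007ff000001ffc00115ae5160001ffc000007ff000172cf454114b200e03b2c4834059aea0a0212b6c2c0002eb0c0212868240849905c01d26281c05c9607b0000569840588c46f0000251c403c84c5b00000b18000b00000))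
) (.node (.leaf (nat_lit 0x1ffc000007ff000001ffc000007ff000001ffc000007ff000001ffc000007ff00000492de40007ff000001ffc000007ff0000006b5441b8a2b590000931fc0007ff000001ffc000007ff000001ffc000007ff000001ffc000007ff0000045418c0007ff0000045fd780001b3670001ffc000007ff000001ffc000007ff000001ffc001b89db5500046c9b80007ff000001ffc000007ff000000545c40007ff000001ffc0000004b0203224d9740001806f0001ffc000007ff000000180fc0c899a640001ffc000c89725207b2450f40c891d040001ffc000007ff000001ffc000001735800d26b1ec00013d030001ffc0000008b4d0772229380007ff0000d22b9200007ff000001ffc000000af4b00040bcc40007ff000001ffc0000007c0106e2348f80007ff00000042ce40007ff0006e217d6c0000d34300004555c0007ff000001ffc0016489e300672429041949d10702d2754200007ff000001ffc000007ff0002d2894140000120000000c11c0007ff000001ffc000007ff000001ffc000007ff000001ffc001648542b0001ffc000007ff000001ffc000007ff000001ffc000007ff000001ffc000007ff000001ffc000007ff000001ffc000007ff000001ffc000007ff000001ffc000007ff000001ffc000007ff000001ffc000007ff000001ffc000007ff000001ffc000007ff000001ffc000007ff000001ffc00108b1e0e0372c38340c9af20c02d6b642c0a0af40a0256b3c240001d6370000748e01ee26f510000898cc00011e5600044f14003484a6000041ed1000101132))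
 (.leaf (nat_lit 0x1ffc000007ff000001ffc000007ff000001ffc000007ff000852929f40007ff00000050c0c1f4a52810000955f800021e720112519fc000228500822935600001eb6a01125981800023d050001ffc000007ff000001ffc000007ff000004591dc000203620001ffc000007ff0001128b9e80449de680001ffc000011ee210001ffc000001d8560001ffc000007ff000112909d80007ff000001ffc000012066b0001ffc00044827010001ffc000007ff000001ffc000007ff0000001051c0007ff000001ffc000007ff0007d2458e40011dc6c0001ffc000007ff0000002c4d00011aa510001ffc0000122c6d0001ffc000007ff000001ffc000007ff000001ffc000007ff000001ffc00044870410004114080007ff000001ffc000007ff000000330a80007ff0000001b0ac0007ff000000168c80007ff000001ffc000007ff000001ffc000007ff000001ffc000007ff000001ffc00190924260000364940010b2490001ffc000010614e0001ffc000010aa4b0001ffc000000742c0001ffc000010773b00041b9200010d43d0001ffc000000ef240001ffc000007ff000001ffc000010fe2f0001ffc000007ff0001127c1e00007ff000001ffc000007ff000001ffc00120afd120001ffc000007ff000001ffc000007ff000001ffc000007ff000001ffc000007ff000001ffc00120ae6160001ffc000007ff000000cf0300003220e01c8d884800133f100000b742c001316150658a6c201da27a0500009741c00015e71000490194001193740004511ec0448475b00000780000102560))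
)) (.node (.node (.leaf (nat_lit 0x1ffc001608e18400003060c0007ff000582302140007ff00000091dfc00017c6f000491a040007ff000000535c4014a210600005a5dc0007ff000001ffc000007ff0000b25a1ec0007ff000001ffc000007ff0000006bd9c000138030004531f40007ff0000045ee000007ff000001ffc000007ff000001ffc000007ff0000008357c0007ff0000046b9cc0001a0520001ffc000007ff000001ffc000011f4230001ffc0002c829600004831a40007ff000001ffc000007ff0000521116c0007ff000001ffc000007ff000001ffc000011cf380001ffc000007ff000001ffc0000119f660001ffc000007ff000001ffc0002c8634e0001ffc000007ff0000b22b1200007ff000001ffc000000ad4b07220311c0007ff000001ffc0018887f440052344f80007ff00000440ce40007ff000052178fc0007ff000001ffc000007ff000001ffc001608a1300000411040001d0560001ffc000007ff000001ffc000007ff000001ffc001888143206220d4c40000a23a0001ffc000007ff000628a7c8c0007ff000001ffc001608552b0001ffc000007ff000001ffc000007ff000001ffc000007ff0000007d5880007ff000001ffc000007ff0004d2d40340003080a0000d28640007ff000000cc830000344180004d24740013431a0001ffc00100a33160001ffc000007ff000001ffc000007ff000001ffc000007ff000001ffc00100b240e0000d447c0013311b0232b5c200013071e0232860140002d80b0000610100002227c0000864240011830700044ddc802c84802005208c0400300100))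
 (.leaf (nat_lit 0x1ffc000007ff000001ffc000007ff000001ffc000007ff000001ffc0007897e800001ffc000007ff000001ffc000007ff000001ffc000007ff000001ffc000007ff000001ffc000007ff000001ffc000007ff000001ffc000007ff000000249800007ff0000002f16c1e99b9570001ffc000007ff000001ffc000001262e0001ffc000007ff0000003ad380007ff000001ffc000001494d07a65512c00012a3b0001ffc000010917100004bd101e998143000043d040007ff0000042edbc0001953d0001ffc0000016d3e0001ffc00000119480001ffc000001e13600045d09c0000e33f0001ffc001e993e390001ffc000010ea670004521900007ff000001ffc000001cc2f00045d8b4001118560001ffc0000019c350001ffc0000112e5f0001ffc000001c0280004439740007ff0000043894800116c580004651680007ff0000044a5880007ff0000004fd400007ff000001ffc000011e054000466d180007ff000001ffc000007ff000001ffc000007ff00000472d280011256a00005dd240007ff000001ffc000007ff000001ffc000011bf4200005d54c0007ff000001ffc000007ff000001ffc000007ff000001ffc000007ff0003c2d547c0003481a01e2d34740003140d0001ffc00078b471e0000c08580003000903c2ce438001301190001ffc0000032c120000ca02c00132b140001ffc000007ff000001ffc0000033a1703c2c4c700002e9080004c9c4c000239050004bfc600012e80c01e262c1c2022630600048e0280000c3020000210040010c204000420c0c01300300))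
) (.node (.leaf (nat_lit 0x208040000de3f0000239800000ba5b00002fc080000e74e0001ffc000001a4660001ffc000007ff000001ffc000007ff000001ffc000007ff000001ffc000007ff000001ffc000007ff000001ffc000007ff000001ffc000007ff000000471580007ff0000005bd602009b7640001ffc000007ff000001ffc000001c4420001ffc000007ff00000065d680709a3800001ffc000007ff000802548100007ff000001ffc0000108d850001ffc000007ff0003324400c0007ff0000042e6100cc9966706e8a30100cc96e6f0001ffc000cc91b710001ffc000007ff000001ffc000007ff000001ffc000007ff000001ffc000010e6820001ffc000007ff000001ffc000007ff000001ffc002160fa6000040dcc00007ff000001ffc00000109390001ffc000cc9c36a08783d8040007ff000004376182120fb5b08283f5380007ff000001ffc0000009b310682421100007ff000000804880007ff000001ffc000007ff000001ffc000010522a0004268e8000038470001ffc000007ff000001ffc000007ff00000005c000000533200008d4141588f32e0001ffc000007ff000001ffc000007ff000001ffc000b8a00370001ffc000007ff000001ffc000007ff000001ffc000007ff000001ffc000007ff000001ffc000007ff000001ffc000007ff000001ffc000007ff000001ffc000007ff000001ffc000007ff000001ffc0010cb1f0e0392c40340cdaed0c02e6b882c0a5af70a0266b40240de2c52201c2625f42022616600048d0a4000153630000445740010be8300042061c0010162b))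
 (.leaf (nat_lit 0x81c040003073f000081d800003075b0000c1c080003074e000100dfc0004036f0000c300c0004007b0000c0dc400040c720000c340c00040c500001015fc00040c6a0000c35c400040c0500010301000040d04000100d9c00030303000082d8000040c620000c2d6c0004056700010354000040d5600010358800030b2e000100d7c00040c560000c2d380004035200010341400030b4d0000c15c400030b3b0000c29c400010d000000c2d100004056f0000c2d0400040a6f00008311c00040b3d00010314800040b3e0000c012000030b4800010319c00040b360000c30d000030b3f0001035480003050300010299c00020d32000080980000404620000c34c000040b2f0000c34d000020d2b00004080000040b3500010297c000205010000c30a800040b280000830ac00040a520000830c800030c300000c34a80004002f0000834b0000307310000c0d04000403560001029580003042e0000c3094000208470001029400001050000008151c000207470000c349000020c2c000102d2400010800000041c0000020732000101c1400030c24000102d4c000308310000820c80002082b000100d8800040a620001035a800040a6a0001810780005030a000180c6400050609000180c3000060318000142c5800050b090001810300004060500014342800060b12000182c2c0005060800014302800060d0c0001830300006060b00014102800050b0800014281c00040b050001029c800040a04000100c1000030c710000c280c00030b02000082c0400020d4700004300000000000))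
))))

noncomputable def tF0_rules : LT :=
(.node (.node (.node (.node (.node (.node (.node (.node (.leaf [nat_lit 51,nat_lit 0,nat_lit 1,nat_lit 0,nat_lit 3,nat_lit 9,nat_lit 3,nat_lit 9])
 (.leaf [nat_lit 41,nat_lit 1,nat_lit 1,nat_lit 7,nat_lit 5,nat_lit 7,nat_lit 5])
) (.leaf [nat_lit 33,nat_lit 3,nat_lit 1,nat_lit 3,nat_lit 6,nat_lit 3,nat_lit 4,nat_lit 6])
) (.node (.leaf [nat_lit 61,nat_lit 3,nat_lit 1,nat_lit 1,nat_lit 10,nat_lit 0,nat_lit 1,nat_lit 10])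
 (.leaf [nat_lit 23,nat_lit 1,nat_lit 1,nat_lit 1,nat_lit 5,nat_lit 1,nat_lit 5])
)) (.node (.node (.leaf [nat_lit 90,nat_lit 3,nat_lit 1,nat_lit 10,nat_lit 12,nat_lit 10,nat_lit 13])
 (.leaf [nat_lit 91,nat_lit 3,nat_lit 1,nat_lit 8,nat_lit 12,nat_lit 8,nat_lit 13])
) (.node (.leaf [nat_lit 90,nat_lit 2,nat_lit 1,nat_lit 12,nat_lit 10,nat_lit 12,nat_lit 10])
 (.leaf [nat_lit 16,nat_lit 1,nat_lit 1,nat_lit 0,nat_lit 2,nat_lit 0,nat_lit 2])
))) (.node (.node (.node (.leaf [nat_lit 90,nat_lit 1,nat_lit 1,nat_lit 10,nat_lit 13,nat_lit 10,nat_lit 12])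
 (.leaf [nat_lit 89,nat_lit 0,nat_lit 1,nat_lit 13,nat_lit 6,nat_lit 13,nat_lit 6])
) (.node (.leaf [nat_lit 23,nat_lit 2,nat_lit 1,nat_lit 5,nat_lit 1,nat_lit 5,nat_lit 1])
 (.leaf [nat_lit 39,nat_lit 2,nat_lit 1,nat_lit 7,nat_lit 3,nat_lit 7,nat_lit 3,nat_lit 5])
)) (.node (.node (.leaf [nat_lit 17,nat_lit 1,nat_lit 1,nat_lit 0,nat_lit 3,nat_lit 0,nat_lit 3])
 (.leaf [nat_lit 39,nat_lit 3,nat_lit 1,nat_lit 3,nat_lit 7,nat_lit 3,nat_lit 5,nat_lit 7])
) (.node (.leaf [nat_lit 34,nat_lit 1,nat_lit 1,nat_lit 6,nat_lit 4,nat_lit 6,nat_lit 4])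
 (.leaf [nat_lit 87,nat_lit 4,nat_lit 1,nat_lit 12,nat_lit 2,nat_lit 5,nat_lit 12,nat_lit 5])
)))) (.node (.node (.node (.node (.node (.leaf [nat_lit 83,nat_lit 2,nat_lit 1,nat_lit 1,nat_lit 13,nat_lit 4,nat_lit 12])
 (.leaf [nat_lit 48,nat_lit 1,nat_lit 1,nat_lit 9,nat_lit 0,nat_lit 9,nat_lit 0])
) (.leaf [nat_lit 56,nat_lit 3,nat_lit 1,nat_lit 8,nat_lit 6,nat_lit 7,nat_lit 8,nat_lit 6])
) (.node (.leaf [nat_lit 64,nat_lit 3,nat_lit 1,nat_lit 4,nat_lit 10,nat_lit 3,nat_lit 4,nat_lit 10])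
 (.leaf [nat_lit 86,nat_lit 2,nat_lit 1,nat_lit 13,nat_lit 4,nat_lit 13,nat_lit 1,nat_lit 4])
)) (.node (.node (.leaf [nat_lit 74,nat_lit 2,nat_lit 1,nat_lit 6,nat_lit 11,nat_lit 6,nat_lit 11])
 (.leaf [nat_lit 46,nat_lit 3,nat_lit 1,nat_lit 4,nat_lit 8,nat_lit 4,nat_lit 5,nat_lit 8])
) (.node (.leaf [nat_lit 73,nat_lit 2,nat_lit 1,nat_lit 8,nat_lit 11,nat_lit 8,nat_lit 11])
 (.leaf [nat_lit 32,nat_lit 1,nat_lit 1,nat_lit 6,nat_lit 2,nat_lit 6,nat_lit 2])
))) (.node (.node (.node (.leaf [nat_lit 83,nat_lit 0,nat_lit 1,nat_lit 4,nat_lit 12,nat_lit 1,nat_lit 13])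
 (.leaf [nat_lit 63,nat_lit 1,nat_lit 1,nat_lit 10,nat_lit 3,nat_lit 10,nat_lit 3])
) (.node (.leaf [nat_lit 62,nat_lit 2,nat_lit 1,nat_lit 2,nat_lit 10,nat_lit 2,nat_lit 10])
 (.leaf [nat_lit 85,nat_lit 4,nat_lit 0,nat_lit 0,nat_lit 12,nat_lit 3,nat_lit 13,nat_lit 3])
)) (.node (.node (.leaf [nat_lit 39,nat_lit 4,nat_lit 1,nat_lit 7,nat_lit 3,nat_lit 5,nat_lit 7,nat_lit 3])
 (.leaf [nat_lit 59,nat_lit 1,nat_lit 1,nat_lit 9,nat_lit 8,nat_lit 9,nat_lit 8])
) (.node (.leaf [nat_lit 76,nat_lit 2,nat_lit 1,nat_lit 11,nat_lit 4,nat_lit 11,nat_lit 6,nat_lit 4])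
 (.leaf [nat_lit 85,nat_lit 4,nat_lit 1,nat_lit 12,nat_lit 0,nat_lit 3,nat_lit 12,nat_lit 3])
))))) (.node (.node (.node (.node (.node (.node (.leaf [nat_lit 33,nat_lit 1,nat_lit 1,nat_lit 4,nat_lit 6,nat_lit 3,nat_lit 6,nat_lit 3])
 (.leaf [nat_lit 87,nat_lit 2,nat_lit 1,nat_lit 13,nat_lit 5,nat_lit 13,nat_lit 2,nat_lit 5])
) (.leaf [nat_lit 35,nat_lit 2,nat_lit 1,nat_lit 5,nat_lit 6,nat_lit 5,nat_lit 6])
) (.node (.leaf [nat_lit 53,nat_lit 0,nat_lit 1,nat_lit 2,nat_lit 5,nat_lit 9,nat_lit 5,nat_lit 9])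
 (.leaf [nat_lit 28,nat_lit 1,nat_lit 1,nat_lit 3,nat_lit 5,nat_lit 3,nat_lit 5])
)) (.node (.node (.leaf [nat_lit 78,nat_lit 2,nat_lit 1,nat_lit 1,nat_lit 11,nat_lit 1,nat_lit 11])
 (.leaf [nat_lit 56,nat_lit 2,nat_lit 1,nat_lit 6,nat_lit 8,nat_lit 6,nat_lit 7,nat_lit 8])
) (.node (.leaf [nat_lit 77,nat_lit 3,nat_lit 1,nat_lit 5,nat_lit 11,nat_lit 7,nat_lit 5,nat_lit 11])
 (.leaf [nat_lit 24,nat_lit 2,nat_lit 1,nat_lit 3,nat_lit 2,nat_lit 3,nat_lit 2])
))) (.node (.node (.node (.leaf [nat_lit 86,nat_lit 0,nat_lit 1,nat_lit 1,nat_lit 4,nat_lit 12,nat_lit 4,nat_lit 13])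
 (.leaf [nat_lit 22,nat_lit 1,nat_lit 1,nat_lit 1,nat_lit 4,nat_lit 1,nat_lit 4])
) (.node (.leaf [nat_lit 43,nat_lit 2,nat_lit 1,nat_lit 8,nat_lit 1,nat_lit 8,nat_lit 1,nat_lit 2])
 (.leaf [nat_lit 42,nat_lit 1,nat_lit 1,nat_lit 8,nat_lit 0,nat_lit 8,nat_lit 0])
)) (.node (.node (.leaf [nat_lit 27,nat_lit 2,nat_lit 1,nat_lit 4,nat_lit 3,nat_lit 4,nat_lit 3])
 (.leaf [nat_lit 54,nat_lit 1,nat_lit 1,nat_lit 6,nat_lit 7,nat_lit 6,nat_lit 7])
) (.node (.leaf [nat_lit 46,nat_lit 2,nat_lit 1,nat_lit 8,nat_lit 4,nat_lit 8,nat_lit 4,nat_lit 5])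
 (.leaf [nat_lit 77,nat_lit 2,nat_lit 1,nat_lit 11,nat_lit 5,nat_lit 11,nat_lit 7,nat_lit 5])
)))) (.node (.node (.node (.node (.node (.leaf [nat_lit 86,nat_lit 3,nat_lit 1,nat_lit 4,nat_lit 13,nat_lit 1,nat_lit 4,nat_lit 12])
 (.leaf [nat_lit 92,nat_lit 16,nat_lit 1,nat_lit 14,nat_lit 9,nat_lit 3,nat_lit 11,nat_lit 3,nat_lit 13,nat_lit 9,nat_lit 9,nat_lit 13,nat_lit 9,nat_lit 2,nat_lit 3,nat_lit 11,nat_lit 3,nat_lit 13,nat_lit 9,nat_lit 9,nat_lit 13,nat_lit 9,nat_lit 3,nat_lit 11,nat_lit 3,nat_lit 13,nat_lit 9,nat_lit 9,nat_lit 13])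
) (.leaf [nat_lit 66,nat_lit 3,nat_lit 1,nat_lit 10,nat_lit 6,nat_lit 10,nat_lit 6,nat_lit 10,nat_lit 6])
) (.node (.leaf [nat_lit 67,nat_lit 1,nat_lit 1,nat_lit 7,nat_lit 10,nat_lit 7,nat_lit 10,nat_lit 8])
 (.leaf [nat_lit 24,nat_lit 1,nat_lit 1,nat_lit 2,nat_lit 3,nat_lit 2,nat_lit 3])
)) (.node (.node (.leaf [nat_lit 72,nat_lit 2,nat_lit 1,nat_lit 9,nat_lit 11,nat_lit 9,nat_lit 11])
 (.leaf [nat_lit 56,nat_lit 0,nat_lit 1,nat_lit 7,nat_lit 8,nat_lit 6,nat_lit 8,nat_lit 6])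
) (.node (.leaf [nat_lit 25,nat_lit 1,nat_lit 1,nat_lit 2,nat_lit 4,nat_lit 2,nat_lit 4])
 (.leaf [nat_lit 62,nat_lit 1,nat_lit 1,nat_lit 10,nat_lit 2,nat_lit 10,nat_lit 2])
))) (.node (.node (.node (.leaf [nat_lit 89,nat_lit 3,nat_lit 1,nat_lit 6,nat_lit 12,nat_lit 6,nat_lit 13])
 (.leaf [nat_lit 64,nat_lit 2,nat_lit 1,nat_lit 10,nat_lit 4,nat_lit 10,nat_lit 3,nat_lit 4])
) (.node (.leaf [nat_lit 67,nat_lit 3,nat_lit 1,nat_lit 7,nat_lit 10,nat_lit 8,nat_lit 7,nat_lit 10])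
 (.leaf [nat_lit 87,nat_lit 3,nat_lit 1,nat_lit 5,nat_lit 13,nat_lit 2,nat_lit 5,nat_lit 12])
)) (.node (.node (.leaf [nat_lit 70,nat_lit 3,nat_lit 1,nat_lit 11,nat_lit 3,nat_lit 11,nat_lit 3,nat_lit 11,nat_lit 3])
 (.leaf [nat_lit 38,nat_lit 2,nat_lit 1,nat_lit 2,nat_lit 7,nat_lit 2,nat_lit 7])
) (.node (.leaf [nat_lit 31,nat_lit 2,nat_lit 1,nat_lit 1,nat_lit 6,nat_lit 1,nat_lit 6])
 (.leaf [nat_lit 8,nat_lit 0,nat_lit 0,nat_lit 14,nat_lit 7,nat_lit 7])
)))))) (.node (.node (.node (.node (.node (.node (.node (.leaf [nat_lit 30,nat_lit 1,nat_lit 1,nat_lit 1,nat_lit 6,nat_lit 0,nat_lit 6,nat_lit 0])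
 (.leaf [nat_lit 53,nat_lit 2,nat_lit 1,nat_lit 9,nat_lit 5,nat_lit 9,nat_lit 2,nat_lit 5])
) (.leaf [nat_lit 34,nat_lit 2,nat_lit 1,nat_lit 4,nat_lit 6,nat_lit 4,nat_lit 6])
) (.node (.leaf [nat_lit 69,nat_lit 2,nat_lit 1,nat_lit 9,nat_lit 10,nat_lit 9,nat_lit 10])
 (.leaf [nat_lit 26,nat_lit 1,nat_lit 1,nat_lit 2,nat_lit 5,nat_lit 2,nat_lit 5])
)) (.node (.node (.leaf [nat_lit 81,nat_lit 1,nat_lit 0,nat_lit 13,nat_lit 12,nat_lit 12])
 (.leaf [nat_lit 45,nat_lit 1,nat_lit 1,nat_lit 8,nat_lit 3,nat_lit 8,nat_lit 3])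
) (.node (.leaf [nat_lit 79,nat_lit 2,nat_lit 1,nat_lit 2,nat_lit 11,nat_lit 2,nat_lit 11])
 (.leaf [nat_lit 20,nat_lit 1,nat_lit 1,nat_lit 1,nat_lit 2,nat_lit 1,nat_lit 2])
))) (.node (.node (.node (.leaf [nat_lit 85,nat_lit 0,nat_lit 1,nat_lit 0,nat_lit 3,nat_lit 12,nat_lit 3,nat_lit 13])
 (.leaf [nat_lit 13,nat_lit 0,nat_lit 0,nat_lit 14,nat_lit 12,nat_lit 13])
) (.node (.leaf [nat_lit 77,nat_lit 0,nat_lit 1,nat_lit 7,nat_lit 5,nat_lit 11,nat_lit 5,nat_lit 11])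
 (.leaf [nat_lit 51,nat_lit 0,nat_lit 0,nat_lit 9,nat_lit 3,nat_lit 9,nat_lit 3,nat_lit 0])
)) (.node (.node (.leaf [nat_lit 21,nat_lit 1,nat_lit 1,nat_lit 1,nat_lit 3,nat_lit 1,nat_lit 3])
 (.leaf [nat_lit 41,nat_lit 2,nat_lit 1,nat_lit 5,nat_lit 7,nat_lit 5,nat_lit 7])
) (.node (.leaf [nat_lit 40,nat_lit 1,nat_lit 1,nat_lit 7,nat_lit 4,nat_lit 7,nat_lit 4])
 (.leaf [nat_lit 87,nat_lit 4,nat_lit 0,nat_lit 2,nat_lit 12,nat_lit 5,nat_lit 13,nat_lit 5])
)))) (.node (.node (.node (.node (.node (.leaf [nat_lit 85,nat_lit 3,nat_lit 1,nat_lit 3,nat_lit 13,nat_lit 0,nat_lit 3,nat_lit 12])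
 (.leaf [nat_lit 85,nat_lit 2,nat_lit 1,nat_lit 13,nat_lit 3,nat_lit 13,nat_lit 0,nat_lit 3])
) (.leaf [nat_lit 57,nat_lit 1,nat_lit 1,nat_lit 9,nat_lit 6,nat_lit 9,nat_lit 6])
) (.node (.leaf [nat_lit 46,nat_lit 1,nat_lit 1,nat_lit 5,nat_lit 8,nat_lit 4,nat_lit 8,nat_lit 4])
 (.leaf [nat_lit 28,nat_lit 2,nat_lit 1,nat_lit 5,nat_lit 3,nat_lit 5,nat_lit 3])
)) (.node (.node (.leaf [nat_lit 71,nat_lit 3,nat_lit 1,nat_lit 0,nat_lit 11,nat_lit 9,nat_lit 0,nat_lit 11])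
 (.leaf [nat_lit 43,nat_lit 3,nat_lit 1,nat_lit 1,nat_lit 8,nat_lit 1,nat_lit 2,nat_lit 8])
) (.node (.leaf [nat_lit 18,nat_lit 1,nat_lit 1,nat_lit 0,nat_lit 4,nat_lit 0,nat_lit 4])
 (.leaf [nat_lit 50,nat_lit 1,nat_lit 1,nat_lit 9,nat_lit 2,nat_lit 9,nat_lit 2])
))) (.node (.node (.node (.leaf [nat_lit 84,nat_lit 0,nat_lit 1,nat_lit 5,nat_lit 12,nat_lit 2,nat_lit 13])
 (.leaf [nat_lit 27,nat_lit 1,nat_lit 1,nat_lit 3,nat_lit 4,nat_lit 3,nat_lit 4])
) (.node (.leaf [nat_lit 65,nat_lit 2,nat_lit 1,nat_lit 5,nat_lit 10,nat_lit 5,nat_lit 10])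
 (.leaf [nat_lit 84,nat_lit 2,nat_lit 1,nat_lit 2,nat_lit 13,nat_lit 5,nat_lit 12])
)) (.node (.node (.leaf [nat_lit 51,nat_lit 2,nat_lit 1,nat_lit 9,nat_lit 3,nat_lit 9,nat_lit 0,nat_lit 3])
 (.leaf [nat_lit 36,nat_lit 3,nat_lit 1,nat_lit 0,nat_lit 7,nat_lit 0,nat_lit 2,nat_lit 7])
) (.node (.leaf [nat_lit 30,nat_lit 3,nat_lit 1,nat_lit 0,nat_lit 6,nat_lit 0,nat_lit 1,nat_lit 6])
 (.leaf [nat_lit 82,nat_lit 1,nat_lit 1,nat_lit 13,nat_lit 0,nat_lit 13,nat_lit 3])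
))))) (.node (.node (.node (.node (.node (.node (.leaf [nat_lit 82,nat_lit 2,nat_lit 1,nat_lit 0,nat_lit 13,nat_lit 3,nat_lit 12])
 (.leaf [nat_lit 92,nat_lit 0,nat_lit 1,nat_lit 2,nat_lit 3,nat_lit 11,nat_lit 3,nat_lit 13,nat_lit 9,nat_lit 9,nat_lit 13,nat_lit 9,nat_lit 3,nat_lit 11,nat_lit 3,nat_lit 13,nat_lit 9,nat_lit 9,nat_lit 13,nat_lit 9,nat_lit 3,nat_lit 11,nat_lit 3,nat_lit 13,nat_lit 9,nat_lit 9,nat_lit 13,nat_lit 9])
) (.leaf [nat_lit 54,nat_lit 2,nat_lit 1,nat_lit 7,nat_lit 6,nat_lit 7,nat_lit 6])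
) (.node (.leaf [nat_lit 63,nat_lit 2,nat_lit 1,nat_lit 3,nat_lit 10,nat_lit 3,nat_lit 10])
 (.leaf [nat_lit 29,nat_lit 1,nat_lit 1,nat_lit 4,nat_lit 5,nat_lit 4,nat_lit 5])
)) (.node (.node (.leaf [nat_lit 76,nat_lit 3,nat_lit 1,nat_lit 4,nat_lit 11,nat_lit 6,nat_lit 4,nat_lit 11])
 (.leaf [nat_lit 67,nat_lit 4,nat_lit 1,nat_lit 10,nat_lit 8,nat_lit 7,nat_lit 10,nat_lit 7])
) (.node (.leaf [nat_lit 75,nat_lit 2,nat_lit 1,nat_lit 7,nat_lit 11,nat_lit 7,nat_lit 11])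
 (.leaf [nat_lit 25,nat_lit 2,nat_lit 1,nat_lit 4,nat_lit 2,nat_lit 4,nat_lit 2])
))) (.node (.node (.node (.leaf [nat_lit 82,nat_lit 0,nat_lit 1,nat_lit 3,nat_lit 12,nat_lit 0,nat_lit 13])
 (.leaf [nat_lit 33,nat_lit 4,nat_lit 1,nat_lit 6,nat_lit 3,nat_lit 4,nat_lit 6,nat_lit 3])
) (.node (.leaf [nat_lit 80,nat_lit 6,nat_lit 1,nat_lit 10,nat_lit 11,nat_lit 10,nat_lit 11,nat_lit 10,nat_lit 11,nat_lit 10,nat_lit 11])
 (.leaf [nat_lit 60,nat_lit 1,nat_lit 1,nat_lit 10,nat_lit 0,nat_lit 10,nat_lit 0])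
)) (.node (.node (.leaf [nat_lit 33,nat_lit 2,nat_lit 1,nat_lit 6,nat_lit 3,nat_lit 6,nat_lit 3,nat_lit 4])
 (.leaf [nat_lit 58,nat_lit 1,nat_lit 1,nat_lit 9,nat_lit 7,nat_lit 9,nat_lit 7])
) (.node (.leaf [nat_lit 52,nat_lit 2,nat_lit 1,nat_lit 9,nat_lit 4,nat_lit 9,nat_lit 1,nat_lit 4])
 (.leaf [nat_lit 19,nat_lit 2,nat_lit 1,nat_lit 5,nat_lit 0,nat_lit 5,nat_lit 0])
)))) (.node (.node (.node (.node (.node (.leaf [nat_lit 89,nat_lit 1,nat_lit 1,nat_lit 6,nat_lit 13,nat_lit 6,nat_lit 12])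
 (.leaf [nat_lit 56,nat_lit 1,nat_lit 1,nat_lit 14,nat_lit 8,nat_lit 6,nat_lit 8,nat_lit 6,nat_lit 7])
) (.leaf [nat_lit 89,nat_lit 2,nat_lit 1,nat_lit 12,nat_lit 6,nat_lit 12,nat_lit 6])
) (.node (.leaf [nat_lit 91,nat_lit 1,nat_lit 1,nat_lit 8,nat_lit 13,nat_lit 8,nat_lit 12])
 (.leaf [nat_lit 39,nat_lit 1,nat_lit 1,nat_lit 5,nat_lit 7,nat_lit 3,nat_lit 7,nat_lit 3])
)) (.node (.node (.leaf [nat_lit 88,nat_lit 1,nat_lit 1,nat_lit 9,nat_lit 13,nat_lit 9,nat_lit 13])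
 (.leaf [nat_lit 67,nat_lit 2,nat_lit 1,nat_lit 10,nat_lit 7,nat_lit 10,nat_lit 8,nat_lit 7])
) (.node (.leaf [nat_lit 29,nat_lit 2,nat_lit 1,nat_lit 5,nat_lit 4,nat_lit 5,nat_lit 4])
 (.leaf [nat_lit 26,nat_lit 2,nat_lit 1,nat_lit 5,nat_lit 2,nat_lit 5,nat_lit 2])
))) (.node (.node (.node (.leaf [nat_lit 88,nat_lit 2,nat_lit 0,nat_lit 9,nat_lit 12,nat_lit 9,nat_lit 12])
 (.leaf [nat_lit 80,nat_lit 0,nat_lit 1,nat_lit 14,nat_lit 10,nat_lit 11,nat_lit 10,nat_lit 11,nat_lit 10,nat_lit 11,nat_lit 10,nat_lit 11])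
) (.node (.leaf [nat_lit 68,nat_lit 2,nat_lit 1,nat_lit 8,nat_lit 10,nat_lit 8,nat_lit 10])
 (.leaf [nat_lit 53,nat_lit 0,nat_lit 0,nat_lit 9,nat_lit 5,nat_lit 9,nat_lit 5,nat_lit 2])
)) (.node (.node (.leaf [nat_lit 60,nat_lit 2,nat_lit 1,nat_lit 0,nat_lit 10,nat_lit 0,nat_lit 10])
 (.leaf [nat_lit 19,nat_lit 1,nat_lit 1,nat_lit 0,nat_lit 5,nat_lit 0,nat_lit 5])
) (.node (.leaf [nat_lit 32,nat_lit 2,nat_lit 1,nat_lit 2,nat_lit 6,nat_lit 2,nat_lit 6])
 (.leaf [nat_lit 1,nat_lit 0,nat_lit 0,nat_lit 14,nat_lit 0,nat_lit 0])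
)))))))

noncomputable def tF0_subs : LT :=
(.node (.node (.node (.leaf [nat_lit 0,nat_lit 2,nat_lit 0,nat_lit 3])
 (.leaf [nat_lit 0,nat_lit 3,nat_lit 0,nat_lit 11])
) (.leaf [nat_lit 0,nat_lit 1,nat_lit 0,nat_lit 9])
) (.node (.leaf [nat_lit 0,nat_lit 4,nat_lit 0,nat_lit 6])
 (.leaf [nat_lit 0,nat_lit 5,nat_lit 0,nat_lit 10])
))

noncomputable def tF0 : TC :=
  ⟨fun x c => Nat.shiftRight (BT.get tF0_t x) (Nat.mul (nat_lit 34) c),
  (nat_lit 8), (nat_lit 255), (nat_lit 524287), (nat_lit 19), (nat_lit 32767), (nat_lit 524032), (nat_lit 15), (nat_lit 136), (nat_lit 14), (nat_lit 0), (nat_lit 14), (nat_lit 15), tF0_inv, tF0_rules, tF0_subs⟩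

theorem tF0_c1 : tF0.rules.all (ruleOK tF0.m tF0.inv tF0_rels) = true := by decide +kernel
theorem tF0_c2 : tF0.subs.all (subOK tF0.m tF0.inv tF0_hws) = true := by decide +kernel
theorem tF0_c3 : tF0.base = true := by decide +kernel

theorem tF0_s0 : tF0.slots (nat_lit 0) (nat_lit 136) = true := by decide +kernel

theorem tF0_e0 : allRange (nat_lit 15) (nat_lit 121) tF0.slotE = true := by decide +kernel

theorem tF0_c4 : tF0.Upto tF0.N := ((TC.upto_zero tF0).step _ tF0_s0)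
theorem tF0_c5 : tF0.UptoE tF0.N := ((TC.uptoE_n tF0).step _ tF0_e0)
theorem tF0_bound {G : Type*} [Group G] {g : ℕ → G} {H : Subgroup G} (hinv : ∀ x < 14, g x * g (tF0_inv x) = 1)
    (hrels : ∀ i, evalW g (tF0_rels.get i) = 1) (hH : ∀ x < 0, g x ∈ H) (hhws : ∀ i, evalW g (tF0_hws.get i) ∈ H) :
    H.relIndex (genLt g 14) ≠ 0 ∧ H.relIndex (genLt g 14) ≤ 15 :=
  TC.relIndex_le (T := tF0) hinv hrels hH hhws tF0_c1 tF0_c2 tF0_c3 tF0_c4 tF0_c5

theorem tF0_bd : BoundW.{u} (relH ++ relY false false ++ exF0) WS 14 15 := fun _ _ _ _ hs hH =>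
  tF0_bound (hs.hinv (by decide +kernel)) (hs.tree (by decide +kernel)) (letters_mem hH (by decide +kernel))
    (leaves_mem hH (by decide +kernel))

def exF1 : List (List ℕ) :=
  [[9, 12, 9, 9, 12, 3, 11, 3, 9, 12, 9, 9, 12, 3, 11, 3, 9, 12, 9, 9, 12, 3, 11, 3, 5, 7]]

noncomputable def tF1_rels : LT :=
(.node (.node (.node (.node (.node (.node (.node (.leaf [])
 (.leaf [nat_lit 10,nat_lit 4,nat_lit 10,nat_lit 4,nat_lit 3])
) (.leaf [nat_lit 6,nat_lit 2,nat_lit 6,nat_lit 2])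
) (.node (.node (.leaf [nat_lit 0,nat_lit 2,nat_lit 0,nat_lit 2])
 (.leaf [nat_lit 11,nat_lit 10,nat_lit 11,nat_lit 10,nat_lit 11,nat_lit 10,nat_lit 11,nat_lit 10])
) (.leaf [nat_lit 9,nat_lit 0,nat_lit 9,nat_lit 0])
)) (.node (.node (.node (.leaf [nat_lit 7,nat_lit 7])
 (.leaf [nat_lit 11,nat_lit 9,nat_lit 11,nat_lit 9])
) (.leaf [nat_lit 7,nat_lit 4,nat_lit 7,nat_lit 4])
) (.node (.node (.leaf [nat_lit 2,nat_lit 3,nat_lit 2,nat_lit 3])
 (.leaf [nat_lit 9,nat_lit 12,nat_lit 9,nat_lit 12])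
) (.leaf [nat_lit 6,nat_lit 8,nat_lit 6,nat_lit 8,nat_lit 7])
))) (.node (.node (.node (.node (.leaf [nat_lit 3,nat_lit 3])
 (.leaf [nat_lit 10,nat_lit 8,nat_lit 10,nat_lit 8])
) (.leaf [nat_lit 7,nat_lit 0,nat_lit 7,nat_lit 2,nat_lit 0])
) (.node (.node (.leaf [nat_lit 1,nat_lit 2,nat_lit 1,nat_lit 2])
 (.leaf [nat_lit 12,nat_lit 2,nat_lit 13,nat_lit 5])
) (.leaf [nat_lit 9,nat_lit 4,nat_lit 9,nat_lit 4,nat_lit 1])
)) (.node (.node (.node (.leaf [nat_lit 11,nat_lit 11])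
 (.leaf [nat_lit 11,nat_lit 4,nat_lit 11,nat_lit 4,nat_lit 6])
) (.leaf [nat_lit 8,nat_lit 2,nat_lit 8,nat_lit 2])
) (.node (.node (.leaf [nat_lit 3,nat_lit 5,nat_lit 3,nat_lit 5])
 (.leaf [nat_lit 9,nat_lit 12,nat_lit 9,nat_lit 9,nat_lit 12,nat_lit 3,nat_lit 11,nat_lit 3,nat_lit 9,nat_lit 12,nat_lit 9,nat_lit 9,nat_lit 12,nat_lit 3,nat_lit 11,nat_lit 3,nat_lit 9,nat_lit 12,nat_lit 9,nat_lit 9,nat_lit 12,nat_lit 3,nat_lit 11,nat_lit 3,nat_lit 5,nat_lit 7])
) (.leaf [nat_lit 10,nat_lit 0,nat_lit 10,nat_lit 0])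
)))) (.node (.node (.node (.node (.node (.leaf [nat_lit 1,nat_lit 1])
 (.leaf [nat_lit 10,nat_lit 6,nat_lit 10,nat_lit 6,nat_lit 10,nat_lit 6])
) (.leaf [nat_lit 6,nat_lit 4,nat_lit 6,nat_lit 4])
) (.node (.node (.leaf [nat_lit 0,nat_lit 4,nat_lit 0,nat_lit 4])
 (.leaf [nat_lit 12,nat_lit 0,nat_lit 13,nat_lit 3])
) (.leaf [nat_lit 9,nat_lit 2,nat_lit 9,nat_lit 2])
)) (.node (.node (.node (.leaf [nat_lit 9,nat_lit 9])
 (.leaf [nat_lit 11,nat_lit 6,nat_lit 11,nat_lit 6])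
) (.leaf [nat_lit 8,nat_lit 0,nat_lit 8,nat_lit 0])
) (.node (.node (.leaf [nat_lit 2,nat_lit 5,nat_lit 2,nat_lit 5])
 (.leaf [nat_lit 10,nat_lit 12,nat_lit 10,nat_lit 13])
) (.leaf [nat_lit 9,nat_lit 7,nat_lit 9,nat_lit 7])
))) (.node (.node (.node (.node (.leaf [nat_lit 5,nat_lit 5])
 (.leaf [nat_lit 11,nat_lit 3,nat_lit 11,nat_lit 3,nat_lit 11,nat_lit 3])
) (.leaf [nat_lit 7,nat_lit 2,nat_lit 7,nat_lit 2])
) (.node (.node (.leaf [nat_lit 1,nat_lit 4,nat_lit 1,nat_lit 4])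
 (.leaf [nat_lit 12,nat_lit 4,nat_lit 13,nat_lit 4,nat_lit 1])
) (.leaf [nat_lit 6,nat_lit 7,nat_lit 6,nat_lit 7])
)) (.node (.node (.node (.leaf [nat_lit 13,nat_lit 12])
 (.leaf [nat_lit 11,nat_lit 1,nat_lit 11,nat_lit 1])
) (.leaf [nat_lit 8,nat_lit 4,nat_lit 8,nat_lit 5,nat_lit 4])
) (.node (.leaf [nat_lit 6,nat_lit 0,nat_lit 6,nat_lit 1,nat_lit 0])
 (.leaf [nat_lit 10,nat_lit 2,nat_lit 10,nat_lit 2])
))))) (.node (.node (.node (.node (.node (.node (.leaf [nat_lit 0,nat_lit 0])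
 (.leaf [nat_lit 10,nat_lit 5,nat_lit 10,nat_lit 5])
) (.leaf [nat_lit 6,nat_lit 3,nat_lit 6,nat_lit 4,nat_lit 3])
) (.node (.node (.leaf [nat_lit 0,nat_lit 3,nat_lit 0,nat_lit 3])
 (.leaf [nat_lit 12,nat_lit 12,nat_lit 12])
) (.leaf [nat_lit 9,nat_lit 1,nat_lit 9,nat_lit 1])
)) (.node (.node (.node (.leaf [nat_lit 8,nat_lit 8])
 (.leaf [nat_lit 11,nat_lit 8,nat_lit 11,nat_lit 8])
) (.leaf [nat_lit 7,nat_lit 5,nat_lit 7,nat_lit 5])
) (.node (.node (.leaf [nat_lit 2,nat_lit 4,nat_lit 2,nat_lit 4])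
 (.leaf [nat_lit 6,nat_lit 12,nat_lit 6,nat_lit 13])
) (.leaf [nat_lit 9,nat_lit 6,nat_lit 9,nat_lit 6])
))) (.node (.node (.node (.node (.leaf [nat_lit 4,nat_lit 4])
 (.leaf [nat_lit 10,nat_lit 9,nat_lit 10,nat_lit 9])
) (.leaf [nat_lit 7,nat_lit 1,nat_lit 7,nat_lit 1])
) (.node (.node (.leaf [nat_lit 1,nat_lit 3,nat_lit 1,nat_lit 3])
 (.leaf [nat_lit 12,nat_lit 3,nat_lit 13,nat_lit 3,nat_lit 0])
) (.leaf [nat_lit 9,nat_lit 5,nat_lit 9,nat_lit 5,nat_lit 2])
)) (.node (.node (.node (.leaf [nat_lit 12,nat_lit 13])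
 (.leaf [nat_lit 11,nat_lit 5,nat_lit 11,nat_lit 5,nat_lit 7])
) (.leaf [nat_lit 8,nat_lit 3,nat_lit 8,nat_lit 3])
) (.node (.leaf [nat_lit 4,nat_lit 5,nat_lit 4,nat_lit 5])
 (.leaf [nat_lit 10,nat_lit 1,nat_lit 10,nat_lit 1,nat_lit 0])
)))) (.node (.node (.node (.node (.node (.leaf [nat_lit 2,nat_lit 2])
 (.leaf [nat_lit 10,nat_lit 7,nat_lit 10,nat_lit 7,nat_lit 8])
) (.leaf [nat_lit 6,nat_lit 5,nat_lit 6,nat_lit 5])
) (.node (.node (.leaf [nat_lit 0,nat_lit 5,nat_lit 0,nat_lit 5])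
 (.leaf [nat_lit 12,nat_lit 1,nat_lit 13,nat_lit 4])
) (.leaf [nat_lit 9,nat_lit 3,nat_lit 9,nat_lit 3,nat_lit 0])
)) (.node (.node (.node (.leaf [nat_lit 10,nat_lit 10])
 (.leaf [nat_lit 11,nat_lit 7,nat_lit 11,nat_lit 7])
) (.leaf [nat_lit 8,nat_lit 1,nat_lit 8,nat_lit 2,nat_lit 1])
) (.node (.node (.leaf [nat_lit 3,nat_lit 4,nat_lit 3,nat_lit 4])
 (.leaf [nat_lit 8,nat_lit 12,nat_lit 8,nat_lit 13])
) (.leaf [nat_lit 9,nat_lit 8,nat_lit 9,nat_lit 8])
))) (.node (.node (.node (.node (.leaf [nat_lit 6,nat_lit 6])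
 (.leaf [nat_lit 11,nat_lit 0,nat_lit 11,nat_lit 0,nat_lit 9])
) (.leaf [nat_lit 7,nat_lit 3,nat_lit 7,nat_lit 5,nat_lit 3])
) (.node (.node (.leaf [nat_lit 1,nat_lit 5,nat_lit 1,nat_lit 5])
 (.leaf [nat_lit 12,nat_lit 5,nat_lit 13,nat_lit 5,nat_lit 2])
) (.leaf [nat_lit 7,nat_lit 8,nat_lit 7,nat_lit 8])
)) (.node (.node (.node (.leaf [nat_lit 0,nat_lit 1,nat_lit 0,nat_lit 1])
 (.leaf [nat_lit 11,nat_lit 2,nat_lit 11,nat_lit 2])
) (.leaf [nat_lit 8,nat_lit 5,nat_lit 8,nat_lit 5])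
) (.node (.leaf [nat_lit 6,nat_lit 1,nat_lit 6,nat_lit 1])
 (.leaf [nat_lit 10,nat_lit 3,nat_lit 10,nat_lit 3])
))))))
noncomputable def tF1_hws : LT :=
(.node (.node (.node (.leaf [])
 (.leaf [nat_lit 6])
) (.leaf [nat_lit 3])
) (.node (.node (.leaf [nat_lit 9])
 (.leaf [nat_lit 10])
) (.leaf [nat_lit 11])
))
noncomputable def tF1_inv : ℕ → ℕ := getP (nat_lit 8) (nat_lit 255) (nat_lit 0xc0d0b0a09080706050403020100)

noncomputable def tF1_t : BT :=
(.node (.node (.node (.node (.leaf (nat_lit 0xe2810632386080007ff000001ffc000000ea7d06323a5f81e0a306a0001ffc0000ca29660001ffc0014095d040001ffc000007ff000322805840007ff000000954140007ff0000e26a5ec060a516d0182561940000cf030000949c00007ff000000635880002317c0712159a40007ff000001ffc0000022a7a0000565bc03889f5c0001ffc0014098c6b0001ffc000007ff000182429380007ff000001ffc000000a0640001ffc000007ff000001ffc001c4867580001ffc00038955570001ffc000007ff000001ffc000007ff000782371300007ff000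001ffc000007ff000000464080000dd5107120c52c0007ff000000350f00007ff0000000f8c00007ff0007589a5840007ff0000007f0980007ff0000e24d0dc07c965360001ffc000007ff000001ffc0000c8d3490001ffc0000c85e3a0001ffc0018c8a8310001ffc0000016640003208cd416c893340502050cc0007ff0000002a4e018c83d470001ffc0016c80a2e0001ffc000007ff000001ffc000007ff000552078a40007ff000001ffc000609fb430001ffc000007ff0005020d08c0007ff0000321f0840007ff000001ffc000007ff000001ffc000007ff000001ffc000007ff000000cd45000032f130001ffc000e8a3b160001ffc00038b341900e2cb8600007ff000001ffc000007ff000001ffc000e8b280e0322c4434038afa0c01f6b7424038a430a0000b782c07c99c06018264dc800019d080004951cc00015e7800e2339b80011184d00321100400080200))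
 (.leaf (nat_lit 0x7ff000001ffc000007ff000001ffc000007ff000001ffc000007ff000001ffc000007ff000001ffc00000203750001ffc000007ff000372809e00007ff000001ffc000007ff000001ffc000007ff0000007f898000180280000835740007ff000000745500002134f00002f9200007ff000001ffc000001f24500007950c000133410000784fc0007ff0003727a0100007ff000001ffc000007ff0004f2831b400012f370001ffc000007ff000001ffc000007ff000001ffc000007ff000001ffc000ac9d06b0001ffc000007ff000001ffc000007ff000542849a80007ff000001ffc000007ff00000020cbc1509060200003d4b41508bd6900041a8ac0007ff0004f27c5980007ff000272791940007ff0002b24c9900002072502b27818c0007ff000001ffc000007ff000001ffc000007ff0004f22e0040007ff0002b24b9700001ee220001ffc000007ff000001ffc000007ff000001ffc000007ff0005422092c00103f2a04f23d1240ac9840300001ad1c0000402e0000074000ac97f6e05427dc1409c9fd6f0302819000dc92b3d0001ffc000c09ed3604f21f4d40007ff000001ffc000007ff000001ffc000007ff000001ffc000007ff000001ffc000007ff000001ffc000007ff000001ffc000007ff000001ffc000007ff000001ffc000007ff000001ffc00104b2a0e0372c58340acaf50c0306b8c2c0adad30a0276b5c241022c70806f89fc980da2d00600007e09c0001e9610000614b00001074a00002e4e400101c29))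
) (.node (.leaf (nat_lit 0x7ff000001ffc000007ff000001ffc000007ff000001ffc000007ff000001ffc000007ff000001ffc000007ff000001ffc000007ff000000801040007ff000001ffc000007ff000001ffc000007ff000001ffc000007ff000001ffc000007ff000001ffc000007ff0000a213da40007ff000001ffc000007ff0001a24f5940408a1640001ffc000007ff00000079cdc0007ff000001ffc000007ff000001ffc000408905c0001ffc000007ff000001ffc000007ff000001ffc000007ff000001ffc000007ff000001ffc000007ff000001ffc000007ff000001ffc000007ff000001ffc000007ff0000a20b52c0007ff000001ffc000007ff0006f20651c0007ff000001ffc000007ff000001ffc000007ff0000047fdd40007ff000001ffc000007ff000001ffc000007ff00002271cb40007ff000001ffc000007ff000004799840002260900620a0d40007ff000001ffc000007ff000001ffc000007ff000001ffc0017880d2e0000720ec0007ff000001ffc000007ff000001ffc000007ff000001ffc000007ff000001ffc00000129210001ffc000007ff0000044a0900007ff000000d50780013531f01a2d40680f8aff160001ffc000003511d0102c286000030b190000cec300003001c0000d1c400007ff000001ffc000003220e0001ffc00028b46150001ffc000f8b21120000c402800133a170242ba42000130f0d0242894d80002ea0b01a26541c0da2cd0900a253c140509430401023400c0288750200621240400880600))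
 (.leaf (nat_lit 0x7ff000001ffc000007ff000001ffc000007ff000001ffc0000022d650001ffc000007ff000001ffc000007ff000001ffc00000237040001ffc000001b2570802969bc0007ff0007c897d940007ff000001ffc000007ff0000005c5a80007ff0000047694000016f64000012cb80007ff000001ffc000007ff00000489de800116a6d0001ffc000007ff000001ffc000007ff000001ffc000007ff0000008453c00114a660001ffc000007ff000001ffc00000065330001ffc000007ff000001ffc000007ff000001ffc000007ff00000036cc40007ff00000083d040007ff000001ffc000000af3000000a8000001022b0001ffc000000bb2a00041bd240007ff0000007d89c00024c420001ffc0000024a360004829740007ff000001ffc000007ff000001ffc000007ff000001ffc000007ff000001ffc000007ff0000047bd14001245440001ffc000007ff000004170e80007ff000004344f00010ac4e0000200a4001042010001ffc000007ff0000043bcb40010b63900041e8840007ff0000007d0dc0007ff000001ffc000007ff000001ffc000007ff000001ffc000007ff000001ffc000007ff000001ffc00110b01160001ffc000007ff000001ffc000007ff000001ffc000002f0120001ffc000007ff000001ffc000007ff000001ffc000003450c0001ffc00110b260e01c8d94280013400f0316b942c00131a110428b10181122bf0907389b9bc0002c208000053570001235790004689a0000073470000135a400102135))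
)) (.node (.node (.leaf (nat_lit 0x7ff000001ffc000007ff000001ffc000007ff000001ffc000007ff0002825e4100007ff000001ffc000007ff000001ffc001e4a38740001ffc000007ff000001ffc000002174602826a1e00007ff000001ffc00000138630001ffc000a08ed0300006f1680007ff0000001a5600001dd500001ffc000007ff0000006b9780007ff0002824ddb80007ff000001ffc000007ff0006d242d381b49ad650001ffc000007ff0006d26dc1c1449bb6b02d26fc201e4868690282399700a0954640001ffc000007ff000001ffc000007ff000792379301a49dc680001ffc0000010c5f074247c080007ff000004244d00007ff000000358f00007ff000001ffc001b4a16720001ffc000007ff000001ffc000007ff000001ffc000007ff000001ffc000b4a1a060512218041a48d5490001ffc001a485f350001ffc001908a4310001ffc000007ff000000180e80000924b00000d88c0007ff000000294e019083b470001ffc00000009000001ffc000007ff000001ffc000007ff000001ffc000007ff000001ffc000007ff000001ffc000007ff0005120d4cc0007ff000001ffc000007ff000001ffc000007ff000001ffc000007ff000001ffc000007ff000001ffc000007ff000001ffc000007ff000001ffc000007ff000001ffc000007ff000001ffc000007ff000001ffc000f0b200e0332c48340a1af90c02d6b7c2c0a1ad50a0222b68240001c05900006e16c00021b3e07289c51800017a7b00003b9b00001204d000021cf40010082e))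
 (.leaf (nat_lit 0x7ff000001ffc000007ff000001ffc000007ff000001ffc000007ff000001ffc000007ff000001ffc000007ff000001ffc000007ff000001ffc000007ff000001ffc000007ff000001ffc000007ff000001ffc0000118f060001ffc000011bd590004759480007ff0006c2155a40007ff000001ffc0000024844000488024001163400004860f80007ff000001ffc00000233040000710ec0007ff000001ffc00001148360001ffc000007ff0000006f9b00007ff000001ffc000007ff000001ffc000007ff000001ffc000001d76b0001ffc000007ff000001ffc000007ff000001ffc000007ff000001ffc001b0904020001ffc000007ff000001ffc000007ff000001ffc00020a47660001ffc001b0a4d05000481094000164640001ffc00000219630001ffc000007ff0004a270d7c0007ff000001ffc000007ff0000047ac880001495c0082098d40007ff000001ffc00000240200001ffc000007ff000001ffc001848102e00823cd240007ff0005921b91c0007ff000001ffc000007ff000001ffc000007ff000000815040007ff000001ffc000001ec370001ffc00138a3f3204c2d6034128b0e1e0001ffc0010cb031c0001ffc000007ff000001ffc000007ff000001ffc000007ff000001ffc000007ff000001ffc000007ff000001ffc000007ff000001ffc0010cb2b0e0000d647c0b0afc0c0000b701c0b0a440a00008859400019b030004b6c2c0001906e000093908001232600004668200001054a008211c0400f00700))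
) (.node (.leaf (nat_lit 0x7ff000001ffc000007ff000001ffc000007ff000001ffc000007ff000001ffc000007ff000001ffc000007ff000001ffc000007ff000001ffc000007ff000001ffc000007ff000001ffc000007ff000001ffc000007ff000001ffc000007ff000001ffc000007ff0000b2151a40007ff000001ffc000007ff0001b24f9940007ff000001ffc000007ff000001ffc000007ff000001ffc000007ff000001ffc0004488e5c0001ffc000007ff000001ffc000007ff000001ffc000007ff000001ffc000007ff000001ffc000007ff000001ffc000007ff000001ffc000007ff000001ffc000007ff0000b20c12c0007ff0000721c5240007ff0007020691c0007ff000001ffc000007ff000001ffc000007ff000001ffc000007ff000001ffc000007ff000001ffc000007ff0001b2714900007ff000001ffc000007ff000001ffc00001239160072094d40007ff000001ffc000007ff000001ffc000007ff000001ffc0017c80e2e00723c4840007ff0005821b4a40007ff000001ffc000007ff000001ffc000007ff000001ffc000001c63b0001ffc000007ff0000003c8b40007ff000352d5c7400034b1a0001ffc000002fe090001ffc00124b4a1e0112c20280007ff000001ffc0000023a360001ffc00044b320c0001ffc000002ed080001ffc000007ff000001ffc0000031d0b0352c5060000333140004c7038000309190004bf4700012ec1201b26581c0da2ce1600b2540140549440401123300c02c8780200721180400700400))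
 (.leaf (nat_lit 0x3a0e8f749082a3e0f260a8fa02381a3ed38e028fc4c07ea3fd47a0aa5c7107ca975aa5f2a5e04e7ea985c65eea626637aa991b75eaa6565878a999149daa685ee81a9a81c1cea6b05373a9b00e5cea6d07e7ea9c01cdcaa726a972a9d0149c6a7666571a9dd5a5c6a7804b71a9e5471c6a7a65d71a9ec10dc2a7c0306fa9f414dbea7e0326eaa00115baa815c86eaa08a29baa8306b6eaa10055b6a850586daa189f1b6a870436caa201d5b2a8956a6caa2822db2a8b5106baa30109aea8d0336baa381e1aea8f2c96baa40129aea9108b6baa480b1aea930586aaa50a2daaa9501069aa5808da6a9702569aa600a1a6a9948969aa68069a6a9b02c69aa70b89a2a9d05866aa78b299aa9f08865aa809e996aa109864aa88b2992aa308863aa90a298eaa506b63aa9806d8aaa701b61aaa0e557eaaa01a5faaac0757eaac2ec5daab4a2972aae06b5caabc05562ab002c58aac4ba552ab228c51aad0bb53aab52e84baad80b12eab70094aaae006d2aab903c4aaae803122abb00847aaf000116abd04c45aaf81410eac307a41ab1822cfeac801d3dab24028deaca06b37ab2c068caad206e4dad6c3507eb5c0a61fad7462c7eb5e0d11ead7c3187ab6019b1ead841ac76b620911cad8c39072b640ae47ad9834066b6808018ada42d05eb6a0cc16adac31056b6c0a915adb4340007ff000001ffc000007ff000001ffc000007ff000001ffc000007ff000001ffc000007ff000001ffc000007ff000001ffc000007ff000001ffc000007ff00))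
))) (.node (.node (.node (.leaf (nat_lit 0x7ff000001ffc000007ff000001ffc000007ff000001ffc000007ff000001ffc000007ff000001ffc000007ff000001ffc000007ff000001ffc000007ff000001ffc000007ff000001ffc000007ff000001ffc0003c8c36e0001ffc000007ff000001ffc000007ff00009215da40007ff000001ffc000007ff000001ffc000007ff000001ffc000007ff000001ffc000007ff000001ffc000007ff000001ffc0003c88f5c0001ffc000007ff000001ffc000007ff000001ffc000007ff000001ffc000007ff000001ffc000007ff000001ffc000007ff000001ffc000007ff000001ffc000007ff000001ffc000007ff000001ffc000007ff0006e20611c0007ff000001ffc000007ff000001ffc000007ff000001ffc00080969360001ffc000007ff000001ffc000007ff000001ffc000007ff000001ffc000007ff000001ffc000007ff000042090d40007ff000001ffc000007ff000001ffc000007ff000001ffc0017080b2e0001ffc000007ff000001ffc000007ff000001ffc000007ff000001ffc000007ff000001ffc000007ff000001ffc000007ff000001ffc000007ff000001ffc000003391b0001ffc0000031f0e0192ce0780007ff000001ffc000007ff000482cf0340007ff000001ffc000007ff000001ffc000007ff000001ffc000007ff000001ffc000ecb1e1c0000cf45c03caf70a0206b9c240002f80c0000ba02c0809a00601926501c0001a10800925441404c9420400f23340c0248790200421140400480500))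
 (.leaf (nat_lit 0x9a800001ffc00194899820001ffc000007ff000001ffc00030a2f7a01225dde00007ff000001ffc000007ff000001ffc000007ff000001ffc000007ff0007f295dc0074988720122698100002587301d2569bc0000cb0304525b0140007ff00012248d4c0309746600c2148040007ff000001ffc000007ff0001d24fd9404889d5c0001ffc000007ff000001ffc000007ff0007c2445440007ff000001ffc0000009e640001ffc000007ff000001ffc000007ff000001ffc000007ff000001ffc000489cf320001ffc000007ff0000004497c0007ff000001ffc000000b54c0001ffc000308b44e00c20b8d40309032d00001dc080308bc39065206d1c0007ff000001ffc000007ff000001ffc000007ff000001ffc00084967360001ffc000007ff000001ffc000007ff000001ffc000007ff000001ffc001948a7310001ffc000001684000000bd2c1808963a0001ffc000007ff000001ffc0019483c3000c22048418080f2e0001ffc000489832805721b0ac15c8412a0572080a40007ff000001ffc000007ff000001ffc000007ff0005320e0cc0007ff000001ffc000007ff000001ffc000007ff000001ffc000007ff000001ffc000007ff000001ffc000007ff000001ffc000007ff000000d0c3c0007ff000001ffc00108aee160001ffc000007ff000452d0854108b250e0382c5c34048af30a0212b902c0002f40c02128902408499e0601d26601c00019f0800005b5b40001a7710122329b803087649000014da400b00000))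
) (.node (.leaf (nat_lit 0x7ff000001ffc000007ff000001ffc000007ff000001ffc000007ff0002925ed5c0007ff000001ffc0000015c640000875940007ff000001ffc001cc9b3050001ffc000007ff0002926a9580007ff000001ffc0000118a62077899d940011b95a02924980c0007ff0007321412c0007ff000001ffc000007ff000004871dc00115b7802924e54c00018b6e0001ffc000b8a343607b243d240007ff000001ffc00001140040001ffc000001ba6c0001ffc000000953400005f1ec0007ff0007a27501c0007ff0000004e98c0b89d8080001ffc000007ff000001ffc000000d93c0001ffc001cc8b2020000145a40007ff0000004417c0007ff000001ffc000007ff000001ffc000007ff000001ffc000007ff000001ffc000007ff000001ffc000007ff000000214d41a88d84e0001ffc001a8862010001ffc0019c8a6300001ffc000007ff000004210f41a089458000004c000007ff0006721691c0007ff000001ffc00001032230001ffc000007ff000001ffc000007ff000001ffc000007ff000001ffc000007ff000001ffc000007ff0000000ccb80007ff000001ffc000007ff000001ffc000007ff000001ffc000007ff000001ffc000007ff000001ffc000007ff000001ffc000007ff000001ffc000007ff000001ffc000007ff000001ffc000007ff000001ffc000fcb230e0342c4c340a5afb0c02e6b882c0a5ad60a0256b60240001d9520000755541822a93600006d1d00001415c000049dac0000b34c000018ce800101233))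
 (.leaf (nat_lit 0x7ff000001ffc000007ff000001ffc000007ff000001ffc00034a2e7a0001ffc00000228650001ffc000007ff000001ffc000007ff000001ffc000007ff000772965c00007ff0007c8980101f4a536f000096dcc0007ff0000005ad900007ff000001ffc000349706d00d2130040007ff000001ffc0000014b5c00048b1f000116e6a0001ffc000007ff000001ffc000007ff0007d244ce00007ff00000082d0400114c050001ffc000007ff000001ffc000007ff0000046c5d00007ff000001ffc000007ff000001ffc000007ff000001ffc000001db6b00d2841740000ad3007724717c0007ff0000d20acd40007ff0000001c11c0007ff0000041c8080007ff0000007c0dc000246360001ffc00034a4b4400048393c0007ff000001ffc000007ff0006b22248c0000d2310001ffc0000005d3300002dca80007ff0000047cc9c001249420000088000007ff000004191600007ff000004369440010ae4c0001ffc0000104a6900003c0ac0007ff000004405280010ba4800041fcbc0007ff0000d27d5140007ff000001ffc000007ff000001ffc000007ff0000001eca40007ff000001ffc000007ff000001ffc00118b02120001ffc000007ff000001ffc000007ff000001ffc000007ff000001ffc000007ff000001ffc00118aef160001ffc000007ff000000d04300003270e01c8d9c48001344100000b982c00131b150000b00201122c10607389bc1c0002c50900d25399800123676000468d9c03487449000010cb80010294b))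
)) (.node (.node (.leaf (nat_lit 0x7ff00066238dfc0000c77e0001ffc001988c6800001ffc000007ff000001ffc00014a2b6d0001ffc000007ff000522878100007ff000001ffc000007ff000752959f00001876e0001ffc0000025066000055d90001186720001ffc000011b55b0004749541c8972050722139a40007ff000001ffc0000124f7000004f1700011566f0004851180007ff000001ffc000007ff000000425240001ac570001ffc0000113b6500006d9b00007ff000001ffc001c88665800046ad780007ff00000074dac0007ff000001ffc000007ff00000046d340007ff000001ffc000007ff000752469441c88b00207220b12c0007ff0000044217c0007ff000001ffc00000215630001ffc000007ff00000078cdc0007ff0000047e4980007ff000001ffc000007ff000522220f40148d74e0000708b40148613a0001ffc001988aa3000047890c00022309005209cd40007ff000522054cc0007ff00066216d1c0000ab380001ffc0017480c2e0004704ec0007ff000001ffc000007ff00056207ca40007ff000001ffc000001fa410001ffc0012c92a2405220dc8c0007ff0000521f8840007ff0004b2d543400030d0a0000d3c640007ff000000cdc30000349180004d38740013481a0001ffc000f4a3c160001ffc000007ff000001ffc000007ff000001ffc000007ff000001ffc000f4b290e0000d587c0013361b0232b802000130c1e0232888d80002e10b00006480c0da2cc0900005cda800021f7700046441c0000b14c00521200400300100))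
 (.leaf (nat_lit 0x7ff000001ffc000007ff000001ffc000007ff000001ffc000007ff0000005d9380007ff000001ffc0005d9614c0001ffc000007ff000001ffc000007ff000001ffc00078989720000695440007ff000001ffc000000c2010001ffc000000ec580000488081ee2634e00043200c0007ff000001ffc000007ff000001ffc0000009c4b00004d8f405d98e3c03927a8ec0007ff00000051c100007ff000001ffc0000008d350001ffc000007ff000001ffc000010eb6c0000394e8000153340001ffc000001ce4a0000455240007ff000004691c40007ff000001ffc000011757b0001ffc0000016278000426d900011cd5400044514c0011812c0001ffc000007ff000001ffc000007ff000001ffc000007ff0000004c4bc0007ff00000077c900007ff0000044d58c0007ff000001ffc000010e45700045f4a00007ff0000004b4840012410a000423170001152560001ffc000001ca2d0001ffc000007ff0000044c1041888112e0004724c8000182480001ffc000007ff000001ffc0000017e390001ffc000007ff000001ffc000011de3f0001ffc000007ff0000044b0dc0007ff000392d687c00034d1a01e2d48740003190d0001ffc00078b4c1e0000c1c58000305090392cf838001306190001ffc00000331120000cb42c001330140001ffc000007ff000001ffc0000033f170392c60700002f2080004cb04c000242360004c10600012f10c01e26641c0da2d10a07289d41405d9465f0000325a40011216b0004305b801300300))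
) (.node (.leaf (nat_lit 0x8b350000380e80000984b0000300040000c56900003a1600007ff0002a25e1b80007ff000001ffc0005895f030001ffc000007ff000001ffc000007ff000001ffc000001b05e0001ffc000007ff000001ffc000007ff000001ffc000007ff0002a2491900007ff000004311f80007ff000001ffc000007ff000001ffc000001256b0001ffc000007ff000001ffc000007ff000262434f40709af720001ffc00000117530001ffc000007ff000001ffc000010e77d0001ffc000007ff000001ffc000007ff0002a2459700002092507d8401600007ff000001ffc001fe0fe010762474d00007ff00000425e000007ff0008283e4d40007ff00000005c000007ff000001ffc000007ff000001ffc000007ff000001ffc000007ff000001ffc000007ff0000004397c0007ff000001ffc000010df810001ffc000000a3230000730c800123d20000422a0800011e4d0004160c40a89cb370000164cc00003a2e0001ffc000010393005a23d8840007ff000001ffc000007ff000001ffc000007ff000001ffc000007ff0002f2821480007ff000004288e00007ff000001ffc0000023e360001ffc000007ff000001ffc000007ff000001ffc000007ff000001ffc000007ff000001ffc000007ff000001ffc000007ff000001ffc000007ff000001ffc000007ff000001ffc00100b240e0362c54340a9af60c02f6bac2c0a9ad40a0266b642414a2b32501c265dbc0da2cf2007289cd78058945630000581e02020fd4b00042fdfc00101647))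
 (.leaf (nat_lit 0x207350000c1ce80002074b0000c1c04000307690000c1d6000040d65000102d3800040c650001030100003056400010159400040d0400010110400040d570001000140004036e000102d44000403660000c0d9000030b010000c319000030b580000c2c0800030d640000834b800040c0300010340c00030c5c0000c0d7000020b4b0000c2cf40004056e0001010dc00040a040000c0d240004035700010310400020b35000100db00004056c0001029b000020d330000c2ce800030b34000100dac00040b4a0000c2d2400040a6b0000c34c400040c6b00010350400030c300000c000800030d3000004340000030d2b00008311c00030d2a000041c00000403630001030dc00040c36000100cdc00040d360000c2cbc00030a64000102c9000040a630000814d400030c31000100cb400020c330000c30a8000307230000c2c8400030a5c0000430000002024b00004140000040b2d000081ccc0002072e0000834a4000102000000c30ac00040b4800008211c0002082e00004200000040b390001034dc00040341000102904000304210000814b800040a370000830a4000407360001810780005030a000180c6400050609000180c3000060318000142c5800050b090001810300004063600014342800060b12000182c2c0005060800014302800060d0c0001830300006060b00014102800050b0800014281c00040b3600010299400040a03000100c0c00040a6e0000c35700003055c0000c2da400020d470000830b800000000))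
))))

noncomputable def tF1_rules : LT :=
(.node (.node (.node (.node (.node (.node (.node (.node (.leaf [nat_lit 51,nat_lit 0,nat_lit 1,nat_lit 0,nat_lit 3,nat_lit 9,nat_lit 3,nat_lit 9])
 (.leaf [nat_lit 85,nat_lit 4,nat_lit 1,nat_lit 12,nat_lit 0,nat_lit 3,nat_lit 12,nat_lit 3])
) (.leaf [nat_lit 54,nat_lit 2,nat_lit 1,nat_lit 7,nat_lit 6,nat_lit 7,nat_lit 6])
) (.node (.leaf [nat_lit 61,nat_lit 3,nat_lit 1,nat_lit 1,nat_lit 10,nat_lit 0,nat_lit 1,nat_lit 10])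
 (.leaf [nat_lit 50,nat_lit 1,nat_lit 1,nat_lit 9,nat_lit 2,nat_lit 9,nat_lit 2])
)) (.node (.node (.leaf [nat_lit 76,nat_lit 3,nat_lit 1,nat_lit 4,nat_lit 11,nat_lit 6,nat_lit 4,nat_lit 11])
 (.leaf [nat_lit 19,nat_lit 1,nat_lit 1,nat_lit 0,nat_lit 5,nat_lit 0,nat_lit 5])
) (.node (.leaf [nat_lit 68,nat_lit 2,nat_lit 1,nat_lit 8,nat_lit 10,nat_lit 8,nat_lit 10])
 (.leaf [nat_lit 54,nat_lit 1,nat_lit 1,nat_lit 6,nat_lit 7,nat_lit 6,nat_lit 7])
))) (.node (.node (.node (.leaf [nat_lit 90,nat_lit 1,nat_lit 1,nat_lit 10,nat_lit 13,nat_lit 10,nat_lit 12])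
 (.leaf [nat_lit 22,nat_lit 1,nat_lit 1,nat_lit 1,nat_lit 4,nat_lit 1,nat_lit 4])
) (.node (.leaf [nat_lit 79,nat_lit 2,nat_lit 1,nat_lit 2,nat_lit 11,nat_lit 2,nat_lit 11])
 (.leaf [nat_lit 26,nat_lit 2,nat_lit 1,nat_lit 5,nat_lit 2,nat_lit 5,nat_lit 2])
)) (.node (.node (.leaf [nat_lit 17,nat_lit 1,nat_lit 1,nat_lit 0,nat_lit 3,nat_lit 0,nat_lit 3])
 (.leaf [nat_lit 56,nat_lit 2,nat_lit 1,nat_lit 6,nat_lit 8,nat_lit 6,nat_lit 7,nat_lit 8])
) (.node (.leaf [nat_lit 52,nat_lit 2,nat_lit 1,nat_lit 9,nat_lit 4,nat_lit 9,nat_lit 1,nat_lit 4])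
 (.leaf [nat_lit 85,nat_lit 4,nat_lit 0,nat_lit 0,nat_lit 12,nat_lit 3,nat_lit 13,nat_lit 3])
)))) (.node (.node (.node (.node (.leaf [nat_lit 83,nat_lit 2,nat_lit 1,nat_lit 1,nat_lit 13,nat_lit 4,nat_lit 12])
 (.leaf [nat_lit 89,nat_lit 2,nat_lit 1,nat_lit 12,nat_lit 6,nat_lit 12,nat_lit 6])
) (.node (.leaf [nat_lit 64,nat_lit 3,nat_lit 1,nat_lit 4,nat_lit 10,nat_lit 3,nat_lit 4,nat_lit 10])
 (.leaf [nat_lit 38,nat_lit 2,nat_lit 1,nat_lit 2,nat_lit 7,nat_lit 2,nat_lit 7])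
)) (.node (.node (.leaf [nat_lit 29,nat_lit 1,nat_lit 1,nat_lit 4,nat_lit 5,nat_lit 4,nat_lit 5])
 (.leaf [nat_lit 91,nat_lit 3,nat_lit 1,nat_lit 8,nat_lit 12,nat_lit 8,nat_lit 13])
) (.node (.leaf [nat_lit 29,nat_lit 2,nat_lit 1,nat_lit 5,nat_lit 4,nat_lit 5,nat_lit 4])
 (.leaf [nat_lit 36,nat_lit 1,nat_lit 1,nat_lit 2,nat_lit 7,nat_lit 0,nat_lit 7,nat_lit 0])
))) (.node (.node (.node (.leaf [nat_lit 88,nat_lit 2,nat_lit 0,nat_lit 9,nat_lit 12,nat_lit 9,nat_lit 12])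
 (.leaf [nat_lit 64,nat_lit 2,nat_lit 1,nat_lit 10,nat_lit 4,nat_lit 10,nat_lit 3,nat_lit 4])
) (.node (.leaf [nat_lit 80,nat_lit 6,nat_lit 1,nat_lit 10,nat_lit 11,nat_lit 10,nat_lit 11,nat_lit 10,nat_lit 11,nat_lit 10,nat_lit 11])
 (.leaf [nat_lit 90,nat_lit 3,nat_lit 1,nat_lit 10,nat_lit 12,nat_lit 10,nat_lit 13])
)) (.node (.node (.leaf [nat_lit 39,nat_lit 4,nat_lit 1,nat_lit 7,nat_lit 3,nat_lit 5,nat_lit 7,nat_lit 3])
 (.leaf [nat_lit 20,nat_lit 1,nat_lit 1,nat_lit 1,nat_lit 2,nat_lit 1,nat_lit 2])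
) (.node (.leaf [nat_lit 32,nat_lit 2,nat_lit 1,nat_lit 2,nat_lit 6,nat_lit 2,nat_lit 6])
 (.leaf [nat_lit 51,nat_lit 0,nat_lit 0,nat_lit 9,nat_lit 3,nat_lit 9,nat_lit 3,nat_lit 0])
))))) (.node (.node (.node (.node (.node (.node (.leaf [nat_lit 33,nat_lit 1,nat_lit 1,nat_lit 4,nat_lit 6,nat_lit 3,nat_lit 6,nat_lit 3])
 (.leaf [nat_lit 92,nat_lit 19,nat_lit 1,nat_lit 14,nat_lit 11,nat_lit 3,nat_lit 13,nat_lit 9,nat_lit 9,nat_lit 13,nat_lit 9,nat_lit 7,nat_lit 5,nat_lit 3,nat_lit 11,nat_lit 3,nat_lit 13,nat_lit 9,nat_lit 9,nat_lit 13,nat_lit 9,nat_lit 3,nat_lit 11,nat_lit 3,nat_lit 13,nat_lit 9,nat_lit 9,nat_lit 13,nat_lit 9,nat_lit 3])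
) (.leaf [nat_lit 57,nat_lit 1,nat_lit 1,nat_lit 9,nat_lit 6,nat_lit 9,nat_lit 6])
) (.node (.leaf [nat_lit 53,nat_lit 0,nat_lit 1,nat_lit 2,nat_lit 5,nat_lit 9,nat_lit 5,nat_lit 9])
 (.leaf [nat_lit 79,nat_lit 1,nat_lit 1,nat_lit 11,nat_lit 2,nat_lit 11,nat_lit 2])
)) (.node (.node (.leaf [nat_lit 72,nat_lit 2,nat_lit 1,nat_lit 9,nat_lit 11,nat_lit 9,nat_lit 11])
 (.leaf [nat_lit 28,nat_lit 1,nat_lit 1,nat_lit 3,nat_lit 5,nat_lit 3,nat_lit 5])
) (.node (.leaf [nat_lit 18,nat_lit 1,nat_lit 1,nat_lit 0,nat_lit 4,nat_lit 0,nat_lit 4])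
 (.leaf [nat_lit 82,nat_lit 0,nat_lit 1,nat_lit 3,nat_lit 12,nat_lit 0,nat_lit 13])
))) (.node (.node (.node (.leaf [nat_lit 83,nat_lit 0,nat_lit 1,nat_lit 4,nat_lit 12,nat_lit 1,nat_lit 13])
 (.leaf [nat_lit 63,nat_lit 1,nat_lit 1,nat_lit 10,nat_lit 3,nat_lit 10,nat_lit 3])
) (.node (.leaf [nat_lit 75,nat_lit 2,nat_lit 1,nat_lit 7,nat_lit 11,nat_lit 7,nat_lit 11])
 (.leaf [nat_lit 87,nat_lit 3,nat_lit 1,nat_lit 5,nat_lit 13,nat_lit 2,nat_lit 5,nat_lit 12])
)) (.node (.node (.leaf [nat_lit 27,nat_lit 2,nat_lit 1,nat_lit 4,nat_lit 3,nat_lit 4,nat_lit 3])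
 (.leaf [nat_lit 56,nat_lit 0,nat_lit 1,nat_lit 7,nat_lit 8,nat_lit 6,nat_lit 8,nat_lit 6])
) (.node (.leaf [nat_lit 30,nat_lit 3,nat_lit 1,nat_lit 0,nat_lit 6,nat_lit 0,nat_lit 1,nat_lit 6])
 (.leaf [nat_lit 28,nat_lit 2,nat_lit 1,nat_lit 5,nat_lit 3,nat_lit 5,nat_lit 3])
)))) (.node (.node (.node (.node (.leaf [nat_lit 86,nat_lit 3,nat_lit 1,nat_lit 4,nat_lit 13,nat_lit 1,nat_lit 4,nat_lit 12])
 (.leaf [nat_lit 89,nat_lit 0,nat_lit 1,nat_lit 13,nat_lit 6,nat_lit 13,nat_lit 6])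
) (.node (.leaf [nat_lit 39,nat_lit 2,nat_lit 1,nat_lit 7,nat_lit 3,nat_lit 7,nat_lit 3,nat_lit 5])
 (.leaf [nat_lit 39,nat_lit 3,nat_lit 1,nat_lit 3,nat_lit 7,nat_lit 3,nat_lit 5,nat_lit 7])
)) (.node (.node (.leaf [nat_lit 41,nat_lit 1,nat_lit 1,nat_lit 7,nat_lit 5,nat_lit 7,nat_lit 5])
 (.leaf [nat_lit 45,nat_lit 2,nat_lit 1,nat_lit 3,nat_lit 8,nat_lit 3,nat_lit 8])
) (.node (.leaf [nat_lit 40,nat_lit 1,nat_lit 1,nat_lit 7,nat_lit 4,nat_lit 7,nat_lit 4])
 (.leaf [nat_lit 36,nat_lit 2,nat_lit 1,nat_lit 7,nat_lit 0,nat_lit 7,nat_lit 0,nat_lit 2])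
))) (.node (.node (.node (.leaf [nat_lit 71,nat_lit 3,nat_lit 1,nat_lit 0,nat_lit 11,nat_lit 9,nat_lit 0,nat_lit 11])
 (.leaf [nat_lit 67,nat_lit 2,nat_lit 1,nat_lit 10,nat_lit 7,nat_lit 10,nat_lit 8,nat_lit 7])
) (.node (.leaf [nat_lit 65,nat_lit 2,nat_lit 1,nat_lit 5,nat_lit 10,nat_lit 5,nat_lit 10])
 (.leaf [nat_lit 37,nat_lit 2,nat_lit 1,nat_lit 1,nat_lit 7,nat_lit 1,nat_lit 7])
)) (.node (.node (.leaf [nat_lit 70,nat_lit 3,nat_lit 1,nat_lit 11,nat_lit 3,nat_lit 11,nat_lit 3,nat_lit 11,nat_lit 3])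
 (.leaf [nat_lit 25,nat_lit 2,nat_lit 1,nat_lit 4,nat_lit 2,nat_lit 4,nat_lit 2])
) (.node (.leaf [nat_lit 34,nat_lit 2,nat_lit 1,nat_lit 4,nat_lit 6,nat_lit 4,nat_lit 6])
 (.leaf [nat_lit 14,nat_lit 0,nat_lit 0,nat_lit 14,nat_lit 13,nat_lit 12])
)))))) (.node (.node (.node (.node (.node (.node (.node (.leaf [nat_lit 30,nat_lit 1,nat_lit 1,nat_lit 1,nat_lit 6,nat_lit 0,nat_lit 6,nat_lit 0])
 (.leaf [nat_lit 92,nat_lit 9,nat_lit 1,nat_lit 14,nat_lit 9,nat_lit 3,nat_lit 11,nat_lit 3,nat_lit 13,nat_lit 9,nat_lit 9,nat_lit 13,nat_lit 9,nat_lit 3,nat_lit 11,nat_lit 3,nat_lit 13,nat_lit 9,nat_lit 9,nat_lit 13,nat_lit 9,nat_lit 7,nat_lit 5,nat_lit 3,nat_lit 11,nat_lit 3,nat_lit 13,nat_lit 9,nat_lit 9,nat_lit 13])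
) (.leaf [nat_lit 56,nat_lit 3,nat_lit 1,nat_lit 8,nat_lit 6,nat_lit 7,nat_lit 8,nat_lit 6])
) (.node (.leaf [nat_lit 69,nat_lit 2,nat_lit 1,nat_lit 9,nat_lit 10,nat_lit 9,nat_lit 10])
 (.leaf [nat_lit 62,nat_lit 1,nat_lit 1,nat_lit 10,nat_lit 2,nat_lit 10,nat_lit 2])
)) (.node (.node (.leaf [nat_lit 74,nat_lit 2,nat_lit 1,nat_lit 6,nat_lit 11,nat_lit 6,nat_lit 11])
 (.leaf [nat_lit 26,nat_lit 1,nat_lit 1,nat_lit 2,nat_lit 5,nat_lit 2,nat_lit 5])
) (.node (.leaf [nat_lit 90,nat_lit 2,nat_lit 1,nat_lit 12,nat_lit 10,nat_lit 12,nat_lit 10])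
 (.leaf [nat_lit 85,nat_lit 0,nat_lit 1,nat_lit 0,nat_lit 3,nat_lit 12,nat_lit 3,nat_lit 13])
))) (.node (.node (.node (.leaf [nat_lit 86,nat_lit 0,nat_lit 1,nat_lit 1,nat_lit 4,nat_lit 12,nat_lit 4,nat_lit 13])
 (.leaf [nat_lit 33,nat_lit 4,nat_lit 1,nat_lit 6,nat_lit 3,nat_lit 4,nat_lit 6,nat_lit 3])
) (.node (.leaf [nat_lit 77,nat_lit 3,nat_lit 1,nat_lit 5,nat_lit 11,nat_lit 7,nat_lit 5,nat_lit 11])
 (.leaf [nat_lit 84,nat_lit 2,nat_lit 1,nat_lit 2,nat_lit 13,nat_lit 5,nat_lit 12])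
)) (.node (.node (.leaf [nat_lit 21,nat_lit 1,nat_lit 1,nat_lit 1,nat_lit 3,nat_lit 1,nat_lit 3])
 (.leaf [nat_lit 67,nat_lit 4,nat_lit 1,nat_lit 10,nat_lit 8,nat_lit 7,nat_lit 10,nat_lit 7])
) (.node (.leaf [nat_lit 76,nat_lit 2,nat_lit 1,nat_lit 11,nat_lit 4,nat_lit 11,nat_lit 6,nat_lit 4])
 (.leaf [nat_lit 87,nat_lit 4,nat_lit 0,nat_lit 2,nat_lit 12,nat_lit 5,nat_lit 13,nat_lit 5])
)))) (.node (.node (.node (.node (.leaf [nat_lit 85,nat_lit 3,nat_lit 1,nat_lit 3,nat_lit 13,nat_lit 0,nat_lit 3,nat_lit 12])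
 (.leaf [nat_lit 88,nat_lit 1,nat_lit 1,nat_lit 9,nat_lit 13,nat_lit 9,nat_lit 13])
) (.node (.leaf [nat_lit 46,nat_lit 1,nat_lit 1,nat_lit 5,nat_lit 8,nat_lit 4,nat_lit 8,nat_lit 4])
 (.leaf [nat_lit 58,nat_lit 1,nat_lit 1,nat_lit 9,nat_lit 7,nat_lit 9,nat_lit 7])
)) (.node (.node (.leaf [nat_lit 35,nat_lit 1,nat_lit 1,nat_lit 6,nat_lit 5,nat_lit 6,nat_lit 5])
 (.leaf [nat_lit 42,nat_lit 2,nat_lit 1,nat_lit 0,nat_lit 8,nat_lit 0,nat_lit 8])
) (.node (.leaf [nat_lit 34,nat_lit 1,nat_lit 1,nat_lit 6,nat_lit 4,nat_lit 6,nat_lit 4])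
 (.leaf [nat_lit 17,nat_lit 2,nat_lit 1,nat_lit 3,nat_lit 0,nat_lit 3,nat_lit 0])
))) (.node (.node (.node (.leaf [nat_lit 81,nat_lit 1,nat_lit 0,nat_lit 13,nat_lit 12,nat_lit 12])
 (.leaf [nat_lit 80,nat_lit 0,nat_lit 1,nat_lit 14,nat_lit 10,nat_lit 11,nat_lit 10,nat_lit 11,nat_lit 10,nat_lit 11,nat_lit 10,nat_lit 11])
) (.node (.leaf [nat_lit 62,nat_lit 2,nat_lit 1,nat_lit 2,nat_lit 10,nat_lit 2,nat_lit 10])
 (.leaf [nat_lit 24,nat_lit 1,nat_lit 1,nat_lit 2,nat_lit 3,nat_lit 2,nat_lit 3])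
)) (.node (.node (.leaf [nat_lit 51,nat_lit 2,nat_lit 1,nat_lit 9,nat_lit 3,nat_lit 9,nat_lit 0,nat_lit 3])
 (.leaf [nat_lit 24,nat_lit 2,nat_lit 1,nat_lit 3,nat_lit 2,nat_lit 3,nat_lit 2])
) (.node (.leaf [nat_lit 33,nat_lit 3,nat_lit 1,nat_lit 3,nat_lit 6,nat_lit 3,nat_lit 4,nat_lit 6])
 (.leaf [nat_lit 85,nat_lit 2,nat_lit 1,nat_lit 13,nat_lit 3,nat_lit 13,nat_lit 0,nat_lit 3])
))))) (.node (.node (.node (.node (.node (.node (.leaf [nat_lit 82,nat_lit 2,nat_lit 1,nat_lit 0,nat_lit 13,nat_lit 3,nat_lit 12])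
 (.leaf [nat_lit 56,nat_lit 1,nat_lit 1,nat_lit 14,nat_lit 8,nat_lit 6,nat_lit 8,nat_lit 6,nat_lit 7])
) (.leaf [nat_lit 66,nat_lit 3,nat_lit 1,nat_lit 10,nat_lit 6,nat_lit 10,nat_lit 6,nat_lit 10,nat_lit 6])
) (.node (.leaf [nat_lit 63,nat_lit 2,nat_lit 1,nat_lit 3,nat_lit 10,nat_lit 3,nat_lit 10])
 (.leaf [nat_lit 36,nat_lit 3,nat_lit 1,nat_lit 0,nat_lit 7,nat_lit 0,nat_lit 2,nat_lit 7])
)) (.node (.node (.leaf [nat_lit 23,nat_lit 1,nat_lit 1,nat_lit 1,nat_lit 5,nat_lit 1,nat_lit 5])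
 (.leaf [nat_lit 53,nat_lit 2,nat_lit 1,nat_lit 9,nat_lit 5,nat_lit 9,nat_lit 2,nat_lit 5])
) (.node (.leaf [nat_lit 25,nat_lit 1,nat_lit 1,nat_lit 2,nat_lit 4,nat_lit 2,nat_lit 4])
 (.leaf [nat_lit 84,nat_lit 0,nat_lit 1,nat_lit 5,nat_lit 12,nat_lit 2,nat_lit 13])
))) (.node (.node (.node (.leaf [nat_lit 89,nat_lit 3,nat_lit 1,nat_lit 6,nat_lit 12,nat_lit 6,nat_lit 13])
 (.leaf [nat_lit 27,nat_lit 1,nat_lit 1,nat_lit 3,nat_lit 4,nat_lit 3,nat_lit 4])
) (.node (.leaf [nat_lit 73,nat_lit 2,nat_lit 1,nat_lit 8,nat_lit 11,nat_lit 8,nat_lit 11])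
 (.leaf [nat_lit 87,nat_lit 2,nat_lit 1,nat_lit 13,nat_lit 5,nat_lit 13,nat_lit 2,nat_lit 5])
)) (.node (.node (.leaf [nat_lit 33,nat_lit 2,nat_lit 1,nat_lit 6,nat_lit 3,nat_lit 6,nat_lit 3,nat_lit 4])
 (.leaf [nat_lit 16,nat_lit 1,nat_lit 1,nat_lit 0,nat_lit 2,nat_lit 0,nat_lit 2])
) (.node (.leaf [nat_lit 31,nat_lit 2,nat_lit 1,nat_lit 1,nat_lit 6,nat_lit 1,nat_lit 6])
 (.leaf [nat_lit 39,nat_lit 1,nat_lit 1,nat_lit 5,nat_lit 7,nat_lit 3,nat_lit 7,nat_lit 3])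
)))) (.node (.node (.node (.node (.leaf [nat_lit 89,nat_lit 1,nat_lit 1,nat_lit 6,nat_lit 13,nat_lit 6,nat_lit 12])
 (.leaf [nat_lit 13,nat_lit 0,nat_lit 0,nat_lit 14,nat_lit 12,nat_lit 13])
) (.node (.leaf [nat_lit 45,nat_lit 1,nat_lit 1,nat_lit 8,nat_lit 3,nat_lit 8,nat_lit 3])
 (.leaf [nat_lit 41,nat_lit 2,nat_lit 1,nat_lit 5,nat_lit 7,nat_lit 5,nat_lit 7])
)) (.node (.node (.leaf [nat_lit 77,nat_lit 2,nat_lit 1,nat_lit 11,nat_lit 5,nat_lit 11,nat_lit 7,nat_lit 5])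
 (.leaf [nat_lit 59,nat_lit 1,nat_lit 1,nat_lit 9,nat_lit 8,nat_lit 9,nat_lit 8])
) (.node (.leaf [nat_lit 46,nat_lit 2,nat_lit 1,nat_lit 8,nat_lit 4,nat_lit 8,nat_lit 4,nat_lit 5])
 (.leaf [nat_lit 82,nat_lit 1,nat_lit 1,nat_lit 13,nat_lit 0,nat_lit 13,nat_lit 3])
))) (.node (.node (.node (.leaf [nat_lit 78,nat_lit 2,nat_lit 1,nat_lit 1,nat_lit 11,nat_lit 1,nat_lit 11])
 (.leaf [nat_lit 91,nat_lit 1,nat_lit 1,nat_lit 8,nat_lit 13,nat_lit 8,nat_lit 12])
) (.node (.leaf [nat_lit 67,nat_lit 3,nat_lit 1,nat_lit 7,nat_lit 10,nat_lit 8,nat_lit 7,nat_lit 10])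
 (.leaf [nat_lit 40,nat_lit 2,nat_lit 1,nat_lit 4,nat_lit 7,nat_lit 4,nat_lit 7])
)) (.node (.node (.leaf [nat_lit 60,nat_lit 2,nat_lit 1,nat_lit 0,nat_lit 10,nat_lit 0,nat_lit 10])
 (.leaf [nat_lit 32,nat_lit 1,nat_lit 1,nat_lit 6,nat_lit 2,nat_lit 6,nat_lit 2])
) (.node (.leaf [nat_lit 35,nat_lit 2,nat_lit 1,nat_lit 5,nat_lit 6,nat_lit 5,nat_lit 6])
 (.leaf [nat_lit 48,nat_lit 1,nat_lit 1,nat_lit 9,nat_lit 0,nat_lit 9,nat_lit 0])
)))))))

noncomputable def tF1_subs : LT :=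
(.node (.node (.node (.leaf [nat_lit 0,nat_lit 2,nat_lit 0,nat_lit 3])
 (.leaf [nat_lit 0,nat_lit 3,nat_lit 0,nat_lit 11])
) (.leaf [nat_lit 0,nat_lit 1,nat_lit 0,nat_lit 9])
) (.node (.leaf [nat_lit 0,nat_lit 4,nat_lit 0,nat_lit 6])
 (.leaf [nat_lit 0,nat_lit 5,nat_lit 0,nat_lit 10])
))

noncomputable def tF1 : TC :=
  ⟨fun x c => Nat.shiftRight (BT.get tF1_t x) (Nat.mul (nat_lit 34) c),
  (nat_lit 8), (nat_lit 255), (nat_lit 524287), (nat_lit 19), (nat_lit 32767), (nat_lit 524032), (nat_lit 15), (nat_lit 131), (nat_lit 14), (nat_lit 0), (nat_lit 14), (nat_lit 15), tF1_inv, tF1_rules, tF1_subs⟩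

theorem tF1_c1 : tF1.rules.all (ruleOK tF1.m tF1.inv tF1_rels) = true := by decide +kernel
theorem tF1_c2 : tF1.subs.all (subOK tF1.m tF1.inv tF1_hws) = true := by decide +kernel
theorem tF1_c3 : tF1.base = true := by decide +kernel

theorem tF1_s0 : tF1.slots (nat_lit 0) (nat_lit 131) = true := by decide +kernel

theorem tF1_e0 : allRange (nat_lit 15) (nat_lit 116) tF1.slotE = true := by decide +kernel

theorem tF1_c4 : tF1.Upto tF1.N := ((TC.upto_zero tF1).step _ tF1_s0)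
theorem tF1_c5 : tF1.UptoE tF1.N := ((TC.uptoE_n tF1).step _ tF1_e0)
theorem tF1_bound {G : Type*} [Group G] {g : ℕ → G} {H : Subgroup G} (hinv : ∀ x < 14, g x * g (tF1_inv x) = 1)
    (hrels : ∀ i, evalW g (tF1_rels.get i) = 1) (hH : ∀ x < 0, g x ∈ H) (hhws : ∀ i, evalW g (tF1_hws.get i) ∈ H) :
    H.relIndex (genLt g 14) ≠ 0 ∧ H.relIndex (genLt g 14) ≤ 15 :=
  TC.relIndex_le (T := tF1) hinv hrels hH hhws tF1_c1 tF1_c2 tF1_c3 tF1_c4 tF1_c5

theorem tF1_bd : BoundW.{u} (relH ++ relY false false ++ exF1) WS 14 15 := fun _ _ _ _ hs hH =>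
  tF1_bound (hs.hinv (by decide +kernel)) (hs.tree (by decide +kernel)) (letters_mem hH (by decide +kernel))
    (leaves_mem hH (by decide +kernel))

def exF2 : List (List ℕ) :=
  [[9, 12, 9, 9, 12, 3, 11, 3, 9, 12, 9, 9, 12, 3, 11, 3, 9, 12, 9, 9, 12, 3, 11, 3, 2, 5, 7]]

noncomputable def tF2_rels : LT :=
(.node (.node (.node (.node (.node (.node (.node (.leaf [])
 (.leaf [nat_lit 10,nat_lit 4,nat_lit 10,nat_lit 4,nat_lit 3])
) (.leaf [nat_lit 6,nat_lit 2,nat_lit 6,nat_lit 2])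
) (.node (.node (.leaf [nat_lit 0,nat_lit 2,nat_lit 0,nat_lit 2])
 (.leaf [nat_lit 11,nat_lit 10,nat_lit 11,nat_lit 10,nat_lit 11,nat_lit 10,nat_lit 11,nat_lit 10])
) (.leaf [nat_lit 9,nat_lit 0,nat_lit 9,nat_lit 0])
)) (.node (.node (.node (.leaf [nat_lit 7,nat_lit 7])
 (.leaf [nat_lit 11,nat_lit 9,nat_lit 11,nat_lit 9])
) (.leaf [nat_lit 7,nat_lit 4,nat_lit 7,nat_lit 4])
) (.node (.node (.leaf [nat_lit 2,nat_lit 3,nat_lit 2,nat_lit 3])
 (.leaf [nat_lit 9,nat_lit 12,nat_lit 9,nat_lit 12])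
) (.leaf [nat_lit 6,nat_lit 8,nat_lit 6,nat_lit 8,nat_lit 7])
))) (.node (.node (.node (.node (.leaf [nat_lit 3,nat_lit 3])
 (.leaf [nat_lit 10,nat_lit 8,nat_lit 10,nat_lit 8])
) (.leaf [nat_lit 7,nat_lit 0,nat_lit 7,nat_lit 2,nat_lit 0])
) (.node (.node (.leaf [nat_lit 1,nat_lit 2,nat_lit 1,nat_lit 2])
 (.leaf [nat_lit 12,nat_lit 2,nat_lit 13,nat_lit 5])
) (.leaf [nat_lit 9,nat_lit 4,nat_lit 9,nat_lit 4,nat_lit 1])
)) (.node (.node (.node (.leaf [nat_lit 11,nat_lit 11])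
 (.leaf [nat_lit 11,nat_lit 4,nat_lit 11,nat_lit 4,nat_lit 6])
) (.leaf [nat_lit 8,nat_lit 2,nat_lit 8,nat_lit 2])
) (.node (.node (.leaf [nat_lit 3,nat_lit 5,nat_lit 3,nat_lit 5])
 (.leaf [nat_lit 9,nat_lit 12,nat_lit 9,nat_lit 9,nat_lit 12,nat_lit 3,nat_lit 11,nat_lit 3,nat_lit 9,nat_lit 12,nat_lit 9,nat_lit 9,nat_lit 12,nat_lit 3,nat_lit 11,nat_lit 3,nat_lit 9,nat_lit 12,nat_lit 9,nat_lit 9,nat_lit 12,nat_lit 3,nat_lit 11,nat_lit 3,nat_lit 2,nat_lit 5,nat_lit 7])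
) (.leaf [nat_lit 10,nat_lit 0,nat_lit 10,nat_lit 0])
)))) (.node (.node (.node (.node (.node (.leaf [nat_lit 1,nat_lit 1])
 (.leaf [nat_lit 10,nat_lit 6,nat_lit 10,nat_lit 6,nat_lit 10,nat_lit 6])
) (.leaf [nat_lit 6,nat_lit 4,nat_lit 6,nat_lit 4])
) (.node (.node (.leaf [nat_lit 0,nat_lit 4,nat_lit 0,nat_lit 4])
 (.leaf [nat_lit 12,nat_lit 0,nat_lit 13,nat_lit 3])
) (.leaf [nat_lit 9,nat_lit 2,nat_lit 9,nat_lit 2])
)) (.node (.node (.node (.leaf [nat_lit 9,nat_lit 9])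
 (.leaf [nat_lit 11,nat_lit 6,nat_lit 11,nat_lit 6])
) (.leaf [nat_lit 8,nat_lit 0,nat_lit 8,nat_lit 0])
) (.node (.node (.leaf [nat_lit 2,nat_lit 5,nat_lit 2,nat_lit 5])
 (.leaf [nat_lit 10,nat_lit 12,nat_lit 10,nat_lit 13])
) (.leaf [nat_lit 9,nat_lit 7,nat_lit 9,nat_lit 7])
))) (.node (.node (.node (.node (.leaf [nat_lit 5,nat_lit 5])
 (.leaf [nat_lit 11,nat_lit 3,nat_lit 11,nat_lit 3,nat_lit 11,nat_lit 3])
) (.leaf [nat_lit 7,nat_lit 2,nat_lit 7,nat_lit 2])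
) (.node (.node (.leaf [nat_lit 1,nat_lit 4,nat_lit 1,nat_lit 4])
 (.leaf [nat_lit 12,nat_lit 4,nat_lit 13,nat_lit 4,nat_lit 1])
) (.leaf [nat_lit 6,nat_lit 7,nat_lit 6,nat_lit 7])
)) (.node (.node (.node (.leaf [nat_lit 13,nat_lit 12])
 (.leaf [nat_lit 11,nat_lit 1,nat_lit 11,nat_lit 1])
) (.leaf [nat_lit 8,nat_lit 4,nat_lit 8,nat_lit 5,nat_lit 4])
) (.node (.leaf [nat_lit 6,nat_lit 0,nat_lit 6,nat_lit 1,nat_lit 0])
 (.leaf [nat_lit 10,nat_lit 2,nat_lit 10,nat_lit 2])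
))))) (.node (.node (.node (.node (.node (.node (.leaf [nat_lit 0,nat_lit 0])
 (.leaf [nat_lit 10,nat_lit 5,nat_lit 10,nat_lit 5])
) (.leaf [nat_lit 6,nat_lit 3,nat_lit 6,nat_lit 4,nat_lit 3])
) (.node (.node (.leaf [nat_lit 0,nat_lit 3,nat_lit 0,nat_lit 3])
 (.leaf [nat_lit 12,nat_lit 12,nat_lit 12])
) (.leaf [nat_lit 9,nat_lit 1,nat_lit 9,nat_lit 1])
)) (.node (.node (.node (.leaf [nat_lit 8,nat_lit 8])
 (.leaf [nat_lit 11,nat_lit 8,nat_lit 11,nat_lit 8])
) (.leaf [nat_lit 7,nat_lit 5,nat_lit 7,nat_lit 5])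
) (.node (.node (.leaf [nat_lit 2,nat_lit 4,nat_lit 2,nat_lit 4])
 (.leaf [nat_lit 6,nat_lit 12,nat_lit 6,nat_lit 13])
) (.leaf [nat_lit 9,nat_lit 6,nat_lit 9,nat_lit 6])
))) (.node (.node (.node (.node (.leaf [nat_lit 4,nat_lit 4])
 (.leaf [nat_lit 10,nat_lit 9,nat_lit 10,nat_lit 9])
) (.leaf [nat_lit 7,nat_lit 1,nat_lit 7,nat_lit 1])
) (.node (.node (.leaf [nat_lit 1,nat_lit 3,nat_lit 1,nat_lit 3])
 (.leaf [nat_lit 12,nat_lit 3,nat_lit 13,nat_lit 3,nat_lit 0])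
) (.leaf [nat_lit 9,nat_lit 5,nat_lit 9,nat_lit 5,nat_lit 2])
)) (.node (.node (.node (.leaf [nat_lit 12,nat_lit 13])
 (.leaf [nat_lit 11,nat_lit 5,nat_lit 11,nat_lit 5,nat_lit 7])
) (.leaf [nat_lit 8,nat_lit 3,nat_lit 8,nat_lit 3])
) (.node (.leaf [nat_lit 4,nat_lit 5,nat_lit 4,nat_lit 5])
 (.leaf [nat_lit 10,nat_lit 1,nat_lit 10,nat_lit 1,nat_lit 0])
)))) (.node (.node (.node (.node (.node (.leaf [nat_lit 2,nat_lit 2])
 (.leaf [nat_lit 10,nat_lit 7,nat_lit 10,nat_lit 7,nat_lit 8])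
) (.leaf [nat_lit 6,nat_lit 5,nat_lit 6,nat_lit 5])
) (.node (.node (.leaf [nat_lit 0,nat_lit 5,nat_lit 0,nat_lit 5])
 (.leaf [nat_lit 12,nat_lit 1,nat_lit 13,nat_lit 4])
) (.leaf [nat_lit 9,nat_lit 3,nat_lit 9,nat_lit 3,nat_lit 0])
)) (.node (.node (.node (.leaf [nat_lit 10,nat_lit 10])
 (.leaf [nat_lit 11,nat_lit 7,nat_lit 11,nat_lit 7])
) (.leaf [nat_lit 8,nat_lit 1,nat_lit 8,nat_lit 2,nat_lit 1])
) (.node (.node (.leaf [nat_lit 3,nat_lit 4,nat_lit 3,nat_lit 4])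
 (.leaf [nat_lit 8,nat_lit 12,nat_lit 8,nat_lit 13])
) (.leaf [nat_lit 9,nat_lit 8,nat_lit 9,nat_lit 8])
))) (.node (.node (.node (.node (.leaf [nat_lit 6,nat_lit 6])
 (.leaf [nat_lit 11,nat_lit 0,nat_lit 11,nat_lit 0,nat_lit 9])
) (.leaf [nat_lit 7,nat_lit 3,nat_lit 7,nat_lit 5,nat_lit 3])
) (.node (.node (.leaf [nat_lit 1,nat_lit 5,nat_lit 1,nat_lit 5])
 (.leaf [nat_lit 12,nat_lit 5,nat_lit 13,nat_lit 5,nat_lit 2])
) (.leaf [nat_lit 7,nat_lit 8,nat_lit 7,nat_lit 8])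
)) (.node (.node (.node (.leaf [nat_lit 0,nat_lit 1,nat_lit 0,nat_lit 1])
 (.leaf [nat_lit 11,nat_lit 2,nat_lit 11,nat_lit 2])
) (.leaf [nat_lit 8,nat_lit 5,nat_lit 8,nat_lit 5])
) (.node (.leaf [nat_lit 6,nat_lit 1,nat_lit 6,nat_lit 1])
 (.leaf [nat_lit 10,nat_lit 3,nat_lit 10,nat_lit 3])
))))))
noncomputable def tF2_hws : LT :=
(.node (.node (.node (.leaf [])
 (.leaf [nat_lit 6])
) (.leaf [nat_lit 3])
) (.node (.node (.leaf [nat_lit 9])
 (.leaf [nat_lit 10])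
) (.leaf [nat_lit 11])
))
noncomputable def tF2_inv : ℕ → ℕ := getP (nat_lit 8) (nat_lit 255) (nat_lit 0xc0d0b0a09080706050403020100)

noncomputable def tF2_t : BT :=
(.node (.node (.node (.node (.leaf (nat_lit 0xdb8d07e236a380007ff000001ffc000000e48907e238e2818ca788700009e62000ca71830001ffc000007ff0000009ca180007ff000001ffc0004ca59350001ffc000007ff000132a851c0007ff000001ffc000007ff000001ffc000007ff000001ffc0000015f0700005a1c40007ff000132699400000bf6a04d259dd40007ff000001ffc0004493a340001ffc000007ff000001ffc000448be720001ffc0000c8436803028f9440000d3320001ffc0004495a3f0001ffc000007ff000000448080007ff0007e2288a00007ff000001ffc001f080a5c0000708ec1f883f2b0001ffc001f088c580001ffc001348365600007e50015097e3705422a0bc0007ff0000008fd9c0001a7730001ffc000007ff000001ffc000007ff0004d266d0400c9b2420001ffc002022c8350000a89f40007ff0004d2775100007ff000001ffc000001b34a0001ffc000011f855000056d900007ff000001ffc0000c8c83106327056c00c872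3a00004ccb01448323800005fd500002a9060001ffc0000013b6e0001ffc0018c8d2660000324f000c8543000002a54c0007ff000001ffc00044932390000101680007ff000001ffc000000a35f05420709c0007ff000001ffc0014485d2404d20408c0007ff000001ffc000007ff000001ffc000007ff000001ffc000007ff000001ffc000007ff000000e9c500003a1130001ffc000e0a8b160001ffc00044ba6190112e80600007ff000001ffc000007ff000001ffc000e0b9a0e0302e0c34044b680c0192d2c24044a930a0000d302c06496c050132579d80012a83600005b420044898030000264100011116100320880400080200))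
 (.leaf (nat_lit 0x7ff000001ffc000007ff000001ffc000007ff000001ffc000007ff00000095a100007ff000001ffc0017ca55870001ffc000007ff000001ffc000007ff000001ffc000007ff000001ffc000007ff000001ffc000007ff000001ffc000007ff000001ffc000007ff0000008a1440007ff000001ffc000007ff0000009059c0007ff000001ffc00000220630001ffc000001ea600001ffc000007ff000001ffc000007ff000352901c40007ff00000061d640007ff0002f287db80007ff0000007ed541309e96c00045f1500007ff000001ffc000007ff000001ffc000010a6530212619940007ff00035249d880007ff0007b27e98400017d5f000029d68084a4d47035289dd40007ff0005f28d4180bc9f44402f2809040bc9c93f0001ffc000849b83c0001ffc000007ff000001ffc000007ff000001ffc000001f54e0001ffc000848ec31000080d3417c900020000729300848d7300001ffc000001b94a05f26fcc80848740102f24a80c0007ff000000304a00007ff000001ffc000007ff000001ffc000001c03b00003b5080007ff000000184ac0007ff0005f21f0e00bc930040004180bc0007ff0000001408c0010c037000006c00130a237602a28b8140007ff00000413ca40007ff0004c28e41c0a8a45080001ffc000007ff000001ffc000007ff000001ffc000007ff000001ffc000007ff000001ffc000007ff000001ffc000007ff000001ffc000007ff000001ffc000007ff000001ffc000fcb9c0e0352e20340bdb630c02a6d442c094b6d0a0216d18240002462000008e8840002364f00008bc940001312c00004ace40001014000001d4e800101a27))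
) (.node (.leaf (nat_lit 0x7ff000001ffc000007ff000001ffc000007ff000001ffc000007ff000001ffc000007ff000001ffc000007ff000001ffc000007ff000001ffc000007ff000001ffc000007ff000001ffc000007ff000001ffc000007ff000001ffc000007ff000001ffc000549417604f251dd40007ff000001ffc000007ff000001ffc000007ff000001ffc000007ff000001ffc000007ff000001ffc000007ff000001ffc000007ff0000008f4b00007ff000001ffc000007ff000001ffc000007ff000001ffc000089ed420001ffc000007ff000001ffc000007ff0000a2631000007ff000001ffc000007ff000000494e80007ff000001ffc000007ff000001ffc000007ff000000898e40007ff000001ffc000007ff000001ffc000007ff000001ffc000007ff000001ffc000007ff000001ffc000007ff000001ffc000007ff000001ffc000001ee600001ffc0000018d5b0001ffc000007ff000001ffc000007ff000001ffc000011245700048954402882d3805b2310bc0007ff000001ffc000007ff000001ffc000007ff000001ffc000007ff000001ffc000007ff000001ffc0000123c67059205cac0007ff0005b21449c16484c280001ffc000007ff000001ffc000007ff0004f20488c0007ff000001ffc000007ff000000f18780013c51f0152f08680f0b71160001ffc000003c31d00f2df06000037d190000eb4300003721c0000ee4400007ff000001ffc000003940e0001ffc00028bb8150001ffc000f0b93120000e08280013ac1701e2d5c200013810d01e29b4140003580b01525841c0289530600009b82403c89a0400f22240c02886b02006209c0400880600))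
 (.leaf (nat_lit 0x7ff000001ffc000007ff000001ffc000007ff000001ffc000002757600005dc100007ff000001ffc0000024f2c00005481800020d81000082d100007ff000001ffc00000286780001ffc000007ff000000a71180007ff000001ffc00000284750001ffc0000126f8600049f9f80001ad6a0001ffc000011a0790001ffc000007ff000001ffc000007ff000001ffc000007ff000000689c80011ab690001ffc000007ff000001ffc000000ad5a0001ffc000007ff000001ffc000007ff000001ffc000007ff000001ffc000007ff000000115700010416800006254c0010ab650001ffc000007ff000001ffc000007ff000001ffc000007ff00000461164000251840001ffc000007ff0000008cce40007ff000001ffc000007ff000001ffc000001be3b0001ffc000001d33f0001ffc0000029a050888acdd8001206820001ffc000007ff000004869e80000f92f0004745dc0007ff000001ffc000007ff0000006f0dc0007ff0000048c1fc0000290000046c1281a4aae070001ffc000007ff000656bfc200000d0280001ffc000007ff0000043a1081ee2d04600001e09c001249520004194c40007ff000004350f80010c63c00041c0e8000307510001ffc0000005b230004148c00007ff000001ffc000007ff000001ffc000007ff000001ffc00109b73160001ffc000007ff000001ffc000007ff000001ffc0000035e120001ffc000007ff000001ffc000007ff000001ffc000003b70c0001ffc00108b980e01c8f5c280013b20f02b6d4c2c00138c110000c0cf40ba342090000a91f4000150030004a55ec0011724700045360c0000692b00000ace000102001))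
)) (.node (.node (.leaf (nat_lit 0x7ff000001ffc000007ff000001ffc000007ff000001ffc000007ff000001ffc000007ff000001ffc000007ff000000a05f80007ff00000083dac198a5a500001ffc00070a80830001ffc000007ff000001ffc00070a1c690001ffc00148a87480001ffc000007ff00000064dc00007ff000000768d40001396e0001ffc000b0992750001ffc000b0938720001ffc001989046501c283a040007ff000001ffc000007ff000001ffc000007ff000000415b00b0958040001ffc001c087f680842468080007ff0007f2274a00001e622000017c90000009000001ffc001fc83e2b0001ffc0000008b380001ffc001c0837230001ffc000007ff000001ffc00198b0a4f02c6c153800025b800001ffc000007ff000001ffc000007ff000702671100709b5420001ffc00000288780818b1dac0007ff0007027790400019d4b0001ffc000001b64a000077d140007ff0002c237c0c0007ff000001ffc000708ca310001ffc000007ff000001ffc0000108a580001ffc000007ff000662765cc0b08e76a0646bf8f40007ff00000032cf0070855010001ffc000007ff000001ffc000007ff000001ffc0009c9cf050001ffc0000009e5f0001ffc000007ff000001ffc0014885e5d00000e15809c9e55e0001ffc000007ff000001ffc000007ff000001ffc000007ff000001ffc000007ff000001ffc000007ff000001ffc000007ff000001ffc000007ff000001ffc000007ff000001ffc000007ff000001ffc000e8b920e0312e10340b1b670c0276d342c088b6c0a01c6d142417a2f9220738b84d41ea2d2690000740a8000159640000380fc00011b610000158c00010085c))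
 (.leaf (nat_lit 0x7ff000001ffc000007ff000001ffc000007ff000001ffc000007ff000001ffc000007ff000001ffc000007ff000000a61ec0007ff000001ffc000007ff000001ffc000007ff000001ffc000007ff000082a5e0c0007ff000001ffc000007ff000001ffc000012680900049e8f40007ff000001ffc000007ff000001ffc000007ff000001ffc000007ff000001ffc000007ff000001ffc000011aa5e0001ffc000007ff000001ffc000007ff000001ffc000007ff000001ffc000007ff000001ffc000007ff000001ffc000007ff000001ffc000007ff000001ffc000007ff000001ffc000007ff000001ffc000007ff000001ffc000007ff000001ffc000007ff000001ffc001da2d6090001ffc00000290430001ffc000007ff000758b70f40209b73c0001ffc000007ff000001ffc001b0a9d060001ffc000012053306f2a3d380007ff000004850b81b08fe020004734a80007ff0000009edd40007ff000001ffc000208733a00048b0941b0831380622314a00007ff000001ffc000011e3220001ffc000007ff000001ffc000007ff000622190ac000215410001ffc00001243200001ffc000001ce3f0001ffc000007ff00057207c9c0007ff0000008b4e40007ff00050204c8c0001e4340001ffc000002442c04a2f2834120b801e0001ffc00104b751c0001ffc000007ff000001ffc000007ff000001ffc000007ff000001ffc000007ff000001ffc000007ff000001ffc000007ff000001ffc00104b9d0e0000f2c7c098b6a0c0000d281c098a940a00009a5d800016b040004d242c00029e4600005300c00116a08000452c140000ff4000820940400f00700))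
) (.node (.leaf (nat_lit 0x7ff000001ffc000007ff000001ffc000007ff000001ffc000007ff000001ffc000007ff000001ffc000007ff000001ffc000007ff000001ffc000007ff000001ffc000007ff000001ffc000007ff000001ffc000007ff000001ffc000007ff000001ffc00058942760001ffc000007ff000001ffc000007ff000001ffc000007ff000001ffc000007ff000001ffc000007ff000001ffc000007ff000001ffc000007ff000001ffc000007ff000001ffc000007ff000001ffc000007ff000001ffc000589eb570001ffc000007ff000001ffc000007ff000001ffc000007ff000001ffc000007ff0000007b1800007ff000001ffc000007ff000001ffc000007ff000001ffc000007ff000001ffc000007ff000001ffc000007ff000001ffc000007ff000001ffc000007ff000001ffc000007ff000001ffc000007ff000001ffc0001c8ea3a0001ffc0002c8fc2d0001ffc000007ff000001ffc000007ff000001ffc000000eb420001ffc0002c830380001ffc000007ff000001ffc000007ff000001ffc000007ff00007219cc40007ff00061218c9c0007ff0000003f5000007ff0005d2060ac0007ff000001ffc000007ff000001ffc000007ff000001ffc000007ff000001ffc000007ff000001ffc000007ff000332f24740003bd1a0001ffc00000370090001ffc0011cbbc1e0102de8280007ff000001ffc0000028a050001ffc00040ba40c0001ffc0000035b080001ffc000007ff000001ffc0000038f0b0332e18600003a5140004e383800037b190004dbc7000135a1201625881c02c954060004a245804089604010221c0c02c86e0200720900400700400))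
 (.leaf (nat_lit 0x3a2e8ef3108ea3c0f263a8f20238da3cd94e328f46608aa3dccba2aab045088aac512622ab24b387aad41a21eab64e987aadd0721eab804d87aae51d616abb48984aafd34a0eac145383ab092560eac36aa83ab10bb20eac506582ab19c4a02ac95057eab2cd31faacc50d7eab352f5f2acf70076ab501cddaad503075ab5d049d6ad844375ab651ddd6ada3f975ab6d16dd6add3c374ab781b1d2adf04d74ab811edcaae301871ab9136dc6ae502b70ab98c41baae73486eaba132dbaae930b6daba8ca1b2aeb4ad6cabb0a29aaaed08b6aabb8e35a2aef00b67abc10319aaf12b865abc90ad92af324b63abd0fb58aaf523861abd8ef582af837c5babecbf9e6b0f26352ac40e614ab1147952ac489b14ab1339051ac50b0546b1539851ac580ed46b173a050ac601c942b1906950ac681a942b1b09d50ac710613ab1d03a4eac7896d3ab1f3a84dac8012d36b212d84cac880ed32b233aa4bac9016d2eb250194aac98b692ab2701b4aaca00f12ab292dd4aaca802526b2b07048acb01f522b2d04346acb816d16b302db44acc40490ab3201d42accc02906b3408b41acd40ad02b3604c40acdc028feb3805d3eace4034f2b3a00d3aacec00ce6b3c06a39acf4148e2b3e02537acfc028d2b400832cad0c1e8b2b4408e4baf343507ebce0a61faf3c62c7ebd00d11eaf443187abd219b1eaf4c16c76bd40911caf5439072bd60ae45af6034066bda08018af6c2d05ebdc0cc16af7431056bde0a915af7c340007ff000001ffc000007ff000001ffc000007ff000001ffc000007ff000001ffc000007ff000001ffc000007ff000001ffc000007ff000001ffc000007ff00))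
))) (.node (.node (.node (.leaf (nat_lit 0x7ff000001ffc000007ff000001ffc000007ff000001ffc000007ff000001ffc000007ff000001ffc000007ff000001ffc000007ff000001ffc000007ff000001ffc000007ff000001ffc000007ff000001ffc000007ff000001ffc000007ff000001ffc00050940760001ffc000007ff000001ffc000007ff000001ffc000007ff000001ffc000007ff000001ffc000007ff000001ffc000007ff000001ffc000007ff000001ffc000007ff000001ffc000007ff000001ffc000007ff000001ffc000007ff000001ffc000007ff000001ffc0020080b5c0001ffc0017083d5a0001ffc000007ff000001ffc000007ff000001ffc000007ff0007a22a8bc0007ff0000e6c11380007ff000001ffc000007ff000001ffc000389cb390001ffc000109b4420001ffc000007ff000001ffc000007ff000001ffc000007ff000001ffc000007ff000001ffc000007ff000001ffc000108d63a0000bf4b80007ff000001ffc000007ff00000073130024833380001ffc000007ff000001ffc000007ff000001ffc000007ff000001ffc000007ff000001ffc00181afc3d0001ffc000007ff0005c2058ac0007ff000001ffc000007ff000001ffc000007ff000001ffc000007ff000001ffc000007ff000001ffc000007ff000001ffc000003ab1b0001ffc000003910e0142ea8780007ff000001ffc000007ff000462eb8340007ff000001ffc000007ff000001ffc000007ff000001ffc000007ff000001ffc000e4b901c0000ebc5c038b650a01a2d54240003660c0000d582c0689700501425801c0249550600005c4200388970400e22200c02486f02004208c0400480500))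
 (.leaf (nat_lit 0x918c0001ffc001788908e0001ffc000007ff000001ffc00030a778600c25ee0c0007ff000001ffc00030a547f0001ffc000007ff000001ffc000007ff000001ffc000007ff000000ab0d80007ff000001ffc000007ff000001ffc000007ff000001ffc0005c943760000719b40007ff000001ffc000000bd6a0001ffc000007ff000001ffc00048936340122715d420890a320001ffc000488bc720001ffc000007ff000001ffc000007ff000001ffc000007ff000001ffc0021c881240682458f02089ef3b05e2280a00007ff0000c2125a01f480d5c0001ffc000007ff000001ffc001f488d300001ffc001c483a2306827f128158982370001ffc0010ca4b4f0001ffc0005c998500000931480002014d0122801380007ff000000785140001fd5507d8b38d80007ff0004325d0180007ff0007127812c00011f410001ffc000000fb400122479100308fa420001ffc000007ff000001ffc000001176100007c18000007b2d00004bcb003082e01000060d501a0aab7d0001ffc000001376e0000864b800010b6c00001b4080007ff000562188bc06ca183300c21e8e804892e3905e2064ac0007ff000001ffc000000a15f05620789c05ca24260001ffc000007ff000001ffc000007ff000001ffc000007ff000001ffc000007ff000001ffc000007ff000001ffc000007ff000001ffc000007ff000001ffc000007ff000000ed43c0007ff000001ffc00100b5c160001ffc000007ff000432ed054100b970e0362e2434048b610a01b2d482c0003620c01b29b02406c96e05017258c1c0001754700005bc200488940300002541003086c3100000bce000b00000))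
) (.node (.leaf (nat_lit 0x7ff000001ffc000007ff000001ffc000007ff000001ffc000007ff000001ffc000007ff000000976000007ff000004a95f007ca08790001ffc001d0a5c850001ffc0007ca82770001ffc000002a6830001ffc000007ff000000826080007ff000001ffc000012606f00005180c0007ff00000084d240011994b0000598100b49943f0000985d80b493c440001ffc00224908310001ffc00000123410001ffc00000059300001ffc001cc8b0020000338f00007ff000001ffc0000007e010852450c80007ff0005a227d680002172e073211ce0001034560001ffc000007ff000001ffc000007ff000001ffc000000355c0001ffc000007ff000001ffc001d0b0b2607728a4e40007ff000001ffc000007ff000001ffc000007ff000000669c80007ff000742849cc1cc9d5060001ffc000007ff000000770d000013d6e0001ffc000007ff0002d2489a80007ff000000655c00007ff0002829f01407c8cd650001ffc000007ff000001ffc000000485d06b230cbc0007ff000001ffc000011db450001ffc00000115610000425b007c858680001ffc000a0a165e0001ffc000007ff000001ffc000007ff000001ffc0016884d2b0001ffc0000030c520001ffc000007ff00000003c000007ff000001ffc000007ff000001ffc000007ff000001ffc000007ff000001ffc000007ff000001ffc000007ff000001ffc000007ff000001ffc000007ff000001ffc000007ff000001ffc000007ff000001ffc000f4b950e0322e14340b5b690c0286d402c08cb6b0a01f6d1c2417a2fa2e0738b89240001d64800009f4f4001165710004515d40000b16600041f58800100e23))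
 (.leaf (nat_lit 0x7ff000001ffc000007ff000001ffc000007ff000001ffc00034a768600d25e11c000270760001ffc00034a505200005380c0002074400d2832080007ff0000008c4e400027f750832a8c1c220aa7700000a581400021b410001ffc00034a857e0001ffc00001274880004a0de00349ae690001ffc000011a16b0001ffc000007ff000001ffc000007ff000001ffc0020c90c5f00d268de40011ac740001ffc000000425c0001ffc000007ff000001ffc000007ff000001ffc00220882560001ffc0020c9f1540001ffc000007ff000001ffc000010445d0001ffc000010ac6600006154c0007ff000001ffc000007ff000001ffc000007ff0000046216c00024a2c06a6c18981e22d34500d28d1fc2122c05207f8b28e40007ff000001ffc000001b1370001ffc000349d47700005cc10034a9b7b0888ad12c00120a810001ffc000000e92f0001ffc000007ff000004749200000d52906d2c08240000c72800d26f5280000712700048c93c03482a0100046ecec1a8aad7d0001ffc000007ff000001ffc000348d13c0000198ac0000532300043e1001ee2d1050001ffc0000124e8400041a0080007ff000001ffc000010cf3200041dcb40007ff000001ffc000007ff000004168900007ff000001ffc000007ff000001ffc000007ff000001ffc00111b74120001ffc000007ff000001ffc000007ff000001ffc000007ff000001ffc000007ff000001ffc00111b5d160001ffc000007ff000000ecc300003990e01c8f64480013b6100000d502c00138d150468cbcb8000300330000abcd8034951830004a651800117687000453c1803486a3100000840000102838))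
)) (.node (.node (.leaf (nat_lit 0x7ff0005823722c0000b98a0001ffc001608b88c0001ffc000007ff0005325e418014a73470001ffc0014ca524f0004a7df40007ff000001ffc000002586e0001ffc000007ff000000a820c0007ff000001ffc000007ff000001ffc000007ff000001ffc0000013f03000098dbc14c9af6b0000695a8001196500001ffc000007ff0004e2989d4001257800001ffc00000103310001ffc000011a4730001ffc000007ff000001ffc0014c8ae020001ffc000007ff000001ffc0013888062067244cc80001e8420582291680007ff0005321197420480c5c0532629000000a55f0001ffc000007ff0004924995c138839560001ffc0015498053000060550000309510766c214800019772000094e102122be4f0001ffc000007ff000868ae91c0149ba590000845040007ff000001ffc0014cb01330001ffc00001204850001ffc000011e76000048412400018b5b0001ffc000007ff000001ffc000148cc650001ffc000148763a00048849814c82c380552308bc19caaa880000760d00011d7350001ffc000007ff000004409b0014857300001ffc000007ff0005321e4b4001237210001ffc000007ff000001ffc0016084e2b05520749c000222390001ffc0014c85c2404e20448c0007ff0000008e0b00007ff000492f1c3400037f0a0000f04640007ff000000ea4300003bb180004f00740013ba1a0001ffc000eca8c160001ffc000007ff000001ffc000007ff000001ffc000007ff000001ffc000ecb9b0e0000f207c0013a81b01d2d382000137e1e01d29a81400034f0b00005741000017a8700009ac2400115c0700044f9d80000af6600520980400300100))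
 (.leaf (nat_lit 0x7ff000001ffc000007ff000001ffc000007ff000001ffc000007ff000001ffc000007ff00000099dbc0007ff000001ffc000007ff000001ffc000007ff000001ffc000007ff000001ffc000007ff000001ffc000007ff000001ffc000007ff000001ffc00060944760726525b00007ff000001ffc000000b56807265a59800018f65072299a14000135620000710c800014a750001ffc000000bb5d0001ffc000010b47203729096c0007ff000004639c00001575800008795c0011346e0001ffc0000022b510001ffc000007ff0000042e9a80007ff000001ffc000007ff000001ffc000011566400048758c0007ff000001ffc000007ff000001ffc000007ff0003728a9800007ff000001ffc000001f34200007fd000001c83e072667cf01822f7510001ffc000007ff000001ffc000007ff0007267898400010e310001ffc000011f24e0000474080011fe4d0000378c00011c74c0001ffc000007ff000001ffc000011283900004a4e8001092040001ffc000007ff000001ffc000000e6240001ffc000011c36d0004435100010dd3f0001ffc000007ff0000044b0b000012d2d0001ffc000007ff000001ffc000007ff000001ffc000007ff000001ffc000010e5340001ffc000007ff0001828ec840007ff000372f307c0003bf1a0182f107400038b0d0001ffc00060bbe1e0000de458000377090372ec038001378190001ffc000003a3120000e7c2c0013a2140001ffc000007ff000001ffc000003b1170372e2870000360080004e784c000292050004dd86000135f0c01825901c2162bd6f0004a44280000933800002180400111c4100042140c01300300))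
) (.node (.leaf (nat_lit 0x84010000364c000008f3800002cda00000b75d0000388900007ff000001ffc000007ff000000995bc0007ff000001ffc000007ff000001ffc001e0a5e760001ffc000007ff000001ffc000007ff000001ffc000007ff000001ffc000007ff000001ffc0000025f800752521b80007ff0007826a01c000191700001ffc000b8990720752992140007ff000001ffc00080906620001ffc000007ff000001ffc000010b28b0001ffc000007ff0008b83d9a00007ff000001ffc000001076c0862461600007ff000000271580007ff0000042da2800103b5a0001ffc0000003c5c0001ffc00000119610001ffc0000109b5f0001ffc000007ff000001ffc001e0b0d4f0001ffc000007ff000000c39480b89f6390001ffc000007ff000752678fc0007ff000001ffc000007ff000001ffc000007ff000001ffc000b890f030000a38141b88ee3a02e2480100007ff000001ffc000007ff000001ffc000007ff000001ffc000007ff0000007dd3800108e8c0001ffc000007ff000001ffc000007ff000001ffc000007ff0008e83c4040010d88d0001ffc00000248200001ffc000007ff000000054000007ff000001ffc0000004b230001ffc000007ff000001ffc000010e1890004128a00007ff000001ffc000a4a472e0001ffc000007ff000001ffc000007ff000001ffc000007ff000001ffc000007ff000001ffc000007ff000001ffc000007ff000001ffc000007ff000001ffc000007ff000001ffc000f8b960e0342e1c340b9b640c0296d642c091b6e0a0206d20240ba3412000006a5cc2162bc6f0004a350c000121410000441102320f538000420e380010142b))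
 (.leaf (nat_lit 0x207010000c1cc0000207380000c1da00003075d0000c1c9000040d760000c341000040c76000100d1000040d2c0000c300c00040c440001035100004036e0001030e400040c75000100e0c0004058300010301400040c410001031c800040d750001030fc000303030000c140c00040d6a000100da800030b680000c141000040b650001015d800030b62000102cc8000303310001035c800030b5d0001031a800020c5c0001010b000030d5a0000c316800030b58000102d5c000205010000c0008000403420000c1d5800040a6a0000835700001020000010354c0002075c00010314c000202380000c10e80002055c0001001000004085f0000c216800040c2c0001010e4000403720001034e400040b42000102d0000040b3e0001015c800040c37000100d0400040d3f0000c301000040d050001014d000030b31000101c1400030c2f0000c2c0800030d2f0000c2cc000030c290001029d400030c280001034dc00020c270000c2ce800010d000000c20a000040006000100cd000030b2400010291000030d280000830ac00020c230000820ac00040a4100008349c00030b2d000041c0000040a3f00008208c00020723000042000000403390001028e400020d2300004140000040a34000100cb000040a2c0001810780005030a000180c6400050609000140c3000060318000142c5800050b090001410300004060500014342800050b12000142c2c0004060800014302800050d0c0001430300005060b00014102800040b0800010281c00040b050001029d800030a040000c0c1000030d030000c280c00020b38000082c0400020d2b00004300000000000))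
))))

noncomputable def tF2_rules : LT :=
(.node (.node (.node (.node (.node (.node (.node (.node (.leaf [nat_lit 51,nat_lit 0,nat_lit 1,nat_lit 0,nat_lit 3,nat_lit 9,nat_lit 3,nat_lit 9])
 (.leaf [nat_lit 20,nat_lit 1,nat_lit 1,nat_lit 1,nat_lit 2,nat_lit 1,nat_lit 2])
) (.leaf [nat_lit 57,nat_lit 1,nat_lit 1,nat_lit 9,nat_lit 6,nat_lit 9,nat_lit 6])
) (.node (.leaf [nat_lit 39,nat_lit 2,nat_lit 1,nat_lit 7,nat_lit 3,nat_lit 7,nat_lit 3,nat_lit 5])
 (.leaf [nat_lit 23,nat_lit 1,nat_lit 1,nat_lit 1,nat_lit 5,nat_lit 1,nat_lit 5])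
)) (.node (.node (.leaf [nat_lit 74,nat_lit 2,nat_lit 1,nat_lit 6,nat_lit 11,nat_lit 6,nat_lit 11])
 (.leaf [nat_lit 65,nat_lit 1,nat_lit 1,nat_lit 10,nat_lit 5,nat_lit 10,nat_lit 5])
) (.node (.leaf [nat_lit 18,nat_lit 1,nat_lit 1,nat_lit 0,nat_lit 4,nat_lit 0,nat_lit 4])
 (.leaf [nat_lit 26,nat_lit 1,nat_lit 1,nat_lit 2,nat_lit 5,nat_lit 2,nat_lit 5])
))) (.node (.node (.node (.node (.leaf [nat_lit 90,nat_lit 1,nat_lit 1,nat_lit 10,nat_lit 13,nat_lit 10,nat_lit 12])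
 (.leaf [nat_lit 87,nat_lit 2,nat_lit 1,nat_lit 13,nat_lit 5,nat_lit 13,nat_lit 2,nat_lit 5])
) (.leaf [nat_lit 63,nat_lit 1,nat_lit 1,nat_lit 10,nat_lit 3,nat_lit 10,nat_lit 3])
) (.node (.leaf [nat_lit 65,nat_lit 2,nat_lit 1,nat_lit 5,nat_lit 10,nat_lit 5,nat_lit 10])
 (.leaf [nat_lit 48,nat_lit 1,nat_lit 1,nat_lit 9,nat_lit 0,nat_lit 9,nat_lit 0])
)) (.node (.node (.leaf [nat_lit 70,nat_lit 3,nat_lit 1,nat_lit 11,nat_lit 3,nat_lit 11,nat_lit 3,nat_lit 11,nat_lit 3])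
 (.leaf [nat_lit 39,nat_lit 3,nat_lit 1,nat_lit 3,nat_lit 7,nat_lit 3,nat_lit 5,nat_lit 7])
) (.node (.leaf [nat_lit 30,nat_lit 3,nat_lit 1,nat_lit 0,nat_lit 6,nat_lit 0,nat_lit 1,nat_lit 6])
 (.leaf [nat_lit 39,nat_lit 4,nat_lit 1,nat_lit 7,nat_lit 3,nat_lit 5,nat_lit 7,nat_lit 3])
)))) (.node (.node (.node (.node (.node (.leaf [nat_lit 83,nat_lit 2,nat_lit 1,nat_lit 1,nat_lit 13,nat_lit 4,nat_lit 12])
 (.leaf [nat_lit 36,nat_lit 1,nat_lit 1,nat_lit 2,nat_lit 7,nat_lit 0,nat_lit 7,nat_lit 0])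
) (.leaf [nat_lit 89,nat_lit 0,nat_lit 1,nat_lit 13,nat_lit 6,nat_lit 13,nat_lit 6])
) (.node (.leaf [nat_lit 77,nat_lit 0,nat_lit 1,nat_lit 7,nat_lit 5,nat_lit 11,nat_lit 5,nat_lit 11])
 (.leaf [nat_lit 53,nat_lit 4,nat_lit 0,nat_lit 2,nat_lit 9,nat_lit 5,nat_lit 9,nat_lit 5])
)) (.node (.node (.leaf [nat_lit 21,nat_lit 1,nat_lit 1,nat_lit 1,nat_lit 3,nat_lit 1,nat_lit 3])
 (.leaf [nat_lit 42,nat_lit 2,nat_lit 1,nat_lit 0,nat_lit 8,nat_lit 0,nat_lit 8])
) (.node (.leaf [nat_lit 40,nat_lit 1,nat_lit 1,nat_lit 7,nat_lit 4,nat_lit 7,nat_lit 4])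
 (.leaf [nat_lit 28,nat_lit 2,nat_lit 1,nat_lit 5,nat_lit 3,nat_lit 5,nat_lit 3])
))) (.node (.node (.node (.leaf [nat_lit 88,nat_lit 2,nat_lit 0,nat_lit 9,nat_lit 12,nat_lit 9,nat_lit 12])
 (.leaf [nat_lit 45,nat_lit 1,nat_lit 1,nat_lit 8,nat_lit 3,nat_lit 8,nat_lit 3])
) (.node (.leaf [nat_lit 79,nat_lit 2,nat_lit 1,nat_lit 2,nat_lit 11,nat_lit 2,nat_lit 11])
 (.leaf [nat_lit 90,nat_lit 3,nat_lit 1,nat_lit 10,nat_lit 12,nat_lit 10,nat_lit 13])
)) (.node (.node (.leaf [nat_lit 84,nat_lit 2,nat_lit 1,nat_lit 2,nat_lit 13,nat_lit 5,nat_lit 12])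
 (.leaf [nat_lit 37,nat_lit 2,nat_lit 1,nat_lit 1,nat_lit 7,nat_lit 1,nat_lit 7])
) (.node (.leaf [nat_lit 34,nat_lit 2,nat_lit 1,nat_lit 4,nat_lit 6,nat_lit 4,nat_lit 6])
 (.leaf [nat_lit 16,nat_lit 1,nat_lit 1,nat_lit 0,nat_lit 2,nat_lit 0,nat_lit 2])
))))) (.node (.node (.node (.node (.node (.node (.leaf [nat_lit 33,nat_lit 1,nat_lit 1,nat_lit 4,nat_lit 6,nat_lit 3,nat_lit 6,nat_lit 3])
 (.leaf [nat_lit 51,nat_lit 0,nat_lit 0,nat_lit 9,nat_lit 3,nat_lit 9,nat_lit 3,nat_lit 0])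
) (.leaf [nat_lit 89,nat_lit 2,nat_lit 1,nat_lit 12,nat_lit 6,nat_lit 12,nat_lit 6])
) (.node (.leaf [nat_lit 53,nat_lit 0,nat_lit 1,nat_lit 2,nat_lit 5,nat_lit 9,nat_lit 5,nat_lit 9])
 (.leaf [nat_lit 67,nat_lit 4,nat_lit 1,nat_lit 10,nat_lit 8,nat_lit 7,nat_lit 10,nat_lit 7])
)) (.node (.node (.leaf [nat_lit 72,nat_lit 2,nat_lit 1,nat_lit 9,nat_lit 11,nat_lit 9,nat_lit 11])
 (.leaf [nat_lit 87,nat_lit 4,nat_lit 0,nat_lit 2,nat_lit 12,nat_lit 5,nat_lit 13,nat_lit 5])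
) (.node (.leaf [nat_lit 29,nat_lit 2,nat_lit 1,nat_lit 5,nat_lit 4,nat_lit 5,nat_lit 4])
 (.leaf [nat_lit 77,nat_lit 2,nat_lit 1,nat_lit 11,nat_lit 5,nat_lit 11,nat_lit 7,nat_lit 5])
))) (.node (.node (.node (.node (.leaf [nat_lit 83,nat_lit 0,nat_lit 1,nat_lit 4,nat_lit 12,nat_lit 1,nat_lit 13])
 (.leaf [nat_lit 92,nat_lit 20,nat_lit 1,nat_lit 14,nat_lit 11,nat_lit 3,nat_lit 13,nat_lit 9,nat_lit 9,nat_lit 13,nat_lit 9,nat_lit 7,nat_lit 5,nat_lit 2,nat_lit 3,nat_lit 11,nat_lit 3,nat_lit 13,nat_lit 9,nat_lit 9,nat_lit 13,nat_lit 9,nat_lit 3,nat_lit 11,nat_lit 3,nat_lit 13,nat_lit 9,nat_lit 9,nat_lit 13,nat_lit 9,nat_lit 3])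
) (.leaf [nat_lit 64,nat_lit 2,nat_lit 1,nat_lit 10,nat_lit 4,nat_lit 10,nat_lit 3,nat_lit 4])
) (.node (.leaf [nat_lit 68,nat_lit 2,nat_lit 1,nat_lit 8,nat_lit 10,nat_lit 8,nat_lit 10])
 (.leaf [nat_lit 82,nat_lit 1,nat_lit 1,nat_lit 13,nat_lit 0,nat_lit 13,nat_lit 3])
)) (.node (.node (.leaf [nat_lit 61,nat_lit 3,nat_lit 1,nat_lit 1,nat_lit 10,nat_lit 0,nat_lit 1,nat_lit 10])
 (.leaf [nat_lit 41,nat_lit 2,nat_lit 1,nat_lit 5,nat_lit 7,nat_lit 5,nat_lit 7])
) (.node (.leaf [nat_lit 32,nat_lit 2,nat_lit 1,nat_lit 2,nat_lit 6,nat_lit 2,nat_lit 6])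
 (.leaf [nat_lit 43,nat_lit 3,nat_lit 1,nat_lit 1,nat_lit 8,nat_lit 1,nat_lit 2,nat_lit 8])
)))) (.node (.node (.node (.node (.node (.leaf [nat_lit 86,nat_lit 3,nat_lit 1,nat_lit 4,nat_lit 13,nat_lit 1,nat_lit 4,nat_lit 12])
 (.leaf [nat_lit 36,nat_lit 2,nat_lit 1,nat_lit 7,nat_lit 0,nat_lit 7,nat_lit 0,nat_lit 2])
) (.leaf [nat_lit 22,nat_lit 1,nat_lit 1,nat_lit 1,nat_lit 4,nat_lit 1,nat_lit 4])
) (.node (.leaf [nat_lit 80,nat_lit 6,nat_lit 1,nat_lit 10,nat_lit 11,nat_lit 10,nat_lit 11,nat_lit 10,nat_lit 11,nat_lit 10,nat_lit 11])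
 (.leaf [nat_lit 24,nat_lit 1,nat_lit 1,nat_lit 2,nat_lit 3,nat_lit 2,nat_lit 3])
)) (.node (.node (.leaf [nat_lit 33,nat_lit 2,nat_lit 1,nat_lit 6,nat_lit 3,nat_lit 6,nat_lit 3,nat_lit 4])
 (.leaf [nat_lit 59,nat_lit 1,nat_lit 1,nat_lit 9,nat_lit 8,nat_lit 9,nat_lit 8])
) (.node (.leaf [nat_lit 52,nat_lit 2,nat_lit 1,nat_lit 9,nat_lit 4,nat_lit 9,nat_lit 1,nat_lit 4])
 (.leaf [nat_lit 51,nat_lit 3,nat_lit 0,nat_lit 3,nat_lit 0,nat_lit 9,nat_lit 3,nat_lit 9])
))) (.node (.node (.node (.leaf [nat_lit 78,nat_lit 2,nat_lit 1,nat_lit 1,nat_lit 11,nat_lit 1,nat_lit 11])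
 (.leaf [nat_lit 28,nat_lit 1,nat_lit 1,nat_lit 3,nat_lit 5,nat_lit 3,nat_lit 5])
) (.node (.leaf [nat_lit 75,nat_lit 2,nat_lit 1,nat_lit 7,nat_lit 11,nat_lit 7,nat_lit 11])
 (.leaf [nat_lit 56,nat_lit 0,nat_lit 1,nat_lit 7,nat_lit 8,nat_lit 6,nat_lit 8,nat_lit 6])
)) (.node (.node (.leaf [nat_lit 64,nat_lit 3,nat_lit 1,nat_lit 4,nat_lit 10,nat_lit 3,nat_lit 4,nat_lit 10])
 (.leaf [nat_lit 58,nat_lit 1,nat_lit 1,nat_lit 9,nat_lit 7,nat_lit 9,nat_lit 7])
) (.node (.leaf [nat_lit 54,nat_lit 2,nat_lit 1,nat_lit 7,nat_lit 6,nat_lit 7,nat_lit 6])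
 (.leaf [nat_lit 36,nat_lit 3,nat_lit 1,nat_lit 0,nat_lit 7,nat_lit 0,nat_lit 2,nat_lit 7])
)))))) (.node (.node (.node (.node (.node (.node (.node (.leaf [nat_lit 30,nat_lit 1,nat_lit 1,nat_lit 1,nat_lit 6,nat_lit 0,nat_lit 6,nat_lit 0])
 (.leaf [nat_lit 24,nat_lit 2,nat_lit 1,nat_lit 3,nat_lit 2,nat_lit 3,nat_lit 2])
) (.leaf [nat_lit 66,nat_lit 3,nat_lit 1,nat_lit 10,nat_lit 6,nat_lit 10,nat_lit 6,nat_lit 10,nat_lit 6])
) (.node (.leaf [nat_lit 91,nat_lit 1,nat_lit 1,nat_lit 8,nat_lit 13,nat_lit 8,nat_lit 12])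
 (.leaf [nat_lit 56,nat_lit 2,nat_lit 1,nat_lit 6,nat_lit 8,nat_lit 6,nat_lit 7,nat_lit 8])
)) (.node (.node (.leaf [nat_lit 71,nat_lit 3,nat_lit 1,nat_lit 0,nat_lit 11,nat_lit 9,nat_lit 0,nat_lit 11])
 (.leaf [nat_lit 85,nat_lit 0,nat_lit 1,nat_lit 0,nat_lit 3,nat_lit 12,nat_lit 3,nat_lit 13])
) (.node (.leaf [nat_lit 25,nat_lit 1,nat_lit 1,nat_lit 2,nat_lit 4,nat_lit 2,nat_lit 4])
 (.leaf [nat_lit 53,nat_lit 2,nat_lit 1,nat_lit 9,nat_lit 5,nat_lit 9,nat_lit 2,nat_lit 5])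
))) (.node (.node (.node (.node (.leaf [nat_lit 86,nat_lit 0,nat_lit 1,nat_lit 1,nat_lit 4,nat_lit 12,nat_lit 4,nat_lit 13])
 (.leaf [nat_lit 39,nat_lit 1,nat_lit 1,nat_lit 5,nat_lit 7,nat_lit 3,nat_lit 7,nat_lit 3])
) (.leaf [nat_lit 27,nat_lit 1,nat_lit 1,nat_lit 3,nat_lit 4,nat_lit 3,nat_lit 4])
) (.node (.leaf [nat_lit 67,nat_lit 3,nat_lit 1,nat_lit 7,nat_lit 10,nat_lit 8,nat_lit 7,nat_lit 10])
 (.leaf [nat_lit 85,nat_lit 4,nat_lit 1,nat_lit 12,nat_lit 0,nat_lit 3,nat_lit 12,nat_lit 3])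
)) (.node (.node (.leaf [nat_lit 60,nat_lit 2,nat_lit 1,nat_lit 0,nat_lit 10,nat_lit 0,nat_lit 10])
 (.leaf [nat_lit 40,nat_lit 2,nat_lit 1,nat_lit 4,nat_lit 7,nat_lit 4,nat_lit 7])
) (.node (.leaf [nat_lit 31,nat_lit 2,nat_lit 1,nat_lit 1,nat_lit 6,nat_lit 1,nat_lit 6])
 (.leaf [nat_lit 92,nat_lit 1,nat_lit 1,nat_lit 14,nat_lit 5,nat_lit 2,nat_lit 3,nat_lit 11,nat_lit 3,nat_lit 13,nat_lit 9,nat_lit 9,nat_lit 13,nat_lit 9,nat_lit 3,nat_lit 11,nat_lit 3,nat_lit 13,nat_lit 9,nat_lit 9,nat_lit 13,nat_lit 9,nat_lit 3,nat_lit 11,nat_lit 3,nat_lit 13,nat_lit 9,nat_lit 9,nat_lit 13,nat_lit 9,nat_lit 7])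
)))) (.node (.node (.node (.node (.node (.leaf [nat_lit 85,nat_lit 3,nat_lit 1,nat_lit 3,nat_lit 13,nat_lit 0,nat_lit 3,nat_lit 12])
 (.leaf [nat_lit 19,nat_lit 2,nat_lit 1,nat_lit 5,nat_lit 0,nat_lit 5,nat_lit 0])
) (.leaf [nat_lit 13,nat_lit 0,nat_lit 0,nat_lit 14,nat_lit 12,nat_lit 13])
) (.node (.leaf [nat_lit 43,nat_lit 2,nat_lit 1,nat_lit 8,nat_lit 1,nat_lit 8,nat_lit 1,nat_lit 2])
 (.leaf [nat_lit 87,nat_lit 4,nat_lit 1,nat_lit 12,nat_lit 2,nat_lit 5,nat_lit 12,nat_lit 5])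
)) (.node (.node (.leaf [nat_lit 27,nat_lit 2,nat_lit 1,nat_lit 4,nat_lit 3,nat_lit 4,nat_lit 3])
 (.leaf [nat_lit 45,nat_lit 2,nat_lit 1,nat_lit 3,nat_lit 8,nat_lit 3,nat_lit 8])
) (.node (.leaf [nat_lit 46,nat_lit 2,nat_lit 1,nat_lit 8,nat_lit 4,nat_lit 8,nat_lit 4,nat_lit 5])
 (.leaf [nat_lit 41,nat_lit 1,nat_lit 1,nat_lit 7,nat_lit 5,nat_lit 7,nat_lit 5])
))) (.node (.node (.node (.leaf [nat_lit 81,nat_lit 1,nat_lit 0,nat_lit 13,nat_lit 12,nat_lit 12])
 (.leaf [nat_lit 19,nat_lit 1,nat_lit 1,nat_lit 0,nat_lit 5,nat_lit 0,nat_lit 5])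
) (.node (.leaf [nat_lit 77,nat_lit 3,nat_lit 1,nat_lit 5,nat_lit 11,nat_lit 7,nat_lit 5,nat_lit 11])
 (.leaf [nat_lit 83,nat_lit 1,nat_lit 1,nat_lit 13,nat_lit 1,nat_lit 13,nat_lit 4])
)) (.node (.node (.leaf [nat_lit 63,nat_lit 2,nat_lit 1,nat_lit 3,nat_lit 10,nat_lit 3,nat_lit 10])
 (.leaf [nat_lit 54,nat_lit 1,nat_lit 1,nat_lit 6,nat_lit 7,nat_lit 6,nat_lit 7])
) (.node (.leaf [nat_lit 35,nat_lit 2,nat_lit 1,nat_lit 5,nat_lit 6,nat_lit 5,nat_lit 6])
 (.leaf [nat_lit 50,nat_lit 1,nat_lit 1,nat_lit 9,nat_lit 2,nat_lit 9,nat_lit 2])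
))))) (.node (.node (.node (.node (.node (.node (.leaf [nat_lit 82,nat_lit 2,nat_lit 1,nat_lit 0,nat_lit 13,nat_lit 3,nat_lit 12])
 (.leaf [nat_lit 85,nat_lit 2,nat_lit 1,nat_lit 13,nat_lit 3,nat_lit 13,nat_lit 0,nat_lit 3])
) (.leaf [nat_lit 88,nat_lit 1,nat_lit 1,nat_lit 9,nat_lit 13,nat_lit 9,nat_lit 13])
) (.node (.leaf [nat_lit 23,nat_lit 2,nat_lit 1,nat_lit 5,nat_lit 1,nat_lit 5,nat_lit 1])
 (.leaf [nat_lit 85,nat_lit 4,nat_lit 0,nat_lit 0,nat_lit 12,nat_lit 3,nat_lit 13,nat_lit 3])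
)) (.node (.node (.leaf [nat_lit 17,nat_lit 1,nat_lit 1,nat_lit 0,nat_lit 3,nat_lit 0,nat_lit 3])
 (.leaf [nat_lit 82,nat_lit 0,nat_lit 1,nat_lit 3,nat_lit 12,nat_lit 0,nat_lit 13])
) (.node (.leaf [nat_lit 34,nat_lit 1,nat_lit 1,nat_lit 6,nat_lit 4,nat_lit 6,nat_lit 4])
 (.leaf [nat_lit 84,nat_lit 0,nat_lit 1,nat_lit 5,nat_lit 12,nat_lit 2,nat_lit 13])
))) (.node (.node (.node (.node (.leaf [nat_lit 89,nat_lit 3,nat_lit 1,nat_lit 6,nat_lit 12,nat_lit 6,nat_lit 13])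
 (.leaf [nat_lit 56,nat_lit 1,nat_lit 1,nat_lit 14,nat_lit 8,nat_lit 6,nat_lit 8,nat_lit 6,nat_lit 7])
) (.leaf [nat_lit 80,nat_lit 0,nat_lit 1,nat_lit 14,nat_lit 10,nat_lit 11,nat_lit 10,nat_lit 11,nat_lit 10,nat_lit 11,nat_lit 10,nat_lit 11])
) (.node (.leaf [nat_lit 90,nat_lit 2,nat_lit 1,nat_lit 12,nat_lit 10,nat_lit 12,nat_lit 10])
 (.leaf [nat_lit 47,nat_lit 2,nat_lit 1,nat_lit 5,nat_lit 8,nat_lit 5,nat_lit 8])
)) (.node (.node (.leaf [nat_lit 69,nat_lit 2,nat_lit 1,nat_lit 9,nat_lit 10,nat_lit 9,nat_lit 10])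
 (.leaf [nat_lit 46,nat_lit 3,nat_lit 1,nat_lit 4,nat_lit 8,nat_lit 4,nat_lit 5,nat_lit 8])
) (.node (.leaf [nat_lit 33,nat_lit 3,nat_lit 1,nat_lit 3,nat_lit 6,nat_lit 3,nat_lit 4,nat_lit 6])
 (.leaf [nat_lit 42,nat_lit 1,nat_lit 1,nat_lit 8,nat_lit 0,nat_lit 8,nat_lit 0])
)))) (.node (.node (.node (.node (.node (.leaf [nat_lit 89,nat_lit 1,nat_lit 1,nat_lit 6,nat_lit 13,nat_lit 6,nat_lit 12])
 (.leaf [nat_lit 53,nat_lit 0,nat_lit 0,nat_lit 9,nat_lit 5,nat_lit 9,nat_lit 5,nat_lit 2])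
) (.leaf [nat_lit 33,nat_lit 4,nat_lit 1,nat_lit 6,nat_lit 3,nat_lit 4,nat_lit 6,nat_lit 3])
) (.node (.leaf [nat_lit 62,nat_lit 2,nat_lit 1,nat_lit 2,nat_lit 10,nat_lit 2,nat_lit 10])
 (.leaf [nat_lit 17,nat_lit 2,nat_lit 1,nat_lit 3,nat_lit 0,nat_lit 3,nat_lit 0])
)) (.node (.node (.leaf [nat_lit 51,nat_lit 2,nat_lit 1,nat_lit 9,nat_lit 3,nat_lit 9,nat_lit 0,nat_lit 3])
 (.leaf [nat_lit 68,nat_lit 1,nat_lit 1,nat_lit 10,nat_lit 8,nat_lit 10,nat_lit 8])
) (.node (.leaf [nat_lit 76,nat_lit 2,nat_lit 1,nat_lit 11,nat_lit 4,nat_lit 11,nat_lit 6,nat_lit 4])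
 (.leaf [nat_lit 46,nat_lit 1,nat_lit 1,nat_lit 5,nat_lit 8,nat_lit 4,nat_lit 8,nat_lit 4])
))) (.node (.node (.node (.leaf [nat_lit 76,nat_lit 3,nat_lit 1,nat_lit 4,nat_lit 11,nat_lit 6,nat_lit 4,nat_lit 11])
 (.leaf [nat_lit 29,nat_lit 1,nat_lit 1,nat_lit 4,nat_lit 5,nat_lit 4,nat_lit 5])
) (.node (.leaf [nat_lit 73,nat_lit 2,nat_lit 1,nat_lit 8,nat_lit 11,nat_lit 8,nat_lit 11])
 (.leaf [nat_lit 67,nat_lit 2,nat_lit 1,nat_lit 10,nat_lit 7,nat_lit 10,nat_lit 8,nat_lit 7])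
)) (.node (.node (.leaf [nat_lit 87,nat_lit 3,nat_lit 1,nat_lit 5,nat_lit 13,nat_lit 2,nat_lit 5,nat_lit 12])
 (.leaf [nat_lit 91,nat_lit 3,nat_lit 1,nat_lit 8,nat_lit 12,nat_lit 8,nat_lit 13])
) (.node (.leaf [nat_lit 56,nat_lit 3,nat_lit 1,nat_lit 8,nat_lit 6,nat_lit 7,nat_lit 8,nat_lit 6])
 (.leaf [nat_lit 38,nat_lit 2,nat_lit 1,nat_lit 2,nat_lit 7,nat_lit 2,nat_lit 7])
)))))))

noncomputable def tF2_subs : LT :=
(.node (.node (.node (.leaf [nat_lit 0,nat_lit 2,nat_lit 0,nat_lit 3])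
 (.leaf [nat_lit 0,nat_lit 3,nat_lit 0,nat_lit 11])
) (.leaf [nat_lit 0,nat_lit 1,nat_lit 0,nat_lit 9])
) (.node (.leaf [nat_lit 0,nat_lit 4,nat_lit 0,nat_lit 6])
 (.leaf [nat_lit 0,nat_lit 5,nat_lit 0,nat_lit 10])
))

noncomputable def tF2 : TC :=
  ⟨fun x c => Nat.shiftRight (BT.get tF2_t x) (Nat.mul (nat_lit 34) c),
  (nat_lit 8), (nat_lit 255), (nat_lit 524287), (nat_lit 19), (nat_lit 32767), (nat_lit 524032), (nat_lit 15), (nat_lit 143), (nat_lit 14), (nat_lit 0), (nat_lit 14), (nat_lit 15), tF2_inv, tF2_rules, tF2_subs⟩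

theorem tF2_c1 : tF2.rules.all (ruleOK tF2.m tF2.inv tF2_rels) = true := by decide +kernel
theorem tF2_c2 : tF2.subs.all (subOK tF2.m tF2.inv tF2_hws) = true := by decide +kernel
theorem tF2_c3 : tF2.base = true := by decide +kernel

theorem tF2_s0 : tF2.slots (nat_lit 0) (nat_lit 143) = true := by decide +kernel

theorem tF2_e0 : allRange (nat_lit 15) (nat_lit 128) tF2.slotE = true := by decide +kernel

theorem tF2_c4 : tF2.Upto tF2.N := ((TC.upto_zero tF2).step _ tF2_s0)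
theorem tF2_c5 : tF2.UptoE tF2.N := ((TC.uptoE_n tF2).step _ tF2_e0)
theorem tF2_bound {G : Type*} [Group G] {g : ℕ → G} {H : Subgroup G} (hinv : ∀ x < 14, g x * g (tF2_inv x) = 1)
    (hrels : ∀ i, evalW g (tF2_rels.get i) = 1) (hH : ∀ x < 0, g x ∈ H) (hhws : ∀ i, evalW g (tF2_hws.get i) ∈ H) :
    H.relIndex (genLt g 14) ≠ 0 ∧ H.relIndex (genLt g 14) ≤ 15 :=
  TC.relIndex_le (T := tF2) hinv hrels hH hhws tF2_c1 tF2_c2 tF2_c3 tF2_c4 tF2_c5

theorem tF2_bd : BoundW.{u} (relH ++ relY false false ++ exF2) WS 14 15 := fun _ _ _ _ hs hH =>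
  tF2_bound (hs.hinv (by decide +kernel)) (hs.tree (by decide +kernel)) (letters_mem hH (by decide +kernel))
    (leaves_mem hH (by decide +kernel))

end Cfsg.Agent.Rec.L52
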