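import Mathlib
import Cfsg.Agent.Rec.L52.DataY
import Cfsg.Agent.Rec.B7

/-! Generated by tools/rec: the normaliser of R1 -/

set_option autoImplicit false
set_option maxRecDepth 100000
set_option linter.unusedVariables false
set_option exponentiation.threshold 100000

namespace Cfsg.Agent.Rec.L52

open Cfsg.Agent.Spor Cfsg.Agent.Rec

universe u

/-- The arithmetic of `7 × 7` matrices. -/
noncomputable abbrev A7 : Ar := B7.A

noncomputable def cK (a b : Bool) : List ℕ :=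
  sel a b [(nat_lit 0x1010101010141), (nat_lit 0x1010101012101), (nat_lit 0x1010101110101), (nat_lit 0x1010109010101), (nat_lit 0x1010501010101), (nat_lit 0x1030101010101), (nat_lit 0x1010101090909), (nat_lit 0x1010181010181), (nat_lit 0x1010103010103), (nat_lit 0x1018101018101), (nat_lit 0x1012121280808), (nat_lit 0x1002020290909), (nat_lit 0x1008301008301), (nat_lit 0x1018201018201)]
    [(nat_lit 0x1010101010141), (nat_lit 0x1010101012101), (nat_lit 0x1010101110101), (nat_lit 0x1010109010101), (nat_lit 0x1010501010101), (nat_lit 0x1030101010101), (nat_lit 0x1010101090909), (nat_lit 0x1010181010181), (nat_lit 0x1010103010103), (nat_lit 0x1018101018101), (nat_lit 0x1012121280808), (nat_lit 0x1002020290909), (nat_lit 0x1008b1102c781), (nat_lit 0x1018211018681)]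
    [(nat_lit 0x1010101010141), (nat_lit 0x1010101012101), (nat_lit 0x1010101110101), (nat_lit 0x1010109010101), (nat_lit 0x1010501010101), (nat_lit 0x1030101010101), (nat_lit 0x1010101090909), (nat_lit 0x1010181010181), (nat_lit 0x1010103010103), (nat_lit 0x1018101018101), (nat_lit 0x1012121280808), (nat_lit 0x1002020290909), (nat_lit 0x100cb11028781), (nat_lit 0x101c29101c601)]

theorem cK_ok : ∀ a b, allL (cK a b) B7.v = true := by
  intro a b; cases a <;> cases b <;> decide +kernel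

noncomputable def R7_t : ST :=
(.node (nat_lit 0x1030101010101) (.node (nat_lit 0x1010501010101) (.node (nat_lit 0x1010109010101) (.node (nat_lit 0x1010101110101) (.node (nat_lit 0x1010101012101) (.node (nat_lit 0x1010101010141) (.leaf (nat_lit 0x1010101010101) (nat_lit 0))
 (.leaf (nat_lit 0x1010101010141) (nat_lit 256))
) (.node (nat_lit 0x1010101012141) (.leaf (nat_lit 0x1010101012101) (nat_lit 257))
 (.leaf (nat_lit 0x1010101012141) (nat_lit 513))
)) (.node (nat_lit 0x1010101112101) (.node (nat_lit 0x1010101110141) (.leaf (nat_lit 0x1010101110101) (nat_lit 258))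
 (.leaf (nat_lit 0x1010101110141) (nat_lit 514))
) (.node (nat_lit 0x1010101112141) (.leaf (nat_lit 0x1010101112101) (nat_lit 514))
 (.leaf (nat_lit 0x1010101112141) (nat_lit 770))
))) (.node (nat_lit 0x1010109110101) (.node (nat_lit 0x1010109012101) (.node (nat_lit 0x1010109010141) (.leaf (nat_lit 0x1010109010101) (nat_lit 259))
 (.leaf (nat_lit 0x1010109010141) (nat_lit 515))
) (.node (nat_lit 0x1010109012141) (.leaf (nat_lit 0x1010109012101) (nat_lit 515))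
 (.leaf (nat_lit 0x1010109012141) (nat_lit 771))
)) (.node (nat_lit 0x1010109112101) (.node (nat_lit 0x1010109110141) (.leaf (nat_lit 0x1010109110101) (nat_lit 515))
 (.leaf (nat_lit 0x1010109110141) (nat_lit 771))
) (.node (nat_lit 0x1010109112141) (.leaf (nat_lit 0x1010109112101) (nat_lit 771))
 (.leaf (nat_lit 0x1010109112141) (nat_lit 1027))
)))) (.node (nat_lit 0x1010509010101) (.node (nat_lit 0x1010501110101) (.node (nat_lit 0x1010501012101) (.node (nat_lit 0x1010501010141) (.leaf (nat_lit 0x1010501010101) (nat_lit 260))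
 (.leaf (nat_lit 0x1010501010141) (nat_lit 516))
) (.node (nat_lit 0x1010501012141) (.leaf (nat_lit 0x1010501012101) (nat_lit 516))
 (.leaf (nat_lit 0x1010501012141) (nat_lit 772))
)) (.node (nat_lit 0x1010501112101) (.node (nat_lit 0x1010501110141) (.leaf (nat_lit 0x1010501110101) (nat_lit 516))
 (.leaf (nat_lit 0x1010501110141) (nat_lit 772))
) (.node (nat_lit 0x1010501112141) (.leaf (nat_lit 0x1010501112101) (nat_lit 772))
 (.leaf (nat_lit 0x1010501112141) (nat_lit 1028))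
))) (.node (nat_lit 0x1010509110101) (.node (nat_lit 0x1010509012101) (.node (nat_lit 0x1010509010141) (.leaf (nat_lit 0x1010509010101) (nat_lit 516))
 (.leaf (nat_lit 0x1010509010141) (nat_lit 772))
) (.node (nat_lit 0x1010509012141) (.leaf (nat_lit 0x1010509012101) (nat_lit 772))
 (.leaf (nat_lit 0x1010509012141) (nat_lit 1028))
)) (.node (nat_lit 0x1010509112101) (.node (nat_lit 0x1010509110141) (.leaf (nat_lit 0x1010509110101) (nat_lit 772))
 (.leaf (nat_lit 0x1010509110141) (nat_lit 1028))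
) (.node (nat_lit 0x1010509112141) (.leaf (nat_lit 0x1010509112101) (nat_lit 1028))
 (.leaf (nat_lit 0x1010509112141) (nat_lit 1284))
))))) (.node (nat_lit 0x1030501010101) (.node (nat_lit 0x1030109010101) (.node (nat_lit 0x1030101110101) (.node (nat_lit 0x1030101012101) (.node (nat_lit 0x1030101010141) (.leaf (nat_lit 0x1030101010101) (nat_lit 261))
 (.leaf (nat_lit 0x1030101010141) (nat_lit 517))
) (.node (nat_lit 0x1030101012141) (.leaf (nat_lit 0x1030101012101) (nat_lit 517))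
 (.leaf (nat_lit 0x1030101012141) (nat_lit 773))
)) (.node (nat_lit 0x1030101112101) (.node (nat_lit 0x1030101110141) (.leaf (nat_lit 0x1030101110101) (nat_lit 517))
 (.leaf (nat_lit 0x1030101110141) (nat_lit 773))
) (.node (nat_lit 0x1030101112141) (.leaf (nat_lit 0x1030101112101) (nat_lit 773))
 (.leaf (nat_lit 0x1030101112141) (nat_lit 1029))
))) (.node (nat_lit 0x1030109110101) (.node (nat_lit 0x1030109012101) (.node (nat_lit 0x1030109010141) (.leaf (nat_lit 0x1030109010101) (nat_lit 517))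
 (.leaf (nat_lit 0x1030109010141) (nat_lit 773))
) (.node (nat_lit 0x1030109012141) (.leaf (nat_lit 0x1030109012101) (nat_lit 773))
 (.leaf (nat_lit 0x1030109012141) (nat_lit 1029))
)) (.node (nat_lit 0x1030109112101) (.node (nat_lit 0x1030109110141) (.leaf (nat_lit 0x1030109110101) (nat_lit 773))
 (.leaf (nat_lit 0x1030109110141) (nat_lit 1029))
) (.node (nat_lit 0x1030109112141) (.leaf (nat_lit 0x1030109112101) (nat_lit 1029))
 (.leaf (nat_lit 0x1030109112141) (nat_lit 1285))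
)))) (.node (nat_lit 0x1030509010101) (.node (nat_lit 0x1030501110101) (.node (nat_lit 0x1030501012101) (.node (nat_lit 0x1030501010141) (.leaf (nat_lit 0x1030501010101) (nat_lit 517))
 (.leaf (nat_lit 0x1030501010141) (nat_lit 773))
) (.node (nat_lit 0x1030501012141) (.leaf (nat_lit 0x1030501012101) (nat_lit 773))
 (.leaf (nat_lit 0x1030501012141) (nat_lit 1029))
)) (.node (nat_lit 0x1030501112101) (.node (nat_lit 0x1030501110141) (.leaf (nat_lit 0x1030501110101) (nat_lit 773))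
 (.leaf (nat_lit 0x1030501110141) (nat_lit 1029))
) (.node (nat_lit 0x1030501112141) (.leaf (nat_lit 0x1030501112101) (nat_lit 1029))
 (.leaf (nat_lit 0x1030501112141) (nat_lit 1285))
))) (.node (nat_lit 0x1030509110101) (.node (nat_lit 0x1030509012101) (.node (nat_lit 0x1030509010141) (.leaf (nat_lit 0x1030509010101) (nat_lit 773))
 (.leaf (nat_lit 0x1030509010141) (nat_lit 1029))
) (.node (nat_lit 0x1030509012141) (.leaf (nat_lit 0x1030509012101) (nat_lit 1029))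
 (.leaf (nat_lit 0x1030509012141) (nat_lit 1285))
)) (.node (nat_lit 0x1030509112101) (.node (nat_lit 0x1030509110141) (.leaf (nat_lit 0x1030509110101) (nat_lit 1029))
 (.leaf (nat_lit 0x1030509110141) (nat_lit 1285))
) (.node (nat_lit 0x1030509112141) (.leaf (nat_lit 0x1030509112101) (nat_lit 1285))
 (.leaf (nat_lit 0x1030509112141) (nat_lit 1541))
))))))

theorem R7_ok : ∀ a b, genOK A7 ((cK a b).take 6) R7_t 64 = true := by
  intro a b; cases a <;> cases b <;> decide +kernel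

noncomputable def KKL : ST :=
(.node (nat_lit 0x10092d1208281) (.node (nat_lit 0x1003020ac0828) (.node (nat_lit 0x1001850e61438) (.node (nat_lit 0x1001030e48dbf) (.node (nat_lit 0x1000850e256bf) (.node (nat_lit 0x1000830e24dbf) (.node (nat_lit 0x1000820e2493f) (.node (nat_lit 0x1000820a2492d) (.node (nat_lit 0x1000820824924) (.leaf (nat_lit 0x1000820820820) (nat_lit 2050))
 (.node (nat_lit 0x1000820a20828) (.leaf (nat_lit 0x1000820824924) (nat_lit 1794))
 (.leaf (nat_lit 0x1000820a20828) (nat_lit 1799))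
)) (.node (nat_lit 0x1000820c24936) (.node (nat_lit 0x1000820c20830) (.leaf (nat_lit 0x1000820a2492d) (nat_lit 1543))
 (.leaf (nat_lit 0x1000820c20830) (nat_lit 1798))
) (.node (nat_lit 0x1000820e20838) (.leaf (nat_lit 0x1000820c24936) (nat_lit 1542))
 (.leaf (nat_lit 0x1000820e20838) (nat_lit 1798))
))) (.node (nat_lit 0x1000830a24dad) (.node (nat_lit 0x1000830824da4) (.node (nat_lit 0x1000830820c20) (.leaf (nat_lit 0x1000820e2493f) (nat_lit 1542))
 (.leaf (nat_lit 0x1000830820c20) (nat_lit 1794))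
) (.node (nat_lit 0x1000830a20c28) (.leaf (nat_lit 0x1000830824da4) (nat_lit 1538))
 (.leaf (nat_lit 0x1000830a20c28) (nat_lit 1795))
)) (.node (nat_lit 0x1000830c24db6) (.node (nat_lit 0x1000830c20c30) (.leaf (nat_lit 0x1000830a24dad) (nat_lit 1539))
 (.leaf (nat_lit 0x1000830c20c30) (nat_lit 1793))
) (.node (nat_lit 0x1000830e20c38) (.leaf (nat_lit 0x1000830c24db6) (nat_lit 1537))
 (.leaf (nat_lit 0x1000830e20c38) (nat_lit 1542))
)))) (.node (nat_lit 0x1000840e2523f) (.node (nat_lit 0x100084062521b) (.node (nat_lit 0x1000840425212) (.node (nat_lit 0x1000840421010) (.leaf (nat_lit 0x1000830e24dbf) (nat_lit 1286))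
 (.leaf (nat_lit 0x1000840421010) (nat_lit 1798))
) (.node (nat_lit 0x1000840621018) (.leaf (nat_lit 0x1000840425212) (nat_lit 1542))
 (.leaf (nat_lit 0x1000840621018) (nat_lit 1542))
)) (.node (nat_lit 0x1000840c25236) (.node (nat_lit 0x1000840c21030) (.leaf (nat_lit 0x100084062521b) (nat_lit 1286))
 (.leaf (nat_lit 0x1000840c21030) (nat_lit 2050))
) (.node (nat_lit 0x1000840e21038) (.leaf (nat_lit 0x1000840c25236) (nat_lit 1794))
 (.leaf (nat_lit 0x1000840e21038) (nat_lit 1794))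
))) (.node (nat_lit 0x100085062569b) (.node (nat_lit 0x1000850425692) (.node (nat_lit 0x1000850421410) (.leaf (nat_lit 0x1000840e2523f) (nat_lit 1538))
 (.leaf (nat_lit 0x1000850421410) (nat_lit 1542))
) (.node (nat_lit 0x1000850621418) (.leaf (nat_lit 0x1000850425692) (nat_lit 1286))
 (.leaf (nat_lit 0x1000850621418) (nat_lit 1286))
)) (.node (nat_lit 0x1000850c256b6) (.node (nat_lit 0x1000850c21430) (.leaf (nat_lit 0x100085062569b) (nat_lit 1030))
 (.leaf (nat_lit 0x1000850c21430) (nat_lit 1538))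
) (.node (nat_lit 0x1000850e21438) (.leaf (nat_lit 0x1000850c256b6) (nat_lit 1282))
 (.leaf (nat_lit 0x1000850e21438) (nat_lit 1794))
))))) (.node (nat_lit 0x1000870a25fad) (.node (nat_lit 0x1000860a25b2d) (.node (nat_lit 0x1000860625b1b) (.node (nat_lit 0x1000860425b12) (.node (nat_lit 0x1000860421810) (.leaf (nat_lit 0x1000850e256bf) (nat_lit 1538))
 (.leaf (nat_lit 0x1000860421810) (nat_lit 1798))
) (.node (nat_lit 0x1000860621818) (.leaf (nat_lit 0x1000860425b12) (nat_lit 1542))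
 (.leaf (nat_lit 0x1000860621818) (nat_lit 1537))
)) (.node (nat_lit 0x1000860825b24) (.node (nat_lit 0x1000860821820) (.leaf (nat_lit 0x1000860625b1b) (nat_lit 1281))
 (.leaf (nat_lit 0x1000860821820) (nat_lit 1799))
) (.node (nat_lit 0x1000860a21828) (.leaf (nat_lit 0x1000860825b24) (nat_lit 1543))
 (.leaf (nat_lit 0x1000860a21828) (nat_lit 1798))
))) (.node (nat_lit 0x1000870625f9b) (.node (nat_lit 0x1000870425f92) (.node (nat_lit 0x1000870421c10) (.leaf (nat_lit 0x1000860a25b2d) (nat_lit 1542))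
 (.leaf (nat_lit 0x1000870421c10) (nat_lit 1793))
) (.node (nat_lit 0x1000870621c18) (.leaf (nat_lit 0x1000870425f92) (nat_lit 1537))
 (.leaf (nat_lit 0x1000870621c18) (nat_lit 1542))
)) (.node (nat_lit 0x1000870825fa4) (.node (nat_lit 0x1000870821c20) (.leaf (nat_lit 0x1000870625f9b) (nat_lit 1286))
 (.leaf (nat_lit 0x1000870821c20) (nat_lit 1794))
) (.node (nat_lit 0x1000870a21c28) (.leaf (nat_lit 0x1000870825fa4) (nat_lit 1538))
 (.leaf (nat_lit 0x1000870a21c28) (nat_lit 1542))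
)))) (.node (nat_lit 0x1001010e484bf) (.node (nat_lit 0x1001010a484ad) (.node (nat_lit 0x10010108484a4) (.node (nat_lit 0x1001010840420) (.leaf (nat_lit 0x1000870a25fad) (nat_lit 1286))
 (.leaf (nat_lit 0x1001010840420) (nat_lit 1793))
) (.node (nat_lit 0x1001010a40428) (.leaf (nat_lit 0x10010108484a4) (nat_lit 1537))
 (.leaf (nat_lit 0x1001010a40428) (nat_lit 1537))
)) (.node (nat_lit 0x1001010c484b6) (.node (nat_lit 0x1001010c40430) (.leaf (nat_lit 0x1001010a484ad) (nat_lit 1281))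
 (.leaf (nat_lit 0x1001010c40430) (nat_lit 1537))
) (.node (nat_lit 0x1001010e40438) (.leaf (nat_lit 0x1001010c484b6) (nat_lit 1281))
 (.leaf (nat_lit 0x1001010e40438) (nat_lit 1281))
))) (.node (nat_lit 0x1001030a48dad) (.node (nat_lit 0x1001030848da4) (.node (nat_lit 0x1001030840c20) (.leaf (nat_lit 0x1001010e484bf) (nat_lit 1025))
 (.leaf (nat_lit 0x1001030840c20) (nat_lit 2049))
) (.node (nat_lit 0x1001030a40c28) (.leaf (nat_lit 0x1001030848da4) (nat_lit 1793))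
 (.leaf (nat_lit 0x1001030a40c28) (nat_lit 1537))
)) (.node (nat_lit 0x1001030c48db6) (.node (nat_lit 0x1001030c40c30) (.leaf (nat_lit 0x1001030a48dad) (nat_lit 1281))
 (.leaf (nat_lit 0x1001030c40c30) (nat_lit 1799))
) (.node (nat_lit 0x1001030e40c38) (.leaf (nat_lit 0x1001030c48db6) (nat_lit 1543))
 (.leaf (nat_lit 0x1001030e40c38) (nat_lit 1793))
)))))) (.node (nat_lit 0x1001070c41c30) (.node (nat_lit 0x1001050c41430) (.node (nat_lit 0x1001040e41038) (.node (nat_lit 0x1001040641018) (.node (nat_lit 0x1001040241008) (.leaf (nat_lit 0x1001030e48dbf) (nat_lit 1537))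
 (.node (nat_lit 0x1001040249209) (.leaf (nat_lit 0x1001040241008) (nat_lit 1030))
 (.leaf (nat_lit 0x1001040249209) (nat_lit 774))
)) (.node (nat_lit 0x1001040a41028) (.node (nat_lit 0x100104064921b) (.leaf (nat_lit 0x1001040641018) (nat_lit 1286))
 (.leaf (nat_lit 0x100104064921b) (nat_lit 1030))
) (.node (nat_lit 0x1001040a4922d) (.leaf (nat_lit 0x1001040a41028) (nat_lit 1282))
 (.leaf (nat_lit 0x1001040a4922d) (nat_lit 1026))
))) (.node (nat_lit 0x1001050641418) (.node (nat_lit 0x1001050241408) (.node (nat_lit 0x1001040e4923f) (.leaf (nat_lit 0x1001040e41038) (nat_lit 1538))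
 (.leaf (nat_lit 0x1001040e4923f) (nat_lit 1282))
) (.node (nat_lit 0x1001050249689) (.leaf (nat_lit 0x1001050241408) (nat_lit 1281))
 (.leaf (nat_lit 0x1001050249689) (nat_lit 1025))
)) (.node (nat_lit 0x1001050841420) (.node (nat_lit 0x100105064969b) (.leaf (nat_lit 0x1001050641418) (nat_lit 1281))
 (.leaf (nat_lit 0x100105064969b) (nat_lit 1025))
) (.node (nat_lit 0x10010508496a4) (.leaf (nat_lit 0x1001050841420) (nat_lit 1538))
 (.leaf (nat_lit 0x10010508496a4) (nat_lit 1282))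
)))) (.node (nat_lit 0x1001060e41838) (.node (nat_lit 0x1001060641818) (.node (nat_lit 0x1001060241808) (.node (nat_lit 0x1001050c496b6) (.leaf (nat_lit 0x1001050c41430) (nat_lit 1538))
 (.leaf (nat_lit 0x1001050c496b6) (nat_lit 1282))
) (.node (nat_lit 0x1001060249b09) (.leaf (nat_lit 0x1001060241808) (nat_lit 774))
 (.leaf (nat_lit 0x1001060249b09) (nat_lit 518))
)) (.node (nat_lit 0x1001060a41828) (.node (nat_lit 0x1001060649b1b) (.leaf (nat_lit 0x1001060641818) (nat_lit 1030))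
 (.leaf (nat_lit 0x1001060649b1b) (nat_lit 774))
) (.node (nat_lit 0x1001060a49b2d) (.leaf (nat_lit 0x1001060a41828) (nat_lit 1282))
 (.leaf (nat_lit 0x1001060a49b2d) (nat_lit 1026))
))) (.node (nat_lit 0x1001070641c18) (.node (nat_lit 0x1001070241c08) (.node (nat_lit 0x1001060e49b3f) (.leaf (nat_lit 0x1001060e41838) (nat_lit 1026))
 (.leaf (nat_lit 0x1001060e49b3f) (nat_lit 770))
) (.node (nat_lit 0x1001070249f89) (.leaf (nat_lit 0x1001070241c08) (nat_lit 1025))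
 (.leaf (nat_lit 0x1001070249f89) (nat_lit 769))
)) (.node (nat_lit 0x1001070841c20) (.node (nat_lit 0x1001070649f9b) (.leaf (nat_lit 0x1001070641c18) (nat_lit 1537))
 (.leaf (nat_lit 0x1001070649f9b) (nat_lit 1281))
) (.node (nat_lit 0x1001070849fa4) (.leaf (nat_lit 0x1001070841c20) (nat_lit 1799))
 (.leaf (nat_lit 0x1001070849fa4) (nat_lit 1543))
))))) (.node (nat_lit 0x1001820e60838) (.node (nat_lit 0x1001810e60438) (.node (nat_lit 0x1001810a60428) (.node (nat_lit 0x1001810860420) (.node (nat_lit 0x1001070c49fb6) (.leaf (nat_lit 0x1001070c41c30) (nat_lit 1282))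
 (.leaf (nat_lit 0x1001070c49fb6) (nat_lit 1026))
) (.node (nat_lit 0x100181086c4a4) (.leaf (nat_lit 0x1001810860420) (nat_lit 1793))
 (.leaf (nat_lit 0x100181086c4a4) (nat_lit 1537))
)) (.node (nat_lit 0x1001810c60430) (.node (nat_lit 0x1001810a6c4ad) (.leaf (nat_lit 0x1001810a60428) (nat_lit 1793))
 (.leaf (nat_lit 0x1001810a6c4ad) (nat_lit 1537))
) (.node (nat_lit 0x1001810c6c4b6) (.leaf (nat_lit 0x1001810c60430) (nat_lit 1537))
 (.leaf (nat_lit 0x1001810c6c4b6) (nat_lit 1281))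
))) (.node (nat_lit 0x1001820a60828) (.node (nat_lit 0x1001820860820) (.node (nat_lit 0x1001810e6c4bf) (.leaf (nat_lit 0x1001810e60438) (nat_lit 1539))
 (.leaf (nat_lit 0x1001810e6c4bf) (nat_lit 1283))
) (.node (nat_lit 0x100182086c924) (.leaf (nat_lit 0x1001820860820) (nat_lit 1793))
 (.leaf (nat_lit 0x100182086c924) (nat_lit 1537))
)) (.node (nat_lit 0x1001820c60830) (.node (nat_lit 0x1001820a6c92d) (.leaf (nat_lit 0x1001820a60828) (nat_lit 1793))
 (.leaf (nat_lit 0x1001820a6c92d) (nat_lit 1537))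
) (.node (nat_lit 0x1001820c6c936) (.leaf (nat_lit 0x1001820c60830) (nat_lit 1799))
 (.leaf (nat_lit 0x1001820c6c936) (nat_lit 1543))
)))) (.node (nat_lit 0x1001840c61030) (.node (nat_lit 0x1001840461010) (.node (nat_lit 0x1001840261008) (.node (nat_lit 0x1001820e6c93f) (.leaf (nat_lit 0x1001820e60838) (nat_lit 1543))
 (.leaf (nat_lit 0x1001820e6c93f) (nat_lit 1287))
) (.node (nat_lit 0x100184026d209) (.leaf (nat_lit 0x1001840261008) (nat_lit 1286))
 (.leaf (nat_lit 0x100184026d209) (nat_lit 1030))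
)) (.node (nat_lit 0x1001840a61028) (.node (nat_lit 0x100184046d212) (.leaf (nat_lit 0x1001840461010) (nat_lit 1542))
 (.leaf (nat_lit 0x100184046d212) (nat_lit 1286))
) (.node (nat_lit 0x1001840a6d22d) (.leaf (nat_lit 0x1001840a61028) (nat_lit 1538))
 (.leaf (nat_lit 0x1001840a6d22d) (nat_lit 1282))
))) (.node (nat_lit 0x1001850461410) (.node (nat_lit 0x1001850261408) (.node (nat_lit 0x1001840c6d236) (.leaf (nat_lit 0x1001840c61030) (nat_lit 1794))
 (.leaf (nat_lit 0x1001840c6d236) (nat_lit 1538))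
) (.node (nat_lit 0x100185026d689) (.leaf (nat_lit 0x1001850261408) (nat_lit 1286))
 (.leaf (nat_lit 0x100185026d689) (nat_lit 1030))
)) (.node (nat_lit 0x1001850861420) (.node (nat_lit 0x100185046d692) (.leaf (nat_lit 0x1001850461410) (nat_lit 1537))
 (.leaf (nat_lit 0x100185046d692) (nat_lit 1281))
) (.node (nat_lit 0x100185086d6a4) (.leaf (nat_lit 0x1001850861420) (nat_lit 1538))
 (.leaf (nat_lit 0x100185086d6a4) (nat_lit 1282))
))))))) (.node (nat_lit 0x1002070a91fad) (.node (nat_lit 0x1002020a9092d) (.node (nat_lit 0x1001870a6dfad) (.node (nat_lit 0x100186086db24) (.node (nat_lit 0x100186026db09) (.node (nat_lit 0x1001850e6d6bf) (.leaf (nat_lit 0x1001850e61438) (nat_lit 1794))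
 (.node (nat_lit 0x1001860261808) (.leaf (nat_lit 0x1001850e6d6bf) (nat_lit 1538))
 (.leaf (nat_lit 0x1001860261808) (nat_lit 1281))
)) (.node (nat_lit 0x100186046db12) (.node (nat_lit 0x1001860461810) (.leaf (nat_lit 0x100186026db09) (nat_lit 1025))
 (.leaf (nat_lit 0x1001860461810) (nat_lit 1793))
) (.node (nat_lit 0x1001860861820) (.leaf (nat_lit 0x100186046db12) (nat_lit 1537))
 (.leaf (nat_lit 0x1001860861820) (nat_lit 1543))
))) (.node (nat_lit 0x100187026df89) (.node (nat_lit 0x1001860e6db3f) (.node (nat_lit 0x1001860e61838) (.leaf (nat_lit 0x100186086db24) (nat_lit 1287))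
 (.leaf (nat_lit 0x1001860e61838) (nat_lit 1538))
) (.node (nat_lit 0x1001870261c08) (.leaf (nat_lit 0x1001860e6db3f) (nat_lit 1282))
 (.leaf (nat_lit 0x1001870261c08) (nat_lit 1030))
)) (.node (nat_lit 0x100187046df92) (.node (nat_lit 0x1001870461c10) (.leaf (nat_lit 0x100187026df89) (nat_lit 774))
 (.leaf (nat_lit 0x1001870461c10) (nat_lit 1286))
) (.node (nat_lit 0x1001870a61c28) (.leaf (nat_lit 0x100187046df92) (nat_lit 1030))
 (.leaf (nat_lit 0x1001870a61c28) (nat_lit 1538))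
)))) (.node (nat_lit 0x1002010c904b6) (.node (nat_lit 0x1002010490492) (.node (nat_lit 0x1001870c6dfb6) (.node (nat_lit 0x1001870c61c30) (.leaf (nat_lit 0x1001870a6dfad) (nat_lit 1282))
 (.leaf (nat_lit 0x1001870c61c30) (nat_lit 1282))
) (.node (nat_lit 0x1002010480410) (.leaf (nat_lit 0x1001870c6dfb6) (nat_lit 1026))
 (.leaf (nat_lit 0x1002010480410) (nat_lit 1284))
)) (.node (nat_lit 0x100201069049b) (.node (nat_lit 0x1002010680418) (.leaf (nat_lit 0x1002010490492) (nat_lit 1029))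
 (.leaf (nat_lit 0x1002010680418) (nat_lit 1028))
) (.node (nat_lit 0x1002010c80430) (.leaf (nat_lit 0x100201069049b) (nat_lit 773))
 (.leaf (nat_lit 0x1002010c80430) (nat_lit 1793))
))) (.node (nat_lit 0x1002020290909) (.node (nat_lit 0x1002010e904bf) (.node (nat_lit 0x1002010e80438) (.leaf (nat_lit 0x1002010c904b6) (nat_lit 1537))
 (.leaf (nat_lit 0x1002010e80438) (nat_lit 1537))
) (.node (nat_lit 0x1002020280808) (.leaf (nat_lit 0x1002010e904bf) (nat_lit 1281))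
 (.leaf (nat_lit 0x1002020280808) (nat_lit 516))
)) (.node (nat_lit 0x100202069091b) (.node (nat_lit 0x1002020680818) (.leaf (nat_lit 0x1002020290909) (nat_lit 261))
 (.leaf (nat_lit 0x1002020680818) (nat_lit 772))
) (.node (nat_lit 0x1002020a80828) (.leaf (nat_lit 0x100202069091b) (nat_lit 517))
 (.leaf (nat_lit 0x1002020a80828) (nat_lit 1286))
))))) (.node (nat_lit 0x1002050c916b6) (.node (nat_lit 0x1002030a90dad) (.node (nat_lit 0x1002030290d89) (.node (nat_lit 0x1002020e9093f) (.node (nat_lit 0x1002020e80838) (.leaf (nat_lit 0x1002020a9092d) (nat_lit 1030))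
 (.leaf (nat_lit 0x1002020e80838) (nat_lit 1287))
) (.node (nat_lit 0x1002030280c08) (.leaf (nat_lit 0x1002020e9093f) (nat_lit 1031))
 (.leaf (nat_lit 0x1002030280c08) (nat_lit 772))
)) (.node (nat_lit 0x1002030490d92) (.node (nat_lit 0x1002030480c10) (.leaf (nat_lit 0x1002030290d89) (nat_lit 517))
 (.leaf (nat_lit 0x1002030480c10) (nat_lit 1028))
) (.node (nat_lit 0x1002030a80c28) (.leaf (nat_lit 0x1002030490d92) (nat_lit 773))
 (.leaf (nat_lit 0x1002030a80c28) (nat_lit 1542))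
))) (.node (nat_lit 0x1002050491692) (.node (nat_lit 0x1002030c90db6) (.node (nat_lit 0x1002030c80c30) (.leaf (nat_lit 0x1002030a90dad) (nat_lit 1286))
 (.leaf (nat_lit 0x1002030c80c30) (nat_lit 1543))
) (.node (nat_lit 0x1002050481410) (.leaf (nat_lit 0x1002030c90db6) (nat_lit 1287))
 (.leaf (nat_lit 0x1002050481410) (nat_lit 1799))
)) (.node (nat_lit 0x100205069169b) (.node (nat_lit 0x1002050681418) (.leaf (nat_lit 0x1002050491692) (nat_lit 1543))
 (.leaf (nat_lit 0x1002050681418) (nat_lit 1543))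
) (.node (nat_lit 0x1002050c81430) (.leaf (nat_lit 0x100205069169b) (nat_lit 1287))
 (.leaf (nat_lit 0x1002050c81430) (nat_lit 1793))
)))) (.node (nat_lit 0x1002060a91b2d) (.node (nat_lit 0x1002060291b09) (.node (nat_lit 0x1002050e916bf) (.node (nat_lit 0x1002050e81438) (.leaf (nat_lit 0x1002050c916b6) (nat_lit 1537))
 (.leaf (nat_lit 0x1002050e81438) (nat_lit 1537))
) (.node (nat_lit 0x1002060281808) (.leaf (nat_lit 0x1002050e916bf) (nat_lit 1281))
 (.leaf (nat_lit 0x1002060281808) (nat_lit 1031))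
)) (.node (nat_lit 0x1002060691b1b) (.node (nat_lit 0x1002060681818) (.leaf (nat_lit 0x1002060291b09) (nat_lit 775))
 (.leaf (nat_lit 0x1002060681818) (nat_lit 1287))
) (.node (nat_lit 0x1002060a81828) (.leaf (nat_lit 0x1002060691b1b) (nat_lit 1031))
 (.leaf (nat_lit 0x1002060a81828) (nat_lit 1538))
))) (.node (nat_lit 0x1002070291f89) (.node (nat_lit 0x1002060e91b3f) (.node (nat_lit 0x1002060e81838) (.leaf (nat_lit 0x1002060a91b2d) (nat_lit 1282))
 (.leaf (nat_lit 0x1002060e81838) (nat_lit 1282))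
) (.node (nat_lit 0x1002070281c08) (.leaf (nat_lit 0x1002060e91b3f) (nat_lit 1026))
 (.leaf (nat_lit 0x1002070281c08) (nat_lit 1287))
)) (.node (nat_lit 0x1002070491f92) (.node (nat_lit 0x1002070481c10) (.leaf (nat_lit 0x1002070291f89) (nat_lit 1031))
 (.leaf (nat_lit 0x1002070481c10) (nat_lit 1543))
) (.node (nat_lit 0x1002070a81c28) (.leaf (nat_lit 0x1002070491f92) (nat_lit 1287))
 (.leaf (nat_lit 0x1002070a81c28) (nat_lit 1537))
)))))) (.node (nat_lit 0x1002840ca1030) (.node (nat_lit 0x10028208a0820) (.node (nat_lit 0x1002810ca0430) (.node (nat_lit 0x10028104a0410) (.node (nat_lit 0x1002070c81c30) (.leaf (nat_lit 0x1002070a91fad) (nat_lit 1281))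
 (.node (nat_lit 0x1002070c91fb6) (.leaf (nat_lit 0x1002070c81c30) (nat_lit 1538))
 (.leaf (nat_lit 0x1002070c91fb6) (nat_lit 1282))
)) (.node (nat_lit 0x10028106a0418) (.node (nat_lit 0x10028104b4492) (.leaf (nat_lit 0x10028104a0410) (nat_lit 1540))
 (.leaf (nat_lit 0x10028104b4492) (nat_lit 1285))
) (.node (nat_lit 0x10028106b449b) (.leaf (nat_lit 0x10028106a0418) (nat_lit 1284))
 (.leaf (nat_lit 0x10028106b449b) (nat_lit 1029))
))) (.node (nat_lit 0x10028202a0808) (.node (nat_lit 0x1002810ea0438) (.node (nat_lit 0x1002810cb44b6) (.leaf (nat_lit 0x1002810ca0430) (nat_lit 1793))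
 (.leaf (nat_lit 0x1002810cb44b6) (nat_lit 1537))
) (.node (nat_lit 0x1002810eb44bf) (.leaf (nat_lit 0x1002810ea0438) (nat_lit 1793))
 (.leaf (nat_lit 0x1002810eb44bf) (nat_lit 1537))
)) (.node (nat_lit 0x10028206a0818) (.node (nat_lit 0x10028202b4909) (.leaf (nat_lit 0x10028202a0808) (nat_lit 1287))
 (.leaf (nat_lit 0x10028202b4909) (nat_lit 1031))
) (.node (nat_lit 0x10028206b491b) (.leaf (nat_lit 0x10028206a0818) (nat_lit 1540))
 (.leaf (nat_lit 0x10028206b491b) (nat_lit 1285))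
)))) (.node (nat_lit 0x10028308a0c20) (.node (nat_lit 0x10028302a0c08) (.node (nat_lit 0x1002820ca0830) (.node (nat_lit 0x10028208b4924) (.leaf (nat_lit 0x10028208a0820) (nat_lit 1798))
 (.leaf (nat_lit 0x10028208b4924) (nat_lit 1542))
) (.node (nat_lit 0x1002820cb4936) (.leaf (nat_lit 0x1002820ca0830) (nat_lit 1543))
 (.leaf (nat_lit 0x1002820cb4936) (nat_lit 1287))
)) (.node (nat_lit 0x10028304a0c10) (.node (nat_lit 0x10028302b4d89) (.leaf (nat_lit 0x10028302a0c08) (nat_lit 1284))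
 (.leaf (nat_lit 0x10028302b4d89) (nat_lit 1029))
) (.node (nat_lit 0x10028304b4d92) (.leaf (nat_lit 0x10028304a0c10) (nat_lit 1540))
 (.leaf (nat_lit 0x10028304b4d92) (nat_lit 1285))
))) (.node (nat_lit 0x10028404a1010) (.node (nat_lit 0x1002830ea0c38) (.node (nat_lit 0x10028308b4da4) (.leaf (nat_lit 0x10028308a0c20) (nat_lit 1542))
 (.leaf (nat_lit 0x10028308b4da4) (nat_lit 1286))
) (.node (nat_lit 0x1002830eb4dbf) (.leaf (nat_lit 0x1002830ea0c38) (nat_lit 1799))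
 (.leaf (nat_lit 0x1002830eb4dbf) (nat_lit 1543))
)) (.node (nat_lit 0x10028406a1018) (.node (nat_lit 0x10028404b5212) (.leaf (nat_lit 0x10028404a1010) (nat_lit 1543))
 (.leaf (nat_lit 0x10028404b5212) (nat_lit 1287))
) (.node (nat_lit 0x10028406b521b) (.leaf (nat_lit 0x10028406a1018) (nat_lit 1287))
 (.leaf (nat_lit 0x10028406b521b) (nat_lit 1031))
))))) (.node (nat_lit 0x10028708a1c20) (.node (nat_lit 0x10028608a1820) (.node (nat_lit 0x10028602a1808) (.node (nat_lit 0x1002840ea1038) (.node (nat_lit 0x1002840cb5236) (.leaf (nat_lit 0x1002840ca1030) (nat_lit 1794))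
 (.leaf (nat_lit 0x1002840cb5236) (nat_lit 1538))
) (.node (nat_lit 0x1002840eb523f) (.leaf (nat_lit 0x1002840ea1038) (nat_lit 1538))
 (.leaf (nat_lit 0x1002840eb523f) (nat_lit 1282))
)) (.node (nat_lit 0x10028604a1810) (.node (nat_lit 0x10028602b5b09) (.leaf (nat_lit 0x10028602a1808) (nat_lit 1287))
 (.leaf (nat_lit 0x10028602b5b09) (nat_lit 1031))
) (.node (nat_lit 0x10028604b5b12) (.leaf (nat_lit 0x10028604a1810) (nat_lit 1543))
 (.leaf (nat_lit 0x10028604b5b12) (nat_lit 1287))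
))) (.node (nat_lit 0x10028702a1c08) (.node (nat_lit 0x1002860ea1838) (.node (nat_lit 0x10028608b5b24) (.leaf (nat_lit 0x10028608a1820) (nat_lit 1794))
 (.leaf (nat_lit 0x10028608b5b24) (nat_lit 1538))
) (.node (nat_lit 0x1002860eb5b3f) (.leaf (nat_lit 0x1002860ea1838) (nat_lit 1538))
 (.leaf (nat_lit 0x1002860eb5b3f) (nat_lit 1282))
)) (.node (nat_lit 0x10028706a1c18) (.node (nat_lit 0x10028702b5f89) (.leaf (nat_lit 0x10028702a1c08) (nat_lit 1283))
 (.leaf (nat_lit 0x10028702b5f89) (nat_lit 1027))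
) (.node (nat_lit 0x10028706b5f9b) (.leaf (nat_lit 0x10028706a1c18) (nat_lit 1537))
 (.leaf (nat_lit 0x10028706b5f9b) (nat_lit 1281))
)))) (.node (nat_lit 0x10030108c0420) (.node (nat_lit 0x10030104c0410) (.node (nat_lit 0x1002870ca1c30) (.node (nat_lit 0x10028708b5fa4) (.leaf (nat_lit 0x10028708a1c20) (nat_lit 1794))
 (.leaf (nat_lit 0x10028708b5fa4) (nat_lit 1538))
) (.node (nat_lit 0x1002870cb5fb6) (.leaf (nat_lit 0x1002870ca1c30) (nat_lit 1539))
 (.leaf (nat_lit 0x1002870cb5fb6) (nat_lit 1283))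
)) (.node (nat_lit 0x10030106c0418) (.node (nat_lit 0x10030104d8492) (.leaf (nat_lit 0x10030104c0410) (nat_lit 1540))
 (.leaf (nat_lit 0x10030104d8492) (nat_lit 1285))
) (.node (nat_lit 0x10030106d849b) (.leaf (nat_lit 0x10030106c0418) (nat_lit 1284))
 (.leaf (nat_lit 0x10030106d849b) (nat_lit 1029))
))) (.node (nat_lit 0x10030202c0808) (.node (nat_lit 0x1003010ac0428) (.node (nat_lit 0x10030108d84a4) (.leaf (nat_lit 0x10030108c0420) (nat_lit 1537))
 (.leaf (nat_lit 0x10030108d84a4) (nat_lit 1281))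
) (.node (nat_lit 0x1003010ad84ad) (.leaf (nat_lit 0x1003010ac0428) (nat_lit 1281))
 (.leaf (nat_lit 0x1003010ad84ad) (nat_lit 1025))
)) (.node (nat_lit 0x10030206c0818) (.node (nat_lit 0x10030202d8909) (.leaf (nat_lit 0x10030202c0808) (nat_lit 772))
 (.leaf (nat_lit 0x10030202d8909) (nat_lit 517))
) (.node (nat_lit 0x10030206d891b) (.leaf (nat_lit 0x10030206c0818) (nat_lit 1028))
 (.leaf (nat_lit 0x10030206d891b) (nat_lit 773))
)))))))) (.node (nat_lit 0x1004383004383) (.node (nat_lit 0x10038404fd212) (.node (nat_lit 0x10030706d9f9b) (.node (nat_lit 0x10030406d921b) (.node (nat_lit 0x10030304d8d92) (.node (nat_lit 0x1003020ed893f) (.node (nat_lit 0x1003020ad892d) (.leaf (nat_lit 0x1003020ac0828) (nat_lit 1543))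
 (.node (nat_lit 0x1003020ec0838) (.leaf (nat_lit 0x1003020ad892d) (nat_lit 1287))
 (.leaf (nat_lit 0x1003020ec0838) (nat_lit 1542))
)) (.node (nat_lit 0x10030302d8d89) (.node (nat_lit 0x10030302c0c08) (.leaf (nat_lit 0x1003020ed893f) (nat_lit 1286))
 (.leaf (nat_lit 0x10030302c0c08) (nat_lit 1028))
) (.node (nat_lit 0x10030304c0c10) (.leaf (nat_lit 0x10030302d8d89) (nat_lit 773))
 (.leaf (nat_lit 0x10030304c0c10) (nat_lit 1284))
))) (.node (nat_lit 0x1003030ed8dbf) (.node (nat_lit 0x10030308d8da4) (.node (nat_lit 0x10030308c0c20) (.leaf (nat_lit 0x10030304d8d92) (nat_lit 1029))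
 (.leaf (nat_lit 0x10030308c0c20) (nat_lit 1793))
) (.node (nat_lit 0x1003030ec0c38) (.leaf (nat_lit 0x10030308d8da4) (nat_lit 1537))
 (.leaf (nat_lit 0x1003030ec0c38) (nat_lit 1537))
)) (.node (nat_lit 0x10030402d9209) (.node (nat_lit 0x10030402c1008) (.leaf (nat_lit 0x1003030ed8dbf) (nat_lit 1281))
 (.leaf (nat_lit 0x10030402c1008) (nat_lit 775))
) (.node (nat_lit 0x10030406c1018) (.leaf (nat_lit 0x10030402d9209) (nat_lit 519))
 (.leaf (nat_lit 0x10030406c1018) (nat_lit 1031))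
)))) (.node (nat_lit 0x10030504d9692) (.node (nat_lit 0x1003040ed923f) (.node (nat_lit 0x1003040ad922d) (.node (nat_lit 0x1003040ac1028) (.leaf (nat_lit 0x10030406d921b) (nat_lit 775))
 (.leaf (nat_lit 0x1003040ac1028) (nat_lit 1026))
) (.node (nat_lit 0x1003040ec1038) (.leaf (nat_lit 0x1003040ad922d) (nat_lit 770))
 (.leaf (nat_lit 0x1003040ec1038) (nat_lit 1282))
)) (.node (nat_lit 0x10030502d9689) (.node (nat_lit 0x10030502c1408) (.leaf (nat_lit 0x1003040ed923f) (nat_lit 1026))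
 (.leaf (nat_lit 0x10030502c1408) (nat_lit 1025))
) (.node (nat_lit 0x10030504c1410) (.leaf (nat_lit 0x10030502d9689) (nat_lit 769))
 (.leaf (nat_lit 0x10030504c1410) (nat_lit 1795))
))) (.node (nat_lit 0x1003050ed96bf) (.node (nat_lit 0x10030508d96a4) (.node (nat_lit 0x10030508c1420) (.leaf (nat_lit 0x10030504d9692) (nat_lit 1539))
 (.leaf (nat_lit 0x10030508c1420) (nat_lit 1282))
) (.node (nat_lit 0x1003050ec1438) (.leaf (nat_lit 0x10030508d96a4) (nat_lit 1026))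
 (.leaf (nat_lit 0x1003050ec1438) (nat_lit 1798))
)) (.node (nat_lit 0x10030704d9f92) (.node (nat_lit 0x10030704c1c10) (.leaf (nat_lit 0x1003050ed96bf) (nat_lit 1542))
 (.leaf (nat_lit 0x10030704c1c10) (nat_lit 1799))
) (.node (nat_lit 0x10030706c1c18) (.leaf (nat_lit 0x10030704d9f92) (nat_lit 1543))
 (.leaf (nat_lit 0x10030706c1c18) (nat_lit 1281))
))))) (.node (nat_lit 0x10038206fc91b) (.node (nat_lit 0x10038106fc49b) (.node (nat_lit 0x1003070ad9fad) (.node (nat_lit 0x10030708d9fa4) (.node (nat_lit 0x10030708c1c20) (.leaf (nat_lit 0x10030706d9f9b) (nat_lit 1025))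
 (.leaf (nat_lit 0x10030708c1c20) (nat_lit 1538))
) (.node (nat_lit 0x1003070ac1c28) (.leaf (nat_lit 0x10030708d9fa4) (nat_lit 1282))
 (.leaf (nat_lit 0x1003070ac1c28) (nat_lit 1799))
)) (.node (nat_lit 0x10038104fc492) (.node (nat_lit 0x10038104e0410) (.leaf (nat_lit 0x1003070ad9fad) (nat_lit 1543))
 (.leaf (nat_lit 0x10038104e0410) (nat_lit 1540))
) (.node (nat_lit 0x10038106e0418) (.leaf (nat_lit 0x10038104fc492) (nat_lit 1285))
 (.leaf (nat_lit 0x10038106e0418) (nat_lit 1540))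
))) (.node (nat_lit 0x1003810afc4ad) (.node (nat_lit 0x10038108fc4a4) (.node (nat_lit 0x10038108e0420) (.leaf (nat_lit 0x10038106fc49b) (nat_lit 1285))
 (.leaf (nat_lit 0x10038108e0420) (nat_lit 1793))
) (.node (nat_lit 0x1003810ae0428) (.leaf (nat_lit 0x10038108fc4a4) (nat_lit 1537))
 (.leaf (nat_lit 0x1003810ae0428) (nat_lit 1537))
)) (.node (nat_lit 0x10038202fc909) (.node (nat_lit 0x10038202e0808) (.leaf (nat_lit 0x1003810afc4ad) (nat_lit 1281))
 (.leaf (nat_lit 0x10038202e0808) (nat_lit 1284))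
) (.node (nat_lit 0x10038206e0818) (.leaf (nat_lit 0x10038202fc909) (nat_lit 1029))
 (.leaf (nat_lit 0x10038206e0818) (nat_lit 1540))
)))) (.node (nat_lit 0x10038304fcd92) (.node (nat_lit 0x1003820cfc936) (.node (nat_lit 0x10038208fc924) (.node (nat_lit 0x10038208e0820) (.leaf (nat_lit 0x10038206fc91b) (nat_lit 1285))
 (.leaf (nat_lit 0x10038208e0820) (nat_lit 1799))
) (.node (nat_lit 0x1003820ce0830) (.leaf (nat_lit 0x10038208fc924) (nat_lit 1543))
 (.leaf (nat_lit 0x1003820ce0830) (nat_lit 1793))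
)) (.node (nat_lit 0x10038302fcd89) (.node (nat_lit 0x10038302e0c08) (.leaf (nat_lit 0x1003820cfc936) (nat_lit 1537))
 (.leaf (nat_lit 0x10038302e0c08) (nat_lit 1028))
) (.node (nat_lit 0x10038304e0c10) (.leaf (nat_lit 0x10038302fcd89) (nat_lit 773))
 (.leaf (nat_lit 0x10038304e0c10) (nat_lit 1284))
))) (.node (nat_lit 0x1003830cfcdb6) (.node (nat_lit 0x1003830afcdad) (.node (nat_lit 0x1003830ae0c28) (.leaf (nat_lit 0x10038304fcd92) (nat_lit 1029))
 (.leaf (nat_lit 0x1003830ae0c28) (nat_lit 1799))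
) (.node (nat_lit 0x1003830ce0c30) (.leaf (nat_lit 0x1003830afcdad) (nat_lit 1543))
 (.leaf (nat_lit 0x1003830ce0c30) (nat_lit 1798))
)) (.node (nat_lit 0x10038402fd209) (.node (nat_lit 0x10038402e1008) (.leaf (nat_lit 0x1003830cfcdb6) (nat_lit 1542))
 (.leaf (nat_lit 0x10038402e1008) (nat_lit 1031))
) (.node (nat_lit 0x10038404e1010) (.leaf (nat_lit 0x10038402fd209) (nat_lit 775))
 (.leaf (nat_lit 0x10038404e1010) (nat_lit 1287))
)))))) (.node (nat_lit 0x1004185004185) (.node (nat_lit 0x10038606e1818) (.node (nat_lit 0x10038506e1418) (.node (nat_lit 0x1003840ce1030) (.node (nat_lit 0x1003840ae1028) (.leaf (nat_lit 0x10038404fd212) (nat_lit 1031))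
 (.node (nat_lit 0x1003840afd22d) (.leaf (nat_lit 0x1003840ae1028) (nat_lit 1282))
 (.leaf (nat_lit 0x1003840afd22d) (nat_lit 1026))
)) (.node (nat_lit 0x10038502e1408) (.node (nat_lit 0x1003840cfd236) (.leaf (nat_lit 0x1003840ce1030) (nat_lit 1538))
 (.leaf (nat_lit 0x1003840cfd236) (nat_lit 1282))
) (.node (nat_lit 0x10038502fd689) (.leaf (nat_lit 0x10038502e1408) (nat_lit 1281))
 (.leaf (nat_lit 0x10038502fd689) (nat_lit 1025))
))) (.node (nat_lit 0x1003850ce1430) (.node (nat_lit 0x10038508e1420) (.node (nat_lit 0x10038506fd69b) (.leaf (nat_lit 0x10038506e1418) (nat_lit 1539))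
 (.leaf (nat_lit 0x10038506fd69b) (nat_lit 1283))
) (.node (nat_lit 0x10038508fd6a4) (.leaf (nat_lit 0x10038508e1420) (nat_lit 1538))
 (.leaf (nat_lit 0x10038508fd6a4) (nat_lit 1282))
)) (.node (nat_lit 0x10038604e1810) (.node (nat_lit 0x1003850cfd6b6) (.leaf (nat_lit 0x1003850ce1430) (nat_lit 1542))
 (.leaf (nat_lit 0x1003850cfd6b6) (nat_lit 1286))
) (.node (nat_lit 0x10038604fdb12) (.leaf (nat_lit 0x10038604e1810) (nat_lit 1537))
 (.leaf (nat_lit 0x10038604fdb12) (nat_lit 1281))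
)))) (.node (nat_lit 0x1004105004105) (.node (nat_lit 0x1003860ae1828) (.node (nat_lit 0x10038608e1820) (.node (nat_lit 0x10038606fdb1b) (.leaf (nat_lit 0x10038606e1818) (nat_lit 1543))
 (.leaf (nat_lit 0x10038606fdb1b) (nat_lit 1287))
) (.node (nat_lit 0x10038608fdb24) (.leaf (nat_lit 0x10038608e1820) (nat_lit 1794))
 (.leaf (nat_lit 0x10038608fdb24) (nat_lit 1538))
)) (.node (nat_lit 0x1004104004104) (.node (nat_lit 0x1003860afdb2d) (.leaf (nat_lit 0x1003860ae1828) (nat_lit 1543))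
 (.leaf (nat_lit 0x1003860afdb2d) (nat_lit 1287))
) (.node (nat_lit 0x1004104024924) (.leaf (nat_lit 0x1004104004104) (nat_lit 1538))
 (.leaf (nat_lit 0x1004104024924) (nat_lit 1794))
))) (.node (nat_lit 0x1004107004107) (.node (nat_lit 0x1004106004106) (.node (nat_lit 0x100410502492d) (.leaf (nat_lit 0x1004105004105) (nat_lit 1287))
 (.leaf (nat_lit 0x100410502492d) (nat_lit 1543))
) (.node (nat_lit 0x1004106024936) (.leaf (nat_lit 0x1004106004106) (nat_lit 1286))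
 (.leaf (nat_lit 0x1004106024936) (nat_lit 1542))
)) (.node (nat_lit 0x1004184004184) (.node (nat_lit 0x100410702493f) (.leaf (nat_lit 0x1004107004107) (nat_lit 1286))
 (.leaf (nat_lit 0x100410702493f) (nat_lit 1542))
) (.node (nat_lit 0x1004184024da4) (.leaf (nat_lit 0x1004184004184) (nat_lit 1282))
 (.leaf (nat_lit 0x1004184024da4) (nat_lit 1538))
))))) (.node (nat_lit 0x1004283004283) (.node (nat_lit 0x1004203004203) (.node (nat_lit 0x1004187004187) (.node (nat_lit 0x1004186004186) (.node (nat_lit 0x1004185024dad) (.leaf (nat_lit 0x1004185004185) (nat_lit 1283))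
 (.leaf (nat_lit 0x1004185024dad) (nat_lit 1539))
) (.node (nat_lit 0x1004186024db6) (.leaf (nat_lit 0x1004186004186) (nat_lit 1281))
 (.leaf (nat_lit 0x1004186024db6) (nat_lit 1537))
)) (.node (nat_lit 0x1004202004202) (.node (nat_lit 0x1004187024dbf) (.leaf (nat_lit 0x1004187004187) (nat_lit 1030))
 (.leaf (nat_lit 0x1004187024dbf) (nat_lit 1286))
) (.node (nat_lit 0x1004202025212) (.leaf (nat_lit 0x1004202004202) (nat_lit 1286))
 (.leaf (nat_lit 0x1004202025212) (nat_lit 1542))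
))) (.node (nat_lit 0x1004207004207) (.node (nat_lit 0x1004206004206) (.node (nat_lit 0x100420302521b) (.leaf (nat_lit 0x1004203004203) (nat_lit 1030))
 (.leaf (nat_lit 0x100420302521b) (nat_lit 1286))
) (.node (nat_lit 0x1004206025236) (.leaf (nat_lit 0x1004206004206) (nat_lit 1538))
 (.leaf (nat_lit 0x1004206025236) (nat_lit 1794))
)) (.node (nat_lit 0x1004282004282) (.node (nat_lit 0x100420702523f) (.leaf (nat_lit 0x1004207004207) (nat_lit 1282))
 (.leaf (nat_lit 0x100420702523f) (nat_lit 1538))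
) (.node (nat_lit 0x1004282025692) (.leaf (nat_lit 0x1004282004282) (nat_lit 1030))
 (.leaf (nat_lit 0x1004282025692) (nat_lit 1286))
)))) (.node (nat_lit 0x1004303004303) (.node (nat_lit 0x1004287004287) (.node (nat_lit 0x1004286004286) (.node (nat_lit 0x100428302569b) (.leaf (nat_lit 0x1004283004283) (nat_lit 774))
 (.leaf (nat_lit 0x100428302569b) (nat_lit 1030))
) (.node (nat_lit 0x10042860256b6) (.leaf (nat_lit 0x1004286004286) (nat_lit 1026))
 (.leaf (nat_lit 0x10042860256b6) (nat_lit 1282))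
)) (.node (nat_lit 0x1004302004302) (.node (nat_lit 0x10042870256bf) (.leaf (nat_lit 0x1004287004287) (nat_lit 1282))
 (.leaf (nat_lit 0x10042870256bf) (nat_lit 1538))
) (.node (nat_lit 0x1004302025b12) (.leaf (nat_lit 0x1004302004302) (nat_lit 1286))
 (.leaf (nat_lit 0x1004302025b12) (nat_lit 1542))
))) (.node (nat_lit 0x1004305004305) (.node (nat_lit 0x1004304004304) (.node (nat_lit 0x1004303025b1b) (.leaf (nat_lit 0x1004303004303) (nat_lit 1025))
 (.leaf (nat_lit 0x1004303025b1b) (nat_lit 1281))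
) (.node (nat_lit 0x1004304025b24) (.leaf (nat_lit 0x1004304004304) (nat_lit 1287))
 (.leaf (nat_lit 0x1004304025b24) (nat_lit 1543))
)) (.node (nat_lit 0x1004382004382) (.node (nat_lit 0x1004305025b2d) (.leaf (nat_lit 0x1004305004305) (nat_lit 1286))
 (.leaf (nat_lit 0x1004305025b2d) (nat_lit 1542))
) (.node (nat_lit 0x1004382025f92) (.leaf (nat_lit 0x1004382004382) (nat_lit 1281))
 (.leaf (nat_lit 0x1004382025f92) (nat_lit 1537))
))))))) (.node (nat_lit 0x1008184048da4) (.node (nat_lit 0x1004ad2421410) (.node (nat_lit 0x10049b4820c20) (.node (nat_lit 0x1004924820820) (.node (nat_lit 0x1004384025fa4) (.node (nat_lit 0x1004383025f9b) (.leaf (nat_lit 0x1004383004383) (nat_lit 1030))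
 (.node (nat_lit 0x1004384004384) (.leaf (nat_lit 0x1004383025f9b) (nat_lit 1286))
 (.leaf (nat_lit 0x1004384004384) (nat_lit 1282))
)) (.node (nat_lit 0x1004385025fad) (.node (nat_lit 0x1004385004385) (.leaf (nat_lit 0x1004384025fa4) (nat_lit 1538))
 (.leaf (nat_lit 0x1004385004385) (nat_lit 1030))
) (.node (nat_lit 0x1004924804104) (.leaf (nat_lit 0x1004385025fad) (nat_lit 1286))
 (.leaf (nat_lit 0x1004924804104) (nat_lit 2050))
))) (.node (nat_lit 0x1004926c20830) (.node (nat_lit 0x1004925a20828) (.node (nat_lit 0x1004925a04105) (.leaf (nat_lit 0x1004924820820) (nat_lit 1794))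
 (.leaf (nat_lit 0x1004925a04105) (nat_lit 1799))
) (.node (nat_lit 0x1004926c04106) (.leaf (nat_lit 0x1004925a20828) (nat_lit 1543))
 (.leaf (nat_lit 0x1004926c04106) (nat_lit 1798))
)) (.node (nat_lit 0x1004927e20838) (.node (nat_lit 0x1004927e04107) (.leaf (nat_lit 0x1004926c20830) (nat_lit 1542))
 (.leaf (nat_lit 0x1004927e04107) (nat_lit 1798))
) (.node (nat_lit 0x10049b4804184) (.leaf (nat_lit 0x1004927e20838) (nat_lit 1542))
 (.leaf (nat_lit 0x10049b4804184) (nat_lit 1794))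
)))) (.node (nat_lit 0x1004a42421010) (.node (nat_lit 0x10049b6c20c30) (.node (nat_lit 0x10049b5a20c28) (.node (nat_lit 0x10049b5a04185) (.leaf (nat_lit 0x10049b4820c20) (nat_lit 1538))
 (.leaf (nat_lit 0x10049b5a04185) (nat_lit 1795))
) (.node (nat_lit 0x10049b6c04186) (.leaf (nat_lit 0x10049b5a20c28) (nat_lit 1539))
 (.leaf (nat_lit 0x10049b6c04186) (nat_lit 1793))
)) (.node (nat_lit 0x10049b7e20c38) (.node (nat_lit 0x10049b7e04187) (.leaf (nat_lit 0x10049b6c20c30) (nat_lit 1537))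
 (.leaf (nat_lit 0x10049b7e04187) (nat_lit 1542))
) (.node (nat_lit 0x1004a42404202) (.leaf (nat_lit 0x10049b7e20c38) (nat_lit 1286))
 (.leaf (nat_lit 0x1004a42404202) (nat_lit 1798))
))) (.node (nat_lit 0x1004a46c21030) (.node (nat_lit 0x1004a43621018) (.node (nat_lit 0x1004a43604203) (.leaf (nat_lit 0x1004a42421010) (nat_lit 1542))
 (.leaf (nat_lit 0x1004a43604203) (nat_lit 1542))
) (.node (nat_lit 0x1004a46c04206) (.leaf (nat_lit 0x1004a43621018) (nat_lit 1286))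
 (.leaf (nat_lit 0x1004a46c04206) (nat_lit 2050))
)) (.node (nat_lit 0x1004a47e21038) (.node (nat_lit 0x1004a47e04207) (.leaf (nat_lit 0x1004a46c21030) (nat_lit 1794))
 (.leaf (nat_lit 0x1004a47e04207) (nat_lit 1794))
) (.node (nat_lit 0x1004ad2404282) (.leaf (nat_lit 0x1004a47e21038) (nat_lit 1538))
 (.leaf (nat_lit 0x1004ad2404282) (nat_lit 1542))
))))) (.node (nat_lit 0x1004bf2421c10) (.node (nat_lit 0x1004b62421810) (.node (nat_lit 0x1004ad6c21430) (.node (nat_lit 0x1004ad3621418) (.node (nat_lit 0x1004ad3604283) (.leaf (nat_lit 0x1004ad2421410) (nat_lit 1286))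
 (.leaf (nat_lit 0x1004ad3604283) (nat_lit 1286))
) (.node (nat_lit 0x1004ad6c04286) (.leaf (nat_lit 0x1004ad3621418) (nat_lit 1030))
 (.leaf (nat_lit 0x1004ad6c04286) (nat_lit 1538))
)) (.node (nat_lit 0x1004ad7e21438) (.node (nat_lit 0x1004ad7e04287) (.leaf (nat_lit 0x1004ad6c21430) (nat_lit 1282))
 (.leaf (nat_lit 0x1004ad7e04287) (nat_lit 1794))
) (.node (nat_lit 0x1004b62404302) (.leaf (nat_lit 0x1004ad7e21438) (nat_lit 1538))
 (.leaf (nat_lit 0x1004b62404302) (nat_lit 1798))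
))) (.node (nat_lit 0x1004b64821820) (.node (nat_lit 0x1004b63621818) (.node (nat_lit 0x1004b63604303) (.leaf (nat_lit 0x1004b62421810) (nat_lit 1542))
 (.leaf (nat_lit 0x1004b63604303) (nat_lit 1537))
) (.node (nat_lit 0x1004b64804304) (.leaf (nat_lit 0x1004b63621818) (nat_lit 1281))
 (.leaf (nat_lit 0x1004b64804304) (nat_lit 1799))
)) (.node (nat_lit 0x1004b65a21828) (.node (nat_lit 0x1004b65a04305) (.leaf (nat_lit 0x1004b64821820) (nat_lit 1543))
 (.leaf (nat_lit 0x1004b65a04305) (nat_lit 1798))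
) (.node (nat_lit 0x1004bf2404382) (.leaf (nat_lit 0x1004b65a21828) (nat_lit 1542))
 (.leaf (nat_lit 0x1004bf2404382) (nat_lit 1793))
)))) (.node (nat_lit 0x10080840484a4) (.node (nat_lit 0x1004bf4821c20) (.node (nat_lit 0x1004bf3621c18) (.node (nat_lit 0x1004bf3604383) (.leaf (nat_lit 0x1004bf2421c10) (nat_lit 1537))
 (.leaf (nat_lit 0x1004bf3604383) (nat_lit 1542))
) (.node (nat_lit 0x1004bf4804384) (.leaf (nat_lit 0x1004bf3621c18) (nat_lit 1286))
 (.leaf (nat_lit 0x1004bf4804384) (nat_lit 1794))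
)) (.node (nat_lit 0x1004bf5a21c28) (.node (nat_lit 0x1004bf5a04385) (.leaf (nat_lit 0x1004bf4821c20) (nat_lit 1538))
 (.leaf (nat_lit 0x1004bf5a04385) (nat_lit 1542))
) (.node (nat_lit 0x1008084008084) (.leaf (nat_lit 0x1004bf5a21c28) (nat_lit 1286))
 (.leaf (nat_lit 0x1008084008084) (nat_lit 1281))
))) (.node (nat_lit 0x10080860484b6) (.node (nat_lit 0x10080850484ad) (.node (nat_lit 0x1008085008085) (.leaf (nat_lit 0x10080840484a4) (nat_lit 1537))
 (.leaf (nat_lit 0x1008085008085) (nat_lit 1025))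
) (.node (nat_lit 0x1008086008086) (.leaf (nat_lit 0x10080850484ad) (nat_lit 1281))
 (.leaf (nat_lit 0x1008086008086) (nat_lit 1025))
)) (.node (nat_lit 0x10080870484bf) (.node (nat_lit 0x1008087008087) (.leaf (nat_lit 0x10080860484b6) (nat_lit 1281))
 (.leaf (nat_lit 0x1008087008087) (nat_lit 769))
) (.node (nat_lit 0x1008184008184) (.leaf (nat_lit 0x10080870484bf) (nat_lit 1025))
 (.leaf (nat_lit 0x1008184008184) (nat_lit 1537))
)))))) (.node (nat_lit 0x1008381008381) (.node (nat_lit 0x1008281008281) (.node (nat_lit 0x1008201008201) (.node (nat_lit 0x1008186008186) (.node (nat_lit 0x1008185008185) (.leaf (nat_lit 0x1008184048da4) (nat_lit 1793))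
 (.node (nat_lit 0x1008185048dad) (.leaf (nat_lit 0x1008185008185) (nat_lit 1025))
 (.leaf (nat_lit 0x1008185048dad) (nat_lit 1281))
)) (.node (nat_lit 0x1008187008187) (.node (nat_lit 0x1008186048db6) (.leaf (nat_lit 0x1008186008186) (nat_lit 1287))
 (.leaf (nat_lit 0x1008186048db6) (nat_lit 1543))
) (.node (nat_lit 0x1008187048dbf) (.leaf (nat_lit 0x1008187008187) (nat_lit 1281))
 (.leaf (nat_lit 0x1008187048dbf) (nat_lit 1537))
))) (.node (nat_lit 0x1008205008205) (.node (nat_lit 0x1008203008203) (.node (nat_lit 0x1008201049209) (.leaf (nat_lit 0x1008201008201) (nat_lit 518))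
 (.leaf (nat_lit 0x1008201049209) (nat_lit 774))
) (.node (nat_lit 0x100820304921b) (.leaf (nat_lit 0x1008203008203) (nat_lit 774))
 (.leaf (nat_lit 0x100820304921b) (nat_lit 1030))
)) (.node (nat_lit 0x1008207008207) (.node (nat_lit 0x100820504922d) (.leaf (nat_lit 0x1008205008205) (nat_lit 770))
 (.leaf (nat_lit 0x100820504922d) (nat_lit 1026))
) (.node (nat_lit 0x100820704923f) (.leaf (nat_lit 0x1008207008207) (nat_lit 1026))
 (.leaf (nat_lit 0x100820704923f) (nat_lit 1282))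
)))) (.node (nat_lit 0x1008301008301) (.node (nat_lit 0x1008284008284) (.node (nat_lit 0x1008283008283) (.node (nat_lit 0x1008281049689) (.leaf (nat_lit 0x1008281008281) (nat_lit 769))
 (.leaf (nat_lit 0x1008281049689) (nat_lit 1025))
) (.node (nat_lit 0x100828304969b) (.leaf (nat_lit 0x1008283008283) (nat_lit 769))
 (.leaf (nat_lit 0x100828304969b) (nat_lit 1025))
)) (.node (nat_lit 0x1008286008286) (.node (nat_lit 0x10082840496a4) (.leaf (nat_lit 0x1008284008284) (nat_lit 1026))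
 (.leaf (nat_lit 0x10082840496a4) (nat_lit 1282))
) (.node (nat_lit 0x10082860496b6) (.leaf (nat_lit 0x1008286008286) (nat_lit 1026))
 (.leaf (nat_lit 0x10082860496b6) (nat_lit 1282))
))) (.node (nat_lit 0x1008305008305) (.node (nat_lit 0x1008303008303) (.node (nat_lit 0x1008301049b09) (.leaf (nat_lit 0x1008301008301) (nat_lit 262))
 (.leaf (nat_lit 0x1008301049b09) (nat_lit 518))
) (.node (nat_lit 0x1008303049b1b) (.leaf (nat_lit 0x1008303008303) (nat_lit 518))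
 (.leaf (nat_lit 0x1008303049b1b) (nat_lit 774))
)) (.node (nat_lit 0x1008307008307) (.node (nat_lit 0x1008305049b2d) (.leaf (nat_lit 0x1008305008305) (nat_lit 770))
 (.leaf (nat_lit 0x1008305049b2d) (nat_lit 1026))
) (.node (nat_lit 0x1008307049b3f) (.leaf (nat_lit 0x1008307008307) (nat_lit 514))
 (.leaf (nat_lit 0x1008307049b3f) (nat_lit 770))
))))) (.node (nat_lit 0x10091b4808184) (.node (nat_lit 0x1009094808084) (.node (nat_lit 0x1008384008384) (.node (nat_lit 0x1008383008383) (.node (nat_lit 0x1008381049f89) (.leaf (nat_lit 0x1008381008381) (nat_lit 513))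
 (.leaf (nat_lit 0x1008381049f89) (nat_lit 769))
) (.node (nat_lit 0x1008383049f9b) (.leaf (nat_lit 0x1008383008383) (nat_lit 1025))
 (.leaf (nat_lit 0x1008383049f9b) (nat_lit 1281))
)) (.node (nat_lit 0x1008386008386) (.node (nat_lit 0x1008384049fa4) (.leaf (nat_lit 0x1008384008384) (nat_lit 1287))
 (.leaf (nat_lit 0x1008384049fa4) (nat_lit 1543))
) (.node (nat_lit 0x1008386049fb6) (.leaf (nat_lit 0x1008386008386) (nat_lit 770))
 (.leaf (nat_lit 0x1008386049fb6) (nat_lit 1026))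
))) (.node (nat_lit 0x1009096c08086) (.node (nat_lit 0x1009095a08085) (.node (nat_lit 0x1009094840420) (.leaf (nat_lit 0x1009094808084) (nat_lit 1793))
 (.leaf (nat_lit 0x1009094840420) (nat_lit 1537))
) (.node (nat_lit 0x1009095a40428) (.leaf (nat_lit 0x1009095a08085) (nat_lit 1537))
 (.leaf (nat_lit 0x1009095a40428) (nat_lit 1281))
)) (.node (nat_lit 0x1009097e08087) (.node (nat_lit 0x1009096c40430) (.leaf (nat_lit 0x1009096c08086) (nat_lit 1537))
 (.leaf (nat_lit 0x1009096c40430) (nat_lit 1281))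
) (.node (nat_lit 0x1009097e40438) (.leaf (nat_lit 0x1009097e08087) (nat_lit 1281))
 (.leaf (nat_lit 0x1009097e40438) (nat_lit 1025))
)))) (.node (nat_lit 0x1009241208201) (.node (nat_lit 0x10091b6c08186) (.node (nat_lit 0x10091b5a08185) (.node (nat_lit 0x10091b4840c20) (.leaf (nat_lit 0x10091b4808184) (nat_lit 2049))
 (.leaf (nat_lit 0x10091b4840c20) (nat_lit 1793))
) (.node (nat_lit 0x10091b5a40c28) (.leaf (nat_lit 0x10091b5a08185) (nat_lit 1537))
 (.leaf (nat_lit 0x10091b5a40c28) (nat_lit 1281))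
)) (.node (nat_lit 0x10091b7e08187) (.node (nat_lit 0x10091b6c40c30) (.leaf (nat_lit 0x10091b6c08186) (nat_lit 1799))
 (.leaf (nat_lit 0x10091b6c40c30) (nat_lit 1543))
) (.node (nat_lit 0x10091b7e40c38) (.leaf (nat_lit 0x10091b7e08187) (nat_lit 1793))
 (.leaf (nat_lit 0x10091b7e40c38) (nat_lit 1537))
))) (.node (nat_lit 0x1009245a08205) (.node (nat_lit 0x1009243608203) (.node (nat_lit 0x1009241241008) (.leaf (nat_lit 0x1009241208201) (nat_lit 1030))
 (.leaf (nat_lit 0x1009241241008) (nat_lit 774))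
) (.node (nat_lit 0x1009243641018) (.leaf (nat_lit 0x1009243608203) (nat_lit 1286))
 (.leaf (nat_lit 0x1009243641018) (nat_lit 1030))
)) (.node (nat_lit 0x1009247e08207) (.node (nat_lit 0x1009245a41028) (.leaf (nat_lit 0x1009245a08205) (nat_lit 1282))
 (.leaf (nat_lit 0x1009245a41028) (nat_lit 1026))
) (.node (nat_lit 0x1009247e41038) (.leaf (nat_lit 0x1009247e08207) (nat_lit 1538))
 (.leaf (nat_lit 0x1009247e41038) (nat_lit 1282))
))))))))) (.node (nat_lit 0x1014304014304) (.node (nat_lit 0x1010087010087) (.node (nat_lit 0x100c30706db3f) (.node (nat_lit 0x100c08706c4bf) (.node (nat_lit 0x1009367e41838) (.node (nat_lit 0x10092d6c41430) (.node (nat_lit 0x10092d3641418) (.node (nat_lit 0x10092d1241408) (.leaf (nat_lit 0x10092d1208281) (nat_lit 1281))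
 (.node (nat_lit 0x10092d3608283) (.leaf (nat_lit 0x10092d1241408) (nat_lit 1025))
 (.leaf (nat_lit 0x10092d3608283) (nat_lit 1281))
)) (.node (nat_lit 0x10092d4841420) (.node (nat_lit 0x10092d4808284) (.leaf (nat_lit 0x10092d3641418) (nat_lit 1025))
 (.leaf (nat_lit 0x10092d4808284) (nat_lit 1538))
) (.node (nat_lit 0x10092d6c08286) (.leaf (nat_lit 0x10092d4841420) (nat_lit 1282))
 (.leaf (nat_lit 0x10092d6c08286) (nat_lit 1538))
))) (.node (nat_lit 0x1009363641818) (.node (nat_lit 0x1009361241808) (.node (nat_lit 0x1009361208301) (.leaf (nat_lit 0x10092d6c41430) (nat_lit 1282))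
 (.leaf (nat_lit 0x1009361208301) (nat_lit 774))
) (.node (nat_lit 0x1009363608303) (.leaf (nat_lit 0x1009361241808) (nat_lit 518))
 (.leaf (nat_lit 0x1009363608303) (nat_lit 1030))
)) (.node (nat_lit 0x1009365a41828) (.node (nat_lit 0x1009365a08305) (.leaf (nat_lit 0x1009363641818) (nat_lit 774))
 (.leaf (nat_lit 0x1009365a08305) (nat_lit 1282))
) (.node (nat_lit 0x1009367e08307) (.leaf (nat_lit 0x1009365a41828) (nat_lit 1026))
 (.leaf (nat_lit 0x1009367e08307) (nat_lit 1026))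
)))) (.node (nat_lit 0x10093f6c41c30) (.node (nat_lit 0x10093f3641c18) (.node (nat_lit 0x10093f1241c08) (.node (nat_lit 0x10093f1208381) (.leaf (nat_lit 0x1009367e41838) (nat_lit 770))
 (.leaf (nat_lit 0x10093f1208381) (nat_lit 1025))
) (.node (nat_lit 0x10093f3608383) (.leaf (nat_lit 0x10093f1241c08) (nat_lit 769))
 (.leaf (nat_lit 0x10093f3608383) (nat_lit 1537))
)) (.node (nat_lit 0x10093f4841c20) (.node (nat_lit 0x10093f4808384) (.leaf (nat_lit 0x10093f3641c18) (nat_lit 1281))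
 (.leaf (nat_lit 0x10093f4808384) (nat_lit 1799))
) (.node (nat_lit 0x10093f6c08386) (.leaf (nat_lit 0x10093f4841c20) (nat_lit 1543))
 (.leaf (nat_lit 0x10093f6c08386) (nat_lit 1282))
))) (.node (nat_lit 0x100c08506c4ad) (.node (nat_lit 0x100c08406c4a4) (.node (nat_lit 0x100c08400c084) (.leaf (nat_lit 0x10093f6c41c30) (nat_lit 1026))
 (.leaf (nat_lit 0x100c08400c084) (nat_lit 1281))
) (.node (nat_lit 0x100c08500c085) (.leaf (nat_lit 0x100c08406c4a4) (nat_lit 1537))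
 (.leaf (nat_lit 0x100c08500c085) (nat_lit 1281))
)) (.node (nat_lit 0x100c08606c4b6) (.node (nat_lit 0x100c08600c086) (.leaf (nat_lit 0x100c08506c4ad) (nat_lit 1537))
 (.leaf (nat_lit 0x100c08600c086) (nat_lit 1025))
) (.node (nat_lit 0x100c08700c087) (.leaf (nat_lit 0x100c08606c4b6) (nat_lit 1281))
 (.leaf (nat_lit 0x100c08700c087) (nat_lit 1027))
))))) (.node (nat_lit 0x100c20606d236) (.node (nat_lit 0x100c10706c93f) (.node (nat_lit 0x100c10506c92d) (.node (nat_lit 0x100c10406c924) (.node (nat_lit 0x100c10400c104) (.leaf (nat_lit 0x100c08706c4bf) (nat_lit 1283))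
 (.leaf (nat_lit 0x100c10400c104) (nat_lit 1281))
) (.node (nat_lit 0x100c10500c105) (.leaf (nat_lit 0x100c10406c924) (nat_lit 1537))
 (.leaf (nat_lit 0x100c10500c105) (nat_lit 1281))
)) (.node (nat_lit 0x100c10606c936) (.node (nat_lit 0x100c10600c106) (.leaf (nat_lit 0x100c10506c92d) (nat_lit 1537))
 (.leaf (nat_lit 0x100c10600c106) (nat_lit 1287))
) (.node (nat_lit 0x100c10700c107) (.leaf (nat_lit 0x100c10606c936) (nat_lit 1543))
 (.leaf (nat_lit 0x100c10700c107) (nat_lit 1031))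
))) (.node (nat_lit 0x100c20206d212) (.node (nat_lit 0x100c20106d209) (.node (nat_lit 0x100c20100c201) (.leaf (nat_lit 0x100c10706c93f) (nat_lit 1287))
 (.leaf (nat_lit 0x100c20100c201) (nat_lit 774))
) (.node (nat_lit 0x100c20200c202) (.leaf (nat_lit 0x100c20106d209) (nat_lit 1030))
 (.leaf (nat_lit 0x100c20200c202) (nat_lit 1030))
)) (.node (nat_lit 0x100c20506d22d) (.node (nat_lit 0x100c20500c205) (.leaf (nat_lit 0x100c20206d212) (nat_lit 1286))
 (.leaf (nat_lit 0x100c20500c205) (nat_lit 1026))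
) (.node (nat_lit 0x100c20600c206) (.leaf (nat_lit 0x100c20506d22d) (nat_lit 1282))
 (.leaf (nat_lit 0x100c20600c206) (nat_lit 1282))
)))) (.node (nat_lit 0x100c28706d6bf) (.node (nat_lit 0x100c28206d692) (.node (nat_lit 0x100c28106d689) (.node (nat_lit 0x100c28100c281) (.leaf (nat_lit 0x100c20606d236) (nat_lit 1538))
 (.leaf (nat_lit 0x100c28100c281) (nat_lit 774))
) (.node (nat_lit 0x100c28200c282) (.leaf (nat_lit 0x100c28106d689) (nat_lit 1030))
 (.leaf (nat_lit 0x100c28200c282) (nat_lit 1025))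
)) (.node (nat_lit 0x100c28406d6a4) (.node (nat_lit 0x100c28400c284) (.leaf (nat_lit 0x100c28206d692) (nat_lit 1281))
 (.leaf (nat_lit 0x100c28400c284) (nat_lit 1026))
) (.node (nat_lit 0x100c28700c287) (.leaf (nat_lit 0x100c28406d6a4) (nat_lit 1282))
 (.leaf (nat_lit 0x100c28700c287) (nat_lit 1282))
))) (.node (nat_lit 0x100c30206db12) (.node (nat_lit 0x100c30106db09) (.node (nat_lit 0x100c30100c301) (.leaf (nat_lit 0x100c28706d6bf) (nat_lit 1538))
 (.leaf (nat_lit 0x100c30100c301) (nat_lit 769))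
) (.node (nat_lit 0x100c30200c302) (.leaf (nat_lit 0x100c30106db09) (nat_lit 1025))
 (.leaf (nat_lit 0x100c30200c302) (nat_lit 1281))
)) (.node (nat_lit 0x100c30406db24) (.node (nat_lit 0x100c30400c304) (.leaf (nat_lit 0x100c30206db12) (nat_lit 1537))
 (.leaf (nat_lit 0x100c30400c304) (nat_lit 1031))
) (.node (nat_lit 0x100c30700c307) (.leaf (nat_lit 0x100c30406db24) (nat_lit 1287))
 (.leaf (nat_lit 0x100c30700c307) (nat_lit 1026))
)))))) (.node (nat_lit 0x100da46c0c206) (.node (nat_lit 0x100d897e0c087) (.node (nat_lit 0x100c38600c386) (.node (nat_lit 0x100c38200c382) (.node (nat_lit 0x100c38100c381) (.leaf (nat_lit 0x100c30706db3f) (nat_lit 1282))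
 (.node (nat_lit 0x100c38106df89) (.leaf (nat_lit 0x100c38100c381) (nat_lit 518))
 (.leaf (nat_lit 0x100c38106df89) (nat_lit 774))
)) (.node (nat_lit 0x100c38500c385) (.node (nat_lit 0x100c38206df92) (.leaf (nat_lit 0x100c38200c382) (nat_lit 774))
 (.leaf (nat_lit 0x100c38206df92) (nat_lit 1030))
) (.node (nat_lit 0x100c38506dfad) (.leaf (nat_lit 0x100c38500c385) (nat_lit 1026))
 (.leaf (nat_lit 0x100c38506dfad) (nat_lit 1282))
))) (.node (nat_lit 0x100d895a0c085) (.node (nat_lit 0x100d89480c084) (.node (nat_lit 0x100c38606dfb6) (.leaf (nat_lit 0x100c38600c386) (nat_lit 770))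
 (.leaf (nat_lit 0x100c38606dfb6) (nat_lit 1026))
) (.node (nat_lit 0x100d894860420) (.leaf (nat_lit 0x100d89480c084) (nat_lit 1793))
 (.leaf (nat_lit 0x100d894860420) (nat_lit 1537))
)) (.node (nat_lit 0x100d896c0c086) (.node (nat_lit 0x100d895a60428) (.leaf (nat_lit 0x100d895a0c085) (nat_lit 1793))
 (.leaf (nat_lit 0x100d895a60428) (nat_lit 1537))
) (.node (nat_lit 0x100d896c60430) (.leaf (nat_lit 0x100d896c0c086) (nat_lit 1537))
 (.leaf (nat_lit 0x100d896c60430) (nat_lit 1281))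
)))) (.node (nat_lit 0x100d927e0c107) (.node (nat_lit 0x100d925a0c105) (.node (nat_lit 0x100d92480c104) (.node (nat_lit 0x100d897e60438) (.leaf (nat_lit 0x100d897e0c087) (nat_lit 1539))
 (.leaf (nat_lit 0x100d897e60438) (nat_lit 1283))
) (.node (nat_lit 0x100d924860820) (.leaf (nat_lit 0x100d92480c104) (nat_lit 1793))
 (.leaf (nat_lit 0x100d924860820) (nat_lit 1537))
)) (.node (nat_lit 0x100d926c0c106) (.node (nat_lit 0x100d925a60828) (.leaf (nat_lit 0x100d925a0c105) (nat_lit 1793))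
 (.leaf (nat_lit 0x100d925a60828) (nat_lit 1537))
) (.node (nat_lit 0x100d926c60830) (.leaf (nat_lit 0x100d926c0c106) (nat_lit 1799))
 (.leaf (nat_lit 0x100d926c60830) (nat_lit 1543))
))) (.node (nat_lit 0x100da4240c202) (.node (nat_lit 0x100da4120c201) (.node (nat_lit 0x100d927e60838) (.leaf (nat_lit 0x100d927e0c107) (nat_lit 1543))
 (.leaf (nat_lit 0x100d927e60838) (nat_lit 1287))
) (.node (nat_lit 0x100da41261008) (.leaf (nat_lit 0x100da4120c201) (nat_lit 1286))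
 (.leaf (nat_lit 0x100da41261008) (nat_lit 1030))
)) (.node (nat_lit 0x100da45a0c205) (.node (nat_lit 0x100da42461010) (.leaf (nat_lit 0x100da4240c202) (nat_lit 1542))
 (.leaf (nat_lit 0x100da42461010) (nat_lit 1286))
) (.node (nat_lit 0x100da45a61028) (.leaf (nat_lit 0x100da45a0c205) (nat_lit 1538))
 (.leaf (nat_lit 0x100da45a61028) (nat_lit 1282))
))))) (.node (nat_lit 0x100db67e0c307) (.node (nat_lit 0x100dad7e0c287) (.node (nat_lit 0x100dad240c282) (.node (nat_lit 0x100dad120c281) (.node (nat_lit 0x100da46c61030) (.leaf (nat_lit 0x100da46c0c206) (nat_lit 1794))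
 (.leaf (nat_lit 0x100da46c61030) (nat_lit 1538))
) (.node (nat_lit 0x100dad1261408) (.leaf (nat_lit 0x100dad120c281) (nat_lit 1286))
 (.leaf (nat_lit 0x100dad1261408) (nat_lit 1030))
)) (.node (nat_lit 0x100dad480c284) (.node (nat_lit 0x100dad2461410) (.leaf (nat_lit 0x100dad240c282) (nat_lit 1537))
 (.leaf (nat_lit 0x100dad2461410) (nat_lit 1281))
) (.node (nat_lit 0x100dad4861420) (.leaf (nat_lit 0x100dad480c284) (nat_lit 1538))
 (.leaf (nat_lit 0x100dad4861420) (nat_lit 1282))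
))) (.node (nat_lit 0x100db6240c302) (.node (nat_lit 0x100db6120c301) (.node (nat_lit 0x100dad7e61438) (.leaf (nat_lit 0x100dad7e0c287) (nat_lit 1794))
 (.leaf (nat_lit 0x100dad7e61438) (nat_lit 1538))
) (.node (nat_lit 0x100db61261808) (.leaf (nat_lit 0x100db6120c301) (nat_lit 1281))
 (.leaf (nat_lit 0x100db61261808) (nat_lit 1025))
)) (.node (nat_lit 0x100db6480c304) (.node (nat_lit 0x100db62461810) (.leaf (nat_lit 0x100db6240c302) (nat_lit 1793))
 (.leaf (nat_lit 0x100db62461810) (nat_lit 1537))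
) (.node (nat_lit 0x100db64861820) (.leaf (nat_lit 0x100db6480c304) (nat_lit 1543))
 (.leaf (nat_lit 0x100db64861820) (nat_lit 1287))
)))) (.node (nat_lit 0x100dbf6c0c386) (.node (nat_lit 0x100dbf240c382) (.node (nat_lit 0x100dbf120c381) (.node (nat_lit 0x100db67e61838) (.leaf (nat_lit 0x100db67e0c307) (nat_lit 1538))
 (.leaf (nat_lit 0x100db67e61838) (nat_lit 1282))
) (.node (nat_lit 0x100dbf1261c08) (.leaf (nat_lit 0x100dbf120c381) (nat_lit 1030))
 (.leaf (nat_lit 0x100dbf1261c08) (nat_lit 774))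
)) (.node (nat_lit 0x100dbf5a0c385) (.node (nat_lit 0x100dbf2461c10) (.leaf (nat_lit 0x100dbf240c382) (nat_lit 1286))
 (.leaf (nat_lit 0x100dbf2461c10) (nat_lit 1030))
) (.node (nat_lit 0x100dbf5a61c28) (.leaf (nat_lit 0x100dbf5a0c385) (nat_lit 1538))
 (.leaf (nat_lit 0x100dbf5a61c28) (nat_lit 1282))
))) (.node (nat_lit 0x1010083010083) (.node (nat_lit 0x1010082010082) (.node (nat_lit 0x100dbf6c61c30) (.leaf (nat_lit 0x100dbf6c0c386) (nat_lit 1282))
 (.leaf (nat_lit 0x100dbf6c61c30) (nat_lit 1026))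
) (.node (nat_lit 0x1010082090492) (.leaf (nat_lit 0x1010082010082) (nat_lit 769))
 (.leaf (nat_lit 0x1010082090492) (nat_lit 1025))
)) (.node (nat_lit 0x1010086010086) (.node (nat_lit 0x101008309049b) (.leaf (nat_lit 0x1010083010083) (nat_lit 513))
 (.leaf (nat_lit 0x101008309049b) (nat_lit 769))
) (.node (nat_lit 0x10100860904b6) (.leaf (nat_lit 0x1010086010086) (nat_lit 1281))
 (.leaf (nat_lit 0x10100860904b6) (nat_lit 1537))
))))))) (.node (nat_lit 0x10121b5a80c28) (.node (nat_lit 0x1010305091b2d) (.node (nat_lit 0x1010185090dad) (.node (nat_lit 0x101010509092d) (.node (nat_lit 0x1010101090909) (.node (nat_lit 0x10100870904bf) (.leaf (nat_lit 0x1010087010087) (nat_lit 1025))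
 (.node (nat_lit 0x1010101010101) (.leaf (nat_lit 0x10100870904bf) (nat_lit 1281))
 (.leaf (nat_lit 0x1010101010101) (nat_lit 0))
)) (.node (nat_lit 0x101010309091b) (.node (nat_lit 0x1010103010103) (.leaf (nat_lit 0x1010101090909) (nat_lit 256))
 (.leaf (nat_lit 0x1010103010103) (nat_lit 258))
) (.node (nat_lit 0x1010105010105) (.leaf (nat_lit 0x101010309091b) (nat_lit 514))
 (.leaf (nat_lit 0x1010105010105) (nat_lit 774))
))) (.node (nat_lit 0x1010181090d89) (.node (nat_lit 0x101010709093f) (.node (nat_lit 0x1010107010107) (.leaf (nat_lit 0x101010509092d) (nat_lit 1030))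
 (.leaf (nat_lit 0x1010107010107) (nat_lit 775))
) (.node (nat_lit 0x1010181010181) (.leaf (nat_lit 0x101010709093f) (nat_lit 1031))
 (.leaf (nat_lit 0x1010181010181) (nat_lit 257))
)) (.node (nat_lit 0x1010182090d92) (.node (nat_lit 0x1010182010182) (.leaf (nat_lit 0x1010181090d89) (nat_lit 513))
 (.leaf (nat_lit 0x1010182010182) (nat_lit 514))
) (.node (nat_lit 0x1010185010185) (.leaf (nat_lit 0x1010182090d92) (nat_lit 770))
 (.leaf (nat_lit 0x1010185010185) (nat_lit 1030))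
)))) (.node (nat_lit 0x10102860916b6) (.node (nat_lit 0x1010282091692) (.node (nat_lit 0x1010186090db6) (.node (nat_lit 0x1010186010186) (.leaf (nat_lit 0x1010185090dad) (nat_lit 1286))
 (.leaf (nat_lit 0x1010186010186) (nat_lit 1031))
) (.node (nat_lit 0x1010282010282) (.leaf (nat_lit 0x1010186090db6) (nat_lit 1287))
 (.leaf (nat_lit 0x1010282010282) (nat_lit 1287))
)) (.node (nat_lit 0x101028309169b) (.node (nat_lit 0x1010283010283) (.leaf (nat_lit 0x1010282091692) (nat_lit 1543))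
 (.leaf (nat_lit 0x1010283010283) (nat_lit 1031))
) (.node (nat_lit 0x1010286010286) (.leaf (nat_lit 0x101028309169b) (nat_lit 1287))
 (.leaf (nat_lit 0x1010286010286) (nat_lit 1281))
))) (.node (nat_lit 0x1010301091b09) (.node (nat_lit 0x10102870916bf) (.node (nat_lit 0x1010287010287) (.leaf (nat_lit 0x10102860916b6) (nat_lit 1537))
 (.leaf (nat_lit 0x1010287010287) (nat_lit 1025))
) (.node (nat_lit 0x1010301010301) (.leaf (nat_lit 0x10102870916bf) (nat_lit 1281))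
 (.leaf (nat_lit 0x1010301010301) (nat_lit 519))
)) (.node (nat_lit 0x1010303091b1b) (.node (nat_lit 0x1010303010303) (.leaf (nat_lit 0x1010301091b09) (nat_lit 775))
 (.leaf (nat_lit 0x1010303010303) (nat_lit 775))
) (.node (nat_lit 0x1010305010305) (.leaf (nat_lit 0x1010303091b1b) (nat_lit 1031))
 (.leaf (nat_lit 0x1010305010305) (nat_lit 1026))
))))) (.node (nat_lit 0x1012096c80430) (.node (nat_lit 0x1010385091fad) (.node (nat_lit 0x1010381091f89) (.node (nat_lit 0x1010307091b3f) (.node (nat_lit 0x1010307010307) (.leaf (nat_lit 0x1010305091b2d) (nat_lit 1282))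
 (.leaf (nat_lit 0x1010307010307) (nat_lit 770))
) (.node (nat_lit 0x1010381010381) (.leaf (nat_lit 0x1010307091b3f) (nat_lit 1026))
 (.leaf (nat_lit 0x1010381010381) (nat_lit 775))
)) (.node (nat_lit 0x1010382091f92) (.node (nat_lit 0x1010382010382) (.leaf (nat_lit 0x1010381091f89) (nat_lit 1031))
 (.leaf (nat_lit 0x1010382010382) (nat_lit 1031))
) (.node (nat_lit 0x1010385010385) (.leaf (nat_lit 0x1010382091f92) (nat_lit 1287))
 (.leaf (nat_lit 0x1010385010385) (nat_lit 1025))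
))) (.node (nat_lit 0x1012092480410) (.node (nat_lit 0x1010386091fb6) (.node (nat_lit 0x1010386010386) (.leaf (nat_lit 0x1010385091fad) (nat_lit 1281))
 (.leaf (nat_lit 0x1010386010386) (nat_lit 1026))
) (.node (nat_lit 0x1012092410082) (.leaf (nat_lit 0x1010386091fb6) (nat_lit 1282))
 (.leaf (nat_lit 0x1012092410082) (nat_lit 1285))
)) (.node (nat_lit 0x1012093680418) (.node (nat_lit 0x1012093610083) (.leaf (nat_lit 0x1012092480410) (nat_lit 1028))
 (.leaf (nat_lit 0x1012093610083) (nat_lit 1029))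
) (.node (nat_lit 0x1012096c10086) (.leaf (nat_lit 0x1012093680418) (nat_lit 772))
 (.leaf (nat_lit 0x1012096c10086) (nat_lit 1793))
)))) (.node (nat_lit 0x1012125a80828) (.node (nat_lit 0x1012121280808) (.node (nat_lit 0x1012097e80438) (.node (nat_lit 0x1012097e10087) (.leaf (nat_lit 0x1012096c80430) (nat_lit 1537))
 (.leaf (nat_lit 0x1012097e10087) (nat_lit 1537))
) (.node (nat_lit 0x1012121210101) (.leaf (nat_lit 0x1012097e80438) (nat_lit 1281))
 (.leaf (nat_lit 0x1012121210101) (nat_lit 517))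
)) (.node (nat_lit 0x1012123680818) (.node (nat_lit 0x1012123610103) (.leaf (nat_lit 0x1012121280808) (nat_lit 260))
 (.leaf (nat_lit 0x1012123610103) (nat_lit 773))
) (.node (nat_lit 0x1012125a10105) (.leaf (nat_lit 0x1012123680818) (nat_lit 516))
 (.leaf (nat_lit 0x1012125a10105) (nat_lit 1286))
))) (.node (nat_lit 0x10121b1280c08) (.node (nat_lit 0x1012127e80838) (.node (nat_lit 0x1012127e10107) (.leaf (nat_lit 0x1012125a80828) (nat_lit 1030))
 (.leaf (nat_lit 0x1012127e10107) (nat_lit 1287))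
) (.node (nat_lit 0x10121b1210181) (.leaf (nat_lit 0x1012127e80838) (nat_lit 1031))
 (.leaf (nat_lit 0x10121b1210181) (nat_lit 773))
)) (.node (nat_lit 0x10121b2480c10) (.node (nat_lit 0x10121b2410182) (.leaf (nat_lit 0x10121b1280c08) (nat_lit 516))
 (.leaf (nat_lit 0x10121b2410182) (nat_lit 1029))
) (.node (nat_lit 0x10121b5a10185) (.leaf (nat_lit 0x10121b2480c10) (nat_lit 772))
 (.leaf (nat_lit 0x10121b5a10185) (nat_lit 1542))
)))))) (.node (nat_lit 0x1014086014086) (.node (nat_lit 0x1012365a10305) (.node (nat_lit 0x10122d6c10286) (.node (nat_lit 0x10122d2410282) (.node (nat_lit 0x10121b6c10186) (.leaf (nat_lit 0x10121b5a80c28) (nat_lit 1286))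
 (.node (nat_lit 0x10121b6c80c30) (.leaf (nat_lit 0x10121b6c10186) (nat_lit 1543))
 (.leaf (nat_lit 0x10121b6c80c30) (nat_lit 1287))
)) (.node (nat_lit 0x10122d3610283) (.node (nat_lit 0x10122d2481410) (.leaf (nat_lit 0x10122d2410282) (nat_lit 1799))
 (.leaf (nat_lit 0x10122d2481410) (nat_lit 1543))
) (.node (nat_lit 0x10122d3681418) (.leaf (nat_lit 0x10122d3610283) (nat_lit 1543))
 (.leaf (nat_lit 0x10122d3681418) (nat_lit 1287))
))) (.node (nat_lit 0x1012361210301) (.node (nat_lit 0x10122d7e10287) (.node (nat_lit 0x10122d6c81430) (.leaf (nat_lit 0x10122d6c10286) (nat_lit 1793))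
 (.leaf (nat_lit 0x10122d6c81430) (nat_lit 1537))
) (.node (nat_lit 0x10122d7e81438) (.leaf (nat_lit 0x10122d7e10287) (nat_lit 1537))
 (.leaf (nat_lit 0x10122d7e81438) (nat_lit 1281))
)) (.node (nat_lit 0x1012363610303) (.node (nat_lit 0x1012361281808) (.leaf (nat_lit 0x1012361210301) (nat_lit 1031))
 (.leaf (nat_lit 0x1012361281808) (nat_lit 775))
) (.node (nat_lit 0x1012363681818) (.leaf (nat_lit 0x1012363610303) (nat_lit 1287))
 (.leaf (nat_lit 0x1012363681818) (nat_lit 1031))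
)))) (.node (nat_lit 0x10123f5a10385) (.node (nat_lit 0x10123f1210381) (.node (nat_lit 0x1012367e10307) (.node (nat_lit 0x1012365a81828) (.leaf (nat_lit 0x1012365a10305) (nat_lit 1538))
 (.leaf (nat_lit 0x1012365a81828) (nat_lit 1282))
) (.node (nat_lit 0x1012367e81838) (.leaf (nat_lit 0x1012367e10307) (nat_lit 1282))
 (.leaf (nat_lit 0x1012367e81838) (nat_lit 1026))
)) (.node (nat_lit 0x10123f2410382) (.node (nat_lit 0x10123f1281c08) (.leaf (nat_lit 0x10123f1210381) (nat_lit 1287))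
 (.leaf (nat_lit 0x10123f1281c08) (nat_lit 1031))
) (.node (nat_lit 0x10123f2481c10) (.leaf (nat_lit 0x10123f2410382) (nat_lit 1543))
 (.leaf (nat_lit 0x10123f2481c10) (nat_lit 1287))
))) (.node (nat_lit 0x1014082014082) (.node (nat_lit 0x10123f6c10386) (.node (nat_lit 0x10123f5a81c28) (.leaf (nat_lit 0x10123f5a10385) (nat_lit 1537))
 (.leaf (nat_lit 0x10123f5a81c28) (nat_lit 1281))
) (.node (nat_lit 0x10123f6c81c30) (.leaf (nat_lit 0x10123f6c10386) (nat_lit 1538))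
 (.leaf (nat_lit 0x10123f6c81c30) (nat_lit 1282))
)) (.node (nat_lit 0x1014083014083) (.node (nat_lit 0x10140820b4492) (.leaf (nat_lit 0x1014082014082) (nat_lit 1027))
 (.leaf (nat_lit 0x10140820b4492) (nat_lit 1283))
) (.node (nat_lit 0x10140830b449b) (.leaf (nat_lit 0x1014083014083) (nat_lit 771))
 (.leaf (nat_lit 0x10140830b449b) (nat_lit 1027))
))))) (.node (nat_lit 0x1014184014184) (.node (nat_lit 0x1014104014104) (.node (nat_lit 0x1014101014101) (.node (nat_lit 0x1014087014087) (.node (nat_lit 0x10140860b44b6) (.leaf (nat_lit 0x1014086014086) (nat_lit 1281))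
 (.leaf (nat_lit 0x10140860b44b6) (nat_lit 1537))
) (.node (nat_lit 0x10140870b44bf) (.leaf (nat_lit 0x1014087014087) (nat_lit 1281))
 (.leaf (nat_lit 0x10140870b44bf) (nat_lit 1537))
)) (.node (nat_lit 0x1014103014103) (.node (nat_lit 0x10141010b4909) (.leaf (nat_lit 0x1014101014101) (nat_lit 775))
 (.leaf (nat_lit 0x10141010b4909) (nat_lit 1031))
) (.node (nat_lit 0x10141030b491b) (.leaf (nat_lit 0x1014103014103) (nat_lit 1025))
 (.leaf (nat_lit 0x10141030b491b) (nat_lit 1281))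
))) (.node (nat_lit 0x1014181014181) (.node (nat_lit 0x1014106014106) (.node (nat_lit 0x10141040b4924) (.leaf (nat_lit 0x1014104014104) (nat_lit 1286))
 (.leaf (nat_lit 0x10141040b4924) (nat_lit 1542))
) (.node (nat_lit 0x10141060b4936) (.leaf (nat_lit 0x1014106014106) (nat_lit 1031))
 (.leaf (nat_lit 0x10141060b4936) (nat_lit 1287))
)) (.node (nat_lit 0x1014182014182) (.node (nat_lit 0x10141810b4d89) (.leaf (nat_lit 0x1014181014181) (nat_lit 771))
 (.leaf (nat_lit 0x10141810b4d89) (nat_lit 1027))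
) (.node (nat_lit 0x10141820b4d92) (.leaf (nat_lit 0x1014182014182) (nat_lit 1027))
 (.leaf (nat_lit 0x10141820b4d92) (nat_lit 1283))
)))) (.node (nat_lit 0x1014206014206) (.node (nat_lit 0x1014202014202) (.node (nat_lit 0x1014187014187) (.node (nat_lit 0x10141840b4da4) (.leaf (nat_lit 0x1014184014184) (nat_lit 1030))
 (.leaf (nat_lit 0x10141840b4da4) (nat_lit 1286))
) (.node (nat_lit 0x10141870b4dbf) (.leaf (nat_lit 0x1014187014187) (nat_lit 1287))
 (.leaf (nat_lit 0x10141870b4dbf) (nat_lit 1543))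
)) (.node (nat_lit 0x1014203014203) (.node (nat_lit 0x10142020b5212) (.leaf (nat_lit 0x1014202014202) (nat_lit 1031))
 (.leaf (nat_lit 0x10142020b5212) (nat_lit 1287))
) (.node (nat_lit 0x10142030b521b) (.leaf (nat_lit 0x1014203014203) (nat_lit 775))
 (.leaf (nat_lit 0x10142030b521b) (nat_lit 1031))
))) (.node (nat_lit 0x1014301014301) (.node (nat_lit 0x1014207014207) (.node (nat_lit 0x10142060b5236) (.leaf (nat_lit 0x1014206014206) (nat_lit 1282))
 (.leaf (nat_lit 0x10142060b5236) (nat_lit 1538))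
) (.node (nat_lit 0x10142070b523f) (.leaf (nat_lit 0x1014207014207) (nat_lit 1026))
 (.leaf (nat_lit 0x10142070b523f) (nat_lit 1282))
)) (.node (nat_lit 0x1014302014302) (.node (nat_lit 0x10143010b5b09) (.leaf (nat_lit 0x1014301014301) (nat_lit 775))
 (.leaf (nat_lit 0x10143010b5b09) (nat_lit 1031))
) (.node (nat_lit 0x10143020b5b12) (.leaf (nat_lit 0x1014302014302) (nat_lit 1031))
 (.leaf (nat_lit 0x10143020b5b12) (nat_lit 1287))
)))))))) (.node (nat_lit 0x101b1b2418182) (.node (nat_lit 0x10180830d849b) (.node (nat_lit 0x10169b24a0c10) (.node (nat_lit 0x10168936a0418) (.node (nat_lit 0x10143830b5f9b) (.node (nat_lit 0x10143070b5b3f) (.node (nat_lit 0x10143040b5b24) (.leaf (nat_lit 0x1014304014304) (nat_lit 1282))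
 (.node (nat_lit 0x1014307014307) (.leaf (nat_lit 0x10143040b5b24) (nat_lit 1538))
 (.leaf (nat_lit 0x1014307014307) (nat_lit 1026))
)) (.node (nat_lit 0x10143810b5f89) (.node (nat_lit 0x1014381014381) (.leaf (nat_lit 0x10143070b5b3f) (nat_lit 1282))
 (.leaf (nat_lit 0x1014381014381) (nat_lit 771))
) (.node (nat_lit 0x1014383014383) (.leaf (nat_lit 0x10143810b5f89) (nat_lit 1027))
 (.leaf (nat_lit 0x1014383014383) (nat_lit 1025))
))) (.node (nat_lit 0x10143860b5fb6) (.node (nat_lit 0x10143840b5fa4) (.node (nat_lit 0x1014384014384) (.leaf (nat_lit 0x10143830b5f9b) (nat_lit 1281))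
 (.leaf (nat_lit 0x1014384014384) (nat_lit 1282))
) (.node (nat_lit 0x1014386014386) (.leaf (nat_lit 0x10143840b5fa4) (nat_lit 1538))
 (.leaf (nat_lit 0x1014386014386) (nat_lit 1027))
)) (.node (nat_lit 0x10168924a0410) (.node (nat_lit 0x1016892414082) (.leaf (nat_lit 0x10143860b5fb6) (nat_lit 1283))
 (.leaf (nat_lit 0x1016892414082) (nat_lit 1541))
) (.node (nat_lit 0x1016893614083) (.leaf (nat_lit 0x10168924a0410) (nat_lit 1284))
 (.leaf (nat_lit 0x1016893614083) (nat_lit 1285))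
)))) (.node (nat_lit 0x10169236a0818) (.node (nat_lit 0x1016897ea0438) (.node (nat_lit 0x1016896ca0430) (.node (nat_lit 0x1016896c14086) (.leaf (nat_lit 0x10168936a0418) (nat_lit 1028))
 (.leaf (nat_lit 0x1016896c14086) (nat_lit 1793))
) (.node (nat_lit 0x1016897e14087) (.leaf (nat_lit 0x1016896ca0430) (nat_lit 1537))
 (.leaf (nat_lit 0x1016897e14087) (nat_lit 1793))
)) (.node (nat_lit 0x10169212a0808) (.node (nat_lit 0x1016921214101) (.leaf (nat_lit 0x1016897ea0438) (nat_lit 1537))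
 (.leaf (nat_lit 0x1016921214101) (nat_lit 1287))
) (.node (nat_lit 0x1016923614103) (.leaf (nat_lit 0x10169212a0808) (nat_lit 1031))
 (.leaf (nat_lit 0x1016923614103) (nat_lit 1541))
))) (.node (nat_lit 0x1016926ca0830) (.node (nat_lit 0x10169248a0820) (.node (nat_lit 0x1016924814104) (.leaf (nat_lit 0x10169236a0818) (nat_lit 1284))
 (.leaf (nat_lit 0x1016924814104) (nat_lit 1798))
) (.node (nat_lit 0x1016926c14106) (.leaf (nat_lit 0x10169248a0820) (nat_lit 1542))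
 (.leaf (nat_lit 0x1016926c14106) (nat_lit 1543))
)) (.node (nat_lit 0x10169b12a0c08) (.node (nat_lit 0x10169b1214181) (.leaf (nat_lit 0x1016926ca0830) (nat_lit 1287))
 (.leaf (nat_lit 0x10169b1214181) (nat_lit 1285))
) (.node (nat_lit 0x10169b2414182) (.leaf (nat_lit 0x10169b12a0c08) (nat_lit 1028))
 (.leaf (nat_lit 0x10169b2414182) (nat_lit 1541))
))))) (.node (nat_lit 0x1016b624a1810) (.node (nat_lit 0x1016a436a1018) (.node (nat_lit 0x10169b7ea0c38) (.node (nat_lit 0x10169b48a0c20) (.node (nat_lit 0x10169b4814184) (.leaf (nat_lit 0x10169b24a0c10) (nat_lit 1284))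
 (.leaf (nat_lit 0x10169b4814184) (nat_lit 1542))
) (.node (nat_lit 0x10169b7e14187) (.leaf (nat_lit 0x10169b48a0c20) (nat_lit 1286))
 (.leaf (nat_lit 0x10169b7e14187) (nat_lit 1799))
)) (.node (nat_lit 0x1016a424a1010) (.node (nat_lit 0x1016a42414202) (.leaf (nat_lit 0x10169b7ea0c38) (nat_lit 1543))
 (.leaf (nat_lit 0x1016a42414202) (nat_lit 1543))
) (.node (nat_lit 0x1016a43614203) (.leaf (nat_lit 0x1016a424a1010) (nat_lit 1287))
 (.leaf (nat_lit 0x1016a43614203) (nat_lit 1287))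
))) (.node (nat_lit 0x1016a47ea1038) (.node (nat_lit 0x1016a46ca1030) (.node (nat_lit 0x1016a46c14206) (.leaf (nat_lit 0x1016a436a1018) (nat_lit 1031))
 (.leaf (nat_lit 0x1016a46c14206) (nat_lit 1794))
) (.node (nat_lit 0x1016a47e14207) (.leaf (nat_lit 0x1016a46ca1030) (nat_lit 1538))
 (.leaf (nat_lit 0x1016a47e14207) (nat_lit 1538))
)) (.node (nat_lit 0x1016b612a1808) (.node (nat_lit 0x1016b61214301) (.leaf (nat_lit 0x1016a47ea1038) (nat_lit 1282))
 (.leaf (nat_lit 0x1016b61214301) (nat_lit 1287))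
) (.node (nat_lit 0x1016b62414302) (.leaf (nat_lit 0x1016b612a1808) (nat_lit 1031))
 (.leaf (nat_lit 0x1016b62414302) (nat_lit 1543))
)))) (.node (nat_lit 0x1016bf36a1c18) (.node (nat_lit 0x1016b67ea1838) (.node (nat_lit 0x1016b648a1820) (.node (nat_lit 0x1016b64814304) (.leaf (nat_lit 0x1016b624a1810) (nat_lit 1287))
 (.leaf (nat_lit 0x1016b64814304) (nat_lit 1794))
) (.node (nat_lit 0x1016b67e14307) (.leaf (nat_lit 0x1016b648a1820) (nat_lit 1538))
 (.leaf (nat_lit 0x1016b67e14307) (nat_lit 1538))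
)) (.node (nat_lit 0x1016bf12a1c08) (.node (nat_lit 0x1016bf1214381) (.leaf (nat_lit 0x1016b67ea1838) (nat_lit 1282))
 (.leaf (nat_lit 0x1016bf1214381) (nat_lit 1283))
) (.node (nat_lit 0x1016bf3614383) (.leaf (nat_lit 0x1016bf12a1c08) (nat_lit 1027))
 (.leaf (nat_lit 0x1016bf3614383) (nat_lit 1537))
))) (.node (nat_lit 0x1016bf6ca1c30) (.node (nat_lit 0x1016bf48a1c20) (.node (nat_lit 0x1016bf4814384) (.leaf (nat_lit 0x1016bf36a1c18) (nat_lit 1281))
 (.leaf (nat_lit 0x1016bf4814384) (nat_lit 1794))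
) (.node (nat_lit 0x1016bf6c14386) (.leaf (nat_lit 0x1016bf48a1c20) (nat_lit 1538))
 (.leaf (nat_lit 0x1016bf6c14386) (nat_lit 1539))
)) (.node (nat_lit 0x10180820d8492) (.node (nat_lit 0x1018082018082) (.leaf (nat_lit 0x1016bf6ca1c30) (nat_lit 1283))
 (.leaf (nat_lit 0x1018082018082) (nat_lit 1026))
) (.node (nat_lit 0x1018083018083) (.leaf (nat_lit 0x10180820d8492) (nat_lit 1282))
 (.leaf (nat_lit 0x1018083018083) (nat_lit 769))
)))))) (.node (nat_lit 0x1018282018282) (.node (nat_lit 0x1018182018182) (.node (nat_lit 0x1018103018103) (.node (nat_lit 0x1018085018085) (.node (nat_lit 0x1018084018084) (.leaf (nat_lit 0x10180830d849b) (nat_lit 1025))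
 (.node (nat_lit 0x10180840d84a4) (.leaf (nat_lit 0x1018084018084) (nat_lit 1025))
 (.leaf (nat_lit 0x10180840d84a4) (nat_lit 1281))
)) (.node (nat_lit 0x1018101018101) (.node (nat_lit 0x10180850d84ad) (.leaf (nat_lit 0x1018085018085) (nat_lit 769))
 (.leaf (nat_lit 0x10180850d84ad) (nat_lit 1025))
) (.node (nat_lit 0x10181010d8909) (.leaf (nat_lit 0x1018101018101) (nat_lit 259))
 (.leaf (nat_lit 0x10181010d8909) (nat_lit 515))
))) (.node (nat_lit 0x1018107018107) (.node (nat_lit 0x1018105018105) (.node (nat_lit 0x10181030d891b) (.leaf (nat_lit 0x1018103018103) (nat_lit 515))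
 (.leaf (nat_lit 0x10181030d891b) (nat_lit 771))
) (.node (nat_lit 0x10181050d892d) (.leaf (nat_lit 0x1018105018105) (nat_lit 1031))
 (.leaf (nat_lit 0x10181050d892d) (nat_lit 1287))
)) (.node (nat_lit 0x1018181018181) (.node (nat_lit 0x10181070d893f) (.leaf (nat_lit 0x1018107018107) (nat_lit 1030))
 (.leaf (nat_lit 0x10181070d893f) (nat_lit 1286))
) (.node (nat_lit 0x10181810d8d89) (.leaf (nat_lit 0x1018181018181) (nat_lit 513))
 (.leaf (nat_lit 0x10181810d8d89) (nat_lit 769))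
)))) (.node (nat_lit 0x1018203018203) (.node (nat_lit 0x1018187018187) (.node (nat_lit 0x1018184018184) (.node (nat_lit 0x10181820d8d92) (.leaf (nat_lit 0x1018182018182) (nat_lit 770))
 (.leaf (nat_lit 0x10181820d8d92) (nat_lit 1026))
) (.node (nat_lit 0x10181840d8da4) (.leaf (nat_lit 0x1018184018184) (nat_lit 1281))
 (.leaf (nat_lit 0x10181840d8da4) (nat_lit 1537))
)) (.node (nat_lit 0x1018201018201) (.node (nat_lit 0x10181870d8dbf) (.leaf (nat_lit 0x1018187018187) (nat_lit 1025))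
 (.leaf (nat_lit 0x10181870d8dbf) (nat_lit 1281))
) (.node (nat_lit 0x10182010d9209) (.leaf (nat_lit 0x1018201018201) (nat_lit 263))
 (.leaf (nat_lit 0x10182010d9209) (nat_lit 519))
))) (.node (nat_lit 0x1018207018207) (.node (nat_lit 0x1018205018205) (.node (nat_lit 0x10182030d921b) (.leaf (nat_lit 0x1018203018203) (nat_lit 519))
 (.leaf (nat_lit 0x10182030d921b) (nat_lit 775))
) (.node (nat_lit 0x10182050d922d) (.leaf (nat_lit 0x1018205018205) (nat_lit 514))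
 (.leaf (nat_lit 0x10182050d922d) (nat_lit 770))
)) (.node (nat_lit 0x1018281018281) (.node (nat_lit 0x10182070d923f) (.leaf (nat_lit 0x1018207018207) (nat_lit 770))
 (.leaf (nat_lit 0x10182070d923f) (nat_lit 1026))
) (.node (nat_lit 0x10182810d9689) (.leaf (nat_lit 0x1018281018281) (nat_lit 513))
 (.leaf (nat_lit 0x10182810d9689) (nat_lit 769))
))))) (.node (nat_lit 0x101b093618083) (.node (nat_lit 0x1018383018383) (.node (nat_lit 0x1018287018287) (.node (nat_lit 0x1018284018284) (.node (nat_lit 0x10182820d9692) (.leaf (nat_lit 0x1018282018282) (nat_lit 1283))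
 (.leaf (nat_lit 0x10182820d9692) (nat_lit 1539))
) (.node (nat_lit 0x10182840d96a4) (.leaf (nat_lit 0x1018284018284) (nat_lit 770))
 (.leaf (nat_lit 0x10182840d96a4) (nat_lit 1026))
)) (.node (nat_lit 0x1018382018382) (.node (nat_lit 0x10182870d96bf) (.leaf (nat_lit 0x1018287018287) (nat_lit 1286))
 (.leaf (nat_lit 0x10182870d96bf) (nat_lit 1542))
) (.node (nat_lit 0x10183820d9f92) (.leaf (nat_lit 0x1018382018382) (nat_lit 1287))
 (.leaf (nat_lit 0x10183820d9f92) (nat_lit 1543))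
))) (.node (nat_lit 0x1018385018385) (.node (nat_lit 0x1018384018384) (.node (nat_lit 0x10183830d9f9b) (.leaf (nat_lit 0x1018383018383) (nat_lit 769))
 (.leaf (nat_lit 0x10183830d9f9b) (nat_lit 1025))
) (.node (nat_lit 0x10183840d9fa4) (.leaf (nat_lit 0x1018384018384) (nat_lit 1026))
 (.leaf (nat_lit 0x10183840d9fa4) (nat_lit 1282))
)) (.node (nat_lit 0x101b092418082) (.node (nat_lit 0x10183850d9fad) (.leaf (nat_lit 0x1018385018385) (nat_lit 1287))
 (.leaf (nat_lit 0x10183850d9fad) (nat_lit 1543))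
) (.node (nat_lit 0x101b0924c0410) (.leaf (nat_lit 0x101b092418082) (nat_lit 1541))
 (.leaf (nat_lit 0x101b0924c0410) (nat_lit 1284))
)))) (.node (nat_lit 0x101b123618103) (.node (nat_lit 0x101b095a18085) (.node (nat_lit 0x101b094818084) (.node (nat_lit 0x101b0936c0418) (.leaf (nat_lit 0x101b093618083) (nat_lit 1285))
 (.leaf (nat_lit 0x101b0936c0418) (nat_lit 1028))
) (.node (nat_lit 0x101b0948c0420) (.leaf (nat_lit 0x101b094818084) (nat_lit 1537))
 (.leaf (nat_lit 0x101b0948c0420) (nat_lit 1281))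
)) (.node (nat_lit 0x101b121218101) (.node (nat_lit 0x101b095ac0428) (.leaf (nat_lit 0x101b095a18085) (nat_lit 1281))
 (.leaf (nat_lit 0x101b095ac0428) (nat_lit 1025))
) (.node (nat_lit 0x101b1212c0808) (.leaf (nat_lit 0x101b121218101) (nat_lit 773))
 (.leaf (nat_lit 0x101b1212c0808) (nat_lit 516))
))) (.node (nat_lit 0x101b127e18107) (.node (nat_lit 0x101b125a18105) (.node (nat_lit 0x101b1236c0818) (.leaf (nat_lit 0x101b123618103) (nat_lit 1029))
 (.leaf (nat_lit 0x101b1236c0818) (nat_lit 772))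
) (.node (nat_lit 0x101b125ac0828) (.leaf (nat_lit 0x101b125a18105) (nat_lit 1543))
 (.leaf (nat_lit 0x101b125ac0828) (nat_lit 1287))
)) (.node (nat_lit 0x101b1b1218181) (.node (nat_lit 0x101b127ec0838) (.leaf (nat_lit 0x101b127e18107) (nat_lit 1542))
 (.leaf (nat_lit 0x101b127ec0838) (nat_lit 1286))
) (.node (nat_lit 0x101b1b12c0c08) (.leaf (nat_lit 0x101b1b1218181) (nat_lit 1029))
 (.leaf (nat_lit 0x101b1b12c0c08) (nat_lit 772))
))))))) (.node (nat_lit 0x101c2810fd689) (.node (nat_lit 0x101c0820fc492) (.node (nat_lit 0x101b2d12c1408) (.node (nat_lit 0x101b2412c1008) (.node (nat_lit 0x101b1b48c0c20) (.node (nat_lit 0x101b1b24c0c10) (.leaf (nat_lit 0x101b1b2418182) (nat_lit 1285))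
 (.node (nat_lit 0x101b1b4818184) (.leaf (nat_lit 0x101b1b24c0c10) (nat_lit 1028))
 (.leaf (nat_lit 0x101b1b4818184) (nat_lit 1793))
)) (.node (nat_lit 0x101b1b7ec0c38) (.node (nat_lit 0x101b1b7e18187) (.leaf (nat_lit 0x101b1b48c0c20) (nat_lit 1537))
 (.leaf (nat_lit 0x101b1b7e18187) (nat_lit 1537))
) (.node (nat_lit 0x101b241218201) (.leaf (nat_lit 0x101b1b7ec0c38) (nat_lit 1281))
 (.leaf (nat_lit 0x101b241218201) (nat_lit 775))
))) (.node (nat_lit 0x101b245ac1028) (.node (nat_lit 0x101b2436c1018) (.node (nat_lit 0x101b243618203) (.leaf (nat_lit 0x101b2412c1008) (nat_lit 519))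
 (.leaf (nat_lit 0x101b243618203) (nat_lit 1031))
) (.node (nat_lit 0x101b245a18205) (.leaf (nat_lit 0x101b2436c1018) (nat_lit 775))
 (.leaf (nat_lit 0x101b245a18205) (nat_lit 1026))
)) (.node (nat_lit 0x101b247ec1038) (.node (nat_lit 0x101b247e18207) (.leaf (nat_lit 0x101b245ac1028) (nat_lit 770))
 (.leaf (nat_lit 0x101b247e18207) (nat_lit 1282))
) (.node (nat_lit 0x101b2d1218281) (.leaf (nat_lit 0x101b247ec1038) (nat_lit 1026))
 (.leaf (nat_lit 0x101b2d1218281) (nat_lit 1025))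
)))) (.node (nat_lit 0x101b3f24c1c10) (.node (nat_lit 0x101b2d48c1420) (.node (nat_lit 0x101b2d24c1410) (.node (nat_lit 0x101b2d2418282) (.leaf (nat_lit 0x101b2d12c1408) (nat_lit 769))
 (.leaf (nat_lit 0x101b2d2418282) (nat_lit 1795))
) (.node (nat_lit 0x101b2d4818284) (.leaf (nat_lit 0x101b2d24c1410) (nat_lit 1539))
 (.leaf (nat_lit 0x101b2d4818284) (nat_lit 1282))
)) (.node (nat_lit 0x101b2d7ec1438) (.node (nat_lit 0x101b2d7e18287) (.leaf (nat_lit 0x101b2d48c1420) (nat_lit 1026))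
 (.leaf (nat_lit 0x101b2d7e18287) (nat_lit 1798))
) (.node (nat_lit 0x101b3f2418382) (.leaf (nat_lit 0x101b2d7ec1438) (nat_lit 1542))
 (.leaf (nat_lit 0x101b3f2418382) (nat_lit 1799))
))) (.node (nat_lit 0x101b3f48c1c20) (.node (nat_lit 0x101b3f36c1c18) (.node (nat_lit 0x101b3f3618383) (.leaf (nat_lit 0x101b3f24c1c10) (nat_lit 1543))
 (.leaf (nat_lit 0x101b3f3618383) (nat_lit 1281))
) (.node (nat_lit 0x101b3f4818384) (.leaf (nat_lit 0x101b3f36c1c18) (nat_lit 1025))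
 (.leaf (nat_lit 0x101b3f4818384) (nat_lit 1538))
)) (.node (nat_lit 0x101b3f5ac1c28) (.node (nat_lit 0x101b3f5a18385) (.leaf (nat_lit 0x101b3f48c1c20) (nat_lit 1282))
 (.leaf (nat_lit 0x101b3f5a18385) (nat_lit 1799))
) (.node (nat_lit 0x101c08201c082) (.leaf (nat_lit 0x101b3f5ac1c28) (nat_lit 1543))
 (.leaf (nat_lit 0x101c08201c082) (nat_lit 1025))
))))) (.node (nat_lit 0x101c1810fcd89) (.node (nat_lit 0x101c1010fc909) (.node (nat_lit 0x101c0840fc4a4) (.node (nat_lit 0x101c0830fc49b) (.node (nat_lit 0x101c08301c083) (.leaf (nat_lit 0x101c0820fc492) (nat_lit 1281))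
 (.leaf (nat_lit 0x101c08301c083) (nat_lit 1027))
) (.node (nat_lit 0x101c08401c084) (.leaf (nat_lit 0x101c0830fc49b) (nat_lit 1283))
 (.leaf (nat_lit 0x101c08401c084) (nat_lit 1281))
)) (.node (nat_lit 0x101c0850fc4ad) (.node (nat_lit 0x101c08501c085) (.leaf (nat_lit 0x101c0840fc4a4) (nat_lit 1537))
 (.leaf (nat_lit 0x101c08501c085) (nat_lit 1025))
) (.node (nat_lit 0x101c10101c101) (.leaf (nat_lit 0x101c0850fc4ad) (nat_lit 1281))
 (.leaf (nat_lit 0x101c10101c101) (nat_lit 769))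
))) (.node (nat_lit 0x101c1040fc924) (.node (nat_lit 0x101c1030fc91b) (.node (nat_lit 0x101c10301c103) (.leaf (nat_lit 0x101c1010fc909) (nat_lit 1025))
 (.leaf (nat_lit 0x101c10301c103) (nat_lit 1026))
) (.node (nat_lit 0x101c10401c104) (.leaf (nat_lit 0x101c1030fc91b) (nat_lit 1282))
 (.leaf (nat_lit 0x101c10401c104) (nat_lit 1287))
)) (.node (nat_lit 0x101c1060fc936) (.node (nat_lit 0x101c10601c106) (.leaf (nat_lit 0x101c1040fc924) (nat_lit 1543))
 (.leaf (nat_lit 0x101c10601c106) (nat_lit 1281))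
) (.node (nat_lit 0x101c18101c181) (.leaf (nat_lit 0x101c1060fc936) (nat_lit 1537))
 (.leaf (nat_lit 0x101c18101c181) (nat_lit 515))
)))) (.node (nat_lit 0x101c2010fd209) (.node (nat_lit 0x101c1850fcdad) (.node (nat_lit 0x101c1820fcd92) (.node (nat_lit 0x101c18201c182) (.leaf (nat_lit 0x101c1810fcd89) (nat_lit 771))
 (.leaf (nat_lit 0x101c18201c182) (nat_lit 771))
) (.node (nat_lit 0x101c18501c185) (.leaf (nat_lit 0x101c1820fcd92) (nat_lit 1027))
 (.leaf (nat_lit 0x101c18501c185) (nat_lit 1287))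
)) (.node (nat_lit 0x101c1860fcdb6) (.node (nat_lit 0x101c18601c186) (.leaf (nat_lit 0x101c1850fcdad) (nat_lit 1543))
 (.leaf (nat_lit 0x101c18601c186) (nat_lit 1286))
) (.node (nat_lit 0x101c20101c201) (.leaf (nat_lit 0x101c1860fcdb6) (nat_lit 1542))
 (.leaf (nat_lit 0x101c20101c201) (nat_lit 519))
))) (.node (nat_lit 0x101c2050fd22d) (.node (nat_lit 0x101c2020fd212) (.node (nat_lit 0x101c20201c202) (.leaf (nat_lit 0x101c2010fd209) (nat_lit 775))
 (.leaf (nat_lit 0x101c20201c202) (nat_lit 775))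
) (.node (nat_lit 0x101c20501c205) (.leaf (nat_lit 0x101c2020fd212) (nat_lit 1031))
 (.leaf (nat_lit 0x101c20501c205) (nat_lit 770))
)) (.node (nat_lit 0x101c2060fd236) (.node (nat_lit 0x101c20601c206) (.leaf (nat_lit 0x101c2050fd22d) (nat_lit 1026))
 (.leaf (nat_lit 0x101c20601c206) (nat_lit 1026))
) (.node (nat_lit 0x101c28101c281) (.leaf (nat_lit 0x101c2060fd236) (nat_lit 1282))
 (.leaf (nat_lit 0x101c28101c281) (nat_lit 769))
)))))) (.node (nat_lit 0x101f9b121c181) (.node (nat_lit 0x101f89241c082) (.node (nat_lit 0x101c30201c302) (.node (nat_lit 0x101c28401c284) (.node (nat_lit 0x101c28301c283) (.leaf (nat_lit 0x101c2810fd689) (nat_lit 1025))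
 (.node (nat_lit 0x101c2830fd69b) (.leaf (nat_lit 0x101c28301c283) (nat_lit 1027))
 (.leaf (nat_lit 0x101c2830fd69b) (nat_lit 1283))
)) (.node (nat_lit 0x101c28601c286) (.node (nat_lit 0x101c2840fd6a4) (.leaf (nat_lit 0x101c28401c284) (nat_lit 1026))
 (.leaf (nat_lit 0x101c2840fd6a4) (nat_lit 1282))
) (.node (nat_lit 0x101c2860fd6b6) (.leaf (nat_lit 0x101c28601c286) (nat_lit 1030))
 (.leaf (nat_lit 0x101c2860fd6b6) (nat_lit 1286))
))) (.node (nat_lit 0x101c30401c304) (.node (nat_lit 0x101c30301c303) (.node (nat_lit 0x101c3020fdb12) (.leaf (nat_lit 0x101c30201c302) (nat_lit 1025))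
 (.leaf (nat_lit 0x101c3020fdb12) (nat_lit 1281))
) (.node (nat_lit 0x101c3030fdb1b) (.leaf (nat_lit 0x101c30301c303) (nat_lit 1031))
 (.leaf (nat_lit 0x101c3030fdb1b) (nat_lit 1287))
)) (.node (nat_lit 0x101c30501c305) (.node (nat_lit 0x101c3040fdb24) (.leaf (nat_lit 0x101c30401c304) (nat_lit 1282))
 (.leaf (nat_lit 0x101c3040fdb24) (nat_lit 1538))
) (.node (nat_lit 0x101c3050fdb2d) (.leaf (nat_lit 0x101c30501c305) (nat_lit 1031))
 (.leaf (nat_lit 0x101c3050fdb2d) (nat_lit 1287))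
)))) (.node (nat_lit 0x101f92121c101) (.node (nat_lit 0x101f89481c084) (.node (nat_lit 0x101f89361c083) (.node (nat_lit 0x101f8924e0410) (.leaf (nat_lit 0x101f89241c082) (nat_lit 1541))
 (.leaf (nat_lit 0x101f8924e0410) (nat_lit 1284))
) (.node (nat_lit 0x101f8936e0418) (.leaf (nat_lit 0x101f89361c083) (nat_lit 1541))
 (.leaf (nat_lit 0x101f8936e0418) (nat_lit 1284))
)) (.node (nat_lit 0x101f895a1c085) (.node (nat_lit 0x101f8948e0420) (.leaf (nat_lit 0x101f89481c084) (nat_lit 1793))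
 (.leaf (nat_lit 0x101f8948e0420) (nat_lit 1537))
) (.node (nat_lit 0x101f895ae0428) (.leaf (nat_lit 0x101f895a1c085) (nat_lit 1537))
 (.leaf (nat_lit 0x101f895ae0428) (nat_lit 1281))
))) (.node (nat_lit 0x101f92481c104) (.node (nat_lit 0x101f92361c103) (.node (nat_lit 0x101f9212e0808) (.leaf (nat_lit 0x101f92121c101) (nat_lit 1285))
 (.leaf (nat_lit 0x101f9212e0808) (nat_lit 1028))
) (.node (nat_lit 0x101f9236e0818) (.leaf (nat_lit 0x101f92361c103) (nat_lit 1541))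
 (.leaf (nat_lit 0x101f9236e0818) (nat_lit 1284))
)) (.node (nat_lit 0x101f926c1c106) (.node (nat_lit 0x101f9248e0820) (.leaf (nat_lit 0x101f92481c104) (nat_lit 1799))
 (.leaf (nat_lit 0x101f9248e0820) (nat_lit 1543))
) (.node (nat_lit 0x101f926ce0830) (.leaf (nat_lit 0x101f926c1c106) (nat_lit 1793))
 (.leaf (nat_lit 0x101f926ce0830) (nat_lit 1537))
))))) (.node (nat_lit 0x101fad121c281) (.node (nat_lit 0x101fa4121c201) (.node (nat_lit 0x101f9b5a1c185) (.node (nat_lit 0x101f9b241c182) (.node (nat_lit 0x101f9b12e0c08) (.leaf (nat_lit 0x101f9b121c181) (nat_lit 1029))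
 (.leaf (nat_lit 0x101f9b12e0c08) (nat_lit 772))
) (.node (nat_lit 0x101f9b24e0c10) (.leaf (nat_lit 0x101f9b241c182) (nat_lit 1285))
 (.leaf (nat_lit 0x101f9b24e0c10) (nat_lit 1028))
)) (.node (nat_lit 0x101f9b6c1c186) (.node (nat_lit 0x101f9b5ae0c28) (.leaf (nat_lit 0x101f9b5a1c185) (nat_lit 1799))
 (.leaf (nat_lit 0x101f9b5ae0c28) (nat_lit 1543))
) (.node (nat_lit 0x101f9b6ce0c30) (.leaf (nat_lit 0x101f9b6c1c186) (nat_lit 1798))
 (.leaf (nat_lit 0x101f9b6ce0c30) (nat_lit 1542))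
))) (.node (nat_lit 0x101fa45a1c205) (.node (nat_lit 0x101fa4241c202) (.node (nat_lit 0x101fa412e1008) (.leaf (nat_lit 0x101fa4121c201) (nat_lit 1031))
 (.leaf (nat_lit 0x101fa412e1008) (nat_lit 775))
) (.node (nat_lit 0x101fa424e1010) (.leaf (nat_lit 0x101fa4241c202) (nat_lit 1287))
 (.leaf (nat_lit 0x101fa424e1010) (nat_lit 1031))
)) (.node (nat_lit 0x101fa46c1c206) (.node (nat_lit 0x101fa45ae1028) (.leaf (nat_lit 0x101fa45a1c205) (nat_lit 1282))
 (.leaf (nat_lit 0x101fa45ae1028) (nat_lit 1026))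
) (.node (nat_lit 0x101fa46ce1030) (.leaf (nat_lit 0x101fa46c1c206) (nat_lit 1538))
 (.leaf (nat_lit 0x101fa46ce1030) (nat_lit 1282))
)))) (.node (nat_lit 0x101fb6241c302) (.node (nat_lit 0x101fad481c284) (.node (nat_lit 0x101fad361c283) (.node (nat_lit 0x101fad12e1408) (.leaf (nat_lit 0x101fad121c281) (nat_lit 1281))
 (.leaf (nat_lit 0x101fad12e1408) (nat_lit 1025))
) (.node (nat_lit 0x101fad36e1418) (.leaf (nat_lit 0x101fad361c283) (nat_lit 1539))
 (.leaf (nat_lit 0x101fad36e1418) (nat_lit 1283))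
)) (.node (nat_lit 0x101fad6c1c286) (.node (nat_lit 0x101fad48e1420) (.leaf (nat_lit 0x101fad481c284) (nat_lit 1538))
 (.leaf (nat_lit 0x101fad48e1420) (nat_lit 1282))
) (.node (nat_lit 0x101fad6ce1430) (.leaf (nat_lit 0x101fad6c1c286) (nat_lit 1542))
 (.leaf (nat_lit 0x101fad6ce1430) (nat_lit 1286))
))) (.node (nat_lit 0x101fb6481c304) (.node (nat_lit 0x101fb6361c303) (.node (nat_lit 0x101fb624e1810) (.leaf (nat_lit 0x101fb6241c302) (nat_lit 1537))
 (.leaf (nat_lit 0x101fb624e1810) (nat_lit 1281))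
) (.node (nat_lit 0x101fb636e1818) (.leaf (nat_lit 0x101fb6361c303) (nat_lit 1543))
 (.leaf (nat_lit 0x101fb636e1818) (nat_lit 1287))
)) (.node (nat_lit 0x101fb65a1c305) (.node (nat_lit 0x101fb648e1820) (.leaf (nat_lit 0x101fb6481c304) (nat_lit 1794))
 (.leaf (nat_lit 0x101fb648e1820) (nat_lit 1538))
) (.node (nat_lit 0x101fb65ae1828) (.leaf (nat_lit 0x101fb65a1c305) (nat_lit 1543))
 (.leaf (nat_lit 0x101fb65ae1828) (nat_lit 1287))
))))))))))

theorem KKL_ok : genOK A7 ((cK false false).drop 6) KKL 1008 = true := by decide +kernel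

noncomputable def KKS : ST :=
(.node (nat_lit 0x100d03382cc3b) (.node (nat_lit 0x1005225c4cb33) (.node (nat_lit 0x10030c5cc149d) (.node (nat_lit 0x1002822cb4934) (.node (nat_lit 0x10021e3a91aae) (.node (nat_lit 0x10020f0291f09) (.node (nat_lit 0x1002030280c08) (.node (nat_lit 0x1002020280808) (.node (nat_lit 0x1002011c80439) (.node (nat_lit 0x1002010680418) (.node (nat_lit 0x1002010490492) (.leaf (nat_lit 0x1002010480410) (nat_lit 1284))
 (.leaf (nat_lit 0x1002010490492) (nat_lit 1029))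
) (.node (nat_lit 0x100201069049b) (.leaf (nat_lit 0x1002010680418) (nat_lit 1028))
 (.leaf (nat_lit 0x100201069049b) (nat_lit 773))
)) (.node (nat_lit 0x1002011e80431) (.node (nat_lit 0x1002011c904b7) (.leaf (nat_lit 0x1002011c80439) (nat_lit 1537))
 (.leaf (nat_lit 0x1002011c904b7) (nat_lit 1281))
) (.node (nat_lit 0x1002011e904be) (.leaf (nat_lit 0x1002011e80431) (nat_lit 1537))
 (.leaf (nat_lit 0x1002011e904be) (nat_lit 1537))
))) (.node (nat_lit 0x1002022a8083a) (.node (nat_lit 0x1002020680818) (.node (nat_lit 0x1002020290909) (.leaf (nat_lit 0x1002020280808) (nat_lit 516))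
 (.leaf (nat_lit 0x1002020290909) (nat_lit 261))
) (.node (nat_lit 0x100202069091b) (.leaf (nat_lit 0x1002020680818) (nat_lit 772))
 (.leaf (nat_lit 0x100202069091b) (nat_lit 517))
)) (.node (nat_lit 0x1002022e8082a) (.node (nat_lit 0x1002022a9092f) (.leaf (nat_lit 0x1002022a8083a) (nat_lit 1799))
 (.leaf (nat_lit 0x1002022a9092f) (nat_lit 1799))
) (.node (nat_lit 0x1002022e9093d) (.leaf (nat_lit 0x1002022e8082a) (nat_lit 1798))
 (.leaf (nat_lit 0x1002022e9093d) (nat_lit 1793))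
)))) (.node (nat_lit 0x10020e0281c88) (.node (nat_lit 0x1002033a80c33) (.node (nat_lit 0x1002030480c10) (.node (nat_lit 0x1002030290d89) (.leaf (nat_lit 0x1002030280c08) (nat_lit 772))
 (.leaf (nat_lit 0x1002030290d89) (nat_lit 517))
) (.node (nat_lit 0x1002030490d92) (.leaf (nat_lit 0x1002030480c10) (nat_lit 1028))
 (.leaf (nat_lit 0x1002030490d92) (nat_lit 773))
)) (.node (nat_lit 0x1002033c80c2b) (.node (nat_lit 0x1002033a90dae) (.leaf (nat_lit 0x1002033a80c33) (nat_lit 1793))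
 (.leaf (nat_lit 0x1002033a90dae) (nat_lit 1793))
) (.node (nat_lit 0x1002033c90db5) (.leaf (nat_lit 0x1002033c80c2b) (nat_lit 1798))
 (.leaf (nat_lit 0x1002033c90db5) (nat_lit 1537))
))) (.node (nat_lit 0x10020e6481ca6) (.node (nat_lit 0x10020e1e81cb1) (.node (nat_lit 0x10020e0291b89) (.leaf (nat_lit 0x10020e0281c88) (nat_lit 1031))
 (.leaf (nat_lit 0x10020e0291b89) (nat_lit 1031))
) (.node (nat_lit 0x10020e1e91bbe) (.leaf (nat_lit 0x10020e1e81cb1) (nat_lit 1282))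
 (.leaf (nat_lit 0x10020e1e91bbe) (nat_lit 1282))
)) (.node (nat_lit 0x10020e7881c9f) (.node (nat_lit 0x10020e6491b94) (.leaf (nat_lit 0x10020e6481ca6) (nat_lit 1793))
 (.leaf (nat_lit 0x10020e6491b94) (nat_lit 1537))
) (.node (nat_lit 0x10020e7891ba3) (.leaf (nat_lit 0x10020e7881c9f) (nat_lit 1543))
 (.node (nat_lit 0x10020f0281888) (.leaf (nat_lit 0x10020e7891ba3) (nat_lit 1799))
 (.leaf (nat_lit 0x10020f0281888) (nat_lit 1024))
)))))) (.node (nat_lit 0x1002172a8153a) (.node (nat_lit 0x1002150491792) (.node (nat_lit 0x10020f6891f22) (.node (nat_lit 0x10020f1c91f37) (.node (nat_lit 0x10020f1c818b9) (.leaf (nat_lit 0x10020f0291f09) (nat_lit 775))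
 (.leaf (nat_lit 0x10020f1c818b9) (nat_lit 1282))
) (.node (nat_lit 0x10020f6881896) (.leaf (nat_lit 0x10020f1c91f37) (nat_lit 1026))
 (.leaf (nat_lit 0x10020f6881896) (nat_lit 1793))
)) (.node (nat_lit 0x10020f7691f1c) (.node (nat_lit 0x10020f76818a7) (.leaf (nat_lit 0x10020f6891f22) (nat_lit 1543))
 (.leaf (nat_lit 0x10020f76818a7) (nat_lit 1537))
) (.node (nat_lit 0x1002150481d10) (.leaf (nat_lit 0x10020f7691f1c) (nat_lit 1537))
 (.leaf (nat_lit 0x1002150481d10) (nat_lit 1536))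
))) (.node (nat_lit 0x100215529178c) (.node (nat_lit 0x1002152e917bd) (.node (nat_lit 0x1002152e81d2a) (.leaf (nat_lit 0x1002150491792) (nat_lit 1287))
 (.leaf (nat_lit 0x1002152e81d2a) (nat_lit 1794))
) (.node (nat_lit 0x1002155281d25) (.leaf (nat_lit 0x1002152e917bd) (nat_lit 1538))
 (.leaf (nat_lit 0x1002155281d25) (nat_lit 1286))
)) (.node (nat_lit 0x10021578917a3) (.node (nat_lit 0x1002157881d1f) (.leaf (nat_lit 0x100215529178c) (nat_lit 1286))
 (.leaf (nat_lit 0x1002157881d1f) (nat_lit 1538))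
) (.node (nat_lit 0x1002170481510) (.leaf (nat_lit 0x10021578917a3) (nat_lit 1538))
 (.node (nat_lit 0x1002170491e92) (.leaf (nat_lit 0x1002170481510) (nat_lit 1543))
 (.leaf (nat_lit 0x1002170491e92) (nat_lit 1543))
))))) (.node (nat_lit 0x10021d3c819ab) (.node (nat_lit 0x1002177681527) (.node (nat_lit 0x100217588150d) (.node (nat_lit 0x1002172a91eaf) (.leaf (nat_lit 0x1002172a8153a) (nat_lit 1794))
 (.leaf (nat_lit 0x1002172a91eaf) (nat_lit 1543))
) (.node (nat_lit 0x1002175891ea1) (.leaf (nat_lit 0x100217588150d) (nat_lit 1798))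
 (.leaf (nat_lit 0x1002175891ea1) (nat_lit 1542))
)) (.node (nat_lit 0x10021d0681998) (.node (nat_lit 0x1002177691e9c) (.leaf (nat_lit 0x1002177681527) (nat_lit 1542))
 (.leaf (nat_lit 0x1002177691e9c) (nat_lit 1542))
) (.node (nat_lit 0x10021d069171b) (.leaf (nat_lit 0x10021d0681998) (nat_lit 1280))
 (.leaf (nat_lit 0x10021d069171b) (nat_lit 1031))
))) (.node (nat_lit 0x10021d6881996) (.node (nat_lit 0x10021d52819a5) (.node (nat_lit 0x10021d3c91735) (.leaf (nat_lit 0x10021d3c819ab) (nat_lit 1538))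
 (.leaf (nat_lit 0x10021d3c91735) (nat_lit 1282))
) (.node (nat_lit 0x10021d529170c) (.leaf (nat_lit 0x10021d52819a5) (nat_lit 1281))
 (.leaf (nat_lit 0x10021d529170c) (nat_lit 1281))
)) (.node (nat_lit 0x10021e0681598) (.node (nat_lit 0x10021d6891722) (.leaf (nat_lit 0x10021d6881996) (nat_lit 1538))
 (.leaf (nat_lit 0x10021d6891722) (nat_lit 1538))
) (.node (nat_lit 0x10021e0691a9b) (.leaf (nat_lit 0x10021e0681598) (nat_lit 1287))
 (.node (nat_lit 0x10021e3a815b3) (.leaf (nat_lit 0x10021e0691a9b) (nat_lit 1287))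
 (.leaf (nat_lit 0x10021e3a815b3) (nat_lit 1538))
))))))) (.node (nat_lit 0x100234529110c) (.node (nat_lit 0x10022c64806a6) (.node (nat_lit 0x1002293a9062e) (.node (nat_lit 0x10021e6491a94) (.node (nat_lit 0x10021e5891aa1) (.node (nat_lit 0x10021e588158d) (.leaf (nat_lit 0x10021e3a91aae) (nat_lit 1538))
 (.leaf (nat_lit 0x10021e588158d) (nat_lit 1793))
) (.node (nat_lit 0x10021e64815a6) (.leaf (nat_lit 0x10021e5891aa1) (nat_lit 1542))
 (.leaf (nat_lit 0x10021e64815a6) (nat_lit 1798))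
)) (.node (nat_lit 0x1002292a9062f) (.node (nat_lit 0x1002292a812ba) (.leaf (nat_lit 0x10021e6491a94) (nat_lit 1798))
 (.leaf (nat_lit 0x1002292a812ba) (nat_lit 1799))
) (.node (nat_lit 0x1002293a812b3) (.leaf (nat_lit 0x1002292a9062f) (nat_lit 1793))
 (.leaf (nat_lit 0x1002293a812b3) (nat_lit 1543))
))) (.node (nat_lit 0x1002297890623) (.node (nat_lit 0x1002296890622) (.node (nat_lit 0x1002296881296) (.leaf (nat_lit 0x1002293a9062e) (nat_lit 1537))
 (.leaf (nat_lit 0x1002296881296) (nat_lit 1794))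
) (.node (nat_lit 0x100229788129f) (.leaf (nat_lit 0x1002296890622) (nat_lit 1539))
 (.leaf (nat_lit 0x100229788129f) (nat_lit 1793))
)) (.node (nat_lit 0x10022c2e910bd) (.node (nat_lit 0x10022c2e806aa) (.leaf (nat_lit 0x1002297890623) (nat_lit 1795))
 (.leaf (nat_lit 0x10022c2e806aa) (nat_lit 1798))
) (.node (nat_lit 0x10022c3c806ab) (.leaf (nat_lit 0x10022c2e910bd) (nat_lit 1543))
 (.node (nat_lit 0x10022c3c910b5) (.leaf (nat_lit 0x10022c3c806ab) (nat_lit 1536))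
 (.leaf (nat_lit 0x10022c3c910b5) (nat_lit 1287))
))))) (.node (nat_lit 0x100232588130d) (.node (nat_lit 0x1002321c81339) (.node (nat_lit 0x10022c76806a7) (.node (nat_lit 0x10022c6491094) (.leaf (nat_lit 0x10022c64806a6) (nat_lit 1798))
 (.leaf (nat_lit 0x10022c6491094) (nat_lit 1538))
) (.node (nat_lit 0x10022c769109c) (.leaf (nat_lit 0x10022c76806a7) (nat_lit 1542))
 (.leaf (nat_lit 0x10022c769109c) (nat_lit 1542))
)) (.node (nat_lit 0x1002323c8132b) (.node (nat_lit 0x1002321c90a37) (.leaf (nat_lit 0x1002321c81339) (nat_lit 1287))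
 (.leaf (nat_lit 0x1002321c90a37) (nat_lit 1281))
) (.node (nat_lit 0x1002323c90a35) (.leaf (nat_lit 0x1002323c8132b) (nat_lit 1543))
 (.leaf (nat_lit 0x1002323c90a35) (nat_lit 1537))
))) (.node (nat_lit 0x1002341e80b31) (.node (nat_lit 0x100232788131f) (.node (nat_lit 0x1002325890a21) (.leaf (nat_lit 0x100232588130d) (nat_lit 1542))
 (.leaf (nat_lit 0x1002325890a21) (nat_lit 1286))
) (.node (nat_lit 0x1002327890a23) (.leaf (nat_lit 0x100232788131f) (nat_lit 1538))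
 (.leaf (nat_lit 0x1002327890a23) (nat_lit 1542))
)) (.node (nat_lit 0x1002343a80b33) (.node (nat_lit 0x1002341e9113e) (.leaf (nat_lit 0x1002341e80b31) (nat_lit 1537))
 (.leaf (nat_lit 0x1002341e9113e) (nat_lit 1287))
) (.node (nat_lit 0x1002343a9112e) (.leaf (nat_lit 0x1002343a80b33) (nat_lit 1282))
 (.node (nat_lit 0x1002345280b25) (.leaf (nat_lit 0x1002343a9112e) (nat_lit 1282))
 (.leaf (nat_lit 0x1002345280b25) (nat_lit 1030))
)))))) (.node (nat_lit 0x10023c6480fa6) (.node (nat_lit 0x10023b5890e21) (.node (nat_lit 0x10023b1e90e3e) (.node (nat_lit 0x100234769111c) (.node (nat_lit 0x1002347680b27) (.leaf (nat_lit 0x100234529110c) (nat_lit 1030))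
 (.leaf (nat_lit 0x1002347680b27) (nat_lit 1286))
) (.node (nat_lit 0x10023b1e813b1) (.leaf (nat_lit 0x100234769111c) (nat_lit 1286))
 (.leaf (nat_lit 0x10023b1e813b1) (nat_lit 1287))
)) (.node (nat_lit 0x10023b2e90e3d) (.node (nat_lit 0x10023b2e813aa) (.leaf (nat_lit 0x10023b1e90e3e) (nat_lit 1536))
 (.leaf (nat_lit 0x10023b2e813aa) (nat_lit 1542))
) (.node (nat_lit 0x10023b588138d) (.leaf (nat_lit 0x10023b2e90e3d) (nat_lit 1542))
 (.leaf (nat_lit 0x10023b588138d) (nat_lit 1798))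
))) (.node (nat_lit 0x10023c1c911b7) (.node (nat_lit 0x10023b6890e22) (.node (nat_lit 0x10023b6881396) (.leaf (nat_lit 0x10023b5890e21) (nat_lit 1542))
 (.leaf (nat_lit 0x10023b6881396) (nat_lit 1538))
) (.node (nat_lit 0x10023c1c80fb9) (.leaf (nat_lit 0x10023b6890e22) (nat_lit 1794))
 (.leaf (nat_lit 0x10023c1c80fb9) (nat_lit 1280))
)) (.node (nat_lit 0x10023c2a911af) (.node (nat_lit 0x10023c2a80fba) (.leaf (nat_lit 0x10023c1c911b7) (nat_lit 1031))
 (.leaf (nat_lit 0x10023c2a80fba) (nat_lit 1538))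
) (.node (nat_lit 0x10023c5280fa5) (.leaf (nat_lit 0x10023c2a911af) (nat_lit 1538))
 (.node (nat_lit 0x10023c529118c) (.leaf (nat_lit 0x10023c5280fa5) (nat_lit 1286))
 (.leaf (nat_lit 0x10023c529118c) (nat_lit 1286))
))))) (.node (nat_lit 0x1002811ea0431) (.node (nat_lit 0x10028106a0418) (.node (nat_lit 0x10028104a0410) (.node (nat_lit 0x10023c6491194) (.leaf (nat_lit 0x10023c6480fa6) (nat_lit 1542))
 (.leaf (nat_lit 0x10023c6491194) (nat_lit 1282))
) (.node (nat_lit 0x10028104b4492) (.leaf (nat_lit 0x10028104a0410) (nat_lit 1540))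
 (.leaf (nat_lit 0x10028104b4492) (nat_lit 1285))
)) (.node (nat_lit 0x1002811ca0439) (.node (nat_lit 0x10028106b449b) (.leaf (nat_lit 0x10028106a0418) (nat_lit 1284))
 (.leaf (nat_lit 0x10028106b449b) (nat_lit 1029))
) (.node (nat_lit 0x1002811cb44b7) (.leaf (nat_lit 0x1002811ca0439) (nat_lit 1542))
 (.leaf (nat_lit 0x1002811cb44b7) (nat_lit 1537))
))) (.node (nat_lit 0x10028206a0818) (.node (nat_lit 0x10028202a0808) (.node (nat_lit 0x1002811eb44be) (.leaf (nat_lit 0x1002811ea0431) (nat_lit 1793))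
 (.leaf (nat_lit 0x1002811eb44be) (nat_lit 1537))
) (.node (nat_lit 0x10028202b4909) (.leaf (nat_lit 0x10028202a0808) (nat_lit 1287))
 (.leaf (nat_lit 0x10028202b4909) (nat_lit 1031))
)) (.node (nat_lit 0x10028228a0832) (.node (nat_lit 0x10028206b491b) (.leaf (nat_lit 0x10028206a0818) (nat_lit 1540))
 (.leaf (nat_lit 0x10028206b491b) (nat_lit 1285))
) (.node (nat_lit 0x10028228b4926) (.leaf (nat_lit 0x10028228a0832) (nat_lit 1798))
 (.node (nat_lit 0x1002822ca0822) (.leaf (nat_lit 0x10028228b4926) (nat_lit 1793))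
 (.leaf (nat_lit 0x1002822ca0822) (nat_lit 1799))
)))))))) (.node (nat_lit 0x1002a53ea0623) (.node (nat_lit 0x10029604a1110) (.node (nat_lit 0x10028e7ab5baa) (.node (nat_lit 0x1002833eb4dbc) (.node (nat_lit 0x10028304b4d92) (.node (nat_lit 0x10028302b4d89) (.node (nat_lit 0x10028302a0c08) (.leaf (nat_lit 0x1002822cb4934) (nat_lit 1798))
 (.leaf (nat_lit 0x10028302a0c08) (nat_lit 1030))
) (.node (nat_lit 0x10028304a0c10) (.leaf (nat_lit 0x10028302b4d89) (nat_lit 1029))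
 (.leaf (nat_lit 0x10028304a0c10) (nat_lit 1282))
)) (.node (nat_lit 0x10028338b4da7) (.node (nat_lit 0x10028338a0c3b) (.leaf (nat_lit 0x10028304b4d92) (nat_lit 1285))
 (.leaf (nat_lit 0x10028338a0c3b) (nat_lit 1793))
) (.node (nat_lit 0x1002833ea0c23) (.leaf (nat_lit 0x10028338b4da7) (nat_lit 1537))
 (.leaf (nat_lit 0x1002833ea0c23) (nat_lit 1793))
))) (.node (nat_lit 0x10028e1eb5bbe) (.node (nat_lit 0x10028e02b5b89) (.node (nat_lit 0x10028e02a1c88) (.leaf (nat_lit 0x1002833eb4dbc) (nat_lit 1793))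
 (.leaf (nat_lit 0x10028e02a1c88) (nat_lit 1287))
) (.node (nat_lit 0x10028e1ea1cb1) (.leaf (nat_lit 0x10028e02b5b89) (nat_lit 1027))
 (.leaf (nat_lit 0x10028e1ea1cb1) (nat_lit 1538))
)) (.node (nat_lit 0x10028e66b5b9d) (.node (nat_lit 0x10028e66a1cae) (.leaf (nat_lit 0x10028e1eb5bbe) (nat_lit 1283))
 (.leaf (nat_lit 0x10028e66a1cae) (nat_lit 1286))
) (.node (nat_lit 0x10028e7aa1c97) (.leaf (nat_lit 0x10028e66b5b9d) (nat_lit 1536))
 (.leaf (nat_lit 0x10028e7aa1c97) (nat_lit 1538))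
)))) (.node (nat_lit 0x10028f74b5f15) (.node (nat_lit 0x10028f1cb5f37) (.node (nat_lit 0x10028f02b5f09) (.node (nat_lit 0x10028f02a1888) (.leaf (nat_lit 0x10028e7ab5baa) (nat_lit 1542))
 (.leaf (nat_lit 0x10028f02a1888) (nat_lit 1283))
) (.node (nat_lit 0x10028f1ca18b9) (.leaf (nat_lit 0x10028f02b5f09) (nat_lit 1031))
 (.leaf (nat_lit 0x10028f1ca18b9) (nat_lit 1539))
)) (.node (nat_lit 0x10028f6ab5f2b) (.node (nat_lit 0x10028f6aa189e) (.leaf (nat_lit 0x10028f1cb5f37) (nat_lit 1282))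
 (.leaf (nat_lit 0x10028f6aa189e) (nat_lit 1536))
) (.node (nat_lit 0x10028f74a18af) (.leaf (nat_lit 0x10028f6ab5f2b) (nat_lit 1286))
 (.leaf (nat_lit 0x10028f74a18af) (nat_lit 1542))
))) (.node (nat_lit 0x1002942cb5334) (.node (nat_lit 0x10029404b5312) (.node (nat_lit 0x10029404a1910) (.leaf (nat_lit 0x10028f74b5f15) (nat_lit 1538))
 (.leaf (nat_lit 0x10029404a1910) (nat_lit 1543))
) (.node (nat_lit 0x1002942ca1922) (.leaf (nat_lit 0x10029404b5312) (nat_lit 1287))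
 (.leaf (nat_lit 0x1002942ca1922) (nat_lit 1794))
)) (.node (nat_lit 0x10029442b530d) (.node (nat_lit 0x10029442a192c) (.leaf (nat_lit 0x1002942cb5334) (nat_lit 1538))
 (.leaf (nat_lit 0x10029442a192c) (nat_lit 1281))
) (.node (nat_lit 0x1002946aa191e) (.leaf (nat_lit 0x10029442b530d) (nat_lit 1537))
 (.node (nat_lit 0x1002946ab532b) (.leaf (nat_lit 0x1002946aa191e) (nat_lit 1538))
 (.leaf (nat_lit 0x1002946ab532b) (nat_lit 1794))
)))))) (.node (nat_lit 0x10029f06b5e1b) (.node (nat_lit 0x10029c06a1d98) (.node (nat_lit 0x1002964aa110c) (.node (nat_lit 0x10029628a1132) (.node (nat_lit 0x10029604b5a12) (.leaf (nat_lit 0x10029604a1110) (nat_lit 1543))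
 (.leaf (nat_lit 0x10029604b5a12) (nat_lit 1287))
) (.node (nat_lit 0x10029628b5a26) (.leaf (nat_lit 0x10029628a1132) (nat_lit 1794))
 (.leaf (nat_lit 0x10029628b5a26) (nat_lit 1538))
)) (.node (nat_lit 0x10029666a112e) (.node (nat_lit 0x1002964ab5a29) (.leaf (nat_lit 0x1002964aa110c) (nat_lit 1537))
 (.leaf (nat_lit 0x1002964ab5a29) (nat_lit 1281))
) (.node (nat_lit 0x10029666b5a1d) (.leaf (nat_lit 0x10029666a112e) (nat_lit 1542))
 (.leaf (nat_lit 0x10029666b5a1d) (nat_lit 1542))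
))) (.node (nat_lit 0x10029c42a1dac) (.node (nat_lit 0x10029c3ea1da3) (.node (nat_lit 0x10029c06b539b) (.leaf (nat_lit 0x10029c06a1d98) (nat_lit 1287))
 (.leaf (nat_lit 0x10029c06b539b) (nat_lit 1281))
) (.node (nat_lit 0x10029c3eb53bc) (.leaf (nat_lit 0x10029c3ea1da3) (nat_lit 1538))
 (.leaf (nat_lit 0x10029c3eb53bc) (nat_lit 1538))
)) (.node (nat_lit 0x10029c7aa1d97) (.node (nat_lit 0x10029c42b538d) (.leaf (nat_lit 0x10029c42a1dac) (nat_lit 1286))
 (.leaf (nat_lit 0x10029c42b538d) (nat_lit 1536))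
) (.node (nat_lit 0x10029c7ab53aa) (.leaf (nat_lit 0x10029c7aa1d97) (nat_lit 1538))
 (.node (nat_lit 0x10029f06a1198) (.leaf (nat_lit 0x10029c7ab53aa) (nat_lit 1794))
 (.leaf (nat_lit 0x10029f06a1198) (nat_lit 1280))
))))) (.node (nat_lit 0x1002a128b46a6) (.node (nat_lit 0x10029f4ab5e29) (.node (nat_lit 0x10029f38b5e27) (.node (nat_lit 0x10029f38a11bb) (.leaf (nat_lit 0x10029f06b5e1b) (nat_lit 1031))
 (.leaf (nat_lit 0x10029f38a11bb) (nat_lit 1538))
) (.node (nat_lit 0x10029f4aa118c) (.leaf (nat_lit 0x10029f38b5e27) (nat_lit 1282))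
 (.leaf (nat_lit 0x10029f4aa118c) (nat_lit 1536))
)) (.node (nat_lit 0x10029f74b5e15) (.node (nat_lit 0x10029f74a11af) (.leaf (nat_lit 0x10029f4ab5e29) (nat_lit 1286))
 (.leaf (nat_lit 0x10029f74a11af) (nat_lit 1798))
) (.node (nat_lit 0x1002a128a1632) (.leaf (nat_lit 0x10029f74b5e15) (nat_lit 1538))
 (.leaf (nat_lit 0x1002a128a1632) (nat_lit 1537))
))) (.node (nat_lit 0x1002a16ab46ab) (.node (nat_lit 0x1002a138b46a7) (.node (nat_lit 0x1002a138a163b) (.leaf (nat_lit 0x1002a128b46a6) (nat_lit 1542))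
 (.leaf (nat_lit 0x1002a138a163b) (nat_lit 1793))
) (.node (nat_lit 0x1002a16aa161e) (.leaf (nat_lit 0x1002a138b46a7) (nat_lit 1543))
 (.leaf (nat_lit 0x1002a16aa161e) (nat_lit 1793))
)) (.node (nat_lit 0x1002a17ab46aa) (.node (nat_lit 0x1002a17aa1617) (.leaf (nat_lit 0x1002a16ab46ab) (nat_lit 1542))
 (.leaf (nat_lit 0x1002a17aa1617) (nat_lit 1793))
) (.node (nat_lit 0x1002a52ca0622) (.leaf (nat_lit 0x1002a17ab46aa) (nat_lit 1798))
 (.node (nat_lit 0x1002a52cb54b4) (.leaf (nat_lit 0x1002a52ca0622) (nat_lit 1542))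
 (.leaf (nat_lit 0x1002a52cb54b4) (nat_lit 1537))
))))))) (.node (nat_lit 0x1002bd42a0bac) (.node (nat_lit 0x1002b528b55a6) (.node (nat_lit 0x1002b32ca1722) (.node (nat_lit 0x1002a574a062f) (.node (nat_lit 0x1002a566a062e) (.node (nat_lit 0x1002a53eb54bc) (.leaf (nat_lit 0x1002a53ea0623) (nat_lit 1542))
 (.leaf (nat_lit 0x1002a53eb54bc) (nat_lit 1793))
) (.node (nat_lit 0x1002a566b549d) (.leaf (nat_lit 0x1002a566a062e) (nat_lit 1542))
 (.leaf (nat_lit 0x1002a566b549d) (nat_lit 1792))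
)) (.node (nat_lit 0x1002b31ca1739) (.node (nat_lit 0x1002a574b5495) (.leaf (nat_lit 0x1002a574a062f) (nat_lit 1798))
 (.leaf (nat_lit 0x1002a574b5495) (nat_lit 1793))
) (.node (nat_lit 0x1002b31cb4eb7) (.leaf (nat_lit 0x1002b31ca1739) (nat_lit 1543))
 (.leaf (nat_lit 0x1002b31cb4eb7) (nat_lit 1543))
))) (.node (nat_lit 0x1002b37aa1717) (.node (nat_lit 0x1002b34aa170c) (.node (nat_lit 0x1002b32cb4eb4) (.leaf (nat_lit 0x1002b32ca1722) (nat_lit 1538))
 (.leaf (nat_lit 0x1002b32cb4eb4) (nat_lit 1282))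
) (.node (nat_lit 0x1002b34ab4ea9) (.leaf (nat_lit 0x1002b34aa170c) (nat_lit 1280))
 (.leaf (nat_lit 0x1002b34ab4ea9) (nat_lit 1030))
)) (.node (nat_lit 0x1002b51ea0f31) (.node (nat_lit 0x1002b37ab4eaa) (.leaf (nat_lit 0x1002b37aa1717) (nat_lit 1793))
 (.leaf (nat_lit 0x1002b37ab4eaa) (nat_lit 1799))
) (.node (nat_lit 0x1002b51eb55be) (.leaf (nat_lit 0x1002b51ea0f31) (nat_lit 1536))
 (.node (nat_lit 0x1002b528a0f32) (.leaf (nat_lit 0x1002b51eb55be) (nat_lit 1287))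
 (.leaf (nat_lit 0x1002b528a0f32) (nat_lit 1282))
))))) (.node (nat_lit 0x1002ba3eb4abc) (.node (nat_lit 0x1002b574b5595) (.node (nat_lit 0x1002b542b558d) (.node (nat_lit 0x1002b542a0f2c) (.leaf (nat_lit 0x1002b528b55a6) (nat_lit 1538))
 (.leaf (nat_lit 0x1002b542a0f2c) (nat_lit 1030))
) (.node (nat_lit 0x1002b574a0f2f) (.leaf (nat_lit 0x1002b542b558d) (nat_lit 1280))
 (.leaf (nat_lit 0x1002b574a0f2f) (nat_lit 1793))
)) (.node (nat_lit 0x1002ba1eb4abe) (.node (nat_lit 0x1002ba1ea17b1) (.leaf (nat_lit 0x1002b574b5595) (nat_lit 1538))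
 (.leaf (nat_lit 0x1002ba1ea17b1) (nat_lit 1543))
) (.node (nat_lit 0x1002ba3ea17a3) (.leaf (nat_lit 0x1002ba1eb4abe) (nat_lit 1537))
 (.leaf (nat_lit 0x1002ba3ea17a3) (nat_lit 1794))
))) (.node (nat_lit 0x1002ba6ab4aab) (.node (nat_lit 0x1002ba4ab4aa9) (.node (nat_lit 0x1002ba4aa178c) (.leaf (nat_lit 0x1002ba3eb4abc) (nat_lit 1538))
 (.leaf (nat_lit 0x1002ba4aa178c) (nat_lit 1536))
) (.node (nat_lit 0x1002ba6aa179e) (.leaf (nat_lit 0x1002ba4ab4aa9) (nat_lit 1286))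
 (.leaf (nat_lit 0x1002ba6aa179e) (nat_lit 1793))
)) (.node (nat_lit 0x1002bd1cb5537) (.node (nat_lit 0x1002bd1ca0bb9) (.leaf (nat_lit 0x1002ba6ab4aab) (nat_lit 1537))
 (.leaf (nat_lit 0x1002bd1ca0bb9) (nat_lit 1794))
) (.node (nat_lit 0x1002bd38a0bbb) (.leaf (nat_lit 0x1002bd1cb5537) (nat_lit 1543))
 (.node (nat_lit 0x1002bd38b5527) (.leaf (nat_lit 0x1002bd38a0bbb) (nat_lit 1538))
 (.leaf (nat_lit 0x1002bd38b5527) (nat_lit 1794))
)))))) (.node (nat_lit 0x1003022ad892f) (.node (nat_lit 0x10030118c0429) (.node (nat_lit 0x10030104c0410) (.node (nat_lit 0x1002bd66a0bae) (.node (nat_lit 0x1002bd42b550d) (.leaf (nat_lit 0x1002bd42a0bac) (nat_lit 1286))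
 (.leaf (nat_lit 0x1002bd42b550d) (nat_lit 1536))
) (.node (nat_lit 0x1002bd66b551d) (.leaf (nat_lit 0x1002bd66a0bae) (nat_lit 1537))
 (.leaf (nat_lit 0x1002bd66b551d) (nat_lit 1793))
)) (.node (nat_lit 0x10030106c0418) (.node (nat_lit 0x10030104d8492) (.leaf (nat_lit 0x10030104c0410) (nat_lit 1540))
 (.leaf (nat_lit 0x10030104d8492) (nat_lit 1285))
) (.node (nat_lit 0x10030106d849b) (.leaf (nat_lit 0x10030106c0418) (nat_lit 1284))
 (.leaf (nat_lit 0x10030106d849b) (nat_lit 1029))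
))) (.node (nat_lit 0x10030202c0808) (.node (nat_lit 0x1003011ac0421) (.node (nat_lit 0x10030118d84a5) (.leaf (nat_lit 0x10030118c0429) (nat_lit 1281))
 (.leaf (nat_lit 0x10030118d84a5) (nat_lit 1025))
) (.node (nat_lit 0x1003011ad84ac) (.leaf (nat_lit 0x1003011ac0421) (nat_lit 1281))
 (.leaf (nat_lit 0x1003011ad84ac) (nat_lit 1281))
)) (.node (nat_lit 0x10030206c0818) (.node (nat_lit 0x10030202d8909) (.leaf (nat_lit 0x10030202c0808) (nat_lit 772))
 (.leaf (nat_lit 0x10030202d8909) (nat_lit 517))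
) (.node (nat_lit 0x10030206d891b) (.leaf (nat_lit 0x10030206c0818) (nat_lit 1028))
 (.node (nat_lit 0x1003022ac083a) (.leaf (nat_lit 0x10030206d891b) (nat_lit 773))
 (.leaf (nat_lit 0x1003022ac083a) (nat_lit 1798))
))))) (.node (nat_lit 0x10030338d8da7) (.node (nat_lit 0x10030302d8d89) (.node (nat_lit 0x1003022ed893d) (.node (nat_lit 0x1003022ec082a) (.leaf (nat_lit 0x1003022ad892f) (nat_lit 1799))
 (.leaf (nat_lit 0x1003022ec082a) (nat_lit 1799))
) (.node (nat_lit 0x10030302c0c08) (.leaf (nat_lit 0x1003022ed893d) (nat_lit 1543))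
 (.leaf (nat_lit 0x10030302c0c08) (nat_lit 1028))
)) (.node (nat_lit 0x10030304d8d92) (.node (nat_lit 0x10030304c0c10) (.leaf (nat_lit 0x10030302d8d89) (nat_lit 773))
 (.leaf (nat_lit 0x10030304c0c10) (nat_lit 1284))
) (.node (nat_lit 0x10030338c0c3b) (.leaf (nat_lit 0x10030304d8d92) (nat_lit 1029))
 (.leaf (nat_lit 0x10030338c0c3b) (nat_lit 1537))
))) (.node (nat_lit 0x10030c02d9289) (.node (nat_lit 0x1003033ed8dbc) (.node (nat_lit 0x1003033ec0c23) (.leaf (nat_lit 0x10030338d8da7) (nat_lit 1281))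
 (.leaf (nat_lit 0x1003033ec0c23) (nat_lit 1537))
) (.node (nat_lit 0x10030c02c1488) (.leaf (nat_lit 0x1003033ed8dbc) (nat_lit 1537))
 (.leaf (nat_lit 0x10030c02c1488) (nat_lit 775))
)) (.node (nat_lit 0x10030c1ad92ac) (.node (nat_lit 0x10030c1ac14a1) (.leaf (nat_lit 0x10030c02d9289) (nat_lit 769))
 (.leaf (nat_lit 0x10030c1ac14a1) (nat_lit 1026))
) (.node (nat_lit 0x10030c44c14b4) (.leaf (nat_lit 0x10030c1ad92ac) (nat_lit 1026))
 (.node (nat_lit 0x10030c44d9296) (.leaf (nat_lit 0x10030c44c14b4) (nat_lit 1798))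
 (.leaf (nat_lit 0x10030c44d9296) (nat_lit 1794))
))))))))) (.node (nat_lit 0x10039446fd31f) (.node (nat_lit 0x10032e18d99a5) (.node (nat_lit 0x10031c7cd93b1) (.node (nat_lit 0x1003157cc1d0f) (.node (nat_lit 0x10030d56c10b5) (.node (nat_lit 0x10030d18c10a9) (.node (nat_lit 0x10030d02c1088) (.node (nat_lit 0x10030c5cd92b3) (.leaf (nat_lit 0x10030c5cc149d) (nat_lit 1792))
 (.leaf (nat_lit 0x10030c5cd92b3) (nat_lit 1542))
) (.node (nat_lit 0x10030d02d9609) (.leaf (nat_lit 0x10030d02c1088) (nat_lit 768))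
 (.leaf (nat_lit 0x10030d02d9609) (nat_lit 519))
)) (.node (nat_lit 0x10030d4cc1094) (.node (nat_lit 0x10030d18d9625) (.leaf (nat_lit 0x10030d18c10a9) (nat_lit 1026))
 (.leaf (nat_lit 0x10030d18d9625) (nat_lit 770))
) (.node (nat_lit 0x10030d4cd9632) (.leaf (nat_lit 0x10030d4cc1094) (nat_lit 1794))
 (.leaf (nat_lit 0x10030d4cd9632) (nat_lit 1798))
))) (.node (nat_lit 0x1003152ec1d2a) (.node (nat_lit 0x10031504c1d10) (.node (nat_lit 0x10030d56d961e) (.leaf (nat_lit 0x10030d56c10b5) (nat_lit 1542))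
 (.leaf (nat_lit 0x10030d56d961e) (nat_lit 1542))
) (.node (nat_lit 0x10031504d9792) (.leaf (nat_lit 0x10031504c1d10) (nat_lit 1543))
 (.leaf (nat_lit 0x10031504d9792) (nat_lit 1543))
)) (.node (nat_lit 0x10031556c1d35) (.node (nat_lit 0x1003152ed97bd) (.leaf (nat_lit 0x1003152ec1d2a) (nat_lit 1798))
 (.leaf (nat_lit 0x1003152ed97bd) (nat_lit 1794))
) (.node (nat_lit 0x10031556d979e) (.leaf (nat_lit 0x10031556c1d35) (nat_lit 1286))
 (.leaf (nat_lit 0x10031556d979e) (nat_lit 1286))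
)))) (.node (nat_lit 0x10031772c1537) (.node (nat_lit 0x1003172ac153a) (.node (nat_lit 0x10031704c1510) (.node (nat_lit 0x1003157cd97b1) (.leaf (nat_lit 0x1003157cc1d0f) (nat_lit 1542))
 (.leaf (nat_lit 0x1003157cd97b1) (nat_lit 1286))
) (.node (nat_lit 0x10031704d9e92) (.leaf (nat_lit 0x10031704c1510) (nat_lit 1799))
 (.leaf (nat_lit 0x10031704d9e92) (nat_lit 1539))
)) (.node (nat_lit 0x1003175cc151d) (.node (nat_lit 0x1003172ad9eaf) (.leaf (nat_lit 0x1003172ac153a) (nat_lit 1542))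
 (.leaf (nat_lit 0x1003172ad9eaf) (nat_lit 1542))
) (.node (nat_lit 0x1003175cd9eb3) (.leaf (nat_lit 0x1003175cc151d) (nat_lit 1282))
 (.leaf (nat_lit 0x1003175cd9eb3) (nat_lit 1282))
))) (.node (nat_lit 0x10031c3ec1da3) (.node (nat_lit 0x10031c06c1d98) (.node (nat_lit 0x10031772d9e8e) (.leaf (nat_lit 0x10031772c1537) (nat_lit 1030))
 (.leaf (nat_lit 0x10031772d9e8e) (nat_lit 1030))
) (.node (nat_lit 0x10031c06d939b) (.leaf (nat_lit 0x10031c06c1d98) (nat_lit 1031))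
 (.leaf (nat_lit 0x10031c06d939b) (nat_lit 1025))
)) (.node (nat_lit 0x10031c44c1db4) (.node (nat_lit 0x10031c3ed93bc) (.leaf (nat_lit 0x10031c3ec1da3) (nat_lit 1282))
 (.leaf (nat_lit 0x10031c3ed93bc) (nat_lit 1282))
) (.node (nat_lit 0x10031c44d9396) (.leaf (nat_lit 0x10031c44c1db4) (nat_lit 1793))
 (.node (nat_lit 0x10031c7cc1d8f) (.leaf (nat_lit 0x10031c44d9396) (nat_lit 1538))
 (.leaf (nat_lit 0x10031c7cc1d8f) (nat_lit 1536))
)))))) (.node (nat_lit 0x1003261ac0a21) (.node (nat_lit 0x10031f72d9e0e) (.node (nat_lit 0x10031f38d9e27) (.node (nat_lit 0x10031f06d9e1b) (.node (nat_lit 0x10031f06c1198) (.leaf (nat_lit 0x10031c7cd93b1) (nat_lit 1286))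
 (.leaf (nat_lit 0x10031f06c1198) (nat_lit 1024))
) (.node (nat_lit 0x10031f38c11bb) (.leaf (nat_lit 0x10031f06d9e1b) (nat_lit 775))
 (.leaf (nat_lit 0x10031f38c11bb) (nat_lit 1282))
)) (.node (nat_lit 0x10031f4cd9e32) (.node (nat_lit 0x10031f4cc1194) (.leaf (nat_lit 0x10031f38d9e27) (nat_lit 1026))
 (.leaf (nat_lit 0x10031f4cc1194) (nat_lit 1538))
) (.node (nat_lit 0x10031f72c11b7) (.leaf (nat_lit 0x10031f4cd9e32) (nat_lit 1538))
 (.leaf (nat_lit 0x10031f72c11b7) (nat_lit 1286))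
))) (.node (nat_lit 0x10032238d8b27) (.node (nat_lit 0x10032218d8b25) (.node (nat_lit 0x10032218c1a29) (.leaf (nat_lit 0x10031f72d9e0e) (nat_lit 1286))
 (.leaf (nat_lit 0x10032218c1a29) (nat_lit 1543))
) (.node (nat_lit 0x10032238c1a3b) (.leaf (nat_lit 0x10032218d8b25) (nat_lit 1543))
 (.leaf (nat_lit 0x10032238c1a3b) (nat_lit 1799))
)) (.node (nat_lit 0x1003225cd8b33) (.node (nat_lit 0x1003225cc1a1d) (.leaf (nat_lit 0x10032238d8b27) (nat_lit 1794))
 (.leaf (nat_lit 0x1003225cc1a1d) (nat_lit 1794))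
) (.node (nat_lit 0x1003227cc1a0f) (.leaf (nat_lit 0x1003225cd8b33) (nat_lit 1794))
 (.node (nat_lit 0x1003227cd8b31) (.leaf (nat_lit 0x1003227cc1a0f) (nat_lit 1798))
 (.leaf (nat_lit 0x1003227cd8b31) (nat_lit 1542))
))))) (.node (nat_lit 0x10032b1ac1aa1) (.node (nat_lit 0x10032656c0a35) (.node (nat_lit 0x1003263ec0a23) (.node (nat_lit 0x1003261ad992c) (.leaf (nat_lit 0x1003261ac0a21) (nat_lit 1799))
 (.leaf (nat_lit 0x1003261ad992c) (nat_lit 1543))
) (.node (nat_lit 0x1003263ed993c) (.leaf (nat_lit 0x1003263ec0a23) (nat_lit 1538))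
 (.leaf (nat_lit 0x1003263ed993c) (nat_lit 1538))
)) (.node (nat_lit 0x10032672c0a37) (.node (nat_lit 0x10032656d991e) (.leaf (nat_lit 0x10032656c0a35) (nat_lit 1542))
 (.leaf (nat_lit 0x10032656d991e) (nat_lit 1542))
) (.node (nat_lit 0x10032672d990e) (.leaf (nat_lit 0x10032672c0a37) (nat_lit 1286))
 (.leaf (nat_lit 0x10032672d990e) (nat_lit 1286))
))) (.node (nat_lit 0x10032b4cc1a94) (.node (nat_lit 0x10032b2ac1aba) (.node (nat_lit 0x10032b1ad8f2c) (.leaf (nat_lit 0x10032b1ac1aa1) (nat_lit 1543))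
 (.leaf (nat_lit 0x10032b1ad8f2c) (nat_lit 1792))
) (.node (nat_lit 0x10032b2ad8f2f) (.leaf (nat_lit 0x10032b2ac1aba) (nat_lit 1798))
 (.leaf (nat_lit 0x10032b2ad8f2f) (nat_lit 1794))
)) (.node (nat_lit 0x10032b7cc1a8f) (.node (nat_lit 0x10032b4cd8f32) (.leaf (nat_lit 0x10032b4cc1a94) (nat_lit 1794))
 (.leaf (nat_lit 0x10032b4cd8f32) (nat_lit 1543))
) (.node (nat_lit 0x10032b7cd8f31) (.leaf (nat_lit 0x10032b7cc1a8f) (nat_lit 1793))
 (.node (nat_lit 0x10032e18c0ea9) (.leaf (nat_lit 0x10032b7cd8f31) (nat_lit 1537))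
 (.leaf (nat_lit 0x10032e18c0ea9) (nat_lit 1536))
))))))) (.node (nat_lit 0x10038206fc91b) (.node (nat_lit 0x10033e38c07bb) (.node (nat_lit 0x1003392ed873d) (.node (nat_lit 0x10032e44d9996) (.node (nat_lit 0x10032e2ed99bd) (.node (nat_lit 0x10032e2ec0eaa) (.leaf (nat_lit 0x10032e18d99a5) (nat_lit 1287))
 (.leaf (nat_lit 0x10032e2ec0eaa) (nat_lit 1538))
) (.node (nat_lit 0x10032e44c0eb4) (.leaf (nat_lit 0x10032e2ed99bd) (nat_lit 1538))
 (.leaf (nat_lit 0x10032e44c0eb4) (nat_lit 1798))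
)) (.node (nat_lit 0x10032e72d998e) (.node (nat_lit 0x10032e72c0eb7) (.leaf (nat_lit 0x10032e44d9996) (nat_lit 1538))
 (.leaf (nat_lit 0x10032e72c0eb7) (nat_lit 1281))
) (.node (nat_lit 0x1003392ec1baa) (.leaf (nat_lit 0x10032e72d998e) (nat_lit 1281))
 (.leaf (nat_lit 0x1003392ec1baa) (nat_lit 1793))
))) (.node (nat_lit 0x1003394cd8732) (.node (nat_lit 0x1003393ed873c) (.node (nat_lit 0x1003393ec1ba3) (.leaf (nat_lit 0x1003392ed873d) (nat_lit 1539))
 (.leaf (nat_lit 0x1003393ec1ba3) (nat_lit 1799))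
) (.node (nat_lit 0x1003394cc1b94) (.leaf (nat_lit 0x1003393ed873c) (nat_lit 1794))
 (.leaf (nat_lit 0x1003394cc1b94) (nat_lit 1799))
)) (.node (nat_lit 0x1003395cd8733) (.node (nat_lit 0x1003395cc1b9d) (.leaf (nat_lit 0x1003394cd8732) (nat_lit 1542))
 (.leaf (nat_lit 0x1003395cc1b9d) (nat_lit 1537))
) (.node (nat_lit 0x10033e2ac07ba) (.leaf (nat_lit 0x1003395cd8733) (nat_lit 1537))
 (.node (nat_lit 0x10033e2ad98af) (.leaf (nat_lit 0x10033e2ac07ba) (nat_lit 1794))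
 (.leaf (nat_lit 0x10033e2ad98af) (nat_lit 1799))
))))) (.node (nat_lit 0x10038106e0418) (.node (nat_lit 0x10033e56c07b5) (.node (nat_lit 0x10033e44c07b4) (.node (nat_lit 0x10033e38d98a7) (.leaf (nat_lit 0x10033e38c07bb) (nat_lit 1794))
 (.leaf (nat_lit 0x10033e38d98a7) (nat_lit 1543))
) (.node (nat_lit 0x10033e44d9896) (.leaf (nat_lit 0x10033e44c07b4) (nat_lit 1542))
 (.leaf (nat_lit 0x10033e44d9896) (nat_lit 1543))
)) (.node (nat_lit 0x10038104e0410) (.node (nat_lit 0x10033e56d989e) (.leaf (nat_lit 0x10033e56c07b5) (nat_lit 1537))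
 (.leaf (nat_lit 0x10033e56d989e) (nat_lit 1537))
) (.node (nat_lit 0x10038104fc492) (.leaf (nat_lit 0x10038104e0410) (nat_lit 1540))
 (.leaf (nat_lit 0x10038104fc492) (nat_lit 1285))
))) (.node (nat_lit 0x1003811ae0421) (.node (nat_lit 0x10038118e0429) (.node (nat_lit 0x10038106fc49b) (.leaf (nat_lit 0x10038106e0418) (nat_lit 1286))
 (.leaf (nat_lit 0x10038106fc49b) (nat_lit 1285))
) (.node (nat_lit 0x10038118fc4a5) (.leaf (nat_lit 0x10038118e0429) (nat_lit 1537))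
 (.leaf (nat_lit 0x10038118fc4a5) (nat_lit 1281))
)) (.node (nat_lit 0x10038202e0808) (.node (nat_lit 0x1003811afc4ac) (.leaf (nat_lit 0x1003811ae0421) (nat_lit 1537))
 (.leaf (nat_lit 0x1003811afc4ac) (nat_lit 1537))
) (.node (nat_lit 0x10038202fc909) (.leaf (nat_lit 0x10038202e0808) (nat_lit 1284))
 (.node (nat_lit 0x10038206e0818) (.leaf (nat_lit 0x10038202fc909) (nat_lit 1029))
 (.leaf (nat_lit 0x10038206e0818) (nat_lit 1540))
)))))) (.node (nat_lit 0x10038c46e14bc) (.node (nat_lit 0x10038304fcd92) (.node (nat_lit 0x1003822cfc934) (.node (nat_lit 0x10038228fc926) (.node (nat_lit 0x10038228e0832) (.leaf (nat_lit 0x10038206fc91b) (nat_lit 1285))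
 (.leaf (nat_lit 0x10038228e0832) (nat_lit 1542))
) (.node (nat_lit 0x1003822ce0822) (.leaf (nat_lit 0x10038228fc926) (nat_lit 1537))
 (.leaf (nat_lit 0x1003822ce0822) (nat_lit 1543))
)) (.node (nat_lit 0x10038302fcd89) (.node (nat_lit 0x10038302e0c08) (.leaf (nat_lit 0x1003822cfc934) (nat_lit 1542))
 (.leaf (nat_lit 0x10038302e0c08) (nat_lit 1028))
) (.node (nat_lit 0x10038304e0c10) (.leaf (nat_lit 0x10038302fcd89) (nat_lit 773))
 (.leaf (nat_lit 0x10038304e0c10) (nat_lit 1284))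
))) (.node (nat_lit 0x1003833cfcdb5) (.node (nat_lit 0x1003833afcdae) (.node (nat_lit 0x1003833ae0c33) (.leaf (nat_lit 0x10038304fcd92) (nat_lit 1029))
 (.leaf (nat_lit 0x1003833ae0c33) (nat_lit 1542))
) (.node (nat_lit 0x1003833ce0c2b) (.leaf (nat_lit 0x1003833afcdae) (nat_lit 1793))
 (.leaf (nat_lit 0x1003833ce0c2b) (nat_lit 1798))
)) (.node (nat_lit 0x10038c02fd289) (.node (nat_lit 0x10038c02e1488) (.leaf (nat_lit 0x1003833cfcdb5) (nat_lit 1799))
 (.leaf (nat_lit 0x10038c02e1488) (nat_lit 1031))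
) (.node (nat_lit 0x10038c1ae14a1) (.leaf (nat_lit 0x10038c02fd289) (nat_lit 1025))
 (.node (nat_lit 0x10038c1afd2ac) (.leaf (nat_lit 0x10038c1ae14a1) (nat_lit 1282))
 (.leaf (nat_lit 0x10038c1afd2ac) (nat_lit 1282))
))))) (.node (nat_lit 0x10038d4ee109c) (.node (nat_lit 0x10038d02e1088) (.node (nat_lit 0x10038c5ee1495) (.node (nat_lit 0x10038c46fd29f) (.leaf (nat_lit 0x10038c46e14bc) (nat_lit 1542))
 (.leaf (nat_lit 0x10038c46fd29f) (nat_lit 1792))
) (.node (nat_lit 0x10038c5efd2ba) (.leaf (nat_lit 0x10038c5ee1495) (nat_lit 1794))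
 (.leaf (nat_lit 0x10038c5efd2ba) (nat_lit 1798))
)) (.node (nat_lit 0x10038d18e10a9) (.node (nat_lit 0x10038d02fd609) (.leaf (nat_lit 0x10038d02e1088) (nat_lit 1024))
 (.leaf (nat_lit 0x10038d02fd609) (nat_lit 775))
) (.node (nat_lit 0x10038d18fd625) (.leaf (nat_lit 0x10038d18e10a9) (nat_lit 1282))
 (.leaf (nat_lit 0x10038d18fd625) (nat_lit 1026))
))) (.node (nat_lit 0x10039404e1910) (.node (nat_lit 0x10038d54e10bd) (.node (nat_lit 0x10038d4efd63b) (.leaf (nat_lit 0x10038d4ee109c) (nat_lit 1792))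
 (.leaf (nat_lit 0x10038d4efd63b) (nat_lit 1542))
) (.node (nat_lit 0x10038d54fd617) (.leaf (nat_lit 0x10038d54e10bd) (nat_lit 1798))
 (.leaf (nat_lit 0x10038d54fd617) (nat_lit 1798))
)) (.node (nat_lit 0x1003942ce1922) (.node (nat_lit 0x10039404fd312) (.leaf (nat_lit 0x10039404e1910) (nat_lit 1287))
 (.leaf (nat_lit 0x10039404fd312) (nat_lit 1281))
) (.node (nat_lit 0x1003942cfd334) (.leaf (nat_lit 0x1003942ce1922) (nat_lit 1538))
 (.node (nat_lit 0x10039446e193c) (.leaf (nat_lit 0x1003942cfd334) (nat_lit 1538))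
 (.leaf (nat_lit 0x10039446e193c) (nat_lit 1537))
)))))))) (.node (nat_lit 0x1003b728e0732) (.node (nat_lit 0x1003a36ee1e0e) (.node (nat_lit 0x10039d54fd717) (.node (nat_lit 0x1003964efda3b) (.node (nat_lit 0x10039604fda12) (.node (nat_lit 0x1003946efd339) (.node (nat_lit 0x1003946ee190e) (.leaf (nat_lit 0x10039446fd31f) (nat_lit 1793))
 (.leaf (nat_lit 0x1003946ee190e) (nat_lit 1794))
) (.node (nat_lit 0x10039604e1110) (.leaf (nat_lit 0x1003946efd339) (nat_lit 1542))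
 (.leaf (nat_lit 0x10039604e1110) (nat_lit 1280))
)) (.node (nat_lit 0x10039628fda26) (.node (nat_lit 0x10039628e1132) (.leaf (nat_lit 0x10039604fda12) (nat_lit 1031))
 (.leaf (nat_lit 0x10039628e1132) (nat_lit 1538))
) (.node (nat_lit 0x1003964ee111c) (.leaf (nat_lit 0x10039628fda26) (nat_lit 1282))
 (.leaf (nat_lit 0x1003964ee111c) (nat_lit 1538))
))) (.node (nat_lit 0x10039d06fd71b) (.node (nat_lit 0x10039662fda0f) (.node (nat_lit 0x10039662e113e) (.leaf (nat_lit 0x1003964efda3b) (nat_lit 1537))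
 (.leaf (nat_lit 0x10039662e113e) (nat_lit 1286))
) (.node (nat_lit 0x10039d06e1998) (.leaf (nat_lit 0x10039662fda0f) (nat_lit 1286))
 (.leaf (nat_lit 0x10039d06e1998) (nat_lit 1539))
)) (.node (nat_lit 0x10039d3cfd735) (.node (nat_lit 0x10039d3ce19ab) (.leaf (nat_lit 0x10039d06fd71b) (nat_lit 1287))
 (.leaf (nat_lit 0x10039d3ce19ab) (nat_lit 1795))
) (.node (nat_lit 0x10039d54e19bd) (.leaf (nat_lit 0x10039d3cfd735) (nat_lit 1538))
 (.leaf (nat_lit 0x10039d54e19bd) (nat_lit 1542))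
)))) (.node (nat_lit 0x10039e5efdaba) (.node (nat_lit 0x10039e06fda9b) (.node (nat_lit 0x10039d6efd739) (.node (nat_lit 0x10039d6ee198e) (.leaf (nat_lit 0x10039d54fd717) (nat_lit 1282))
 (.leaf (nat_lit 0x10039d6ee198e) (nat_lit 1280))
) (.node (nat_lit 0x10039e06e1598) (.leaf (nat_lit 0x10039d6efd739) (nat_lit 1030))
 (.leaf (nat_lit 0x10039e06e1598) (nat_lit 1543))
)) (.node (nat_lit 0x10039e3afdaae) (.node (nat_lit 0x10039e3ae15b3) (.leaf (nat_lit 0x10039e06fda9b) (nat_lit 1283))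
 (.leaf (nat_lit 0x10039e3ae15b3) (nat_lit 1794))
) (.node (nat_lit 0x10039e5ee1595) (.leaf (nat_lit 0x10039e3afdaae) (nat_lit 1539))
 (.leaf (nat_lit 0x10039e5ee1595) (nat_lit 1282))
))) (.node (nat_lit 0x1003a318fcfa5) (.node (nat_lit 0x10039e62fda8f) (.node (nat_lit 0x10039e62e15be) (.leaf (nat_lit 0x10039e5efdaba) (nat_lit 1538))
 (.leaf (nat_lit 0x10039e62e15be) (nat_lit 1030))
) (.node (nat_lit 0x1003a318e1e29) (.leaf (nat_lit 0x10039e62fda8f) (nat_lit 1280))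
 (.leaf (nat_lit 0x1003a318e1e29) (nat_lit 1536))
)) (.node (nat_lit 0x1003a328fcfa6) (.node (nat_lit 0x1003a328e1e32) (.leaf (nat_lit 0x1003a318fcfa5) (nat_lit 1287))
 (.leaf (nat_lit 0x1003a328e1e32) (nat_lit 1793))
) (.node (nat_lit 0x1003a35ee1e15) (.leaf (nat_lit 0x1003a328fcfa6) (nat_lit 1538))
 (.node (nat_lit 0x1003a35efcfba) (.leaf (nat_lit 0x1003a35ee1e15) (nat_lit 1794))
 (.leaf (nat_lit 0x1003a35efcfba) (nat_lit 1538))
)))))) (.node (nat_lit 0x1003aa6efcbb9) (.node (nat_lit 0x1003a762e0e3e) (.node (nat_lit 0x1003a72ce0e22) (.node (nat_lit 0x1003a71ae0e21) (.node (nat_lit 0x1003a36efcfb9) (.leaf (nat_lit 0x1003a36ee1e0e) (nat_lit 1536))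
 (.leaf (nat_lit 0x1003a36efcfb9) (nat_lit 1286))
) (.node (nat_lit 0x1003a71afddac) (.leaf (nat_lit 0x1003a71ae0e21) (nat_lit 1543))
 (.leaf (nat_lit 0x1003a71afddac) (nat_lit 1543))
)) (.node (nat_lit 0x1003a754e0e3d) (.node (nat_lit 0x1003a72cfddb4) (.leaf (nat_lit 0x1003a72ce0e22) (nat_lit 1538))
 (.leaf (nat_lit 0x1003a72cfddb4) (nat_lit 1794))
) (.node (nat_lit 0x1003a754fdd97) (.leaf (nat_lit 0x1003a754e0e3d) (nat_lit 1794))
 (.leaf (nat_lit 0x1003a754fdd97) (nat_lit 1798))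
))) (.node (nat_lit 0x1003aa3ae1eb3) (.node (nat_lit 0x1003aa1ae1ea1) (.node (nat_lit 0x1003a762fdd8f) (.leaf (nat_lit 0x1003a762e0e3e) (nat_lit 1286))
 (.leaf (nat_lit 0x1003a762fdd8f) (nat_lit 1536))
) (.node (nat_lit 0x1003aa1afcbac) (.leaf (nat_lit 0x1003aa1ae1ea1) (nat_lit 1799))
 (.leaf (nat_lit 0x1003aa1afcbac) (nat_lit 1543))
)) (.node (nat_lit 0x1003aa4ee1e9c) (.node (nat_lit 0x1003aa3afcbae) (.leaf (nat_lit 0x1003aa3ae1eb3) (nat_lit 1799))
 (.leaf (nat_lit 0x1003aa3afcbae) (nat_lit 1538))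
) (.node (nat_lit 0x1003aa4efcbbb) (.leaf (nat_lit 0x1003aa4ee1e9c) (nat_lit 1792))
 (.node (nat_lit 0x1003aa6ee1e8e) (.leaf (nat_lit 0x1003aa4efcbbb) (nat_lit 1542))
 (.leaf (nat_lit 0x1003aa6ee1e8e) (nat_lit 1537))
))))) (.node (nat_lit 0x1003af62fdd0f) (.node (nat_lit 0x1003af3cfdd35) (.node (nat_lit 0x1003af18fdd25) (.node (nat_lit 0x1003af18e0aa9) (.leaf (nat_lit 0x1003aa6efcbb9) (nat_lit 1281))
 (.leaf (nat_lit 0x1003af18e0aa9) (nat_lit 1543))
) (.node (nat_lit 0x1003af3ce0aab) (.leaf (nat_lit 0x1003af18fdd25) (nat_lit 1543))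
 (.leaf (nat_lit 0x1003af3ce0aab) (nat_lit 1538))
)) (.node (nat_lit 0x1003af46fdd1f) (.node (nat_lit 0x1003af46e0abc) (.leaf (nat_lit 0x1003af3cfdd35) (nat_lit 1794))
 (.leaf (nat_lit 0x1003af46e0abc) (nat_lit 1542))
) (.node (nat_lit 0x1003af62e0abe) (.leaf (nat_lit 0x1003af46fdd1f) (nat_lit 1792))
 (.leaf (nat_lit 0x1003af62e0abe) (nat_lit 1281))
))) (.node (nat_lit 0x1003b13cfc7b5) (.node (nat_lit 0x1003b12cfc7b4) (.node (nat_lit 0x1003b12ce1f22) (.leaf (nat_lit 0x1003af62fdd0f) (nat_lit 1537))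
 (.leaf (nat_lit 0x1003b12ce1f22) (nat_lit 1793))
) (.node (nat_lit 0x1003b13ce1f2b) (.leaf (nat_lit 0x1003b12cfc7b4) (nat_lit 1538))
 (.leaf (nat_lit 0x1003b13ce1f2b) (nat_lit 1799))
)) (.node (nat_lit 0x1003b14efc7bb) (.node (nat_lit 0x1003b14ee1f1c) (.leaf (nat_lit 0x1003b13cfc7b5) (nat_lit 1795))
 (.leaf (nat_lit 0x1003b14ee1f1c) (nat_lit 1536))
) (.node (nat_lit 0x1003b15ee1f15) (.leaf (nat_lit 0x1003b14efc7bb) (nat_lit 1286))
 (.node (nat_lit 0x1003b15efc7ba) (.leaf (nat_lit 0x1003b15ee1f15) (nat_lit 1537))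
 (.leaf (nat_lit 0x1003b15efc7ba) (nat_lit 1793))
))))))) (.node (nat_lit 0x10050e1e4dbbe) (.node (nat_lit 0x10050c0265488) (.node (nat_lit 0x100501184c4a5) (.node (nat_lit 0x1003b746e073c) (.node (nat_lit 0x1003b73ae0733) (.node (nat_lit 0x1003b728fdca6) (.leaf (nat_lit 0x1003b728e0732) (nat_lit 1538))
 (.leaf (nat_lit 0x1003b728fdca6) (nat_lit 1794))
) (.node (nat_lit 0x1003b73afdcae) (.leaf (nat_lit 0x1003b73ae0733) (nat_lit 1792))
 (.leaf (nat_lit 0x1003b73afdcae) (nat_lit 1543))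
)) (.node (nat_lit 0x1003b754e073d) (.node (nat_lit 0x1003b746fdc9f) (.leaf (nat_lit 0x1003b746e073c) (nat_lit 1286))
 (.leaf (nat_lit 0x1003b746fdc9f) (nat_lit 1536))
) (.node (nat_lit 0x1003b754fdc97) (.leaf (nat_lit 0x1003b754e073d) (nat_lit 1793))
 (.leaf (nat_lit 0x1003b754fdc97) (nat_lit 1537))
))) (.node (nat_lit 0x1005011c4c4b7) (.node (nat_lit 0x1005011a4c4ac) (.node (nat_lit 0x1005011864429) (.leaf (nat_lit 0x100501184c4a5) (nat_lit 1537))
 (.leaf (nat_lit 0x1005011864429) (nat_lit 1542))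
) (.node (nat_lit 0x1005011a64421) (.leaf (nat_lit 0x1005011a4c4ac) (nat_lit 1537))
 (.leaf (nat_lit 0x1005011a64421) (nat_lit 1537))
)) (.node (nat_lit 0x1005011e4c4be) (.node (nat_lit 0x1005011c64439) (.leaf (nat_lit 0x1005011c4c4b7) (nat_lit 1283))
 (.leaf (nat_lit 0x1005011c64439) (nat_lit 1537))
) (.node (nat_lit 0x1005011e64431) (.leaf (nat_lit 0x1005011e4c4be) (nat_lit 1281))
 (.node (nat_lit 0x10050c024d289) (.leaf (nat_lit 0x1005011e64431) (nat_lit 1281))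
 (.leaf (nat_lit 0x10050c024d289) (nat_lit 1030))
))))) (.node (nat_lit 0x10050d0265088) (.node (nat_lit 0x10050c44654b4) (.node (nat_lit 0x10050c1a654a1) (.node (nat_lit 0x10050c1a4d2ac) (.leaf (nat_lit 0x10050c0265488) (nat_lit 1030))
 (.leaf (nat_lit 0x10050c1a4d2ac) (nat_lit 1282))
) (.node (nat_lit 0x10050c444d296) (.leaf (nat_lit 0x10050c1a654a1) (nat_lit 1282))
 (.leaf (nat_lit 0x10050c444d296) (nat_lit 1792))
)) (.node (nat_lit 0x10050c5c6549d) (.node (nat_lit 0x10050c5c4d2b3) (.leaf (nat_lit 0x10050c44654b4) (nat_lit 1543))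
 (.leaf (nat_lit 0x10050c5c4d2b3) (nat_lit 1793))
) (.node (nat_lit 0x10050d024d609) (.leaf (nat_lit 0x10050c5c6549d) (nat_lit 1542))
 (.leaf (nat_lit 0x10050d024d609) (nat_lit 1030))
))) (.node (nat_lit 0x10050d4e6509c) (.node (nat_lit 0x10050d18650a9) (.node (nat_lit 0x10050d184d625) (.leaf (nat_lit 0x10050d0265088) (nat_lit 1281))
 (.leaf (nat_lit 0x10050d184d625) (nat_lit 1282))
) (.node (nat_lit 0x10050d4e4d63b) (.leaf (nat_lit 0x10050d18650a9) (nat_lit 1538))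
 (.leaf (nat_lit 0x10050d4e4d63b) (nat_lit 1287))
)) (.node (nat_lit 0x10050d54650bd) (.node (nat_lit 0x10050d544d617) (.leaf (nat_lit 0x10050d4e6509c) (nat_lit 1536))
 (.leaf (nat_lit 0x10050d544d617) (nat_lit 1543))
) (.node (nat_lit 0x10050e024db89) (.leaf (nat_lit 0x10050d54650bd) (nat_lit 1793))
 (.node (nat_lit 0x10050e0265c88) (.leaf (nat_lit 0x10050e024db89) (nat_lit 774))
 (.leaf (nat_lit 0x10050e0265c88) (nat_lit 774))
)))))) (.node (nat_lit 0x100510546493d) (.node (nat_lit 0x10050f1c4df37) (.node (nat_lit 0x10050e784dba3) (.node (nat_lit 0x10050e644db94) (.node (nat_lit 0x10050e1e65cb1) (.leaf (nat_lit 0x10050e1e4dbbe) (nat_lit 1026))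
 (.leaf (nat_lit 0x10050e1e65cb1) (nat_lit 1026))
) (.node (nat_lit 0x10050e6465ca6) (.leaf (nat_lit 0x10050e644db94) (nat_lit 1793))
 (.leaf (nat_lit 0x10050e6465ca6) (nat_lit 1799))
)) (.node (nat_lit 0x10050f024df09) (.node (nat_lit 0x10050e7865c9f) (.leaf (nat_lit 0x10050e784dba3) (nat_lit 1799))
 (.leaf (nat_lit 0x10050e7865c9f) (nat_lit 1798))
) (.node (nat_lit 0x10050f0265888) (.leaf (nat_lit 0x10050f024df09) (nat_lit 1025))
 (.leaf (nat_lit 0x10050f0265888) (nat_lit 1025))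
))) (.node (nat_lit 0x10050f744df15) (.node (nat_lit 0x10050f6a4df2b) (.node (nat_lit 0x10050f1c658b9) (.leaf (nat_lit 0x10050f1c4df37) (nat_lit 1282))
 (.leaf (nat_lit 0x10050f1c658b9) (nat_lit 1282))
) (.node (nat_lit 0x10050f6a6589e) (.leaf (nat_lit 0x10050f6a4df2b) (nat_lit 1543))
 (.leaf (nat_lit 0x10050f6a6589e) (nat_lit 1798))
)) (.node (nat_lit 0x100510444c116) (.node (nat_lit 0x10050f74658af) (.leaf (nat_lit 0x10050f744df15) (nat_lit 1799))
 (.leaf (nat_lit 0x10050f74658af) (nat_lit 1799))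
) (.node (nat_lit 0x1005104464934) (.leaf (nat_lit 0x100510444c116) (nat_lit 1793))
 (.node (nat_lit 0x100510544c117) (.leaf (nat_lit 0x1005104464934) (nat_lit 1793))
 (.leaf (nat_lit 0x100510544c117) (nat_lit 1539))
))))) (.node (nat_lit 0x10051b5c6419d) (.node (nat_lit 0x100510746492f) (.node (nat_lit 0x1005106464926) (.node (nat_lit 0x100510644c114) (.leaf (nat_lit 0x100510546493d) (nat_lit 1793))
 (.leaf (nat_lit 0x100510644c114) (nat_lit 1793))
) (.node (nat_lit 0x100510744c115) (.leaf (nat_lit 0x1005106464926) (nat_lit 1798))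
 (.leaf (nat_lit 0x100510744c115) (nat_lit 1537))
)) (.node (nat_lit 0x10051b4e6419c) (.node (nat_lit 0x10051b4e4cc3b) (.leaf (nat_lit 0x100510746492f) (nat_lit 1537))
 (.leaf (nat_lit 0x10051b4e4cc3b) (nat_lit 1537))
) (.node (nat_lit 0x10051b5c4cc33) (.leaf (nat_lit 0x10051b4e6419c) (nat_lit 1793))
 (.leaf (nat_lit 0x10051b5c4cc33) (nat_lit 1537))
))) (.node (nat_lit 0x10051b786419f) (.node (nat_lit 0x10051b6a6419e) (.node (nat_lit 0x10051b6a4cc2b) (.leaf (nat_lit 0x10051b5c6419d) (nat_lit 1795))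
 (.leaf (nat_lit 0x10051b6a4cc2b) (nat_lit 1281))
) (.node (nat_lit 0x10051b784cc23) (.leaf (nat_lit 0x10051b6a6419e) (nat_lit 1537))
 (.leaf (nat_lit 0x10051b784cc23) (nat_lit 1793))
)) (.node (nat_lit 0x1005221865a29) (.node (nat_lit 0x100522184cb25) (.leaf (nat_lit 0x10051b786419f) (nat_lit 1542))
 (.leaf (nat_lit 0x100522184cb25) (nat_lit 1287))
) (.node (nat_lit 0x100522204cb02) (.leaf (nat_lit 0x1005221865a29) (nat_lit 1536))
 (.node (nat_lit 0x1005222065a12) (.leaf (nat_lit 0x100522204cb02) (nat_lit 1286))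
 (.leaf (nat_lit 0x1005222065a12) (nat_lit 1286))
)))))))))) (.node (nat_lit 0x1008b12c2c7b4) (.node (nat_lit 0x1005ab3068f03) (.node (nat_lit 0x1005811e684be) (.node (nat_lit 0x1005324465334) (.node (nat_lit 0x10052a4e4cbbb) (.node (nat_lit 0x100527544dd97) (.node (nat_lit 0x1005271a4ddac) (.node (nat_lit 0x100522644cb14) (.node (nat_lit 0x1005225c65a1d) (.leaf (nat_lit 0x1005225c4cb33) (nat_lit 1538))
 (.leaf (nat_lit 0x1005225c65a1d) (nat_lit 1794))
) (.node (nat_lit 0x1005226465a26) (.leaf (nat_lit 0x100522644cb14) (nat_lit 1538))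
 (.leaf (nat_lit 0x1005226465a26) (nat_lit 1538))
)) (.node (nat_lit 0x100527364dd98) (.node (nat_lit 0x1005271a64e21) (.leaf (nat_lit 0x1005271a4ddac) (nat_lit 1536))
 (.leaf (nat_lit 0x1005271a64e21) (nat_lit 1287))
) (.node (nat_lit 0x1005273664e03) (.leaf (nat_lit 0x100527364dd98) (nat_lit 1281))
 (.leaf (nat_lit 0x1005273664e03) (nat_lit 1542))
))) (.node (nat_lit 0x10052a1a4cbac) (.node (nat_lit 0x100527784dda3) (.node (nat_lit 0x1005275464e3d) (.leaf (nat_lit 0x100527544dd97) (nat_lit 1794))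
 (.leaf (nat_lit 0x1005275464e3d) (nat_lit 1538))
) (.node (nat_lit 0x1005277864e1f) (.leaf (nat_lit 0x100527784dda3) (nat_lit 1538))
 (.leaf (nat_lit 0x1005277864e1f) (nat_lit 1794))
)) (.node (nat_lit 0x10052a204cb82) (.node (nat_lit 0x10052a1a65ea1) (.leaf (nat_lit 0x10052a1a4cbac) (nat_lit 1287))
 (.leaf (nat_lit 0x10052a1a65ea1) (nat_lit 1537))
) (.node (nat_lit 0x10052a2065e92) (.leaf (nat_lit 0x10052a204cb82) (nat_lit 1030))
 (.leaf (nat_lit 0x10052a2065e92) (nat_lit 1030))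
)))) (.node (nat_lit 0x10052e444d996) (.node (nat_lit 0x10052e184d9a5) (.node (nat_lit 0x10052a744cb95) (.node (nat_lit 0x10052a4e65e9c) (.leaf (nat_lit 0x10052a4e4cbbb) (nat_lit 1537))
 (.leaf (nat_lit 0x10052a4e65e9c) (nat_lit 1543))
) (.node (nat_lit 0x10052a7465eaf) (.leaf (nat_lit 0x10052a744cb95) (nat_lit 1282))
 (.leaf (nat_lit 0x10052a7465eaf) (nat_lit 1282))
)) (.node (nat_lit 0x10052e364d998) (.node (nat_lit 0x10052e1864ea9) (.leaf (nat_lit 0x10052e184d9a5) (nat_lit 1537))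
 (.leaf (nat_lit 0x10052e1864ea9) (nat_lit 1543))
) (.node (nat_lit 0x10052e3664e83) (.leaf (nat_lit 0x10052e364d998) (nat_lit 774))
 (.leaf (nat_lit 0x10052e3664e83) (nat_lit 1024))
))) (.node (nat_lit 0x1005321c4ca37) (.node (nat_lit 0x10052e6a4d9ab) (.node (nat_lit 0x10052e4464eb4) (.leaf (nat_lit 0x10052e444d996) (nat_lit 1543))
 (.leaf (nat_lit 0x10052e4464eb4) (nat_lit 1793))
) (.node (nat_lit 0x10052e6a64e9e) (.leaf (nat_lit 0x10052e6a4d9ab) (nat_lit 1026))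
 (.leaf (nat_lit 0x10052e6a64e9e) (nat_lit 1282))
)) (.node (nat_lit 0x100532204ca02) (.node (nat_lit 0x1005321c65339) (.leaf (nat_lit 0x1005321c4ca37) (nat_lit 1543))
 (.leaf (nat_lit 0x1005321c65339) (nat_lit 1543))
) (.node (nat_lit 0x1005322065312) (.leaf (nat_lit 0x100532204ca02) (nat_lit 1286))
 (.node (nat_lit 0x100532444ca16) (.leaf (nat_lit 0x1005322065312) (nat_lit 1286))
 (.leaf (nat_lit 0x100532444ca16) (nat_lit 1538))
)))))) (.node (nat_lit 0x10053a6a4caab) (.node (nat_lit 0x1005355c64f1d) (.node (nat_lit 0x1005351e64f31) (.node (nat_lit 0x100532786531f) (.node (nat_lit 0x100532784ca23) (.leaf (nat_lit 0x1005324465334) (nat_lit 1538))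
 (.leaf (nat_lit 0x100532784ca23) (nat_lit 1794))
) (.node (nat_lit 0x1005351e4d5be) (.leaf (nat_lit 0x100532786531f) (nat_lit 1799))
 (.leaf (nat_lit 0x1005351e4d5be) (nat_lit 1543))
)) (.node (nat_lit 0x1005353664f03) (.node (nat_lit 0x100535364d598) (.leaf (nat_lit 0x1005351e64f31) (nat_lit 1543))
 (.leaf (nat_lit 0x100535364d598) (nat_lit 1025))
) (.node (nat_lit 0x1005355c4d5b3) (.leaf (nat_lit 0x1005353664f03) (nat_lit 1281))
 (.leaf (nat_lit 0x1005355c4d5b3) (nat_lit 1282))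
))) (.node (nat_lit 0x10053a1e657b1) (.node (nat_lit 0x1005357464f2f) (.node (nat_lit 0x100535744d595) (.leaf (nat_lit 0x1005355c64f1d) (nat_lit 1538))
 (.leaf (nat_lit 0x100535744d595) (nat_lit 1799))
) (.node (nat_lit 0x10053a1e4cabe) (.leaf (nat_lit 0x1005357464f2f) (nat_lit 1794))
 (.leaf (nat_lit 0x10053a1e4cabe) (nat_lit 1543))
)) (.node (nat_lit 0x10053a2065792) (.node (nat_lit 0x10053a204ca82) (.leaf (nat_lit 0x10053a1e657b1) (nat_lit 1793))
 (.leaf (nat_lit 0x10053a204ca82) (nat_lit 1281))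
) (.node (nat_lit 0x10053a544ca97) (.leaf (nat_lit 0x10053a2065792) (nat_lit 1281))
 (.node (nat_lit 0x10053a54657bd) (.leaf (nat_lit 0x10053a544ca97) (nat_lit 1538))
 (.leaf (nat_lit 0x10053a54657bd) (nat_lit 1538))
))))) (.node (nat_lit 0x10053c644d194) (.node (nat_lit 0x10053c364d198) (.node (nat_lit 0x10053c1c4d1b7) (.node (nat_lit 0x10053a6a6579e) (.leaf (nat_lit 0x10053a6a4caab) (nat_lit 1794))
 (.leaf (nat_lit 0x10053a6a6579e) (nat_lit 1799))
) (.node (nat_lit 0x10053c1c64fb9) (.leaf (nat_lit 0x10053c1c4d1b7) (nat_lit 1287))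
 (.leaf (nat_lit 0x10053c1c64fb9) (nat_lit 1536))
)) (.node (nat_lit 0x10053c4e4d1bb) (.node (nat_lit 0x10053c3664f83) (.leaf (nat_lit 0x10053c364d198) (nat_lit 1030))
 (.leaf (nat_lit 0x10053c3664f83) (nat_lit 1280))
) (.node (nat_lit 0x10053c4e64f9c) (.leaf (nat_lit 0x10053c4e4d1bb) (nat_lit 1282))
 (.leaf (nat_lit 0x10053c4e64f9c) (nat_lit 1538))
))) (.node (nat_lit 0x1005811a44421) (.node (nat_lit 0x1005811844429) (.node (nat_lit 0x10053c6464fa6) (.leaf (nat_lit 0x10053c644d194) (nat_lit 1543))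
 (.leaf (nat_lit 0x10053c6464fa6) (nat_lit 1792))
) (.node (nat_lit 0x10058118684a5) (.leaf (nat_lit 0x1005811844429) (nat_lit 1537))
 (.leaf (nat_lit 0x10058118684a5) (nat_lit 1281))
)) (.node (nat_lit 0x1005811c44439) (.node (nat_lit 0x1005811a684ac) (.leaf (nat_lit 0x1005811a44421) (nat_lit 1793))
 (.leaf (nat_lit 0x1005811a684ac) (nat_lit 1537))
) (.node (nat_lit 0x1005811c684b7) (.leaf (nat_lit 0x1005811c44439) (nat_lit 1281))
 (.node (nat_lit 0x1005811e44431) (.leaf (nat_lit 0x1005811c684b7) (nat_lit 1025))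
 (.leaf (nat_lit 0x1005811e44431) (nat_lit 1539))
))))))) (.node (nat_lit 0x1005924c68832) (.node (nat_lit 0x10058e0245c88) (.node (nat_lit 0x10058c5e692ba) (.node (nat_lit 0x10058c1a692ac) (.node (nat_lit 0x10058c0269289) (.node (nat_lit 0x10058c0245488) (.leaf (nat_lit 0x1005811e684be) (nat_lit 1281))
 (.leaf (nat_lit 0x10058c0245488) (nat_lit 1286))
) (.node (nat_lit 0x10058c1a454a1) (.leaf (nat_lit 0x10058c0269289) (nat_lit 1025))
 (.leaf (nat_lit 0x10058c1a454a1) (nat_lit 1538))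
)) (.node (nat_lit 0x10058c466929f) (.node (nat_lit 0x10058c46454bc) (.leaf (nat_lit 0x10058c1a692ac) (nat_lit 1282))
 (.leaf (nat_lit 0x10058c46454bc) (nat_lit 1287))
) (.node (nat_lit 0x10058c5e45495) (.leaf (nat_lit 0x10058c466929f) (nat_lit 1536))
 (.leaf (nat_lit 0x10058c5e45495) (nat_lit 1538))
))) (.node (nat_lit 0x10058d1869625) (.node (nat_lit 0x10058d0269609) (.node (nat_lit 0x10058d0245088) (.leaf (nat_lit 0x10058c5e692ba) (nat_lit 1537))
 (.leaf (nat_lit 0x10058d0245088) (nat_lit 1024))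
) (.node (nat_lit 0x10058d18450a9) (.leaf (nat_lit 0x10058d0269609) (nat_lit 774))
 (.leaf (nat_lit 0x10058d18450a9) (nat_lit 1282))
)) (.node (nat_lit 0x10058d4c69632) (.node (nat_lit 0x10058d4c45094) (.leaf (nat_lit 0x10058d1869625) (nat_lit 1026))
 (.leaf (nat_lit 0x10058d4c45094) (nat_lit 1798))
) (.node (nat_lit 0x10058d56450b5) (.leaf (nat_lit 0x10058d4c69632) (nat_lit 1543))
 (.node (nat_lit 0x10058d566961e) (.leaf (nat_lit 0x10058d56450b5) (nat_lit 1536))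
 (.leaf (nat_lit 0x10058d566961e) (nat_lit 1287))
))))) (.node (nat_lit 0x10058f0245888) (.node (nat_lit 0x10058e6645cae) (.node (nat_lit 0x10058e1e45cb1) (.node (nat_lit 0x10058e0269b89) (.leaf (nat_lit 0x10058e0245c88) (nat_lit 1025))
 (.leaf (nat_lit 0x10058e0269b89) (nat_lit 769))
) (.node (nat_lit 0x10058e1e69bbe) (.leaf (nat_lit 0x10058e1e45cb1) (nat_lit 1282))
 (.leaf (nat_lit 0x10058e1e69bbe) (nat_lit 1026))
)) (.node (nat_lit 0x10058e7a45c97) (.node (nat_lit 0x10058e6669b9d) (.leaf (nat_lit 0x10058e6645cae) (nat_lit 1543))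
 (.leaf (nat_lit 0x10058e6669b9d) (nat_lit 1543))
) (.node (nat_lit 0x10058e7a69baa) (.leaf (nat_lit 0x10058e7a45c97) (nat_lit 1794))
 (.leaf (nat_lit 0x10058e7a69baa) (nat_lit 1799))
))) (.node (nat_lit 0x10058f6845896) (.node (nat_lit 0x10058f1c458b9) (.node (nat_lit 0x10058f0269f09) (.leaf (nat_lit 0x10058f0245888) (nat_lit 768))
 (.leaf (nat_lit 0x10058f0269f09) (nat_lit 518))
) (.node (nat_lit 0x10058f1c69f37) (.leaf (nat_lit 0x10058f1c458b9) (nat_lit 1026))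
 (.leaf (nat_lit 0x10058f1c69f37) (nat_lit 770))
)) (.node (nat_lit 0x10058f76458a7) (.node (nat_lit 0x10058f6869f22) (.leaf (nat_lit 0x10058f6845896) (nat_lit 1794))
 (.leaf (nat_lit 0x10058f6869f22) (nat_lit 1794))
) (.node (nat_lit 0x10058f7669f1c) (.leaf (nat_lit 0x10058f76458a7) (nat_lit 1543))
 (.node (nat_lit 0x1005924c44114) (.leaf (nat_lit 0x10058f7669f1c) (nat_lit 1537))
 (.leaf (nat_lit 0x1005924c44114) (nat_lit 1798))
)))))) (.node (nat_lit 0x1005a33045e1b) (.node (nat_lit 0x100598466819f) (.node (nat_lit 0x1005926868822) (.node (nat_lit 0x1005925e6883a) (.node (nat_lit 0x1005925e44115) (.leaf (nat_lit 0x1005924c68832) (nat_lit 1793))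
 (.leaf (nat_lit 0x1005925e44115) (nat_lit 1798))
) (.node (nat_lit 0x1005926844116) (.leaf (nat_lit 0x1005925e6883a) (nat_lit 1793))
 (.leaf (nat_lit 0x1005926844116) (nat_lit 1798))
)) (.node (nat_lit 0x1005927a6882a) (.node (nat_lit 0x1005927a44117) (.leaf (nat_lit 0x1005926868822) (nat_lit 1799))
 (.leaf (nat_lit 0x1005927a44117) (nat_lit 1542))
) (.node (nat_lit 0x1005984644dbc) (.leaf (nat_lit 0x1005927a6882a) (nat_lit 1537))
 (.leaf (nat_lit 0x1005984644dbc) (nat_lit 1537))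
))) (.node (nat_lit 0x100598666819d) (.node (nat_lit 0x100598566819e) (.node (nat_lit 0x1005985644db5) (.leaf (nat_lit 0x100598466819f) (nat_lit 1537))
 (.leaf (nat_lit 0x1005985644db5) (nat_lit 1537))
) (.node (nat_lit 0x1005986644dae) (.leaf (nat_lit 0x100598566819e) (nat_lit 1283))
 (.leaf (nat_lit 0x1005986644dae) (nat_lit 1281))
)) (.node (nat_lit 0x100598766819c) (.node (nat_lit 0x1005987644da7) (.leaf (nat_lit 0x100598666819d) (nat_lit 1281))
 (.leaf (nat_lit 0x1005987644da7) (nat_lit 1542))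
) (.node (nat_lit 0x1005a31845e29) (.leaf (nat_lit 0x100598766819c) (nat_lit 1537))
 (.node (nat_lit 0x1005a31868fa5) (.leaf (nat_lit 0x1005a31845e29) (nat_lit 1280))
 (.leaf (nat_lit 0x1005a31868fa5) (nat_lit 1031))
))))) (.node (nat_lit 0x1005a62444a02) (.node (nat_lit 0x1005a37645e27) (.node (nat_lit 0x1005a35e45e15) (.node (nat_lit 0x1005a33068f83) (.leaf (nat_lit 0x1005a33045e1b) (nat_lit 1281))
 (.leaf (nat_lit 0x1005a33068f83) (nat_lit 1030))
) (.node (nat_lit 0x1005a35e68fba) (.leaf (nat_lit 0x1005a35e45e15) (nat_lit 1538))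
 (.leaf (nat_lit 0x1005a35e68fba) (nat_lit 1282))
)) (.node (nat_lit 0x1005a61a44a21) (.node (nat_lit 0x1005a37668f9c) (.leaf (nat_lit 0x1005a37645e27) (nat_lit 1538))
 (.leaf (nat_lit 0x1005a37668f9c) (nat_lit 1282))
) (.node (nat_lit 0x1005a61a6992c) (.leaf (nat_lit 0x1005a61a44a21) (nat_lit 1543))
 (.leaf (nat_lit 0x1005a61a6992c) (nat_lit 1792))
))) (.node (nat_lit 0x1005a66844a16) (.node (nat_lit 0x1005a65644a35) (.node (nat_lit 0x1005a62469910) (.leaf (nat_lit 0x1005a62444a02) (nat_lit 1798))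
 (.leaf (nat_lit 0x1005a62469910) (nat_lit 1537))
) (.node (nat_lit 0x1005a6566991e) (.leaf (nat_lit 0x1005a65644a35) (nat_lit 1543))
 (.leaf (nat_lit 0x1005a6566991e) (nat_lit 1543))
)) (.node (nat_lit 0x1005ab1a45aa1) (.node (nat_lit 0x1005a66869922) (.leaf (nat_lit 0x1005a66844a16) (nat_lit 1542))
 (.leaf (nat_lit 0x1005a66869922) (nat_lit 1542))
) (.node (nat_lit 0x1005ab1a68f2c) (.leaf (nat_lit 0x1005ab1a45aa1) (nat_lit 1793))
 (.node (nat_lit 0x1005ab3045a9b) (.leaf (nat_lit 0x1005ab1a68f2c) (nat_lit 1543))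
 (.leaf (nat_lit 0x1005ab3045a9b) (nat_lit 774))
)))))))) (.node (nat_lit 0x1008946a2d32b) (.node (nat_lit 0x1005bb46453bc) (.node (nat_lit 0x1005b33068e83) (.node (nat_lit 0x1005af2469d10) (.node (nat_lit 0x1005ab6668f1d) (.node (nat_lit 0x1005ab4c68f32) (.node (nat_lit 0x1005ab4c45a94) (.leaf (nat_lit 0x1005ab3068f03) (nat_lit 774))
 (.leaf (nat_lit 0x1005ab4c45a94) (nat_lit 1542))
) (.node (nat_lit 0x1005ab6645aae) (.leaf (nat_lit 0x1005ab4c68f32) (nat_lit 1542))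
 (.leaf (nat_lit 0x1005ab6645aae) (nat_lit 1026))
)) (.node (nat_lit 0x1005af1869d25) (.node (nat_lit 0x1005af1844aa9) (.leaf (nat_lit 0x1005ab6668f1d) (nat_lit 1026))
 (.leaf (nat_lit 0x1005af1844aa9) (nat_lit 1287))
) (.node (nat_lit 0x1005af2444a82) (.leaf (nat_lit 0x1005af1869d25) (nat_lit 1281))
 (.leaf (nat_lit 0x1005af2444a82) (nat_lit 1280))
))) (.node (nat_lit 0x1005af7a69d2a) (.node (nat_lit 0x1005af4669d1f) (.node (nat_lit 0x1005af4644abc) (.leaf (nat_lit 0x1005af2469d10) (nat_lit 1030))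
 (.leaf (nat_lit 0x1005af4644abc) (nat_lit 1537))
) (.node (nat_lit 0x1005af7a44a97) (.leaf (nat_lit 0x1005af4669d1f) (nat_lit 1287))
 (.leaf (nat_lit 0x1005af7a44a97) (nat_lit 1538))
)) (.node (nat_lit 0x1005b31c68eb7) (.node (nat_lit 0x1005b31c45739) (.leaf (nat_lit 0x1005af7a69d2a) (nat_lit 1282))
 (.leaf (nat_lit 0x1005b31c45739) (nat_lit 1536))
) (.node (nat_lit 0x1005b3304571b) (.leaf (nat_lit 0x1005b31c68eb7) (nat_lit 1287))
 (.leaf (nat_lit 0x1005b3304571b) (nat_lit 1025))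
)))) (.node (nat_lit 0x1005b42469110) (.node (nat_lit 0x1005b37a68eaa) (.node (nat_lit 0x1005b35668e9e) (.node (nat_lit 0x1005b35645735) (.leaf (nat_lit 0x1005b33068e83) (nat_lit 1025))
 (.leaf (nat_lit 0x1005b35645735) (nat_lit 1282))
) (.node (nat_lit 0x1005b37a45717) (.leaf (nat_lit 0x1005b35668e9e) (nat_lit 1282))
 (.leaf (nat_lit 0x1005b37a45717) (nat_lit 1798))
)) (.node (nat_lit 0x1005b41e6913e) (.node (nat_lit 0x1005b41e44b31) (.leaf (nat_lit 0x1005b37a68eaa) (nat_lit 1538))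
 (.leaf (nat_lit 0x1005b41e44b31) (nat_lit 1799))
) (.node (nat_lit 0x1005b42444b02) (.leaf (nat_lit 0x1005b41e6913e) (nat_lit 1543))
 (.leaf (nat_lit 0x1005b42444b02) (nat_lit 1536))
))) (.node (nat_lit 0x1005b4766911c) (.node (nat_lit 0x1005b44c69132) (.node (nat_lit 0x1005b44c44b14) (.leaf (nat_lit 0x1005b42469110) (nat_lit 1286))
 (.leaf (nat_lit 0x1005b44c44b14) (nat_lit 1794))
) (.node (nat_lit 0x1005b47644b27) (.leaf (nat_lit 0x1005b44c69132) (nat_lit 1538))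
 (.leaf (nat_lit 0x1005b47644b27) (nat_lit 1536))
)) (.node (nat_lit 0x1005bb1e68e3e) (.node (nat_lit 0x1005bb1e453b1) (.leaf (nat_lit 0x1005b4766911c) (nat_lit 1287))
 (.leaf (nat_lit 0x1005bb1e453b1) (nat_lit 1543))
) (.node (nat_lit 0x1005bb304539b) (.leaf (nat_lit 0x1005bb1e68e3e) (nat_lit 1543))
 (.node (nat_lit 0x1005bb3068e03) (.leaf (nat_lit 0x1005bb304539b) (nat_lit 1030))
 (.leaf (nat_lit 0x1005bb3068e03) (nat_lit 1030))
)))))) (.node (nat_lit 0x1008822c68822) (.node (nat_lit 0x1005bd5e44b95) (.node (nat_lit 0x1005bd1c44bb9) (.node (nat_lit 0x1005bb6845396) (.node (nat_lit 0x1005bb4668e1f) (.leaf (nat_lit 0x1005bb46453bc) (nat_lit 1282))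
 (.leaf (nat_lit 0x1005bb4668e1f) (nat_lit 1282))
) (.node (nat_lit 0x1005bb6868e22) (.leaf (nat_lit 0x1005bb6845396) (nat_lit 1794))
 (.leaf (nat_lit 0x1005bb6868e22) (nat_lit 1798))
)) (.node (nat_lit 0x1005bd2444b82) (.node (nat_lit 0x1005bd1c69537) (.leaf (nat_lit 0x1005bd1c44bb9) (nat_lit 1543))
 (.leaf (nat_lit 0x1005bd1c69537) (nat_lit 1537))
) (.node (nat_lit 0x1005bd2469510) (.leaf (nat_lit 0x1005bd2444b82) (nat_lit 1537))
 (.leaf (nat_lit 0x1005bd2469510) (nat_lit 1281))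
))) (.node (nat_lit 0x100882282c926) (.node (nat_lit 0x1005bd6644bae) (.node (nat_lit 0x1005bd5e6953a) (.leaf (nat_lit 0x1005bd5e44b95) (nat_lit 1794))
 (.leaf (nat_lit 0x1005bd5e6953a) (nat_lit 1538))
) (.node (nat_lit 0x1005bd666951d) (.leaf (nat_lit 0x1005bd6644bae) (nat_lit 1793))
 (.leaf (nat_lit 0x1005bd666951d) (nat_lit 1543))
)) (.node (nat_lit 0x1008822a2c92f) (.node (nat_lit 0x1008822868832) (.leaf (nat_lit 0x100882282c926) (nat_lit 1793))
 (.leaf (nat_lit 0x1008822868832) (nat_lit 2055))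
) (.node (nat_lit 0x1008822a6883a) (.leaf (nat_lit 0x1008822a2c92f) (nat_lit 1543))
 (.node (nat_lit 0x1008822c2c934) (.leaf (nat_lit 0x1008822a6883a) (nat_lit 1792))
 (.leaf (nat_lit 0x1008822c2c934) (nat_lit 1543))
))))) (.node (nat_lit 0x10088862684be) (.node (nat_lit 0x10088842684ac) (.node (nat_lit 0x1008822e6882a) (.node (nat_lit 0x1008822e2c93d) (.leaf (nat_lit 0x1008822c68822) (nat_lit 1799))
 (.leaf (nat_lit 0x1008822e2c93d) (nat_lit 1287))
) (.node (nat_lit 0x100888422c08d) (.leaf (nat_lit 0x1008822e6882a) (nat_lit 1536))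
 (.leaf (nat_lit 0x100888422c08d) (nat_lit 1281))
)) (.node (nat_lit 0x10088852684a5) (.node (nat_lit 0x100888522c08c) (.leaf (nat_lit 0x10088842684ac) (nat_lit 1537))
 (.leaf (nat_lit 0x100888522c08c) (nat_lit 1025))
) (.node (nat_lit 0x100888622c08f) (.leaf (nat_lit 0x10088852684a5) (nat_lit 1281))
 (.leaf (nat_lit 0x100888622c08f) (nat_lit 1025))
))) (.node (nat_lit 0x1008940469910) (.node (nat_lit 0x10088872684b7) (.node (nat_lit 0x100888722c08e) (.leaf (nat_lit 0x10088862684be) (nat_lit 1283))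
 (.leaf (nat_lit 0x100888722c08e) (nat_lit 769))
) (.node (nat_lit 0x100894042d312) (.leaf (nat_lit 0x10088872684b7) (nat_lit 1025))
 (.leaf (nat_lit 0x100894042d312) (nat_lit 1537))
)) (.node (nat_lit 0x1008942c69922) (.node (nat_lit 0x1008942c2d334) (.leaf (nat_lit 0x1008940469910) (nat_lit 1798))
 (.leaf (nat_lit 0x1008942c2d334) (nat_lit 1794))
) (.node (nat_lit 0x100894422d30d) (.leaf (nat_lit 0x1008942c69922) (nat_lit 1798))
 (.node (nat_lit 0x100894426992c) (.leaf (nat_lit 0x100894422d30d) (nat_lit 1536))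
 (.leaf (nat_lit 0x100894426992c) (nat_lit 1287))
))))))) (.node (nat_lit 0x1008a1102c681) (.node (nat_lit 0x100896626913e) (.node (nat_lit 0x100895782d7a3) (.node (nat_lit 0x1008952e2d7bd) (.node (nat_lit 0x100895042d792) (.node (nat_lit 0x1008946a6991e) (.leaf (nat_lit 0x1008946a2d32b) (nat_lit 1794))
 (.leaf (nat_lit 0x1008946a6991e) (nat_lit 1538))
) (.node (nat_lit 0x1008950469d10) (.leaf (nat_lit 0x100895042d792) (nat_lit 1030))
 (.leaf (nat_lit 0x1008950469d10) (nat_lit 1280))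
)) (.node (nat_lit 0x100895522d78c) (.node (nat_lit 0x1008952e69d2a) (.leaf (nat_lit 0x1008952e2d7bd) (nat_lit 1282))
 (.leaf (nat_lit 0x1008952e69d2a) (nat_lit 1538))
) (.node (nat_lit 0x1008955269d25) (.leaf (nat_lit 0x100895522d78c) (nat_lit 1025))
 (.leaf (nat_lit 0x1008955269d25) (nat_lit 1031))
))) (.node (nat_lit 0x100896282da26) (.node (nat_lit 0x100896042da12) (.node (nat_lit 0x1008957869d1f) (.leaf (nat_lit 0x100895782d7a3) (nat_lit 1282))
 (.leaf (nat_lit 0x1008957869d1f) (nat_lit 1282))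
) (.node (nat_lit 0x1008960469110) (.leaf (nat_lit 0x100896042da12) (nat_lit 1286))
 (.leaf (nat_lit 0x1008960469110) (nat_lit 1536))
)) (.node (nat_lit 0x1008964e2da3b) (.node (nat_lit 0x1008962869132) (.leaf (nat_lit 0x100896282da26) (nat_lit 1538))
 (.leaf (nat_lit 0x1008962869132) (nat_lit 1794))
) (.node (nat_lit 0x1008964e6911c) (.leaf (nat_lit 0x1008964e2da3b) (nat_lit 1538))
 (.node (nat_lit 0x100896622da0f) (.leaf (nat_lit 0x1008964e6911c) (nat_lit 1794))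
 (.leaf (nat_lit 0x100896622da0f) (nat_lit 1287))
))))) (.node (nat_lit 0x1008977269537) (.node (nat_lit 0x1008972a6953a) (.node (nat_lit 0x1008970469510) (.node (nat_lit 0x100897042de92) (.leaf (nat_lit 0x100896626913e) (nat_lit 1543))
 (.leaf (nat_lit 0x100897042de92) (nat_lit 1281))
) (.node (nat_lit 0x1008972a2deaf) (.leaf (nat_lit 0x1008970469510) (nat_lit 1537))
 (.leaf (nat_lit 0x1008972a2deaf) (nat_lit 1538))
)) (.node (nat_lit 0x1008975c6951d) (.node (nat_lit 0x1008975c2deb3) (.leaf (nat_lit 0x1008972a6953a) (nat_lit 1794))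
 (.leaf (nat_lit 0x1008975c2deb3) (nat_lit 1538))
) (.node (nat_lit 0x100897722de8e) (.leaf (nat_lit 0x1008975c6951d) (nat_lit 1538))
 (.leaf (nat_lit 0x100897722de8e) (nat_lit 1281))
))) (.node (nat_lit 0x10089b5c6819d) (.node (nat_lit 0x10089b4e6819c) (.node (nat_lit 0x10089b4e2cc3b) (.leaf (nat_lit 0x1008977269537) (nat_lit 1287))
 (.leaf (nat_lit 0x10089b4e2cc3b) (nat_lit 1799))
) (.node (nat_lit 0x10089b5c2cc33) (.leaf (nat_lit 0x10089b4e6819c) (nat_lit 1798))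
 (.leaf (nat_lit 0x10089b5c2cc33) (nat_lit 1537))
)) (.node (nat_lit 0x10089b6a6819e) (.node (nat_lit 0x10089b6a2cc2b) (.leaf (nat_lit 0x10089b5c6819d) (nat_lit 1537))
 (.leaf (nat_lit 0x10089b6a2cc2b) (nat_lit 1539))
) (.node (nat_lit 0x10089b782cc23) (.leaf (nat_lit 0x10089b6a6819e) (nat_lit 1793))
 (.node (nat_lit 0x10089b786819f) (.leaf (nat_lit 0x10089b782cc23) (nat_lit 1793))
 (.leaf (nat_lit 0x10089b786819f) (nat_lit 1793))
)))))) (.node (nat_lit 0x1008a91069289) (.node (nat_lit 0x1008a72c2ddb4) (.node (nat_lit 0x1008a1522c68c) (.node (nat_lit 0x1008a1282c6a6) (.node (nat_lit 0x1008a11069609) (.leaf (nat_lit 0x1008a1102c681) (nat_lit 518))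
 (.leaf (nat_lit 0x1008a11069609) (nat_lit 768))
) (.node (nat_lit 0x1008a12869632) (.leaf (nat_lit 0x1008a1282c6a6) (nat_lit 1543))
 (.leaf (nat_lit 0x1008a12869632) (nat_lit 1792))
)) (.node (nat_lit 0x1008a16a2c6ab) (.node (nat_lit 0x1008a15269625) (.leaf (nat_lit 0x1008a1522c68c) (nat_lit 770))
 (.leaf (nat_lit 0x1008a15269625) (nat_lit 1026))
) (.node (nat_lit 0x1008a16a6961e) (.leaf (nat_lit 0x1008a16a2c6ab) (nat_lit 1543))
 (.leaf (nat_lit 0x1008a16a6961e) (nat_lit 1793))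
))) (.node (nat_lit 0x1008a7622dd8f) (.node (nat_lit 0x1008a7362dd98) (.node (nat_lit 0x1008a72c68e22) (.leaf (nat_lit 0x1008a72c2ddb4) (nat_lit 1538))
 (.leaf (nat_lit 0x1008a72c68e22) (nat_lit 1538))
) (.node (nat_lit 0x1008a73668e03) (.leaf (nat_lit 0x1008a7362dd98) (nat_lit 1286))
 (.leaf (nat_lit 0x1008a73668e03) (nat_lit 1286))
)) (.node (nat_lit 0x1008a7782dda3) (.node (nat_lit 0x1008a76268e3e) (.leaf (nat_lit 0x1008a7622dd8f) (nat_lit 1287))
 (.leaf (nat_lit 0x1008a76268e3e) (nat_lit 1287))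
) (.node (nat_lit 0x1008a77868e1f) (.leaf (nat_lit 0x1008a7782dda3) (nat_lit 1538))
 (.node (nat_lit 0x1008a9102c601) (.leaf (nat_lit 0x1008a77868e1f) (nat_lit 1538))
 (.leaf (nat_lit 0x1008a9102c601) (nat_lit 769))
))))) (.node (nat_lit 0x1008ae2e68eaa) (.node (nat_lit 0x1008a942692ac) (.node (nat_lit 0x1008a92a692ba) (.node (nat_lit 0x1008a92a2c62f) (.leaf (nat_lit 0x1008a91069289) (nat_lit 1030))
 (.leaf (nat_lit 0x1008a92a2c62f) (nat_lit 1281))
) (.node (nat_lit 0x1008a9422c60d) (.leaf (nat_lit 0x1008a92a692ba) (nat_lit 1537))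
 (.leaf (nat_lit 0x1008a9422c60d) (nat_lit 1026))
)) (.node (nat_lit 0x1008a9786929f) (.node (nat_lit 0x1008a9782c623) (.leaf (nat_lit 0x1008a942692ac) (nat_lit 1282))
 (.leaf (nat_lit 0x1008a9782c623) (nat_lit 1537))
) (.node (nat_lit 0x1008ae2e2d9bd) (.leaf (nat_lit 0x1008a9786929f) (nat_lit 1543))
 (.leaf (nat_lit 0x1008ae2e2d9bd) (nat_lit 1282))
))) (.node (nat_lit 0x1008ae6a68e9e) (.node (nat_lit 0x1008ae3668e83) (.node (nat_lit 0x1008ae362d998) (.leaf (nat_lit 0x1008ae2e68eaa) (nat_lit 1538))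
 (.leaf (nat_lit 0x1008ae362d998) (nat_lit 1281))
) (.node (nat_lit 0x1008ae6a2d9ab) (.leaf (nat_lit 0x1008ae3668e83) (nat_lit 1281))
 (.leaf (nat_lit 0x1008ae6a2d9ab) (nat_lit 1538))
)) (.node (nat_lit 0x1008ae7268eb7) (.node (nat_lit 0x1008ae722d98e) (.leaf (nat_lit 0x1008ae6a68e9e) (nat_lit 1538))
 (.leaf (nat_lit 0x1008ae722d98e) (nat_lit 1031))
) (.node (nat_lit 0x1008b1102c781) (.leaf (nat_lit 0x1008ae7268eb7) (nat_lit 1280))
 (.node (nat_lit 0x1008b11069f09) (.leaf (nat_lit 0x1008b1102c781) (nat_lit 262))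
 (.leaf (nat_lit 0x1008b11069f09) (nat_lit 512))
))))))))) (.node (nat_lit 0x1009bb2e64e3d) (.node (nat_lit 0x1009964a65a29) (.node (nat_lit 0x1009822a6492f) (.node (nat_lit 0x1008b92e2c73d) (.node (nat_lit 0x1008b5362d598) (.node (nat_lit 0x1008b1722c78e) (.node (nat_lit 0x1008b14e2c7bb) (.node (nat_lit 0x1008b12c69f22) (.leaf (nat_lit 0x1008b12c2c7b4) (nat_lit 1799))
 (.leaf (nat_lit 0x1008b12c69f22) (nat_lit 1793))
) (.node (nat_lit 0x1008b14e69f1c) (.leaf (nat_lit 0x1008b14e2c7bb) (nat_lit 1793))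
 (.leaf (nat_lit 0x1008b14e69f1c) (nat_lit 1799))
)) (.node (nat_lit 0x1008b5282d5a6) (.node (nat_lit 0x1008b17269f37) (.leaf (nat_lit 0x1008b1722c78e) (nat_lit 514))
 (.leaf (nat_lit 0x1008b17269f37) (nat_lit 770))
) (.node (nat_lit 0x1008b52868f32) (.leaf (nat_lit 0x1008b5282d5a6) (nat_lit 1538))
 (.leaf (nat_lit 0x1008b52868f32) (nat_lit 1794))
))) (.node (nat_lit 0x1008b55c2d5b3) (.node (nat_lit 0x1008b5422d58d) (.node (nat_lit 0x1008b53668f03) (.leaf (nat_lit 0x1008b5362d598) (nat_lit 1030))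
 (.leaf (nat_lit 0x1008b53668f03) (nat_lit 1030))
) (.node (nat_lit 0x1008b54268f2c) (.leaf (nat_lit 0x1008b5422d58d) (nat_lit 1287))
 (.leaf (nat_lit 0x1008b54268f2c) (nat_lit 1537))
)) (.node (nat_lit 0x1008b9102c701) (.node (nat_lit 0x1008b55c68f1d) (.leaf (nat_lit 0x1008b55c2d5b3) (nat_lit 1282))
 (.leaf (nat_lit 0x1008b55c68f1d) (nat_lit 1282))
) (.node (nat_lit 0x1008b91069b89) (.leaf (nat_lit 0x1008b9102c701) (nat_lit 513))
 (.leaf (nat_lit 0x1008b91069b89) (nat_lit 769))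
)))) (.node (nat_lit 0x1008bc362d198) (.node (nat_lit 0x1008b9622c70f) (.node (nat_lit 0x1008b95c2c733) (.node (nat_lit 0x1008b92e69baa) (.leaf (nat_lit 0x1008b92e2c73d) (nat_lit 1537))
 (.leaf (nat_lit 0x1008b92e69baa) (nat_lit 1793))
) (.node (nat_lit 0x1008b95c69b9d) (.leaf (nat_lit 0x1008b95c2c733) (nat_lit 1799))
 (.leaf (nat_lit 0x1008b95c69b9d) (nat_lit 1799))
)) (.node (nat_lit 0x1008bc2a2d1af) (.node (nat_lit 0x1008b96269bbe) (.leaf (nat_lit 0x1008b9622c70f) (nat_lit 770))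
 (.leaf (nat_lit 0x1008b96269bbe) (nat_lit 1026))
) (.node (nat_lit 0x1008bc2a68fba) (.leaf (nat_lit 0x1008bc2a2d1af) (nat_lit 1026))
 (.leaf (nat_lit 0x1008bc2a68fba) (nat_lit 1282))
))) (.node (nat_lit 0x1008bc522d18c) (.node (nat_lit 0x1008bc4e2d1bb) (.node (nat_lit 0x1008bc3668f83) (.leaf (nat_lit 0x1008bc362d198) (nat_lit 1286))
 (.leaf (nat_lit 0x1008bc3668f83) (nat_lit 1537))
) (.node (nat_lit 0x1008bc4e68f9c) (.leaf (nat_lit 0x1008bc4e2d1bb) (nat_lit 1538))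
 (.leaf (nat_lit 0x1008bc4e68f9c) (nat_lit 1794))
)) (.node (nat_lit 0x1009822828832) (.node (nat_lit 0x1008bc5268fa5) (.leaf (nat_lit 0x1008bc522d18c) (nat_lit 775))
 (.leaf (nat_lit 0x1008bc5268fa5) (nat_lit 1024))
) (.node (nat_lit 0x1009822864926) (.leaf (nat_lit 0x1009822828832) (nat_lit 2055))
 (.node (nat_lit 0x1009822a2883a) (.leaf (nat_lit 0x1009822864926) (nat_lit 1798))
 (.leaf (nat_lit 0x1009822a2883a) (nat_lit 1536))
)))))) (.node (nat_lit 0x100994462993c) (.node (nat_lit 0x1009895864421) (.node (nat_lit 0x1009822e6493d) (.node (nat_lit 0x1009822c64934) (.node (nat_lit 0x1009822c28822) (.leaf (nat_lit 0x1009822a6492f) (nat_lit 1286))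
 (.leaf (nat_lit 0x1009822c28822) (nat_lit 2049))
) (.node (nat_lit 0x1009822e2882a) (.leaf (nat_lit 0x1009822c64934) (nat_lit 1799))
 (.leaf (nat_lit 0x1009822e2882a) (nat_lit 1792))
)) (.node (nat_lit 0x1009894a64429) (.node (nat_lit 0x1009894a2808c) (.leaf (nat_lit 0x1009822e6493d) (nat_lit 1542))
 (.leaf (nat_lit 0x1009894a2808c) (nat_lit 1542))
) (.node (nat_lit 0x100989582808d) (.leaf (nat_lit 0x1009894a64429) (nat_lit 1537))
 (.leaf (nat_lit 0x100989582808d) (nat_lit 1537))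
))) (.node (nat_lit 0x1009897c64431) (.node (nat_lit 0x1009896e64439) (.node (nat_lit 0x1009896e2808e) (.leaf (nat_lit 0x1009895864421) (nat_lit 1537))
 (.leaf (nat_lit 0x1009896e2808e) (nat_lit 1537))
) (.node (nat_lit 0x1009897c2808f) (.leaf (nat_lit 0x1009896e64439) (nat_lit 1283))
 (.leaf (nat_lit 0x1009897c2808f) (nat_lit 1281))
)) (.node (nat_lit 0x1009940465312) (.node (nat_lit 0x1009940429910) (.leaf (nat_lit 0x1009897c64431) (nat_lit 1281))
 (.leaf (nat_lit 0x1009940429910) (nat_lit 1542))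
) (.node (nat_lit 0x1009942c29922) (.leaf (nat_lit 0x1009940465312) (nat_lit 1542))
 (.node (nat_lit 0x1009942c65334) (.leaf (nat_lit 0x1009942c29922) (nat_lit 1794))
 (.leaf (nat_lit 0x1009942c65334) (nat_lit 1794))
))))) (.node (nat_lit 0x1009955629d35) (.node (nat_lit 0x1009950429d10) (.node (nat_lit 0x1009946e2990e) (.node (nat_lit 0x100994466531f) (.leaf (nat_lit 0x100994462993c) (nat_lit 1543))
 (.leaf (nat_lit 0x100994466531f) (nat_lit 1792))
) (.node (nat_lit 0x1009946e65339) (.leaf (nat_lit 0x1009946e2990e) (nat_lit 1543))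
 (.leaf (nat_lit 0x1009946e65339) (nat_lit 1543))
)) (.node (nat_lit 0x1009952e29d2a) (.node (nat_lit 0x1009950465792) (.leaf (nat_lit 0x1009950429d10) (nat_lit 1537))
 (.leaf (nat_lit 0x1009950465792) (nat_lit 1537))
) (.node (nat_lit 0x1009952e657bd) (.leaf (nat_lit 0x1009952e29d2a) (nat_lit 1794))
 (.leaf (nat_lit 0x1009952e657bd) (nat_lit 1794))
))) (.node (nat_lit 0x1009960429110) (.node (nat_lit 0x1009957c29d0f) (.node (nat_lit 0x100995566579e) (.leaf (nat_lit 0x1009955629d35) (nat_lit 1543))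
 (.leaf (nat_lit 0x100995566579e) (nat_lit 1537))
) (.node (nat_lit 0x1009957c657b1) (.leaf (nat_lit 0x1009957c29d0f) (nat_lit 1793))
 (.leaf (nat_lit 0x1009957c657b1) (nat_lit 1543))
)) (.node (nat_lit 0x1009962829132) (.node (nat_lit 0x1009960465a12) (.leaf (nat_lit 0x1009960429110) (nat_lit 1542))
 (.leaf (nat_lit 0x1009960465a12) (nat_lit 1542))
) (.node (nat_lit 0x1009962865a26) (.leaf (nat_lit 0x1009962829132) (nat_lit 1798))
 (.node (nat_lit 0x1009964a2910c) (.leaf (nat_lit 0x1009962865a26) (nat_lit 1798))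
 (.leaf (nat_lit 0x1009964a2910c) (nat_lit 1536))
))))))) (.node (nat_lit 0x1009a5666549d) (.node (nat_lit 0x1009987628da7) (.node (nat_lit 0x1009975865ea1) (.node (nat_lit 0x1009970465e92) (.node (nat_lit 0x1009966665a1d) (.node (nat_lit 0x100996662912e) (.leaf (nat_lit 0x1009964a65a29) (nat_lit 1287))
 (.leaf (nat_lit 0x100996662912e) (nat_lit 1799))
) (.node (nat_lit 0x1009970429510) (.leaf (nat_lit 0x1009966665a1d) (nat_lit 1538))
 (.leaf (nat_lit 0x1009970429510) (nat_lit 1286))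
)) (.node (nat_lit 0x1009972a65eaf) (.node (nat_lit 0x1009972a2953a) (.leaf (nat_lit 0x1009970465e92) (nat_lit 1286))
 (.leaf (nat_lit 0x1009972a2953a) (nat_lit 1538))
) (.node (nat_lit 0x100997582950d) (.leaf (nat_lit 0x1009972a65eaf) (nat_lit 1538))
 (.leaf (nat_lit 0x100997582950d) (nat_lit 1537))
))) (.node (nat_lit 0x100998466419f) (.node (nat_lit 0x1009977665e9c) (.node (nat_lit 0x1009977629527) (.leaf (nat_lit 0x1009975865ea1) (nat_lit 1287))
 (.leaf (nat_lit 0x1009977629527) (nat_lit 1287))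
) (.node (nat_lit 0x1009984628dbc) (.leaf (nat_lit 0x1009977665e9c) (nat_lit 1281))
 (.leaf (nat_lit 0x1009984628dbc) (nat_lit 1793))
)) (.node (nat_lit 0x100998566419e) (.node (nat_lit 0x1009985628db5) (.leaf (nat_lit 0x100998466419f) (nat_lit 1537))
 (.leaf (nat_lit 0x1009985628db5) (nat_lit 1281))
) (.node (nat_lit 0x1009986628dae) (.leaf (nat_lit 0x100998566419e) (nat_lit 1025))
 (.node (nat_lit 0x100998666419d) (.leaf (nat_lit 0x1009986628dae) (nat_lit 1539))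
 (.leaf (nat_lit 0x100998666419d) (nat_lit 1281))
))))) (.node (nat_lit 0x1009a37629e27) (.node (nat_lit 0x1009a33029e1b) (.node (nat_lit 0x1009a32829e32) (.node (nat_lit 0x100998766419c) (.leaf (nat_lit 0x1009987628da7) (nat_lit 1537))
 (.leaf (nat_lit 0x100998766419c) (nat_lit 1281))
) (.node (nat_lit 0x1009a32864fa6) (.leaf (nat_lit 0x1009a32829e32) (nat_lit 1794))
 (.leaf (nat_lit 0x1009a32864fa6) (nat_lit 1538))
)) (.node (nat_lit 0x1009a36e29e0e) (.node (nat_lit 0x1009a33064f83) (.leaf (nat_lit 0x1009a33029e1b) (nat_lit 1024))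
 (.leaf (nat_lit 0x1009a33064f83) (nat_lit 774))
) (.node (nat_lit 0x1009a36e64fb9) (.leaf (nat_lit 0x1009a36e29e0e) (nat_lit 1536))
 (.leaf (nat_lit 0x1009a36e64fb9) (nat_lit 1287))
))) (.node (nat_lit 0x1009a52c28622) (.node (nat_lit 0x1009a51228601) (.node (nat_lit 0x1009a37664f9c) (.leaf (nat_lit 0x1009a37629e27) (nat_lit 1282))
 (.leaf (nat_lit 0x1009a37664f9c) (nat_lit 1026))
) (.node (nat_lit 0x1009a51265488) (.leaf (nat_lit 0x1009a51228601) (nat_lit 1030))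
 (.leaf (nat_lit 0x1009a51265488) (nat_lit 1030))
)) (.node (nat_lit 0x1009a5582860d) (.node (nat_lit 0x1009a52c654b4) (.leaf (nat_lit 0x1009a52c28622) (nat_lit 1799))
 (.leaf (nat_lit 0x1009a52c654b4) (nat_lit 1542))
) (.node (nat_lit 0x1009a558654a1) (.leaf (nat_lit 0x1009a5582860d) (nat_lit 1282))
 (.node (nat_lit 0x1009a5662862e) (.leaf (nat_lit 0x1009a558654a1) (nat_lit 1282))
 (.leaf (nat_lit 0x1009a5662862e) (nat_lit 1543))
)))))) (.node (nat_lit 0x1009b32c29722) (.node (nat_lit 0x1009ab7c64f31) (.node (nat_lit 0x1009ab3064f03) (.node (nat_lit 0x1009ab2a64f2f) (.node (nat_lit 0x1009ab2a29aba) (.leaf (nat_lit 0x1009a5666549d) (nat_lit 1543))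
 (.leaf (nat_lit 0x1009ab2a29aba) (nat_lit 1794))
) (.node (nat_lit 0x1009ab3029a9b) (.leaf (nat_lit 0x1009ab2a64f2f) (nat_lit 1542))
 (.leaf (nat_lit 0x1009ab3029a9b) (nat_lit 1025))
)) (.node (nat_lit 0x1009ab6664f1d) (.node (nat_lit 0x1009ab6629aae) (.leaf (nat_lit 0x1009ab3064f03) (nat_lit 769))
 (.leaf (nat_lit 0x1009ab6629aae) (nat_lit 1282))
) (.node (nat_lit 0x1009ab7c29a8f) (.leaf (nat_lit 0x1009ab6664f1d) (nat_lit 1026))
 (.leaf (nat_lit 0x1009ab7c29a8f) (nat_lit 1543))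
))) (.node (nat_lit 0x1009ac2e650bd) (.node (nat_lit 0x1009ac1265088) (.node (nat_lit 0x1009ac1228681) (.leaf (nat_lit 0x1009ab7c64f31) (nat_lit 1543))
 (.leaf (nat_lit 0x1009ac1228681) (nat_lit 1281))
) (.node (nat_lit 0x1009ac2e286aa) (.leaf (nat_lit 0x1009ac1265088) (nat_lit 1030))
 (.leaf (nat_lit 0x1009ac2e286aa) (nat_lit 1538))
)) (.node (nat_lit 0x1009ac4a650a9) (.node (nat_lit 0x1009ac4a2868c) (.leaf (nat_lit 0x1009ac2e650bd) (nat_lit 1282))
 (.leaf (nat_lit 0x1009ac4a2868c) (nat_lit 1538))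
) (.node (nat_lit 0x1009ac76286a7) (.leaf (nat_lit 0x1009ac4a650a9) (nat_lit 1282))
 (.node (nat_lit 0x1009ac766509c) (.leaf (nat_lit 0x1009ac76286a7) (nat_lit 1280))
 (.leaf (nat_lit 0x1009ac766509c) (nat_lit 1031))
))))) (.node (nat_lit 0x1009b71228701) (.node (nat_lit 0x1009b34a2970c) (.node (nat_lit 0x1009b3302971b) (.node (nat_lit 0x1009b32c64eb4) (.leaf (nat_lit 0x1009b32c29722) (nat_lit 1798))
 (.leaf (nat_lit 0x1009b32c64eb4) (nat_lit 1798))
) (.node (nat_lit 0x1009b33064e83) (.leaf (nat_lit 0x1009b3302971b) (nat_lit 768))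
 (.leaf (nat_lit 0x1009b33064e83) (nat_lit 518))
)) (.node (nat_lit 0x1009b35629735) (.node (nat_lit 0x1009b34a64ea9) (.leaf (nat_lit 0x1009b34a2970c) (nat_lit 1543))
 (.leaf (nat_lit 0x1009b34a64ea9) (nat_lit 1537))
) (.node (nat_lit 0x1009b35664e9e) (.leaf (nat_lit 0x1009b35629735) (nat_lit 1026))
 (.leaf (nat_lit 0x1009b35664e9e) (nat_lit 770))
))) (.node (nat_lit 0x1009b7462873c) (.node (nat_lit 0x1009b72828732) (.node (nat_lit 0x1009b71265c88) (.leaf (nat_lit 0x1009b71228701) (nat_lit 774))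
 (.leaf (nat_lit 0x1009b71265c88) (nat_lit 774))
) (.node (nat_lit 0x1009b72865ca6) (.leaf (nat_lit 0x1009b72828732) (nat_lit 2050))
 (.leaf (nat_lit 0x1009b72865ca6) (nat_lit 1794))
)) (.node (nat_lit 0x1009b77c2870f) (.node (nat_lit 0x1009b74665c9f) (.leaf (nat_lit 0x1009b7462873c) (nat_lit 1793))
 (.leaf (nat_lit 0x1009b74665c9f) (nat_lit 1543))
) (.node (nat_lit 0x1009b77c65cb1) (.leaf (nat_lit 0x1009b77c2870f) (nat_lit 1026))
 (.node (nat_lit 0x1009bb2e293aa) (.leaf (nat_lit 0x1009b77c65cb1) (nat_lit 1026))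
 (.leaf (nat_lit 0x1009bb2e293aa) (nat_lit 1538))
)))))))) (.node (nat_lit 0x100c9f4c29e32) (.node (nat_lit 0x100c925e2883a) (.node (nat_lit 0x100c83384cc3b) (.node (nat_lit 0x1009be1265888) (.node (nat_lit 0x1009bb4664e1f) (.node (nat_lit 0x1009bb3064e03) (.node (nat_lit 0x1009bb302939b) (.leaf (nat_lit 0x1009bb2e64e3d) (nat_lit 1537))
 (.leaf (nat_lit 0x1009bb302939b) (nat_lit 1286))
) (.node (nat_lit 0x1009bb46293bc) (.leaf (nat_lit 0x1009bb3064e03) (nat_lit 1025))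
 (.leaf (nat_lit 0x1009bb46293bc) (nat_lit 1538))
)) (.node (nat_lit 0x1009bb5864e21) (.node (nat_lit 0x1009bb582938d) (.leaf (nat_lit 0x1009bb4664e1f) (nat_lit 1282))
 (.leaf (nat_lit 0x1009bb582938d) (nat_lit 1287))
) (.node (nat_lit 0x1009be1228781) (.leaf (nat_lit 0x1009bb5864e21) (nat_lit 1536))
 (.leaf (nat_lit 0x1009be1228781) (nat_lit 1025))
))) (.node (nat_lit 0x1009be566589e) (.node (nat_lit 0x1009be2a658af) (.node (nat_lit 0x1009be2a287ba) (.leaf (nat_lit 0x1009be1265888) (nat_lit 1025))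
 (.leaf (nat_lit 0x1009be2a287ba) (nat_lit 1794))
) (.node (nat_lit 0x1009be56287b5) (.leaf (nat_lit 0x1009be2a658af) (nat_lit 1538))
 (.leaf (nat_lit 0x1009be56287b5) (nat_lit 1536))
)) (.node (nat_lit 0x1009be6e658b9) (.node (nat_lit 0x1009be6e2878e) (.leaf (nat_lit 0x1009be566589e) (nat_lit 1287))
 (.leaf (nat_lit 0x1009be6e2878e) (nat_lit 1282))
) (.node (nat_lit 0x100c833828da7) (.leaf (nat_lit 0x1009be6e658b9) (nat_lit 1282))
 (.leaf (nat_lit 0x100c833828da7) (nat_lit 1537))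
)))) (.node (nat_lit 0x100c88424c4ac) (.node (nat_lit 0x100c833c4cc2b) (.node (nat_lit 0x100c833a4cc33) (.node (nat_lit 0x100c833a28dae) (.leaf (nat_lit 0x100c83384cc3b) (nat_lit 1793))
 (.leaf (nat_lit 0x100c833a28dae) (nat_lit 1537))
) (.node (nat_lit 0x100c833c28db5) (.leaf (nat_lit 0x100c833a4cc33) (nat_lit 1795))
 (.leaf (nat_lit 0x100c833c28db5) (nat_lit 1281))
)) (.node (nat_lit 0x100c833e4cc23) (.node (nat_lit 0x100c833e28dbc) (.leaf (nat_lit 0x100c833c4cc2b) (nat_lit 1537))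
 (.leaf (nat_lit 0x100c833e28dbc) (nat_lit 1799))
) (.node (nat_lit 0x100c88422808d) (.leaf (nat_lit 0x100c833e4cc23) (nat_lit 1798))
 (.leaf (nat_lit 0x100c88422808d) (nat_lit 1281))
))) (.node (nat_lit 0x100c88624c4be) (.node (nat_lit 0x100c88524c4a5) (.node (nat_lit 0x100c88522808c) (.leaf (nat_lit 0x100c88424c4ac) (nat_lit 1281))
 (.leaf (nat_lit 0x100c88522808c) (nat_lit 1281))
) (.node (nat_lit 0x100c88622808f) (.leaf (nat_lit 0x100c88524c4a5) (nat_lit 1286))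
 (.leaf (nat_lit 0x100c88622808f) (nat_lit 1025))
)) (.node (nat_lit 0x100c88724c4b7) (.node (nat_lit 0x100c88722808e) (.leaf (nat_lit 0x100c88624c4be) (nat_lit 1025))
 (.leaf (nat_lit 0x100c88722808e) (nat_lit 1027))
) (.node (nat_lit 0x100c924c28832) (.leaf (nat_lit 0x100c88724c4b7) (nat_lit 1281))
 (.node (nat_lit 0x100c924c4c114) (.leaf (nat_lit 0x100c924c28832) (nat_lit 1543))
 (.leaf (nat_lit 0x100c924c4c114) (nat_lit 1799))
)))))) (.node (nat_lit 0x100c9d3c4d9ab) (.node (nat_lit 0x100c9c3e293bc) (.node (nat_lit 0x100c927a2882a) (.node (nat_lit 0x100c926828822) (.node (nat_lit 0x100c925e4c115) (.leaf (nat_lit 0x100c925e2883a) (nat_lit 1542))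
 (.leaf (nat_lit 0x100c925e4c115) (nat_lit 1543))
) (.node (nat_lit 0x100c92684c116) (.leaf (nat_lit 0x100c926828822) (nat_lit 1799))
 (.leaf (nat_lit 0x100c92684c116) (nat_lit 1799))
)) (.node (nat_lit 0x100c9c062939b) (.node (nat_lit 0x100c927a4c117) (.leaf (nat_lit 0x100c927a2882a) (nat_lit 1795))
 (.leaf (nat_lit 0x100c927a4c117) (nat_lit 1799))
) (.node (nat_lit 0x100c9c064dd98) (.leaf (nat_lit 0x100c9c062939b) (nat_lit 1281))
 (.leaf (nat_lit 0x100c9c064dd98) (nat_lit 1542))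
))) (.node (nat_lit 0x100c9c7a293aa) (.node (nat_lit 0x100c9c422938d) (.node (nat_lit 0x100c9c3e4dda3) (.leaf (nat_lit 0x100c9c3e293bc) (nat_lit 1538))
 (.leaf (nat_lit 0x100c9c3e4dda3) (nat_lit 1794))
) (.node (nat_lit 0x100c9c424ddac) (.leaf (nat_lit 0x100c9c422938d) (nat_lit 1280))
 (.leaf (nat_lit 0x100c9c424ddac) (nat_lit 1031))
)) (.node (nat_lit 0x100c9d062971b) (.node (nat_lit 0x100c9c7a4dd97) (.leaf (nat_lit 0x100c9c7a293aa) (nat_lit 1538))
 (.leaf (nat_lit 0x100c9c7a4dd97) (nat_lit 1282))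
) (.node (nat_lit 0x100c9d064d998) (.leaf (nat_lit 0x100c9d062971b) (nat_lit 774))
 (.node (nat_lit 0x100c9d3c29735) (.leaf (nat_lit 0x100c9d064d998) (nat_lit 1024))
 (.leaf (nat_lit 0x100c9d3c29735) (nat_lit 1026))
))))) (.node (nat_lit 0x100c9e3a4d5b3) (.node (nat_lit 0x100c9d684d996) (.node (nat_lit 0x100c9d524d9a5) (.node (nat_lit 0x100c9d522970c) (.leaf (nat_lit 0x100c9d3c4d9ab) (nat_lit 1282))
 (.leaf (nat_lit 0x100c9d522970c) (nat_lit 1281))
) (.node (nat_lit 0x100c9d6829722) (.leaf (nat_lit 0x100c9d524d9a5) (nat_lit 1287))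
 (.leaf (nat_lit 0x100c9d6829722) (nat_lit 1538))
)) (.node (nat_lit 0x100c9e064d598) (.node (nat_lit 0x100c9e0629a9b) (.leaf (nat_lit 0x100c9d684d996) (nat_lit 1538))
 (.leaf (nat_lit 0x100c9e0629a9b) (nat_lit 1025))
) (.node (nat_lit 0x100c9e3a29aae) (.leaf (nat_lit 0x100c9e064d598) (nat_lit 1281))
 (.leaf (nat_lit 0x100c9e3a29aae) (nat_lit 1282))
))) (.node (nat_lit 0x100c9e624d5be) (.node (nat_lit 0x100c9e5e4d595) (.node (nat_lit 0x100c9e5e29aba) (.leaf (nat_lit 0x100c9e3a4d5b3) (nat_lit 1538))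
 (.leaf (nat_lit 0x100c9e5e29aba) (nat_lit 1538))
) (.node (nat_lit 0x100c9e6229a8f) (.leaf (nat_lit 0x100c9e5e4d595) (nat_lit 1538))
 (.leaf (nat_lit 0x100c9e6229a8f) (nat_lit 1287))
)) (.node (nat_lit 0x100c9f064d198) (.node (nat_lit 0x100c9f0629e1b) (.leaf (nat_lit 0x100c9e624d5be) (nat_lit 1287))
 (.leaf (nat_lit 0x100c9f0629e1b) (nat_lit 1030))
) (.node (nat_lit 0x100c9f3829e27) (.leaf (nat_lit 0x100c9f064d198) (nat_lit 1280))
 (.node (nat_lit 0x100c9f384d1bb) (.leaf (nat_lit 0x100c9f3829e27) (nat_lit 1282))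
 (.leaf (nat_lit 0x100c9f384d1bb) (nat_lit 1538))
))))))) (.node (nat_lit 0x100caf7a29d2a) (.node (nat_lit 0x100ca6684ca16) (.node (nat_lit 0x100ca1522868c) (.node (nat_lit 0x100ca11028681) (.node (nat_lit 0x100c9f7229e0e) (.node (nat_lit 0x100c9f4c4d194) (.leaf (nat_lit 0x100c9f4c29e32) (nat_lit 1282))
 (.leaf (nat_lit 0x100c9f4c4d194) (nat_lit 1538))
) (.node (nat_lit 0x100c9f724d1b7) (.leaf (nat_lit 0x100c9f7229e0e) (nat_lit 1031))
 (.leaf (nat_lit 0x100c9f724d1b7) (nat_lit 1280))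
)) (.node (nat_lit 0x100ca138286a7) (.node (nat_lit 0x100ca1104d609) (.leaf (nat_lit 0x100ca11028681) (nat_lit 774))
 (.leaf (nat_lit 0x100ca1104d609) (nat_lit 1025))
) (.node (nat_lit 0x100ca1384d63b) (.leaf (nat_lit 0x100ca138286a7) (nat_lit 1287))
 (.leaf (nat_lit 0x100ca1384d63b) (nat_lit 1536))
))) (.node (nat_lit 0x100ca62429910) (.node (nat_lit 0x100ca17a286aa) (.node (nat_lit 0x100ca1524d625) (.leaf (nat_lit 0x100ca1522868c) (nat_lit 1026))
 (.leaf (nat_lit 0x100ca1524d625) (nat_lit 1282))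
) (.node (nat_lit 0x100ca17a4d617) (.leaf (nat_lit 0x100ca17a286aa) (nat_lit 1538))
 (.leaf (nat_lit 0x100ca17a4d617) (nat_lit 1537))
)) (.node (nat_lit 0x100ca63e2993c) (.node (nat_lit 0x100ca6244ca02) (.leaf (nat_lit 0x100ca62429910) (nat_lit 1542))
 (.leaf (nat_lit 0x100ca6244ca02) (nat_lit 1542))
) (.node (nat_lit 0x100ca63e4ca23) (.leaf (nat_lit 0x100ca63e2993c) (nat_lit 1538))
 (.node (nat_lit 0x100ca66829922) (.leaf (nat_lit 0x100ca63e4ca23) (nat_lit 1538))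
 (.leaf (nat_lit 0x100ca66829922) (nat_lit 1794))
))))) (.node (nat_lit 0x100ca9424d2ac) (.node (nat_lit 0x100ca9104d289) (.node (nat_lit 0x100ca6724ca37) (.node (nat_lit 0x100ca6722990e) (.leaf (nat_lit 0x100ca6684ca16) (nat_lit 1794))
 (.leaf (nat_lit 0x100ca6722990e) (nat_lit 1287))
) (.node (nat_lit 0x100ca91028601) (.leaf (nat_lit 0x100ca6724ca37) (nat_lit 1287))
 (.leaf (nat_lit 0x100ca91028601) (nat_lit 774))
)) (.node (nat_lit 0x100ca93a4d2b3) (.node (nat_lit 0x100ca93a2862e) (.leaf (nat_lit 0x100ca9104d289) (nat_lit 774))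
 (.leaf (nat_lit 0x100ca93a2862e) (nat_lit 1537))
) (.node (nat_lit 0x100ca9422860d) (.leaf (nat_lit 0x100ca93a4d2b3) (nat_lit 1799))
 (.leaf (nat_lit 0x100ca9422860d) (nat_lit 1026))
))) (.node (nat_lit 0x100caf244ca82) (.node (nat_lit 0x100ca9684d296) (.node (nat_lit 0x100ca96828622) (.leaf (nat_lit 0x100ca9424d2ac) (nat_lit 1026))
 (.leaf (nat_lit 0x100ca96828622) (nat_lit 1793))
) (.node (nat_lit 0x100caf2429d10) (.leaf (nat_lit 0x100ca9684d296) (nat_lit 1799))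
 (.leaf (nat_lit 0x100caf2429d10) (nat_lit 1537))
)) (.node (nat_lit 0x100caf3c4caab) (.node (nat_lit 0x100caf3c29d35) (.leaf (nat_lit 0x100caf244ca82) (nat_lit 1537))
 (.leaf (nat_lit 0x100caf3c29d35) (nat_lit 1538))
) (.node (nat_lit 0x100caf6229d0f) (.leaf (nat_lit 0x100caf3c4caab) (nat_lit 1794))
 (.node (nat_lit 0x100caf624cabe) (.leaf (nat_lit 0x100caf6229d0f) (nat_lit 1287))
 (.leaf (nat_lit 0x100caf624cabe) (nat_lit 1537))
)))))) (.node (nat_lit 0x100cb4524cb25) (.node (nat_lit 0x100cb1722878e) (.node (nat_lit 0x100cb13c287b5) (.node (nat_lit 0x100cb11028781) (.node (nat_lit 0x100caf7a4ca97) (.leaf (nat_lit 0x100caf7a29d2a) (nat_lit 1794))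
 (.leaf (nat_lit 0x100caf7a4ca97) (nat_lit 1794))
) (.node (nat_lit 0x100cb1104df09) (.leaf (nat_lit 0x100cb11028781) (nat_lit 769))
 (.leaf (nat_lit 0x100cb1104df09) (nat_lit 769))
)) (.node (nat_lit 0x100cb15e287ba) (.node (nat_lit 0x100cb13c4df2b) (.leaf (nat_lit 0x100cb13c287b5) (nat_lit 1543))
 (.leaf (nat_lit 0x100cb13c4df2b) (nat_lit 1792))
) (.node (nat_lit 0x100cb15e4df15) (.leaf (nat_lit 0x100cb15e287ba) (nat_lit 1794))
 (.leaf (nat_lit 0x100cb15e4df15) (nat_lit 1793))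
))) (.node (nat_lit 0x100cb43a2912e) (.node (nat_lit 0x100cb42429110) (.node (nat_lit 0x100cb1724df37) (.leaf (nat_lit 0x100cb1722878e) (nat_lit 1026))
 (.leaf (nat_lit 0x100cb1724df37) (nat_lit 1026))
) (.node (nat_lit 0x100cb4244cb02) (.leaf (nat_lit 0x100cb42429110) (nat_lit 1542))
 (.leaf (nat_lit 0x100cb4244cb02) (nat_lit 1542))
)) (.node (nat_lit 0x100cb44c29132) (.node (nat_lit 0x100cb43a4cb33) (.leaf (nat_lit 0x100cb43a2912e) (nat_lit 1282))
 (.leaf (nat_lit 0x100cb43a4cb33) (nat_lit 1538))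
) (.node (nat_lit 0x100cb44c4cb14) (.leaf (nat_lit 0x100cb44c29132) (nat_lit 1794))
 (.node (nat_lit 0x100cb4522910c) (.leaf (nat_lit 0x100cb44c4cb14) (nat_lit 1794))
 (.leaf (nat_lit 0x100cb4522910c) (nat_lit 1031))
))))) (.node (nat_lit 0x100cb9624dbbe) (.node (nat_lit 0x100cb93e4dba3) (.node (nat_lit 0x100cb9104db89) (.node (nat_lit 0x100cb91028701) (.leaf (nat_lit 0x100cb4524cb25) (nat_lit 1280))
 (.leaf (nat_lit 0x100cb91028701) (nat_lit 518))
) (.node (nat_lit 0x100cb93e2873c) (.leaf (nat_lit 0x100cb9104db89) (nat_lit 518))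
 (.leaf (nat_lit 0x100cb93e2873c) (nat_lit 1799))
)) (.node (nat_lit 0x100cb94c4db94) (.node (nat_lit 0x100cb94c28732) (.leaf (nat_lit 0x100cb93e4dba3) (nat_lit 1793))
 (.leaf (nat_lit 0x100cb94c28732) (nat_lit 1537))
) (.node (nat_lit 0x100cb9622870f) (.leaf (nat_lit 0x100cb94c4db94) (nat_lit 1798))
 (.leaf (nat_lit 0x100cb9622870f) (nat_lit 770))
))) (.node (nat_lit 0x100cbd384cbbb) (.node (nat_lit 0x100cbd244cb82) (.node (nat_lit 0x100cbd2429510) (.leaf (nat_lit 0x100cb9624dbbe) (nat_lit 770))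
 (.leaf (nat_lit 0x100cbd2429510) (nat_lit 1286))
) (.node (nat_lit 0x100cbd3829527) (.leaf (nat_lit 0x100cbd244cb82) (nat_lit 1286))
 (.leaf (nat_lit 0x100cbd3829527) (nat_lit 1282))
)) (.node (nat_lit 0x100cbd424cbac) (.node (nat_lit 0x100cbd422950d) (.leaf (nat_lit 0x100cbd384cbbb) (nat_lit 1538))
 (.leaf (nat_lit 0x100cbd422950d) (nat_lit 1031))
) (.node (nat_lit 0x100cbd5e2953a) (.leaf (nat_lit 0x100cbd424cbac) (nat_lit 1281))
 (.node (nat_lit 0x100cbd5e4cb95) (.leaf (nat_lit 0x100cbd5e2953a) (nat_lit 1538))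
 (.leaf (nat_lit 0x100cbd5e4cb95) (nat_lit 1538))
))))))))))) (.node (nat_lit 0x1016a75414e3d) (.node (nat_lit 0x1012146e1190e) (.node (nat_lit 0x10100d56910b5) (.node (nat_lit 0x100d253e454bc) (.node (nat_lit 0x100d1d064571b) (.node (nat_lit 0x100d10442c934) (.node (nat_lit 0x100d094a2c08c) (.node (nat_lit 0x100d033c2cc2b) (.node (nat_lit 0x100d033a2cc33) (.node (nat_lit 0x100d033844da7) (.leaf (nat_lit 0x100d03382cc3b) (nat_lit 1798))
 (.leaf (nat_lit 0x100d033844da7) (nat_lit 1542))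
) (.node (nat_lit 0x100d033a44dae) (.leaf (nat_lit 0x100d033a2cc33) (nat_lit 1537))
 (.leaf (nat_lit 0x100d033a44dae) (nat_lit 1542))
)) (.node (nat_lit 0x100d033e2cc23) (.node (nat_lit 0x100d033c44db5) (.leaf (nat_lit 0x100d033c2cc2b) (nat_lit 1793))
 (.leaf (nat_lit 0x100d033c44db5) (nat_lit 1539))
) (.node (nat_lit 0x100d033e44dbc) (.leaf (nat_lit 0x100d033e2cc23) (nat_lit 1793))
 (.leaf (nat_lit 0x100d033e44dbc) (nat_lit 1793))
))) (.node (nat_lit 0x100d096e2c08e) (.node (nat_lit 0x100d09582c08d) (.node (nat_lit 0x100d094a44429) (.leaf (nat_lit 0x100d094a2c08c) (nat_lit 1537))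
 (.leaf (nat_lit 0x100d094a44429) (nat_lit 1281))
) (.node (nat_lit 0x100d095844421) (.leaf (nat_lit 0x100d09582c08d) (nat_lit 1793))
 (.leaf (nat_lit 0x100d095844421) (nat_lit 1537))
)) (.node (nat_lit 0x100d097c2c08f) (.node (nat_lit 0x100d096e44439) (.leaf (nat_lit 0x100d096e2c08e) (nat_lit 1281))
 (.leaf (nat_lit 0x100d096e44439) (nat_lit 1025))
) (.node (nat_lit 0x100d097c44431) (.leaf (nat_lit 0x100d097c2c08f) (nat_lit 1539))
 (.leaf (nat_lit 0x100d097c44431) (nat_lit 1281))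
)))) (.node (nat_lit 0x100d1c062dd98) (.node (nat_lit 0x100d10642c926) (.node (nat_lit 0x100d10542c93d) (.node (nat_lit 0x100d104444116) (.leaf (nat_lit 0x100d10442c934) (nat_lit 2049))
 (.leaf (nat_lit 0x100d104444116) (nat_lit 1793))
) (.node (nat_lit 0x100d105444117) (.leaf (nat_lit 0x100d10542c93d) (nat_lit 1537))
 (.leaf (nat_lit 0x100d105444117) (nat_lit 1281))
)) (.node (nat_lit 0x100d10742c92f) (.node (nat_lit 0x100d106444114) (.leaf (nat_lit 0x100d10642c926) (nat_lit 1793))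
 (.leaf (nat_lit 0x100d106444114) (nat_lit 1537))
) (.node (nat_lit 0x100d107444115) (.leaf (nat_lit 0x100d10742c92f) (nat_lit 1795))
 (.leaf (nat_lit 0x100d107444115) (nat_lit 1537))
))) (.node (nat_lit 0x100d1c442ddb4) (.node (nat_lit 0x100d1c3e2dda3) (.node (nat_lit 0x100d1c064539b) (.leaf (nat_lit 0x100d1c062dd98) (nat_lit 1286))
 (.leaf (nat_lit 0x100d1c064539b) (nat_lit 1286))
) (.node (nat_lit 0x100d1c3e453bc) (.leaf (nat_lit 0x100d1c3e2dda3) (nat_lit 1538))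
 (.leaf (nat_lit 0x100d1c3e453bc) (nat_lit 1538))
)) (.node (nat_lit 0x100d1c7c2dd8f) (.node (nat_lit 0x100d1c4445396) (.leaf (nat_lit 0x100d1c442ddb4) (nat_lit 1799))
 (.leaf (nat_lit 0x100d1c4445396) (nat_lit 1793))
) (.node (nat_lit 0x100d1c7c453b1) (.leaf (nat_lit 0x100d1c7c2dd8f) (nat_lit 1543))
 (.node (nat_lit 0x100d1d062d998) (.leaf (nat_lit 0x100d1c7c453b1) (nat_lit 1543))
 (.leaf (nat_lit 0x100d1d062d998) (nat_lit 1281))
)))))) (.node (nat_lit 0x100d1f382d1bb) (.node (nat_lit 0x100d1e0645a9b) (.node (nat_lit 0x100d1d5445717) (.node (nat_lit 0x100d1d3c45735) (.node (nat_lit 0x100d1d3c2d9ab) (.leaf (nat_lit 0x100d1d064571b) (nat_lit 1281))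
 (.leaf (nat_lit 0x100d1d3c2d9ab) (nat_lit 1538))
) (.node (nat_lit 0x100d1d542d9bd) (.leaf (nat_lit 0x100d1d3c45735) (nat_lit 1538))
 (.leaf (nat_lit 0x100d1d542d9bd) (nat_lit 1799))
)) (.node (nat_lit 0x100d1d6e45739) (.node (nat_lit 0x100d1d6e2d98e) (.leaf (nat_lit 0x100d1d5445717) (nat_lit 1538))
 (.leaf (nat_lit 0x100d1d6e2d98e) (nat_lit 1536))
) (.node (nat_lit 0x100d1e062d598) (.leaf (nat_lit 0x100d1d6e45739) (nat_lit 1287))
 (.leaf (nat_lit 0x100d1e062d598) (nat_lit 1030))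
))) (.node (nat_lit 0x100d1e5845aa1) (.node (nat_lit 0x100d1e3a45aae) (.node (nat_lit 0x100d1e3a2d5b3) (.leaf (nat_lit 0x100d1e0645a9b) (nat_lit 1030))
 (.leaf (nat_lit 0x100d1e3a2d5b3) (nat_lit 1282))
) (.node (nat_lit 0x100d1e582d58d) (.leaf (nat_lit 0x100d1e3a45aae) (nat_lit 1282))
 (.leaf (nat_lit 0x100d1e582d58d) (nat_lit 1793))
)) (.node (nat_lit 0x100d1e6445a94) (.node (nat_lit 0x100d1e642d5a6) (.leaf (nat_lit 0x100d1e5845aa1) (nat_lit 1543))
 (.leaf (nat_lit 0x100d1e642d5a6) (nat_lit 1543))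
) (.node (nat_lit 0x100d1f062d198) (.leaf (nat_lit 0x100d1e6445a94) (nat_lit 1537))
 (.node (nat_lit 0x100d1f0645e1b) (.leaf (nat_lit 0x100d1f062d198) (nat_lit 1537))
 (.leaf (nat_lit 0x100d1f0645e1b) (nat_lit 1286))
))))) (.node (nat_lit 0x100d22382da3b) (.node (nat_lit 0x100d1f742d1af) (.node (nat_lit 0x100d1f4a2d18c) (.node (nat_lit 0x100d1f3845e27) (.leaf (nat_lit 0x100d1f382d1bb) (nat_lit 1794))
 (.leaf (nat_lit 0x100d1f3845e27) (nat_lit 1538))
) (.node (nat_lit 0x100d1f4a45e29) (.leaf (nat_lit 0x100d1f4a2d18c) (nat_lit 1280))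
 (.leaf (nat_lit 0x100d1f4a45e29) (nat_lit 1031))
)) (.node (nat_lit 0x100d22202da12) (.node (nat_lit 0x100d1f7445e15) (.leaf (nat_lit 0x100d1f742d1af) (nat_lit 1538))
 (.leaf (nat_lit 0x100d1f7445e15) (nat_lit 1282))
) (.node (nat_lit 0x100d222044b02) (.leaf (nat_lit 0x100d22202da12) (nat_lit 1280))
 (.leaf (nat_lit 0x100d222044b02) (nat_lit 1030))
))) (.node (nat_lit 0x100d227c2da0f) (.node (nat_lit 0x100d22642da26) (.node (nat_lit 0x100d223844b27) (.leaf (nat_lit 0x100d22382da3b) (nat_lit 1792))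
 (.leaf (nat_lit 0x100d223844b27) (nat_lit 1543))
) (.node (nat_lit 0x100d226444b14) (.leaf (nat_lit 0x100d22642da26) (nat_lit 1538))
 (.leaf (nat_lit 0x100d226444b14) (nat_lit 1282))
)) (.node (nat_lit 0x100d25122c601) (.node (nat_lit 0x100d227c44b31) (.leaf (nat_lit 0x100d227c2da0f) (nat_lit 1799))
 (.leaf (nat_lit 0x100d227c44b31) (nat_lit 1543))
) (.node (nat_lit 0x100d251245488) (.leaf (nat_lit 0x100d25122c601) (nat_lit 1286))
 (.node (nat_lit 0x100d253e2c623) (.leaf (nat_lit 0x100d251245488) (nat_lit 1025))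
 (.leaf (nat_lit 0x100d253e2c623) (nat_lit 1543))
))))))) (.node (nat_lit 0x100d375445c97) (.node (nat_lit 0x100d2c4a2c68c) (.node (nat_lit 0x100d2a3a44bae) (.node (nat_lit 0x100d257445495) (.node (nat_lit 0x100d2558454a1) (.node (nat_lit 0x100d25582c60d) (.leaf (nat_lit 0x100d253e454bc) (nat_lit 1792))
 (.leaf (nat_lit 0x100d25582c60d) (nat_lit 1538))
) (.node (nat_lit 0x100d25742c62f) (.leaf (nat_lit 0x100d2558454a1) (nat_lit 1282))
 (.leaf (nat_lit 0x100d25742c62f) (nat_lit 1799))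
)) (.node (nat_lit 0x100d2a2044b82) (.node (nat_lit 0x100d2a202de92) (.leaf (nat_lit 0x100d257445495) (nat_lit 1537))
 (.leaf (nat_lit 0x100d2a202de92) (nat_lit 1281))
) (.node (nat_lit 0x100d2a3a2deb3) (.leaf (nat_lit 0x100d2a2044b82) (nat_lit 1025))
 (.leaf (nat_lit 0x100d2a3a2deb3) (nat_lit 1794))
))) (.node (nat_lit 0x100d2a7444b95) (.node (nat_lit 0x100d2a6e44bb9) (.node (nat_lit 0x100d2a6e2de8e) (.leaf (nat_lit 0x100d2a3a44bae) (nat_lit 1798))
 (.leaf (nat_lit 0x100d2a6e2de8e) (nat_lit 1543))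
) (.node (nat_lit 0x100d2a742deaf) (.leaf (nat_lit 0x100d2a6e44bb9) (nat_lit 1537))
 (.leaf (nat_lit 0x100d2a742deaf) (nat_lit 1538))
)) (.node (nat_lit 0x100d2c1245088) (.node (nat_lit 0x100d2c122c681) (.leaf (nat_lit 0x100d2a7444b95) (nat_lit 1282))
 (.leaf (nat_lit 0x100d2c122c681) (nat_lit 1024))
) (.node (nat_lit 0x100d2c3c2c6ab) (.leaf (nat_lit 0x100d2c1245088) (nat_lit 774))
 (.node (nat_lit 0x100d2c3c450b5) (.leaf (nat_lit 0x100d2c3c2c6ab) (nat_lit 1794))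
 (.leaf (nat_lit 0x100d2c3c450b5) (nat_lit 1538))
))))) (.node (nat_lit 0x100d32442d334) (.node (nat_lit 0x100d32202d312) (.node (nat_lit 0x100d2c642c6a6) (.node (nat_lit 0x100d2c4a450a9) (.leaf (nat_lit 0x100d2c4a2c68c) (nat_lit 1282))
 (.leaf (nat_lit 0x100d2c4a450a9) (nat_lit 1026))
) (.node (nat_lit 0x100d2c6445094) (.leaf (nat_lit 0x100d2c642c6a6) (nat_lit 1536))
 (.leaf (nat_lit 0x100d2c6445094) (nat_lit 1287))
)) (.node (nat_lit 0x100d323c2d32b) (.node (nat_lit 0x100d322044a02) (.leaf (nat_lit 0x100d32202d312) (nat_lit 1542))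
 (.leaf (nat_lit 0x100d322044a02) (nat_lit 1281))
) (.node (nat_lit 0x100d323c44a35) (.leaf (nat_lit 0x100d323c2d32b) (nat_lit 1794))
 (.leaf (nat_lit 0x100d323c44a35) (nat_lit 1793))
))) (.node (nat_lit 0x100d37122c701) (.node (nat_lit 0x100d32582d30d) (.node (nat_lit 0x100d324444a16) (.leaf (nat_lit 0x100d32442d334) (nat_lit 1794))
 (.leaf (nat_lit 0x100d324444a16) (nat_lit 1538))
) (.node (nat_lit 0x100d325844a21) (.leaf (nat_lit 0x100d32582d30d) (nat_lit 1543))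
 (.leaf (nat_lit 0x100d325844a21) (nat_lit 1792))
)) (.node (nat_lit 0x100d373a2c733) (.node (nat_lit 0x100d371245c88) (.leaf (nat_lit 0x100d37122c701) (nat_lit 1025))
 (.leaf (nat_lit 0x100d371245c88) (nat_lit 769))
) (.node (nat_lit 0x100d373a45cae) (.leaf (nat_lit 0x100d373a2c733) (nat_lit 1799))
 (.node (nat_lit 0x100d37542c73d) (.leaf (nat_lit 0x100d373a45cae) (nat_lit 1542))
 (.leaf (nat_lit 0x100d37542c73d) (nat_lit 1792))
)))))) (.node (nat_lit 0x100d3e6e2c78e) (.node (nat_lit 0x100d3a4a44aa9) (.node (nat_lit 0x100d3a2044a82) (.node (nat_lit 0x100d377c45cb1) (.node (nat_lit 0x100d377c2c70f) (.leaf (nat_lit 0x100d375445c97) (nat_lit 1543))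
 (.leaf (nat_lit 0x100d377c2c70f) (nat_lit 1282))
) (.node (nat_lit 0x100d3a202d792) (.leaf (nat_lit 0x100d377c45cb1) (nat_lit 1026))
 (.leaf (nat_lit 0x100d3a202d792) (nat_lit 1024))
)) (.node (nat_lit 0x100d3a3e44abc) (.node (nat_lit 0x100d3a3e2d7a3) (.leaf (nat_lit 0x100d3a2044a82) (nat_lit 774))
 (.leaf (nat_lit 0x100d3a3e2d7a3) (nat_lit 1538))
) (.node (nat_lit 0x100d3a4a2d78c) (.leaf (nat_lit 0x100d3a3e44abc) (nat_lit 1543))
 (.leaf (nat_lit 0x100d3a4a2d78c) (nat_lit 1287))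
))) (.node (nat_lit 0x100d3e1245888) (.node (nat_lit 0x100d3a5444a97) (.node (nat_lit 0x100d3a542d7bd) (.leaf (nat_lit 0x100d3a4a44aa9) (nat_lit 1281))
 (.leaf (nat_lit 0x100d3a542d7bd) (nat_lit 1282))
) (.node (nat_lit 0x100d3e122c781) (.leaf (nat_lit 0x100d3a5444a97) (nat_lit 1026))
 (.leaf (nat_lit 0x100d3e122c781) (nat_lit 768))
)) (.node (nat_lit 0x100d3e38458a7) (.node (nat_lit 0x100d3e382c7bb) (.leaf (nat_lit 0x100d3e1245888) (nat_lit 518))
 (.leaf (nat_lit 0x100d3e382c7bb) (nat_lit 1799))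
) (.node (nat_lit 0x100d3e442c7b4) (.leaf (nat_lit 0x100d3e38458a7) (nat_lit 1793))
 (.node (nat_lit 0x100d3e4445896) (.leaf (nat_lit 0x100d3e442c7b4) (nat_lit 1792))
 (.leaf (nat_lit 0x100d3e4445896) (nat_lit 1543))
))))) (.node (nat_lit 0x101008721008e) (.node (nat_lit 0x1010083010083) (.node (nat_lit 0x1010082010082) (.node (nat_lit 0x100d3e6e458b9) (.leaf (nat_lit 0x100d3e6e2c78e) (nat_lit 1026))
 (.leaf (nat_lit 0x100d3e6e458b9) (nat_lit 770))
) (.node (nat_lit 0x1010082090492) (.leaf (nat_lit 0x1010082010082) (nat_lit 769))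
 (.leaf (nat_lit 0x1010082090492) (nat_lit 1025))
)) (.node (nat_lit 0x101008621008f) (.node (nat_lit 0x101008309049b) (.leaf (nat_lit 0x1010083010083) (nat_lit 513))
 (.leaf (nat_lit 0x101008309049b) (nat_lit 769))
) (.node (nat_lit 0x10100862904be) (.leaf (nat_lit 0x101008621008f) (nat_lit 1281))
 (.leaf (nat_lit 0x10100862904be) (nat_lit 1281))
))) (.node (nat_lit 0x10100d4e1163b) (.node (nat_lit 0x10100d4c11632) (.node (nat_lit 0x10100872904b7) (.leaf (nat_lit 0x101008721008e) (nat_lit 1025))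
 (.leaf (nat_lit 0x10100872904b7) (nat_lit 1281))
) (.node (nat_lit 0x10100d4c91094) (.leaf (nat_lit 0x10100d4c11632) (nat_lit 1282))
 (.leaf (nat_lit 0x10100d4c91094) (nat_lit 1538))
)) (.node (nat_lit 0x10100d5411617) (.node (nat_lit 0x10100d4e9109c) (.leaf (nat_lit 0x10100d4e1163b) (nat_lit 1538))
 (.leaf (nat_lit 0x10100d4e9109c) (nat_lit 1794))
) (.node (nat_lit 0x10100d54910bd) (.leaf (nat_lit 0x10100d5411617) (nat_lit 1287))
 (.node (nat_lit 0x10100d561161e) (.leaf (nat_lit 0x10100d54910bd) (nat_lit 1536))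
 (.leaf (nat_lit 0x10100d561161e) (nat_lit 1031))
)))))))) (.node (nat_lit 0x10102b3010f03) (.node (nat_lit 0x1010252c114b4) (.node (nat_lit 0x101016669112e) (.node (nat_lit 0x101010749092f) (.node (nat_lit 0x101010309091b) (.node (nat_lit 0x1010101090909) (.node (nat_lit 0x1010101010101) (.leaf (nat_lit 0x10100d56910b5) (nat_lit 1280))
 (.leaf (nat_lit 0x1010101010101) (nat_lit 0))
) (.node (nat_lit 0x1010103010103) (.leaf (nat_lit 0x1010101090909) (nat_lit 256))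
 (.leaf (nat_lit 0x1010103010103) (nat_lit 258))
)) (.node (nat_lit 0x101010549093d) (.node (nat_lit 0x1010105410117) (.leaf (nat_lit 0x101010309091b) (nat_lit 514))
 (.leaf (nat_lit 0x1010105410117) (nat_lit 1537))
) (.node (nat_lit 0x1010107410115) (.leaf (nat_lit 0x101010549093d) (nat_lit 1793))
 (.leaf (nat_lit 0x1010107410115) (nat_lit 1793))
))) (.node (nat_lit 0x1010164e9111c) (.node (nat_lit 0x1010164a9110c) (.node (nat_lit 0x1010164a11a29) (.leaf (nat_lit 0x101010749092f) (nat_lit 1793))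
 (.leaf (nat_lit 0x1010164a11a29) (nat_lit 1286))
) (.node (nat_lit 0x1010164e11a3b) (.leaf (nat_lit 0x1010164a9110c) (nat_lit 1286))
 (.leaf (nat_lit 0x1010164e11a3b) (nat_lit 1282))
)) (.node (nat_lit 0x101016629113e) (.node (nat_lit 0x1010166211a0f) (.leaf (nat_lit 0x1010164e9111c) (nat_lit 1538))
 (.leaf (nat_lit 0x1010166211a0f) (nat_lit 1031))
) (.node (nat_lit 0x1010166611a1d) (.leaf (nat_lit 0x101016629113e) (nat_lit 1281))
 (.leaf (nat_lit 0x1010166611a1d) (nat_lit 1287))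
)))) (.node (nat_lit 0x1010186690dae) (.node (nat_lit 0x1010182090d92) (.node (nat_lit 0x1010181090d89) (.node (nat_lit 0x1010181010181) (.leaf (nat_lit 0x101016669112e) (nat_lit 1537))
 (.leaf (nat_lit 0x1010181010181) (nat_lit 257))
) (.node (nat_lit 0x1010182010182) (.leaf (nat_lit 0x1010181090d89) (nat_lit 513))
 (.leaf (nat_lit 0x1010182010182) (nat_lit 514))
)) (.node (nat_lit 0x1010185690db5) (.node (nat_lit 0x101018561019e) (.leaf (nat_lit 0x1010182090d92) (nat_lit 770))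
 (.leaf (nat_lit 0x101018561019e) (nat_lit 1281))
) (.node (nat_lit 0x101018661019d) (.leaf (nat_lit 0x1010185690db5) (nat_lit 1537))
 (.leaf (nat_lit 0x101018661019d) (nat_lit 1537))
))) (.node (nat_lit 0x10101f4c91194) (.node (nat_lit 0x10101f4a9118c) (.node (nat_lit 0x10101f4a11e29) (.leaf (nat_lit 0x1010186690dae) (nat_lit 1537))
 (.leaf (nat_lit 0x10101f4a11e29) (nat_lit 1542))
) (.node (nat_lit 0x10101f4c11e32) (.leaf (nat_lit 0x10101f4a9118c) (nat_lit 1542))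
 (.leaf (nat_lit 0x10101f4c11e32) (nat_lit 1026))
)) (.node (nat_lit 0x10101f72911b7) (.node (nat_lit 0x10101f7211e0e) (.leaf (nat_lit 0x10101f4c91194) (nat_lit 1282))
 (.leaf (nat_lit 0x10101f7211e0e) (nat_lit 775))
) (.node (nat_lit 0x10101f7411e15) (.leaf (nat_lit 0x10101f72911b7) (nat_lit 1024))
 (.node (nat_lit 0x10101f74911af) (.leaf (nat_lit 0x10101f7411e15) (nat_lit 1543))
 (.leaf (nat_lit 0x10101f74911af) (nat_lit 1793))
)))))) (.node (nat_lit 0x1010271a90e21) (.node (nat_lit 0x1010261a1192c) (.node (nat_lit 0x101025661149d) (.node (nat_lit 0x1010253e114bc) (.node (nat_lit 0x1010252c90622) (.leaf (nat_lit 0x1010252c114b4) (nat_lit 1794))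
 (.leaf (nat_lit 0x1010252c90622) (nat_lit 1538))
) (.node (nat_lit 0x1010253e90623) (.leaf (nat_lit 0x1010253e114bc) (nat_lit 1798))
 (.leaf (nat_lit 0x1010253e90623) (nat_lit 1794))
)) (.node (nat_lit 0x1010257411495) (.node (nat_lit 0x101025669062e) (.leaf (nat_lit 0x101025661149d) (nat_lit 1536))
 (.leaf (nat_lit 0x101025669062e) (nat_lit 1287))
) (.node (nat_lit 0x101025749062f) (.leaf (nat_lit 0x1010257411495) (nat_lit 1792))
 (.leaf (nat_lit 0x101025749062f) (nat_lit 1543))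
))) (.node (nat_lit 0x101026561191e) (.node (nat_lit 0x1010263e1193c) (.node (nat_lit 0x1010261a90a21) (.leaf (nat_lit 0x1010261a1192c) (nat_lit 1286))
 (.leaf (nat_lit 0x1010261a90a21) (nat_lit 1542))
) (.node (nat_lit 0x1010263e90a23) (.leaf (nat_lit 0x1010263e1193c) (nat_lit 1282))
 (.leaf (nat_lit 0x1010263e90a23) (nat_lit 1282))
)) (.node (nat_lit 0x101026721190e) (.node (nat_lit 0x1010265690a35) (.leaf (nat_lit 0x101026561191e) (nat_lit 1281))
 (.leaf (nat_lit 0x1010265690a35) (nat_lit 1287))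
) (.node (nat_lit 0x1010267290a37) (.leaf (nat_lit 0x101026721190e) (nat_lit 1025))
 (.node (nat_lit 0x1010271a11dac) (.leaf (nat_lit 0x1010267290a37) (nat_lit 1031))
 (.leaf (nat_lit 0x1010271a11dac) (nat_lit 1542))
))))) (.node (nat_lit 0x10102a1a91ea1) (.node (nat_lit 0x1010275490e3d) (.node (nat_lit 0x1010272c90e22) (.node (nat_lit 0x1010272c11db4) (.leaf (nat_lit 0x1010271a90e21) (nat_lit 1798))
 (.leaf (nat_lit 0x1010272c11db4) (nat_lit 1538))
) (.node (nat_lit 0x1010275411d97) (.leaf (nat_lit 0x1010272c90e22) (nat_lit 1282))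
 (.leaf (nat_lit 0x1010275411d97) (nat_lit 1537))
)) (.node (nat_lit 0x1010276290e3e) (.node (nat_lit 0x1010276211d8f) (.leaf (nat_lit 0x1010275490e3d) (nat_lit 1543))
 (.leaf (nat_lit 0x1010276211d8f) (nat_lit 1280))
) (.node (nat_lit 0x10102a1a10bac) (.leaf (nat_lit 0x1010276290e3e) (nat_lit 1031))
 (.leaf (nat_lit 0x10102a1a10bac) (nat_lit 1542))
))) (.node (nat_lit 0x10102a4e91e9c) (.node (nat_lit 0x10102a2091e92) (.node (nat_lit 0x10102a2010b82) (.leaf (nat_lit 0x10102a1a91ea1) (nat_lit 1798))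
 (.leaf (nat_lit 0x10102a2010b82) (nat_lit 1287))
) (.node (nat_lit 0x10102a4e10bbb) (.leaf (nat_lit 0x10102a2091e92) (nat_lit 1287))
 (.leaf (nat_lit 0x10102a4e10bbb) (nat_lit 1793))
)) (.node (nat_lit 0x10102a7491eaf) (.node (nat_lit 0x10102a7410b95) (.leaf (nat_lit 0x10102a4e91e9c) (nat_lit 1798))
 (.leaf (nat_lit 0x10102a7410b95) (nat_lit 1538))
) (.node (nat_lit 0x10102b1a10f2c) (.leaf (nat_lit 0x10102a7491eaf) (nat_lit 1538))
 (.node (nat_lit 0x10102b1a91aa1) (.leaf (nat_lit 0x10102b1a10f2c) (nat_lit 1542))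
 (.leaf (nat_lit 0x10102b1a91aa1) (nat_lit 1793))
))))))) (.node (nat_lit 0x10103a4a10aa9) (.node (nat_lit 0x101033309171b) (.node (nat_lit 0x1010312c107b4) (.node (nat_lit 0x10102b6610f1d) (.node (nat_lit 0x10102b4c10f32) (.node (nat_lit 0x10102b3091a9b) (.leaf (nat_lit 0x10102b3010f03) (nat_lit 1031))
 (.leaf (nat_lit 0x10102b3091a9b) (nat_lit 1031))
) (.node (nat_lit 0x10102b4c91a94) (.leaf (nat_lit 0x10102b4c10f32) (nat_lit 1537))
 (.leaf (nat_lit 0x10102b4c91a94) (nat_lit 1793))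
)) (.node (nat_lit 0x1010311010781) (.node (nat_lit 0x10102b6691aae) (.leaf (nat_lit 0x10102b6610f1d) (nat_lit 1282))
 (.leaf (nat_lit 0x10102b6691aae) (nat_lit 1282))
) (.node (nat_lit 0x1010311091f09) (.leaf (nat_lit 0x1010311010781) (nat_lit 519))
 (.leaf (nat_lit 0x1010311091f09) (nat_lit 768))
))) (.node (nat_lit 0x101031721078e) (.node (nat_lit 0x1010314e107bb) (.node (nat_lit 0x1010312c91f22) (.leaf (nat_lit 0x1010312c107b4) (nat_lit 1793))
 (.leaf (nat_lit 0x1010312c91f22) (nat_lit 1537))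
) (.node (nat_lit 0x1010314e91f1c) (.leaf (nat_lit 0x1010314e107bb) (nat_lit 1537))
 (.leaf (nat_lit 0x1010314e91f1c) (nat_lit 1793))
)) (.node (nat_lit 0x1010332c10eb4) (.node (nat_lit 0x1010317291f37) (.leaf (nat_lit 0x101031721078e) (nat_lit 770))
 (.leaf (nat_lit 0x1010317291f37) (nat_lit 1026))
) (.node (nat_lit 0x1010332c91722) (.leaf (nat_lit 0x1010332c10eb4) (nat_lit 1794))
 (.node (nat_lit 0x1010333010e83) (.leaf (nat_lit 0x1010332c91722) (nat_lit 1793))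
 (.leaf (nat_lit 0x1010333010e83) (nat_lit 775))
))))) (.node (nat_lit 0x1010393e91ba3) (.node (nat_lit 0x1010335691735) (.node (nat_lit 0x1010334a9170c) (.node (nat_lit 0x1010334a10ea9) (.leaf (nat_lit 0x101033309171b) (nat_lit 1024))
 (.leaf (nat_lit 0x1010334a10ea9) (nat_lit 1537))
) (.node (nat_lit 0x1010335610e9e) (.leaf (nat_lit 0x1010334a9170c) (nat_lit 1537))
 (.leaf (nat_lit 0x1010335610e9e) (nat_lit 1026))
)) (.node (nat_lit 0x1010391091b89) (.node (nat_lit 0x1010391010701) (.leaf (nat_lit 0x1010335691735) (nat_lit 1282))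
 (.leaf (nat_lit 0x1010391010701) (nat_lit 775))
) (.node (nat_lit 0x1010393e1073c) (.leaf (nat_lit 0x1010391091b89) (nat_lit 775))
 (.leaf (nat_lit 0x1010393e1073c) (nat_lit 1537))
))) (.node (nat_lit 0x1010396291bbe) (.node (nat_lit 0x1010394c91b94) (.node (nat_lit 0x1010394c10732) (.leaf (nat_lit 0x1010393e91ba3) (nat_lit 1537))
 (.leaf (nat_lit 0x1010394c10732) (nat_lit 1281))
) (.node (nat_lit 0x101039621070f) (.leaf (nat_lit 0x1010394c91b94) (nat_lit 1537))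
 (.leaf (nat_lit 0x101039621070f) (nat_lit 1026))
)) (.node (nat_lit 0x10103a2091792) (.node (nat_lit 0x10103a2010a82) (.leaf (nat_lit 0x1010396291bbe) (nat_lit 1026))
 (.leaf (nat_lit 0x10103a2010a82) (nat_lit 1031))
) (.node (nat_lit 0x10103a3e10abc) (.leaf (nat_lit 0x10103a2091792) (nat_lit 1280))
 (.node (nat_lit 0x10103a3e917a3) (.leaf (nat_lit 0x10103a3e10abc) (nat_lit 1798))
 (.leaf (nat_lit 0x10103a3e917a3) (nat_lit 1794))
)))))) (.node (nat_lit 0x10120c5c812b3) (.node (nat_lit 0x1012096e1008e) (.node (nat_lit 0x1012092410082) (.node (nat_lit 0x10103a5410a97) (.node (nat_lit 0x10103a4a9178c) (.leaf (nat_lit 0x10103a4a10aa9) (nat_lit 1542))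
 (.leaf (nat_lit 0x10103a4a9178c) (nat_lit 1542))
) (.node (nat_lit 0x10103a54917bd) (.leaf (nat_lit 0x10103a5410a97) (nat_lit 1282))
 (.leaf (nat_lit 0x10103a54917bd) (nat_lit 1538))
)) (.node (nat_lit 0x1012093610083) (.node (nat_lit 0x1012092480410) (.leaf (nat_lit 0x1012092410082) (nat_lit 1285))
 (.leaf (nat_lit 0x1012092480410) (nat_lit 1028))
) (.node (nat_lit 0x1012093680418) (.leaf (nat_lit 0x1012093610083) (nat_lit 1029))
 (.leaf (nat_lit 0x1012093680418) (nat_lit 772))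
))) (.node (nat_lit 0x10120c44114b4) (.node (nat_lit 0x1012097c1008f) (.node (nat_lit 0x1012096e80439) (.leaf (nat_lit 0x1012096e1008e) (nat_lit 1537))
 (.leaf (nat_lit 0x1012096e80439) (nat_lit 1281))
) (.node (nat_lit 0x1012097c80431) (.leaf (nat_lit 0x1012097c1008f) (nat_lit 1537))
 (.leaf (nat_lit 0x1012097c80431) (nat_lit 1537))
)) (.node (nat_lit 0x10120c46114bc) (.node (nat_lit 0x10120c4481296) (.leaf (nat_lit 0x10120c44114b4) (nat_lit 1794))
 (.leaf (nat_lit 0x10120c4481296) (nat_lit 1542))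
) (.node (nat_lit 0x10120c468129f) (.leaf (nat_lit 0x10120c46114bc) (nat_lit 1798))
 (.node (nat_lit 0x10120c5c1149d) (.leaf (nat_lit 0x10120c468129f) (nat_lit 1542))
 (.leaf (nat_lit 0x10120c5c1149d) (nat_lit 1543))
))))) (.node (nat_lit 0x1012125e8083a) (.node (nat_lit 0x1012121280808) (.node (nat_lit 0x10120c5e812ba) (.node (nat_lit 0x10120c5e11495) (.leaf (nat_lit 0x10120c5c812b3) (nat_lit 1792))
 (.leaf (nat_lit 0x10120c5e11495) (nat_lit 1799))
) (.node (nat_lit 0x1012121210101) (.leaf (nat_lit 0x10120c5e812ba) (nat_lit 1542))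
 (.leaf (nat_lit 0x1012121210101) (nat_lit 517))
)) (.node (nat_lit 0x1012123680818) (.node (nat_lit 0x1012123610103) (.leaf (nat_lit 0x1012121280808) (nat_lit 260))
 (.leaf (nat_lit 0x1012123610103) (nat_lit 773))
) (.node (nat_lit 0x1012125e10115) (.leaf (nat_lit 0x1012123680818) (nat_lit 516))
 (.leaf (nat_lit 0x1012125e10115) (nat_lit 2049))
))) (.node (nat_lit 0x101214428130d) (.node (nat_lit 0x1012127a8082a) (.node (nat_lit 0x1012127a10117) (.leaf (nat_lit 0x1012125e8083a) (nat_lit 1798))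
 (.leaf (nat_lit 0x1012127a10117) (nat_lit 2055))
) (.node (nat_lit 0x101214421192c) (.leaf (nat_lit 0x1012127a8082a) (nat_lit 1793))
 (.leaf (nat_lit 0x101214421192c) (nat_lit 1286))
)) (.node (nat_lit 0x101214468131f) (.node (nat_lit 0x101214461193c) (.leaf (nat_lit 0x101214428130d) (nat_lit 1030))
 (.leaf (nat_lit 0x101214461193c) (nat_lit 1542))
) (.node (nat_lit 0x1012146a1191e) (.leaf (nat_lit 0x101214468131f) (nat_lit 1286))
 (.node (nat_lit 0x1012146a8132b) (.leaf (nat_lit 0x1012146a1191e) (nat_lit 1538))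
 (.leaf (nat_lit 0x1012146a8132b) (nat_lit 1282))
))))))))) (.node (nat_lit 0x10141e62b55be) (.node (nat_lit 0x1012371281c88) (.node (nat_lit 0x1012227c80b31) (.node (nat_lit 0x10121c7c11d8f) (.node (nat_lit 0x10121b6a1019e) (.node (nat_lit 0x10121b2410182) (.node (nat_lit 0x10121b1210181) (.node (nat_lit 0x1012146e81339) (.leaf (nat_lit 0x1012146e1190e) (nat_lit 1287))
 (.leaf (nat_lit 0x1012146e81339) (nat_lit 1281))
) (.node (nat_lit 0x10121b1280c08) (.leaf (nat_lit 0x10121b1210181) (nat_lit 773))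
 (.leaf (nat_lit 0x10121b1280c08) (nat_lit 516))
)) (.node (nat_lit 0x10121b5c1019d) (.node (nat_lit 0x10121b2480c10) (.leaf (nat_lit 0x10121b2410182) (nat_lit 1029))
 (.leaf (nat_lit 0x10121b2480c10) (nat_lit 772))
) (.node (nat_lit 0x10121b5c80c33) (.leaf (nat_lit 0x10121b5c1019d) (nat_lit 1793))
 (.leaf (nat_lit 0x10121b5c80c33) (nat_lit 1542))
))) (.node (nat_lit 0x10121c4411db4) (.node (nat_lit 0x10121c4211dac) (.node (nat_lit 0x10121b6a80c2b) (.leaf (nat_lit 0x10121b6a1019e) (nat_lit 1793))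
 (.leaf (nat_lit 0x10121b6a80c2b) (nat_lit 1537))
) (.node (nat_lit 0x10121c428138d) (.leaf (nat_lit 0x10121c4211dac) (nat_lit 1542))
 (.leaf (nat_lit 0x10121c428138d) (nat_lit 1286))
)) (.node (nat_lit 0x10121c7a11d97) (.node (nat_lit 0x10121c4481396) (.leaf (nat_lit 0x10121c4411db4) (nat_lit 1538))
 (.leaf (nat_lit 0x10121c4481396) (nat_lit 1542))
) (.node (nat_lit 0x10121c7a813aa) (.leaf (nat_lit 0x10121c7a11d97) (nat_lit 1794))
 (.leaf (nat_lit 0x10121c7a813aa) (nat_lit 1538))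
)))) (.node (nat_lit 0x1012217a11617) (.node (nat_lit 0x101221381163b) (.node (nat_lit 0x1012212811632) (.node (nat_lit 0x10121c7c813b1) (.leaf (nat_lit 0x10121c7c11d8f) (nat_lit 1287))
 (.leaf (nat_lit 0x10121c7c813b1) (nat_lit 1536))
) (.node (nat_lit 0x10122128806a6) (.leaf (nat_lit 0x1012212811632) (nat_lit 1795))
 (.leaf (nat_lit 0x10122128806a6) (nat_lit 1538))
)) (.node (nat_lit 0x1012216a1161e) (.node (nat_lit 0x10122138806a7) (.leaf (nat_lit 0x101221381163b) (nat_lit 1798))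
 (.leaf (nat_lit 0x10122138806a7) (nat_lit 1794))
) (.node (nat_lit 0x1012216a806ab) (.leaf (nat_lit 0x1012216a1161e) (nat_lit 1536))
 (.leaf (nat_lit 0x1012216a806ab) (nat_lit 1287))
))) (.node (nat_lit 0x1012223811a3b) (.node (nat_lit 0x1012221811a29) (.node (nat_lit 0x1012217a806aa) (.leaf (nat_lit 0x1012217a11617) (nat_lit 1792))
 (.leaf (nat_lit 0x1012217a806aa) (nat_lit 1543))
) (.node (nat_lit 0x1012221880b25) (.leaf (nat_lit 0x1012221811a29) (nat_lit 1286))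
 (.leaf (nat_lit 0x1012221880b25) (nat_lit 1286))
)) (.node (nat_lit 0x1012225c11a1d) (.node (nat_lit 0x1012223880b27) (.leaf (nat_lit 0x1012223811a3b) (nat_lit 1542))
 (.leaf (nat_lit 0x1012223880b27) (nat_lit 1538))
) (.node (nat_lit 0x1012225c80b33) (.leaf (nat_lit 0x1012225c11a1d) (nat_lit 1538))
 (.node (nat_lit 0x1012227c11a0f) (.leaf (nat_lit 0x1012225c80b33) (nat_lit 1543))
 (.leaf (nat_lit 0x1012227c11a0f) (nat_lit 1537))
)))))) (.node (nat_lit 0x10122f1810aa9) (.node (nat_lit 0x1012236e80fb9) (.node (nat_lit 0x1012232880fa6) (.node (nat_lit 0x1012231880fa5) (.node (nat_lit 0x1012231811e29) (.leaf (nat_lit 0x1012227c80b31) (nat_lit 1287))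
 (.leaf (nat_lit 0x1012231811e29) (nat_lit 1542))
) (.node (nat_lit 0x1012232811e32) (.leaf (nat_lit 0x1012231880fa5) (nat_lit 1542))
 (.leaf (nat_lit 0x1012232811e32) (nat_lit 1538))
)) (.node (nat_lit 0x1012235e80fba) (.node (nat_lit 0x1012235e11e15) (.leaf (nat_lit 0x1012232880fa6) (nat_lit 1282))
 (.leaf (nat_lit 0x1012235e11e15) (nat_lit 1798))
) (.node (nat_lit 0x1012236e11e0e) (.leaf (nat_lit 0x1012235e80fba) (nat_lit 1798))
 (.leaf (nat_lit 0x1012236e11e0e) (nat_lit 1280))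
))) (.node (nat_lit 0x10122e3681998) (.node (nat_lit 0x10122e18819a5) (.node (nat_lit 0x10122e1810ea9) (.leaf (nat_lit 0x1012236e80fb9) (nat_lit 1031))
 (.leaf (nat_lit 0x10122e1810ea9) (nat_lit 1537))
) (.node (nat_lit 0x10122e3610e83) (.leaf (nat_lit 0x10122e18819a5) (nat_lit 1537))
 (.leaf (nat_lit 0x10122e3610e83) (nat_lit 1280))
)) (.node (nat_lit 0x10122e4481996) (.node (nat_lit 0x10122e4410eb4) (.leaf (nat_lit 0x10122e3681998) (nat_lit 1031))
 (.leaf (nat_lit 0x10122e4410eb4) (nat_lit 1794))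
) (.node (nat_lit 0x10122e6a10e9e) (.leaf (nat_lit 0x10122e4481996) (nat_lit 1798))
 (.node (nat_lit 0x10122e6a819ab) (.leaf (nat_lit 0x10122e6a10e9e) (nat_lit 1538))
 (.leaf (nat_lit 0x10122e6a819ab) (nat_lit 1282))
))))) (.node (nat_lit 0x1012352810f32) (.node (nat_lit 0x10122f4610abc) (.node (nat_lit 0x10122f2410a82) (.node (nat_lit 0x10122f1881d25) (.leaf (nat_lit 0x10122f1810aa9) (nat_lit 1542))
 (.leaf (nat_lit 0x10122f1881d25) (nat_lit 1542))
) (.node (nat_lit 0x10122f2481d10) (.leaf (nat_lit 0x10122f2410a82) (nat_lit 1536))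
 (.leaf (nat_lit 0x10122f2481d10) (nat_lit 1287))
)) (.node (nat_lit 0x10122f7a10a97) (.node (nat_lit 0x10122f4681d1f) (.leaf (nat_lit 0x10122f4610abc) (nat_lit 1798))
 (.leaf (nat_lit 0x10122f4681d1f) (nat_lit 1542))
) (.node (nat_lit 0x10122f7a81d2a) (.leaf (nat_lit 0x10122f7a10a97) (nat_lit 1799))
 (.leaf (nat_lit 0x10122f7a81d2a) (nat_lit 1538))
))) (.node (nat_lit 0x1012354210f2c) (.node (nat_lit 0x1012353610f03) (.node (nat_lit 0x10123528815a6) (.leaf (nat_lit 0x1012352810f32) (nat_lit 1794))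
 (.leaf (nat_lit 0x10123528815a6) (nat_lit 1538))
) (.node (nat_lit 0x1012353681598) (.leaf (nat_lit 0x1012353610f03) (nat_lit 1287))
 (.leaf (nat_lit 0x1012353681598) (nat_lit 1287))
)) (.node (nat_lit 0x1012355c10f1d) (.node (nat_lit 0x101235428158d) (.leaf (nat_lit 0x1012354210f2c) (nat_lit 1537))
 (.leaf (nat_lit 0x101235428158d) (nat_lit 1286))
) (.node (nat_lit 0x1012355c815b3) (.leaf (nat_lit 0x1012355c10f1d) (nat_lit 1538))
 (.node (nat_lit 0x1012371210701) (.leaf (nat_lit 0x1012355c815b3) (nat_lit 1538))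
 (.leaf (nat_lit 0x1012371210701) (nat_lit 1031))
))))))) (.node (nat_lit 0x10140c46b54bc) (.node (nat_lit 0x10123e38107bb) (.node (nat_lit 0x10123d2481510) (.node (nat_lit 0x1012374681c9f) (.node (nat_lit 0x1012372881ca6) (.node (nat_lit 0x1012372810732) (.leaf (nat_lit 0x1012371281c88) (nat_lit 1031))
 (.leaf (nat_lit 0x1012372810732) (nat_lit 1799))
) (.node (nat_lit 0x101237461073c) (.leaf (nat_lit 0x1012372881ca6) (nat_lit 1537))
 (.leaf (nat_lit 0x101237461073c) (nat_lit 1793))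
)) (.node (nat_lit 0x1012377c81cb1) (.node (nat_lit 0x1012377c1070f) (.leaf (nat_lit 0x1012374681c9f) (nat_lit 1542))
 (.leaf (nat_lit 0x1012377c1070f) (nat_lit 1282))
) (.node (nat_lit 0x10123d2410b82) (.leaf (nat_lit 0x1012377c81cb1) (nat_lit 1282))
 (.leaf (nat_lit 0x10123d2410b82) (nat_lit 1543))
))) (.node (nat_lit 0x10123d428150d) (.node (nat_lit 0x10123d3881527) (.node (nat_lit 0x10123d3810bbb) (.leaf (nat_lit 0x10123d2481510) (nat_lit 1543))
 (.leaf (nat_lit 0x10123d3810bbb) (nat_lit 1794))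
) (.node (nat_lit 0x10123d4210bac) (.leaf (nat_lit 0x10123d3881527) (nat_lit 1538))
 (.leaf (nat_lit 0x10123d4210bac) (nat_lit 1542))
)) (.node (nat_lit 0x10123d5e8153a) (.node (nat_lit 0x10123d5e10b95) (.leaf (nat_lit 0x10123d428150d) (nat_lit 1286))
 (.leaf (nat_lit 0x10123d5e10b95) (nat_lit 1794))
) (.node (nat_lit 0x10123e1210781) (.leaf (nat_lit 0x10123d5e8153a) (nat_lit 1794))
 (.node (nat_lit 0x10123e1281888) (.leaf (nat_lit 0x10123e1210781) (nat_lit 1024))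
 (.leaf (nat_lit 0x10123e1281888) (nat_lit 775))
))))) (.node (nat_lit 0x1014083014083) (.node (nat_lit 0x10123e6e1078e) (.node (nat_lit 0x10123e44107b4) (.node (nat_lit 0x10123e38818a7) (.leaf (nat_lit 0x10123e38107bb) (nat_lit 1793))
 (.leaf (nat_lit 0x10123e38818a7) (nat_lit 1543))
) (.node (nat_lit 0x10123e4481896) (.leaf (nat_lit 0x10123e44107b4) (nat_lit 1793))
 (.leaf (nat_lit 0x10123e4481896) (nat_lit 1798))
)) (.node (nat_lit 0x1014082014082) (.node (nat_lit 0x10123e6e818b9) (.leaf (nat_lit 0x10123e6e1078e) (nat_lit 1282))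
 (.leaf (nat_lit 0x10123e6e818b9) (nat_lit 1026))
) (.node (nat_lit 0x10140820b4492) (.leaf (nat_lit 0x1014082014082) (nat_lit 1027))
 (.leaf (nat_lit 0x10140820b4492) (nat_lit 1283))
))) (.node (nat_lit 0x101408721408e) (.node (nat_lit 0x101408621408f) (.node (nat_lit 0x10140830b449b) (.leaf (nat_lit 0x1014083014083) (nat_lit 771))
 (.leaf (nat_lit 0x10140830b449b) (nat_lit 1027))
) (.node (nat_lit 0x10140862b44be) (.leaf (nat_lit 0x101408621408f) (nat_lit 1281))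
 (.leaf (nat_lit 0x10140862b44be) (nat_lit 1537))
)) (.node (nat_lit 0x10140c4415296) (.node (nat_lit 0x10140872b44b7) (.leaf (nat_lit 0x101408721408e) (nat_lit 1281))
 (.leaf (nat_lit 0x10140872b44b7) (nat_lit 1286))
) (.node (nat_lit 0x10140c44b54b4) (.leaf (nat_lit 0x10140c4415296) (nat_lit 1537))
 (.node (nat_lit 0x10140c461529f) (.leaf (nat_lit 0x10140c44b54b4) (nat_lit 1799))
 (.leaf (nat_lit 0x10140c461529f) (nat_lit 1543))
)))))) (.node (nat_lit 0x1014177215e8e) (.node (nat_lit 0x10141030b491b) (.node (nat_lit 0x10140c5eb5495) (.node (nat_lit 0x10140c5cb549d) (.node (nat_lit 0x10140c5c152b3) (.leaf (nat_lit 0x10140c46b54bc) (nat_lit 1543))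
 (.leaf (nat_lit 0x10140c5c152b3) (nat_lit 1543))
) (.node (nat_lit 0x10140c5e152ba) (.leaf (nat_lit 0x10140c5cb549d) (nat_lit 1798))
 (.leaf (nat_lit 0x10140c5e152ba) (nat_lit 1799))
)) (.node (nat_lit 0x10141010b4909) (.node (nat_lit 0x1014101014101) (.leaf (nat_lit 0x10140c5eb5495) (nat_lit 1794))
 (.leaf (nat_lit 0x1014101014101) (nat_lit 775))
) (.node (nat_lit 0x1014103014103) (.leaf (nat_lit 0x10141010b4909) (nat_lit 1031))
 (.leaf (nat_lit 0x1014103014103) (nat_lit 1025))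
))) (.node (nat_lit 0x10141064b4926) (.node (nat_lit 0x10141044b4934) (.node (nat_lit 0x1014104414116) (.leaf (nat_lit 0x10141030b491b) (nat_lit 1281))
 (.leaf (nat_lit 0x1014104414116) (nat_lit 1537))
) (.node (nat_lit 0x1014106414114) (.leaf (nat_lit 0x10141044b4934) (nat_lit 1793))
 (.leaf (nat_lit 0x1014106414114) (nat_lit 1537))
)) (.node (nat_lit 0x10141758b550d) (.node (nat_lit 0x1014175815ea1) (.leaf (nat_lit 0x10141064b4926) (nat_lit 1793))
 (.leaf (nat_lit 0x1014175815ea1) (nat_lit 1792))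
) (.node (nat_lit 0x1014175c15eb3) (.leaf (nat_lit 0x10141758b550d) (nat_lit 1542))
 (.node (nat_lit 0x1014175cb551d) (.leaf (nat_lit 0x1014175c15eb3) (nat_lit 1538))
 (.leaf (nat_lit 0x1014175cb551d) (nat_lit 1793))
))))) (.node (nat_lit 0x101418461419f) (.node (nat_lit 0x1014181014181) (.node (nat_lit 0x1014177615e9c) (.node (nat_lit 0x10141772b5537) (.leaf (nat_lit 0x1014177215e8e) (nat_lit 1287))
 (.leaf (nat_lit 0x10141772b5537) (nat_lit 1537))
) (.node (nat_lit 0x10141776b5527) (.leaf (nat_lit 0x1014177615e9c) (nat_lit 1543))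
 (.leaf (nat_lit 0x10141776b5527) (nat_lit 1543))
)) (.node (nat_lit 0x1014182014182) (.node (nat_lit 0x10141810b4d89) (.leaf (nat_lit 0x1014181014181) (nat_lit 771))
 (.leaf (nat_lit 0x10141810b4d89) (nat_lit 774))
) (.node (nat_lit 0x10141820b4d92) (.leaf (nat_lit 0x1014182014182) (nat_lit 1027))
 (.leaf (nat_lit 0x10141820b4d92) (nat_lit 1026))
))) (.node (nat_lit 0x10141e5815aa1) (.node (nat_lit 0x101418761419c) (.node (nat_lit 0x10141846b4dbc) (.leaf (nat_lit 0x101418461419f) (nat_lit 1537))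
 (.leaf (nat_lit 0x10141846b4dbc) (nat_lit 1537))
) (.node (nat_lit 0x10141876b4da7) (.leaf (nat_lit 0x101418761419c) (nat_lit 1281))
 (.leaf (nat_lit 0x10141876b4da7) (nat_lit 1537))
)) (.node (nat_lit 0x10141e5e15aba) (.node (nat_lit 0x10141e58b558d) (.leaf (nat_lit 0x10141e5815aa1) (nat_lit 1536))
 (.leaf (nat_lit 0x10141e58b558d) (nat_lit 1286))
) (.node (nat_lit 0x10141e5eb5595) (.leaf (nat_lit 0x10141e5e15aba) (nat_lit 1282))
 (.node (nat_lit 0x10141e6215a8f) (.leaf (nat_lit 0x10141e5eb5595) (nat_lit 1538))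
 (.leaf (nat_lit 0x10141e6215a8f) (nat_lit 1031))
)))))))) (.node (nat_lit 0x10143b2e14e3d) (.node (nat_lit 0x10142e721598e) (.node (nat_lit 0x1014235eb5e15) (.node (nat_lit 0x1014225cb5a1d) (.node (nat_lit 0x10142218b5a29) (.node (nat_lit 0x10141e64b55a6) (.node (nat_lit 0x10141e6415a94) (.leaf (nat_lit 0x10141e62b55be) (nat_lit 1280))
 (.leaf (nat_lit 0x10141e6415a94) (nat_lit 1794))
) (.node (nat_lit 0x1014221814b25) (.leaf (nat_lit 0x10141e64b55a6) (nat_lit 1538))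
 (.leaf (nat_lit 0x1014221814b25) (nat_lit 1281))
)) (.node (nat_lit 0x10142220b5a12) (.node (nat_lit 0x1014222014b02) (.leaf (nat_lit 0x10142218b5a29) (nat_lit 1537))
 (.leaf (nat_lit 0x1014222014b02) (nat_lit 1031))
) (.node (nat_lit 0x1014225c14b33) (.leaf (nat_lit 0x10142220b5a12) (nat_lit 1287))
 (.leaf (nat_lit 0x1014225c14b33) (nat_lit 1538))
))) (.node (nat_lit 0x10142318b5e29) (.node (nat_lit 0x10142264b5a26) (.node (nat_lit 0x1014226414b14) (.leaf (nat_lit 0x1014225cb5a1d) (nat_lit 1798))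
 (.leaf (nat_lit 0x1014226414b14) (nat_lit 1282))
) (.node (nat_lit 0x1014231814fa5) (.leaf (nat_lit 0x10142264b5a26) (nat_lit 1538))
 (.leaf (nat_lit 0x1014231814fa5) (nat_lit 1286))
)) (.node (nat_lit 0x10142330b5e1b) (.node (nat_lit 0x1014233014f83) (.leaf (nat_lit 0x10142318b5e29) (nat_lit 1536))
 (.leaf (nat_lit 0x1014233014f83) (nat_lit 775))
) (.node (nat_lit 0x1014235e14fba) (.leaf (nat_lit 0x10142330b5e1b) (nat_lit 1024))
 (.leaf (nat_lit 0x1014235e14fba) (nat_lit 1538))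
)))) (.node (nat_lit 0x10142c64b46a6) (.node (nat_lit 0x10142c2eb46aa) (.node (nat_lit 0x10142376b5e27) (.node (nat_lit 0x1014237614f9c) (.leaf (nat_lit 0x1014235eb5e15) (nat_lit 1794))
 (.leaf (nat_lit 0x1014237614f9c) (nat_lit 1026))
) (.node (nat_lit 0x10142c2e150bd) (.leaf (nat_lit 0x10142376b5e27) (nat_lit 1282))
 (.leaf (nat_lit 0x10142c2e150bd) (nat_lit 1538))
)) (.node (nat_lit 0x10142c3cb46ab) (.node (nat_lit 0x10142c3c150b5) (.leaf (nat_lit 0x10142c2eb46aa) (nat_lit 1794))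
 (.leaf (nat_lit 0x10142c3c150b5) (nat_lit 1542))
) (.node (nat_lit 0x10142c6415094) (.leaf (nat_lit 0x10142c3cb46ab) (nat_lit 1799))
 (.leaf (nat_lit 0x10142c6415094) (nat_lit 1543))
))) (.node (nat_lit 0x10142e18b4ea9) (.node (nat_lit 0x10142c76b46a7) (.node (nat_lit 0x10142c761509c) (.leaf (nat_lit 0x10142c64b46a6) (nat_lit 1793))
 (.leaf (nat_lit 0x10142c761509c) (nat_lit 1287))
) (.node (nat_lit 0x10142e18159a5) (.leaf (nat_lit 0x10142c76b46a7) (nat_lit 1536))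
 (.leaf (nat_lit 0x10142e18159a5) (nat_lit 1030))
)) (.node (nat_lit 0x10142e2eb4eaa) (.node (nat_lit 0x10142e2e159bd) (.leaf (nat_lit 0x10142e18b4ea9) (nat_lit 1280))
 (.leaf (nat_lit 0x10142e2e159bd) (nat_lit 1538))
) (.node (nat_lit 0x10142e4415996) (.leaf (nat_lit 0x10142e2eb4eaa) (nat_lit 1538))
 (.node (nat_lit 0x10142e44b4eb4) (.leaf (nat_lit 0x10142e4415996) (nat_lit 1282))
 (.leaf (nat_lit 0x10142e44b4eb4) (nat_lit 1538))
)))))) (.node (nat_lit 0x10143172b5f37) (.node (nat_lit 0x10142f6215d0f) (.node (nat_lit 0x10142f3c15d35) (.node (nat_lit 0x10142f1815d25) (.node (nat_lit 0x10142e72b4eb7) (.leaf (nat_lit 0x10142e721598e) (nat_lit 1287))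
 (.leaf (nat_lit 0x10142e72b4eb7) (nat_lit 1287))
) (.node (nat_lit 0x10142f18b4aa9) (.leaf (nat_lit 0x10142f1815d25) (nat_lit 1286))
 (.leaf (nat_lit 0x10142f18b4aa9) (nat_lit 1536))
)) (.node (nat_lit 0x10142f4615d1f) (.node (nat_lit 0x10142f3cb4aab) (.leaf (nat_lit 0x10142f3c15d35) (nat_lit 1537))
 (.leaf (nat_lit 0x10142f3cb4aab) (nat_lit 1538))
) (.node (nat_lit 0x10142f46b4abc) (.leaf (nat_lit 0x10142f4615d1f) (nat_lit 1538))
 (.leaf (nat_lit 0x10142f46b4abc) (nat_lit 1799))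
))) (.node (nat_lit 0x1014313c147b5) (.node (nat_lit 0x1014311014781) (.node (nat_lit 0x10142f62b4abe) (.leaf (nat_lit 0x10142f6215d0f) (nat_lit 1281))
 (.leaf (nat_lit 0x10142f62b4abe) (nat_lit 1287))
) (.node (nat_lit 0x10143110b5f09) (.leaf (nat_lit 0x1014311014781) (nat_lit 775))
 (.leaf (nat_lit 0x10143110b5f09) (nat_lit 1027))
)) (.node (nat_lit 0x1014315e147ba) (.node (nat_lit 0x1014313cb5f2b) (.leaf (nat_lit 0x1014313c147b5) (nat_lit 1286))
 (.leaf (nat_lit 0x1014313cb5f2b) (nat_lit 1536))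
) (.node (nat_lit 0x1014315eb5f15) (.leaf (nat_lit 0x1014315e147ba) (nat_lit 1538))
 (.node (nat_lit 0x101431721478e) (.leaf (nat_lit 0x1014315eb5f15) (nat_lit 1798))
 (.leaf (nat_lit 0x101431721478e) (nat_lit 1026))
))))) (.node (nat_lit 0x10143258b530d) (.node (nat_lit 0x1014323cb532b) (.node (nat_lit 0x10143220b5312) (.node (nat_lit 0x1014322014a02) (.leaf (nat_lit 0x10143172b5f37) (nat_lit 1283))
 (.leaf (nat_lit 0x1014322014a02) (nat_lit 1031))
) (.node (nat_lit 0x1014323c14a35) (.leaf (nat_lit 0x10143220b5312) (nat_lit 1287))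
 (.leaf (nat_lit 0x1014323c14a35) (nat_lit 1798))
)) (.node (nat_lit 0x10143244b5334) (.node (nat_lit 0x1014324414a16) (.leaf (nat_lit 0x1014323cb532b) (nat_lit 1794))
 (.leaf (nat_lit 0x1014324414a16) (nat_lit 1282))
) (.node (nat_lit 0x1014325814a21) (.leaf (nat_lit 0x10143244b5334) (nat_lit 1538))
 (.leaf (nat_lit 0x1014325814a21) (nat_lit 1793))
))) (.node (nat_lit 0x1014392eb5baa) (.node (nat_lit 0x10143910b5b89) (.node (nat_lit 0x1014391014701) (.leaf (nat_lit 0x10143258b530d) (nat_lit 1537))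
 (.leaf (nat_lit 0x1014391014701) (nat_lit 771))
) (.node (nat_lit 0x1014392e1473d) (.leaf (nat_lit 0x10143910b5b89) (nat_lit 1031))
 (.leaf (nat_lit 0x1014392e1473d) (nat_lit 1542))
)) (.node (nat_lit 0x1014395cb5b9d) (.node (nat_lit 0x1014395c14733) (.leaf (nat_lit 0x1014392eb5baa) (nat_lit 1794))
 (.leaf (nat_lit 0x1014395c14733) (nat_lit 1792))
) (.node (nat_lit 0x101439621470f) (.leaf (nat_lit 0x1014395cb5b9d) (nat_lit 1542))
 (.node (nat_lit 0x10143962b5bbe) (.leaf (nat_lit 0x101439621470f) (nat_lit 1027))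
 (.leaf (nat_lit 0x10143962b5bbe) (nat_lit 1282))
))))))) (.node (nat_lit 0x1016955615d35) (.node (nat_lit 0x10168d4ca1632) (.node (nat_lit 0x1016892414082) (.node (nat_lit 0x10143b4614e1f) (.node (nat_lit 0x10143b3014e03) (.node (nat_lit 0x10143b2eb53aa) (.leaf (nat_lit 0x10143b2e14e3d) (nat_lit 1793))
 (.leaf (nat_lit 0x10143b2eb53aa) (nat_lit 1794))
) (.node (nat_lit 0x10143b30b539b) (.leaf (nat_lit 0x10143b3014e03) (nat_lit 1025))
 (.leaf (nat_lit 0x10143b30b539b) (nat_lit 1031))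
)) (.node (nat_lit 0x10143b5814e21) (.node (nat_lit 0x10143b46b53bc) (.leaf (nat_lit 0x10143b4614e1f) (nat_lit 1282))
 (.leaf (nat_lit 0x10143b46b53bc) (nat_lit 1282))
) (.node (nat_lit 0x10143b58b538d) (.leaf (nat_lit 0x10143b5814e21) (nat_lit 1792))
 (.leaf (nat_lit 0x10143b58b538d) (nat_lit 1542))
))) (.node (nat_lit 0x1016896e1408e) (.node (nat_lit 0x1016893614083) (.node (nat_lit 0x10168924a0410) (.leaf (nat_lit 0x1016892414082) (nat_lit 1541))
 (.leaf (nat_lit 0x10168924a0410) (nat_lit 1284))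
) (.node (nat_lit 0x10168936a0418) (.leaf (nat_lit 0x1016893614083) (nat_lit 1285))
 (.leaf (nat_lit 0x10168936a0418) (nat_lit 1028))
)) (.node (nat_lit 0x1016897c1408f) (.node (nat_lit 0x1016896ea0439) (.leaf (nat_lit 0x1016896e1408e) (nat_lit 1542))
 (.leaf (nat_lit 0x1016896ea0439) (nat_lit 1537))
) (.node (nat_lit 0x1016897ca0431) (.leaf (nat_lit 0x1016897c1408f) (nat_lit 1793))
 (.node (nat_lit 0x10168d4c15094) (.leaf (nat_lit 0x1016897ca0431) (nat_lit 1537))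
 (.leaf (nat_lit 0x10168d4c15094) (nat_lit 1536))
))))) (.node (nat_lit 0x10169212a0808) (.node (nat_lit 0x10168d54a1617) (.node (nat_lit 0x10168d4ea163b) (.node (nat_lit 0x10168d4e1509c) (.leaf (nat_lit 0x10168d4ca1632) (nat_lit 1286))
 (.leaf (nat_lit 0x10168d4e1509c) (nat_lit 1792))
) (.node (nat_lit 0x10168d54150bd) (.leaf (nat_lit 0x10168d4ea163b) (nat_lit 1542))
 (.leaf (nat_lit 0x10168d54150bd) (nat_lit 1792))
)) (.node (nat_lit 0x10168d56a161e) (.node (nat_lit 0x10168d56150b5) (.leaf (nat_lit 0x10168d54a1617) (nat_lit 1542))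
 (.leaf (nat_lit 0x10168d56150b5) (nat_lit 1536))
) (.node (nat_lit 0x1016921214101) (.leaf (nat_lit 0x10168d56a161e) (nat_lit 1286))
 (.leaf (nat_lit 0x1016921214101) (nat_lit 1287))
))) (.node (nat_lit 0x1016924ca0832) (.node (nat_lit 0x10169236a0818) (.node (nat_lit 0x1016923614103) (.leaf (nat_lit 0x10169212a0808) (nat_lit 1031))
 (.leaf (nat_lit 0x1016923614103) (nat_lit 1541))
) (.node (nat_lit 0x1016924c14114) (.leaf (nat_lit 0x10169236a0818) (nat_lit 1284))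
 (.leaf (nat_lit 0x1016924c14114) (nat_lit 1792))
)) (.node (nat_lit 0x10169268a0822) (.node (nat_lit 0x1016926814116) (.leaf (nat_lit 0x1016924ca0832) (nat_lit 1543))
 (.leaf (nat_lit 0x1016926814116) (nat_lit 1792))
) (.node (nat_lit 0x1016955215d25) (.leaf (nat_lit 0x10169268a0822) (nat_lit 1542))
 (.node (nat_lit 0x10169552a178c) (.leaf (nat_lit 0x1016955215d25) (nat_lit 1280))
 (.leaf (nat_lit 0x10169552a178c) (nat_lit 1030))
)))))) (.node (nat_lit 0x10169d54a1717) (.node (nat_lit 0x10169b2414182) (.node (nat_lit 0x1016957c15d0f) (.node (nat_lit 0x1016957815d1f) (.node (nat_lit 0x10169556a179e) (.leaf (nat_lit 0x1016955615d35) (nat_lit 1537))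
 (.leaf (nat_lit 0x10169556a179e) (nat_lit 1281))
) (.node (nat_lit 0x10169578a17a3) (.leaf (nat_lit 0x1016957815d1f) (nat_lit 1538))
 (.leaf (nat_lit 0x10169578a17a3) (nat_lit 1282))
)) (.node (nat_lit 0x10169b1214181) (.node (nat_lit 0x1016957ca17b1) (.leaf (nat_lit 0x1016957c15d0f) (nat_lit 1543))
 (.leaf (nat_lit 0x1016957ca17b1) (nat_lit 1538))
) (.node (nat_lit 0x10169b12a0c08) (.leaf (nat_lit 0x10169b1214181) (nat_lit 1030))
 (.leaf (nat_lit 0x10169b12a0c08) (nat_lit 1028))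
))) (.node (nat_lit 0x10169b781419f) (.node (nat_lit 0x10169b4e1419c) (.node (nat_lit 0x10169b24a0c10) (.leaf (nat_lit 0x10169b2414182) (nat_lit 1282))
 (.leaf (nat_lit 0x10169b24a0c10) (nat_lit 1284))
) (.node (nat_lit 0x10169b4ea0c3b) (.leaf (nat_lit 0x10169b4e1419c) (nat_lit 1793))
 (.leaf (nat_lit 0x10169b4ea0c3b) (nat_lit 1537))
)) (.node (nat_lit 0x10169d52159a5) (.node (nat_lit 0x10169b78a0c23) (.leaf (nat_lit 0x10169b781419f) (nat_lit 1793))
 (.leaf (nat_lit 0x10169b78a0c23) (nat_lit 1798))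
) (.node (nat_lit 0x10169d52a170c) (.leaf (nat_lit 0x10169d52159a5) (nat_lit 1024))
 (.node (nat_lit 0x10169d54159bd) (.leaf (nat_lit 0x10169d52a170c) (nat_lit 774))
 (.leaf (nat_lit 0x10169d54159bd) (nat_lit 1794))
))))) (.node (nat_lit 0x1016a624a1910) (.node (nat_lit 0x10169d6ea1739) (.node (nat_lit 0x10169d68a1722) (.node (nat_lit 0x10169d6815996) (.leaf (nat_lit 0x10169d54a1717) (nat_lit 1537))
 (.leaf (nat_lit 0x10169d6815996) (nat_lit 1282))
) (.node (nat_lit 0x10169d6e1598e) (.leaf (nat_lit 0x10169d68a1722) (nat_lit 1026))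
 (.leaf (nat_lit 0x10169d6e1598e) (nat_lit 1543))
)) (.node (nat_lit 0x1016a61aa192c) (.node (nat_lit 0x1016a61a14a21) (.leaf (nat_lit 0x10169d6ea1739) (nat_lit 1543))
 (.leaf (nat_lit 0x1016a61a14a21) (nat_lit 1537))
) (.node (nat_lit 0x1016a62414a02) (.leaf (nat_lit 0x1016a61aa192c) (nat_lit 1793))
 (.leaf (nat_lit 0x1016a62414a02) (nat_lit 1543))
))) (.node (nat_lit 0x1016a668a1922) (.node (nat_lit 0x1016a656a191e) (.node (nat_lit 0x1016a65614a35) (.leaf (nat_lit 0x1016a624a1910) (nat_lit 1287))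
 (.leaf (nat_lit 0x1016a65614a35) (nat_lit 1798))
) (.node (nat_lit 0x1016a66814a16) (.leaf (nat_lit 0x1016a656a191e) (nat_lit 1542))
 (.leaf (nat_lit 0x1016a66814a16) (nat_lit 1794))
)) (.node (nat_lit 0x1016a71aa1dac) (.node (nat_lit 0x1016a71a14e21) (.leaf (nat_lit 0x1016a668a1922) (nat_lit 1538))
 (.leaf (nat_lit 0x1016a71a14e21) (nat_lit 1542))
) (.node (nat_lit 0x1016a73614e03) (.leaf (nat_lit 0x1016a71aa1dac) (nat_lit 1792))
 (.node (nat_lit 0x1016a736a1d98) (.leaf (nat_lit 0x1016a73614e03) (nat_lit 1287))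
 (.leaf (nat_lit 0x1016a736a1d98) (nat_lit 1281))
)))))))))) (.node (nat_lit 0x101b323c1932b) (.node (nat_lit 0x10182a3ad9eb3) (.node (nat_lit 0x10180852d84a5) (.node (nat_lit 0x1016b44ca1132) (.node (nat_lit 0x1016aa4e15e9c) (.node (nat_lit 0x1016a96815296) (.node (nat_lit 0x1016a92a152ba) (.node (nat_lit 0x1016a77814e1f) (.node (nat_lit 0x1016a754a1d97) (.leaf (nat_lit 0x1016a75414e3d) (nat_lit 1794))
 (.leaf (nat_lit 0x1016a754a1d97) (nat_lit 1798))
) (.node (nat_lit 0x1016a778a1da3) (.leaf (nat_lit 0x1016a77814e1f) (nat_lit 1538))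
 (.leaf (nat_lit 0x1016a778a1da3) (nat_lit 1538))
)) (.node (nat_lit 0x1016a93a152b3) (.node (nat_lit 0x1016a92aa062f) (.leaf (nat_lit 0x1016a92a152ba) (nat_lit 1793))
 (.leaf (nat_lit 0x1016a92aa062f) (nat_lit 1537))
) (.node (nat_lit 0x1016a93aa062e) (.leaf (nat_lit 0x1016a93a152b3) (nat_lit 1798))
 (.leaf (nat_lit 0x1016a93aa062e) (nat_lit 1537))
))) (.node (nat_lit 0x1016aa1a15ea1) (.node (nat_lit 0x1016a9781529f) (.node (nat_lit 0x1016a968a0622) (.leaf (nat_lit 0x1016a96815296) (nat_lit 1537))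
 (.leaf (nat_lit 0x1016a968a0622) (nat_lit 1281))
) (.node (nat_lit 0x1016a978a0623) (.leaf (nat_lit 0x1016a9781529f) (nat_lit 1799))
 (.leaf (nat_lit 0x1016a978a0623) (nat_lit 1537))
)) (.node (nat_lit 0x1016aa3a15eb3) (.node (nat_lit 0x1016aa1aa0bac) (.leaf (nat_lit 0x1016aa1a15ea1) (nat_lit 1542))
 (.leaf (nat_lit 0x1016aa1aa0bac) (nat_lit 1792))
) (.node (nat_lit 0x1016aa3aa0bae) (.leaf (nat_lit 0x1016aa3a15eb3) (nat_lit 1793))
 (.leaf (nat_lit 0x1016aa3aa0bae) (nat_lit 1793))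
)))) (.node (nat_lit 0x1016ab4c15a94) (.node (nat_lit 0x1016ab1a15aa1) (.node (nat_lit 0x1016aa6e15e8e) (.node (nat_lit 0x1016aa4ea0bbb) (.leaf (nat_lit 0x1016aa4e15e9c) (nat_lit 1794))
 (.leaf (nat_lit 0x1016aa4ea0bbb) (nat_lit 1793))
) (.node (nat_lit 0x1016aa6ea0bb9) (.leaf (nat_lit 0x1016aa6e15e8e) (nat_lit 1793))
 (.leaf (nat_lit 0x1016aa6ea0bb9) (nat_lit 1543))
)) (.node (nat_lit 0x1016ab2a15aba) (.node (nat_lit 0x1016ab1aa0f2c) (.leaf (nat_lit 0x1016ab1a15aa1) (nat_lit 1286))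
 (.leaf (nat_lit 0x1016ab1aa0f2c) (nat_lit 1536))
) (.node (nat_lit 0x1016ab2aa0f2f) (.leaf (nat_lit 0x1016ab2a15aba) (nat_lit 1543))
 (.leaf (nat_lit 0x1016ab2aa0f2f) (nat_lit 1537))
))) (.node (nat_lit 0x1016b42414b02) (.node (nat_lit 0x1016ab7c15a8f) (.node (nat_lit 0x1016ab4ca0f32) (.leaf (nat_lit 0x1016ab4c15a94) (nat_lit 1538))
 (.leaf (nat_lit 0x1016ab4ca0f32) (nat_lit 1537))
) (.node (nat_lit 0x1016ab7ca0f31) (.leaf (nat_lit 0x1016ab7c15a8f) (nat_lit 1536))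
 (.leaf (nat_lit 0x1016ab7ca0f31) (nat_lit 1287))
)) (.node (nat_lit 0x1016b43a14b33) (.node (nat_lit 0x1016b424a1110) (.leaf (nat_lit 0x1016b42414b02) (nat_lit 1543))
 (.leaf (nat_lit 0x1016b424a1110) (nat_lit 1287))
) (.node (nat_lit 0x1016b43aa112e) (.leaf (nat_lit 0x1016b43a14b33) (nat_lit 1538))
 (.node (nat_lit 0x1016b44c14b14) (.leaf (nat_lit 0x1016b43aa112e) (nat_lit 1282))
 (.leaf (nat_lit 0x1016b44c14b14) (nat_lit 1794))
)))))) (.node (nat_lit 0x1016bc5214fa5) (.node (nat_lit 0x1016b754a1c97) (.node (nat_lit 0x1016b712a1c88) (.node (nat_lit 0x1016b452a110c) (.node (nat_lit 0x1016b45214b25) (.leaf (nat_lit 0x1016b44ca1132) (nat_lit 1538))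
 (.leaf (nat_lit 0x1016b45214b25) (nat_lit 1281))
) (.node (nat_lit 0x1016b71214701) (.leaf (nat_lit 0x1016b452a110c) (nat_lit 1025))
 (.leaf (nat_lit 0x1016b71214701) (nat_lit 1287))
)) (.node (nat_lit 0x1016b73aa1cae) (.node (nat_lit 0x1016b73a14733) (.leaf (nat_lit 0x1016b712a1c88) (nat_lit 1027))
 (.leaf (nat_lit 0x1016b73a14733) (nat_lit 1542))
) (.node (nat_lit 0x1016b7541473d) (.leaf (nat_lit 0x1016b73aa1cae) (nat_lit 1538))
 (.leaf (nat_lit 0x1016b7541473d) (nat_lit 1536))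
))) (.node (nat_lit 0x1016bc2aa11af) (.node (nat_lit 0x1016b77ca1cb1) (.node (nat_lit 0x1016b77c1470f) (.leaf (nat_lit 0x1016b754a1c97) (nat_lit 1286))
 (.leaf (nat_lit 0x1016b77c1470f) (nat_lit 1538))
) (.node (nat_lit 0x1016bc2a14fba) (.leaf (nat_lit 0x1016b77ca1cb1) (nat_lit 1283))
 (.leaf (nat_lit 0x1016bc2a14fba) (nat_lit 1538))
)) (.node (nat_lit 0x1016bc36a1198) (.node (nat_lit 0x1016bc3614f83) (.leaf (nat_lit 0x1016bc2aa11af) (nat_lit 1282))
 (.leaf (nat_lit 0x1016bc3614f83) (nat_lit 1280))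
) (.node (nat_lit 0x1016bc4e14f9c) (.leaf (nat_lit 0x1016bc36a1198) (nat_lit 1031))
 (.node (nat_lit 0x1016bc4ea11bb) (.leaf (nat_lit 0x1016bc4e14f9c) (nat_lit 1538))
 (.leaf (nat_lit 0x1016bc4ea11bb) (nat_lit 1282))
))))) (.node (nat_lit 0x1016be6e1478e) (.node (nat_lit 0x1016be2a147ba) (.node (nat_lit 0x1016be1214781) (.node (nat_lit 0x1016bc52a118c) (.leaf (nat_lit 0x1016bc5214fa5) (nat_lit 1280))
 (.leaf (nat_lit 0x1016bc52a118c) (nat_lit 1030))
) (.node (nat_lit 0x1016be12a1888) (.leaf (nat_lit 0x1016be1214781) (nat_lit 1283))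
 (.leaf (nat_lit 0x1016be12a1888) (nat_lit 1031))
)) (.node (nat_lit 0x1016be56147b5) (.node (nat_lit 0x1016be2aa18af) (.leaf (nat_lit 0x1016be2a147ba) (nat_lit 1538))
 (.leaf (nat_lit 0x1016be2aa18af) (nat_lit 1282))
) (.node (nat_lit 0x1016be56a189e) (.leaf (nat_lit 0x1016be56147b5) (nat_lit 1280))
 (.leaf (nat_lit 0x1016be56a189e) (nat_lit 1030))
))) (.node (nat_lit 0x1018083018083) (.node (nat_lit 0x1018082018082) (.node (nat_lit 0x1016be6ea18b9) (.leaf (nat_lit 0x1016be6e1478e) (nat_lit 1539))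
 (.leaf (nat_lit 0x1016be6ea18b9) (nat_lit 1282))
) (.node (nat_lit 0x10180820d8492) (.leaf (nat_lit 0x1018082018082) (nat_lit 1026))
 (.leaf (nat_lit 0x10180820d8492) (nat_lit 1282))
)) (.node (nat_lit 0x101808421808d) (.node (nat_lit 0x10180830d849b) (.leaf (nat_lit 0x1018083018083) (nat_lit 769))
 (.leaf (nat_lit 0x10180830d849b) (nat_lit 1025))
) (.node (nat_lit 0x10180842d84ac) (.leaf (nat_lit 0x101808421808d) (nat_lit 1025))
 (.node (nat_lit 0x101808521808c) (.leaf (nat_lit 0x10180842d84ac) (nat_lit 1025))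
 (.leaf (nat_lit 0x101808521808c) (nat_lit 769))
))))))) (.node (nat_lit 0x10181d52d99a5) (.node (nat_lit 0x101814421930d) (.node (nat_lit 0x10180f76d98a7) (.node (nat_lit 0x10180f6ad989e) (.node (nat_lit 0x10180f68d9896) (.node (nat_lit 0x10180f6819f22) (.leaf (nat_lit 0x10180852d84a5) (nat_lit 1025))
 (.leaf (nat_lit 0x10180f6819f22) (nat_lit 1287))
) (.node (nat_lit 0x10180f6a19f2b) (.leaf (nat_lit 0x10180f68d9896) (nat_lit 1536))
 (.leaf (nat_lit 0x10180f6a19f2b) (nat_lit 1543))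
)) (.node (nat_lit 0x10180f74d98af) (.node (nat_lit 0x10180f7419f15) (.leaf (nat_lit 0x10180f6ad989e) (nat_lit 1793))
 (.leaf (nat_lit 0x10180f7419f15) (nat_lit 1543))
) (.node (nat_lit 0x10180f7619f1c) (.leaf (nat_lit 0x10180f74d98af) (nat_lit 1792))
 (.leaf (nat_lit 0x10180f7619f1c) (nat_lit 1287))
))) (.node (nat_lit 0x10181030d891b) (.node (nat_lit 0x10181010d8909) (.node (nat_lit 0x1018101018101) (.leaf (nat_lit 0x10180f76d98a7) (nat_lit 1536))
 (.leaf (nat_lit 0x1018101018101) (nat_lit 259))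
) (.node (nat_lit 0x1018103018103) (.leaf (nat_lit 0x10181010d8909) (nat_lit 515))
 (.leaf (nat_lit 0x1018103018103) (nat_lit 515))
)) (.node (nat_lit 0x10181054d893d) (.node (nat_lit 0x1018105418117) (.leaf (nat_lit 0x10181030d891b) (nat_lit 771))
 (.leaf (nat_lit 0x1018105418117) (nat_lit 1793))
) (.node (nat_lit 0x1018107418115) (.leaf (nat_lit 0x10181054d893d) (nat_lit 1798))
 (.node (nat_lit 0x10181074d892f) (.leaf (nat_lit 0x1018107418115) (nat_lit 1793))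
 (.leaf (nat_lit 0x10181074d892f) (nat_lit 2049))
))))) (.node (nat_lit 0x1018181018181) (.node (nat_lit 0x1018146a1932b) (.node (nat_lit 0x101814461931f) (.node (nat_lit 0x10181442d992c) (.leaf (nat_lit 0x101814421930d) (nat_lit 1287))
 (.leaf (nat_lit 0x10181442d992c) (nat_lit 1543))
) (.node (nat_lit 0x10181446d993c) (.leaf (nat_lit 0x101814461931f) (nat_lit 1543))
 (.leaf (nat_lit 0x10181446d993c) (nat_lit 1799))
)) (.node (nat_lit 0x1018146e19339) (.node (nat_lit 0x1018146ad991e) (.leaf (nat_lit 0x1018146a1932b) (nat_lit 1538))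
 (.leaf (nat_lit 0x1018146ad991e) (nat_lit 1794))
) (.node (nat_lit 0x1018146ed990e) (.leaf (nat_lit 0x1018146e19339) (nat_lit 1542))
 (.leaf (nat_lit 0x1018146ed990e) (nat_lit 1542))
))) (.node (nat_lit 0x101818461819f) (.node (nat_lit 0x1018182018182) (.node (nat_lit 0x10181810d8d89) (.leaf (nat_lit 0x1018181018181) (nat_lit 513))
 (.leaf (nat_lit 0x10181810d8d89) (nat_lit 769))
) (.node (nat_lit 0x10181820d8d92) (.leaf (nat_lit 0x1018182018182) (nat_lit 770))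
 (.leaf (nat_lit 0x10181820d8d92) (nat_lit 1026))
)) (.node (nat_lit 0x101818761819c) (.node (nat_lit 0x10181846d8dbc) (.leaf (nat_lit 0x101818461819f) (nat_lit 1281))
 (.leaf (nat_lit 0x10181846d8dbc) (nat_lit 1281))
) (.node (nat_lit 0x10181876d8da7) (.leaf (nat_lit 0x101818761819c) (nat_lit 1025))
 (.node (nat_lit 0x10181d521970c) (.leaf (nat_lit 0x10181876d8da7) (nat_lit 1281))
 (.leaf (nat_lit 0x10181d521970c) (nat_lit 1031))
)))))) (.node (nat_lit 0x1018233018f83) (.node (nat_lit 0x10182110d9609) (.node (nat_lit 0x10181d68d9996) (.node (nat_lit 0x10181d54d99bd) (.node (nat_lit 0x10181d5419717) (.leaf (nat_lit 0x10181d52d99a5) (nat_lit 1280))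
 (.leaf (nat_lit 0x10181d5419717) (nat_lit 1799))
) (.node (nat_lit 0x10181d6819722) (.leaf (nat_lit 0x10181d54d99bd) (nat_lit 1794))
 (.leaf (nat_lit 0x10181d6819722) (nat_lit 1282))
)) (.node (nat_lit 0x10181d6ed998e) (.node (nat_lit 0x10181d6e19739) (.leaf (nat_lit 0x10181d68d9996) (nat_lit 1538))
 (.leaf (nat_lit 0x10181d6e19739) (nat_lit 1537))
) (.node (nat_lit 0x1018211018681) (.leaf (nat_lit 0x10181d6ed998e) (nat_lit 1537))
 (.leaf (nat_lit 0x1018211018681) (nat_lit 263))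
))) (.node (nat_lit 0x10182152d9625) (.node (nat_lit 0x10182128d9632) (.node (nat_lit 0x10182128186a6) (.leaf (nat_lit 0x10182110d9609) (nat_lit 512))
 (.leaf (nat_lit 0x10182128186a6) (nat_lit 1798))
) (.node (nat_lit 0x101821521868c) (.leaf (nat_lit 0x10182128d9632) (nat_lit 1793))
 (.leaf (nat_lit 0x101821521868c) (nat_lit 514))
)) (.node (nat_lit 0x1018216ad961e) (.node (nat_lit 0x1018216a186ab) (.leaf (nat_lit 0x10182152d9625) (nat_lit 770))
 (.leaf (nat_lit 0x1018216a186ab) (nat_lit 1798))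
) (.node (nat_lit 0x1018232818fa6) (.leaf (nat_lit 0x1018216ad961e) (nat_lit 1798))
 (.node (nat_lit 0x10182328d9e32) (.leaf (nat_lit 0x1018232818fa6) (nat_lit 1799))
 (.leaf (nat_lit 0x10182328d9e32) (nat_lit 1794))
))))) (.node (nat_lit 0x1018293a1862e) (.node (nat_lit 0x1018237618f9c) (.node (nat_lit 0x1018236e18fb9) (.node (nat_lit 0x10182330d9e1b) (.leaf (nat_lit 0x1018233018f83) (nat_lit 519))
 (.leaf (nat_lit 0x10182330d9e1b) (nat_lit 768))
) (.node (nat_lit 0x1018236ed9e0e) (.leaf (nat_lit 0x1018236e18fb9) (nat_lit 1542))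
 (.leaf (nat_lit 0x1018236ed9e0e) (nat_lit 1542))
)) (.node (nat_lit 0x1018291018601) (.node (nat_lit 0x10182376d9e27) (.leaf (nat_lit 0x1018237618f9c) (nat_lit 770))
 (.leaf (nat_lit 0x10182376d9e27) (nat_lit 1026))
) (.node (nat_lit 0x10182910d9289) (.leaf (nat_lit 0x1018291018601) (nat_lit 513))
 (.leaf (nat_lit 0x10182910d9289) (nat_lit 519))
))) (.node (nat_lit 0x1018296818622) (.node (nat_lit 0x101829421860d) (.node (nat_lit 0x1018293ad92b3) (.leaf (nat_lit 0x1018293a1862e) (nat_lit 1542))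
 (.leaf (nat_lit 0x1018293ad92b3) (nat_lit 1792))
) (.node (nat_lit 0x10182942d92ac) (.leaf (nat_lit 0x101829421860d) (nat_lit 770))
 (.leaf (nat_lit 0x10182942d92ac) (nat_lit 770))
)) (.node (nat_lit 0x10182a2018b82) (.node (nat_lit 0x10182968d9296) (.leaf (nat_lit 0x1018296818622) (nat_lit 1537))
 (.leaf (nat_lit 0x10182968d9296) (nat_lit 1799))
) (.node (nat_lit 0x10182a20d9e92) (.leaf (nat_lit 0x10182a2018b82) (nat_lit 1283))
 (.node (nat_lit 0x10182a3a18bae) (.leaf (nat_lit 0x10182a20d9e92) (nat_lit 1543))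
 (.leaf (nat_lit 0x10182a3a18bae) (nat_lit 1542))
)))))))) (.node (nat_lit 0x101b127a18117) (.node (nat_lit 0x10183a5418a97) (.node (nat_lit 0x10183528d8f32) (.node (nat_lit 0x1018343ad8b33) (.node (nat_lit 0x10182a74d9eaf) (.node (nat_lit 0x10182a6ed9e8e) (.node (nat_lit 0x10182a6e18bb9) (.leaf (nat_lit 0x10182a3ad9eb3) (nat_lit 1538))
 (.leaf (nat_lit 0x10182a6e18bb9) (nat_lit 1286))
) (.node (nat_lit 0x10182a7418b95) (.leaf (nat_lit 0x10182a6ed9e8e) (nat_lit 1286))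
 (.leaf (nat_lit 0x10182a7418b95) (nat_lit 1539))
)) (.node (nat_lit 0x1018341ed8b31) (.node (nat_lit 0x1018341e1913e) (.leaf (nat_lit 0x10182a74d9eaf) (nat_lit 1794))
 (.leaf (nat_lit 0x1018341e1913e) (nat_lit 1542))
) (.node (nat_lit 0x1018343a1912e) (.leaf (nat_lit 0x1018341ed8b31) (nat_lit 1798))
 (.leaf (nat_lit 0x1018343a1912e) (nat_lit 1538))
))) (.node (nat_lit 0x10183476d8b27) (.node (nat_lit 0x10183452d8b25) (.node (nat_lit 0x101834521910c) (.leaf (nat_lit 0x1018343ad8b33) (nat_lit 1538))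
 (.leaf (nat_lit 0x101834521910c) (nat_lit 1287))
) (.node (nat_lit 0x101834761911c) (.leaf (nat_lit 0x10183452d8b25) (nat_lit 1287))
 (.leaf (nat_lit 0x101834761911c) (nat_lit 1543))
)) (.node (nat_lit 0x1018351ed8f31) (.node (nat_lit 0x1018351e195be) (.leaf (nat_lit 0x10183476d8b27) (nat_lit 1543))
 (.leaf (nat_lit 0x1018351e195be) (nat_lit 1537))
) (.node (nat_lit 0x10183528195a6) (.leaf (nat_lit 0x1018351ed8f31) (nat_lit 1793))
 (.leaf (nat_lit 0x10183528195a6) (nat_lit 1794))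
)))) (.node (nat_lit 0x1018373ad8733) (.node (nat_lit 0x10183574d8f2f) (.node (nat_lit 0x10183542d8f2c) (.node (nat_lit 0x101835421958d) (.leaf (nat_lit 0x10183528d8f32) (nat_lit 1538))
 (.leaf (nat_lit 0x101835421958d) (nat_lit 1536))
) (.node (nat_lit 0x1018357419595) (.leaf (nat_lit 0x10183542d8f2c) (nat_lit 1287))
 (.leaf (nat_lit 0x1018357419595) (nat_lit 1793))
)) (.node (nat_lit 0x10183728d8732) (.node (nat_lit 0x1018372819ca6) (.leaf (nat_lit 0x10183574d8f2f) (nat_lit 1799))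
 (.leaf (nat_lit 0x1018372819ca6) (nat_lit 1542))
) (.node (nat_lit 0x1018373a19cae) (.leaf (nat_lit 0x10183728d8732) (nat_lit 1543))
 (.leaf (nat_lit 0x1018373a19cae) (nat_lit 1799))
))) (.node (nat_lit 0x10183754d873d) (.node (nat_lit 0x10183746d873c) (.node (nat_lit 0x1018374619c9f) (.leaf (nat_lit 0x1018373ad8733) (nat_lit 1543))
 (.leaf (nat_lit 0x1018374619c9f) (nat_lit 1792))
) (.node (nat_lit 0x1018375419c97) (.leaf (nat_lit 0x10183746d873c) (nat_lit 1543))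
 (.leaf (nat_lit 0x1018375419c97) (nat_lit 1799))
)) (.node (nat_lit 0x10183a1ed97b1) (.node (nat_lit 0x10183a1e18abe) (.leaf (nat_lit 0x10183754d873d) (nat_lit 1799))
 (.leaf (nat_lit 0x10183a1e18abe) (nat_lit 1286))
) (.node (nat_lit 0x10183a2018a82) (.leaf (nat_lit 0x10183a1ed97b1) (nat_lit 1542))
 (.node (nat_lit 0x10183a20d9792) (.leaf (nat_lit 0x10183a2018a82) (nat_lit 1287))
 (.leaf (nat_lit 0x10183a20d9792) (nat_lit 1287))
)))))) (.node (nat_lit 0x101b094ac0429) (.node (nat_lit 0x10183b4618e1f) (.node (nat_lit 0x10183b1e18e3e) (.node (nat_lit 0x10183a6a18aab) (.node (nat_lit 0x10183a54d97bd) (.leaf (nat_lit 0x10183a5418a97) (nat_lit 1538))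
 (.leaf (nat_lit 0x10183a54d97bd) (nat_lit 1538))
) (.node (nat_lit 0x10183a6ad979e) (.leaf (nat_lit 0x10183a6a18aab) (nat_lit 1538))
 (.leaf (nat_lit 0x10183a6ad979e) (nat_lit 1542))
)) (.node (nat_lit 0x10183b3018e03) (.node (nat_lit 0x10183b1ed93b1) (.leaf (nat_lit 0x10183b1e18e3e) (nat_lit 1286))
 (.leaf (nat_lit 0x10183b1ed93b1) (nat_lit 1536))
) (.node (nat_lit 0x10183b30d939b) (.leaf (nat_lit 0x10183b3018e03) (nat_lit 769))
 (.leaf (nat_lit 0x10183b30d939b) (nat_lit 775))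
))) (.node (nat_lit 0x101b092418082) (.node (nat_lit 0x10183b6818e22) (.node (nat_lit 0x10183b46d93bc) (.leaf (nat_lit 0x10183b4618e1f) (nat_lit 1026))
 (.leaf (nat_lit 0x10183b46d93bc) (nat_lit 1026))
) (.node (nat_lit 0x10183b68d9396) (.leaf (nat_lit 0x10183b6818e22) (nat_lit 1538))
 (.leaf (nat_lit 0x10183b68d9396) (nat_lit 1543))
)) (.node (nat_lit 0x101b093618083) (.node (nat_lit 0x101b0924c0410) (.leaf (nat_lit 0x101b092418082) (nat_lit 1541))
 (.leaf (nat_lit 0x101b0924c0410) (nat_lit 1284))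
) (.node (nat_lit 0x101b0936c0418) (.leaf (nat_lit 0x101b093618083) (nat_lit 1285))
 (.node (nat_lit 0x101b094a1808c) (.leaf (nat_lit 0x101b0936c0418) (nat_lit 1028))
 (.leaf (nat_lit 0x101b094a1808c) (nat_lit 1281))
))))) (.node (nat_lit 0x101b0e78c1ba3) (.node (nat_lit 0x101b0e64c1b94) (.node (nat_lit 0x101b0958c0421) (.node (nat_lit 0x101b09581808d) (.leaf (nat_lit 0x101b094ac0429) (nat_lit 1025))
 (.leaf (nat_lit 0x101b09581808d) (nat_lit 1281))
) (.node (nat_lit 0x101b0e6419ca6) (.leaf (nat_lit 0x101b0958c0421) (nat_lit 1281))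
 (.leaf (nat_lit 0x101b0e6419ca6) (nat_lit 1536))
)) (.node (nat_lit 0x101b0e66c1b9d) (.node (nat_lit 0x101b0e6619cae) (.leaf (nat_lit 0x101b0e64c1b94) (nat_lit 1286))
 (.leaf (nat_lit 0x101b0e6619cae) (nat_lit 1793))
) (.node (nat_lit 0x101b0e7819c9f) (.leaf (nat_lit 0x101b0e66c1b9d) (nat_lit 1537))
 (.leaf (nat_lit 0x101b0e7819c9f) (nat_lit 1799))
))) (.node (nat_lit 0x101b1212c0808) (.node (nat_lit 0x101b0e7ac1baa) (.node (nat_lit 0x101b0e7a19c97) (.leaf (nat_lit 0x101b0e78c1ba3) (nat_lit 1538))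
 (.leaf (nat_lit 0x101b0e7a19c97) (nat_lit 2055))
) (.node (nat_lit 0x101b121218101) (.leaf (nat_lit 0x101b0e7ac1baa) (nat_lit 1794))
 (.leaf (nat_lit 0x101b121218101) (nat_lit 773))
)) (.node (nat_lit 0x101b1236c0818) (.node (nat_lit 0x101b123618103) (.leaf (nat_lit 0x101b1212c0808) (nat_lit 516))
 (.leaf (nat_lit 0x101b123618103) (nat_lit 1029))
) (.node (nat_lit 0x101b125e18115) (.leaf (nat_lit 0x101b1236c0818) (nat_lit 772))
 (.node (nat_lit 0x101b125ec083a) (.leaf (nat_lit 0x101b125e18115) (nat_lit 1799))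
 (.leaf (nat_lit 0x101b125ec083a) (nat_lit 1543))
))))))) (.node (nat_lit 0x101b272c18e22) (.node (nat_lit 0x101b1b78c0c23) (.node (nat_lit 0x101b16661912e) (.node (nat_lit 0x101b164e1911c) (.node (nat_lit 0x101b164a1910c) (.node (nat_lit 0x101b127ac082a) (.leaf (nat_lit 0x101b127a18117) (nat_lit 2055))
 (.leaf (nat_lit 0x101b127ac082a) (nat_lit 1798))
) (.node (nat_lit 0x101b164ac1a29) (.leaf (nat_lit 0x101b164a1910c) (nat_lit 1543))
 (.leaf (nat_lit 0x101b164ac1a29) (nat_lit 1543))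
)) (.node (nat_lit 0x101b16621913e) (.node (nat_lit 0x101b164ec1a3b) (.leaf (nat_lit 0x101b164e1911c) (nat_lit 1794))
 (.leaf (nat_lit 0x101b164ec1a3b) (nat_lit 1538))
) (.node (nat_lit 0x101b1662c1a0f) (.leaf (nat_lit 0x101b16621913e) (nat_lit 1542))
 (.leaf (nat_lit 0x101b1662c1a0f) (nat_lit 1286))
))) (.node (nat_lit 0x101b1b2418182) (.node (nat_lit 0x101b1b1218181) (.node (nat_lit 0x101b1666c1a1d) (.leaf (nat_lit 0x101b16661912e) (nat_lit 1798))
 (.leaf (nat_lit 0x101b1666c1a1d) (nat_lit 1542))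
) (.node (nat_lit 0x101b1b12c0c08) (.leaf (nat_lit 0x101b1b1218181) (nat_lit 1029))
 (.leaf (nat_lit 0x101b1b12c0c08) (nat_lit 772))
)) (.node (nat_lit 0x101b1b4e1819c) (.node (nat_lit 0x101b1b24c0c10) (.leaf (nat_lit 0x101b1b2418182) (nat_lit 1285))
 (.leaf (nat_lit 0x101b1b24c0c10) (nat_lit 1028))
) (.node (nat_lit 0x101b1b4ec0c3b) (.leaf (nat_lit 0x101b1b4e1819c) (nat_lit 1537))
 (.node (nat_lit 0x101b1b781819f) (.leaf (nat_lit 0x101b1b4ec0c3b) (nat_lit 1281))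
 (.leaf (nat_lit 0x101b1b781819f) (nat_lit 1537))
))))) (.node (nat_lit 0x101b1e64c1a94) (.node (nat_lit 0x101b1e5ec1aba) (.node (nat_lit 0x101b1e58c1aa1) (.node (nat_lit 0x101b1e581958d) (.leaf (nat_lit 0x101b1b78c0c23) (nat_lit 1542))
 (.leaf (nat_lit 0x101b1e581958d) (nat_lit 1543))
) (.node (nat_lit 0x101b1e5e19595) (.leaf (nat_lit 0x101b1e58c1aa1) (nat_lit 1792))
 (.leaf (nat_lit 0x101b1e5e19595) (nat_lit 1794))
)) (.node (nat_lit 0x101b1e62c1a8f) (.node (nat_lit 0x101b1e62195be) (.leaf (nat_lit 0x101b1e5ec1aba) (nat_lit 1538))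
 (.leaf (nat_lit 0x101b1e62195be) (nat_lit 1537))
) (.node (nat_lit 0x101b1e64195a6) (.leaf (nat_lit 0x101b1e62c1a8f) (nat_lit 1281))
 (.leaf (nat_lit 0x101b1e64195a6) (nat_lit 1794))
))) (.node (nat_lit 0x101b252cc14b4) (.node (nat_lit 0x101b2512c1488) (.node (nat_lit 0x101b251218601) (.leaf (nat_lit 0x101b1e64c1a94) (nat_lit 1542))
 (.leaf (nat_lit 0x101b251218601) (nat_lit 775))
) (.node (nat_lit 0x101b252c18622) (.leaf (nat_lit 0x101b2512c1488) (nat_lit 769))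
 (.leaf (nat_lit 0x101b252c18622) (nat_lit 1794))
)) (.node (nat_lit 0x101b2558c14a1) (.node (nat_lit 0x101b25581860d) (.leaf (nat_lit 0x101b252cc14b4) (nat_lit 1538))
 (.leaf (nat_lit 0x101b25581860d) (nat_lit 1026))
) (.node (nat_lit 0x101b25661862e) (.leaf (nat_lit 0x101b2558c14a1) (nat_lit 1026))
 (.node (nat_lit 0x101b2566c149d) (.leaf (nat_lit 0x101b25661862e) (nat_lit 1536))
 (.leaf (nat_lit 0x101b2566c149d) (nat_lit 1286))
)))))) (.node (nat_lit 0x101b2f24c1d10) (.node (nat_lit 0x101b2c1218681) (.node (nat_lit 0x101b276218e3e) (.node (nat_lit 0x101b273618e03) (.node (nat_lit 0x101b272cc1db4) (.leaf (nat_lit 0x101b272c18e22) (nat_lit 1538))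
 (.leaf (nat_lit 0x101b272cc1db4) (nat_lit 1282))
) (.node (nat_lit 0x101b2736c1d98) (.leaf (nat_lit 0x101b273618e03) (nat_lit 1031))
 (.leaf (nat_lit 0x101b2736c1d98) (nat_lit 1025))
)) (.node (nat_lit 0x101b277818e1f) (.node (nat_lit 0x101b2762c1d8f) (.leaf (nat_lit 0x101b276218e3e) (nat_lit 1280))
 (.leaf (nat_lit 0x101b2762c1d8f) (nat_lit 1030))
) (.node (nat_lit 0x101b2778c1da3) (.leaf (nat_lit 0x101b277818e1f) (nat_lit 1282))
 (.leaf (nat_lit 0x101b2778c1da3) (nat_lit 1282))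
))) (.node (nat_lit 0x101b2c4a1868c) (.node (nat_lit 0x101b2c3c186ab) (.node (nat_lit 0x101b2c12c1088) (.leaf (nat_lit 0x101b2c1218681) (nat_lit 768))
 (.leaf (nat_lit 0x101b2c12c1088) (nat_lit 519))
) (.node (nat_lit 0x101b2c3cc10b5) (.leaf (nat_lit 0x101b2c3c186ab) (nat_lit 1798))
 (.leaf (nat_lit 0x101b2c3cc10b5) (nat_lit 1794))
)) (.node (nat_lit 0x101b2c64186a6) (.node (nat_lit 0x101b2c4ac10a9) (.leaf (nat_lit 0x101b2c4a1868c) (nat_lit 1026))
 (.leaf (nat_lit 0x101b2c4ac10a9) (nat_lit 770))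
) (.node (nat_lit 0x101b2c64c1094) (.leaf (nat_lit 0x101b2c64186a6) (nat_lit 1792))
 (.node (nat_lit 0x101b2f2418a82) (.leaf (nat_lit 0x101b2c64c1094) (nat_lit 1542))
 (.leaf (nat_lit 0x101b2f2418a82) (nat_lit 1543))
))))) (.node (nat_lit 0x101b312cc07b4) (.node (nat_lit 0x101b2f62c1d0f) (.node (nat_lit 0x101b2f3cc1d35) (.node (nat_lit 0x101b2f3c18aab) (.leaf (nat_lit 0x101b2f24c1d10) (nat_lit 1543))
 (.leaf (nat_lit 0x101b2f3c18aab) (nat_lit 1538))
) (.node (nat_lit 0x101b2f6218abe) (.leaf (nat_lit 0x101b2f3cc1d35) (nat_lit 1282))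
 (.leaf (nat_lit 0x101b2f6218abe) (nat_lit 1286))
)) (.node (nat_lit 0x101b2f7ac1d2a) (.node (nat_lit 0x101b2f7a18a97) (.leaf (nat_lit 0x101b2f62c1d0f) (nat_lit 1030))
 (.leaf (nat_lit 0x101b2f7a18a97) (nat_lit 1798))
) (.node (nat_lit 0x101b312c19f22) (.leaf (nat_lit 0x101b2f7ac1d2a) (nat_lit 1798))
 (.leaf (nat_lit 0x101b312c19f22) (nat_lit 1798))
))) (.node (nat_lit 0x101b314ec07bb) (.node (nat_lit 0x101b313cc07b5) (.node (nat_lit 0x101b313c19f2b) (.leaf (nat_lit 0x101b312cc07b4) (nat_lit 1543))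
 (.leaf (nat_lit 0x101b313c19f2b) (nat_lit 1793))
) (.node (nat_lit 0x101b314e19f1c) (.leaf (nat_lit 0x101b313cc07b5) (nat_lit 1537))
 (.leaf (nat_lit 0x101b314e19f1c) (nat_lit 1792))
)) (.node (nat_lit 0x101b315ec07ba) (.node (nat_lit 0x101b315e19f15) (.leaf (nat_lit 0x101b314ec07bb) (nat_lit 1543))
 (.leaf (nat_lit 0x101b315e19f15) (nat_lit 1795))
) (.node (nat_lit 0x101b321c19339) (.leaf (nat_lit 0x101b315ec07ba) (nat_lit 1799))
 (.node (nat_lit 0x101b321cc0a37) (.leaf (nat_lit 0x101b321c19339) (nat_lit 1542))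
 (.leaf (nat_lit 0x101b321cc0a37) (nat_lit 1542))
))))))))) (.node (nat_lit 0x101c3d1cfcbb9) (.node (nat_lit 0x101c1856fcdb5) (.node (nat_lit 0x101c0830fc49b) (.node (nat_lit 0x101b3c3618f83) (.node (nat_lit 0x101b332c19722) (.node (nat_lit 0x101b32781931f) (.node (nat_lit 0x101b32581930d) (.node (nat_lit 0x101b323cc0a35) (.leaf (nat_lit 0x101b323c1932b) (nat_lit 1798))
 (.leaf (nat_lit 0x101b323cc0a35) (nat_lit 1798))
) (.node (nat_lit 0x101b3258c0a21) (.leaf (nat_lit 0x101b32581930d) (nat_lit 1799))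
 (.leaf (nat_lit 0x101b3258c0a21) (nat_lit 1543))
)) (.node (nat_lit 0x101b331c19739) (.node (nat_lit 0x101b3278c0a23) (.leaf (nat_lit 0x101b32781931f) (nat_lit 1794))
 (.leaf (nat_lit 0x101b3278c0a23) (nat_lit 1793))
) (.node (nat_lit 0x101b331cc0eb7) (.leaf (nat_lit 0x101b331c19739) (nat_lit 1537))
 (.leaf (nat_lit 0x101b331cc0eb7) (nat_lit 1537))
))) (.node (nat_lit 0x101b337a19717) (.node (nat_lit 0x101b334a1970c) (.node (nat_lit 0x101b332cc0eb4) (.leaf (nat_lit 0x101b332c19722) (nat_lit 1799))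
 (.leaf (nat_lit 0x101b332cc0eb4) (nat_lit 1538))
) (.node (nat_lit 0x101b334ac0ea9) (.leaf (nat_lit 0x101b334a1970c) (nat_lit 1536))
 (.leaf (nat_lit 0x101b334ac0ea9) (nat_lit 1287))
)) (.node (nat_lit 0x101b3c1c18fb9) (.node (nat_lit 0x101b337ac0eaa) (.leaf (nat_lit 0x101b337a19717) (nat_lit 1794))
 (.leaf (nat_lit 0x101b337ac0eaa) (nat_lit 1794))
) (.node (nat_lit 0x101b3c1cc11b7) (.leaf (nat_lit 0x101b3c1c18fb9) (nat_lit 1542))
 (.leaf (nat_lit 0x101b3c1cc11b7) (nat_lit 1542))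
)))) (.node (nat_lit 0x101b3d2418b82) (.node (nat_lit 0x101b3c6418fa6) (.node (nat_lit 0x101b3c4e18f9c) (.node (nat_lit 0x101b3c36c1198) (.leaf (nat_lit 0x101b3c3618f83) (nat_lit 1024))
 (.leaf (nat_lit 0x101b3c36c1198) (nat_lit 775))
) (.node (nat_lit 0x101b3c4ec11bb) (.leaf (nat_lit 0x101b3c4e18f9c) (nat_lit 1282))
 (.leaf (nat_lit 0x101b3c4ec11bb) (nat_lit 1026))
)) (.node (nat_lit 0x101b3d1c18bb9) (.node (nat_lit 0x101b3c64c1194) (.leaf (nat_lit 0x101b3c6418fa6) (nat_lit 1794))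
 (.leaf (nat_lit 0x101b3c64c1194) (nat_lit 1537))
) (.node (nat_lit 0x101b3d1cc1537) (.leaf (nat_lit 0x101b3d1c18bb9) (nat_lit 1286))
 (.leaf (nat_lit 0x101b3d1cc1537) (nat_lit 1286))
))) (.node (nat_lit 0x101b3d6618bae) (.node (nat_lit 0x101b3d5e18b95) (.node (nat_lit 0x101b3d24c1510) (.leaf (nat_lit 0x101b3d2418b82) (nat_lit 1799))
 (.leaf (nat_lit 0x101b3d24c1510) (nat_lit 1539))
) (.node (nat_lit 0x101b3d5ec153a) (.leaf (nat_lit 0x101b3d5e18b95) (nat_lit 1798))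
 (.leaf (nat_lit 0x101b3d5ec153a) (nat_lit 1795))
)) (.node (nat_lit 0x101c08201c082) (.node (nat_lit 0x101b3d66c151d) (.leaf (nat_lit 0x101b3d6618bae) (nat_lit 1542))
 (.leaf (nat_lit 0x101b3d66c151d) (nat_lit 1286))
) (.node (nat_lit 0x101c0820fc492) (.leaf (nat_lit 0x101c08201c082) (nat_lit 1025))
 (.node (nat_lit 0x101c08301c083) (.leaf (nat_lit 0x101c0820fc492) (nat_lit 1281))
 (.leaf (nat_lit 0x101c08301c083) (nat_lit 1027))
)))))) (.node (nat_lit 0x101c10441c116) (.node (nat_lit 0x101c0e66fdcae) (.node (nat_lit 0x101c0852fc4a5) (.node (nat_lit 0x101c0842fc4ac) (.node (nat_lit 0x101c08421c08d) (.leaf (nat_lit 0x101c0830fc49b) (nat_lit 1030))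
 (.leaf (nat_lit 0x101c08421c08d) (nat_lit 1281))
) (.node (nat_lit 0x101c08521c08c) (.leaf (nat_lit 0x101c0842fc4ac) (nat_lit 1281))
 (.leaf (nat_lit 0x101c08521c08c) (nat_lit 1025))
)) (.node (nat_lit 0x101c0e64fdca6) (.node (nat_lit 0x101c0e641db94) (.leaf (nat_lit 0x101c0852fc4a5) (nat_lit 1281))
 (.leaf (nat_lit 0x101c0e641db94) (nat_lit 1543))
) (.node (nat_lit 0x101c0e661db9d) (.leaf (nat_lit 0x101c0e64fdca6) (nat_lit 1794))
 (.leaf (nat_lit 0x101c0e661db9d) (nat_lit 1287))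
))) (.node (nat_lit 0x101c0e7afdc97) (.node (nat_lit 0x101c0e78fdc9f) (.node (nat_lit 0x101c0e781dba3) (.leaf (nat_lit 0x101c0e66fdcae) (nat_lit 1536))
 (.leaf (nat_lit 0x101c0e781dba3) (nat_lit 1543))
) (.node (nat_lit 0x101c0e7a1dbaa) (.leaf (nat_lit 0x101c0e78fdc9f) (nat_lit 1542))
 (.leaf (nat_lit 0x101c0e7a1dbaa) (nat_lit 1538))
)) (.node (nat_lit 0x101c1010fc909) (.node (nat_lit 0x101c10101c101) (.leaf (nat_lit 0x101c0e7afdc97) (nat_lit 1799))
 (.leaf (nat_lit 0x101c10101c101) (nat_lit 769))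
) (.node (nat_lit 0x101c10301c103) (.leaf (nat_lit 0x101c1010fc909) (nat_lit 1025))
 (.node (nat_lit 0x101c1030fc91b) (.leaf (nat_lit 0x101c10301c103) (nat_lit 1026))
 (.leaf (nat_lit 0x101c1030fc91b) (nat_lit 1282))
))))) (.node (nat_lit 0x101c15781d7a3) (.node (nat_lit 0x101c15521d78c) (.node (nat_lit 0x101c10641c114) (.node (nat_lit 0x101c1044fc934) (.leaf (nat_lit 0x101c10441c116) (nat_lit 1537))
 (.leaf (nat_lit 0x101c1044fc934) (nat_lit 1537))
) (.node (nat_lit 0x101c1064fc926) (.leaf (nat_lit 0x101c10641c114) (nat_lit 1281))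
 (.leaf (nat_lit 0x101c1064fc926) (nat_lit 1537))
)) (.node (nat_lit 0x101c15561d79e) (.node (nat_lit 0x101c1552fdd25) (.leaf (nat_lit 0x101c15521d78c) (nat_lit 1287))
 (.leaf (nat_lit 0x101c1552fdd25) (nat_lit 1287))
) (.node (nat_lit 0x101c1556fdd35) (.leaf (nat_lit 0x101c15561d79e) (nat_lit 1543))
 (.leaf (nat_lit 0x101c1556fdd35) (nat_lit 1793))
))) (.node (nat_lit 0x101c18101c181) (.node (nat_lit 0x101c157c1d7b1) (.node (nat_lit 0x101c1578fdd1f) (.leaf (nat_lit 0x101c15781d7a3) (nat_lit 1538))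
 (.leaf (nat_lit 0x101c1578fdd1f) (nat_lit 1538))
) (.node (nat_lit 0x101c157cfdd0f) (.leaf (nat_lit 0x101c157c1d7b1) (nat_lit 1793))
 (.leaf (nat_lit 0x101c157cfdd0f) (nat_lit 1537))
)) (.node (nat_lit 0x101c18201c182) (.node (nat_lit 0x101c1810fcd89) (.leaf (nat_lit 0x101c18101c181) (nat_lit 515))
 (.leaf (nat_lit 0x101c1810fcd89) (nat_lit 771))
) (.node (nat_lit 0x101c1820fcd92) (.leaf (nat_lit 0x101c18201c182) (nat_lit 771))
 (.node (nat_lit 0x101c18561c19e) (.leaf (nat_lit 0x101c1820fcd92) (nat_lit 1027))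
 (.leaf (nat_lit 0x101c18561c19e) (nat_lit 1537))
))))))) (.node (nat_lit 0x101c2978fd29f) (.node (nat_lit 0x101c217a1c6aa) (.node (nat_lit 0x101c1c7afdd97) (.node (nat_lit 0x101c1c42fddac) (.node (nat_lit 0x101c1866fcdae) (.node (nat_lit 0x101c18661c19d) (.leaf (nat_lit 0x101c1856fcdb5) (nat_lit 1542))
 (.leaf (nat_lit 0x101c18661c19d) (nat_lit 1537))
) (.node (nat_lit 0x101c1c421d38d) (.leaf (nat_lit 0x101c1866fcdae) (nat_lit 1793))
 (.leaf (nat_lit 0x101c1c421d38d) (nat_lit 1287))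
)) (.node (nat_lit 0x101c1c44fddb4) (.node (nat_lit 0x101c1c441d396) (.leaf (nat_lit 0x101c1c42fddac) (nat_lit 1287))
 (.leaf (nat_lit 0x101c1c441d396) (nat_lit 1799))
) (.node (nat_lit 0x101c1c7a1d3aa) (.leaf (nat_lit 0x101c1c44fddb4) (nat_lit 1794))
 (.leaf (nat_lit 0x101c1c7a1d3aa) (nat_lit 1538))
))) (.node (nat_lit 0x101c2110fd609) (.node (nat_lit 0x101c1c7cfdd8f) (.node (nat_lit 0x101c1c7c1d3b1) (.leaf (nat_lit 0x101c1c7afdd97) (nat_lit 1538))
 (.leaf (nat_lit 0x101c1c7c1d3b1) (nat_lit 1792))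
) (.node (nat_lit 0x101c21101c681) (.leaf (nat_lit 0x101c1c7cfdd8f) (nat_lit 1542))
 (.leaf (nat_lit 0x101c21101c681) (nat_lit 519))
)) (.node (nat_lit 0x101c2138fd63b) (.node (nat_lit 0x101c21381c6a7) (.leaf (nat_lit 0x101c2110fd609) (nat_lit 768))
 (.leaf (nat_lit 0x101c21381c6a7) (nat_lit 1542))
) (.node (nat_lit 0x101c21521c68c) (.leaf (nat_lit 0x101c2138fd63b) (nat_lit 1792))
 (.node (nat_lit 0x101c2152fd625) (.leaf (nat_lit 0x101c21521c68c) (nat_lit 770))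
 (.leaf (nat_lit 0x101c2152fd625) (nat_lit 1026))
))))) (.node (nat_lit 0x101c227c1cb31) (.node (nat_lit 0x101c22381cb27) (.node (nat_lit 0x101c22201cb02) (.node (nat_lit 0x101c217afd617) (.leaf (nat_lit 0x101c217a1c6aa) (nat_lit 1794))
 (.leaf (nat_lit 0x101c217afd617) (nat_lit 1793))
) (.node (nat_lit 0x101c2220fda12) (.leaf (nat_lit 0x101c22201cb02) (nat_lit 775))
 (.leaf (nat_lit 0x101c2220fda12) (nat_lit 1024))
)) (.node (nat_lit 0x101c22641cb14) (.node (nat_lit 0x101c2238fda3b) (.leaf (nat_lit 0x101c22381cb27) (nat_lit 1537))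
 (.leaf (nat_lit 0x101c2238fda3b) (nat_lit 1793))
) (.node (nat_lit 0x101c2264fda26) (.leaf (nat_lit 0x101c22641cb14) (nat_lit 1026))
 (.leaf (nat_lit 0x101c2264fda26) (nat_lit 1282))
))) (.node (nat_lit 0x101c292a1c62f) (.node (nat_lit 0x101c29101c601) (.node (nat_lit 0x101c227cfda0f) (.leaf (nat_lit 0x101c227c1cb31) (nat_lit 1542))
 (.leaf (nat_lit 0x101c227cfda0f) (nat_lit 1542))
) (.node (nat_lit 0x101c2910fd289) (.leaf (nat_lit 0x101c29101c601) (nat_lit 769))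
 (.leaf (nat_lit 0x101c2910fd289) (nat_lit 775))
)) (.node (nat_lit 0x101c29421c60d) (.node (nat_lit 0x101c292afd2ba) (.leaf (nat_lit 0x101c292a1c62f) (nat_lit 1537))
 (.leaf (nat_lit 0x101c292afd2ba) (nat_lit 1793))
) (.node (nat_lit 0x101c2942fd2ac) (.leaf (nat_lit 0x101c29421c60d) (nat_lit 1026))
 (.node (nat_lit 0x101c29781c623) (.leaf (nat_lit 0x101c2942fd2ac) (nat_lit 1026))
 (.leaf (nat_lit 0x101c29781c623) (nat_lit 1793))
)))))) (.node (nat_lit 0x101c331c1ceb7) (.node (nat_lit 0x101c2b7cfda8f) (.node (nat_lit 0x101c2b30fda9b) (.node (nat_lit 0x101c2b2afdaba) (.node (nat_lit 0x101c2b2a1cf2f) (.leaf (nat_lit 0x101c2978fd29f) (nat_lit 1798))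
 (.leaf (nat_lit 0x101c2b2a1cf2f) (nat_lit 1794))
) (.node (nat_lit 0x101c2b301cf03) (.leaf (nat_lit 0x101c2b2afdaba) (nat_lit 1538))
 (.leaf (nat_lit 0x101c2b301cf03) (nat_lit 1027))
)) (.node (nat_lit 0x101c2b66fdaae) (.node (nat_lit 0x101c2b661cf1d) (.leaf (nat_lit 0x101c2b30fda9b) (nat_lit 1287))
 (.leaf (nat_lit 0x101c2b661cf1d) (nat_lit 1283))
) (.node (nat_lit 0x101c2b7c1cf31) (.leaf (nat_lit 0x101c2b66fdaae) (nat_lit 1538))
 (.leaf (nat_lit 0x101c2b7c1cf31) (nat_lit 1536))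
))) (.node (nat_lit 0x101c3220fd312) (.node (nat_lit 0x101c321cfd339) (.node (nat_lit 0x101c321c1ca37) (.leaf (nat_lit 0x101c2b7cfda8f) (nat_lit 1286))
 (.leaf (nat_lit 0x101c321c1ca37) (nat_lit 1542))
) (.node (nat_lit 0x101c32201ca02) (.leaf (nat_lit 0x101c321cfd339) (nat_lit 1798))
 (.leaf (nat_lit 0x101c32201ca02) (nat_lit 1025))
)) (.node (nat_lit 0x101c3244fd334) (.node (nat_lit 0x101c32441ca16) (.leaf (nat_lit 0x101c3220fd312) (nat_lit 1031))
 (.leaf (nat_lit 0x101c32441ca16) (nat_lit 1282))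
) (.node (nat_lit 0x101c32781ca23) (.leaf (nat_lit 0x101c3244fd334) (nat_lit 1282))
 (.node (nat_lit 0x101c3278fd31f) (.leaf (nat_lit 0x101c32781ca23) (nat_lit 1794))
 (.leaf (nat_lit 0x101c3278fd31f) (nat_lit 1793))
))))) (.node (nat_lit 0x101c3c1c1d1b7) (.node (nat_lit 0x101c33561ce9e) (.node (nat_lit 0x101c33301ce83) (.node (nat_lit 0x101c331cfd739) (.leaf (nat_lit 0x101c331c1ceb7) (nat_lit 1030))
 (.leaf (nat_lit 0x101c331cfd739) (nat_lit 1280))
) (.node (nat_lit 0x101c3330fd71b) (.leaf (nat_lit 0x101c33301ce83) (nat_lit 1031))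
 (.leaf (nat_lit 0x101c3330fd71b) (nat_lit 1283))
)) (.node (nat_lit 0x101c337a1ceaa) (.node (nat_lit 0x101c3356fd735) (.leaf (nat_lit 0x101c33561ce9e) (nat_lit 1282))
 (.leaf (nat_lit 0x101c3356fd735) (nat_lit 1539))
) (.node (nat_lit 0x101c337afd717) (.leaf (nat_lit 0x101c337a1ceaa) (nat_lit 1282))
 (.leaf (nat_lit 0x101c337afd717) (nat_lit 1538))
))) (.node (nat_lit 0x101c3c521d18c) (.node (nat_lit 0x101c3c2a1d1af) (.node (nat_lit 0x101c3c1cfcfb9) (.leaf (nat_lit 0x101c3c1c1d1b7) (nat_lit 1286))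
 (.leaf (nat_lit 0x101c3c1cfcfb9) (nat_lit 1536))
) (.node (nat_lit 0x101c3c2afcfba) (.leaf (nat_lit 0x101c3c2a1d1af) (nat_lit 1282))
 (.leaf (nat_lit 0x101c3c2afcfba) (nat_lit 1538))
)) (.node (nat_lit 0x101c3c641d194) (.node (nat_lit 0x101c3c52fcfa5) (.leaf (nat_lit 0x101c3c521d18c) (nat_lit 1031))
 (.leaf (nat_lit 0x101c3c52fcfa5) (nat_lit 1280))
) (.node (nat_lit 0x101c3c64fcfa6) (.leaf (nat_lit 0x101c3c641d194) (nat_lit 1538))
 (.node (nat_lit 0x101c3d1c1d537) (.leaf (nat_lit 0x101c3c64fcfa6) (nat_lit 1799))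
 (.leaf (nat_lit 0x101c3d1c1d537) (nat_lit 1281))
)))))))) (.node (nat_lit 0x101fa5581c60d) (.node (nat_lit 0x101f92361c103) (.node (nat_lit 0x101f8924e0410) (.node (nat_lit 0x101c3e2afc7ba) (.node (nat_lit 0x101c3d42fcbac) (.node (nat_lit 0x101c3d38fcbbb) (.node (nat_lit 0x101c3d381d527) (.leaf (nat_lit 0x101c3d1cfcbb9) (nat_lit 1537))
 (.leaf (nat_lit 0x101c3d381d527) (nat_lit 1542))
) (.node (nat_lit 0x101c3d421d50d) (.leaf (nat_lit 0x101c3d38fcbbb) (nat_lit 1794))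
 (.leaf (nat_lit 0x101c3d421d50d) (nat_lit 1287))
)) (.node (nat_lit 0x101c3d66fcbae) (.node (nat_lit 0x101c3d661d51d) (.leaf (nat_lit 0x101c3d42fcbac) (nat_lit 1543))
 (.leaf (nat_lit 0x101c3d661d51d) (nat_lit 1537))
) (.node (nat_lit 0x101c3e2a1d8af) (.leaf (nat_lit 0x101c3d66fcbae) (nat_lit 1543))
 (.leaf (nat_lit 0x101c3e2a1d8af) (nat_lit 1543))
))) (.node (nat_lit 0x101c3e44fc7b4) (.node (nat_lit 0x101c3e38fc7bb) (.node (nat_lit 0x101c3e381d8a7) (.leaf (nat_lit 0x101c3e2afc7ba) (nat_lit 1794))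
 (.leaf (nat_lit 0x101c3e381d8a7) (nat_lit 1286))
) (.node (nat_lit 0x101c3e441d896) (.leaf (nat_lit 0x101c3e38fc7bb) (nat_lit 1536))
 (.leaf (nat_lit 0x101c3e441d896) (nat_lit 1538))
)) (.node (nat_lit 0x101c3e56fc7b5) (.node (nat_lit 0x101c3e561d89e) (.leaf (nat_lit 0x101c3e44fc7b4) (nat_lit 1799))
 (.leaf (nat_lit 0x101c3e561d89e) (nat_lit 1543))
) (.node (nat_lit 0x101f89241c082) (.leaf (nat_lit 0x101c3e56fc7b5) (nat_lit 1543))
 (.leaf (nat_lit 0x101f89241c082) (nat_lit 1541))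
)))) (.node (nat_lit 0x101f8f68e1f22) (.node (nat_lit 0x101f894ae0429) (.node (nat_lit 0x101f8936e0418) (.node (nat_lit 0x101f89361c083) (.leaf (nat_lit 0x101f8924e0410) (nat_lit 1284))
 (.leaf (nat_lit 0x101f89361c083) (nat_lit 1286))
) (.node (nat_lit 0x101f894a1c08c) (.leaf (nat_lit 0x101f8936e0418) (nat_lit 1284))
 (.leaf (nat_lit 0x101f894a1c08c) (nat_lit 1537))
)) (.node (nat_lit 0x101f8958e0421) (.node (nat_lit 0x101f89581c08d) (.leaf (nat_lit 0x101f894ae0429) (nat_lit 1281))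
 (.leaf (nat_lit 0x101f89581c08d) (nat_lit 1537))
) (.node (nat_lit 0x101f8f681d896) (.leaf (nat_lit 0x101f8958e0421) (nat_lit 1537))
 (.leaf (nat_lit 0x101f8f681d896) (nat_lit 1538))
))) (.node (nat_lit 0x101f8f74e1f15) (.node (nat_lit 0x101f8f6ae1f2b) (.node (nat_lit 0x101f8f6a1d89e) (.leaf (nat_lit 0x101f8f68e1f22) (nat_lit 1282))
 (.leaf (nat_lit 0x101f8f6a1d89e) (nat_lit 1799))
) (.node (nat_lit 0x101f8f741d8af) (.leaf (nat_lit 0x101f8f6ae1f2b) (nat_lit 1799))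
 (.leaf (nat_lit 0x101f8f741d8af) (nat_lit 1793))
)) (.node (nat_lit 0x101f8f76e1f1c) (.node (nat_lit 0x101f8f761d8a7) (.leaf (nat_lit 0x101f8f74e1f15) (nat_lit 1793))
 (.leaf (nat_lit 0x101f8f761d8a7) (nat_lit 1280))
) (.node (nat_lit 0x101f92121c101) (.leaf (nat_lit 0x101f8f76e1f1c) (nat_lit 1030))
 (.node (nat_lit 0x101f9212e0808) (.leaf (nat_lit 0x101f92121c101) (nat_lit 1285))
 (.leaf (nat_lit 0x101f9212e0808) (nat_lit 1028))
)))))) (.node (nat_lit 0x101f9b24e0c10) (.node (nat_lit 0x101f975c1d51d) (.node (nat_lit 0x101f92681c116) (.node (nat_lit 0x101f924c1c114) (.node (nat_lit 0x101f9236e0818) (.leaf (nat_lit 0x101f92361c103) (nat_lit 1541))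
 (.leaf (nat_lit 0x101f9236e0818) (nat_lit 1284))
) (.node (nat_lit 0x101f924ce0832) (.leaf (nat_lit 0x101f924c1c114) (nat_lit 1536))
 (.leaf (nat_lit 0x101f924ce0832) (nat_lit 1287))
)) (.node (nat_lit 0x101f97581d50d) (.node (nat_lit 0x101f9268e0822) (.leaf (nat_lit 0x101f92681c116) (nat_lit 1536))
 (.leaf (nat_lit 0x101f9268e0822) (nat_lit 1286))
) (.node (nat_lit 0x101f9758e1ea1) (.leaf (nat_lit 0x101f97581d50d) (nat_lit 1799))
 (.leaf (nat_lit 0x101f9758e1ea1) (nat_lit 1538))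
))) (.node (nat_lit 0x101f97761d527) (.node (nat_lit 0x101f97721d537) (.node (nat_lit 0x101f975ce1eb3) (.leaf (nat_lit 0x101f975c1d51d) (nat_lit 1538))
 (.leaf (nat_lit 0x101f975ce1eb3) (nat_lit 1282))
) (.node (nat_lit 0x101f9772e1e8e) (.leaf (nat_lit 0x101f97721d537) (nat_lit 1281))
 (.leaf (nat_lit 0x101f9772e1e8e) (nat_lit 1025))
)) (.node (nat_lit 0x101f9b121c181) (.node (nat_lit 0x101f9776e1e9c) (.leaf (nat_lit 0x101f97761d527) (nat_lit 1536))
 (.leaf (nat_lit 0x101f9776e1e9c) (nat_lit 1286))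
) (.node (nat_lit 0x101f9b12e0c08) (.leaf (nat_lit 0x101f9b121c181) (nat_lit 1029))
 (.node (nat_lit 0x101f9b241c182) (.leaf (nat_lit 0x101f9b12e0c08) (nat_lit 772))
 (.leaf (nat_lit 0x101f9b241c182) (nat_lit 1285))
))))) (.node (nat_lit 0x101f9f4ce1e32) (.node (nat_lit 0x101f9b6ae0c2b) (.node (nat_lit 0x101f9b5ce0c33) (.node (nat_lit 0x101f9b5c1c19d) (.leaf (nat_lit 0x101f9b24e0c10) (nat_lit 1028))
 (.leaf (nat_lit 0x101f9b5c1c19d) (nat_lit 1798))
) (.node (nat_lit 0x101f9b6a1c19e) (.leaf (nat_lit 0x101f9b5ce0c33) (nat_lit 1799))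
 (.leaf (nat_lit 0x101f9b6a1c19e) (nat_lit 1798))
)) (.node (nat_lit 0x101f9f4ae1e29) (.node (nat_lit 0x101f9f4a1d18c) (.leaf (nat_lit 0x101f9b6ae0c2b) (nat_lit 1542))
 (.leaf (nat_lit 0x101f9f4a1d18c) (nat_lit 1536))
) (.node (nat_lit 0x101f9f4c1d194) (.leaf (nat_lit 0x101f9f4ae1e29) (nat_lit 1287))
 (.leaf (nat_lit 0x101f9f4c1d194) (nat_lit 1538))
))) (.node (nat_lit 0x101f9f74e1e15) (.node (nat_lit 0x101f9f72e1e0e) (.node (nat_lit 0x101f9f721d1b7) (.leaf (nat_lit 0x101f9f4ce1e32) (nat_lit 1282))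
 (.leaf (nat_lit 0x101f9f721d1b7) (nat_lit 1280))
) (.node (nat_lit 0x101f9f741d1af) (.leaf (nat_lit 0x101f9f72e1e0e) (nat_lit 1030))
 (.leaf (nat_lit 0x101f9f741d1af) (nat_lit 1794))
)) (.node (nat_lit 0x101fa512e1488) (.node (nat_lit 0x101fa5121c601) (.leaf (nat_lit 0x101f9f74e1e15) (nat_lit 1538))
 (.leaf (nat_lit 0x101fa5121c601) (nat_lit 1031))
) (.node (nat_lit 0x101fa53e1c623) (.leaf (nat_lit 0x101fa512e1488) (nat_lit 1025))
 (.node (nat_lit 0x101fa53ee14bc) (.leaf (nat_lit 0x101fa53e1c623) (nat_lit 1798))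
 (.leaf (nat_lit 0x101fa53ee14bc) (nat_lit 1794))
))))))) (.node (nat_lit 0x101fb4761cb27) (.node (nat_lit 0x101fac4ae10a9) (.node (nat_lit 0x101fa6681ca16) (.node (nat_lit 0x101fa6241ca02) (.node (nat_lit 0x101fa5741c62f) (.node (nat_lit 0x101fa558e14a1) (.leaf (nat_lit 0x101fa5581c60d) (nat_lit 1282))
 (.leaf (nat_lit 0x101fa558e14a1) (nat_lit 1282))
) (.node (nat_lit 0x101fa574e1495) (.leaf (nat_lit 0x101fa5741c62f) (nat_lit 1792))
 (.leaf (nat_lit 0x101fa574e1495) (nat_lit 1542))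
)) (.node (nat_lit 0x101fa63e1ca23) (.node (nat_lit 0x101fa624e1910) (.leaf (nat_lit 0x101fa6241ca02) (nat_lit 1287))
 (.leaf (nat_lit 0x101fa624e1910) (nat_lit 1281))
) (.node (nat_lit 0x101fa63ee193c) (.leaf (nat_lit 0x101fa63e1ca23) (nat_lit 1793))
 (.leaf (nat_lit 0x101fa63ee193c) (nat_lit 1538))
))) (.node (nat_lit 0x101fac121c681) (.node (nat_lit 0x101fa6721ca37) (.node (nat_lit 0x101fa668e1922) (.leaf (nat_lit 0x101fa6681ca16) (nat_lit 1538))
 (.leaf (nat_lit 0x101fa668e1922) (nat_lit 1538))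
) (.node (nat_lit 0x101fa672e190e) (.leaf (nat_lit 0x101fa6721ca37) (nat_lit 1542))
 (.leaf (nat_lit 0x101fa672e190e) (nat_lit 1286))
)) (.node (nat_lit 0x101fac2e1c6aa) (.node (nat_lit 0x101fac12e1088) (.leaf (nat_lit 0x101fac121c681) (nat_lit 1024))
 (.leaf (nat_lit 0x101fac12e1088) (nat_lit 775))
) (.node (nat_lit 0x101fac2ee10bd) (.leaf (nat_lit 0x101fac2e1c6aa) (nat_lit 1794))
 (.node (nat_lit 0x101fac4a1c68c) (.leaf (nat_lit 0x101fac2ee10bd) (nat_lit 1538))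
 (.leaf (nat_lit 0x101fac4a1c68c) (nat_lit 1282))
))))) (.node (nat_lit 0x101fae6ae19ab) (.node (nat_lit 0x101fae2ee19bd) (.node (nat_lit 0x101fac76e109c) (.node (nat_lit 0x101fac761c6a7) (.leaf (nat_lit 0x101fac4ae10a9) (nat_lit 1026))
 (.leaf (nat_lit 0x101fac761c6a7) (nat_lit 1536))
) (.node (nat_lit 0x101fae2e1ceaa) (.leaf (nat_lit 0x101fac76e109c) (nat_lit 1286))
 (.leaf (nat_lit 0x101fae2e1ceaa) (nat_lit 1282))
)) (.node (nat_lit 0x101fae36e1998) (.node (nat_lit 0x101fae361ce83) (.leaf (nat_lit 0x101fae2ee19bd) (nat_lit 1026))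
 (.leaf (nat_lit 0x101fae361ce83) (nat_lit 1539))
) (.node (nat_lit 0x101fae6a1ce9e) (.leaf (nat_lit 0x101fae36e1998) (nat_lit 1287))
 (.leaf (nat_lit 0x101fae6a1ce9e) (nat_lit 1795))
))) (.node (nat_lit 0x101fb41ee113e) (.node (nat_lit 0x101fae72e198e) (.node (nat_lit 0x101fae721ceb7) (.leaf (nat_lit 0x101fae6ae19ab) (nat_lit 1538))
 (.leaf (nat_lit 0x101fae721ceb7) (nat_lit 1024))
) (.node (nat_lit 0x101fb41e1cb31) (.leaf (nat_lit 0x101fae72e198e) (nat_lit 774))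
 (.leaf (nat_lit 0x101fb41e1cb31) (nat_lit 1542))
)) (.node (nat_lit 0x101fb424e1110) (.node (nat_lit 0x101fb4241cb02) (.leaf (nat_lit 0x101fb41ee113e) (nat_lit 1538))
 (.leaf (nat_lit 0x101fb4241cb02) (nat_lit 1280))
) (.node (nat_lit 0x101fb44c1cb14) (.leaf (nat_lit 0x101fb424e1110) (nat_lit 1031))
 (.node (nat_lit 0x101fb44ce1132) (.leaf (nat_lit 0x101fb44c1cb14) (nat_lit 1538))
 (.leaf (nat_lit 0x101fb44ce1132) (nat_lit 1282))
)))))) (.node (nat_lit 0x101fb95ce0733) (.node (nat_lit 0x101fb5741cf2f) (.node (nat_lit 0x101fb5361cf03) (.node (nat_lit 0x101fb51e1cf31) (.node (nat_lit 0x101fb476e111c) (.leaf (nat_lit 0x101fb4761cb27) (nat_lit 1537))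
 (.leaf (nat_lit 0x101fb476e111c) (nat_lit 1281))
) (.node (nat_lit 0x101fb51ee15be) (.leaf (nat_lit 0x101fb51e1cf31) (nat_lit 1286))
 (.leaf (nat_lit 0x101fb51ee15be) (nat_lit 1536))
)) (.node (nat_lit 0x101fb55c1cf1d) (.node (nat_lit 0x101fb536e1598) (.leaf (nat_lit 0x101fb5361cf03) (nat_lit 1543))
 (.leaf (nat_lit 0x101fb536e1598) (nat_lit 1283))
) (.node (nat_lit 0x101fb55ce15b3) (.leaf (nat_lit 0x101fb55c1cf1d) (nat_lit 1794))
 (.leaf (nat_lit 0x101fb55ce15b3) (nat_lit 1539))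
))) (.node (nat_lit 0x101fb93e1dba3) (.node (nat_lit 0x101fb92e1dbaa) (.node (nat_lit 0x101fb574e1595) (.leaf (nat_lit 0x101fb5741cf2f) (nat_lit 1538))
 (.leaf (nat_lit 0x101fb574e1595) (nat_lit 1542))
) (.node (nat_lit 0x101fb92ee073d) (.leaf (nat_lit 0x101fb92e1dbaa) (nat_lit 1537))
 (.leaf (nat_lit 0x101fb92ee073d) (nat_lit 1281))
)) (.node (nat_lit 0x101fb94c1db94) (.node (nat_lit 0x101fb93ee073c) (.leaf (nat_lit 0x101fb93e1dba3) (nat_lit 1542))
 (.leaf (nat_lit 0x101fb93ee073c) (nat_lit 1792))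
) (.node (nat_lit 0x101fb94ce0732) (.leaf (nat_lit 0x101fb94c1db94) (nat_lit 1794))
 (.node (nat_lit 0x101fb95c1db9d) (.leaf (nat_lit 0x101fb94ce0732) (nat_lit 1537))
 (.leaf (nat_lit 0x101fb95c1db9d) (nat_lit 1792))
))))) (.node (nat_lit 0x101fba6ae0aab) (.node (nat_lit 0x101fba3ee0abc) (.node (nat_lit 0x101fba1ee0abe) (.node (nat_lit 0x101fba1e1d7b1) (.leaf (nat_lit 0x101fb95ce0733) (nat_lit 1543))
 (.leaf (nat_lit 0x101fba1e1d7b1) (nat_lit 1537))
) (.node (nat_lit 0x101fba3e1d7a3) (.leaf (nat_lit 0x101fba1ee0abe) (nat_lit 1793))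
 (.leaf (nat_lit 0x101fba3e1d7a3) (nat_lit 1798))
)) (.node (nat_lit 0x101fba4ae0aa9) (.node (nat_lit 0x101fba4a1d78c) (.leaf (nat_lit 0x101fba3ee0abc) (nat_lit 1794))
 (.leaf (nat_lit 0x101fba4a1d78c) (nat_lit 1543))
) (.node (nat_lit 0x101fba6a1d79e) (.leaf (nat_lit 0x101fba4ae0aa9) (nat_lit 1543))
 (.leaf (nat_lit 0x101fba6a1d79e) (nat_lit 1794))
))) (.node (nat_lit 0x101fbb2ee0e3d) (.node (nat_lit 0x101fbb1ee0e3e) (.node (nat_lit 0x101fbb1e1d3b1) (.leaf (nat_lit 0x101fba6ae0aab) (nat_lit 1799))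
 (.leaf (nat_lit 0x101fbb1e1d3b1) (nat_lit 1542))
) (.node (nat_lit 0x101fbb2e1d3aa) (.leaf (nat_lit 0x101fbb1ee0e3e) (nat_lit 1792))
 (.leaf (nat_lit 0x101fbb2e1d3aa) (nat_lit 1794))
)) (.node (nat_lit 0x101fbb58e0e21) (.node (nat_lit 0x101fbb581d38d) (.leaf (nat_lit 0x101fbb2ee0e3d) (nat_lit 1793))
 (.leaf (nat_lit 0x101fbb581d38d) (nat_lit 1543))
) (.node (nat_lit 0x101fbb681d396) (.leaf (nat_lit 0x101fbb58e0e21) (nat_lit 1543))
 (.node (nat_lit 0x101fbb68e0e22) (.leaf (nat_lit 0x101fbb681d396) (nat_lit 1794))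
 (.leaf (nat_lit 0x101fbb68e0e22) (nat_lit 1537))
))))))))))))

theorem KKS_ok : genOK A7 ((cK true false).drop 6) KKS 2160 = true := by decide +kernel

noncomputable def KKT : ST :=
(.node (nat_lit 0x100d03382cc3b) (.node (nat_lit 0x1005225c4cb33) (.node (nat_lit 0x10030c5cc149d) (.node (nat_lit 0x1002822cb4934) (.node (nat_lit 0x10021e3a91aae) (.node (nat_lit 0x10020f0291f09) (.node (nat_lit 0x1002030280c08) (.node (nat_lit 0x1002020280808) (.node (nat_lit 0x1002011c80439) (.node (nat_lit 0x1002010680418) (.node (nat_lit 0x1002010490492) (.leaf (nat_lit 0x1002010480410) (nat_lit 1284))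
 (.leaf (nat_lit 0x1002010490492) (nat_lit 1029))
) (.node (nat_lit 0x100201069049b) (.leaf (nat_lit 0x1002010680418) (nat_lit 1028))
 (.leaf (nat_lit 0x100201069049b) (nat_lit 773))
)) (.node (nat_lit 0x1002011e80431) (.node (nat_lit 0x1002011c904b7) (.leaf (nat_lit 0x1002011c80439) (nat_lit 1542))
 (.leaf (nat_lit 0x1002011c904b7) (nat_lit 1539))
) (.node (nat_lit 0x1002011e904be) (.leaf (nat_lit 0x1002011e80431) (nat_lit 1795))
 (.leaf (nat_lit 0x1002011e904be) (nat_lit 1537))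
))) (.node (nat_lit 0x1002022a8083a) (.node (nat_lit 0x1002020680818) (.node (nat_lit 0x1002020290909) (.leaf (nat_lit 0x1002020280808) (nat_lit 516))
 (.leaf (nat_lit 0x1002020290909) (nat_lit 261))
) (.node (nat_lit 0x100202069091b) (.leaf (nat_lit 0x1002020680818) (nat_lit 772))
 (.leaf (nat_lit 0x100202069091b) (nat_lit 517))
)) (.node (nat_lit 0x1002022e8082a) (.node (nat_lit 0x1002022a9092f) (.leaf (nat_lit 0x1002022a8083a) (nat_lit 1543))
 (.leaf (nat_lit 0x1002022a9092f) (nat_lit 1542))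
) (.node (nat_lit 0x1002022e9093d) (.leaf (nat_lit 0x1002022e8082a) (nat_lit 1536))
 (.leaf (nat_lit 0x1002022e9093d) (nat_lit 1286))
)))) (.node (nat_lit 0x10020e0281c88) (.node (nat_lit 0x1002033a80c33) (.node (nat_lit 0x1002030480c10) (.node (nat_lit 0x1002030290d89) (.leaf (nat_lit 0x1002030280c08) (nat_lit 772))
 (.leaf (nat_lit 0x1002030290d89) (nat_lit 517))
) (.node (nat_lit 0x1002030490d92) (.leaf (nat_lit 0x1002030480c10) (nat_lit 1028))
 (.leaf (nat_lit 0x1002030490d92) (nat_lit 773))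
)) (.node (nat_lit 0x1002033c80c2b) (.node (nat_lit 0x1002033a90dae) (.leaf (nat_lit 0x1002033a80c33) (nat_lit 1799))
 (.leaf (nat_lit 0x1002033a90dae) (nat_lit 1798))
) (.node (nat_lit 0x1002033c90db5) (.leaf (nat_lit 0x1002033c80c2b) (nat_lit 1792))
 (.leaf (nat_lit 0x1002033c90db5) (nat_lit 1542))
))) (.node (nat_lit 0x10020e6481ca6) (.node (nat_lit 0x10020e1e81cb1) (.node (nat_lit 0x10020e0291b89) (.leaf (nat_lit 0x10020e0281c88) (nat_lit 1280))
 (.leaf (nat_lit 0x10020e0291b89) (nat_lit 1031))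
) (.node (nat_lit 0x10020e1e91bbe) (.leaf (nat_lit 0x10020e1e81cb1) (nat_lit 1538))
 (.leaf (nat_lit 0x10020e1e91bbe) (nat_lit 1282))
)) (.node (nat_lit 0x10020e7881c9f) (.node (nat_lit 0x10020e6491b94) (.leaf (nat_lit 0x10020e6481ca6) (nat_lit 1792))
 (.leaf (nat_lit 0x10020e6491b94) (nat_lit 1542))
) (.node (nat_lit 0x10020e7891ba3) (.leaf (nat_lit 0x10020e7881c9f) (nat_lit 1799))
 (.node (nat_lit 0x10020f0281888) (.leaf (nat_lit 0x10020e7891ba3) (nat_lit 1798))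
 (.leaf (nat_lit 0x10020f0281888) (nat_lit 1287))
)))))) (.node (nat_lit 0x1002172a8153a) (.node (nat_lit 0x1002150491792) (.node (nat_lit 0x10020f6891f22) (.node (nat_lit 0x10020f1c91f37) (.node (nat_lit 0x10020f1c818b9) (.leaf (nat_lit 0x10020f0291f09) (nat_lit 1287))
 (.leaf (nat_lit 0x10020f1c818b9) (nat_lit 1538))
) (.node (nat_lit 0x10020f6881896) (.leaf (nat_lit 0x10020f1c91f37) (nat_lit 1538))
 (.leaf (nat_lit 0x10020f6881896) (nat_lit 1799))
)) (.node (nat_lit 0x10020f7691f1c) (.node (nat_lit 0x10020f76818a7) (.leaf (nat_lit 0x10020f6891f22) (nat_lit 1794))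
 (.leaf (nat_lit 0x10020f76818a7) (nat_lit 1798))
) (.node (nat_lit 0x1002150481d10) (.leaf (nat_lit 0x10020f7691f1c) (nat_lit 1542))
 (.leaf (nat_lit 0x1002150481d10) (nat_lit 1799))
))) (.node (nat_lit 0x100215529178c) (.node (nat_lit 0x1002152e917bd) (.node (nat_lit 0x1002152e81d2a) (.leaf (nat_lit 0x1002150491792) (nat_lit 1543))
 (.leaf (nat_lit 0x1002152e81d2a) (nat_lit 1799))
) (.node (nat_lit 0x1002155281d25) (.leaf (nat_lit 0x1002152e917bd) (nat_lit 1537))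
 (.leaf (nat_lit 0x1002155281d25) (nat_lit 1286))
)) (.node (nat_lit 0x10021578917a3) (.node (nat_lit 0x1002157881d1f) (.leaf (nat_lit 0x100215529178c) (nat_lit 1030))
 (.leaf (nat_lit 0x1002157881d1f) (nat_lit 1538))
) (.node (nat_lit 0x1002170481510) (.leaf (nat_lit 0x10021578917a3) (nat_lit 1282))
 (.node (nat_lit 0x1002170491e92) (.leaf (nat_lit 0x1002170481510) (nat_lit 1543))
 (.leaf (nat_lit 0x1002170491e92) (nat_lit 1543))
))))) (.node (nat_lit 0x10021d3c819ab) (.node (nat_lit 0x1002177681527) (.node (nat_lit 0x100217588150d) (.node (nat_lit 0x1002172a91eaf) (.leaf (nat_lit 0x1002172a8153a) (nat_lit 1793))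
 (.leaf (nat_lit 0x1002172a91eaf) (nat_lit 1799))
) (.node (nat_lit 0x1002175891ea1) (.leaf (nat_lit 0x100217588150d) (nat_lit 1286))
 (.leaf (nat_lit 0x1002175891ea1) (nat_lit 1286))
)) (.node (nat_lit 0x10021d0681998) (.node (nat_lit 0x1002177691e9c) (.leaf (nat_lit 0x1002177681527) (nat_lit 1542))
 (.leaf (nat_lit 0x1002177691e9c) (nat_lit 1286))
) (.node (nat_lit 0x10021d069171b) (.leaf (nat_lit 0x10021d0681998) (nat_lit 1543))
 (.leaf (nat_lit 0x10021d069171b) (nat_lit 1543))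
))) (.node (nat_lit 0x10021d6881996) (.node (nat_lit 0x10021d52819a5) (.node (nat_lit 0x10021d3c91735) (.leaf (nat_lit 0x10021d3c819ab) (nat_lit 1794))
 (.leaf (nat_lit 0x10021d3c91735) (nat_lit 1542))
) (.node (nat_lit 0x10021d529170c) (.leaf (nat_lit 0x10021d52819a5) (nat_lit 1542))
 (.leaf (nat_lit 0x10021d529170c) (nat_lit 1286))
)) (.node (nat_lit 0x10021e0681598) (.node (nat_lit 0x10021d6891722) (.leaf (nat_lit 0x10021d6881996) (nat_lit 1794))
 (.leaf (nat_lit 0x10021d6891722) (nat_lit 1538))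
) (.node (nat_lit 0x10021e0691a9b) (.leaf (nat_lit 0x10021e0681598) (nat_lit 1536))
 (.node (nat_lit 0x10021e3a815b3) (.leaf (nat_lit 0x10021e0691a9b) (nat_lit 1287))
 (.leaf (nat_lit 0x10021e3a815b3) (nat_lit 1799))
))))))) (.node (nat_lit 0x100234529110c) (.node (nat_lit 0x10022c64806a6) (.node (nat_lit 0x1002293a9062e) (.node (nat_lit 0x10021e6491a94) (.node (nat_lit 0x10021e5891aa1) (.node (nat_lit 0x10021e588158d) (.leaf (nat_lit 0x10021e3a91aae) (nat_lit 1538))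
 (.leaf (nat_lit 0x10021e588158d) (nat_lit 1542))
) (.node (nat_lit 0x10021e64815a6) (.leaf (nat_lit 0x10021e5891aa1) (nat_lit 1542))
 (.leaf (nat_lit 0x10021e64815a6) (nat_lit 1798))
)) (.node (nat_lit 0x1002292a9062f) (.node (nat_lit 0x1002292a812ba) (.leaf (nat_lit 0x10021e6491a94) (nat_lit 1542))
 (.leaf (nat_lit 0x1002292a812ba) (nat_lit 1795))
) (.node (nat_lit 0x1002293a812b3) (.leaf (nat_lit 0x1002292a9062f) (nat_lit 1793))
 (.leaf (nat_lit 0x1002293a812b3) (nat_lit 1799))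
))) (.node (nat_lit 0x1002297890623) (.node (nat_lit 0x1002296890622) (.node (nat_lit 0x1002296881296) (.leaf (nat_lit 0x1002293a9062e) (nat_lit 1537))
 (.leaf (nat_lit 0x1002296881296) (nat_lit 2049))
) (.node (nat_lit 0x100229788129f) (.leaf (nat_lit 0x1002296890622) (nat_lit 1793))
 (.leaf (nat_lit 0x100229788129f) (nat_lit 1793))
)) (.node (nat_lit 0x10022c2e910bd) (.node (nat_lit 0x10022c2e806aa) (.leaf (nat_lit 0x1002297890623) (nat_lit 1537))
 (.leaf (nat_lit 0x10022c2e806aa) (nat_lit 1795))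
) (.node (nat_lit 0x10022c3c806ab) (.leaf (nat_lit 0x10022c2e910bd) (nat_lit 1542))
 (.node (nat_lit 0x10022c3c910b5) (.leaf (nat_lit 0x10022c3c806ab) (nat_lit 1795))
 (.leaf (nat_lit 0x10022c3c910b5) (nat_lit 1543))
))))) (.node (nat_lit 0x100232588130d) (.node (nat_lit 0x1002321c81339) (.node (nat_lit 0x10022c76806a7) (.node (nat_lit 0x10022c6491094) (.leaf (nat_lit 0x10022c64806a6) (nat_lit 2051))
 (.leaf (nat_lit 0x10022c6491094) (nat_lit 1798))
) (.node (nat_lit 0x10022c769109c) (.leaf (nat_lit 0x10022c76806a7) (nat_lit 1795))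
 (.leaf (nat_lit 0x10022c769109c) (nat_lit 1542))
)) (.node (nat_lit 0x1002323c8132b) (.node (nat_lit 0x1002321c90a37) (.leaf (nat_lit 0x1002321c81339) (nat_lit 1543))
 (.leaf (nat_lit 0x1002321c90a37) (nat_lit 1283))
) (.node (nat_lit 0x1002323c90a35) (.leaf (nat_lit 0x1002323c8132b) (nat_lit 1799))
 (.leaf (nat_lit 0x1002323c90a35) (nat_lit 1539))
))) (.node (nat_lit 0x1002341e80b31) (.node (nat_lit 0x100232788131f) (.node (nat_lit 0x1002325890a21) (.leaf (nat_lit 0x100232588130d) (nat_lit 1542))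
 (.leaf (nat_lit 0x1002325890a21) (nat_lit 1283))
) (.node (nat_lit 0x1002327890a23) (.leaf (nat_lit 0x100232788131f) (nat_lit 1798))
 (.leaf (nat_lit 0x1002327890a23) (nat_lit 1539))
)) (.node (nat_lit 0x1002343a80b33) (.node (nat_lit 0x1002341e9113e) (.leaf (nat_lit 0x1002341e80b31) (nat_lit 1539))
 (.leaf (nat_lit 0x1002341e9113e) (nat_lit 1287))
) (.node (nat_lit 0x1002343a9112e) (.leaf (nat_lit 0x1002343a80b33) (nat_lit 1539))
 (.node (nat_lit 0x1002345280b25) (.leaf (nat_lit 0x1002343a9112e) (nat_lit 1282))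
 (.leaf (nat_lit 0x1002345280b25) (nat_lit 1283))
)))))) (.node (nat_lit 0x10023c6480fa6) (.node (nat_lit 0x10023b5890e21) (.node (nat_lit 0x10023b1e90e3e) (.node (nat_lit 0x100234769111c) (.node (nat_lit 0x1002347680b27) (.leaf (nat_lit 0x100234529110c) (nat_lit 1030))
 (.leaf (nat_lit 0x1002347680b27) (nat_lit 1539))
) (.node (nat_lit 0x10023b1e813b1) (.leaf (nat_lit 0x100234769111c) (nat_lit 1286))
 (.leaf (nat_lit 0x10023b1e813b1) (nat_lit 1543))
)) (.node (nat_lit 0x10023b2e90e3d) (.node (nat_lit 0x10023b2e813aa) (.leaf (nat_lit 0x10023b1e90e3e) (nat_lit 1539))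
 (.leaf (nat_lit 0x10023b2e813aa) (nat_lit 1794))
) (.node (nat_lit 0x10023b588138d) (.leaf (nat_lit 0x10023b2e90e3d) (nat_lit 1542))
 (.leaf (nat_lit 0x10023b588138d) (nat_lit 1537))
))) (.node (nat_lit 0x10023c1c911b7) (.node (nat_lit 0x10023b6890e22) (.node (nat_lit 0x10023b6881396) (.leaf (nat_lit 0x10023b5890e21) (nat_lit 1539))
 (.leaf (nat_lit 0x10023b6881396) (nat_lit 1794))
) (.node (nat_lit 0x10023c1c80fb9) (.leaf (nat_lit 0x10023b6890e22) (nat_lit 1795))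
 (.leaf (nat_lit 0x10023c1c80fb9) (nat_lit 1539))
)) (.node (nat_lit 0x10023c2a911af) (.node (nat_lit 0x10023c2a80fba) (.leaf (nat_lit 0x10023c1c911b7) (nat_lit 1287))
 (.leaf (nat_lit 0x10023c2a80fba) (nat_lit 1795))
) (.node (nat_lit 0x10023c5280fa5) (.leaf (nat_lit 0x10023c2a911af) (nat_lit 1538))
 (.node (nat_lit 0x10023c529118c) (.leaf (nat_lit 0x10023c5280fa5) (nat_lit 1539))
 (.leaf (nat_lit 0x10023c529118c) (nat_lit 1286))
))))) (.node (nat_lit 0x1002811ea0431) (.node (nat_lit 0x10028106a0418) (.node (nat_lit 0x10028104a0410) (.node (nat_lit 0x10023c6491194) (.leaf (nat_lit 0x10023c6480fa6) (nat_lit 1795))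
 (.leaf (nat_lit 0x10023c6491194) (nat_lit 1542))
) (.node (nat_lit 0x10028104b4492) (.leaf (nat_lit 0x10028104a0410) (nat_lit 1540))
 (.leaf (nat_lit 0x10028104b4492) (nat_lit 1285))
)) (.node (nat_lit 0x1002811ca0439) (.node (nat_lit 0x10028106b449b) (.leaf (nat_lit 0x10028106a0418) (nat_lit 1284))
 (.leaf (nat_lit 0x10028106b449b) (nat_lit 1029))
) (.node (nat_lit 0x1002811cb44b7) (.leaf (nat_lit 0x1002811ca0439) (nat_lit 1537))
 (.leaf (nat_lit 0x1002811cb44b7) (nat_lit 1281))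
))) (.node (nat_lit 0x10028206a0818) (.node (nat_lit 0x10028202a0808) (.node (nat_lit 0x1002811eb44be) (.leaf (nat_lit 0x1002811ea0431) (nat_lit 1537))
 (.leaf (nat_lit 0x1002811eb44be) (nat_lit 1281))
) (.node (nat_lit 0x10028202b4909) (.leaf (nat_lit 0x10028202a0808) (nat_lit 1287))
 (.leaf (nat_lit 0x10028202b4909) (nat_lit 1031))
)) (.node (nat_lit 0x10028228a0832) (.node (nat_lit 0x10028206b491b) (.leaf (nat_lit 0x10028206a0818) (nat_lit 1540))
 (.leaf (nat_lit 0x10028206b491b) (nat_lit 1285))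
) (.node (nat_lit 0x10028228b4926) (.leaf (nat_lit 0x10028228a0832) (nat_lit 1793))
 (.node (nat_lit 0x1002822ca0822) (.leaf (nat_lit 0x10028228b4926) (nat_lit 1793))
 (.leaf (nat_lit 0x1002822ca0822) (nat_lit 1793))
)))))))) (.node (nat_lit 0x1002a53ea0623) (.node (nat_lit 0x10029604a1110) (.node (nat_lit 0x10028e7ab5baa) (.node (nat_lit 0x1002833eb4dbc) (.node (nat_lit 0x10028304b4d92) (.node (nat_lit 0x10028302b4d89) (.node (nat_lit 0x10028302a0c08) (.leaf (nat_lit 0x1002822cb4934) (nat_lit 1537))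
 (.leaf (nat_lit 0x10028302a0c08) (nat_lit 1030))
) (.node (nat_lit 0x10028304a0c10) (.leaf (nat_lit 0x10028302b4d89) (nat_lit 1029))
 (.leaf (nat_lit 0x10028304a0c10) (nat_lit 1282))
)) (.node (nat_lit 0x10028338b4da7) (.node (nat_lit 0x10028338a0c3b) (.leaf (nat_lit 0x10028304b4d92) (nat_lit 1285))
 (.leaf (nat_lit 0x10028338a0c3b) (nat_lit 1537))
) (.node (nat_lit 0x1002833ea0c23) (.leaf (nat_lit 0x10028338b4da7) (nat_lit 1537))
 (.leaf (nat_lit 0x1002833ea0c23) (nat_lit 1537))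
))) (.node (nat_lit 0x10028e1eb5bbe) (.node (nat_lit 0x10028e02b5b89) (.node (nat_lit 0x10028e02a1c88) (.leaf (nat_lit 0x1002833eb4dbc) (nat_lit 1281))
 (.leaf (nat_lit 0x10028e02a1c88) (nat_lit 1027))
) (.node (nat_lit 0x10028e1ea1cb1) (.leaf (nat_lit 0x10028e02b5b89) (nat_lit 775))
 (.leaf (nat_lit 0x10028e1ea1cb1) (nat_lit 1283))
)) (.node (nat_lit 0x10028e66b5b9d) (.node (nat_lit 0x10028e66a1cae) (.leaf (nat_lit 0x10028e1eb5bbe) (nat_lit 1026))
 (.leaf (nat_lit 0x10028e66a1cae) (nat_lit 1539))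
) (.node (nat_lit 0x10028e7aa1c97) (.leaf (nat_lit 0x10028e66b5b9d) (nat_lit 1286))
 (.leaf (nat_lit 0x10028e7aa1c97) (nat_lit 1795))
)))) (.node (nat_lit 0x10028f74b5f15) (.node (nat_lit 0x10028f1cb5f37) (.node (nat_lit 0x10028f02b5f09) (.node (nat_lit 0x10028f02a1888) (.leaf (nat_lit 0x10028e7ab5baa) (nat_lit 1538))
 (.leaf (nat_lit 0x10028f02a1888) (nat_lit 1031))
) (.node (nat_lit 0x10028f1ca18b9) (.leaf (nat_lit 0x10028f02b5f09) (nat_lit 771))
 (.leaf (nat_lit 0x10028f1ca18b9) (nat_lit 1282))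
)) (.node (nat_lit 0x10028f6ab5f2b) (.node (nat_lit 0x10028f6aa189e) (.leaf (nat_lit 0x10028f1cb5f37) (nat_lit 1027))
 (.leaf (nat_lit 0x10028f6aa189e) (nat_lit 1798))
) (.node (nat_lit 0x10028f74a18af) (.leaf (nat_lit 0x10028f6ab5f2b) (nat_lit 1539))
 (.leaf (nat_lit 0x10028f74a18af) (nat_lit 1795))
))) (.node (nat_lit 0x1002942cb5334) (.node (nat_lit 0x10029404b5312) (.node (nat_lit 0x10029404a1910) (.leaf (nat_lit 0x10028f74b5f15) (nat_lit 1542))
 (.leaf (nat_lit 0x10029404a1910) (nat_lit 1280))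
) (.node (nat_lit 0x1002942ca1922) (.leaf (nat_lit 0x10029404b5312) (nat_lit 1031))
 (.leaf (nat_lit 0x1002942ca1922) (nat_lit 1538))
)) (.node (nat_lit 0x10029442b530d) (.node (nat_lit 0x10029442a192c) (.leaf (nat_lit 0x1002942cb5334) (nat_lit 1282))
 (.leaf (nat_lit 0x10029442a192c) (nat_lit 1280))
) (.node (nat_lit 0x1002946aa191e) (.leaf (nat_lit 0x10029442b530d) (nat_lit 1030))
 (.node (nat_lit 0x1002946ab532b) (.leaf (nat_lit 0x1002946aa191e) (nat_lit 1538))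
 (.leaf (nat_lit 0x1002946ab532b) (nat_lit 1282))
)))))) (.node (nat_lit 0x10029f06b5e1b) (.node (nat_lit 0x10029c06a1d98) (.node (nat_lit 0x1002964aa110c) (.node (nat_lit 0x10029628a1132) (.node (nat_lit 0x10029604b5a12) (.leaf (nat_lit 0x10029604a1110) (nat_lit 1287))
 (.leaf (nat_lit 0x10029604b5a12) (nat_lit 1281))
) (.node (nat_lit 0x10029628b5a26) (.leaf (nat_lit 0x10029628a1132) (nat_lit 1538))
 (.leaf (nat_lit 0x10029628b5a26) (nat_lit 1538))
)) (.node (nat_lit 0x10029666a112e) (.node (nat_lit 0x1002964ab5a29) (.leaf (nat_lit 0x1002964aa110c) (nat_lit 1542))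
 (.leaf (nat_lit 0x1002964ab5a29) (nat_lit 1792))
) (.node (nat_lit 0x10029666b5a1d) (.leaf (nat_lit 0x10029666a112e) (nat_lit 1794))
 (.leaf (nat_lit 0x10029666b5a1d) (nat_lit 1537))
))) (.node (nat_lit 0x10029c42a1dac) (.node (nat_lit 0x10029c3ea1da3) (.node (nat_lit 0x10029c06b539b) (.leaf (nat_lit 0x10029c06a1d98) (nat_lit 1024))
 (.leaf (nat_lit 0x10029c06b539b) (nat_lit 775))
) (.node (nat_lit 0x10029c3eb53bc) (.leaf (nat_lit 0x10029c3ea1da3) (nat_lit 1282))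
 (.leaf (nat_lit 0x10029c3eb53bc) (nat_lit 1026))
)) (.node (nat_lit 0x10029c7aa1d97) (.node (nat_lit 0x10029c42b538d) (.leaf (nat_lit 0x10029c42a1dac) (nat_lit 1024))
 (.leaf (nat_lit 0x10029c42b538d) (nat_lit 774))
) (.node (nat_lit 0x10029c7ab53aa) (.leaf (nat_lit 0x10029c7aa1d97) (nat_lit 1282))
 (.node (nat_lit 0x10029f06a1198) (.leaf (nat_lit 0x10029c7ab53aa) (nat_lit 1026))
 (.leaf (nat_lit 0x10029f06a1198) (nat_lit 1031))
))))) (.node (nat_lit 0x1002a128b46a6) (.node (nat_lit 0x10029f4ab5e29) (.node (nat_lit 0x10029f38b5e27) (.node (nat_lit 0x10029f38a11bb) (.leaf (nat_lit 0x10029f06b5e1b) (nat_lit 1025))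
 (.leaf (nat_lit 0x10029f38a11bb) (nat_lit 1282))
) (.node (nat_lit 0x10029f4aa118c) (.leaf (nat_lit 0x10029f38b5e27) (nat_lit 1282))
 (.leaf (nat_lit 0x10029f4aa118c) (nat_lit 1286))
)) (.node (nat_lit 0x10029f74b5e15) (.node (nat_lit 0x10029f74a11af) (.leaf (nat_lit 0x10029f4ab5e29) (nat_lit 1536))
 (.leaf (nat_lit 0x10029f74a11af) (nat_lit 1538))
) (.node (nat_lit 0x1002a128a1632) (.leaf (nat_lit 0x10029f74b5e15) (nat_lit 1794))
 (.leaf (nat_lit 0x1002a128a1632) (nat_lit 1794))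
))) (.node (nat_lit 0x1002a16ab46ab) (.node (nat_lit 0x1002a138b46a7) (.node (nat_lit 0x1002a138a163b) (.leaf (nat_lit 0x1002a128b46a6) (nat_lit 1537))
 (.leaf (nat_lit 0x1002a138a163b) (nat_lit 1799))
) (.node (nat_lit 0x1002a16aa161e) (.leaf (nat_lit 0x1002a138b46a7) (nat_lit 1537))
 (.leaf (nat_lit 0x1002a16aa161e) (nat_lit 1542))
)) (.node (nat_lit 0x1002a17ab46aa) (.node (nat_lit 0x1002a17aa1617) (.leaf (nat_lit 0x1002a16ab46ab) (nat_lit 1537))
 (.leaf (nat_lit 0x1002a17aa1617) (nat_lit 1537))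
) (.node (nat_lit 0x1002a52ca0622) (.leaf (nat_lit 0x1002a17ab46aa) (nat_lit 1281))
 (.node (nat_lit 0x1002a52cb54b4) (.leaf (nat_lit 0x1002a52ca0622) (nat_lit 1794))
 (.leaf (nat_lit 0x1002a52cb54b4) (nat_lit 1538))
))))))) (.node (nat_lit 0x1002bd42a0bac) (.node (nat_lit 0x1002b528b55a6) (.node (nat_lit 0x1002b32ca1722) (.node (nat_lit 0x1002a574a062f) (.node (nat_lit 0x1002a566a062e) (.node (nat_lit 0x1002a53eb54bc) (.leaf (nat_lit 0x1002a53ea0623) (nat_lit 1792))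
 (.leaf (nat_lit 0x1002a53eb54bc) (nat_lit 1543))
) (.node (nat_lit 0x1002a566b549d) (.leaf (nat_lit 0x1002a566a062e) (nat_lit 1542))
 (.leaf (nat_lit 0x1002a566b549d) (nat_lit 1286))
)) (.node (nat_lit 0x1002b31ca1739) (.node (nat_lit 0x1002a574b5495) (.leaf (nat_lit 0x1002a574a062f) (nat_lit 1798))
 (.leaf (nat_lit 0x1002a574b5495) (nat_lit 1542))
) (.node (nat_lit 0x1002b31cb4eb7) (.leaf (nat_lit 0x1002b31ca1739) (nat_lit 1536))
 (.leaf (nat_lit 0x1002b31cb4eb7) (nat_lit 1287))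
))) (.node (nat_lit 0x1002b37aa1717) (.node (nat_lit 0x1002b34aa170c) (.node (nat_lit 0x1002b32cb4eb4) (.leaf (nat_lit 0x1002b32ca1722) (nat_lit 1794))
 (.leaf (nat_lit 0x1002b32cb4eb4) (nat_lit 1798))
) (.node (nat_lit 0x1002b34ab4ea9) (.leaf (nat_lit 0x1002b34aa170c) (nat_lit 1542))
 (.leaf (nat_lit 0x1002b34ab4ea9) (nat_lit 1542))
)) (.node (nat_lit 0x1002b51ea0f31) (.node (nat_lit 0x1002b37ab4eaa) (.leaf (nat_lit 0x1002b37aa1717) (nat_lit 1794))
 (.leaf (nat_lit 0x1002b37ab4eaa) (nat_lit 1538))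
) (.node (nat_lit 0x1002b51eb55be) (.leaf (nat_lit 0x1002b51ea0f31) (nat_lit 1543))
 (.node (nat_lit 0x1002b528a0f32) (.leaf (nat_lit 0x1002b51eb55be) (nat_lit 1543))
 (.leaf (nat_lit 0x1002b528a0f32) (nat_lit 1539))
))))) (.node (nat_lit 0x1002ba3eb4abc) (.node (nat_lit 0x1002b574b5595) (.node (nat_lit 0x1002b542b558d) (.node (nat_lit 0x1002b542a0f2c) (.leaf (nat_lit 0x1002b528b55a6) (nat_lit 1282))
 (.leaf (nat_lit 0x1002b542a0f2c) (nat_lit 1283))
) (.node (nat_lit 0x1002b574a0f2f) (.leaf (nat_lit 0x1002b542b558d) (nat_lit 1030))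
 (.leaf (nat_lit 0x1002b574a0f2f) (nat_lit 1794))
)) (.node (nat_lit 0x1002ba1eb4abe) (.node (nat_lit 0x1002ba1ea17b1) (.leaf (nat_lit 0x1002b574b5595) (nat_lit 1542))
 (.leaf (nat_lit 0x1002ba1ea17b1) (nat_lit 1793))
) (.node (nat_lit 0x1002ba3ea17a3) (.leaf (nat_lit 0x1002ba1eb4abe) (nat_lit 1543))
 (.leaf (nat_lit 0x1002ba3ea17a3) (nat_lit 1794))
))) (.node (nat_lit 0x1002ba6ab4aab) (.node (nat_lit 0x1002ba4ab4aa9) (.node (nat_lit 0x1002ba4aa178c) (.leaf (nat_lit 0x1002ba3eb4abc) (nat_lit 1542))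
 (.leaf (nat_lit 0x1002ba4aa178c) (nat_lit 1537))
) (.node (nat_lit 0x1002ba6aa179e) (.leaf (nat_lit 0x1002ba4ab4aa9) (nat_lit 1793))
 (.leaf (nat_lit 0x1002ba6aa179e) (nat_lit 1798))
)) (.node (nat_lit 0x1002bd1cb5537) (.node (nat_lit 0x1002bd1ca0bb9) (.leaf (nat_lit 0x1002ba6ab4aab) (nat_lit 1543))
 (.leaf (nat_lit 0x1002bd1ca0bb9) (nat_lit 1543))
) (.node (nat_lit 0x1002bd38a0bbb) (.leaf (nat_lit 0x1002bd1cb5537) (nat_lit 1538))
 (.node (nat_lit 0x1002bd38b5527) (.leaf (nat_lit 0x1002bd38a0bbb) (nat_lit 1538))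
 (.leaf (nat_lit 0x1002bd38b5527) (nat_lit 1282))
)))))) (.node (nat_lit 0x1003022ad892f) (.node (nat_lit 0x10030118c0429) (.node (nat_lit 0x10030104c0410) (.node (nat_lit 0x1002bd66a0bae) (.node (nat_lit 0x1002bd42b550d) (.leaf (nat_lit 0x1002bd42a0bac) (nat_lit 1281))
 (.leaf (nat_lit 0x1002bd42b550d) (nat_lit 1025))
) (.node (nat_lit 0x1002bd66b551d) (.leaf (nat_lit 0x1002bd66a0bae) (nat_lit 1536))
 (.leaf (nat_lit 0x1002bd66b551d) (nat_lit 1286))
)) (.node (nat_lit 0x10030106c0418) (.node (nat_lit 0x10030104d8492) (.leaf (nat_lit 0x10030104c0410) (nat_lit 1540))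
 (.leaf (nat_lit 0x10030104d8492) (nat_lit 1285))
) (.node (nat_lit 0x10030106d849b) (.leaf (nat_lit 0x10030106c0418) (nat_lit 1284))
 (.leaf (nat_lit 0x10030106d849b) (nat_lit 1029))
))) (.node (nat_lit 0x10030202c0808) (.node (nat_lit 0x1003011ac0421) (.node (nat_lit 0x10030118d84a5) (.leaf (nat_lit 0x10030118c0429) (nat_lit 1537))
 (.leaf (nat_lit 0x10030118d84a5) (nat_lit 1537))
) (.node (nat_lit 0x1003011ad84ac) (.leaf (nat_lit 0x1003011ac0421) (nat_lit 1537))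
 (.leaf (nat_lit 0x1003011ad84ac) (nat_lit 1281))
)) (.node (nat_lit 0x10030206c0818) (.node (nat_lit 0x10030202d8909) (.leaf (nat_lit 0x10030202c0808) (nat_lit 772))
 (.leaf (nat_lit 0x10030202d8909) (nat_lit 517))
) (.node (nat_lit 0x10030206d891b) (.leaf (nat_lit 0x10030206c0818) (nat_lit 1028))
 (.node (nat_lit 0x1003022ac083a) (.leaf (nat_lit 0x10030206d891b) (nat_lit 773))
 (.leaf (nat_lit 0x1003022ac083a) (nat_lit 1795))
))))) (.node (nat_lit 0x10030338d8da7) (.node (nat_lit 0x10030302d8d89) (.node (nat_lit 0x1003022ed893d) (.node (nat_lit 0x1003022ec082a) (.leaf (nat_lit 0x1003022ad892f) (nat_lit 1542))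
 (.leaf (nat_lit 0x1003022ec082a) (nat_lit 1799))
) (.node (nat_lit 0x10030302c0c08) (.leaf (nat_lit 0x1003022ed893d) (nat_lit 1539))
 (.leaf (nat_lit 0x10030302c0c08) (nat_lit 1028))
)) (.node (nat_lit 0x10030304d8d92) (.node (nat_lit 0x10030304c0c10) (.leaf (nat_lit 0x10030302d8d89) (nat_lit 773))
 (.leaf (nat_lit 0x10030304c0c10) (nat_lit 1284))
) (.node (nat_lit 0x10030338c0c3b) (.leaf (nat_lit 0x10030304d8d92) (nat_lit 1029))
 (.leaf (nat_lit 0x10030338c0c3b) (nat_lit 1793))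
))) (.node (nat_lit 0x10030c02d9289) (.node (nat_lit 0x1003033ed8dbc) (.node (nat_lit 0x1003033ec0c23) (.leaf (nat_lit 0x10030338d8da7) (nat_lit 1542))
 (.leaf (nat_lit 0x1003033ec0c23) (nat_lit 1793))
) (.node (nat_lit 0x10030c02c1488) (.leaf (nat_lit 0x1003033ed8dbc) (nat_lit 1537))
 (.leaf (nat_lit 0x10030c02c1488) (nat_lit 1024))
)) (.node (nat_lit 0x10030c1ad92ac) (.node (nat_lit 0x10030c1ac14a1) (.leaf (nat_lit 0x10030c02d9289) (nat_lit 775))
 (.leaf (nat_lit 0x10030c1ac14a1) (nat_lit 1282))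
) (.node (nat_lit 0x10030c44c14b4) (.leaf (nat_lit 0x10030c1ad92ac) (nat_lit 1026))
 (.node (nat_lit 0x10030c44d9296) (.leaf (nat_lit 0x10030c44c14b4) (nat_lit 1536))
 (.leaf (nat_lit 0x10030c44d9296) (nat_lit 1286))
))))))))) (.node (nat_lit 0x10039446fd31f) (.node (nat_lit 0x10032e18d99a5) (.node (nat_lit 0x10031c7cd93b1) (.node (nat_lit 0x1003157cc1d0f) (.node (nat_lit 0x10030d56c10b5) (.node (nat_lit 0x10030d18c10a9) (.node (nat_lit 0x10030d02c1088) (.node (nat_lit 0x10030c5cd92b3) (.leaf (nat_lit 0x10030c5cc149d) (nat_lit 1793))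
 (.leaf (nat_lit 0x10030c5cd92b3) (nat_lit 1538))
) (.node (nat_lit 0x10030d02d9609) (.leaf (nat_lit 0x10030d02c1088) (nat_lit 1031))
 (.leaf (nat_lit 0x10030d02d9609) (nat_lit 1025))
)) (.node (nat_lit 0x10030d4cc1094) (.node (nat_lit 0x10030d18d9625) (.leaf (nat_lit 0x10030d18c10a9) (nat_lit 1282))
 (.leaf (nat_lit 0x10030d18d9625) (nat_lit 1282))
) (.node (nat_lit 0x10030d4cd9632) (.leaf (nat_lit 0x10030d4cc1094) (nat_lit 1543))
 (.leaf (nat_lit 0x10030d4cd9632) (nat_lit 1538))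
))) (.node (nat_lit 0x1003152ec1d2a) (.node (nat_lit 0x10031504c1d10) (.node (nat_lit 0x10030d56d961e) (.leaf (nat_lit 0x10030d56c10b5) (nat_lit 1537))
 (.leaf (nat_lit 0x10030d56d961e) (nat_lit 1281))
) (.node (nat_lit 0x10031504d9792) (.leaf (nat_lit 0x10031504c1d10) (nat_lit 1543))
 (.leaf (nat_lit 0x10031504d9792) (nat_lit 1283))
)) (.node (nat_lit 0x10031556c1d35) (.node (nat_lit 0x1003152ed97bd) (.leaf (nat_lit 0x1003152ec1d2a) (nat_lit 1794))
 (.leaf (nat_lit 0x1003152ed97bd) (nat_lit 1539))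
) (.node (nat_lit 0x10031556d979e) (.leaf (nat_lit 0x10031556c1d35) (nat_lit 1539))
 (.leaf (nat_lit 0x10031556d979e) (nat_lit 1286))
)))) (.node (nat_lit 0x10031772c1537) (.node (nat_lit 0x1003172ac153a) (.node (nat_lit 0x10031704c1510) (.node (nat_lit 0x1003157cd97b1) (.leaf (nat_lit 0x1003157cc1d0f) (nat_lit 1542))
 (.leaf (nat_lit 0x1003157cd97b1) (nat_lit 1539))
) (.node (nat_lit 0x10031704d9e92) (.leaf (nat_lit 0x10031704c1510) (nat_lit 1539))
 (.leaf (nat_lit 0x10031704d9e92) (nat_lit 1287))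
)) (.node (nat_lit 0x1003175cc151d) (.node (nat_lit 0x1003172ad9eaf) (.leaf (nat_lit 0x1003172ac153a) (nat_lit 1795))
 (.leaf (nat_lit 0x1003172ad9eaf) (nat_lit 1538))
) (.node (nat_lit 0x1003175cd9eb3) (.leaf (nat_lit 0x1003175cc151d) (nat_lit 1539))
 (.leaf (nat_lit 0x1003175cd9eb3) (nat_lit 1282))
))) (.node (nat_lit 0x10031c3ec1da3) (.node (nat_lit 0x10031c06c1d98) (.node (nat_lit 0x10031772d9e8e) (.leaf (nat_lit 0x10031772c1537) (nat_lit 1283))
 (.leaf (nat_lit 0x10031772d9e8e) (nat_lit 1030))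
) (.node (nat_lit 0x10031c06d939b) (.leaf (nat_lit 0x10031c06c1d98) (nat_lit 1280))
 (.leaf (nat_lit 0x10031c06d939b) (nat_lit 1031))
)) (.node (nat_lit 0x10031c44c1db4) (.node (nat_lit 0x10031c3ed93bc) (.leaf (nat_lit 0x10031c3ec1da3) (nat_lit 1538))
 (.leaf (nat_lit 0x10031c3ed93bc) (nat_lit 1282))
) (.node (nat_lit 0x10031c44d9396) (.leaf (nat_lit 0x10031c44c1db4) (nat_lit 1794))
 (.node (nat_lit 0x10031c7cc1d8f) (.leaf (nat_lit 0x10031c44d9396) (nat_lit 1542))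
 (.leaf (nat_lit 0x10031c7cc1d8f) (nat_lit 1537))
)))))) (.node (nat_lit 0x1003261ac0a21) (.node (nat_lit 0x10031f72d9e0e) (.node (nat_lit 0x10031f38d9e27) (.node (nat_lit 0x10031f06d9e1b) (.node (nat_lit 0x10031f06c1198) (.leaf (nat_lit 0x10031c7cd93b1) (nat_lit 1539))
 (.leaf (nat_lit 0x10031f06c1198) (nat_lit 1287))
) (.node (nat_lit 0x10031f38c11bb) (.leaf (nat_lit 0x10031f06d9e1b) (nat_lit 1281))
 (.leaf (nat_lit 0x10031f38c11bb) (nat_lit 1538))
)) (.node (nat_lit 0x10031f4cd9e32) (.node (nat_lit 0x10031f4cc1194) (.leaf (nat_lit 0x10031f38d9e27) (nat_lit 1538))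
 (.leaf (nat_lit 0x10031f4cc1194) (nat_lit 1538))
) (.node (nat_lit 0x10031f72c11b7) (.leaf (nat_lit 0x10031f4cd9e32) (nat_lit 1282))
 (.leaf (nat_lit 0x10031f72c11b7) (nat_lit 1281))
))) (.node (nat_lit 0x10032238d8b27) (.node (nat_lit 0x10032218d8b25) (.node (nat_lit 0x10032218c1a29) (.leaf (nat_lit 0x10031f72d9e0e) (nat_lit 1025))
 (.leaf (nat_lit 0x10032218c1a29) (nat_lit 1287))
) (.node (nat_lit 0x10032238c1a3b) (.leaf (nat_lit 0x10032218d8b25) (nat_lit 1536))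
 (.leaf (nat_lit 0x10032238c1a3b) (nat_lit 1543))
)) (.node (nat_lit 0x1003225cd8b33) (.node (nat_lit 0x1003225cc1a1d) (.leaf (nat_lit 0x10032238d8b27) (nat_lit 1792))
 (.leaf (nat_lit 0x1003225cc1a1d) (nat_lit 1542))
) (.node (nat_lit 0x1003227cc1a0f) (.leaf (nat_lit 0x1003225cd8b33) (nat_lit 1792))
 (.node (nat_lit 0x1003227cd8b31) (.leaf (nat_lit 0x1003227cc1a0f) (nat_lit 1286))
 (.leaf (nat_lit 0x1003227cd8b31) (nat_lit 1536))
))))) (.node (nat_lit 0x10032b1ac1aa1) (.node (nat_lit 0x10032656c0a35) (.node (nat_lit 0x1003263ec0a23) (.node (nat_lit 0x1003261ad992c) (.leaf (nat_lit 0x1003261ac0a21) (nat_lit 1280))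
 (.leaf (nat_lit 0x1003261ad992c) (nat_lit 1031))
) (.node (nat_lit 0x1003263ed993c) (.leaf (nat_lit 0x1003263ec0a23) (nat_lit 1282))
 (.leaf (nat_lit 0x1003263ed993c) (nat_lit 1026))
)) (.node (nat_lit 0x10032672c0a37) (.node (nat_lit 0x10032656d991e) (.leaf (nat_lit 0x10032656c0a35) (nat_lit 1280))
 (.leaf (nat_lit 0x10032656d991e) (nat_lit 1030))
) (.node (nat_lit 0x10032672d990e) (.leaf (nat_lit 0x10032672c0a37) (nat_lit 1024))
 (.leaf (nat_lit 0x10032672d990e) (nat_lit 774))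
))) (.node (nat_lit 0x10032b4cc1a94) (.node (nat_lit 0x10032b2ac1aba) (.node (nat_lit 0x10032b1ad8f2c) (.leaf (nat_lit 0x10032b1ac1aa1) (nat_lit 1287))
 (.leaf (nat_lit 0x10032b1ad8f2c) (nat_lit 1281))
) (.node (nat_lit 0x10032b2ad8f2f) (.leaf (nat_lit 0x10032b2ac1aba) (nat_lit 1794))
 (.leaf (nat_lit 0x10032b2ad8f2f) (nat_lit 1798))
)) (.node (nat_lit 0x10032b7cc1a8f) (.node (nat_lit 0x10032b4cd8f32) (.leaf (nat_lit 0x10032b4cc1a94) (nat_lit 1538))
 (.leaf (nat_lit 0x10032b4cd8f32) (nat_lit 1538))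
) (.node (nat_lit 0x10032b7cd8f31) (.leaf (nat_lit 0x10032b7cc1a8f) (nat_lit 1542))
 (.node (nat_lit 0x10032e18c0ea9) (.leaf (nat_lit 0x10032b7cd8f31) (nat_lit 1542))
 (.leaf (nat_lit 0x10032e18c0ea9) (nat_lit 1537))
))))))) (.node (nat_lit 0x10038206fc91b) (.node (nat_lit 0x10033e38c07bb) (.node (nat_lit 0x1003392ed873d) (.node (nat_lit 0x10032e44d9996) (.node (nat_lit 0x10032e2ed99bd) (.node (nat_lit 0x10032e2ec0eaa) (.leaf (nat_lit 0x10032e18d99a5) (nat_lit 1287))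
 (.leaf (nat_lit 0x10032e2ec0eaa) (nat_lit 1794))
) (.node (nat_lit 0x10032e44c0eb4) (.leaf (nat_lit 0x10032e2ed99bd) (nat_lit 1538))
 (.leaf (nat_lit 0x10032e44c0eb4) (nat_lit 1794))
)) (.node (nat_lit 0x10032e72d998e) (.node (nat_lit 0x10032e72c0eb7) (.leaf (nat_lit 0x10032e44d9996) (nat_lit 1537))
 (.leaf (nat_lit 0x10032e72c0eb7) (nat_lit 1542))
) (.node (nat_lit 0x1003392ec1baa) (.leaf (nat_lit 0x10032e72d998e) (nat_lit 1286))
 (.leaf (nat_lit 0x1003392ec1baa) (nat_lit 1798))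
))) (.node (nat_lit 0x1003394cd8732) (.node (nat_lit 0x1003393ed873c) (.node (nat_lit 0x1003393ec1ba3) (.leaf (nat_lit 0x1003392ed873d) (nat_lit 1799))
 (.leaf (nat_lit 0x1003393ec1ba3) (nat_lit 1543))
) (.node (nat_lit 0x1003394cc1b94) (.leaf (nat_lit 0x1003393ed873c) (nat_lit 1281))
 (.leaf (nat_lit 0x1003394cc1b94) (nat_lit 1794))
)) (.node (nat_lit 0x1003395cd8733) (.node (nat_lit 0x1003395cc1b9d) (.leaf (nat_lit 0x1003394cd8732) (nat_lit 1537))
 (.leaf (nat_lit 0x1003395cc1b9d) (nat_lit 1798))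
) (.node (nat_lit 0x10033e2ac07ba) (.leaf (nat_lit 0x1003395cd8733) (nat_lit 1537))
 (.node (nat_lit 0x10033e2ad98af) (.leaf (nat_lit 0x10033e2ac07ba) (nat_lit 1798))
 (.leaf (nat_lit 0x10033e2ad98af) (nat_lit 1798))
))))) (.node (nat_lit 0x10038106e0418) (.node (nat_lit 0x10033e56c07b5) (.node (nat_lit 0x10033e44c07b4) (.node (nat_lit 0x10033e38d98a7) (.leaf (nat_lit 0x10033e38c07bb) (nat_lit 1793))
 (.leaf (nat_lit 0x10033e38d98a7) (nat_lit 1543))
) (.node (nat_lit 0x10033e44d9896) (.leaf (nat_lit 0x10033e44c07b4) (nat_lit 1795))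
 (.leaf (nat_lit 0x10033e44d9896) (nat_lit 1542))
)) (.node (nat_lit 0x10038104e0410) (.node (nat_lit 0x10033e56d989e) (.leaf (nat_lit 0x10033e56c07b5) (nat_lit 1798))
 (.leaf (nat_lit 0x10033e56d989e) (nat_lit 1542))
) (.node (nat_lit 0x10038104fc492) (.leaf (nat_lit 0x10038104e0410) (nat_lit 1540))
 (.leaf (nat_lit 0x10038104fc492) (nat_lit 1285))
))) (.node (nat_lit 0x1003811ae0421) (.node (nat_lit 0x10038118e0429) (.node (nat_lit 0x10038106fc49b) (.leaf (nat_lit 0x10038106e0418) (nat_lit 1286))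
 (.leaf (nat_lit 0x10038106fc49b) (nat_lit 1285))
) (.node (nat_lit 0x10038118fc4a5) (.leaf (nat_lit 0x10038118e0429) (nat_lit 1281))
 (.leaf (nat_lit 0x10038118fc4a5) (nat_lit 1281))
)) (.node (nat_lit 0x10038202e0808) (.node (nat_lit 0x1003811afc4ac) (.leaf (nat_lit 0x1003811ae0421) (nat_lit 1281))
 (.leaf (nat_lit 0x1003811afc4ac) (nat_lit 1025))
) (.node (nat_lit 0x10038202fc909) (.leaf (nat_lit 0x10038202e0808) (nat_lit 1284))
 (.node (nat_lit 0x10038206e0818) (.leaf (nat_lit 0x10038202fc909) (nat_lit 1029))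
 (.leaf (nat_lit 0x10038206e0818) (nat_lit 1540))
)))))) (.node (nat_lit 0x10038c46e14bc) (.node (nat_lit 0x10038304fcd92) (.node (nat_lit 0x1003822cfc934) (.node (nat_lit 0x10038228fc926) (.node (nat_lit 0x10038228e0832) (.leaf (nat_lit 0x10038206fc91b) (nat_lit 1285))
 (.leaf (nat_lit 0x10038228e0832) (nat_lit 2049))
) (.node (nat_lit 0x1003822ce0822) (.leaf (nat_lit 0x10038228fc926) (nat_lit 1798))
 (.leaf (nat_lit 0x1003822ce0822) (nat_lit 1799))
)) (.node (nat_lit 0x10038302fcd89) (.node (nat_lit 0x10038302e0c08) (.leaf (nat_lit 0x1003822cfc934) (nat_lit 1793))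
 (.leaf (nat_lit 0x10038302e0c08) (nat_lit 1028))
) (.node (nat_lit 0x10038304e0c10) (.leaf (nat_lit 0x10038302fcd89) (nat_lit 773))
 (.leaf (nat_lit 0x10038304e0c10) (nat_lit 1284))
))) (.node (nat_lit 0x1003833cfcdb5) (.node (nat_lit 0x1003833afcdae) (.node (nat_lit 0x1003833ae0c33) (.leaf (nat_lit 0x10038304fcd92) (nat_lit 1029))
 (.leaf (nat_lit 0x1003833ae0c33) (nat_lit 1793))
) (.node (nat_lit 0x1003833ce0c2b) (.leaf (nat_lit 0x1003833afcdae) (nat_lit 1537))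
 (.leaf (nat_lit 0x1003833ce0c2b) (nat_lit 1793))
)) (.node (nat_lit 0x10038c02fd289) (.node (nat_lit 0x10038c02e1488) (.leaf (nat_lit 0x1003833cfcdb5) (nat_lit 1537))
 (.leaf (nat_lit 0x10038c02e1488) (nat_lit 768))
) (.node (nat_lit 0x10038c1ae14a1) (.leaf (nat_lit 0x10038c02fd289) (nat_lit 519))
 (.node (nat_lit 0x10038c1afd2ac) (.leaf (nat_lit 0x10038c1ae14a1) (nat_lit 1026))
 (.leaf (nat_lit 0x10038c1afd2ac) (nat_lit 770))
))))) (.node (nat_lit 0x10038d4ee109c) (.node (nat_lit 0x10038d02e1088) (.node (nat_lit 0x10038c5ee1495) (.node (nat_lit 0x10038c46fd29f) (.leaf (nat_lit 0x10038c46e14bc) (nat_lit 1280))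
 (.leaf (nat_lit 0x10038c46fd29f) (nat_lit 1030))
) (.node (nat_lit 0x10038c5efd2ba) (.leaf (nat_lit 0x10038c5ee1495) (nat_lit 1538))
 (.leaf (nat_lit 0x10038c5efd2ba) (nat_lit 1282))
)) (.node (nat_lit 0x10038d18e10a9) (.node (nat_lit 0x10038d02fd609) (.leaf (nat_lit 0x10038d02e1088) (nat_lit 775))
 (.leaf (nat_lit 0x10038d02fd609) (nat_lit 769))
) (.node (nat_lit 0x10038d18fd625) (.leaf (nat_lit 0x10038d18e10a9) (nat_lit 1026))
 (.leaf (nat_lit 0x10038d18fd625) (nat_lit 1026))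
))) (.node (nat_lit 0x10039404e1910) (.node (nat_lit 0x10038d54e10bd) (.node (nat_lit 0x10038d4efd63b) (.leaf (nat_lit 0x10038d4ee109c) (nat_lit 1542))
 (.leaf (nat_lit 0x10038d4efd63b) (nat_lit 1792))
) (.node (nat_lit 0x10038d54fd617) (.leaf (nat_lit 0x10038d54e10bd) (nat_lit 1794))
 (.leaf (nat_lit 0x10038d54fd617) (nat_lit 1537))
)) (.node (nat_lit 0x1003942ce1922) (.node (nat_lit 0x10039404fd312) (.leaf (nat_lit 0x10039404e1910) (nat_lit 1543))
 (.leaf (nat_lit 0x10039404fd312) (nat_lit 1287))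
) (.node (nat_lit 0x1003942cfd334) (.leaf (nat_lit 0x1003942ce1922) (nat_lit 1794))
 (.node (nat_lit 0x10039446e193c) (.leaf (nat_lit 0x1003942cfd334) (nat_lit 1538))
 (.leaf (nat_lit 0x10039446e193c) (nat_lit 1536))
)))))))) (.node (nat_lit 0x1003b728e0732) (.node (nat_lit 0x1003a36ee1e0e) (.node (nat_lit 0x10039d54fd717) (.node (nat_lit 0x1003964efda3b) (.node (nat_lit 0x10039604fda12) (.node (nat_lit 0x1003946efd339) (.node (nat_lit 0x1003946ee190e) (.leaf (nat_lit 0x10039446fd31f) (nat_lit 1286))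
 (.leaf (nat_lit 0x1003946ee190e) (nat_lit 1537))
) (.node (nat_lit 0x10039604e1110) (.leaf (nat_lit 0x1003946efd339) (nat_lit 1538))
 (.leaf (nat_lit 0x10039604e1110) (nat_lit 1543))
)) (.node (nat_lit 0x10039628fda26) (.node (nat_lit 0x10039628e1132) (.leaf (nat_lit 0x10039604fda12) (nat_lit 1287))
 (.leaf (nat_lit 0x10039628e1132) (nat_lit 1794))
) (.node (nat_lit 0x1003964ee111c) (.leaf (nat_lit 0x10039628fda26) (nat_lit 1538))
 (.leaf (nat_lit 0x1003964ee111c) (nat_lit 1798))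
))) (.node (nat_lit 0x10039d06fd71b) (.node (nat_lit 0x10039662fda0f) (.node (nat_lit 0x10039662e113e) (.leaf (nat_lit 0x1003964efda3b) (nat_lit 1538))
 (.leaf (nat_lit 0x10039662e113e) (nat_lit 1537))
) (.node (nat_lit 0x10039d06e1998) (.leaf (nat_lit 0x10039662fda0f) (nat_lit 1281))
 (.leaf (nat_lit 0x10039d06e1998) (nat_lit 1287))
)) (.node (nat_lit 0x10039d3cfd735) (.node (nat_lit 0x10039d3ce19ab) (.leaf (nat_lit 0x10039d06fd71b) (nat_lit 1027))
 (.leaf (nat_lit 0x10039d3ce19ab) (nat_lit 1538))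
) (.node (nat_lit 0x10039d54e19bd) (.leaf (nat_lit 0x10039d3cfd735) (nat_lit 1283))
 (.leaf (nat_lit 0x10039d54e19bd) (nat_lit 1794))
)))) (.node (nat_lit 0x10039e5efdaba) (.node (nat_lit 0x10039e06fda9b) (.node (nat_lit 0x10039d6efd739) (.node (nat_lit 0x10039d6ee198e) (.leaf (nat_lit 0x10039d54fd717) (nat_lit 1542))
 (.leaf (nat_lit 0x10039d6ee198e) (nat_lit 1542))
) (.node (nat_lit 0x10039e06e1598) (.leaf (nat_lit 0x10039d6efd739) (nat_lit 1283))
 (.leaf (nat_lit 0x10039e06e1598) (nat_lit 1283))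
)) (.node (nat_lit 0x10039e3afdaae) (.node (nat_lit 0x10039e3ae15b3) (.leaf (nat_lit 0x10039e06fda9b) (nat_lit 1031))
 (.leaf (nat_lit 0x10039e3ae15b3) (nat_lit 1539))
) (.node (nat_lit 0x10039e5ee1595) (.leaf (nat_lit 0x10039e3afdaae) (nat_lit 1282))
 (.leaf (nat_lit 0x10039e5ee1595) (nat_lit 1539))
))) (.node (nat_lit 0x1003a318fcfa5) (.node (nat_lit 0x10039e62fda8f) (.node (nat_lit 0x10039e62e15be) (.leaf (nat_lit 0x10039e5efdaba) (nat_lit 1282))
 (.leaf (nat_lit 0x10039e62e15be) (nat_lit 1283))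
) (.node (nat_lit 0x1003a318e1e29) (.leaf (nat_lit 0x10039e62fda8f) (nat_lit 1030))
 (.leaf (nat_lit 0x1003a318e1e29) (nat_lit 1543))
)) (.node (nat_lit 0x1003a328fcfa6) (.node (nat_lit 0x1003a328e1e32) (.leaf (nat_lit 0x1003a318fcfa5) (nat_lit 1543))
 (.leaf (nat_lit 0x1003a328e1e32) (nat_lit 1538))
) (.node (nat_lit 0x1003a35ee1e15) (.leaf (nat_lit 0x1003a328fcfa6) (nat_lit 1538))
 (.node (nat_lit 0x1003a35efcfba) (.leaf (nat_lit 0x1003a35ee1e15) (nat_lit 1798))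
 (.leaf (nat_lit 0x1003a35efcfba) (nat_lit 1537))
)))))) (.node (nat_lit 0x1003aa6efcbb9) (.node (nat_lit 0x1003a762e0e3e) (.node (nat_lit 0x1003a72ce0e22) (.node (nat_lit 0x1003a71ae0e21) (.node (nat_lit 0x1003a36efcfb9) (.leaf (nat_lit 0x1003a36ee1e0e) (nat_lit 1286))
 (.leaf (nat_lit 0x1003a36efcfb9) (nat_lit 1286))
) (.node (nat_lit 0x1003a71afddac) (.leaf (nat_lit 0x1003a71ae0e21) (nat_lit 1536))
 (.leaf (nat_lit 0x1003a71afddac) (nat_lit 1287))
)) (.node (nat_lit 0x1003a754e0e3d) (.node (nat_lit 0x1003a72cfddb4) (.leaf (nat_lit 0x1003a72ce0e22) (nat_lit 1538))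
 (.leaf (nat_lit 0x1003a72cfddb4) (nat_lit 1282))
) (.node (nat_lit 0x1003a754fdd97) (.leaf (nat_lit 0x1003a754e0e3d) (nat_lit 1536))
 (.leaf (nat_lit 0x1003a754fdd97) (nat_lit 1286))
))) (.node (nat_lit 0x1003aa3ae1eb3) (.node (nat_lit 0x1003aa1ae1ea1) (.node (nat_lit 0x1003a762fdd8f) (.leaf (nat_lit 0x1003a762e0e3e) (nat_lit 1286))
 (.leaf (nat_lit 0x1003a762fdd8f) (nat_lit 1030))
) (.node (nat_lit 0x1003aa1afcbac) (.leaf (nat_lit 0x1003aa1ae1ea1) (nat_lit 1543))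
 (.leaf (nat_lit 0x1003aa1afcbac) (nat_lit 1537))
)) (.node (nat_lit 0x1003aa4ee1e9c) (.node (nat_lit 0x1003aa3afcbae) (.leaf (nat_lit 0x1003aa3ae1eb3) (nat_lit 1794))
 (.leaf (nat_lit 0x1003aa3afcbae) (nat_lit 1798))
) (.node (nat_lit 0x1003aa4efcbbb) (.leaf (nat_lit 0x1003aa4ee1e9c) (nat_lit 1793))
 (.node (nat_lit 0x1003aa6ee1e8e) (.leaf (nat_lit 0x1003aa4efcbbb) (nat_lit 1799))
 (.leaf (nat_lit 0x1003aa6ee1e8e) (nat_lit 1542))
))))) (.node (nat_lit 0x1003af62fdd0f) (.node (nat_lit 0x1003af3cfdd35) (.node (nat_lit 0x1003af18fdd25) (.node (nat_lit 0x1003af18e0aa9) (.leaf (nat_lit 0x1003aa6efcbb9) (nat_lit 1542))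
 (.leaf (nat_lit 0x1003af18e0aa9) (nat_lit 1793))
) (.node (nat_lit 0x1003af3ce0aab) (.leaf (nat_lit 0x1003af18fdd25) (nat_lit 1543))
 (.leaf (nat_lit 0x1003af3ce0aab) (nat_lit 1538))
)) (.node (nat_lit 0x1003af46fdd1f) (.node (nat_lit 0x1003af46e0abc) (.leaf (nat_lit 0x1003af3cfdd35) (nat_lit 1282))
 (.leaf (nat_lit 0x1003af46e0abc) (nat_lit 1537))
) (.node (nat_lit 0x1003af62e0abe) (.leaf (nat_lit 0x1003af46fdd1f) (nat_lit 1281))
 (.leaf (nat_lit 0x1003af62e0abe) (nat_lit 1280))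
))) (.node (nat_lit 0x1003b13cfc7b5) (.node (nat_lit 0x1003b12cfc7b4) (.node (nat_lit 0x1003b12ce1f22) (.leaf (nat_lit 0x1003af62fdd0f) (nat_lit 1030))
 (.leaf (nat_lit 0x1003b12ce1f22) (nat_lit 1793))
) (.node (nat_lit 0x1003b13ce1f2b) (.leaf (nat_lit 0x1003b12cfc7b4) (nat_lit 1537))
 (.leaf (nat_lit 0x1003b13ce1f2b) (nat_lit 1792))
)) (.node (nat_lit 0x1003b14efc7bb) (.node (nat_lit 0x1003b14ee1f1c) (.leaf (nat_lit 0x1003b13cfc7b5) (nat_lit 1543))
 (.leaf (nat_lit 0x1003b14ee1f1c) (nat_lit 1798))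
) (.node (nat_lit 0x1003b15ee1f15) (.leaf (nat_lit 0x1003b14efc7bb) (nat_lit 1793))
 (.node (nat_lit 0x1003b15efc7ba) (.leaf (nat_lit 0x1003b15ee1f15) (nat_lit 1793))
 (.leaf (nat_lit 0x1003b15efc7ba) (nat_lit 1537))
))))))) (.node (nat_lit 0x10050e1e4dbbe) (.node (nat_lit 0x10050c0265488) (.node (nat_lit 0x100501184c4a5) (.node (nat_lit 0x1003b746e073c) (.node (nat_lit 0x1003b73ae0733) (.node (nat_lit 0x1003b728fdca6) (.leaf (nat_lit 0x1003b728e0732) (nat_lit 1795))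
 (.leaf (nat_lit 0x1003b728fdca6) (nat_lit 1538))
) (.node (nat_lit 0x1003b73afdcae) (.leaf (nat_lit 0x1003b73ae0733) (nat_lit 1799))
 (.leaf (nat_lit 0x1003b73afdcae) (nat_lit 1799))
)) (.node (nat_lit 0x1003b754e073d) (.node (nat_lit 0x1003b746fdc9f) (.leaf (nat_lit 0x1003b746e073c) (nat_lit 1539))
 (.leaf (nat_lit 0x1003b746fdc9f) (nat_lit 1286))
) (.node (nat_lit 0x1003b754fdc97) (.leaf (nat_lit 0x1003b754e073d) (nat_lit 2054))
 (.leaf (nat_lit 0x1003b754fdc97) (nat_lit 1798))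
))) (.node (nat_lit 0x1005011c4c4b7) (.node (nat_lit 0x1005011a4c4ac) (.node (nat_lit 0x1005011864429) (.leaf (nat_lit 0x100501184c4a5) (nat_lit 1281))
 (.leaf (nat_lit 0x1005011864429) (nat_lit 1537))
) (.node (nat_lit 0x1005011a64421) (.leaf (nat_lit 0x1005011a4c4ac) (nat_lit 1537))
 (.leaf (nat_lit 0x1005011a64421) (nat_lit 1542))
)) (.node (nat_lit 0x1005011e4c4be) (.node (nat_lit 0x1005011c64439) (.leaf (nat_lit 0x1005011c4c4b7) (nat_lit 1025))
 (.leaf (nat_lit 0x1005011c64439) (nat_lit 1281))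
) (.node (nat_lit 0x1005011e64431) (.leaf (nat_lit 0x1005011e4c4be) (nat_lit 1281))
 (.node (nat_lit 0x10050c024d289) (.leaf (nat_lit 0x1005011e64431) (nat_lit 1539))
 (.leaf (nat_lit 0x10050c024d289) (nat_lit 1027))
))))) (.node (nat_lit 0x10050d0265088) (.node (nat_lit 0x10050c44654b4) (.node (nat_lit 0x10050c1a654a1) (.node (nat_lit 0x10050c1a4d2ac) (.leaf (nat_lit 0x10050c0265488) (nat_lit 1286))
 (.leaf (nat_lit 0x10050c1a4d2ac) (nat_lit 1283))
) (.node (nat_lit 0x10050c444d296) (.leaf (nat_lit 0x10050c1a654a1) (nat_lit 1538))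
 (.leaf (nat_lit 0x10050c444d296) (nat_lit 1539))
)) (.node (nat_lit 0x10050c5c6549d) (.node (nat_lit 0x10050c5c4d2b3) (.leaf (nat_lit 0x10050c44654b4) (nat_lit 1799))
 (.leaf (nat_lit 0x10050c5c4d2b3) (nat_lit 1543))
) (.node (nat_lit 0x10050d024d609) (.leaf (nat_lit 0x10050c5c6549d) (nat_lit 1792))
 (.leaf (nat_lit 0x10050d024d609) (nat_lit 774))
))) (.node (nat_lit 0x10050d4e6509c) (.node (nat_lit 0x10050d18650a9) (.node (nat_lit 0x10050d184d625) (.leaf (nat_lit 0x10050d0265088) (nat_lit 1027))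
 (.leaf (nat_lit 0x10050d184d625) (nat_lit 1026))
) (.node (nat_lit 0x10050d4e4d63b) (.leaf (nat_lit 0x10050d18650a9) (nat_lit 1283))
 (.leaf (nat_lit 0x10050d4e4d63b) (nat_lit 1543))
)) (.node (nat_lit 0x10050d54650bd) (.node (nat_lit 0x10050d544d617) (.leaf (nat_lit 0x10050d4e6509c) (nat_lit 1795))
 (.leaf (nat_lit 0x10050d544d617) (nat_lit 1799))
) (.node (nat_lit 0x10050e024db89) (.leaf (nat_lit 0x10050d54650bd) (nat_lit 1799))
 (.node (nat_lit 0x10050e0265c88) (.leaf (nat_lit 0x10050e024db89) (nat_lit 769))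
 (.leaf (nat_lit 0x10050e0265c88) (nat_lit 1025))
)))))) (.node (nat_lit 0x100510546493d) (.node (nat_lit 0x10050f1c4df37) (.node (nat_lit 0x10050e784dba3) (.node (nat_lit 0x10050e644db94) (.node (nat_lit 0x10050e1e65cb1) (.leaf (nat_lit 0x10050e1e4dbbe) (nat_lit 1026))
 (.leaf (nat_lit 0x10050e1e65cb1) (nat_lit 1282))
) (.node (nat_lit 0x10050e6465ca6) (.leaf (nat_lit 0x10050e644db94) (nat_lit 1799))
 (.leaf (nat_lit 0x10050e6465ca6) (nat_lit 1798))
)) (.node (nat_lit 0x10050f024df09) (.node (nat_lit 0x10050e7865c9f) (.leaf (nat_lit 0x10050e784dba3) (nat_lit 1798))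
 (.leaf (nat_lit 0x10050e7865c9f) (nat_lit 1799))
) (.node (nat_lit 0x10050f0265888) (.leaf (nat_lit 0x10050f024df09) (nat_lit 518))
 (.leaf (nat_lit 0x10050f0265888) (nat_lit 768))
))) (.node (nat_lit 0x10050f744df15) (.node (nat_lit 0x10050f6a4df2b) (.node (nat_lit 0x10050f1c658b9) (.leaf (nat_lit 0x10050f1c4df37) (nat_lit 770))
 (.leaf (nat_lit 0x10050f1c658b9) (nat_lit 1026))
) (.node (nat_lit 0x10050f6a6589e) (.leaf (nat_lit 0x10050f6a4df2b) (nat_lit 1287))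
 (.leaf (nat_lit 0x10050f6a6589e) (nat_lit 1536))
)) (.node (nat_lit 0x100510444c116) (.node (nat_lit 0x10050f74658af) (.leaf (nat_lit 0x10050f744df15) (nat_lit 1538))
 (.leaf (nat_lit 0x10050f74658af) (nat_lit 1543))
) (.node (nat_lit 0x1005104464934) (.leaf (nat_lit 0x100510444c116) (nat_lit 1793))
 (.node (nat_lit 0x100510544c117) (.leaf (nat_lit 0x1005104464934) (nat_lit 1798))
 (.leaf (nat_lit 0x100510544c117) (nat_lit 1281))
))))) (.node (nat_lit 0x10051b5c6419d) (.node (nat_lit 0x100510746492f) (.node (nat_lit 0x1005106464926) (.node (nat_lit 0x100510644c114) (.leaf (nat_lit 0x100510546493d) (nat_lit 1537))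
 (.leaf (nat_lit 0x100510644c114) (nat_lit 1537))
) (.node (nat_lit 0x100510744c115) (.leaf (nat_lit 0x1005106464926) (nat_lit 1793))
 (.leaf (nat_lit 0x100510744c115) (nat_lit 1537))
)) (.node (nat_lit 0x10051b4e6419c) (.node (nat_lit 0x10051b4e4cc3b) (.leaf (nat_lit 0x100510746492f) (nat_lit 1795))
 (.leaf (nat_lit 0x10051b4e4cc3b) (nat_lit 1798))
) (.node (nat_lit 0x10051b5c4cc33) (.leaf (nat_lit 0x10051b4e6419c) (nat_lit 1798))
 (.leaf (nat_lit 0x10051b5c4cc33) (nat_lit 1537))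
))) (.node (nat_lit 0x10051b786419f) (.node (nat_lit 0x10051b6a6419e) (.node (nat_lit 0x10051b6a4cc2b) (.leaf (nat_lit 0x10051b5c6419d) (nat_lit 1537))
 (.leaf (nat_lit 0x10051b6a4cc2b) (nat_lit 1539))
) (.node (nat_lit 0x10051b784cc23) (.leaf (nat_lit 0x10051b6a6419e) (nat_lit 1793))
 (.leaf (nat_lit 0x10051b784cc23) (nat_lit 1537))
)) (.node (nat_lit 0x1005221865a29) (.node (nat_lit 0x100522184cb25) (.leaf (nat_lit 0x10051b786419f) (nat_lit 1793))
 (.leaf (nat_lit 0x100522184cb25) (nat_lit 1543))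
) (.node (nat_lit 0x100522204cb02) (.leaf (nat_lit 0x1005221865a29) (nat_lit 1543))
 (.node (nat_lit 0x1005222065a12) (.leaf (nat_lit 0x100522204cb02) (nat_lit 1030))
 (.leaf (nat_lit 0x1005222065a12) (nat_lit 1283))
)))))))))) (.node (nat_lit 0x1008b12c2c7b4) (.node (nat_lit 0x1005ab3068f03) (.node (nat_lit 0x1005811e684be) (.node (nat_lit 0x1005324465334) (.node (nat_lit 0x10052a4e4cbbb) (.node (nat_lit 0x100527544dd97) (.node (nat_lit 0x1005271a4ddac) (.node (nat_lit 0x100522644cb14) (.node (nat_lit 0x1005225c65a1d) (.leaf (nat_lit 0x1005225c4cb33) (nat_lit 1542))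
 (.leaf (nat_lit 0x1005225c65a1d) (nat_lit 1794))
) (.node (nat_lit 0x1005226465a26) (.leaf (nat_lit 0x100522644cb14) (nat_lit 1282))
 (.leaf (nat_lit 0x1005226465a26) (nat_lit 1539))
)) (.node (nat_lit 0x100527364dd98) (.node (nat_lit 0x1005271a64e21) (.leaf (nat_lit 0x1005271a4ddac) (nat_lit 1283))
 (.leaf (nat_lit 0x1005271a64e21) (nat_lit 1543))
) (.node (nat_lit 0x1005273664e03) (.leaf (nat_lit 0x100527364dd98) (nat_lit 1027))
 (.leaf (nat_lit 0x1005273664e03) (nat_lit 1286))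
))) (.node (nat_lit 0x10052a1a4cbac) (.node (nat_lit 0x100527784dda3) (.node (nat_lit 0x1005275464e3d) (.leaf (nat_lit 0x100527544dd97) (nat_lit 1539))
 (.leaf (nat_lit 0x1005275464e3d) (nat_lit 1794))
) (.node (nat_lit 0x1005277864e1f) (.leaf (nat_lit 0x100527784dda3) (nat_lit 1283))
 (.leaf (nat_lit 0x1005277864e1f) (nat_lit 1538))
)) (.node (nat_lit 0x10052a204cb82) (.node (nat_lit 0x10052a1a65ea1) (.leaf (nat_lit 0x10052a1a4cbac) (nat_lit 1287))
 (.leaf (nat_lit 0x10052a1a65ea1) (nat_lit 1539))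
) (.node (nat_lit 0x10052a2065e92) (.leaf (nat_lit 0x10052a204cb82) (nat_lit 1025))
 (.leaf (nat_lit 0x10052a2065e92) (nat_lit 1281))
)))) (.node (nat_lit 0x10052e444d996) (.node (nat_lit 0x10052e184d9a5) (.node (nat_lit 0x10052a744cb95) (.node (nat_lit 0x10052a4e65e9c) (.leaf (nat_lit 0x10052a4e4cbbb) (nat_lit 1538))
 (.leaf (nat_lit 0x10052a4e65e9c) (nat_lit 1799))
) (.node (nat_lit 0x10052a7465eaf) (.leaf (nat_lit 0x10052a744cb95) (nat_lit 1282))
 (.leaf (nat_lit 0x10052a7465eaf) (nat_lit 1538))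
)) (.node (nat_lit 0x10052e364d998) (.node (nat_lit 0x10052e1864ea9) (.leaf (nat_lit 0x10052e184d9a5) (nat_lit 1543))
 (.leaf (nat_lit 0x10052e1864ea9) (nat_lit 1799))
) (.node (nat_lit 0x10052e3664e83) (.leaf (nat_lit 0x10052e364d998) (nat_lit 1281))
 (.leaf (nat_lit 0x10052e3664e83) (nat_lit 1281))
))) (.node (nat_lit 0x1005321c4ca37) (.node (nat_lit 0x10052e6a4d9ab) (.node (nat_lit 0x10052e4464eb4) (.leaf (nat_lit 0x10052e444d996) (nat_lit 1543))
 (.leaf (nat_lit 0x10052e4464eb4) (nat_lit 1795))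
) (.node (nat_lit 0x10052e6a64e9e) (.leaf (nat_lit 0x10052e6a4d9ab) (nat_lit 1538))
 (.leaf (nat_lit 0x10052e6a64e9e) (nat_lit 1538))
)) (.node (nat_lit 0x100532204ca02) (.node (nat_lit 0x1005321c65339) (.leaf (nat_lit 0x1005321c4ca37) (nat_lit 1543))
 (.leaf (nat_lit 0x1005321c65339) (nat_lit 1799))
) (.node (nat_lit 0x1005322065312) (.leaf (nat_lit 0x100532204ca02) (nat_lit 1283))
 (.node (nat_lit 0x100532444ca16) (.leaf (nat_lit 0x1005322065312) (nat_lit 1542))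
 (.leaf (nat_lit 0x100532444ca16) (nat_lit 1539))
)))))) (.node (nat_lit 0x10053a6a4caab) (.node (nat_lit 0x1005355c64f1d) (.node (nat_lit 0x1005351e64f31) (.node (nat_lit 0x100532786531f) (.node (nat_lit 0x100532784ca23) (.leaf (nat_lit 0x1005324465334) (nat_lit 1794))
 (.leaf (nat_lit 0x100532784ca23) (nat_lit 1543))
) (.node (nat_lit 0x1005351e4d5be) (.leaf (nat_lit 0x100532786531f) (nat_lit 1792))
 (.leaf (nat_lit 0x1005351e4d5be) (nat_lit 1536))
)) (.node (nat_lit 0x1005353664f03) (.node (nat_lit 0x100535364d598) (.leaf (nat_lit 0x1005351e64f31) (nat_lit 1287))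
 (.leaf (nat_lit 0x100535364d598) (nat_lit 1030))
) (.node (nat_lit 0x1005355c4d5b3) (.leaf (nat_lit 0x1005353664f03) (nat_lit 1030))
 (.leaf (nat_lit 0x1005355c4d5b3) (nat_lit 1282))
))) (.node (nat_lit 0x10053a1e657b1) (.node (nat_lit 0x1005357464f2f) (.node (nat_lit 0x100535744d595) (.leaf (nat_lit 0x1005355c64f1d) (nat_lit 1282))
 (.leaf (nat_lit 0x100535744d595) (nat_lit 1543))
) (.node (nat_lit 0x10053a1e4cabe) (.leaf (nat_lit 0x1005357464f2f) (nat_lit 1538))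
 (.leaf (nat_lit 0x10053a1e4cabe) (nat_lit 1287))
)) (.node (nat_lit 0x10053a2065792) (.node (nat_lit 0x10053a204ca82) (.leaf (nat_lit 0x10053a1e657b1) (nat_lit 1537))
 (.leaf (nat_lit 0x10053a204ca82) (nat_lit 774))
) (.node (nat_lit 0x10053a544ca97) (.leaf (nat_lit 0x10053a2065792) (nat_lit 1024))
 (.node (nat_lit 0x10053a54657bd) (.leaf (nat_lit 0x10053a544ca97) (nat_lit 1026))
 (.leaf (nat_lit 0x10053a54657bd) (nat_lit 1282))
))))) (.node (nat_lit 0x10053c644d194) (.node (nat_lit 0x10053c364d198) (.node (nat_lit 0x10053c1c4d1b7) (.node (nat_lit 0x10053a6a6579e) (.leaf (nat_lit 0x10053a6a4caab) (nat_lit 1538))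
 (.leaf (nat_lit 0x10053a6a6579e) (nat_lit 1543))
) (.node (nat_lit 0x10053c1c64fb9) (.leaf (nat_lit 0x10053c1c4d1b7) (nat_lit 1543))
 (.leaf (nat_lit 0x10053c1c64fb9) (nat_lit 1543))
)) (.node (nat_lit 0x10053c4e4d1bb) (.node (nat_lit 0x10053c3664f83) (.leaf (nat_lit 0x10053c364d198) (nat_lit 1286))
 (.leaf (nat_lit 0x10053c3664f83) (nat_lit 1539))
) (.node (nat_lit 0x10053c4e64f9c) (.leaf (nat_lit 0x10053c4e4d1bb) (nat_lit 1538))
 (.leaf (nat_lit 0x10053c4e64f9c) (nat_lit 1795))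
))) (.node (nat_lit 0x1005811a44421) (.node (nat_lit 0x1005811844429) (.node (nat_lit 0x10053c6464fa6) (.leaf (nat_lit 0x10053c644d194) (nat_lit 1799))
 (.leaf (nat_lit 0x10053c6464fa6) (nat_lit 1799))
) (.node (nat_lit 0x10058118684a5) (.leaf (nat_lit 0x1005811844429) (nat_lit 1793))
 (.leaf (nat_lit 0x10058118684a5) (nat_lit 1537))
)) (.node (nat_lit 0x1005811c44439) (.node (nat_lit 0x1005811a684ac) (.leaf (nat_lit 0x1005811a44421) (nat_lit 1537))
 (.leaf (nat_lit 0x1005811a684ac) (nat_lit 1281))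
) (.node (nat_lit 0x1005811c684b7) (.leaf (nat_lit 0x1005811c44439) (nat_lit 1537))
 (.node (nat_lit 0x1005811e44431) (.leaf (nat_lit 0x1005811c684b7) (nat_lit 1283))
 (.leaf (nat_lit 0x1005811e44431) (nat_lit 1281))
))))))) (.node (nat_lit 0x1005924c68832) (.node (nat_lit 0x10058e0245c88) (.node (nat_lit 0x10058c5e692ba) (.node (nat_lit 0x10058c1a692ac) (.node (nat_lit 0x10058c0269289) (.node (nat_lit 0x10058c0245488) (.leaf (nat_lit 0x1005811e684be) (nat_lit 1281))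
 (.leaf (nat_lit 0x10058c0245488) (nat_lit 1030))
) (.node (nat_lit 0x10058c1a454a1) (.leaf (nat_lit 0x10058c0269289) (nat_lit 771))
 (.leaf (nat_lit 0x10058c1a454a1) (nat_lit 1282))
)) (.node (nat_lit 0x10058c466929f) (.node (nat_lit 0x10058c46454bc) (.leaf (nat_lit 0x10058c1a692ac) (nat_lit 1027))
 (.leaf (nat_lit 0x10058c46454bc) (nat_lit 1543))
) (.node (nat_lit 0x10058c5e45495) (.leaf (nat_lit 0x10058c466929f) (nat_lit 1283))
 (.leaf (nat_lit 0x10058c5e45495) (nat_lit 1794))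
))) (.node (nat_lit 0x10058d1869625) (.node (nat_lit 0x10058d0269609) (.node (nat_lit 0x10058d0245088) (.leaf (nat_lit 0x10058c5e692ba) (nat_lit 1539))
 (.leaf (nat_lit 0x10058d0245088) (nat_lit 1283))
) (.node (nat_lit 0x10058d18450a9) (.leaf (nat_lit 0x10058d0269609) (nat_lit 1030))
 (.leaf (nat_lit 0x10058d18450a9) (nat_lit 1539))
)) (.node (nat_lit 0x10058d4c69632) (.node (nat_lit 0x10058d4c45094) (.leaf (nat_lit 0x10058d1869625) (nat_lit 1282))
 (.leaf (nat_lit 0x10058d4c45094) (nat_lit 1794))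
) (.node (nat_lit 0x10058d56450b5) (.leaf (nat_lit 0x10058d4c69632) (nat_lit 1542))
 (.node (nat_lit 0x10058d566961e) (.leaf (nat_lit 0x10058d56450b5) (nat_lit 1543))
 (.leaf (nat_lit 0x10058d566961e) (nat_lit 1543))
))))) (.node (nat_lit 0x10058f0245888) (.node (nat_lit 0x10058e6645cae) (.node (nat_lit 0x10058e1e45cb1) (.node (nat_lit 0x10058e0269b89) (.leaf (nat_lit 0x10058e0245c88) (nat_lit 774))
 (.leaf (nat_lit 0x10058e0269b89) (nat_lit 774))
) (.node (nat_lit 0x10058e1e69bbe) (.leaf (nat_lit 0x10058e1e45cb1) (nat_lit 1026))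
 (.leaf (nat_lit 0x10058e1e69bbe) (nat_lit 1026))
)) (.node (nat_lit 0x10058e7a45c97) (.node (nat_lit 0x10058e6669b9d) (.leaf (nat_lit 0x10058e6645cae) (nat_lit 1287))
 (.leaf (nat_lit 0x10058e6669b9d) (nat_lit 1536))
) (.node (nat_lit 0x10058e7a69baa) (.leaf (nat_lit 0x10058e7a45c97) (nat_lit 1538))
 (.leaf (nat_lit 0x10058e7a69baa) (nat_lit 1543))
))) (.node (nat_lit 0x10058f6845896) (.node (nat_lit 0x10058f1c458b9) (.node (nat_lit 0x10058f0269f09) (.leaf (nat_lit 0x10058f0245888) (nat_lit 1025))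
 (.leaf (nat_lit 0x10058f0269f09) (nat_lit 1025))
) (.node (nat_lit 0x10058f1c69f37) (.leaf (nat_lit 0x10058f1c458b9) (nat_lit 1282))
 (.leaf (nat_lit 0x10058f1c69f37) (nat_lit 1282))
)) (.node (nat_lit 0x10058f76458a7) (.node (nat_lit 0x10058f6869f22) (.leaf (nat_lit 0x10058f6845896) (nat_lit 1792))
 (.leaf (nat_lit 0x10058f6869f22) (nat_lit 1542))
) (.node (nat_lit 0x10058f7669f1c) (.leaf (nat_lit 0x10058f76458a7) (nat_lit 1799))
 (.node (nat_lit 0x1005924c44114) (.leaf (nat_lit 0x10058f7669f1c) (nat_lit 1543))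
 (.leaf (nat_lit 0x1005924c44114) (nat_lit 1798))
)))))) (.node (nat_lit 0x1005a33045e1b) (.node (nat_lit 0x100598466819f) (.node (nat_lit 0x1005926868822) (.node (nat_lit 0x1005925e6883a) (.node (nat_lit 0x1005925e44115) (.leaf (nat_lit 0x1005924c68832) (nat_lit 1542))
 (.leaf (nat_lit 0x1005925e44115) (nat_lit 1793))
) (.node (nat_lit 0x1005926844116) (.leaf (nat_lit 0x1005925e6883a) (nat_lit 1793))
 (.leaf (nat_lit 0x1005926844116) (nat_lit 2049))
)) (.node (nat_lit 0x1005927a6882a) (.node (nat_lit 0x1005927a44117) (.leaf (nat_lit 0x1005926868822) (nat_lit 1793))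
 (.leaf (nat_lit 0x1005927a44117) (nat_lit 2049))
) (.node (nat_lit 0x1005984644dbc) (.leaf (nat_lit 0x1005927a6882a) (nat_lit 1795))
 (.leaf (nat_lit 0x1005984644dbc) (nat_lit 1542))
))) (.node (nat_lit 0x100598666819d) (.node (nat_lit 0x100598566819e) (.node (nat_lit 0x1005985644db5) (.leaf (nat_lit 0x100598466819f) (nat_lit 1537))
 (.leaf (nat_lit 0x1005985644db5) (nat_lit 1281))
) (.node (nat_lit 0x1005986644dae) (.leaf (nat_lit 0x100598566819e) (nat_lit 1025))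
 (.leaf (nat_lit 0x1005986644dae) (nat_lit 1539))
)) (.node (nat_lit 0x100598766819c) (.node (nat_lit 0x1005987644da7) (.leaf (nat_lit 0x100598666819d) (nat_lit 1281))
 (.leaf (nat_lit 0x1005987644da7) (nat_lit 1537))
) (.node (nat_lit 0x1005a31845e29) (.leaf (nat_lit 0x100598766819c) (nat_lit 1281))
 (.node (nat_lit 0x1005a31868fa5) (.leaf (nat_lit 0x1005a31845e29) (nat_lit 1539))
 (.leaf (nat_lit 0x1005a31868fa5) (nat_lit 1287))
))))) (.node (nat_lit 0x1005a62444a02) (.node (nat_lit 0x1005a37645e27) (.node (nat_lit 0x1005a35e45e15) (.node (nat_lit 0x1005a33068f83) (.leaf (nat_lit 0x1005a33045e1b) (nat_lit 1027))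
 (.leaf (nat_lit 0x1005a33068f83) (nat_lit 774))
) (.node (nat_lit 0x1005a35e68fba) (.leaf (nat_lit 0x1005a35e45e15) (nat_lit 1795))
 (.leaf (nat_lit 0x1005a35e68fba) (nat_lit 1538))
)) (.node (nat_lit 0x1005a61a44a21) (.node (nat_lit 0x1005a37668f9c) (.leaf (nat_lit 0x1005a37645e27) (nat_lit 1283))
 (.leaf (nat_lit 0x1005a37668f9c) (nat_lit 1026))
) (.node (nat_lit 0x1005a61a6992c) (.leaf (nat_lit 0x1005a61a44a21) (nat_lit 1536))
 (.leaf (nat_lit 0x1005a61a6992c) (nat_lit 1287))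
))) (.node (nat_lit 0x1005a66844a16) (.node (nat_lit 0x1005a65644a35) (.node (nat_lit 0x1005a62469910) (.leaf (nat_lit 0x1005a62444a02) (nat_lit 1542))
 (.leaf (nat_lit 0x1005a62469910) (nat_lit 1283))
) (.node (nat_lit 0x1005a6566991e) (.leaf (nat_lit 0x1005a65644a35) (nat_lit 1799))
 (.leaf (nat_lit 0x1005a6566991e) (nat_lit 1543))
)) (.node (nat_lit 0x1005ab1a45aa1) (.node (nat_lit 0x1005a66869922) (.leaf (nat_lit 0x1005a66844a16) (nat_lit 1794))
 (.leaf (nat_lit 0x1005a66869922) (nat_lit 1539))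
) (.node (nat_lit 0x1005ab1a68f2c) (.leaf (nat_lit 0x1005ab1a45aa1) (nat_lit 1543))
 (.node (nat_lit 0x1005ab3045a9b) (.leaf (nat_lit 0x1005ab1a68f2c) (nat_lit 1543))
 (.leaf (nat_lit 0x1005ab3045a9b) (nat_lit 1025))
)))))))) (.node (nat_lit 0x1008946a2d32b) (.node (nat_lit 0x1005bb46453bc) (.node (nat_lit 0x1005b33068e83) (.node (nat_lit 0x1005af2469d10) (.node (nat_lit 0x1005ab6668f1d) (.node (nat_lit 0x1005ab4c68f32) (.node (nat_lit 0x1005ab4c45a94) (.leaf (nat_lit 0x1005ab3068f03) (nat_lit 769))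
 (.leaf (nat_lit 0x1005ab4c45a94) (nat_lit 1794))
) (.node (nat_lit 0x1005ab6645aae) (.leaf (nat_lit 0x1005ab4c68f32) (nat_lit 1542))
 (.leaf (nat_lit 0x1005ab6645aae) (nat_lit 1282))
)) (.node (nat_lit 0x1005af1869d25) (.node (nat_lit 0x1005af1844aa9) (.leaf (nat_lit 0x1005ab6668f1d) (nat_lit 1026))
 (.leaf (nat_lit 0x1005af1844aa9) (nat_lit 1543))
) (.node (nat_lit 0x1005af2444a82) (.leaf (nat_lit 0x1005af1869d25) (nat_lit 1538))
 (.leaf (nat_lit 0x1005af2444a82) (nat_lit 1537))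
))) (.node (nat_lit 0x1005af7a69d2a) (.node (nat_lit 0x1005af4669d1f) (.node (nat_lit 0x1005af4644abc) (.leaf (nat_lit 0x1005af2469d10) (nat_lit 1537))
 (.leaf (nat_lit 0x1005af4644abc) (nat_lit 1539))
) (.node (nat_lit 0x1005af7a44a97) (.leaf (nat_lit 0x1005af4669d1f) (nat_lit 1287))
 (.leaf (nat_lit 0x1005af7a44a97) (nat_lit 1794))
)) (.node (nat_lit 0x1005b31c68eb7) (.node (nat_lit 0x1005b31c45739) (.leaf (nat_lit 0x1005af7a69d2a) (nat_lit 1542))
 (.leaf (nat_lit 0x1005b31c45739) (nat_lit 1280))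
) (.node (nat_lit 0x1005b3304571b) (.leaf (nat_lit 0x1005b31c68eb7) (nat_lit 1031))
 (.leaf (nat_lit 0x1005b3304571b) (nat_lit 768))
)))) (.node (nat_lit 0x1005b42469110) (.node (nat_lit 0x1005b37a68eaa) (.node (nat_lit 0x1005b35668e9e) (.node (nat_lit 0x1005b35645735) (.leaf (nat_lit 0x1005b33068e83) (nat_lit 518))
 (.leaf (nat_lit 0x1005b35645735) (nat_lit 1026))
) (.node (nat_lit 0x1005b37a45717) (.leaf (nat_lit 0x1005b35668e9e) (nat_lit 770))
 (.leaf (nat_lit 0x1005b37a45717) (nat_lit 1538))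
)) (.node (nat_lit 0x1005b41e6913e) (.node (nat_lit 0x1005b41e44b31) (.leaf (nat_lit 0x1005b37a68eaa) (nat_lit 1282))
 (.leaf (nat_lit 0x1005b41e44b31) (nat_lit 1543))
) (.node (nat_lit 0x1005b42444b02) (.leaf (nat_lit 0x1005b41e6913e) (nat_lit 1543))
 (.leaf (nat_lit 0x1005b42444b02) (nat_lit 1542))
))) (.node (nat_lit 0x1005b4766911c) (.node (nat_lit 0x1005b44c69132) (.node (nat_lit 0x1005b44c44b14) (.leaf (nat_lit 0x1005b42469110) (nat_lit 1542))
 (.leaf (nat_lit 0x1005b44c44b14) (nat_lit 1794))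
) (.node (nat_lit 0x1005b47644b27) (.leaf (nat_lit 0x1005b44c69132) (nat_lit 1794))
 (.leaf (nat_lit 0x1005b47644b27) (nat_lit 1543))
)) (.node (nat_lit 0x1005bb1e68e3e) (.node (nat_lit 0x1005bb1e453b1) (.leaf (nat_lit 0x1005b4766911c) (nat_lit 1543))
 (.leaf (nat_lit 0x1005bb1e453b1) (nat_lit 1536))
) (.node (nat_lit 0x1005bb304539b) (.leaf (nat_lit 0x1005bb1e68e3e) (nat_lit 1287))
 (.node (nat_lit 0x1005bb3068e03) (.leaf (nat_lit 0x1005bb304539b) (nat_lit 1286))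
 (.leaf (nat_lit 0x1005bb3068e03) (nat_lit 1027))
)))))) (.node (nat_lit 0x1008822c68822) (.node (nat_lit 0x1005bd5e44b95) (.node (nat_lit 0x1005bd1c44bb9) (.node (nat_lit 0x1005bb6845396) (.node (nat_lit 0x1005bb4668e1f) (.leaf (nat_lit 0x1005bb46453bc) (nat_lit 1538))
 (.leaf (nat_lit 0x1005bb4668e1f) (nat_lit 1283))
) (.node (nat_lit 0x1005bb6868e22) (.leaf (nat_lit 0x1005bb6845396) (nat_lit 1794))
 (.leaf (nat_lit 0x1005bb6868e22) (nat_lit 1538))
)) (.node (nat_lit 0x1005bd2444b82) (.node (nat_lit 0x1005bd1c69537) (.leaf (nat_lit 0x1005bd1c44bb9) (nat_lit 1287))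
 (.leaf (nat_lit 0x1005bd1c69537) (nat_lit 1281))
) (.node (nat_lit 0x1005bd2469510) (.leaf (nat_lit 0x1005bd2444b82) (nat_lit 1286))
 (.leaf (nat_lit 0x1005bd2469510) (nat_lit 1286))
))) (.node (nat_lit 0x100882282c926) (.node (nat_lit 0x1005bd6644bae) (.node (nat_lit 0x1005bd5e6953a) (.leaf (nat_lit 0x1005bd5e44b95) (nat_lit 1538))
 (.leaf (nat_lit 0x1005bd5e6953a) (nat_lit 1538))
) (.node (nat_lit 0x1005bd666951d) (.leaf (nat_lit 0x1005bd6644bae) (nat_lit 1537))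
 (.leaf (nat_lit 0x1005bd666951d) (nat_lit 1287))
)) (.node (nat_lit 0x1008822a2c92f) (.node (nat_lit 0x1008822868832) (.leaf (nat_lit 0x100882282c926) (nat_lit 1543))
 (.leaf (nat_lit 0x1008822868832) (nat_lit 1793))
) (.node (nat_lit 0x1008822a6883a) (.leaf (nat_lit 0x1008822a2c92f) (nat_lit 1793))
 (.node (nat_lit 0x1008822c2c934) (.leaf (nat_lit 0x1008822a6883a) (nat_lit 1793))
 (.leaf (nat_lit 0x1008822c2c934) (nat_lit 1793))
))))) (.node (nat_lit 0x10088862684be) (.node (nat_lit 0x10088842684ac) (.node (nat_lit 0x1008822e6882a) (.node (nat_lit 0x1008822e2c93d) (.leaf (nat_lit 0x1008822c68822) (nat_lit 2049))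
 (.leaf (nat_lit 0x1008822e2c93d) (nat_lit 1543))
) (.node (nat_lit 0x100888422c08d) (.leaf (nat_lit 0x1008822e6882a) (nat_lit 1792))
 (.leaf (nat_lit 0x100888422c08d) (nat_lit 1025))
)) (.node (nat_lit 0x10088852684a5) (.node (nat_lit 0x100888522c08c) (.leaf (nat_lit 0x10088842684ac) (nat_lit 1281))
 (.leaf (nat_lit 0x100888522c08c) (nat_lit 1281))
) (.node (nat_lit 0x100888622c08f) (.leaf (nat_lit 0x10088852684a5) (nat_lit 1537))
 (.leaf (nat_lit 0x100888622c08f) (nat_lit 1025))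
))) (.node (nat_lit 0x1008940469910) (.node (nat_lit 0x10088872684b7) (.node (nat_lit 0x100888722c08e) (.leaf (nat_lit 0x10088862684be) (nat_lit 1025))
 (.leaf (nat_lit 0x100888722c08e) (nat_lit 1027))
) (.node (nat_lit 0x100894042d312) (.leaf (nat_lit 0x10088872684b7) (nat_lit 1281))
 (.leaf (nat_lit 0x100894042d312) (nat_lit 1283))
)) (.node (nat_lit 0x1008942c69922) (.node (nat_lit 0x1008942c2d334) (.leaf (nat_lit 0x1008940469910) (nat_lit 1542))
 (.leaf (nat_lit 0x1008942c2d334) (nat_lit 1539))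
) (.node (nat_lit 0x100894422d30d) (.leaf (nat_lit 0x1008942c69922) (nat_lit 1794))
 (.node (nat_lit 0x100894426992c) (.leaf (nat_lit 0x100894422d30d) (nat_lit 1031))
 (.leaf (nat_lit 0x100894426992c) (nat_lit 1280))
))))))) (.node (nat_lit 0x1008a1102c681) (.node (nat_lit 0x100896626913e) (.node (nat_lit 0x100895782d7a3) (.node (nat_lit 0x1008952e2d7bd) (.node (nat_lit 0x100895042d792) (.node (nat_lit 0x1008946a6991e) (.leaf (nat_lit 0x1008946a2d32b) (nat_lit 1282))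
 (.leaf (nat_lit 0x1008946a6991e) (nat_lit 1538))
) (.node (nat_lit 0x1008950469d10) (.leaf (nat_lit 0x100895042d792) (nat_lit 1537))
 (.leaf (nat_lit 0x1008950469d10) (nat_lit 1537))
)) (.node (nat_lit 0x100895522d78c) (.node (nat_lit 0x1008952e69d2a) (.leaf (nat_lit 0x1008952e2d7bd) (nat_lit 1794))
 (.leaf (nat_lit 0x1008952e69d2a) (nat_lit 1794))
) (.node (nat_lit 0x1008955269d25) (.leaf (nat_lit 0x100895522d78c) (nat_lit 1281))
 (.leaf (nat_lit 0x1008955269d25) (nat_lit 1287))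
))) (.node (nat_lit 0x100896282da26) (.node (nat_lit 0x100896042da12) (.node (nat_lit 0x1008957869d1f) (.leaf (nat_lit 0x100895782d7a3) (nat_lit 1543))
 (.leaf (nat_lit 0x1008957869d1f) (nat_lit 1538))
) (.node (nat_lit 0x1008960469110) (.leaf (nat_lit 0x100896042da12) (nat_lit 1542))
 (.leaf (nat_lit 0x1008960469110) (nat_lit 1542))
)) (.node (nat_lit 0x1008964e2da3b) (.node (nat_lit 0x1008962869132) (.leaf (nat_lit 0x100896282da26) (nat_lit 1794))
 (.leaf (nat_lit 0x1008962869132) (nat_lit 1543))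
) (.node (nat_lit 0x1008964e6911c) (.leaf (nat_lit 0x1008964e2da3b) (nat_lit 1538))
 (.node (nat_lit 0x100896622da0f) (.leaf (nat_lit 0x1008964e6911c) (nat_lit 1538))
 (.leaf (nat_lit 0x100896622da0f) (nat_lit 1287))
))))) (.node (nat_lit 0x1008977269537) (.node (nat_lit 0x1008972a6953a) (.node (nat_lit 0x1008970469510) (.node (nat_lit 0x100897042de92) (.leaf (nat_lit 0x100896626913e) (nat_lit 1287))
 (.leaf (nat_lit 0x100897042de92) (nat_lit 1286))
) (.node (nat_lit 0x1008972a2deaf) (.leaf (nat_lit 0x1008970469510) (nat_lit 1286))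
 (.leaf (nat_lit 0x1008972a2deaf) (nat_lit 1538))
)) (.node (nat_lit 0x1008975c6951d) (.node (nat_lit 0x1008975c2deb3) (.leaf (nat_lit 0x1008972a6953a) (nat_lit 1538))
 (.leaf (nat_lit 0x1008975c2deb3) (nat_lit 1282))
) (.node (nat_lit 0x100897722de8e) (.leaf (nat_lit 0x1008975c6951d) (nat_lit 1282))
 (.leaf (nat_lit 0x100897722de8e) (nat_lit 1025))
))) (.node (nat_lit 0x10089b5c6819d) (.node (nat_lit 0x10089b4e6819c) (.node (nat_lit 0x10089b4e2cc3b) (.leaf (nat_lit 0x1008977269537) (nat_lit 1031))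
 (.leaf (nat_lit 0x10089b4e2cc3b) (nat_lit 1537))
) (.node (nat_lit 0x10089b5c2cc33) (.leaf (nat_lit 0x10089b4e6819c) (nat_lit 1793))
 (.leaf (nat_lit 0x10089b5c2cc33) (nat_lit 1537))
)) (.node (nat_lit 0x10089b6a6819e) (.node (nat_lit 0x10089b6a2cc2b) (.leaf (nat_lit 0x10089b5c6819d) (nat_lit 1795))
 (.leaf (nat_lit 0x10089b6a2cc2b) (nat_lit 1281))
) (.node (nat_lit 0x10089b782cc23) (.leaf (nat_lit 0x10089b6a6819e) (nat_lit 1537))
 (.node (nat_lit 0x10089b786819f) (.leaf (nat_lit 0x10089b782cc23) (nat_lit 1793))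
 (.leaf (nat_lit 0x10089b786819f) (nat_lit 1798))
)))))) (.node (nat_lit 0x1008a91069289) (.node (nat_lit 0x1008a72c2ddb4) (.node (nat_lit 0x1008a1522c68c) (.node (nat_lit 0x1008a1282c6a6) (.node (nat_lit 0x1008a11069609) (.leaf (nat_lit 0x1008a1102c681) (nat_lit 774))
 (.leaf (nat_lit 0x1008a11069609) (nat_lit 1027))
) (.node (nat_lit 0x1008a12869632) (.leaf (nat_lit 0x1008a1282c6a6) (nat_lit 1799))
 (.leaf (nat_lit 0x1008a12869632) (nat_lit 1793))
)) (.node (nat_lit 0x1008a16a2c6ab) (.node (nat_lit 0x1008a15269625) (.leaf (nat_lit 0x1008a1522c68c) (nat_lit 1026))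
 (.leaf (nat_lit 0x1008a15269625) (nat_lit 1283))
) (.node (nat_lit 0x1008a16a6961e) (.leaf (nat_lit 0x1008a16a2c6ab) (nat_lit 1537))
 (.leaf (nat_lit 0x1008a16a6961e) (nat_lit 1799))
))) (.node (nat_lit 0x1008a7622dd8f) (.node (nat_lit 0x1008a7362dd98) (.node (nat_lit 0x1008a72c68e22) (.leaf (nat_lit 0x1008a72c2ddb4) (nat_lit 1282))
 (.leaf (nat_lit 0x1008a72c68e22) (nat_lit 1538))
) (.node (nat_lit 0x1008a73668e03) (.leaf (nat_lit 0x1008a7362dd98) (nat_lit 1283))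
 (.leaf (nat_lit 0x1008a73668e03) (nat_lit 1542))
)) (.node (nat_lit 0x1008a7782dda3) (.node (nat_lit 0x1008a76268e3e) (.leaf (nat_lit 0x1008a7622dd8f) (nat_lit 1031))
 (.leaf (nat_lit 0x1008a76268e3e) (nat_lit 1280))
) (.node (nat_lit 0x1008a77868e1f) (.leaf (nat_lit 0x1008a7782dda3) (nat_lit 1539))
 (.node (nat_lit 0x1008a9102c601) (.leaf (nat_lit 0x1008a77868e1f) (nat_lit 1794))
 (.leaf (nat_lit 0x1008a9102c601) (nat_lit 515))
))))) (.node (nat_lit 0x1008ae2e68eaa) (.node (nat_lit 0x1008a942692ac) (.node (nat_lit 0x1008a92a692ba) (.node (nat_lit 0x1008a92a2c62f) (.leaf (nat_lit 0x1008a91069289) (nat_lit 774))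
 (.leaf (nat_lit 0x1008a92a2c62f) (nat_lit 1537))
) (.node (nat_lit 0x1008a9422c60d) (.leaf (nat_lit 0x1008a92a692ba) (nat_lit 1793))
 (.leaf (nat_lit 0x1008a9422c60d) (nat_lit 771))
)) (.node (nat_lit 0x1008a9786929f) (.node (nat_lit 0x1008a9782c623) (.leaf (nat_lit 0x1008a942692ac) (nat_lit 1026))
 (.leaf (nat_lit 0x1008a9782c623) (nat_lit 1539))
) (.node (nat_lit 0x1008ae2e2d9bd) (.leaf (nat_lit 0x1008a9786929f) (nat_lit 1799))
 (.leaf (nat_lit 0x1008ae2e2d9bd) (nat_lit 1026))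
))) (.node (nat_lit 0x1008ae6a68e9e) (.node (nat_lit 0x1008ae3668e83) (.node (nat_lit 0x1008ae362d998) (.leaf (nat_lit 0x1008ae2e68eaa) (nat_lit 1282))
 (.leaf (nat_lit 0x1008ae362d998) (nat_lit 774))
) (.node (nat_lit 0x1008ae6a2d9ab) (.leaf (nat_lit 0x1008ae3668e83) (nat_lit 1024))
 (.leaf (nat_lit 0x1008ae6a2d9ab) (nat_lit 1026))
)) (.node (nat_lit 0x1008ae7268eb7) (.node (nat_lit 0x1008ae722d98e) (.leaf (nat_lit 0x1008ae6a68e9e) (nat_lit 1282))
 (.leaf (nat_lit 0x1008ae722d98e) (nat_lit 775))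
) (.node (nat_lit 0x1008b1102c781) (.leaf (nat_lit 0x1008ae7268eb7) (nat_lit 1024))
 (.node (nat_lit 0x1008b11069f09) (.leaf (nat_lit 0x1008b1102c781) (nat_lit 769))
 (.leaf (nat_lit 0x1008b11069f09) (nat_lit 769))
))))))))) (.node (nat_lit 0x1009bb2e64e3d) (.node (nat_lit 0x1009964a65a29) (.node (nat_lit 0x1009822a6492f) (.node (nat_lit 0x1008b92e2c73d) (.node (nat_lit 0x1008b5362d598) (.node (nat_lit 0x1008b1722c78e) (.node (nat_lit 0x1008b14e2c7bb) (.node (nat_lit 0x1008b12c69f22) (.leaf (nat_lit 0x1008b12c2c7b4) (nat_lit 1537))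
 (.leaf (nat_lit 0x1008b12c69f22) (nat_lit 1793))
) (.node (nat_lit 0x1008b14e69f1c) (.leaf (nat_lit 0x1008b14e2c7bb) (nat_lit 1799))
 (.leaf (nat_lit 0x1008b14e69f1c) (nat_lit 1793))
)) (.node (nat_lit 0x1008b5282d5a6) (.node (nat_lit 0x1008b17269f37) (.leaf (nat_lit 0x1008b1722c78e) (nat_lit 1026))
 (.leaf (nat_lit 0x1008b17269f37) (nat_lit 1026))
) (.node (nat_lit 0x1008b52868f32) (.leaf (nat_lit 0x1008b5282d5a6) (nat_lit 1538))
 (.leaf (nat_lit 0x1008b52868f32) (nat_lit 1538))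
))) (.node (nat_lit 0x1008b55c2d5b3) (.node (nat_lit 0x1008b5422d58d) (.node (nat_lit 0x1008b53668f03) (.leaf (nat_lit 0x1008b5362d598) (nat_lit 1025))
 (.leaf (nat_lit 0x1008b53668f03) (nat_lit 1281))
) (.node (nat_lit 0x1008b54268f2c) (.leaf (nat_lit 0x1008b5422d58d) (nat_lit 1287))
 (.leaf (nat_lit 0x1008b54268f2c) (nat_lit 1287))
)) (.node (nat_lit 0x1008b9102c701) (.node (nat_lit 0x1008b55c68f1d) (.leaf (nat_lit 0x1008b55c2d5b3) (nat_lit 1282))
 (.leaf (nat_lit 0x1008b55c68f1d) (nat_lit 1538))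
) (.node (nat_lit 0x1008b91069b89) (.leaf (nat_lit 0x1008b9102c701) (nat_lit 518))
 (.leaf (nat_lit 0x1008b91069b89) (nat_lit 518))
)))) (.node (nat_lit 0x1008bc362d198) (.node (nat_lit 0x1008b9622c70f) (.node (nat_lit 0x1008b95c2c733) (.node (nat_lit 0x1008b92e69baa) (.leaf (nat_lit 0x1008b92e2c73d) (nat_lit 1281))
 (.leaf (nat_lit 0x1008b92e69baa) (nat_lit 1537))
) (.node (nat_lit 0x1008b95c69b9d) (.leaf (nat_lit 0x1008b95c2c733) (nat_lit 1537))
 (.leaf (nat_lit 0x1008b95c69b9d) (nat_lit 1543))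
)) (.node (nat_lit 0x1008bc2a2d1af) (.node (nat_lit 0x1008b96269bbe) (.leaf (nat_lit 0x1008b9622c70f) (nat_lit 770))
 (.leaf (nat_lit 0x1008b96269bbe) (nat_lit 770))
) (.node (nat_lit 0x1008bc2a68fba) (.leaf (nat_lit 0x1008bc2a2d1af) (nat_lit 1282))
 (.leaf (nat_lit 0x1008bc2a68fba) (nat_lit 1539))
))) (.node (nat_lit 0x1008bc522d18c) (.node (nat_lit 0x1008bc4e2d1bb) (.node (nat_lit 0x1008bc3668f83) (.leaf (nat_lit 0x1008bc362d198) (nat_lit 1030))
 (.leaf (nat_lit 0x1008bc3668f83) (nat_lit 1283))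
) (.node (nat_lit 0x1008bc4e68f9c) (.leaf (nat_lit 0x1008bc4e2d1bb) (nat_lit 1282))
 (.leaf (nat_lit 0x1008bc4e68f9c) (nat_lit 1539))
)) (.node (nat_lit 0x1009822828832) (.node (nat_lit 0x1008bc5268fa5) (.leaf (nat_lit 0x1008bc522d18c) (nat_lit 1031))
 (.leaf (nat_lit 0x1008bc5268fa5) (nat_lit 1283))
) (.node (nat_lit 0x1009822864926) (.leaf (nat_lit 0x1009822828832) (nat_lit 1798))
 (.node (nat_lit 0x1009822a2883a) (.leaf (nat_lit 0x1009822864926) (nat_lit 1793))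
 (.leaf (nat_lit 0x1009822a2883a) (nat_lit 2051))
)))))) (.node (nat_lit 0x100994462993c) (.node (nat_lit 0x1009895864421) (.node (nat_lit 0x1009822e6493d) (.node (nat_lit 0x1009822c64934) (.node (nat_lit 0x1009822c28822) (.leaf (nat_lit 0x1009822a6492f) (nat_lit 1793))
 (.leaf (nat_lit 0x1009822c28822) (nat_lit 1798))
) (.node (nat_lit 0x1009822e2882a) (.leaf (nat_lit 0x1009822c64934) (nat_lit 1798))
 (.leaf (nat_lit 0x1009822e2882a) (nat_lit 1793))
)) (.node (nat_lit 0x1009894a64429) (.node (nat_lit 0x1009894a2808c) (.leaf (nat_lit 0x1009822e6493d) (nat_lit 1537))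
 (.leaf (nat_lit 0x1009894a2808c) (nat_lit 1537))
) (.node (nat_lit 0x100989582808d) (.leaf (nat_lit 0x1009894a64429) (nat_lit 1281))
 (.leaf (nat_lit 0x100989582808d) (nat_lit 1542))
))) (.node (nat_lit 0x1009897c64431) (.node (nat_lit 0x1009896e64439) (.node (nat_lit 0x1009896e2808e) (.leaf (nat_lit 0x1009895864421) (nat_lit 1537))
 (.leaf (nat_lit 0x1009896e2808e) (nat_lit 1281))
) (.node (nat_lit 0x1009897c2808f) (.leaf (nat_lit 0x1009896e64439) (nat_lit 1025))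
 (.leaf (nat_lit 0x1009897c2808f) (nat_lit 1539))
)) (.node (nat_lit 0x1009940465312) (.node (nat_lit 0x1009940429910) (.leaf (nat_lit 0x1009897c64431) (nat_lit 1281))
 (.leaf (nat_lit 0x1009940429910) (nat_lit 1798))
) (.node (nat_lit 0x1009942c29922) (.leaf (nat_lit 0x1009940465312) (nat_lit 1539))
 (.node (nat_lit 0x1009942c65334) (.leaf (nat_lit 0x1009942c29922) (nat_lit 1798))
 (.leaf (nat_lit 0x1009942c65334) (nat_lit 1795))
))))) (.node (nat_lit 0x1009955629d35) (.node (nat_lit 0x1009950429d10) (.node (nat_lit 0x1009946e2990e) (.node (nat_lit 0x100994466531f) (.leaf (nat_lit 0x100994462993c) (nat_lit 1536))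
 (.leaf (nat_lit 0x100994466531f) (nat_lit 1287))
) (.node (nat_lit 0x1009946e65339) (.leaf (nat_lit 0x1009946e2990e) (nat_lit 1799))
 (.leaf (nat_lit 0x1009946e65339) (nat_lit 1543))
)) (.node (nat_lit 0x1009952e29d2a) (.node (nat_lit 0x1009950465792) (.leaf (nat_lit 0x1009950429d10) (nat_lit 1280))
 (.leaf (nat_lit 0x1009950465792) (nat_lit 1030))
) (.node (nat_lit 0x1009952e657bd) (.leaf (nat_lit 0x1009952e29d2a) (nat_lit 1538))
 (.leaf (nat_lit 0x1009952e657bd) (nat_lit 1282))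
))) (.node (nat_lit 0x1009960429110) (.node (nat_lit 0x1009957c29d0f) (.node (nat_lit 0x100995566579e) (.leaf (nat_lit 0x1009955629d35) (nat_lit 1287))
 (.leaf (nat_lit 0x100995566579e) (nat_lit 1281))
) (.node (nat_lit 0x1009957c657b1) (.leaf (nat_lit 0x1009957c29d0f) (nat_lit 1537))
 (.leaf (nat_lit 0x1009957c657b1) (nat_lit 1287))
)) (.node (nat_lit 0x1009962829132) (.node (nat_lit 0x1009960465a12) (.leaf (nat_lit 0x1009960429110) (nat_lit 1539))
 (.leaf (nat_lit 0x1009960465a12) (nat_lit 1286))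
) (.node (nat_lit 0x1009962865a26) (.leaf (nat_lit 0x1009962829132) (nat_lit 1795))
 (.node (nat_lit 0x1009964a2910c) (.leaf (nat_lit 0x1009962865a26) (nat_lit 1538))
 (.leaf (nat_lit 0x1009964a2910c) (nat_lit 1543))
))))))) (.node (nat_lit 0x1009a5666549d) (.node (nat_lit 0x1009987628da7) (.node (nat_lit 0x1009975865ea1) (.node (nat_lit 0x1009970465e92) (.node (nat_lit 0x1009966665a1d) (.node (nat_lit 0x100996662912e) (.leaf (nat_lit 0x1009964a65a29) (nat_lit 1543))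
 (.leaf (nat_lit 0x100996662912e) (nat_lit 1543))
) (.node (nat_lit 0x1009970429510) (.leaf (nat_lit 0x1009966665a1d) (nat_lit 1543))
 (.leaf (nat_lit 0x1009970429510) (nat_lit 1537))
)) (.node (nat_lit 0x1009972a65eaf) (.node (nat_lit 0x1009972a2953a) (.leaf (nat_lit 0x1009970465e92) (nat_lit 1281))
 (.leaf (nat_lit 0x1009972a2953a) (nat_lit 1798))
) (.node (nat_lit 0x100997582950d) (.leaf (nat_lit 0x1009972a65eaf) (nat_lit 1538))
 (.leaf (nat_lit 0x100997582950d) (nat_lit 1539))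
))) (.node (nat_lit 0x100998466419f) (.node (nat_lit 0x1009977665e9c) (.node (nat_lit 0x1009977629527) (.leaf (nat_lit 0x1009975865ea1) (nat_lit 1287))
 (.leaf (nat_lit 0x1009977629527) (nat_lit 1543))
) (.node (nat_lit 0x1009984628dbc) (.leaf (nat_lit 0x1009977665e9c) (nat_lit 1537))
 (.leaf (nat_lit 0x1009984628dbc) (nat_lit 1537))
)) (.node (nat_lit 0x100998566419e) (.node (nat_lit 0x1009985628db5) (.leaf (nat_lit 0x100998466419f) (nat_lit 1281))
 (.leaf (nat_lit 0x1009985628db5) (nat_lit 1537))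
) (.node (nat_lit 0x1009986628dae) (.leaf (nat_lit 0x100998566419e) (nat_lit 1283))
 (.node (nat_lit 0x100998666419d) (.leaf (nat_lit 0x1009986628dae) (nat_lit 1281))
 (.leaf (nat_lit 0x100998666419d) (nat_lit 1281))
))))) (.node (nat_lit 0x1009a37629e27) (.node (nat_lit 0x1009a33029e1b) (.node (nat_lit 0x1009a32829e32) (.node (nat_lit 0x100998766419c) (.leaf (nat_lit 0x1009987628da7) (nat_lit 1793))
 (.leaf (nat_lit 0x100998766419c) (nat_lit 1537))
) (.node (nat_lit 0x1009a32864fa6) (.leaf (nat_lit 0x1009a32829e32) (nat_lit 1794))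
 (.leaf (nat_lit 0x1009a32864fa6) (nat_lit 1794))
)) (.node (nat_lit 0x1009a36e29e0e) (.node (nat_lit 0x1009a33064f83) (.leaf (nat_lit 0x1009a33029e1b) (nat_lit 1283))
 (.leaf (nat_lit 0x1009a33064f83) (nat_lit 1030))
) (.node (nat_lit 0x1009a36e64fb9) (.leaf (nat_lit 0x1009a36e29e0e) (nat_lit 1543))
 (.leaf (nat_lit 0x1009a36e64fb9) (nat_lit 1543))
))) (.node (nat_lit 0x1009a52c28622) (.node (nat_lit 0x1009a51228601) (.node (nat_lit 0x1009a37664f9c) (.leaf (nat_lit 0x1009a37629e27) (nat_lit 1539))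
 (.leaf (nat_lit 0x1009a37664f9c) (nat_lit 1282))
) (.node (nat_lit 0x1009a51265488) (.leaf (nat_lit 0x1009a51228601) (nat_lit 1286))
 (.leaf (nat_lit 0x1009a51265488) (nat_lit 1027))
)) (.node (nat_lit 0x1009a5582860d) (.node (nat_lit 0x1009a52c654b4) (.leaf (nat_lit 0x1009a52c28622) (nat_lit 1798))
 (.leaf (nat_lit 0x1009a52c654b4) (nat_lit 1538))
) (.node (nat_lit 0x1009a558654a1) (.leaf (nat_lit 0x1009a5582860d) (nat_lit 1538))
 (.node (nat_lit 0x1009a5662862e) (.leaf (nat_lit 0x1009a558654a1) (nat_lit 1283))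
 (.leaf (nat_lit 0x1009a5662862e) (nat_lit 1536))
)))))) (.node (nat_lit 0x1009b32c29722) (.node (nat_lit 0x1009ab7c64f31) (.node (nat_lit 0x1009ab3064f03) (.node (nat_lit 0x1009ab2a64f2f) (.node (nat_lit 0x1009ab2a29aba) (.leaf (nat_lit 0x1009a5666549d) (nat_lit 1287))
 (.leaf (nat_lit 0x1009ab2a29aba) (nat_lit 1538))
) (.node (nat_lit 0x1009ab3029a9b) (.leaf (nat_lit 0x1009ab2a64f2f) (nat_lit 1537))
 (.leaf (nat_lit 0x1009ab3029a9b) (nat_lit 774))
)) (.node (nat_lit 0x1009ab6664f1d) (.node (nat_lit 0x1009ab6629aae) (.leaf (nat_lit 0x1009ab3064f03) (nat_lit 774))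
 (.leaf (nat_lit 0x1009ab6629aae) (nat_lit 1026))
) (.node (nat_lit 0x1009ab7c29a8f) (.leaf (nat_lit 0x1009ab6664f1d) (nat_lit 1026))
 (.leaf (nat_lit 0x1009ab7c29a8f) (nat_lit 1287))
))) (.node (nat_lit 0x1009ac2e650bd) (.node (nat_lit 0x1009ac1265088) (.node (nat_lit 0x1009ac1228681) (.leaf (nat_lit 0x1009ab7c64f31) (nat_lit 1536))
 (.leaf (nat_lit 0x1009ac1228681) (nat_lit 1027))
) (.node (nat_lit 0x1009ac2e286aa) (.leaf (nat_lit 0x1009ac1265088) (nat_lit 774))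
 (.leaf (nat_lit 0x1009ac2e286aa) (nat_lit 1795))
)) (.node (nat_lit 0x1009ac4a650a9) (.node (nat_lit 0x1009ac4a2868c) (.leaf (nat_lit 0x1009ac2e650bd) (nat_lit 1538))
 (.leaf (nat_lit 0x1009ac4a2868c) (nat_lit 1283))
) (.node (nat_lit 0x1009ac76286a7) (.leaf (nat_lit 0x1009ac4a650a9) (nat_lit 1026))
 (.node (nat_lit 0x1009ac766509c) (.leaf (nat_lit 0x1009ac76286a7) (nat_lit 1539))
 (.leaf (nat_lit 0x1009ac766509c) (nat_lit 1287))
))))) (.node (nat_lit 0x1009b71228701) (.node (nat_lit 0x1009b34a2970c) (.node (nat_lit 0x1009b3302971b) (.node (nat_lit 0x1009b32c64eb4) (.leaf (nat_lit 0x1009b32c29722) (nat_lit 1798))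
 (.leaf (nat_lit 0x1009b32c64eb4) (nat_lit 1799))
) (.node (nat_lit 0x1009b33064e83) (.leaf (nat_lit 0x1009b3302971b) (nat_lit 1025))
 (.leaf (nat_lit 0x1009b33064e83) (nat_lit 1025))
)) (.node (nat_lit 0x1009b35629735) (.node (nat_lit 0x1009b34a64ea9) (.leaf (nat_lit 0x1009b34a2970c) (nat_lit 1799))
 (.leaf (nat_lit 0x1009b34a64ea9) (nat_lit 1543))
) (.node (nat_lit 0x1009b35664e9e) (.leaf (nat_lit 0x1009b35629735) (nat_lit 1282))
 (.leaf (nat_lit 0x1009b35664e9e) (nat_lit 1282))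
))) (.node (nat_lit 0x1009b7462873c) (.node (nat_lit 0x1009b72828732) (.node (nat_lit 0x1009b71265c88) (.leaf (nat_lit 0x1009b71228701) (nat_lit 1025))
 (.leaf (nat_lit 0x1009b71265c88) (nat_lit 769))
) (.node (nat_lit 0x1009b72865ca6) (.leaf (nat_lit 0x1009b72828732) (nat_lit 1542))
 (.leaf (nat_lit 0x1009b72865ca6) (nat_lit 1794))
)) (.node (nat_lit 0x1009b77c2870f) (.node (nat_lit 0x1009b74665c9f) (.leaf (nat_lit 0x1009b7462873c) (nat_lit 1543))
 (.leaf (nat_lit 0x1009b74665c9f) (nat_lit 1543))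
) (.node (nat_lit 0x1009b77c65cb1) (.leaf (nat_lit 0x1009b77c2870f) (nat_lit 1282))
 (.node (nat_lit 0x1009bb2e293aa) (.leaf (nat_lit 0x1009b77c65cb1) (nat_lit 1026))
 (.leaf (nat_lit 0x1009bb2e293aa) (nat_lit 1794))
)))))))) (.node (nat_lit 0x100c9f4c29e32) (.node (nat_lit 0x100c925e2883a) (.node (nat_lit 0x100c83384cc3b) (.node (nat_lit 0x1009be1265888) (.node (nat_lit 0x1009bb4664e1f) (.node (nat_lit 0x1009bb3064e03) (.node (nat_lit 0x1009bb302939b) (.leaf (nat_lit 0x1009bb2e64e3d) (nat_lit 1539))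
 (.leaf (nat_lit 0x1009bb302939b) (nat_lit 1030))
) (.node (nat_lit 0x1009bb46293bc) (.leaf (nat_lit 0x1009bb3064e03) (nat_lit 771))
 (.leaf (nat_lit 0x1009bb46293bc) (nat_lit 1282))
)) (.node (nat_lit 0x1009bb5864e21) (.node (nat_lit 0x1009bb582938d) (.leaf (nat_lit 0x1009bb4664e1f) (nat_lit 1027))
 (.leaf (nat_lit 0x1009bb582938d) (nat_lit 1543))
) (.node (nat_lit 0x1009be1228781) (.leaf (nat_lit 0x1009bb5864e21) (nat_lit 1283))
 (.leaf (nat_lit 0x1009be1228781) (nat_lit 768))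
))) (.node (nat_lit 0x1009be566589e) (.node (nat_lit 0x1009be2a658af) (.node (nat_lit 0x1009be2a287ba) (.leaf (nat_lit 0x1009be1265888) (nat_lit 518))
 (.leaf (nat_lit 0x1009be2a287ba) (nat_lit 1538))
) (.node (nat_lit 0x1009be56287b5) (.leaf (nat_lit 0x1009be2a658af) (nat_lit 1282))
 (.leaf (nat_lit 0x1009be56287b5) (nat_lit 1280))
)) (.node (nat_lit 0x1009be6e658b9) (.node (nat_lit 0x1009be6e2878e) (.leaf (nat_lit 0x1009be566589e) (nat_lit 1031))
 (.leaf (nat_lit 0x1009be6e2878e) (nat_lit 1026))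
) (.node (nat_lit 0x100c833828da7) (.leaf (nat_lit 0x1009be6e658b9) (nat_lit 770))
 (.leaf (nat_lit 0x100c833828da7) (nat_lit 1799))
)))) (.node (nat_lit 0x100c88424c4ac) (.node (nat_lit 0x100c833c4cc2b) (.node (nat_lit 0x100c833a4cc33) (.node (nat_lit 0x100c833a28dae) (.leaf (nat_lit 0x100c83384cc3b) (nat_lit 1799))
 (.leaf (nat_lit 0x100c833a28dae) (nat_lit 1537))
) (.node (nat_lit 0x100c833c28db5) (.leaf (nat_lit 0x100c833a4cc33) (nat_lit 1537))
 (.leaf (nat_lit 0x100c833c28db5) (nat_lit 1539))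
)) (.node (nat_lit 0x100c833e4cc23) (.node (nat_lit 0x100c833e28dbc) (.leaf (nat_lit 0x100c833c4cc2b) (nat_lit 1793))
 (.leaf (nat_lit 0x100c833e28dbc) (nat_lit 1537))
) (.node (nat_lit 0x100c88422808d) (.leaf (nat_lit 0x100c833e4cc23) (nat_lit 1793))
 (.leaf (nat_lit 0x100c88422808d) (nat_lit 1281))
))) (.node (nat_lit 0x100c88624c4be) (.node (nat_lit 0x100c88524c4a5) (.node (nat_lit 0x100c88522808c) (.leaf (nat_lit 0x100c88424c4ac) (nat_lit 1286))
 (.leaf (nat_lit 0x100c88522808c) (nat_lit 1025))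
) (.node (nat_lit 0x100c88622808f) (.leaf (nat_lit 0x100c88524c4a5) (nat_lit 1281))
 (.leaf (nat_lit 0x100c88622808f) (nat_lit 1025))
)) (.node (nat_lit 0x100c88724c4b7) (.node (nat_lit 0x100c88722808e) (.leaf (nat_lit 0x100c88624c4be) (nat_lit 1283))
 (.leaf (nat_lit 0x100c88722808e) (nat_lit 769))
) (.node (nat_lit 0x100c924c28832) (.leaf (nat_lit 0x100c88724c4b7) (nat_lit 1025))
 (.node (nat_lit 0x100c924c4c114) (.leaf (nat_lit 0x100c924c28832) (nat_lit 1793))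
 (.leaf (nat_lit 0x100c924c4c114) (nat_lit 1799))
)))))) (.node (nat_lit 0x100c9d3c4d9ab) (.node (nat_lit 0x100c9c3e293bc) (.node (nat_lit 0x100c927a2882a) (.node (nat_lit 0x100c926828822) (.node (nat_lit 0x100c925e4c115) (.leaf (nat_lit 0x100c925e2883a) (nat_lit 1793))
 (.leaf (nat_lit 0x100c925e4c115) (nat_lit 1799))
) (.node (nat_lit 0x100c92684c116) (.leaf (nat_lit 0x100c926828822) (nat_lit 1793))
 (.leaf (nat_lit 0x100c92684c116) (nat_lit 1799))
)) (.node (nat_lit 0x100c9c062939b) (.node (nat_lit 0x100c927a4c117) (.leaf (nat_lit 0x100c927a2882a) (nat_lit 1537))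
 (.leaf (nat_lit 0x100c927a4c117) (nat_lit 1793))
) (.node (nat_lit 0x100c9c064dd98) (.leaf (nat_lit 0x100c9c062939b) (nat_lit 1027))
 (.leaf (nat_lit 0x100c9c064dd98) (nat_lit 1286))
))) (.node (nat_lit 0x100c9c7a293aa) (.node (nat_lit 0x100c9c422938d) (.node (nat_lit 0x100c9c3e4dda3) (.leaf (nat_lit 0x100c9c3e293bc) (nat_lit 1283))
 (.leaf (nat_lit 0x100c9c3e4dda3) (nat_lit 1538))
) (.node (nat_lit 0x100c9c424ddac) (.leaf (nat_lit 0x100c9c422938d) (nat_lit 1027))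
 (.leaf (nat_lit 0x100c9c424ddac) (nat_lit 1287))
)) (.node (nat_lit 0x100c9d062971b) (.node (nat_lit 0x100c9c7a4dd97) (.leaf (nat_lit 0x100c9c7a293aa) (nat_lit 1283))
 (.leaf (nat_lit 0x100c9c7a4dd97) (nat_lit 1538))
) (.node (nat_lit 0x100c9d064d998) (.leaf (nat_lit 0x100c9d062971b) (nat_lit 1281))
 (.node (nat_lit 0x100c9d3c29735) (.leaf (nat_lit 0x100c9d064d998) (nat_lit 1281))
 (.leaf (nat_lit 0x100c9d3c29735) (nat_lit 1538))
))))) (.node (nat_lit 0x100c9e3a4d5b3) (.node (nat_lit 0x100c9d684d996) (.node (nat_lit 0x100c9d524d9a5) (.node (nat_lit 0x100c9d522970c) (.leaf (nat_lit 0x100c9d3c4d9ab) (nat_lit 1538))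
 (.leaf (nat_lit 0x100c9d522970c) (nat_lit 1287))
) (.node (nat_lit 0x100c9d6829722) (.leaf (nat_lit 0x100c9d524d9a5) (nat_lit 1543))
 (.leaf (nat_lit 0x100c9d6829722) (nat_lit 1538))
)) (.node (nat_lit 0x100c9e064d598) (.node (nat_lit 0x100c9e0629a9b) (.leaf (nat_lit 0x100c9d684d996) (nat_lit 1794))
 (.leaf (nat_lit 0x100c9e0629a9b) (nat_lit 1030))
) (.node (nat_lit 0x100c9e3a29aae) (.leaf (nat_lit 0x100c9e064d598) (nat_lit 1030))
 (.leaf (nat_lit 0x100c9e3a29aae) (nat_lit 1282))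
))) (.node (nat_lit 0x100c9e624d5be) (.node (nat_lit 0x100c9e5e4d595) (.node (nat_lit 0x100c9e5e29aba) (.leaf (nat_lit 0x100c9e3a4d5b3) (nat_lit 1282))
 (.leaf (nat_lit 0x100c9e5e29aba) (nat_lit 1538))
) (.node (nat_lit 0x100c9e6229a8f) (.leaf (nat_lit 0x100c9e5e4d595) (nat_lit 1282))
 (.leaf (nat_lit 0x100c9e6229a8f) (nat_lit 1280))
)) (.node (nat_lit 0x100c9f064d198) (.node (nat_lit 0x100c9f0629e1b) (.leaf (nat_lit 0x100c9e624d5be) (nat_lit 1031))
 (.leaf (nat_lit 0x100c9f0629e1b) (nat_lit 1286))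
) (.node (nat_lit 0x100c9f3829e27) (.leaf (nat_lit 0x100c9f064d198) (nat_lit 1539))
 (.node (nat_lit 0x100c9f384d1bb) (.leaf (nat_lit 0x100c9f3829e27) (nat_lit 1538))
 (.leaf (nat_lit 0x100c9f384d1bb) (nat_lit 1795))
))))))) (.node (nat_lit 0x100caf7a29d2a) (.node (nat_lit 0x100ca6684ca16) (.node (nat_lit 0x100ca1522868c) (.node (nat_lit 0x100ca11028681) (.node (nat_lit 0x100c9f7229e0e) (.node (nat_lit 0x100c9f4c4d194) (.leaf (nat_lit 0x100c9f4c29e32) (nat_lit 1538))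
 (.leaf (nat_lit 0x100c9f4c4d194) (nat_lit 1538))
) (.node (nat_lit 0x100c9f724d1b7) (.leaf (nat_lit 0x100c9f7229e0e) (nat_lit 1287))
 (.leaf (nat_lit 0x100c9f724d1b7) (nat_lit 1287))
)) (.node (nat_lit 0x100ca138286a7) (.node (nat_lit 0x100ca1104d609) (.leaf (nat_lit 0x100ca11028681) (nat_lit 518))
 (.leaf (nat_lit 0x100ca1104d609) (nat_lit 771))
) (.node (nat_lit 0x100ca1384d63b) (.leaf (nat_lit 0x100ca138286a7) (nat_lit 1543))
 (.leaf (nat_lit 0x100ca1384d63b) (nat_lit 1795))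
))) (.node (nat_lit 0x100ca62429910) (.node (nat_lit 0x100ca17a286aa) (.node (nat_lit 0x100ca1524d625) (.leaf (nat_lit 0x100ca1522868c) (nat_lit 770))
 (.leaf (nat_lit 0x100ca1524d625) (nat_lit 1027))
) (.node (nat_lit 0x100ca17a4d617) (.leaf (nat_lit 0x100ca17a286aa) (nat_lit 1537))
 (.leaf (nat_lit 0x100ca17a4d617) (nat_lit 1793))
)) (.node (nat_lit 0x100ca63e2993c) (.node (nat_lit 0x100ca6244ca02) (.leaf (nat_lit 0x100ca62429910) (nat_lit 1539))
 (.leaf (nat_lit 0x100ca6244ca02) (nat_lit 1798))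
) (.node (nat_lit 0x100ca63e4ca23) (.leaf (nat_lit 0x100ca63e2993c) (nat_lit 1538))
 (.node (nat_lit 0x100ca66829922) (.leaf (nat_lit 0x100ca63e4ca23) (nat_lit 1794))
 (.leaf (nat_lit 0x100ca66829922) (nat_lit 1543))
))))) (.node (nat_lit 0x100ca9424d2ac) (.node (nat_lit 0x100ca9104d289) (.node (nat_lit 0x100ca6724ca37) (.node (nat_lit 0x100ca6722990e) (.leaf (nat_lit 0x100ca6684ca16) (nat_lit 1792))
 (.leaf (nat_lit 0x100ca6722990e) (nat_lit 1287))
) (.node (nat_lit 0x100ca91028601) (.leaf (nat_lit 0x100ca6724ca37) (nat_lit 1543))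
 (.leaf (nat_lit 0x100ca91028601) (nat_lit 771))
)) (.node (nat_lit 0x100ca93a4d2b3) (.node (nat_lit 0x100ca93a2862e) (.leaf (nat_lit 0x100ca9104d289) (nat_lit 1030))
 (.leaf (nat_lit 0x100ca93a2862e) (nat_lit 1543))
) (.node (nat_lit 0x100ca9422860d) (.leaf (nat_lit 0x100ca93a4d2b3) (nat_lit 1793))
 (.leaf (nat_lit 0x100ca9422860d) (nat_lit 1027))
))) (.node (nat_lit 0x100caf244ca82) (.node (nat_lit 0x100ca9684d296) (.node (nat_lit 0x100ca96828622) (.leaf (nat_lit 0x100ca9424d2ac) (nat_lit 1282))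
 (.leaf (nat_lit 0x100ca96828622) (nat_lit 1795))
) (.node (nat_lit 0x100caf2429d10) (.leaf (nat_lit 0x100ca9684d296) (nat_lit 2055))
 (.leaf (nat_lit 0x100caf2429d10) (nat_lit 1030))
)) (.node (nat_lit 0x100caf3c4caab) (.node (nat_lit 0x100caf3c29d35) (.leaf (nat_lit 0x100caf244ca82) (nat_lit 1280))
 (.leaf (nat_lit 0x100caf3c29d35) (nat_lit 1282))
) (.node (nat_lit 0x100caf6229d0f) (.leaf (nat_lit 0x100caf3c4caab) (nat_lit 1538))
 (.node (nat_lit 0x100caf624cabe) (.leaf (nat_lit 0x100caf6229d0f) (nat_lit 1031))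
 (.leaf (nat_lit 0x100caf624cabe) (nat_lit 1281))
)))))) (.node (nat_lit 0x100cb4524cb25) (.node (nat_lit 0x100cb1722878e) (.node (nat_lit 0x100cb13c287b5) (.node (nat_lit 0x100cb11028781) (.node (nat_lit 0x100caf7a4ca97) (.leaf (nat_lit 0x100caf7a29d2a) (nat_lit 1282))
 (.leaf (nat_lit 0x100caf7a4ca97) (nat_lit 1538))
) (.node (nat_lit 0x100cb1104df09) (.leaf (nat_lit 0x100cb11028781) (nat_lit 262))
 (.leaf (nat_lit 0x100cb1104df09) (nat_lit 512))
)) (.node (nat_lit 0x100cb15e287ba) (.node (nat_lit 0x100cb13c4df2b) (.leaf (nat_lit 0x100cb13c287b5) (nat_lit 1287))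
 (.leaf (nat_lit 0x100cb13c4df2b) (nat_lit 1536))
) (.node (nat_lit 0x100cb15e4df15) (.leaf (nat_lit 0x100cb15e287ba) (nat_lit 1538))
 (.leaf (nat_lit 0x100cb15e4df15) (nat_lit 1537))
))) (.node (nat_lit 0x100cb43a2912e) (.node (nat_lit 0x100cb42429110) (.node (nat_lit 0x100cb1724df37) (.leaf (nat_lit 0x100cb1722878e) (nat_lit 514))
 (.leaf (nat_lit 0x100cb1724df37) (nat_lit 770))
) (.node (nat_lit 0x100cb4244cb02) (.leaf (nat_lit 0x100cb42429110) (nat_lit 1286))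
 (.leaf (nat_lit 0x100cb4244cb02) (nat_lit 1539))
)) (.node (nat_lit 0x100cb44c29132) (.node (nat_lit 0x100cb43a4cb33) (.leaf (nat_lit 0x100cb43a2912e) (nat_lit 1538))
 (.leaf (nat_lit 0x100cb43a4cb33) (nat_lit 1538))
) (.node (nat_lit 0x100cb44c4cb14) (.leaf (nat_lit 0x100cb44c29132) (nat_lit 1538))
 (.node (nat_lit 0x100cb4522910c) (.leaf (nat_lit 0x100cb44c4cb14) (nat_lit 1795))
 (.leaf (nat_lit 0x100cb4522910c) (nat_lit 1287))
))))) (.node (nat_lit 0x100cb9624dbbe) (.node (nat_lit 0x100cb93e4dba3) (.node (nat_lit 0x100cb9104db89) (.node (nat_lit 0x100cb91028701) (.leaf (nat_lit 0x100cb4524cb25) (nat_lit 1287))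
 (.leaf (nat_lit 0x100cb91028701) (nat_lit 513))
) (.node (nat_lit 0x100cb93e2873c) (.leaf (nat_lit 0x100cb9104db89) (nat_lit 769))
 (.leaf (nat_lit 0x100cb93e2873c) (nat_lit 1793))
)) (.node (nat_lit 0x100cb94c4db94) (.node (nat_lit 0x100cb94c28732) (.leaf (nat_lit 0x100cb93e4dba3) (nat_lit 1799))
 (.leaf (nat_lit 0x100cb94c28732) (nat_lit 1798))
) (.node (nat_lit 0x100cb9622870f) (.leaf (nat_lit 0x100cb94c4db94) (nat_lit 1793))
 (.leaf (nat_lit 0x100cb9622870f) (nat_lit 770))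
))) (.node (nat_lit 0x100cbd384cbbb) (.node (nat_lit 0x100cbd244cb82) (.node (nat_lit 0x100cbd2429510) (.leaf (nat_lit 0x100cb9624dbbe) (nat_lit 1026))
 (.leaf (nat_lit 0x100cbd2429510) (nat_lit 1281))
) (.node (nat_lit 0x100cbd3829527) (.leaf (nat_lit 0x100cbd244cb82) (nat_lit 1537))
 (.leaf (nat_lit 0x100cbd3829527) (nat_lit 1282))
)) (.node (nat_lit 0x100cbd424cbac) (.node (nat_lit 0x100cbd422950d) (.leaf (nat_lit 0x100cbd384cbbb) (nat_lit 1539))
 (.leaf (nat_lit 0x100cbd422950d) (nat_lit 1031))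
) (.node (nat_lit 0x100cbd5e2953a) (.leaf (nat_lit 0x100cbd424cbac) (nat_lit 1283))
 (.node (nat_lit 0x100cbd5e4cb95) (.leaf (nat_lit 0x100cbd5e2953a) (nat_lit 1538))
 (.leaf (nat_lit 0x100cbd5e4cb95) (nat_lit 1794))
))))))))))) (.node (nat_lit 0x1016a75414e3d) (.node (nat_lit 0x1012146e1190e) (.node (nat_lit 0x10100d56910b5) (.node (nat_lit 0x100d253e454bc) (.node (nat_lit 0x100d1d064571b) (.node (nat_lit 0x100d10442c934) (.node (nat_lit 0x100d094a2c08c) (.node (nat_lit 0x100d033c2cc2b) (.node (nat_lit 0x100d033a2cc33) (.node (nat_lit 0x100d033844da7) (.leaf (nat_lit 0x100d03382cc3b) (nat_lit 1793))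
 (.leaf (nat_lit 0x100d033844da7) (nat_lit 1537))
) (.node (nat_lit 0x100d033a44dae) (.leaf (nat_lit 0x100d033a2cc33) (nat_lit 1795))
 (.leaf (nat_lit 0x100d033a44dae) (nat_lit 1537))
)) (.node (nat_lit 0x100d033e2cc23) (.node (nat_lit 0x100d033c44db5) (.leaf (nat_lit 0x100d033c2cc2b) (nat_lit 1537))
 (.leaf (nat_lit 0x100d033c44db5) (nat_lit 1281))
) (.node (nat_lit 0x100d033e44dbc) (.leaf (nat_lit 0x100d033e2cc23) (nat_lit 1542))
 (.leaf (nat_lit 0x100d033e44dbc) (nat_lit 1542))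
))) (.node (nat_lit 0x100d096e2c08e) (.node (nat_lit 0x100d09582c08d) (.node (nat_lit 0x100d094a44429) (.leaf (nat_lit 0x100d094a2c08c) (nat_lit 1793))
 (.leaf (nat_lit 0x100d094a44429) (nat_lit 1537))
) (.node (nat_lit 0x100d095844421) (.leaf (nat_lit 0x100d09582c08d) (nat_lit 1537))
 (.leaf (nat_lit 0x100d095844421) (nat_lit 1281))
)) (.node (nat_lit 0x100d097c2c08f) (.node (nat_lit 0x100d096e44439) (.leaf (nat_lit 0x100d096e2c08e) (nat_lit 1537))
 (.leaf (nat_lit 0x100d096e44439) (nat_lit 1283))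
) (.node (nat_lit 0x100d097c44431) (.leaf (nat_lit 0x100d097c2c08f) (nat_lit 1281))
 (.leaf (nat_lit 0x100d097c44431) (nat_lit 1281))
)))) (.node (nat_lit 0x100d1c062dd98) (.node (nat_lit 0x100d10642c926) (.node (nat_lit 0x100d10542c93d) (.node (nat_lit 0x100d104444116) (.leaf (nat_lit 0x100d10442c934) (nat_lit 1793))
 (.leaf (nat_lit 0x100d104444116) (nat_lit 1537))
) (.node (nat_lit 0x100d105444117) (.leaf (nat_lit 0x100d10542c93d) (nat_lit 1793))
 (.leaf (nat_lit 0x100d105444117) (nat_lit 1539))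
)) (.node (nat_lit 0x100d10742c92f) (.node (nat_lit 0x100d106444114) (.leaf (nat_lit 0x100d10642c926) (nat_lit 1793))
 (.leaf (nat_lit 0x100d106444114) (nat_lit 1793))
) (.node (nat_lit 0x100d107444115) (.leaf (nat_lit 0x100d10742c92f) (nat_lit 1537))
 (.leaf (nat_lit 0x100d107444115) (nat_lit 1537))
))) (.node (nat_lit 0x100d1c442ddb4) (.node (nat_lit 0x100d1c3e2dda3) (.node (nat_lit 0x100d1c064539b) (.leaf (nat_lit 0x100d1c062dd98) (nat_lit 1542))
 (.leaf (nat_lit 0x100d1c064539b) (nat_lit 1283))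
) (.node (nat_lit 0x100d1c3e453bc) (.leaf (nat_lit 0x100d1c3e2dda3) (nat_lit 1794))
 (.leaf (nat_lit 0x100d1c3e453bc) (nat_lit 1539))
)) (.node (nat_lit 0x100d1c7c2dd8f) (.node (nat_lit 0x100d1c4445396) (.leaf (nat_lit 0x100d1c442ddb4) (nat_lit 1792))
 (.leaf (nat_lit 0x100d1c4445396) (nat_lit 1543))
) (.node (nat_lit 0x100d1c7c453b1) (.leaf (nat_lit 0x100d1c7c2dd8f) (nat_lit 1536))
 (.node (nat_lit 0x100d1d062d998) (.leaf (nat_lit 0x100d1c7c453b1) (nat_lit 1287))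
 (.leaf (nat_lit 0x100d1d062d998) (nat_lit 1024))
)))))) (.node (nat_lit 0x100d1f382d1bb) (.node (nat_lit 0x100d1e0645a9b) (.node (nat_lit 0x100d1d5445717) (.node (nat_lit 0x100d1d3c45735) (.node (nat_lit 0x100d1d3c2d9ab) (.leaf (nat_lit 0x100d1d064571b) (nat_lit 774))
 (.leaf (nat_lit 0x100d1d3c2d9ab) (nat_lit 1282))
) (.node (nat_lit 0x100d1d542d9bd) (.leaf (nat_lit 0x100d1d3c45735) (nat_lit 1026))
 (.leaf (nat_lit 0x100d1d542d9bd) (nat_lit 1543))
)) (.node (nat_lit 0x100d1d6e45739) (.node (nat_lit 0x100d1d6e2d98e) (.leaf (nat_lit 0x100d1d5445717) (nat_lit 1282))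
 (.leaf (nat_lit 0x100d1d6e2d98e) (nat_lit 1280))
) (.node (nat_lit 0x100d1e062d598) (.leaf (nat_lit 0x100d1d6e45739) (nat_lit 1031))
 (.leaf (nat_lit 0x100d1e062d598) (nat_lit 1281))
))) (.node (nat_lit 0x100d1e5845aa1) (.node (nat_lit 0x100d1e3a45aae) (.node (nat_lit 0x100d1e3a2d5b3) (.leaf (nat_lit 0x100d1e0645a9b) (nat_lit 1025))
 (.leaf (nat_lit 0x100d1e3a2d5b3) (nat_lit 1538))
) (.node (nat_lit 0x100d1e582d58d) (.leaf (nat_lit 0x100d1e3a45aae) (nat_lit 1282))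
 (.leaf (nat_lit 0x100d1e582d58d) (nat_lit 1543))
)) (.node (nat_lit 0x100d1e6445a94) (.node (nat_lit 0x100d1e642d5a6) (.leaf (nat_lit 0x100d1e5845aa1) (nat_lit 1543))
 (.leaf (nat_lit 0x100d1e642d5a6) (nat_lit 1799))
) (.node (nat_lit 0x100d1f062d198) (.leaf (nat_lit 0x100d1e6445a94) (nat_lit 1793))
 (.node (nat_lit 0x100d1f0645e1b) (.leaf (nat_lit 0x100d1f062d198) (nat_lit 1283))
 (.leaf (nat_lit 0x100d1f0645e1b) (nat_lit 1030))
))))) (.node (nat_lit 0x100d22382da3b) (.node (nat_lit 0x100d1f742d1af) (.node (nat_lit 0x100d1f4a2d18c) (.node (nat_lit 0x100d1f3845e27) (.leaf (nat_lit 0x100d1f382d1bb) (nat_lit 1539))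
 (.leaf (nat_lit 0x100d1f3845e27) (nat_lit 1282))
) (.node (nat_lit 0x100d1f4a45e29) (.leaf (nat_lit 0x100d1f4a2d18c) (nat_lit 1539))
 (.leaf (nat_lit 0x100d1f4a45e29) (nat_lit 1287))
)) (.node (nat_lit 0x100d22202da12) (.node (nat_lit 0x100d1f7445e15) (.leaf (nat_lit 0x100d1f742d1af) (nat_lit 1795))
 (.leaf (nat_lit 0x100d1f7445e15) (nat_lit 1538))
) (.node (nat_lit 0x100d222044b02) (.leaf (nat_lit 0x100d22202da12) (nat_lit 1286))
 (.leaf (nat_lit 0x100d222044b02) (nat_lit 1286))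
))) (.node (nat_lit 0x100d227c2da0f) (.node (nat_lit 0x100d22642da26) (.node (nat_lit 0x100d223844b27) (.leaf (nat_lit 0x100d22382da3b) (nat_lit 1542))
 (.leaf (nat_lit 0x100d223844b27) (nat_lit 1799))
) (.node (nat_lit 0x100d226444b14) (.leaf (nat_lit 0x100d22642da26) (nat_lit 1538))
 (.leaf (nat_lit 0x100d226444b14) (nat_lit 1538))
)) (.node (nat_lit 0x100d25122c601) (.node (nat_lit 0x100d227c44b31) (.leaf (nat_lit 0x100d227c2da0f) (nat_lit 1543))
 (.leaf (nat_lit 0x100d227c44b31) (nat_lit 1543))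
) (.node (nat_lit 0x100d251245488) (.leaf (nat_lit 0x100d25122c601) (nat_lit 1030))
 (.node (nat_lit 0x100d253e2c623) (.leaf (nat_lit 0x100d251245488) (nat_lit 771))
 (.leaf (nat_lit 0x100d253e2c623) (nat_lit 1799))
))))))) (.node (nat_lit 0x100d375445c97) (.node (nat_lit 0x100d2c4a2c68c) (.node (nat_lit 0x100d2a3a44bae) (.node (nat_lit 0x100d257445495) (.node (nat_lit 0x100d2558454a1) (.node (nat_lit 0x100d25582c60d) (.leaf (nat_lit 0x100d253e454bc) (nat_lit 1539))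
 (.leaf (nat_lit 0x100d25582c60d) (nat_lit 1282))
) (.node (nat_lit 0x100d25742c62f) (.leaf (nat_lit 0x100d2558454a1) (nat_lit 1027))
 (.leaf (nat_lit 0x100d25742c62f) (nat_lit 1792))
)) (.node (nat_lit 0x100d2a2044b82) (.node (nat_lit 0x100d2a202de92) (.leaf (nat_lit 0x100d257445495) (nat_lit 1543))
 (.leaf (nat_lit 0x100d2a202de92) (nat_lit 1030))
) (.node (nat_lit 0x100d2a3a2deb3) (.leaf (nat_lit 0x100d2a2044b82) (nat_lit 1030))
 (.leaf (nat_lit 0x100d2a3a2deb3) (nat_lit 1538))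
))) (.node (nat_lit 0x100d2a7444b95) (.node (nat_lit 0x100d2a6e44bb9) (.node (nat_lit 0x100d2a6e2de8e) (.leaf (nat_lit 0x100d2a3a44bae) (nat_lit 1543))
 (.leaf (nat_lit 0x100d2a6e2de8e) (nat_lit 1287))
) (.node (nat_lit 0x100d2a742deaf) (.leaf (nat_lit 0x100d2a6e44bb9) (nat_lit 1281))
 (.leaf (nat_lit 0x100d2a742deaf) (nat_lit 1282))
)) (.node (nat_lit 0x100d2c1245088) (.node (nat_lit 0x100d2c122c681) (.leaf (nat_lit 0x100d2a7444b95) (nat_lit 1282))
 (.leaf (nat_lit 0x100d2c122c681) (nat_lit 1283))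
) (.node (nat_lit 0x100d2c3c2c6ab) (.leaf (nat_lit 0x100d2c1245088) (nat_lit 1030))
 (.node (nat_lit 0x100d2c3c450b5) (.leaf (nat_lit 0x100d2c3c2c6ab) (nat_lit 1799))
 (.leaf (nat_lit 0x100d2c3c450b5) (nat_lit 1794))
))))) (.node (nat_lit 0x100d32442d334) (.node (nat_lit 0x100d32202d312) (.node (nat_lit 0x100d2c642c6a6) (.node (nat_lit 0x100d2c4a450a9) (.leaf (nat_lit 0x100d2c4a2c68c) (nat_lit 1539))
 (.leaf (nat_lit 0x100d2c4a450a9) (nat_lit 1282))
) (.node (nat_lit 0x100d2c6445094) (.leaf (nat_lit 0x100d2c642c6a6) (nat_lit 1795))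
 (.leaf (nat_lit 0x100d2c6445094) (nat_lit 1543))
)) (.node (nat_lit 0x100d323c2d32b) (.node (nat_lit 0x100d322044a02) (.leaf (nat_lit 0x100d32202d312) (nat_lit 1286))
 (.leaf (nat_lit 0x100d322044a02) (nat_lit 1027))
) (.node (nat_lit 0x100d323c44a35) (.leaf (nat_lit 0x100d323c2d32b) (nat_lit 1798))
 (.leaf (nat_lit 0x100d323c44a35) (nat_lit 1538))
))) (.node (nat_lit 0x100d37122c701) (.node (nat_lit 0x100d32582d30d) (.node (nat_lit 0x100d324444a16) (.leaf (nat_lit 0x100d32442d334) (nat_lit 1538))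
 (.leaf (nat_lit 0x100d324444a16) (nat_lit 1283))
) (.node (nat_lit 0x100d325844a21) (.leaf (nat_lit 0x100d32582d30d) (nat_lit 1536))
 (.leaf (nat_lit 0x100d325844a21) (nat_lit 1287))
)) (.node (nat_lit 0x100d373a2c733) (.node (nat_lit 0x100d371245c88) (.leaf (nat_lit 0x100d37122c701) (nat_lit 774))
 (.leaf (nat_lit 0x100d371245c88) (nat_lit 774))
) (.node (nat_lit 0x100d373a45cae) (.leaf (nat_lit 0x100d373a2c733) (nat_lit 1543))
 (.node (nat_lit 0x100d37542c73d) (.leaf (nat_lit 0x100d373a45cae) (nat_lit 1538))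
 (.leaf (nat_lit 0x100d37542c73d) (nat_lit 1536))
)))))) (.node (nat_lit 0x100d3e6e2c78e) (.node (nat_lit 0x100d3a4a44aa9) (.node (nat_lit 0x100d3a2044a82) (.node (nat_lit 0x100d377c45cb1) (.node (nat_lit 0x100d377c2c70f) (.leaf (nat_lit 0x100d375445c97) (nat_lit 1287))
 (.leaf (nat_lit 0x100d377c2c70f) (nat_lit 1026))
) (.node (nat_lit 0x100d3a202d792) (.leaf (nat_lit 0x100d377c45cb1) (nat_lit 1026))
 (.leaf (nat_lit 0x100d3a202d792) (nat_lit 1281))
)) (.node (nat_lit 0x100d3a3e44abc) (.node (nat_lit 0x100d3a3e2d7a3) (.leaf (nat_lit 0x100d3a2044a82) (nat_lit 1281))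
 (.leaf (nat_lit 0x100d3a3e2d7a3) (nat_lit 1794))
) (.node (nat_lit 0x100d3a4a2d78c) (.leaf (nat_lit 0x100d3a3e44abc) (nat_lit 1543))
 (.leaf (nat_lit 0x100d3a4a2d78c) (nat_lit 1543))
))) (.node (nat_lit 0x100d3e1245888) (.node (nat_lit 0x100d3a5444a97) (.node (nat_lit 0x100d3a542d7bd) (.leaf (nat_lit 0x100d3a4a44aa9) (nat_lit 1537))
 (.leaf (nat_lit 0x100d3a542d7bd) (nat_lit 1538))
) (.node (nat_lit 0x100d3e122c781) (.leaf (nat_lit 0x100d3a5444a97) (nat_lit 1538))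
 (.leaf (nat_lit 0x100d3e122c781) (nat_lit 1025))
)) (.node (nat_lit 0x100d3e38458a7) (.node (nat_lit 0x100d3e382c7bb) (.leaf (nat_lit 0x100d3e1245888) (nat_lit 1025))
 (.leaf (nat_lit 0x100d3e382c7bb) (nat_lit 1798))
) (.node (nat_lit 0x100d3e442c7b4) (.leaf (nat_lit 0x100d3e38458a7) (nat_lit 1799))
 (.node (nat_lit 0x100d3e4445896) (.leaf (nat_lit 0x100d3e442c7b4) (nat_lit 1799))
 (.leaf (nat_lit 0x100d3e4445896) (nat_lit 1799))
))))) (.node (nat_lit 0x101008721008e) (.node (nat_lit 0x1010083010083) (.node (nat_lit 0x1010082010082) (.node (nat_lit 0x100d3e6e458b9) (.leaf (nat_lit 0x100d3e6e2c78e) (nat_lit 1282))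
 (.leaf (nat_lit 0x100d3e6e458b9) (nat_lit 1282))
) (.node (nat_lit 0x1010082090492) (.leaf (nat_lit 0x1010082010082) (nat_lit 769))
 (.leaf (nat_lit 0x1010082090492) (nat_lit 1025))
)) (.node (nat_lit 0x101008621008f) (.node (nat_lit 0x101008309049b) (.leaf (nat_lit 0x1010083010083) (nat_lit 513))
 (.leaf (nat_lit 0x101008309049b) (nat_lit 769))
) (.node (nat_lit 0x10100862904be) (.leaf (nat_lit 0x101008621008f) (nat_lit 1281))
 (.leaf (nat_lit 0x10100862904be) (nat_lit 1539))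
))) (.node (nat_lit 0x10100d4e1163b) (.node (nat_lit 0x10100d4c11632) (.node (nat_lit 0x10100872904b7) (.leaf (nat_lit 0x101008721008e) (nat_lit 1283))
 (.leaf (nat_lit 0x10100872904b7) (nat_lit 1286))
) (.node (nat_lit 0x10100d4c91094) (.leaf (nat_lit 0x10100d4c11632) (nat_lit 1538))
 (.leaf (nat_lit 0x10100d4c91094) (nat_lit 1795))
)) (.node (nat_lit 0x10100d5411617) (.node (nat_lit 0x10100d4e9109c) (.leaf (nat_lit 0x10100d4e1163b) (nat_lit 1794))
 (.leaf (nat_lit 0x10100d4e9109c) (nat_lit 1799))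
) (.node (nat_lit 0x10100d54910bd) (.leaf (nat_lit 0x10100d5411617) (nat_lit 1543))
 (.node (nat_lit 0x10100d561161e) (.leaf (nat_lit 0x10100d54910bd) (nat_lit 1795))
 (.leaf (nat_lit 0x10100d561161e) (nat_lit 1287))
)))))))) (.node (nat_lit 0x10102b3010f03) (.node (nat_lit 0x1010252c114b4) (.node (nat_lit 0x101016669112e) (.node (nat_lit 0x101010749092f) (.node (nat_lit 0x101010309091b) (.node (nat_lit 0x1010101090909) (.node (nat_lit 0x1010101010101) (.leaf (nat_lit 0x10100d56910b5) (nat_lit 1539))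
 (.leaf (nat_lit 0x1010101010101) (nat_lit 0))
) (.node (nat_lit 0x1010103010103) (.leaf (nat_lit 0x1010101090909) (nat_lit 256))
 (.leaf (nat_lit 0x1010103010103) (nat_lit 258))
)) (.node (nat_lit 0x101010549093d) (.node (nat_lit 0x1010105410117) (.leaf (nat_lit 0x101010309091b) (nat_lit 514))
 (.leaf (nat_lit 0x1010105410117) (nat_lit 1542))
) (.node (nat_lit 0x1010107410115) (.leaf (nat_lit 0x101010549093d) (nat_lit 1798))
 (.leaf (nat_lit 0x1010107410115) (nat_lit 1793))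
))) (.node (nat_lit 0x1010164e9111c) (.node (nat_lit 0x1010164a9110c) (.node (nat_lit 0x1010164a11a29) (.leaf (nat_lit 0x101010749092f) (nat_lit 1798))
 (.leaf (nat_lit 0x1010164a11a29) (nat_lit 1286))
) (.node (nat_lit 0x1010164e11a3b) (.leaf (nat_lit 0x1010164a9110c) (nat_lit 1539))
 (.leaf (nat_lit 0x1010164e11a3b) (nat_lit 1282))
)) (.node (nat_lit 0x101016629113e) (.node (nat_lit 0x1010166211a0f) (.leaf (nat_lit 0x1010164e9111c) (nat_lit 1539))
 (.leaf (nat_lit 0x1010166211a0f) (nat_lit 1031))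
) (.node (nat_lit 0x1010166611a1d) (.leaf (nat_lit 0x101016629113e) (nat_lit 1283))
 (.leaf (nat_lit 0x1010166611a1d) (nat_lit 1287))
)))) (.node (nat_lit 0x1010186690dae) (.node (nat_lit 0x1010182090d92) (.node (nat_lit 0x1010181090d89) (.node (nat_lit 0x1010181010181) (.leaf (nat_lit 0x101016669112e) (nat_lit 1539))
 (.leaf (nat_lit 0x1010181010181) (nat_lit 257))
) (.node (nat_lit 0x1010182010182) (.leaf (nat_lit 0x1010181090d89) (nat_lit 513))
 (.leaf (nat_lit 0x1010182010182) (nat_lit 514))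
)) (.node (nat_lit 0x1010185690db5) (.node (nat_lit 0x101018561019e) (.leaf (nat_lit 0x1010182090d92) (nat_lit 770))
 (.leaf (nat_lit 0x101018561019e) (nat_lit 1539))
) (.node (nat_lit 0x101018661019d) (.leaf (nat_lit 0x1010185690db5) (nat_lit 1542))
 (.leaf (nat_lit 0x101018661019d) (nat_lit 1537))
))) (.node (nat_lit 0x10101f4c91194) (.node (nat_lit 0x10101f4a9118c) (.node (nat_lit 0x10101f4a11e29) (.leaf (nat_lit 0x1010186690dae) (nat_lit 1795))
 (.leaf (nat_lit 0x10101f4a11e29) (nat_lit 1542))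
) (.node (nat_lit 0x10101f4c11e32) (.leaf (nat_lit 0x10101f4a9118c) (nat_lit 1795))
 (.leaf (nat_lit 0x10101f4c11e32) (nat_lit 1282))
)) (.node (nat_lit 0x10101f72911b7) (.node (nat_lit 0x10101f7211e0e) (.leaf (nat_lit 0x10101f4c91194) (nat_lit 1539))
 (.leaf (nat_lit 0x10101f7211e0e) (nat_lit 1031))
) (.node (nat_lit 0x10101f7411e15) (.leaf (nat_lit 0x10101f72911b7) (nat_lit 1283))
 (.node (nat_lit 0x10101f74911af) (.leaf (nat_lit 0x10101f7411e15) (nat_lit 1543))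
 (.leaf (nat_lit 0x10101f74911af) (nat_lit 1795))
)))))) (.node (nat_lit 0x1010271a90e21) (.node (nat_lit 0x1010261a1192c) (.node (nat_lit 0x101025661149d) (.node (nat_lit 0x1010253e114bc) (.node (nat_lit 0x1010252c90622) (.leaf (nat_lit 0x1010252c114b4) (nat_lit 1799))
 (.leaf (nat_lit 0x1010252c90622) (nat_lit 1794))
) (.node (nat_lit 0x1010253e90623) (.leaf (nat_lit 0x1010253e114bc) (nat_lit 1543))
 (.leaf (nat_lit 0x1010253e90623) (nat_lit 1793))
)) (.node (nat_lit 0x1010257411495) (.node (nat_lit 0x101025669062e) (.leaf (nat_lit 0x101025661149d) (nat_lit 1539))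
 (.leaf (nat_lit 0x101025669062e) (nat_lit 1543))
) (.node (nat_lit 0x101025749062f) (.leaf (nat_lit 0x1010257411495) (nat_lit 1795))
 (.leaf (nat_lit 0x101025749062f) (nat_lit 1799))
))) (.node (nat_lit 0x101026561191e) (.node (nat_lit 0x1010263e1193c) (.node (nat_lit 0x1010261a90a21) (.leaf (nat_lit 0x1010261a1192c) (nat_lit 1283))
 (.leaf (nat_lit 0x1010261a90a21) (nat_lit 1542))
) (.node (nat_lit 0x1010263e90a23) (.leaf (nat_lit 0x1010263e1193c) (nat_lit 1283))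
 (.leaf (nat_lit 0x1010263e90a23) (nat_lit 1538))
)) (.node (nat_lit 0x101026721190e) (.node (nat_lit 0x1010265690a35) (.leaf (nat_lit 0x101026561191e) (nat_lit 1283))
 (.leaf (nat_lit 0x1010265690a35) (nat_lit 1543))
) (.node (nat_lit 0x1010267290a37) (.leaf (nat_lit 0x101026721190e) (nat_lit 1027))
 (.node (nat_lit 0x1010271a11dac) (.leaf (nat_lit 0x1010267290a37) (nat_lit 1287))
 (.leaf (nat_lit 0x1010271a11dac) (nat_lit 1539))
))))) (.node (nat_lit 0x10102a1a91ea1) (.node (nat_lit 0x1010275490e3d) (.node (nat_lit 0x1010272c90e22) (.node (nat_lit 0x1010272c11db4) (.leaf (nat_lit 0x1010271a90e21) (nat_lit 1537))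
 (.leaf (nat_lit 0x1010272c11db4) (nat_lit 1539))
) (.node (nat_lit 0x1010275411d97) (.leaf (nat_lit 0x1010272c90e22) (nat_lit 1538))
 (.leaf (nat_lit 0x1010275411d97) (nat_lit 1539))
)) (.node (nat_lit 0x1010276290e3e) (.node (nat_lit 0x1010276211d8f) (.leaf (nat_lit 0x1010275490e3d) (nat_lit 1799))
 (.leaf (nat_lit 0x1010276211d8f) (nat_lit 1283))
) (.node (nat_lit 0x10102a1a10bac) (.leaf (nat_lit 0x1010276290e3e) (nat_lit 1287))
 (.leaf (nat_lit 0x10102a1a10bac) (nat_lit 1286))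
))) (.node (nat_lit 0x10102a4e91e9c) (.node (nat_lit 0x10102a2091e92) (.node (nat_lit 0x10102a2010b82) (.leaf (nat_lit 0x10102a1a91ea1) (nat_lit 1286))
 (.leaf (nat_lit 0x10102a2010b82) (nat_lit 1287))
) (.node (nat_lit 0x10102a4e10bbb) (.leaf (nat_lit 0x10102a2091e92) (nat_lit 1287))
 (.leaf (nat_lit 0x10102a4e10bbb) (nat_lit 1542))
)) (.node (nat_lit 0x10102a7491eaf) (.node (nat_lit 0x10102a7410b95) (.leaf (nat_lit 0x10102a4e91e9c) (nat_lit 1538))
 (.leaf (nat_lit 0x10102a7410b95) (nat_lit 1538))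
) (.node (nat_lit 0x10102b1a10f2c) (.leaf (nat_lit 0x10102a7491eaf) (nat_lit 1538))
 (.node (nat_lit 0x10102b1a91aa1) (.leaf (nat_lit 0x10102b1a10f2c) (nat_lit 1542))
 (.leaf (nat_lit 0x10102b1a91aa1) (nat_lit 1542))
))))))) (.node (nat_lit 0x10103a4a10aa9) (.node (nat_lit 0x101033309171b) (.node (nat_lit 0x1010312c107b4) (.node (nat_lit 0x10102b6610f1d) (.node (nat_lit 0x10102b4c10f32) (.node (nat_lit 0x10102b3091a9b) (.leaf (nat_lit 0x10102b3010f03) (nat_lit 1031))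
 (.leaf (nat_lit 0x10102b3091a9b) (nat_lit 1280))
) (.node (nat_lit 0x10102b4c91a94) (.leaf (nat_lit 0x10102b4c10f32) (nat_lit 1798))
 (.leaf (nat_lit 0x10102b4c91a94) (nat_lit 1799))
)) (.node (nat_lit 0x1010311010781) (.node (nat_lit 0x10102b6691aae) (.leaf (nat_lit 0x10102b6610f1d) (nat_lit 1282))
 (.leaf (nat_lit 0x10102b6691aae) (nat_lit 1538))
) (.node (nat_lit 0x1010311091f09) (.leaf (nat_lit 0x1010311010781) (nat_lit 1031))
 (.leaf (nat_lit 0x1010311091f09) (nat_lit 1031))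
))) (.node (nat_lit 0x101031721078e) (.node (nat_lit 0x1010314e107bb) (.node (nat_lit 0x1010312c91f22) (.leaf (nat_lit 0x1010312c107b4) (nat_lit 1793))
 (.leaf (nat_lit 0x1010312c91f22) (nat_lit 1793))
) (.node (nat_lit 0x1010314e91f1c) (.leaf (nat_lit 0x1010314e107bb) (nat_lit 1537))
 (.leaf (nat_lit 0x1010314e91f1c) (nat_lit 1793))
)) (.node (nat_lit 0x1010332c10eb4) (.node (nat_lit 0x1010317291f37) (.leaf (nat_lit 0x101031721078e) (nat_lit 1282))
 (.leaf (nat_lit 0x1010317291f37) (nat_lit 1282))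
) (.node (nat_lit 0x1010332c91722) (.leaf (nat_lit 0x1010332c10eb4) (nat_lit 1543))
 (.node (nat_lit 0x1010333010e83) (.leaf (nat_lit 0x1010332c91722) (nat_lit 1798))
 (.leaf (nat_lit 0x1010333010e83) (nat_lit 1287))
))))) (.node (nat_lit 0x1010393e91ba3) (.node (nat_lit 0x1010335691735) (.node (nat_lit 0x1010334a9170c) (.node (nat_lit 0x1010334a10ea9) (.leaf (nat_lit 0x101033309171b) (nat_lit 1287))
 (.leaf (nat_lit 0x1010334a10ea9) (nat_lit 1542))
) (.node (nat_lit 0x1010335610e9e) (.leaf (nat_lit 0x1010334a9170c) (nat_lit 1798))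
 (.leaf (nat_lit 0x1010335610e9e) (nat_lit 1538))
)) (.node (nat_lit 0x1010391091b89) (.node (nat_lit 0x1010391010701) (.leaf (nat_lit 0x1010335691735) (nat_lit 1538))
 (.leaf (nat_lit 0x1010391010701) (nat_lit 775))
) (.node (nat_lit 0x1010393e1073c) (.leaf (nat_lit 0x1010391091b89) (nat_lit 1024))
 (.leaf (nat_lit 0x1010393e1073c) (nat_lit 1537))
))) (.node (nat_lit 0x1010396291bbe) (.node (nat_lit 0x1010394c91b94) (.node (nat_lit 0x1010394c10732) (.leaf (nat_lit 0x1010393e91ba3) (nat_lit 1793))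
 (.leaf (nat_lit 0x1010394c10732) (nat_lit 1537))
) (.node (nat_lit 0x101039621070f) (.leaf (nat_lit 0x1010394c91b94) (nat_lit 1793))
 (.leaf (nat_lit 0x101039621070f) (nat_lit 1026))
)) (.node (nat_lit 0x10103a2091792) (.node (nat_lit 0x10103a2010a82) (.leaf (nat_lit 0x1010396291bbe) (nat_lit 1282))
 (.leaf (nat_lit 0x10103a2010a82) (nat_lit 1287))
) (.node (nat_lit 0x10103a3e10abc) (.leaf (nat_lit 0x10103a2091792) (nat_lit 1543))
 (.node (nat_lit 0x10103a3e917a3) (.leaf (nat_lit 0x10103a3e10abc) (nat_lit 1542))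
 (.leaf (nat_lit 0x10103a3e917a3) (nat_lit 1542))
)))))) (.node (nat_lit 0x10120c5c812b3) (.node (nat_lit 0x1012096e1008e) (.node (nat_lit 0x1012092410082) (.node (nat_lit 0x10103a5410a97) (.node (nat_lit 0x10103a4a9178c) (.leaf (nat_lit 0x10103a4a10aa9) (nat_lit 1286))
 (.leaf (nat_lit 0x10103a4a9178c) (nat_lit 1542))
) (.node (nat_lit 0x10103a54917bd) (.leaf (nat_lit 0x10103a5410a97) (nat_lit 1538))
 (.leaf (nat_lit 0x10103a54917bd) (nat_lit 1794))
)) (.node (nat_lit 0x1012093610083) (.node (nat_lit 0x1012092480410) (.leaf (nat_lit 0x1012092410082) (nat_lit 1285))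
 (.leaf (nat_lit 0x1012092480410) (nat_lit 1028))
) (.node (nat_lit 0x1012093680418) (.leaf (nat_lit 0x1012093610083) (nat_lit 1029))
 (.leaf (nat_lit 0x1012093680418) (nat_lit 772))
))) (.node (nat_lit 0x10120c44114b4) (.node (nat_lit 0x1012097c1008f) (.node (nat_lit 0x1012096e80439) (.leaf (nat_lit 0x1012096e1008e) (nat_lit 1542))
 (.leaf (nat_lit 0x1012096e80439) (nat_lit 1539))
) (.node (nat_lit 0x1012097c80431) (.leaf (nat_lit 0x1012097c1008f) (nat_lit 1795))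
 (.leaf (nat_lit 0x1012097c80431) (nat_lit 1537))
)) (.node (nat_lit 0x10120c46114bc) (.node (nat_lit 0x10120c4481296) (.leaf (nat_lit 0x10120c44114b4) (nat_lit 1793))
 (.leaf (nat_lit 0x10120c4481296) (nat_lit 1795))
) (.node (nat_lit 0x10120c468129f) (.leaf (nat_lit 0x10120c46114bc) (nat_lit 1537))
 (.node (nat_lit 0x10120c5c1149d) (.leaf (nat_lit 0x10120c468129f) (nat_lit 1539))
 (.leaf (nat_lit 0x10120c5c1149d) (nat_lit 1799))
))))) (.node (nat_lit 0x1012125e8083a) (.node (nat_lit 0x1012121280808) (.node (nat_lit 0x10120c5e812ba) (.node (nat_lit 0x10120c5e11495) (.leaf (nat_lit 0x10120c5c812b3) (nat_lit 1795))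
 (.leaf (nat_lit 0x10120c5e11495) (nat_lit 1798))
) (.node (nat_lit 0x1012121210101) (.leaf (nat_lit 0x10120c5e812ba) (nat_lit 1795))
 (.leaf (nat_lit 0x1012121210101) (nat_lit 517))
)) (.node (nat_lit 0x1012123680818) (.node (nat_lit 0x1012123610103) (.leaf (nat_lit 0x1012121280808) (nat_lit 260))
 (.leaf (nat_lit 0x1012123610103) (nat_lit 773))
) (.node (nat_lit 0x1012125e10115) (.leaf (nat_lit 0x1012123680818) (nat_lit 516))
 (.leaf (nat_lit 0x1012125e10115) (nat_lit 1542))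
))) (.node (nat_lit 0x101214428130d) (.node (nat_lit 0x1012127a8082a) (.node (nat_lit 0x1012127a10117) (.leaf (nat_lit 0x1012125e8083a) (nat_lit 1543))
 (.leaf (nat_lit 0x1012127a10117) (nat_lit 1536))
) (.node (nat_lit 0x101214421192c) (.leaf (nat_lit 0x1012127a8082a) (nat_lit 1287))
 (.leaf (nat_lit 0x101214421192c) (nat_lit 1286))
)) (.node (nat_lit 0x101214468131f) (.node (nat_lit 0x101214461193c) (.leaf (nat_lit 0x101214428130d) (nat_lit 1027))
 (.leaf (nat_lit 0x101214461193c) (nat_lit 1542))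
) (.node (nat_lit 0x1012146a1191e) (.leaf (nat_lit 0x101214468131f) (nat_lit 1283))
 (.node (nat_lit 0x1012146a8132b) (.leaf (nat_lit 0x1012146a1191e) (nat_lit 1538))
 (.leaf (nat_lit 0x1012146a8132b) (nat_lit 1283))
))))))))) (.node (nat_lit 0x10141e62b55be) (.node (nat_lit 0x1012371281c88) (.node (nat_lit 0x1012227c80b31) (.node (nat_lit 0x10121c7c11d8f) (.node (nat_lit 0x10121b6a1019e) (.node (nat_lit 0x10121b2410182) (.node (nat_lit 0x10121b1210181) (.node (nat_lit 0x1012146e81339) (.leaf (nat_lit 0x1012146e1190e) (nat_lit 1543))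
 (.leaf (nat_lit 0x1012146e81339) (nat_lit 1283))
) (.node (nat_lit 0x10121b1280c08) (.leaf (nat_lit 0x10121b1210181) (nat_lit 773))
 (.leaf (nat_lit 0x10121b1280c08) (nat_lit 516))
)) (.node (nat_lit 0x10121b5c1019d) (.node (nat_lit 0x10121b2480c10) (.leaf (nat_lit 0x10121b2410182) (nat_lit 1029))
 (.leaf (nat_lit 0x10121b2480c10) (nat_lit 772))
) (.node (nat_lit 0x10121b5c80c33) (.leaf (nat_lit 0x10121b5c1019d) (nat_lit 1542))
 (.leaf (nat_lit 0x10121b5c80c33) (nat_lit 1799))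
))) (.node (nat_lit 0x10121c4411db4) (.node (nat_lit 0x10121c4211dac) (.node (nat_lit 0x10121b6a80c2b) (.leaf (nat_lit 0x10121b6a1019e) (nat_lit 1792))
 (.leaf (nat_lit 0x10121b6a80c2b) (nat_lit 1543))
) (.node (nat_lit 0x10121c428138d) (.leaf (nat_lit 0x10121c4211dac) (nat_lit 1281))
 (.leaf (nat_lit 0x10121c428138d) (nat_lit 1283))
)) (.node (nat_lit 0x10121c7a11d97) (.node (nat_lit 0x10121c4481396) (.leaf (nat_lit 0x10121c4411db4) (nat_lit 1798))
 (.leaf (nat_lit 0x10121c4481396) (nat_lit 1539))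
) (.node (nat_lit 0x10121c7a813aa) (.leaf (nat_lit 0x10121c7a11d97) (nat_lit 1538))
 (.leaf (nat_lit 0x10121c7a813aa) (nat_lit 1539))
)))) (.node (nat_lit 0x1012217a11617) (.node (nat_lit 0x101221381163b) (.node (nat_lit 0x1012212811632) (.node (nat_lit 0x10121c7c813b1) (.leaf (nat_lit 0x10121c7c11d8f) (nat_lit 1543))
 (.leaf (nat_lit 0x10121c7c813b1) (nat_lit 1539))
) (.node (nat_lit 0x10122128806a6) (.leaf (nat_lit 0x1012212811632) (nat_lit 1793))
 (.leaf (nat_lit 0x10122128806a6) (nat_lit 1793))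
)) (.node (nat_lit 0x1012216a1161e) (.node (nat_lit 0x10122138806a7) (.leaf (nat_lit 0x101221381163b) (nat_lit 1537))
 (.leaf (nat_lit 0x10122138806a7) (nat_lit 1537))
) (.node (nat_lit 0x1012216a806ab) (.leaf (nat_lit 0x1012216a1161e) (nat_lit 1793))
 (.leaf (nat_lit 0x1012216a806ab) (nat_lit 1543))
))) (.node (nat_lit 0x1012223811a3b) (.node (nat_lit 0x1012221811a29) (.node (nat_lit 0x1012217a806aa) (.leaf (nat_lit 0x1012217a11617) (nat_lit 1793))
 (.leaf (nat_lit 0x1012217a806aa) (nat_lit 1539))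
) (.node (nat_lit 0x1012221880b25) (.leaf (nat_lit 0x1012221811a29) (nat_lit 1539))
 (.leaf (nat_lit 0x1012221880b25) (nat_lit 1286))
)) (.node (nat_lit 0x1012225c11a1d) (.node (nat_lit 0x1012223880b27) (.leaf (nat_lit 0x1012223811a3b) (nat_lit 1795))
 (.leaf (nat_lit 0x1012223880b27) (nat_lit 1542))
) (.node (nat_lit 0x1012225c80b33) (.leaf (nat_lit 0x1012225c11a1d) (nat_lit 1795))
 (.node (nat_lit 0x1012227c11a0f) (.leaf (nat_lit 0x1012225c80b33) (nat_lit 1543))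
 (.leaf (nat_lit 0x1012227c11a0f) (nat_lit 1539))
)))))) (.node (nat_lit 0x10122f1810aa9) (.node (nat_lit 0x1012236e80fb9) (.node (nat_lit 0x1012232880fa6) (.node (nat_lit 0x1012231880fa5) (.node (nat_lit 0x1012231811e29) (.leaf (nat_lit 0x1012227c80b31) (nat_lit 1287))
 (.leaf (nat_lit 0x1012231811e29) (nat_lit 1795))
) (.node (nat_lit 0x1012232811e32) (.leaf (nat_lit 0x1012231880fa5) (nat_lit 1542))
 (.leaf (nat_lit 0x1012232811e32) (nat_lit 1795))
)) (.node (nat_lit 0x1012235e80fba) (.node (nat_lit 0x1012235e11e15) (.leaf (nat_lit 0x1012232880fa6) (nat_lit 1538))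
 (.leaf (nat_lit 0x1012235e11e15) (nat_lit 1798))
) (.node (nat_lit 0x1012236e11e0e) (.leaf (nat_lit 0x1012235e80fba) (nat_lit 1799))
 (.leaf (nat_lit 0x1012236e11e0e) (nat_lit 1539))
))) (.node (nat_lit 0x10122e3681998) (.node (nat_lit 0x10122e18819a5) (.node (nat_lit 0x10122e1810ea9) (.leaf (nat_lit 0x1012236e80fb9) (nat_lit 1287))
 (.leaf (nat_lit 0x10122e1810ea9) (nat_lit 1798))
) (.node (nat_lit 0x10122e3610e83) (.leaf (nat_lit 0x10122e18819a5) (nat_lit 1542))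
 (.leaf (nat_lit 0x10122e3610e83) (nat_lit 1543))
)) (.node (nat_lit 0x10122e4481996) (.node (nat_lit 0x10122e4410eb4) (.leaf (nat_lit 0x10122e3681998) (nat_lit 1543))
 (.leaf (nat_lit 0x10122e4410eb4) (nat_lit 1542))
) (.node (nat_lit 0x10122e6a10e9e) (.leaf (nat_lit 0x10122e4481996) (nat_lit 1542))
 (.node (nat_lit 0x10122e6a819ab) (.leaf (nat_lit 0x10122e6a10e9e) (nat_lit 1794))
 (.leaf (nat_lit 0x10122e6a819ab) (nat_lit 1543))
))))) (.node (nat_lit 0x1012352810f32) (.node (nat_lit 0x10122f4610abc) (.node (nat_lit 0x10122f2410a82) (.node (nat_lit 0x10122f1881d25) (.leaf (nat_lit 0x10122f1810aa9) (nat_lit 1542))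
 (.leaf (nat_lit 0x10122f1881d25) (nat_lit 1286))
) (.node (nat_lit 0x10122f2481d10) (.leaf (nat_lit 0x10122f2410a82) (nat_lit 1799))
 (.leaf (nat_lit 0x10122f2481d10) (nat_lit 1543))
)) (.node (nat_lit 0x10122f7a10a97) (.node (nat_lit 0x10122f4681d1f) (.leaf (nat_lit 0x10122f4610abc) (nat_lit 1286))
 (.leaf (nat_lit 0x10122f4681d1f) (nat_lit 1286))
) (.node (nat_lit 0x10122f7a81d2a) (.leaf (nat_lit 0x10122f7a10a97) (nat_lit 1543))
 (.leaf (nat_lit 0x10122f7a81d2a) (nat_lit 1537))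
))) (.node (nat_lit 0x1012354210f2c) (.node (nat_lit 0x1012353610f03) (.node (nat_lit 0x10123528815a6) (.leaf (nat_lit 0x1012352810f32) (nat_lit 1538))
 (.leaf (nat_lit 0x10123528815a6) (nat_lit 1538))
) (.node (nat_lit 0x1012353681598) (.leaf (nat_lit 0x1012353610f03) (nat_lit 1536))
 (.leaf (nat_lit 0x1012353681598) (nat_lit 1287))
)) (.node (nat_lit 0x1012355c10f1d) (.node (nat_lit 0x101235428158d) (.leaf (nat_lit 0x1012354210f2c) (nat_lit 1286))
 (.leaf (nat_lit 0x101235428158d) (nat_lit 1286))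
) (.node (nat_lit 0x1012355c815b3) (.leaf (nat_lit 0x1012355c10f1d) (nat_lit 1798))
 (.node (nat_lit 0x1012371210701) (.leaf (nat_lit 0x1012355c815b3) (nat_lit 1538))
 (.leaf (nat_lit 0x1012371210701) (nat_lit 1280))
))))))) (.node (nat_lit 0x10140c46b54bc) (.node (nat_lit 0x10123e38107bb) (.node (nat_lit 0x10123d2481510) (.node (nat_lit 0x1012374681c9f) (.node (nat_lit 0x1012372881ca6) (.node (nat_lit 0x1012372810732) (.leaf (nat_lit 0x1012371281c88) (nat_lit 1031))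
 (.leaf (nat_lit 0x1012372810732) (nat_lit 1794))
) (.node (nat_lit 0x101237461073c) (.leaf (nat_lit 0x1012372881ca6) (nat_lit 1543))
 (.leaf (nat_lit 0x101237461073c) (nat_lit 1542))
)) (.node (nat_lit 0x1012377c81cb1) (.node (nat_lit 0x1012377c1070f) (.leaf (nat_lit 0x1012374681c9f) (nat_lit 1542))
 (.leaf (nat_lit 0x1012377c1070f) (nat_lit 1538))
) (.node (nat_lit 0x10123d2410b82) (.leaf (nat_lit 0x1012377c81cb1) (nat_lit 1282))
 (.leaf (nat_lit 0x10123d2410b82) (nat_lit 1543))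
))) (.node (nat_lit 0x10123d428150d) (.node (nat_lit 0x10123d3881527) (.node (nat_lit 0x10123d3810bbb) (.leaf (nat_lit 0x10123d2481510) (nat_lit 1543))
 (.leaf (nat_lit 0x10123d3810bbb) (nat_lit 1282))
) (.node (nat_lit 0x10123d4210bac) (.leaf (nat_lit 0x10123d3881527) (nat_lit 1282))
 (.leaf (nat_lit 0x10123d4210bac) (nat_lit 1030))
)) (.node (nat_lit 0x10123d5e8153a) (.node (nat_lit 0x10123d5e10b95) (.leaf (nat_lit 0x10123d428150d) (nat_lit 1030))
 (.leaf (nat_lit 0x10123d5e10b95) (nat_lit 1793))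
) (.node (nat_lit 0x10123e1210781) (.leaf (nat_lit 0x10123d5e8153a) (nat_lit 1794))
 (.node (nat_lit 0x10123e1281888) (.leaf (nat_lit 0x10123e1210781) (nat_lit 1287))
 (.leaf (nat_lit 0x10123e1281888) (nat_lit 1287))
))))) (.node (nat_lit 0x1014083014083) (.node (nat_lit 0x10123e6e1078e) (.node (nat_lit 0x10123e44107b4) (.node (nat_lit 0x10123e38818a7) (.leaf (nat_lit 0x10123e38107bb) (nat_lit 1792))
 (.leaf (nat_lit 0x10123e38818a7) (nat_lit 1543))
) (.node (nat_lit 0x10123e4481896) (.leaf (nat_lit 0x10123e44107b4) (nat_lit 1798))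
 (.leaf (nat_lit 0x10123e4481896) (nat_lit 1798))
)) (.node (nat_lit 0x1014082014082) (.node (nat_lit 0x10123e6e818b9) (.leaf (nat_lit 0x10123e6e1078e) (nat_lit 1538))
 (.leaf (nat_lit 0x10123e6e818b9) (nat_lit 1538))
) (.node (nat_lit 0x10140820b4492) (.leaf (nat_lit 0x1014082014082) (nat_lit 1027))
 (.leaf (nat_lit 0x10140820b4492) (nat_lit 1283))
))) (.node (nat_lit 0x101408721408e) (.node (nat_lit 0x101408621408f) (.node (nat_lit 0x10140830b449b) (.leaf (nat_lit 0x1014083014083) (nat_lit 771))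
 (.leaf (nat_lit 0x10140830b449b) (nat_lit 1027))
) (.node (nat_lit 0x10140862b44be) (.leaf (nat_lit 0x101408621408f) (nat_lit 1025))
 (.leaf (nat_lit 0x10140862b44be) (nat_lit 1281))
)) (.node (nat_lit 0x10140c4415296) (.node (nat_lit 0x10140872b44b7) (.leaf (nat_lit 0x101408721408e) (nat_lit 1025))
 (.leaf (nat_lit 0x10140872b44b7) (nat_lit 1281))
) (.node (nat_lit 0x10140c44b54b4) (.leaf (nat_lit 0x10140c4415296) (nat_lit 1543))
 (.node (nat_lit 0x10140c461529f) (.leaf (nat_lit 0x10140c44b54b4) (nat_lit 1792))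
 (.leaf (nat_lit 0x10140c461529f) (nat_lit 1287))
)))))) (.node (nat_lit 0x1014177215e8e) (.node (nat_lit 0x10141030b491b) (.node (nat_lit 0x10140c5eb5495) (.node (nat_lit 0x10140c5cb549d) (.node (nat_lit 0x10140c5c152b3) (.leaf (nat_lit 0x10140c46b54bc) (nat_lit 1536))
 (.leaf (nat_lit 0x10140c5c152b3) (nat_lit 1542))
) (.node (nat_lit 0x10140c5e152ba) (.leaf (nat_lit 0x10140c5cb549d) (nat_lit 1798))
 (.leaf (nat_lit 0x10140c5e152ba) (nat_lit 1538))
)) (.node (nat_lit 0x10141010b4909) (.node (nat_lit 0x1014101014101) (.leaf (nat_lit 0x10140c5eb5495) (nat_lit 1793))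
 (.leaf (nat_lit 0x1014101014101) (nat_lit 775))
) (.node (nat_lit 0x1014103014103) (.leaf (nat_lit 0x10141010b4909) (nat_lit 1031))
 (.leaf (nat_lit 0x1014103014103) (nat_lit 1025))
))) (.node (nat_lit 0x10141064b4926) (.node (nat_lit 0x10141044b4934) (.node (nat_lit 0x1014104414116) (.leaf (nat_lit 0x10141030b491b) (nat_lit 1281))
 (.leaf (nat_lit 0x1014104414116) (nat_lit 1281))
) (.node (nat_lit 0x1014106414114) (.leaf (nat_lit 0x10141044b4934) (nat_lit 1537))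
 (.leaf (nat_lit 0x1014106414114) (nat_lit 1537))
)) (.node (nat_lit 0x10141758b550d) (.node (nat_lit 0x1014175815ea1) (.leaf (nat_lit 0x10141064b4926) (nat_lit 1537))
 (.leaf (nat_lit 0x1014175815ea1) (nat_lit 1281))
) (.node (nat_lit 0x1014175c15eb3) (.leaf (nat_lit 0x10141758b550d) (nat_lit 1537))
 (.node (nat_lit 0x1014175cb551d) (.leaf (nat_lit 0x1014175c15eb3) (nat_lit 1542))
 (.leaf (nat_lit 0x1014175cb551d) (nat_lit 1538))
))))) (.node (nat_lit 0x101418461419f) (.node (nat_lit 0x1014181014181) (.node (nat_lit 0x1014177615e9c) (.node (nat_lit 0x10141772b5537) (.leaf (nat_lit 0x1014177215e8e) (nat_lit 1281))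
 (.leaf (nat_lit 0x10141772b5537) (nat_lit 1287))
) (.node (nat_lit 0x10141776b5527) (.leaf (nat_lit 0x1014177615e9c) (nat_lit 1543))
 (.leaf (nat_lit 0x10141776b5527) (nat_lit 1793))
)) (.node (nat_lit 0x1014182014182) (.node (nat_lit 0x10141810b4d89) (.leaf (nat_lit 0x1014181014181) (nat_lit 771))
 (.leaf (nat_lit 0x10141810b4d89) (nat_lit 774))
) (.node (nat_lit 0x10141820b4d92) (.leaf (nat_lit 0x1014182014182) (nat_lit 1027))
 (.leaf (nat_lit 0x10141820b4d92) (nat_lit 1026))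
))) (.node (nat_lit 0x10141e5815aa1) (.node (nat_lit 0x101418761419c) (.node (nat_lit 0x10141846b4dbc) (.leaf (nat_lit 0x101418461419f) (nat_lit 1025))
 (.leaf (nat_lit 0x10141846b4dbc) (nat_lit 1281))
) (.node (nat_lit 0x10141876b4da7) (.leaf (nat_lit 0x101418761419c) (nat_lit 1281))
 (.leaf (nat_lit 0x10141876b4da7) (nat_lit 1281))
)) (.node (nat_lit 0x10141e5e15aba) (.node (nat_lit 0x10141e58b558d) (.leaf (nat_lit 0x10141e5815aa1) (nat_lit 1286))
 (.leaf (nat_lit 0x10141e58b558d) (nat_lit 1539))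
) (.node (nat_lit 0x10141e5eb5595) (.leaf (nat_lit 0x10141e5e15aba) (nat_lit 1538))
 (.node (nat_lit 0x10141e6215a8f) (.leaf (nat_lit 0x10141e5eb5595) (nat_lit 1538))
 (.leaf (nat_lit 0x10141e6215a8f) (nat_lit 1287))
)))))))) (.node (nat_lit 0x10143b2e14e3d) (.node (nat_lit 0x10142e721598e) (.node (nat_lit 0x1014235eb5e15) (.node (nat_lit 0x1014225cb5a1d) (.node (nat_lit 0x10142218b5a29) (.node (nat_lit 0x10141e64b55a6) (.node (nat_lit 0x10141e6415a94) (.leaf (nat_lit 0x10141e62b55be) (nat_lit 1287))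
 (.leaf (nat_lit 0x10141e6415a94) (nat_lit 1543))
) (.node (nat_lit 0x1014221814b25) (.leaf (nat_lit 0x10141e64b55a6) (nat_lit 1792))
 (.leaf (nat_lit 0x1014221814b25) (nat_lit 1792))
)) (.node (nat_lit 0x10142220b5a12) (.node (nat_lit 0x1014222014b02) (.leaf (nat_lit 0x10142218b5a29) (nat_lit 1542))
 (.leaf (nat_lit 0x1014222014b02) (nat_lit 1025))
) (.node (nat_lit 0x1014225c14b33) (.leaf (nat_lit 0x10142220b5a12) (nat_lit 1031))
 (.leaf (nat_lit 0x1014225c14b33) (nat_lit 1793))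
))) (.node (nat_lit 0x10142318b5e29) (.node (nat_lit 0x10142264b5a26) (.node (nat_lit 0x1014226414b14) (.leaf (nat_lit 0x1014225cb5a1d) (nat_lit 1543))
 (.leaf (nat_lit 0x1014226414b14) (nat_lit 1282))
) (.node (nat_lit 0x1014231814fa5) (.leaf (nat_lit 0x10142264b5a26) (nat_lit 1282))
 (.leaf (nat_lit 0x1014231814fa5) (nat_lit 1536))
)) (.node (nat_lit 0x10142330b5e1b) (.node (nat_lit 0x1014233014f83) (.leaf (nat_lit 0x10142318b5e29) (nat_lit 1286))
 (.leaf (nat_lit 0x1014233014f83) (nat_lit 769))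
) (.node (nat_lit 0x1014235e14fba) (.leaf (nat_lit 0x10142330b5e1b) (nat_lit 775))
 (.leaf (nat_lit 0x1014235e14fba) (nat_lit 1794))
)))) (.node (nat_lit 0x10142c64b46a6) (.node (nat_lit 0x10142c2eb46aa) (.node (nat_lit 0x10142376b5e27) (.node (nat_lit 0x1014237614f9c) (.leaf (nat_lit 0x1014235eb5e15) (nat_lit 1538))
 (.leaf (nat_lit 0x1014237614f9c) (nat_lit 1026))
) (.node (nat_lit 0x10142c2e150bd) (.leaf (nat_lit 0x10142376b5e27) (nat_lit 1026))
 (.leaf (nat_lit 0x10142c2e150bd) (nat_lit 1537))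
)) (.node (nat_lit 0x10142c3cb46ab) (.node (nat_lit 0x10142c3c150b5) (.leaf (nat_lit 0x10142c2eb46aa) (nat_lit 1543))
 (.leaf (nat_lit 0x10142c3c150b5) (nat_lit 1542))
) (.node (nat_lit 0x10142c6415094) (.leaf (nat_lit 0x10142c3cb46ab) (nat_lit 1542))
 (.leaf (nat_lit 0x10142c6415094) (nat_lit 1799))
))) (.node (nat_lit 0x10142e18b4ea9) (.node (nat_lit 0x10142c76b46a7) (.node (nat_lit 0x10142c761509c) (.leaf (nat_lit 0x10142c64b46a6) (nat_lit 1799))
 (.leaf (nat_lit 0x10142c761509c) (nat_lit 1543))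
) (.node (nat_lit 0x10142e18159a5) (.leaf (nat_lit 0x10142c76b46a7) (nat_lit 1543))
 (.leaf (nat_lit 0x10142e18159a5) (nat_lit 1542))
)) (.node (nat_lit 0x10142e2eb4eaa) (.node (nat_lit 0x10142e2e159bd) (.leaf (nat_lit 0x10142e18b4ea9) (nat_lit 1542))
 (.leaf (nat_lit 0x10142e2e159bd) (nat_lit 1282))
) (.node (nat_lit 0x10142e4415996) (.leaf (nat_lit 0x10142e2eb4eaa) (nat_lit 1538))
 (.node (nat_lit 0x10142e44b4eb4) (.leaf (nat_lit 0x10142e4415996) (nat_lit 1793))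
 (.leaf (nat_lit 0x10142e44b4eb4) (nat_lit 1799))
)))))) (.node (nat_lit 0x10143172b5f37) (.node (nat_lit 0x10142f6215d0f) (.node (nat_lit 0x10142f3c15d35) (.node (nat_lit 0x10142f1815d25) (.node (nat_lit 0x10142e72b4eb7) (.leaf (nat_lit 0x10142e721598e) (nat_lit 1031))
 (.leaf (nat_lit 0x10142e72b4eb7) (nat_lit 1280))
) (.node (nat_lit 0x10142f18b4aa9) (.leaf (nat_lit 0x10142f1815d25) (nat_lit 1793))
 (.leaf (nat_lit 0x10142f18b4aa9) (nat_lit 1537))
)) (.node (nat_lit 0x10142f4615d1f) (.node (nat_lit 0x10142f3cb4aab) (.leaf (nat_lit 0x10142f3c15d35) (nat_lit 1538))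
 (.leaf (nat_lit 0x10142f3cb4aab) (nat_lit 1798))
) (.node (nat_lit 0x10142f46b4abc) (.leaf (nat_lit 0x10142f4615d1f) (nat_lit 1537))
 (.leaf (nat_lit 0x10142f46b4abc) (nat_lit 1543))
))) (.node (nat_lit 0x1014313c147b5) (.node (nat_lit 0x1014311014781) (.node (nat_lit 0x10142f62b4abe) (.leaf (nat_lit 0x10142f6215d0f) (nat_lit 1287))
 (.leaf (nat_lit 0x10142f62b4abe) (nat_lit 1537))
) (.node (nat_lit 0x10143110b5f09) (.leaf (nat_lit 0x1014311014781) (nat_lit 515))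
 (.leaf (nat_lit 0x10143110b5f09) (nat_lit 775))
)) (.node (nat_lit 0x1014315e147ba) (.node (nat_lit 0x1014313cb5f2b) (.leaf (nat_lit 0x1014313c147b5) (nat_lit 1539))
 (.leaf (nat_lit 0x1014313cb5f2b) (nat_lit 1798))
) (.node (nat_lit 0x1014315eb5f15) (.leaf (nat_lit 0x1014315e147ba) (nat_lit 1798))
 (.node (nat_lit 0x101431721478e) (.leaf (nat_lit 0x1014315eb5f15) (nat_lit 1793))
 (.leaf (nat_lit 0x101431721478e) (nat_lit 771))
))))) (.node (nat_lit 0x10143258b530d) (.node (nat_lit 0x1014323cb532b) (.node (nat_lit 0x10143220b5312) (.node (nat_lit 0x1014322014a02) (.leaf (nat_lit 0x10143172b5f37) (nat_lit 1026))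
 (.leaf (nat_lit 0x1014322014a02) (nat_lit 775))
) (.node (nat_lit 0x1014323c14a35) (.leaf (nat_lit 0x10143220b5312) (nat_lit 1024))
 (.leaf (nat_lit 0x1014323c14a35) (nat_lit 1538))
)) (.node (nat_lit 0x10143244b5334) (.node (nat_lit 0x1014324414a16) (.leaf (nat_lit 0x1014323cb532b) (nat_lit 1794))
 (.leaf (nat_lit 0x1014324414a16) (nat_lit 1026))
) (.node (nat_lit 0x1014325814a21) (.leaf (nat_lit 0x10143244b5334) (nat_lit 1282))
 (.leaf (nat_lit 0x1014325814a21) (nat_lit 1286))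
))) (.node (nat_lit 0x1014392eb5baa) (.node (nat_lit 0x10143910b5b89) (.node (nat_lit 0x1014391014701) (.leaf (nat_lit 0x10143258b530d) (nat_lit 1536))
 (.leaf (nat_lit 0x1014391014701) (nat_lit 519))
) (.node (nat_lit 0x1014392e1473d) (.leaf (nat_lit 0x10143910b5b89) (nat_lit 771))
 (.leaf (nat_lit 0x1014392e1473d) (nat_lit 1537))
)) (.node (nat_lit 0x1014395cb5b9d) (.node (nat_lit 0x1014395c14733) (.leaf (nat_lit 0x1014392eb5baa) (nat_lit 1793))
 (.leaf (nat_lit 0x1014395c14733) (nat_lit 1542))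
) (.node (nat_lit 0x101439621470f) (.leaf (nat_lit 0x1014395cb5b9d) (nat_lit 1795))
 (.node (nat_lit 0x10143962b5bbe) (.leaf (nat_lit 0x101439621470f) (nat_lit 770))
 (.leaf (nat_lit 0x10143962b5bbe) (nat_lit 1027))
))))))) (.node (nat_lit 0x1016955615d35) (.node (nat_lit 0x10168d4ca1632) (.node (nat_lit 0x1016892414082) (.node (nat_lit 0x10143b4614e1f) (.node (nat_lit 0x10143b3014e03) (.node (nat_lit 0x10143b2eb53aa) (.leaf (nat_lit 0x10143b2e14e3d) (nat_lit 1282))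
 (.leaf (nat_lit 0x10143b2eb53aa) (nat_lit 1538))
) (.node (nat_lit 0x10143b30b539b) (.leaf (nat_lit 0x10143b3014e03) (nat_lit 519))
 (.leaf (nat_lit 0x10143b30b539b) (nat_lit 768))
)) (.node (nat_lit 0x10143b5814e21) (.node (nat_lit 0x10143b46b53bc) (.leaf (nat_lit 0x10143b4614e1f) (nat_lit 770))
 (.leaf (nat_lit 0x10143b46b53bc) (nat_lit 1026))
) (.node (nat_lit 0x10143b58b538d) (.leaf (nat_lit 0x10143b5814e21) (nat_lit 1030))
 (.leaf (nat_lit 0x10143b58b538d) (nat_lit 1280))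
))) (.node (nat_lit 0x1016896e1408e) (.node (nat_lit 0x1016893614083) (.node (nat_lit 0x10168924a0410) (.leaf (nat_lit 0x1016892414082) (nat_lit 1541))
 (.leaf (nat_lit 0x10168924a0410) (nat_lit 1284))
) (.node (nat_lit 0x10168936a0418) (.leaf (nat_lit 0x1016893614083) (nat_lit 1285))
 (.leaf (nat_lit 0x10168936a0418) (nat_lit 1028))
)) (.node (nat_lit 0x1016897c1408f) (.node (nat_lit 0x1016896ea0439) (.leaf (nat_lit 0x1016896e1408e) (nat_lit 1537))
 (.leaf (nat_lit 0x1016896ea0439) (nat_lit 1281))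
) (.node (nat_lit 0x1016897ca0431) (.leaf (nat_lit 0x1016897c1408f) (nat_lit 1537))
 (.node (nat_lit 0x10168d4c15094) (.leaf (nat_lit 0x1016897ca0431) (nat_lit 1281))
 (.leaf (nat_lit 0x10168d4c15094) (nat_lit 1538))
))))) (.node (nat_lit 0x10169212a0808) (.node (nat_lit 0x10168d54a1617) (.node (nat_lit 0x10168d4ea163b) (.node (nat_lit 0x10168d4e1509c) (.leaf (nat_lit 0x10168d4ca1632) (nat_lit 1538))
 (.leaf (nat_lit 0x10168d4e1509c) (nat_lit 1799))
) (.node (nat_lit 0x10168d54150bd) (.leaf (nat_lit 0x10168d4ea163b) (nat_lit 1794))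
 (.leaf (nat_lit 0x10168d54150bd) (nat_lit 1542))
)) (.node (nat_lit 0x10168d56a161e) (.node (nat_lit 0x10168d56150b5) (.leaf (nat_lit 0x10168d54a1617) (nat_lit 1542))
 (.leaf (nat_lit 0x10168d56150b5) (nat_lit 1286))
) (.node (nat_lit 0x1016921214101) (.leaf (nat_lit 0x10168d56a161e) (nat_lit 1286))
 (.leaf (nat_lit 0x1016921214101) (nat_lit 1287))
))) (.node (nat_lit 0x1016924ca0832) (.node (nat_lit 0x10169236a0818) (.node (nat_lit 0x1016923614103) (.leaf (nat_lit 0x10169212a0808) (nat_lit 1031))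
 (.leaf (nat_lit 0x1016923614103) (nat_lit 1541))
) (.node (nat_lit 0x1016924c14114) (.leaf (nat_lit 0x10169236a0818) (nat_lit 1284))
 (.leaf (nat_lit 0x1016924c14114) (nat_lit 1793))
)) (.node (nat_lit 0x10169268a0822) (.node (nat_lit 0x1016926814116) (.leaf (nat_lit 0x1016924ca0832) (nat_lit 1793))
 (.leaf (nat_lit 0x1016926814116) (nat_lit 1793))
) (.node (nat_lit 0x1016955215d25) (.leaf (nat_lit 0x10169268a0822) (nat_lit 1537))
 (.node (nat_lit 0x10169552a178c) (.leaf (nat_lit 0x1016955215d25) (nat_lit 1281))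
 (.leaf (nat_lit 0x10169552a178c) (nat_lit 1537))
)))))) (.node (nat_lit 0x10169d54a1717) (.node (nat_lit 0x10169b2414182) (.node (nat_lit 0x1016957c15d0f) (.node (nat_lit 0x1016957815d1f) (.node (nat_lit 0x10169556a179e) (.leaf (nat_lit 0x1016955615d35) (nat_lit 1542))
 (.leaf (nat_lit 0x10169556a179e) (nat_lit 1542))
) (.node (nat_lit 0x10169578a17a3) (.leaf (nat_lit 0x1016957815d1f) (nat_lit 1538))
 (.leaf (nat_lit 0x10169578a17a3) (nat_lit 1794))
)) (.node (nat_lit 0x10169b1214181) (.node (nat_lit 0x1016957ca17b1) (.leaf (nat_lit 0x1016957c15d0f) (nat_lit 1794))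
 (.leaf (nat_lit 0x1016957ca17b1) (nat_lit 1543))
) (.node (nat_lit 0x10169b12a0c08) (.leaf (nat_lit 0x10169b1214181) (nat_lit 1030))
 (.leaf (nat_lit 0x10169b12a0c08) (nat_lit 1028))
))) (.node (nat_lit 0x10169b781419f) (.node (nat_lit 0x10169b4e1419c) (.node (nat_lit 0x10169b24a0c10) (.leaf (nat_lit 0x10169b2414182) (nat_lit 1282))
 (.leaf (nat_lit 0x10169b24a0c10) (nat_lit 1284))
) (.node (nat_lit 0x10169b4ea0c3b) (.leaf (nat_lit 0x10169b4e1419c) (nat_lit 1537))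
 (.leaf (nat_lit 0x10169b4ea0c3b) (nat_lit 1537))
)) (.node (nat_lit 0x10169d52159a5) (.node (nat_lit 0x10169b78a0c23) (.leaf (nat_lit 0x10169b781419f) (nat_lit 1537))
 (.leaf (nat_lit 0x10169b78a0c23) (nat_lit 1281))
) (.node (nat_lit 0x10169d52a170c) (.leaf (nat_lit 0x10169d52159a5) (nat_lit 1286))
 (.node (nat_lit 0x10169d54159bd) (.leaf (nat_lit 0x10169d52a170c) (nat_lit 1286))
 (.leaf (nat_lit 0x10169d54159bd) (nat_lit 1798))
))))) (.node (nat_lit 0x1016a624a1910) (.node (nat_lit 0x10169d6ea1739) (.node (nat_lit 0x10169d68a1722) (.node (nat_lit 0x10169d6815996) (.leaf (nat_lit 0x10169d54a1717) (nat_lit 1538))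
 (.leaf (nat_lit 0x10169d6815996) (nat_lit 1538))
) (.node (nat_lit 0x10169d6e1598e) (.leaf (nat_lit 0x10169d68a1722) (nat_lit 1538))
 (.leaf (nat_lit 0x10169d6e1598e) (nat_lit 1536))
)) (.node (nat_lit 0x1016a61aa192c) (.node (nat_lit 0x1016a61a14a21) (.leaf (nat_lit 0x10169d6ea1739) (nat_lit 1287))
 (.leaf (nat_lit 0x1016a61a14a21) (nat_lit 1536))
) (.node (nat_lit 0x1016a62414a02) (.leaf (nat_lit 0x1016a61aa192c) (nat_lit 1286))
 (.leaf (nat_lit 0x1016a62414a02) (nat_lit 1280))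
))) (.node (nat_lit 0x1016a668a1922) (.node (nat_lit 0x1016a656a191e) (.node (nat_lit 0x1016a65614a35) (.leaf (nat_lit 0x1016a624a1910) (nat_lit 1031))
 (.leaf (nat_lit 0x1016a65614a35) (nat_lit 1537))
) (.node (nat_lit 0x1016a66814a16) (.leaf (nat_lit 0x1016a656a191e) (nat_lit 1538))
 (.leaf (nat_lit 0x1016a66814a16) (nat_lit 1538))
)) (.node (nat_lit 0x1016a71aa1dac) (.node (nat_lit 0x1016a71a14e21) (.leaf (nat_lit 0x1016a668a1922) (nat_lit 1282))
 (.leaf (nat_lit 0x1016a71a14e21) (nat_lit 1280))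
) (.node (nat_lit 0x1016a73614e03) (.leaf (nat_lit 0x1016a71aa1dac) (nat_lit 1030))
 (.node (nat_lit 0x1016a736a1d98) (.leaf (nat_lit 0x1016a73614e03) (nat_lit 1024))
 (.leaf (nat_lit 0x1016a736a1d98) (nat_lit 775))
)))))))))) (.node (nat_lit 0x101b323c1932b) (.node (nat_lit 0x10182a3ad9eb3) (.node (nat_lit 0x10180852d84a5) (.node (nat_lit 0x1016b44ca1132) (.node (nat_lit 0x1016aa4e15e9c) (.node (nat_lit 0x1016a96815296) (.node (nat_lit 0x1016a92a152ba) (.node (nat_lit 0x1016a77814e1f) (.node (nat_lit 0x1016a754a1d97) (.leaf (nat_lit 0x1016a75414e3d) (nat_lit 1538))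
 (.leaf (nat_lit 0x1016a754a1d97) (nat_lit 1282))
) (.node (nat_lit 0x1016a778a1da3) (.leaf (nat_lit 0x1016a77814e1f) (nat_lit 1282))
 (.leaf (nat_lit 0x1016a778a1da3) (nat_lit 1026))
)) (.node (nat_lit 0x1016a93a152b3) (.node (nat_lit 0x1016a92aa062f) (.leaf (nat_lit 0x1016a92a152ba) (nat_lit 1537))
 (.leaf (nat_lit 0x1016a92aa062f) (nat_lit 1793))
) (.node (nat_lit 0x1016a93aa062e) (.leaf (nat_lit 0x1016a93a152b3) (nat_lit 1793))
 (.leaf (nat_lit 0x1016a93aa062e) (nat_lit 1542))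
))) (.node (nat_lit 0x1016aa1a15ea1) (.node (nat_lit 0x1016a9781529f) (.node (nat_lit 0x1016a968a0622) (.leaf (nat_lit 0x1016a96815296) (nat_lit 1793))
 (.leaf (nat_lit 0x1016a968a0622) (nat_lit 1799))
) (.node (nat_lit 0x1016a978a0623) (.leaf (nat_lit 0x1016a9781529f) (nat_lit 1793))
 (.leaf (nat_lit 0x1016a978a0623) (nat_lit 1543))
)) (.node (nat_lit 0x1016aa3a15eb3) (.node (nat_lit 0x1016aa1aa0bac) (.leaf (nat_lit 0x1016aa1a15ea1) (nat_lit 1537))
 (.leaf (nat_lit 0x1016aa1aa0bac) (nat_lit 1281))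
) (.node (nat_lit 0x1016aa3aa0bae) (.leaf (nat_lit 0x1016aa3a15eb3) (nat_lit 1799))
 (.leaf (nat_lit 0x1016aa3aa0bae) (nat_lit 1542))
)))) (.node (nat_lit 0x1016ab4c15a94) (.node (nat_lit 0x1016ab1a15aa1) (.node (nat_lit 0x1016aa6e15e8e) (.node (nat_lit 0x1016aa4ea0bbb) (.leaf (nat_lit 0x1016aa4e15e9c) (nat_lit 1798))
 (.leaf (nat_lit 0x1016aa4ea0bbb) (nat_lit 1538))
) (.node (nat_lit 0x1016aa6ea0bb9) (.leaf (nat_lit 0x1016aa6e15e8e) (nat_lit 1543))
 (.leaf (nat_lit 0x1016aa6ea0bb9) (nat_lit 1537))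
)) (.node (nat_lit 0x1016ab2a15aba) (.node (nat_lit 0x1016ab1aa0f2c) (.leaf (nat_lit 0x1016ab1a15aa1) (nat_lit 1539))
 (.leaf (nat_lit 0x1016ab1aa0f2c) (nat_lit 1286))
) (.node (nat_lit 0x1016ab2aa0f2f) (.leaf (nat_lit 0x1016ab2a15aba) (nat_lit 1794))
 (.leaf (nat_lit 0x1016ab2aa0f2f) (nat_lit 1798))
))) (.node (nat_lit 0x1016b42414b02) (.node (nat_lit 0x1016ab7c15a8f) (.node (nat_lit 0x1016ab4ca0f32) (.leaf (nat_lit 0x1016ab4c15a94) (nat_lit 1793))
 (.leaf (nat_lit 0x1016ab4ca0f32) (nat_lit 1538))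
) (.node (nat_lit 0x1016ab7ca0f31) (.leaf (nat_lit 0x1016ab7c15a8f) (nat_lit 1543))
 (.leaf (nat_lit 0x1016ab7ca0f31) (nat_lit 1543))
)) (.node (nat_lit 0x1016b43a14b33) (.node (nat_lit 0x1016b424a1110) (.leaf (nat_lit 0x1016b42414b02) (nat_lit 1287))
 (.leaf (nat_lit 0x1016b424a1110) (nat_lit 1281))
) (.node (nat_lit 0x1016b43aa112e) (.leaf (nat_lit 0x1016b43a14b33) (nat_lit 1538))
 (.node (nat_lit 0x1016b44c14b14) (.leaf (nat_lit 0x1016b43aa112e) (nat_lit 1794))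
 (.leaf (nat_lit 0x1016b44c14b14) (nat_lit 1538))
)))))) (.node (nat_lit 0x1016bc5214fa5) (.node (nat_lit 0x1016b754a1c97) (.node (nat_lit 0x1016b712a1c88) (.node (nat_lit 0x1016b452a110c) (.node (nat_lit 0x1016b45214b25) (.leaf (nat_lit 0x1016b44ca1132) (nat_lit 1538))
 (.leaf (nat_lit 0x1016b45214b25) (nat_lit 1286))
) (.node (nat_lit 0x1016b71214701) (.leaf (nat_lit 0x1016b452a110c) (nat_lit 1536))
 (.leaf (nat_lit 0x1016b71214701) (nat_lit 1027))
)) (.node (nat_lit 0x1016b73aa1cae) (.node (nat_lit 0x1016b73a14733) (.leaf (nat_lit 0x1016b712a1c88) (nat_lit 775))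
 (.leaf (nat_lit 0x1016b73a14733) (nat_lit 1795))
) (.node (nat_lit 0x1016b7541473d) (.leaf (nat_lit 0x1016b73aa1cae) (nat_lit 1542))
 (.leaf (nat_lit 0x1016b7541473d) (nat_lit 1798))
))) (.node (nat_lit 0x1016bc2aa11af) (.node (nat_lit 0x1016b77ca1cb1) (.node (nat_lit 0x1016b77c1470f) (.leaf (nat_lit 0x1016b754a1c97) (nat_lit 1539))
 (.leaf (nat_lit 0x1016b77c1470f) (nat_lit 1283))
) (.node (nat_lit 0x1016bc2a14fba) (.leaf (nat_lit 0x1016b77ca1cb1) (nat_lit 1026))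
 (.leaf (nat_lit 0x1016bc2a14fba) (nat_lit 1282))
)) (.node (nat_lit 0x1016bc36a1198) (.node (nat_lit 0x1016bc3614f83) (.leaf (nat_lit 0x1016bc2aa11af) (nat_lit 1538))
 (.leaf (nat_lit 0x1016bc3614f83) (nat_lit 1031))
) (.node (nat_lit 0x1016bc4e14f9c) (.leaf (nat_lit 0x1016bc36a1198) (nat_lit 1025))
 (.node (nat_lit 0x1016bc4ea11bb) (.leaf (nat_lit 0x1016bc4e14f9c) (nat_lit 1282))
 (.leaf (nat_lit 0x1016bc4ea11bb) (nat_lit 1282))
))))) (.node (nat_lit 0x1016be6e1478e) (.node (nat_lit 0x1016be2a147ba) (.node (nat_lit 0x1016be1214781) (.node (nat_lit 0x1016bc52a118c) (.leaf (nat_lit 0x1016bc5214fa5) (nat_lit 1030))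
 (.leaf (nat_lit 0x1016bc52a118c) (nat_lit 1280))
) (.node (nat_lit 0x1016be12a1888) (.leaf (nat_lit 0x1016be1214781) (nat_lit 1031))
 (.leaf (nat_lit 0x1016be12a1888) (nat_lit 771))
)) (.node (nat_lit 0x1016be56147b5) (.node (nat_lit 0x1016be2aa18af) (.leaf (nat_lit 0x1016be2a147ba) (nat_lit 1794))
 (.leaf (nat_lit 0x1016be2aa18af) (nat_lit 1539))
) (.node (nat_lit 0x1016be56a189e) (.leaf (nat_lit 0x1016be56147b5) (nat_lit 1542))
 (.leaf (nat_lit 0x1016be56a189e) (nat_lit 1283))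
))) (.node (nat_lit 0x1018083018083) (.node (nat_lit 0x1018082018082) (.node (nat_lit 0x1016be6ea18b9) (.leaf (nat_lit 0x1016be6e1478e) (nat_lit 1282))
 (.leaf (nat_lit 0x1016be6ea18b9) (nat_lit 1027))
) (.node (nat_lit 0x10180820d8492) (.leaf (nat_lit 0x1018082018082) (nat_lit 1026))
 (.leaf (nat_lit 0x10180820d8492) (nat_lit 1282))
)) (.node (nat_lit 0x101808421808d) (.node (nat_lit 0x10180830d849b) (.leaf (nat_lit 0x1018083018083) (nat_lit 769))
 (.leaf (nat_lit 0x10180830d849b) (nat_lit 1025))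
) (.node (nat_lit 0x10180842d84ac) (.leaf (nat_lit 0x101808421808d) (nat_lit 1025))
 (.node (nat_lit 0x101808521808c) (.leaf (nat_lit 0x10180842d84ac) (nat_lit 1281))
 (.leaf (nat_lit 0x101808521808c) (nat_lit 1281))
))))))) (.node (nat_lit 0x10181d52d99a5) (.node (nat_lit 0x101814421930d) (.node (nat_lit 0x10180f76d98a7) (.node (nat_lit 0x10180f6ad989e) (.node (nat_lit 0x10180f68d9896) (.node (nat_lit 0x10180f6819f22) (.leaf (nat_lit 0x10180852d84a5) (nat_lit 1281))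
 (.leaf (nat_lit 0x10180f6819f22) (nat_lit 1538))
) (.node (nat_lit 0x10180f6a19f2b) (.leaf (nat_lit 0x10180f68d9896) (nat_lit 1794))
 (.leaf (nat_lit 0x10180f6a19f2b) (nat_lit 1543))
)) (.node (nat_lit 0x10180f74d98af) (.node (nat_lit 0x10180f7419f15) (.leaf (nat_lit 0x10180f6ad989e) (nat_lit 1792))
 (.leaf (nat_lit 0x10180f7419f15) (nat_lit 1799))
) (.node (nat_lit 0x10180f7619f1c) (.leaf (nat_lit 0x10180f74d98af) (nat_lit 1799))
 (.leaf (nat_lit 0x10180f7619f1c) (nat_lit 1287))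
))) (.node (nat_lit 0x10181030d891b) (.node (nat_lit 0x10181010d8909) (.node (nat_lit 0x1018101018101) (.leaf (nat_lit 0x10180f76d98a7) (nat_lit 1537))
 (.leaf (nat_lit 0x1018101018101) (nat_lit 259))
) (.node (nat_lit 0x1018103018103) (.leaf (nat_lit 0x10181010d8909) (nat_lit 515))
 (.leaf (nat_lit 0x1018103018103) (nat_lit 515))
)) (.node (nat_lit 0x10181054d893d) (.node (nat_lit 0x1018105418117) (.leaf (nat_lit 0x10181030d891b) (nat_lit 771))
 (.leaf (nat_lit 0x1018105418117) (nat_lit 1537))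
) (.node (nat_lit 0x1018107418115) (.leaf (nat_lit 0x10181054d893d) (nat_lit 1793))
 (.node (nat_lit 0x10181074d892f) (.leaf (nat_lit 0x1018107418115) (nat_lit 1537))
 (.leaf (nat_lit 0x10181074d892f) (nat_lit 1793))
))))) (.node (nat_lit 0x1018181018181) (.node (nat_lit 0x1018146a1932b) (.node (nat_lit 0x101814461931f) (.node (nat_lit 0x10181442d992c) (.leaf (nat_lit 0x101814421930d) (nat_lit 775))
 (.leaf (nat_lit 0x10181442d992c) (nat_lit 1024))
) (.node (nat_lit 0x10181446d993c) (.leaf (nat_lit 0x101814461931f) (nat_lit 1031))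
 (.leaf (nat_lit 0x10181446d993c) (nat_lit 1280))
)) (.node (nat_lit 0x1018146e19339) (.node (nat_lit 0x1018146ad991e) (.leaf (nat_lit 0x1018146a1932b) (nat_lit 1026))
 (.leaf (nat_lit 0x1018146ad991e) (nat_lit 1282))
) (.node (nat_lit 0x1018146ed990e) (.leaf (nat_lit 0x1018146e19339) (nat_lit 1030))
 (.leaf (nat_lit 0x1018146ed990e) (nat_lit 1280))
))) (.node (nat_lit 0x101818461819f) (.node (nat_lit 0x1018182018182) (.node (nat_lit 0x10181810d8d89) (.leaf (nat_lit 0x1018181018181) (nat_lit 513))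
 (.leaf (nat_lit 0x10181810d8d89) (nat_lit 769))
) (.node (nat_lit 0x10181820d8d92) (.leaf (nat_lit 0x1018182018182) (nat_lit 770))
 (.leaf (nat_lit 0x10181820d8d92) (nat_lit 1026))
)) (.node (nat_lit 0x101818761819c) (.node (nat_lit 0x10181846d8dbc) (.leaf (nat_lit 0x101818461819f) (nat_lit 1281))
 (.leaf (nat_lit 0x10181846d8dbc) (nat_lit 1537))
) (.node (nat_lit 0x10181876d8da7) (.leaf (nat_lit 0x101818761819c) (nat_lit 1537))
 (.node (nat_lit 0x10181d521970c) (.leaf (nat_lit 0x10181876d8da7) (nat_lit 1537))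
 (.leaf (nat_lit 0x10181d521970c) (nat_lit 1031))
)))))) (.node (nat_lit 0x1018233018f83) (.node (nat_lit 0x10182110d9609) (.node (nat_lit 0x10181d68d9996) (.node (nat_lit 0x10181d54d99bd) (.node (nat_lit 0x10181d5419717) (.leaf (nat_lit 0x10181d52d99a5) (nat_lit 1281))
 (.leaf (nat_lit 0x10181d5419717) (nat_lit 1793))
) (.node (nat_lit 0x10181d6819722) (.leaf (nat_lit 0x10181d54d99bd) (nat_lit 1799))
 (.leaf (nat_lit 0x10181d6819722) (nat_lit 1282))
)) (.node (nat_lit 0x10181d6ed998e) (.node (nat_lit 0x10181d6e19739) (.leaf (nat_lit 0x10181d68d9996) (nat_lit 1538))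
 (.leaf (nat_lit 0x10181d6e19739) (nat_lit 1542))
) (.node (nat_lit 0x1018211018681) (.leaf (nat_lit 0x10181d6ed998e) (nat_lit 1798))
 (.leaf (nat_lit 0x1018211018681) (nat_lit 769))
))) (.node (nat_lit 0x10182152d9625) (.node (nat_lit 0x10182128d9632) (.node (nat_lit 0x10182128186a6) (.leaf (nat_lit 0x10182110d9609) (nat_lit 775))
 (.leaf (nat_lit 0x10182128186a6) (nat_lit 1537))
) (.node (nat_lit 0x101821521868c) (.leaf (nat_lit 0x10182128d9632) (nat_lit 1537))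
 (.leaf (nat_lit 0x101821521868c) (nat_lit 1026))
)) (.node (nat_lit 0x1018216ad961e) (.node (nat_lit 0x1018216a186ab) (.leaf (nat_lit 0x10182152d9625) (nat_lit 1026))
 (.leaf (nat_lit 0x1018216a186ab) (nat_lit 1281))
) (.node (nat_lit 0x1018232818fa6) (.leaf (nat_lit 0x1018216ad961e) (nat_lit 1537))
 (.node (nat_lit 0x10182328d9e32) (.leaf (nat_lit 0x1018232818fa6) (nat_lit 1538))
 (.leaf (nat_lit 0x10182328d9e32) (nat_lit 1793))
))))) (.node (nat_lit 0x1018293a1862e) (.node (nat_lit 0x1018237618f9c) (.node (nat_lit 0x1018236e18fb9) (.node (nat_lit 0x10182330d9e1b) (.leaf (nat_lit 0x1018233018f83) (nat_lit 1025))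
 (.leaf (nat_lit 0x10182330d9e1b) (nat_lit 1031))
) (.node (nat_lit 0x1018236ed9e0e) (.leaf (nat_lit 0x1018236e18fb9) (nat_lit 1281))
 (.leaf (nat_lit 0x1018236ed9e0e) (nat_lit 1537))
)) (.node (nat_lit 0x1018291018601) (.node (nat_lit 0x10182376d9e27) (.leaf (nat_lit 0x1018237618f9c) (nat_lit 1282))
 (.leaf (nat_lit 0x10182376d9e27) (nat_lit 1282))
) (.node (nat_lit 0x10182910d9289) (.leaf (nat_lit 0x1018291018601) (nat_lit 519))
 (.leaf (nat_lit 0x10182910d9289) (nat_lit 768))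
))) (.node (nat_lit 0x1018296818622) (.node (nat_lit 0x101829421860d) (.node (nat_lit 0x1018293ad92b3) (.leaf (nat_lit 0x1018293a1862e) (nat_lit 1793))
 (.leaf (nat_lit 0x1018293ad92b3) (nat_lit 1537))
) (.node (nat_lit 0x10182942d92ac) (.leaf (nat_lit 0x101829421860d) (nat_lit 770))
 (.leaf (nat_lit 0x10182942d92ac) (nat_lit 1026))
)) (.node (nat_lit 0x10182a2018b82) (.node (nat_lit 0x10182968d9296) (.leaf (nat_lit 0x1018296818622) (nat_lit 1542))
 (.leaf (nat_lit 0x10182968d9296) (nat_lit 1793))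
) (.node (nat_lit 0x10182a20d9e92) (.leaf (nat_lit 0x10182a2018b82) (nat_lit 1031))
 (.node (nat_lit 0x10182a3a18bae) (.leaf (nat_lit 0x10182a20d9e92) (nat_lit 1283))
 (.leaf (nat_lit 0x10182a3a18bae) (nat_lit 1538))
)))))))) (.node (nat_lit 0x101b127a18117) (.node (nat_lit 0x10183a5418a97) (.node (nat_lit 0x10183528d8f32) (.node (nat_lit 0x1018343ad8b33) (.node (nat_lit 0x10182a74d9eaf) (.node (nat_lit 0x10182a6ed9e8e) (.node (nat_lit 0x10182a6e18bb9) (.leaf (nat_lit 0x10182a3ad9eb3) (nat_lit 1798))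
 (.leaf (nat_lit 0x10182a6e18bb9) (nat_lit 1286))
) (.node (nat_lit 0x10182a7418b95) (.leaf (nat_lit 0x10182a6ed9e8e) (nat_lit 1539))
 (.leaf (nat_lit 0x10182a7418b95) (nat_lit 1282))
)) (.node (nat_lit 0x1018341ed8b31) (.node (nat_lit 0x1018341e1913e) (.leaf (nat_lit 0x10182a74d9eaf) (nat_lit 1539))
 (.leaf (nat_lit 0x1018341e1913e) (nat_lit 1536))
) (.node (nat_lit 0x1018343a1912e) (.leaf (nat_lit 0x1018341ed8b31) (nat_lit 1286))
 (.leaf (nat_lit 0x1018343a1912e) (nat_lit 1538))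
))) (.node (nat_lit 0x10183476d8b27) (.node (nat_lit 0x10183452d8b25) (.node (nat_lit 0x101834521910c) (.leaf (nat_lit 0x1018343ad8b33) (nat_lit 1282))
 (.leaf (nat_lit 0x101834521910c) (nat_lit 1280))
) (.node (nat_lit 0x101834761911c) (.leaf (nat_lit 0x10183452d8b25) (nat_lit 1031))
 (.leaf (nat_lit 0x101834761911c) (nat_lit 1536))
)) (.node (nat_lit 0x1018351ed8f31) (.node (nat_lit 0x1018351e195be) (.leaf (nat_lit 0x10183476d8b27) (nat_lit 1287))
 (.leaf (nat_lit 0x1018351e195be) (nat_lit 1542))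
) (.node (nat_lit 0x10183528195a6) (.leaf (nat_lit 0x1018351ed8f31) (nat_lit 1542))
 (.leaf (nat_lit 0x10183528195a6) (nat_lit 1282))
)))) (.node (nat_lit 0x1018373ad8733) (.node (nat_lit 0x10183574d8f2f) (.node (nat_lit 0x10183542d8f2c) (.node (nat_lit 0x101835421958d) (.leaf (nat_lit 0x10183528d8f32) (nat_lit 1282))
 (.leaf (nat_lit 0x101835421958d) (nat_lit 1025))
) (.node (nat_lit 0x1018357419595) (.leaf (nat_lit 0x10183542d8f2c) (nat_lit 1031))
 (.leaf (nat_lit 0x1018357419595) (nat_lit 1799))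
)) (.node (nat_lit 0x10183728d8732) (.node (nat_lit 0x1018372819ca6) (.leaf (nat_lit 0x10183574d8f2f) (nat_lit 1794))
 (.leaf (nat_lit 0x1018372819ca6) (nat_lit 1538))
) (.node (nat_lit 0x1018373a19cae) (.leaf (nat_lit 0x10183728d8732) (nat_lit 1538))
 (.leaf (nat_lit 0x1018373a19cae) (nat_lit 1794))
))) (.node (nat_lit 0x10183754d873d) (.node (nat_lit 0x10183746d873c) (.node (nat_lit 0x1018374619c9f) (.leaf (nat_lit 0x1018373ad8733) (nat_lit 1799))
 (.leaf (nat_lit 0x1018374619c9f) (nat_lit 1281))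
) (.node (nat_lit 0x1018375419c97) (.leaf (nat_lit 0x10183746d873c) (nat_lit 1287))
 (.leaf (nat_lit 0x1018375419c97) (nat_lit 1543))
)) (.node (nat_lit 0x10183a1ed97b1) (.node (nat_lit 0x10183a1e18abe) (.leaf (nat_lit 0x10183754d873d) (nat_lit 1792))
 (.leaf (nat_lit 0x10183a1e18abe) (nat_lit 1539))
) (.node (nat_lit 0x10183a2018a82) (.leaf (nat_lit 0x10183a1ed97b1) (nat_lit 1542))
 (.node (nat_lit 0x10183a20d9792) (.leaf (nat_lit 0x10183a2018a82) (nat_lit 1027))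
 (.leaf (nat_lit 0x10183a20d9792) (nat_lit 1287))
)))))) (.node (nat_lit 0x101b094ac0429) (.node (nat_lit 0x10183b4618e1f) (.node (nat_lit 0x10183b1e18e3e) (.node (nat_lit 0x10183a6a18aab) (.node (nat_lit 0x10183a54d97bd) (.leaf (nat_lit 0x10183a5418a97) (nat_lit 1283))
 (.leaf (nat_lit 0x10183a54d97bd) (nat_lit 1538))
) (.node (nat_lit 0x10183a6ad979e) (.leaf (nat_lit 0x10183a6a18aab) (nat_lit 1542))
 (.leaf (nat_lit 0x10183a6ad979e) (nat_lit 1794))
)) (.node (nat_lit 0x10183b3018e03) (.node (nat_lit 0x10183b1ed93b1) (.leaf (nat_lit 0x10183b1e18e3e) (nat_lit 1539))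
 (.leaf (nat_lit 0x10183b1ed93b1) (nat_lit 1537))
) (.node (nat_lit 0x10183b30d939b) (.leaf (nat_lit 0x10183b3018e03) (nat_lit 775))
 (.leaf (nat_lit 0x10183b30d939b) (nat_lit 1024))
))) (.node (nat_lit 0x101b092418082) (.node (nat_lit 0x10183b6818e22) (.node (nat_lit 0x10183b46d93bc) (.leaf (nat_lit 0x10183b4618e1f) (nat_lit 1026))
 (.leaf (nat_lit 0x10183b46d93bc) (nat_lit 1282))
) (.node (nat_lit 0x10183b68d9396) (.leaf (nat_lit 0x10183b6818e22) (nat_lit 1798))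
 (.leaf (nat_lit 0x10183b68d9396) (nat_lit 1794))
)) (.node (nat_lit 0x101b093618083) (.node (nat_lit 0x101b0924c0410) (.leaf (nat_lit 0x101b092418082) (nat_lit 1541))
 (.leaf (nat_lit 0x101b0924c0410) (nat_lit 1284))
) (.node (nat_lit 0x101b0936c0418) (.leaf (nat_lit 0x101b093618083) (nat_lit 1285))
 (.node (nat_lit 0x101b094a1808c) (.leaf (nat_lit 0x101b0936c0418) (nat_lit 1028))
 (.leaf (nat_lit 0x101b094a1808c) (nat_lit 1537))
))))) (.node (nat_lit 0x101b0e78c1ba3) (.node (nat_lit 0x101b0e64c1b94) (.node (nat_lit 0x101b0958c0421) (.node (nat_lit 0x101b09581808d) (.leaf (nat_lit 0x101b094ac0429) (nat_lit 1537))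
 (.leaf (nat_lit 0x101b09581808d) (nat_lit 1537))
) (.node (nat_lit 0x101b0e6419ca6) (.leaf (nat_lit 0x101b0958c0421) (nat_lit 1281))
 (.leaf (nat_lit 0x101b0e6419ca6) (nat_lit 1798))
)) (.node (nat_lit 0x101b0e66c1b9d) (.node (nat_lit 0x101b0e6619cae) (.leaf (nat_lit 0x101b0e64c1b94) (nat_lit 1798))
 (.leaf (nat_lit 0x101b0e6619cae) (nat_lit 1542))
) (.node (nat_lit 0x101b0e7819c9f) (.leaf (nat_lit 0x101b0e66c1b9d) (nat_lit 1542))
 (.leaf (nat_lit 0x101b0e7819c9f) (nat_lit 1543))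
))) (.node (nat_lit 0x101b1212c0808) (.node (nat_lit 0x101b0e7ac1baa) (.node (nat_lit 0x101b0e7a19c97) (.leaf (nat_lit 0x101b0e78c1ba3) (nat_lit 1537))
 (.leaf (nat_lit 0x101b0e7a19c97) (nat_lit 1542))
) (.node (nat_lit 0x101b121218101) (.leaf (nat_lit 0x101b0e7ac1baa) (nat_lit 1542))
 (.leaf (nat_lit 0x101b121218101) (nat_lit 773))
)) (.node (nat_lit 0x101b1236c0818) (.node (nat_lit 0x101b123618103) (.leaf (nat_lit 0x101b1212c0808) (nat_lit 516))
 (.leaf (nat_lit 0x101b123618103) (nat_lit 1029))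
) (.node (nat_lit 0x101b125e18115) (.leaf (nat_lit 0x101b1236c0818) (nat_lit 772))
 (.node (nat_lit 0x101b125ec083a) (.leaf (nat_lit 0x101b125e18115) (nat_lit 1795))
 (.leaf (nat_lit 0x101b125ec083a) (nat_lit 1543))
))))))) (.node (nat_lit 0x101b272c18e22) (.node (nat_lit 0x101b1b78c0c23) (.node (nat_lit 0x101b16661912e) (.node (nat_lit 0x101b164e1911c) (.node (nat_lit 0x101b164a1910c) (.node (nat_lit 0x101b127ac082a) (.leaf (nat_lit 0x101b127a18117) (nat_lit 1798))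
 (.leaf (nat_lit 0x101b127ac082a) (nat_lit 1539))
) (.node (nat_lit 0x101b164ac1a29) (.leaf (nat_lit 0x101b164a1910c) (nat_lit 1287))
 (.leaf (nat_lit 0x101b164ac1a29) (nat_lit 1536))
)) (.node (nat_lit 0x101b16621913e) (.node (nat_lit 0x101b164ec1a3b) (.leaf (nat_lit 0x101b164e1911c) (nat_lit 1282))
 (.leaf (nat_lit 0x101b164ec1a3b) (nat_lit 1538))
) (.node (nat_lit 0x101b1662c1a0f) (.leaf (nat_lit 0x101b16621913e) (nat_lit 1030))
 (.leaf (nat_lit 0x101b1662c1a0f) (nat_lit 1280))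
))) (.node (nat_lit 0x101b1b2418182) (.node (nat_lit 0x101b1b1218181) (.node (nat_lit 0x101b1666c1a1d) (.leaf (nat_lit 0x101b16661912e) (nat_lit 1286))
 (.leaf (nat_lit 0x101b1666c1a1d) (nat_lit 1536))
) (.node (nat_lit 0x101b1b12c0c08) (.leaf (nat_lit 0x101b1b1218181) (nat_lit 1029))
 (.leaf (nat_lit 0x101b1b12c0c08) (nat_lit 772))
)) (.node (nat_lit 0x101b1b4e1819c) (.node (nat_lit 0x101b1b24c0c10) (.leaf (nat_lit 0x101b1b2418182) (nat_lit 1285))
 (.leaf (nat_lit 0x101b1b24c0c10) (nat_lit 1028))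
) (.node (nat_lit 0x101b1b4ec0c3b) (.leaf (nat_lit 0x101b1b4e1819c) (nat_lit 1793))
 (.node (nat_lit 0x101b1b781819f) (.leaf (nat_lit 0x101b1b4ec0c3b) (nat_lit 1799))
 (.leaf (nat_lit 0x101b1b781819f) (nat_lit 1798))
))))) (.node (nat_lit 0x101b1e64c1a94) (.node (nat_lit 0x101b1e5ec1aba) (.node (nat_lit 0x101b1e58c1aa1) (.node (nat_lit 0x101b1e581958d) (.leaf (nat_lit 0x101b1b78c0c23) (nat_lit 1537))
 (.leaf (nat_lit 0x101b1e581958d) (nat_lit 1287))
) (.node (nat_lit 0x101b1e5e19595) (.leaf (nat_lit 0x101b1e58c1aa1) (nat_lit 1281))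
 (.leaf (nat_lit 0x101b1e5e19595) (nat_lit 1538))
)) (.node (nat_lit 0x101b1e62c1a8f) (.node (nat_lit 0x101b1e62195be) (.leaf (nat_lit 0x101b1e5ec1aba) (nat_lit 1538))
 (.leaf (nat_lit 0x101b1e62195be) (nat_lit 1286))
) (.node (nat_lit 0x101b1e64195a6) (.leaf (nat_lit 0x101b1e62c1a8f) (nat_lit 1286))
 (.leaf (nat_lit 0x101b1e64195a6) (nat_lit 1538))
))) (.node (nat_lit 0x101b252cc14b4) (.node (nat_lit 0x101b2512c1488) (.node (nat_lit 0x101b251218601) (.leaf (nat_lit 0x101b1e64c1a94) (nat_lit 1538))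
 (.leaf (nat_lit 0x101b251218601) (nat_lit 1024))
) (.node (nat_lit 0x101b252c18622) (.leaf (nat_lit 0x101b2512c1488) (nat_lit 775))
 (.leaf (nat_lit 0x101b252c18622) (nat_lit 1794))
)) (.node (nat_lit 0x101b2558c14a1) (.node (nat_lit 0x101b25581860d) (.leaf (nat_lit 0x101b252cc14b4) (nat_lit 1542))
 (.leaf (nat_lit 0x101b25581860d) (nat_lit 1282))
) (.node (nat_lit 0x101b25661862e) (.leaf (nat_lit 0x101b2558c14a1) (nat_lit 1026))
 (.node (nat_lit 0x101b2566c149d) (.leaf (nat_lit 0x101b25661862e) (nat_lit 1537))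
 (.leaf (nat_lit 0x101b2566c149d) (nat_lit 1539))
)))))) (.node (nat_lit 0x101b2f24c1d10) (.node (nat_lit 0x101b2c1218681) (.node (nat_lit 0x101b276218e3e) (.node (nat_lit 0x101b273618e03) (.node (nat_lit 0x101b272cc1db4) (.leaf (nat_lit 0x101b272c18e22) (nat_lit 1538))
 (.leaf (nat_lit 0x101b272cc1db4) (nat_lit 1539))
) (.node (nat_lit 0x101b2736c1d98) (.leaf (nat_lit 0x101b273618e03) (nat_lit 1280))
 (.leaf (nat_lit 0x101b2736c1d98) (nat_lit 1031))
)) (.node (nat_lit 0x101b277818e1f) (.node (nat_lit 0x101b2762c1d8f) (.leaf (nat_lit 0x101b276218e3e) (nat_lit 1281))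
 (.leaf (nat_lit 0x101b2762c1d8f) (nat_lit 1283))
) (.node (nat_lit 0x101b2778c1da3) (.leaf (nat_lit 0x101b277818e1f) (nat_lit 1538))
 (.leaf (nat_lit 0x101b2778c1da3) (nat_lit 1282))
))) (.node (nat_lit 0x101b2c4a1868c) (.node (nat_lit 0x101b2c3c186ab) (.node (nat_lit 0x101b2c12c1088) (.leaf (nat_lit 0x101b2c1218681) (nat_lit 1031))
 (.leaf (nat_lit 0x101b2c12c1088) (nat_lit 1025))
) (.node (nat_lit 0x101b2c3cc10b5) (.leaf (nat_lit 0x101b2c3c186ab) (nat_lit 1794))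
 (.leaf (nat_lit 0x101b2c3cc10b5) (nat_lit 1537))
)) (.node (nat_lit 0x101b2c64186a6) (.node (nat_lit 0x101b2c4ac10a9) (.leaf (nat_lit 0x101b2c4a1868c) (nat_lit 1282))
 (.leaf (nat_lit 0x101b2c4ac10a9) (nat_lit 1282))
) (.node (nat_lit 0x101b2c64c1094) (.leaf (nat_lit 0x101b2c64186a6) (nat_lit 1542))
 (.node (nat_lit 0x101b2f2418a82) (.leaf (nat_lit 0x101b2c64c1094) (nat_lit 1792))
 (.leaf (nat_lit 0x101b2f2418a82) (nat_lit 1543))
))))) (.node (nat_lit 0x101b312cc07b4) (.node (nat_lit 0x101b2f62c1d0f) (.node (nat_lit 0x101b2f3cc1d35) (.node (nat_lit 0x101b2f3c18aab) (.leaf (nat_lit 0x101b2f24c1d10) (nat_lit 1283))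
 (.leaf (nat_lit 0x101b2f3c18aab) (nat_lit 1538))
) (.node (nat_lit 0x101b2f6218abe) (.leaf (nat_lit 0x101b2f3cc1d35) (nat_lit 1539))
 (.leaf (nat_lit 0x101b2f6218abe) (nat_lit 1286))
)) (.node (nat_lit 0x101b2f7ac1d2a) (.node (nat_lit 0x101b2f7a18a97) (.leaf (nat_lit 0x101b2f62c1d0f) (nat_lit 1283))
 (.leaf (nat_lit 0x101b2f7a18a97) (nat_lit 1794))
) (.node (nat_lit 0x101b312c19f22) (.leaf (nat_lit 0x101b2f7ac1d2a) (nat_lit 1539))
 (.leaf (nat_lit 0x101b312c19f22) (nat_lit 1793))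
))) (.node (nat_lit 0x101b314ec07bb) (.node (nat_lit 0x101b313cc07b5) (.node (nat_lit 0x101b313c19f2b) (.leaf (nat_lit 0x101b312cc07b4) (nat_lit 1798))
 (.leaf (nat_lit 0x101b313c19f2b) (nat_lit 1793))
) (.node (nat_lit 0x101b314e19f1c) (.leaf (nat_lit 0x101b313cc07b5) (nat_lit 1793))
 (.leaf (nat_lit 0x101b314e19f1c) (nat_lit 1537))
)) (.node (nat_lit 0x101b315ec07ba) (.node (nat_lit 0x101b315e19f15) (.leaf (nat_lit 0x101b314ec07bb) (nat_lit 1543))
 (.leaf (nat_lit 0x101b315e19f15) (nat_lit 1793))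
) (.node (nat_lit 0x101b321c19339) (.leaf (nat_lit 0x101b315ec07ba) (nat_lit 1795))
 (.node (nat_lit 0x101b321cc0a37) (.leaf (nat_lit 0x101b321c19339) (nat_lit 1280))
 (.leaf (nat_lit 0x101b321cc0a37) (nat_lit 1030))
))))))))) (.node (nat_lit 0x101c3d1cfcbb9) (.node (nat_lit 0x101c1856fcdb5) (.node (nat_lit 0x101c0830fc49b) (.node (nat_lit 0x101b3c3618f83) (.node (nat_lit 0x101b332c19722) (.node (nat_lit 0x101b32781931f) (.node (nat_lit 0x101b32581930d) (.node (nat_lit 0x101b323cc0a35) (.leaf (nat_lit 0x101b323c1932b) (nat_lit 1536))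
 (.leaf (nat_lit 0x101b323cc0a35) (nat_lit 1286))
) (.node (nat_lit 0x101b3258c0a21) (.leaf (nat_lit 0x101b32581930d) (nat_lit 1280))
 (.leaf (nat_lit 0x101b3258c0a21) (nat_lit 1031))
)) (.node (nat_lit 0x101b331c19739) (.node (nat_lit 0x101b3278c0a23) (.leaf (nat_lit 0x101b32781931f) (nat_lit 1536))
 (.leaf (nat_lit 0x101b3278c0a23) (nat_lit 1287))
) (.node (nat_lit 0x101b331cc0eb7) (.leaf (nat_lit 0x101b331c19739) (nat_lit 1798))
 (.leaf (nat_lit 0x101b331cc0eb7) (nat_lit 1542))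
))) (.node (nat_lit 0x101b337a19717) (.node (nat_lit 0x101b334a1970c) (.node (nat_lit 0x101b332cc0eb4) (.leaf (nat_lit 0x101b332c19722) (nat_lit 1794))
 (.leaf (nat_lit 0x101b332cc0eb4) (nat_lit 1538))
) (.node (nat_lit 0x101b334ac0ea9) (.leaf (nat_lit 0x101b334a1970c) (nat_lit 1537))
 (.leaf (nat_lit 0x101b334ac0ea9) (nat_lit 1287))
)) (.node (nat_lit 0x101b3c1c18fb9) (.node (nat_lit 0x101b337ac0eaa) (.leaf (nat_lit 0x101b337a19717) (nat_lit 1798))
 (.leaf (nat_lit 0x101b337ac0eaa) (nat_lit 1794))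
) (.node (nat_lit 0x101b3c1cc11b7) (.leaf (nat_lit 0x101b3c1c18fb9) (nat_lit 1537))
 (.leaf (nat_lit 0x101b3c1cc11b7) (nat_lit 1281))
)))) (.node (nat_lit 0x101b3d2418b82) (.node (nat_lit 0x101b3c6418fa6) (.node (nat_lit 0x101b3c4e18f9c) (.node (nat_lit 0x101b3c36c1198) (.leaf (nat_lit 0x101b3c3618f83) (nat_lit 1287))
 (.leaf (nat_lit 0x101b3c36c1198) (nat_lit 1281))
) (.node (nat_lit 0x101b3c4ec11bb) (.leaf (nat_lit 0x101b3c4e18f9c) (nat_lit 1538))
 (.leaf (nat_lit 0x101b3c4ec11bb) (nat_lit 1538))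
)) (.node (nat_lit 0x101b3d1c18bb9) (.node (nat_lit 0x101b3c64c1194) (.leaf (nat_lit 0x101b3c6418fa6) (nat_lit 1798))
 (.leaf (nat_lit 0x101b3c64c1194) (nat_lit 1538))
) (.node (nat_lit 0x101b3d1cc1537) (.leaf (nat_lit 0x101b3d1c18bb9) (nat_lit 1539))
 (.leaf (nat_lit 0x101b3d1cc1537) (nat_lit 1286))
))) (.node (nat_lit 0x101b3d6618bae) (.node (nat_lit 0x101b3d5e18b95) (.node (nat_lit 0x101b3d24c1510) (.leaf (nat_lit 0x101b3d2418b82) (nat_lit 1539))
 (.leaf (nat_lit 0x101b3d24c1510) (nat_lit 1287))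
) (.node (nat_lit 0x101b3d5ec153a) (.leaf (nat_lit 0x101b3d5e18b95) (nat_lit 1795))
 (.leaf (nat_lit 0x101b3d5ec153a) (nat_lit 1538))
)) (.node (nat_lit 0x101c08201c082) (.node (nat_lit 0x101b3d66c151d) (.leaf (nat_lit 0x101b3d6618bae) (nat_lit 1542))
 (.leaf (nat_lit 0x101b3d66c151d) (nat_lit 1539))
) (.node (nat_lit 0x101c0820fc492) (.leaf (nat_lit 0x101c08201c082) (nat_lit 1025))
 (.node (nat_lit 0x101c08301c083) (.leaf (nat_lit 0x101c0820fc492) (nat_lit 1281))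
 (.leaf (nat_lit 0x101c08301c083) (nat_lit 1027))
)))))) (.node (nat_lit 0x101c10441c116) (.node (nat_lit 0x101c0e66fdcae) (.node (nat_lit 0x101c0852fc4a5) (.node (nat_lit 0x101c0842fc4ac) (.node (nat_lit 0x101c08421c08d) (.leaf (nat_lit 0x101c0830fc49b) (nat_lit 1030))
 (.leaf (nat_lit 0x101c08421c08d) (nat_lit 769))
) (.node (nat_lit 0x101c08521c08c) (.leaf (nat_lit 0x101c0842fc4ac) (nat_lit 1025))
 (.leaf (nat_lit 0x101c08521c08c) (nat_lit 1025))
)) (.node (nat_lit 0x101c0e64fdca6) (.node (nat_lit 0x101c0e641db94) (.leaf (nat_lit 0x101c0852fc4a5) (nat_lit 1025))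
 (.leaf (nat_lit 0x101c0e641db94) (nat_lit 1543))
) (.node (nat_lit 0x101c0e661db9d) (.leaf (nat_lit 0x101c0e64fdca6) (nat_lit 1793))
 (.leaf (nat_lit 0x101c0e661db9d) (nat_lit 1543))
))) (.node (nat_lit 0x101c0e7afdc97) (.node (nat_lit 0x101c0e78fdc9f) (.node (nat_lit 0x101c0e781dba3) (.leaf (nat_lit 0x101c0e66fdcae) (nat_lit 1543))
 (.leaf (nat_lit 0x101c0e781dba3) (nat_lit 1542))
) (.node (nat_lit 0x101c0e7a1dbaa) (.leaf (nat_lit 0x101c0e78fdc9f) (nat_lit 1795))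
 (.leaf (nat_lit 0x101c0e7a1dbaa) (nat_lit 1543))
)) (.node (nat_lit 0x101c1010fc909) (.node (nat_lit 0x101c10101c101) (.leaf (nat_lit 0x101c0e7afdc97) (nat_lit 1794))
 (.leaf (nat_lit 0x101c10101c101) (nat_lit 769))
) (.node (nat_lit 0x101c10301c103) (.leaf (nat_lit 0x101c1010fc909) (nat_lit 1025))
 (.node (nat_lit 0x101c1030fc91b) (.leaf (nat_lit 0x101c10301c103) (nat_lit 1026))
 (.leaf (nat_lit 0x101c1030fc91b) (nat_lit 1282))
))))) (.node (nat_lit 0x101c15781d7a3) (.node (nat_lit 0x101c15521d78c) (.node (nat_lit 0x101c10641c114) (.node (nat_lit 0x101c1044fc934) (.leaf (nat_lit 0x101c10441c116) (nat_lit 1537))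
 (.leaf (nat_lit 0x101c1044fc934) (nat_lit 1793))
) (.node (nat_lit 0x101c1064fc926) (.leaf (nat_lit 0x101c10641c114) (nat_lit 1537))
 (.leaf (nat_lit 0x101c1064fc926) (nat_lit 1793))
)) (.node (nat_lit 0x101c15561d79e) (.node (nat_lit 0x101c1552fdd25) (.leaf (nat_lit 0x101c15521d78c) (nat_lit 1287))
 (.leaf (nat_lit 0x101c1552fdd25) (nat_lit 1537))
) (.node (nat_lit 0x101c1556fdd35) (.leaf (nat_lit 0x101c15561d79e) (nat_lit 1537))
 (.leaf (nat_lit 0x101c1556fdd35) (nat_lit 1543))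
))) (.node (nat_lit 0x101c18101c181) (.node (nat_lit 0x101c157c1d7b1) (.node (nat_lit 0x101c1578fdd1f) (.leaf (nat_lit 0x101c15781d7a3) (nat_lit 1538))
 (.leaf (nat_lit 0x101c1578fdd1f) (nat_lit 1794))
) (.node (nat_lit 0x101c157cfdd0f) (.leaf (nat_lit 0x101c157c1d7b1) (nat_lit 1286))
 (.leaf (nat_lit 0x101c157cfdd0f) (nat_lit 1536))
)) (.node (nat_lit 0x101c18201c182) (.node (nat_lit 0x101c1810fcd89) (.leaf (nat_lit 0x101c18101c181) (nat_lit 515))
 (.leaf (nat_lit 0x101c1810fcd89) (nat_lit 771))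
) (.node (nat_lit 0x101c1820fcd92) (.leaf (nat_lit 0x101c18201c182) (nat_lit 771))
 (.node (nat_lit 0x101c18561c19e) (.leaf (nat_lit 0x101c1820fcd92) (nat_lit 1027))
 (.leaf (nat_lit 0x101c18561c19e) (nat_lit 1281))
))))))) (.node (nat_lit 0x101c2978fd29f) (.node (nat_lit 0x101c217a1c6aa) (.node (nat_lit 0x101c1c7afdd97) (.node (nat_lit 0x101c1c42fddac) (.node (nat_lit 0x101c1866fcdae) (.node (nat_lit 0x101c18661c19d) (.leaf (nat_lit 0x101c1856fcdb5) (nat_lit 1537))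
 (.leaf (nat_lit 0x101c18661c19d) (nat_lit 1281))
) (.node (nat_lit 0x101c1c421d38d) (.leaf (nat_lit 0x101c1866fcdae) (nat_lit 1537))
 (.leaf (nat_lit 0x101c1c421d38d) (nat_lit 1031))
)) (.node (nat_lit 0x101c1c44fddb4) (.node (nat_lit 0x101c1c441d396) (.leaf (nat_lit 0x101c1c42fddac) (nat_lit 1280))
 (.leaf (nat_lit 0x101c1c441d396) (nat_lit 1287))
) (.node (nat_lit 0x101c1c7a1d3aa) (.leaf (nat_lit 0x101c1c44fddb4) (nat_lit 1536))
 (.leaf (nat_lit 0x101c1c7a1d3aa) (nat_lit 1282))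
))) (.node (nat_lit 0x101c2110fd609) (.node (nat_lit 0x101c1c7cfdd8f) (.node (nat_lit 0x101c1c7c1d3b1) (.leaf (nat_lit 0x101c1c7afdd97) (nat_lit 1538))
 (.leaf (nat_lit 0x101c1c7c1d3b1) (nat_lit 1286))
) (.node (nat_lit 0x101c21101c681) (.leaf (nat_lit 0x101c1c7cfdd8f) (nat_lit 1542))
 (.leaf (nat_lit 0x101c21101c681) (nat_lit 513))
)) (.node (nat_lit 0x101c2138fd63b) (.node (nat_lit 0x101c21381c6a7) (.leaf (nat_lit 0x101c2110fd609) (nat_lit 519))
 (.leaf (nat_lit 0x101c21381c6a7) (nat_lit 1792))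
) (.node (nat_lit 0x101c21521c68c) (.leaf (nat_lit 0x101c2138fd63b) (nat_lit 1542))
 (.node (nat_lit 0x101c2152fd625) (.leaf (nat_lit 0x101c21521c68c) (nat_lit 770))
 (.leaf (nat_lit 0x101c2152fd625) (nat_lit 770))
))))) (.node (nat_lit 0x101c227c1cb31) (.node (nat_lit 0x101c22381cb27) (.node (nat_lit 0x101c22201cb02) (.node (nat_lit 0x101c217afd617) (.leaf (nat_lit 0x101c217a1c6aa) (nat_lit 1537))
 (.leaf (nat_lit 0x101c217afd617) (nat_lit 1794))
) (.node (nat_lit 0x101c2220fda12) (.leaf (nat_lit 0x101c22201cb02) (nat_lit 1031))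
 (.leaf (nat_lit 0x101c2220fda12) (nat_lit 1287))
)) (.node (nat_lit 0x101c22641cb14) (.node (nat_lit 0x101c2238fda3b) (.leaf (nat_lit 0x101c22381cb27) (nat_lit 1543))
 (.leaf (nat_lit 0x101c2238fda3b) (nat_lit 1798))
) (.node (nat_lit 0x101c2264fda26) (.leaf (nat_lit 0x101c22641cb14) (nat_lit 1282))
 (.leaf (nat_lit 0x101c2264fda26) (nat_lit 1538))
))) (.node (nat_lit 0x101c292a1c62f) (.node (nat_lit 0x101c29101c601) (.node (nat_lit 0x101c227cfda0f) (.leaf (nat_lit 0x101c227c1cb31) (nat_lit 1537))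
 (.leaf (nat_lit 0x101c227cfda0f) (nat_lit 1793))
) (.node (nat_lit 0x101c2910fd289) (.leaf (nat_lit 0x101c29101c601) (nat_lit 263))
 (.leaf (nat_lit 0x101c2910fd289) (nat_lit 512))
)) (.node (nat_lit 0x101c29421c60d) (.node (nat_lit 0x101c292afd2ba) (.leaf (nat_lit 0x101c292a1c62f) (nat_lit 1538))
 (.leaf (nat_lit 0x101c292afd2ba) (nat_lit 1793))
) (.node (nat_lit 0x101c2942fd2ac) (.leaf (nat_lit 0x101c29421c60d) (nat_lit 514))
 (.node (nat_lit 0x101c29781c623) (.leaf (nat_lit 0x101c2942fd2ac) (nat_lit 770))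
 (.leaf (nat_lit 0x101c29781c623) (nat_lit 1286))
)))))) (.node (nat_lit 0x101c331c1ceb7) (.node (nat_lit 0x101c2b7cfda8f) (.node (nat_lit 0x101c2b30fda9b) (.node (nat_lit 0x101c2b2afdaba) (.node (nat_lit 0x101c2b2a1cf2f) (.leaf (nat_lit 0x101c2978fd29f) (nat_lit 1536))
 (.leaf (nat_lit 0x101c2b2a1cf2f) (nat_lit 1538))
) (.node (nat_lit 0x101c2b301cf03) (.leaf (nat_lit 0x101c2b2afdaba) (nat_lit 1795))
 (.leaf (nat_lit 0x101c2b301cf03) (nat_lit 775))
)) (.node (nat_lit 0x101c2b66fdaae) (.node (nat_lit 0x101c2b661cf1d) (.leaf (nat_lit 0x101c2b30fda9b) (nat_lit 1027))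
 (.leaf (nat_lit 0x101c2b661cf1d) (nat_lit 1026))
) (.node (nat_lit 0x101c2b7c1cf31) (.leaf (nat_lit 0x101c2b66fdaae) (nat_lit 1283))
 (.leaf (nat_lit 0x101c2b7c1cf31) (nat_lit 1286))
))) (.node (nat_lit 0x101c3220fd312) (.node (nat_lit 0x101c321cfd339) (.node (nat_lit 0x101c321c1ca37) (.leaf (nat_lit 0x101c2b7cfda8f) (nat_lit 1539))
 (.leaf (nat_lit 0x101c321c1ca37) (nat_lit 1537))
) (.node (nat_lit 0x101c32201ca02) (.leaf (nat_lit 0x101c321cfd339) (nat_lit 1537))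
 (.leaf (nat_lit 0x101c32201ca02) (nat_lit 1031))
)) (.node (nat_lit 0x101c3244fd334) (.node (nat_lit 0x101c32441ca16) (.leaf (nat_lit 0x101c3220fd312) (nat_lit 1287))
 (.leaf (nat_lit 0x101c32441ca16) (nat_lit 1282))
) (.node (nat_lit 0x101c32781ca23) (.leaf (nat_lit 0x101c3244fd334) (nat_lit 1538))
 (.node (nat_lit 0x101c3278fd31f) (.leaf (nat_lit 0x101c32781ca23) (nat_lit 1542))
 (.leaf (nat_lit 0x101c3278fd31f) (nat_lit 1799))
))))) (.node (nat_lit 0x101c3c1c1d1b7) (.node (nat_lit 0x101c33561ce9e) (.node (nat_lit 0x101c33301ce83) (.node (nat_lit 0x101c331cfd739) (.leaf (nat_lit 0x101c331c1ceb7) (nat_lit 1283))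
 (.leaf (nat_lit 0x101c331cfd739) (nat_lit 1542))
) (.node (nat_lit 0x101c3330fd71b) (.leaf (nat_lit 0x101c33301ce83) (nat_lit 771))
 (.leaf (nat_lit 0x101c3330fd71b) (nat_lit 1031))
)) (.node (nat_lit 0x101c337a1ceaa) (.node (nat_lit 0x101c3356fd735) (.leaf (nat_lit 0x101c33561ce9e) (nat_lit 1027))
 (.leaf (nat_lit 0x101c3356fd735) (nat_lit 1282))
) (.node (nat_lit 0x101c337afd717) (.leaf (nat_lit 0x101c337a1ceaa) (nat_lit 1539))
 (.leaf (nat_lit 0x101c337afd717) (nat_lit 1794))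
))) (.node (nat_lit 0x101c3c521d18c) (.node (nat_lit 0x101c3c2a1d1af) (.node (nat_lit 0x101c3c1cfcfb9) (.leaf (nat_lit 0x101c3c1c1d1b7) (nat_lit 1286))
 (.leaf (nat_lit 0x101c3c1cfcfb9) (nat_lit 1286))
) (.node (nat_lit 0x101c3c2afcfba) (.leaf (nat_lit 0x101c3c2a1d1af) (nat_lit 1538))
 (.leaf (nat_lit 0x101c3c2afcfba) (nat_lit 1538))
)) (.node (nat_lit 0x101c3c641d194) (.node (nat_lit 0x101c3c52fcfa5) (.leaf (nat_lit 0x101c3c521d18c) (nat_lit 1287))
 (.leaf (nat_lit 0x101c3c52fcfa5) (nat_lit 1287))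
) (.node (nat_lit 0x101c3c64fcfa6) (.leaf (nat_lit 0x101c3c641d194) (nat_lit 1538))
 (.node (nat_lit 0x101c3d1c1d537) (.leaf (nat_lit 0x101c3c64fcfa6) (nat_lit 1543))
 (.leaf (nat_lit 0x101c3d1c1d537) (nat_lit 1542))
)))))))) (.node (nat_lit 0x101fa5581c60d) (.node (nat_lit 0x101f92361c103) (.node (nat_lit 0x101f8924e0410) (.node (nat_lit 0x101c3e2afc7ba) (.node (nat_lit 0x101c3d42fcbac) (.node (nat_lit 0x101c3d38fcbbb) (.node (nat_lit 0x101c3d381d527) (.leaf (nat_lit 0x101c3d1cfcbb9) (nat_lit 1542))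
 (.leaf (nat_lit 0x101c3d381d527) (nat_lit 1538))
) (.node (nat_lit 0x101c3d421d50d) (.leaf (nat_lit 0x101c3d38fcbbb) (nat_lit 1538))
 (.leaf (nat_lit 0x101c3d421d50d) (nat_lit 1281))
)) (.node (nat_lit 0x101c3d66fcbae) (.node (nat_lit 0x101c3d661d51d) (.leaf (nat_lit 0x101c3d42fcbac) (nat_lit 1287))
 (.leaf (nat_lit 0x101c3d661d51d) (nat_lit 1543))
) (.node (nat_lit 0x101c3e2a1d8af) (.leaf (nat_lit 0x101c3d66fcbae) (nat_lit 1793))
 (.leaf (nat_lit 0x101c3e2a1d8af) (nat_lit 1538))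
))) (.node (nat_lit 0x101c3e44fc7b4) (.node (nat_lit 0x101c3e38fc7bb) (.node (nat_lit 0x101c3e381d8a7) (.leaf (nat_lit 0x101c3e2afc7ba) (nat_lit 1799))
 (.leaf (nat_lit 0x101c3e381d8a7) (nat_lit 1794))
) (.node (nat_lit 0x101c3e441d896) (.leaf (nat_lit 0x101c3e38fc7bb) (nat_lit 1798))
 (.leaf (nat_lit 0x101c3e441d896) (nat_lit 1537))
)) (.node (nat_lit 0x101c3e56fc7b5) (.node (nat_lit 0x101c3e561d89e) (.leaf (nat_lit 0x101c3e44fc7b4) (nat_lit 1543))
 (.leaf (nat_lit 0x101c3e561d89e) (nat_lit 1287))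
) (.node (nat_lit 0x101f89241c082) (.leaf (nat_lit 0x101c3e56fc7b5) (nat_lit 1536))
 (.leaf (nat_lit 0x101f89241c082) (nat_lit 1541))
)))) (.node (nat_lit 0x101f8f68e1f22) (.node (nat_lit 0x101f894ae0429) (.node (nat_lit 0x101f8936e0418) (.node (nat_lit 0x101f89361c083) (.leaf (nat_lit 0x101f8924e0410) (nat_lit 1284))
 (.leaf (nat_lit 0x101f89361c083) (nat_lit 1286))
) (.node (nat_lit 0x101f894a1c08c) (.leaf (nat_lit 0x101f8936e0418) (nat_lit 1284))
 (.leaf (nat_lit 0x101f894a1c08c) (nat_lit 1281))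
)) (.node (nat_lit 0x101f8958e0421) (.node (nat_lit 0x101f89581c08d) (.leaf (nat_lit 0x101f894ae0429) (nat_lit 1281))
 (.leaf (nat_lit 0x101f89581c08d) (nat_lit 1281))
) (.node (nat_lit 0x101f8f681d896) (.leaf (nat_lit 0x101f8958e0421) (nat_lit 1025))
 (.leaf (nat_lit 0x101f8f681d896) (nat_lit 1794))
))) (.node (nat_lit 0x101f8f74e1f15) (.node (nat_lit 0x101f8f6ae1f2b) (.node (nat_lit 0x101f8f6a1d89e) (.leaf (nat_lit 0x101f8f68e1f22) (nat_lit 1793))
 (.leaf (nat_lit 0x101f8f6a1d89e) (nat_lit 1798))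
) (.node (nat_lit 0x101f8f741d8af) (.leaf (nat_lit 0x101f8f6ae1f2b) (nat_lit 1543))
 (.leaf (nat_lit 0x101f8f741d8af) (nat_lit 1798))
)) (.node (nat_lit 0x101f8f76e1f1c) (.node (nat_lit 0x101f8f761d8a7) (.leaf (nat_lit 0x101f8f74e1f15) (nat_lit 1798))
 (.leaf (nat_lit 0x101f8f761d8a7) (nat_lit 1542))
) (.node (nat_lit 0x101f92121c101) (.leaf (nat_lit 0x101f8f76e1f1c) (nat_lit 1542))
 (.node (nat_lit 0x101f9212e0808) (.leaf (nat_lit 0x101f92121c101) (nat_lit 1285))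
 (.leaf (nat_lit 0x101f9212e0808) (nat_lit 1028))
)))))) (.node (nat_lit 0x101f9b24e0c10) (.node (nat_lit 0x101f975c1d51d) (.node (nat_lit 0x101f92681c116) (.node (nat_lit 0x101f924c1c114) (.node (nat_lit 0x101f9236e0818) (.leaf (nat_lit 0x101f92361c103) (nat_lit 1541))
 (.leaf (nat_lit 0x101f9236e0818) (nat_lit 1284))
) (.node (nat_lit 0x101f924ce0832) (.leaf (nat_lit 0x101f924c1c114) (nat_lit 1792))
 (.leaf (nat_lit 0x101f924ce0832) (nat_lit 1543))
)) (.node (nat_lit 0x101f97581d50d) (.node (nat_lit 0x101f9268e0822) (.leaf (nat_lit 0x101f92681c116) (nat_lit 2054))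
 (.leaf (nat_lit 0x101f9268e0822) (nat_lit 1793))
) (.node (nat_lit 0x101f9758e1ea1) (.leaf (nat_lit 0x101f97581d50d) (nat_lit 1543))
 (.leaf (nat_lit 0x101f9758e1ea1) (nat_lit 1537))
))) (.node (nat_lit 0x101f97761d527) (.node (nat_lit 0x101f97721d537) (.node (nat_lit 0x101f975ce1eb3) (.leaf (nat_lit 0x101f975c1d51d) (nat_lit 1538))
 (.leaf (nat_lit 0x101f975ce1eb3) (nat_lit 1538))
) (.node (nat_lit 0x101f9772e1e8e) (.leaf (nat_lit 0x101f97721d537) (nat_lit 1286))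
 (.leaf (nat_lit 0x101f9772e1e8e) (nat_lit 1286))
)) (.node (nat_lit 0x101f9b121c181) (.node (nat_lit 0x101f9776e1e9c) (.leaf (nat_lit 0x101f97761d527) (nat_lit 1537))
 (.leaf (nat_lit 0x101f9776e1e9c) (nat_lit 1793))
) (.node (nat_lit 0x101f9b12e0c08) (.leaf (nat_lit 0x101f9b121c181) (nat_lit 1029))
 (.node (nat_lit 0x101f9b241c182) (.leaf (nat_lit 0x101f9b12e0c08) (nat_lit 772))
 (.leaf (nat_lit 0x101f9b241c182) (nat_lit 1285))
))))) (.node (nat_lit 0x101f9f4ce1e32) (.node (nat_lit 0x101f9b6ae0c2b) (.node (nat_lit 0x101f9b5ce0c33) (.node (nat_lit 0x101f9b5c1c19d) (.leaf (nat_lit 0x101f9b24e0c10) (nat_lit 1028))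
 (.leaf (nat_lit 0x101f9b5c1c19d) (nat_lit 1793))
) (.node (nat_lit 0x101f9b6a1c19e) (.leaf (nat_lit 0x101f9b5ce0c33) (nat_lit 1537))
 (.leaf (nat_lit 0x101f9b6a1c19e) (nat_lit 1793))
)) (.node (nat_lit 0x101f9f4ae1e29) (.node (nat_lit 0x101f9f4a1d18c) (.leaf (nat_lit 0x101f9b6ae0c2b) (nat_lit 1537))
 (.leaf (nat_lit 0x101f9f4a1d18c) (nat_lit 1543))
) (.node (nat_lit 0x101f9f4c1d194) (.leaf (nat_lit 0x101f9f4ae1e29) (nat_lit 1543))
 (.leaf (nat_lit 0x101f9f4c1d194) (nat_lit 1282))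
))) (.node (nat_lit 0x101f9f74e1e15) (.node (nat_lit 0x101f9f72e1e0e) (.node (nat_lit 0x101f9f721d1b7) (.leaf (nat_lit 0x101f9f4ce1e32) (nat_lit 1282))
 (.leaf (nat_lit 0x101f9f721d1b7) (nat_lit 1030))
) (.node (nat_lit 0x101f9f741d1af) (.leaf (nat_lit 0x101f9f72e1e0e) (nat_lit 1030))
 (.leaf (nat_lit 0x101f9f741d1af) (nat_lit 1542))
)) (.node (nat_lit 0x101fa512e1488) (.node (nat_lit 0x101fa5121c601) (.leaf (nat_lit 0x101f9f74e1e15) (nat_lit 1792))
 (.leaf (nat_lit 0x101fa5121c601) (nat_lit 768))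
) (.node (nat_lit 0x101fa53e1c623) (.leaf (nat_lit 0x101fa512e1488) (nat_lit 519))
 (.node (nat_lit 0x101fa53ee14bc) (.leaf (nat_lit 0x101fa53e1c623) (nat_lit 1536))
 (.leaf (nat_lit 0x101fa53ee14bc) (nat_lit 1286))
))))))) (.node (nat_lit 0x101fb4761cb27) (.node (nat_lit 0x101fac4ae10a9) (.node (nat_lit 0x101fa6681ca16) (.node (nat_lit 0x101fa6241ca02) (.node (nat_lit 0x101fa5741c62f) (.node (nat_lit 0x101fa558e14a1) (.leaf (nat_lit 0x101fa5581c60d) (nat_lit 1026))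
 (.leaf (nat_lit 0x101fa558e14a1) (nat_lit 770))
) (.node (nat_lit 0x101fa574e1495) (.leaf (nat_lit 0x101fa5741c62f) (nat_lit 1793))
 (.leaf (nat_lit 0x101fa574e1495) (nat_lit 1538))
)) (.node (nat_lit 0x101fa63e1ca23) (.node (nat_lit 0x101fa624e1910) (.leaf (nat_lit 0x101fa6241ca02) (nat_lit 1543))
 (.leaf (nat_lit 0x101fa624e1910) (nat_lit 1287))
) (.node (nat_lit 0x101fa63ee193c) (.leaf (nat_lit 0x101fa63e1ca23) (nat_lit 1538))
 (.leaf (nat_lit 0x101fa63ee193c) (nat_lit 1542))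
))) (.node (nat_lit 0x101fac121c681) (.node (nat_lit 0x101fa6721ca37) (.node (nat_lit 0x101fa668e1922) (.leaf (nat_lit 0x101fa6681ca16) (nat_lit 1794))
 (.leaf (nat_lit 0x101fa668e1922) (nat_lit 1538))
) (.node (nat_lit 0x101fa672e190e) (.leaf (nat_lit 0x101fa6721ca37) (nat_lit 1281))
 (.leaf (nat_lit 0x101fa672e190e) (nat_lit 1281))
)) (.node (nat_lit 0x101fac2e1c6aa) (.node (nat_lit 0x101fac12e1088) (.leaf (nat_lit 0x101fac121c681) (nat_lit 775))
 (.leaf (nat_lit 0x101fac12e1088) (nat_lit 769))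
) (.node (nat_lit 0x101fac2ee10bd) (.leaf (nat_lit 0x101fac2e1c6aa) (nat_lit 1538))
 (.node (nat_lit 0x101fac4a1c68c) (.leaf (nat_lit 0x101fac2ee10bd) (nat_lit 1794))
 (.leaf (nat_lit 0x101fac4a1c68c) (nat_lit 1026))
))))) (.node (nat_lit 0x101fae6ae19ab) (.node (nat_lit 0x101fae2ee19bd) (.node (nat_lit 0x101fac76e109c) (.node (nat_lit 0x101fac761c6a7) (.leaf (nat_lit 0x101fac4ae10a9) (nat_lit 1026))
 (.leaf (nat_lit 0x101fac761c6a7) (nat_lit 1286))
) (.node (nat_lit 0x101fae2e1ceaa) (.leaf (nat_lit 0x101fac76e109c) (nat_lit 1536))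
 (.leaf (nat_lit 0x101fae2e1ceaa) (nat_lit 1538))
)) (.node (nat_lit 0x101fae36e1998) (.node (nat_lit 0x101fae361ce83) (.leaf (nat_lit 0x101fae2ee19bd) (nat_lit 1283))
 (.leaf (nat_lit 0x101fae361ce83) (nat_lit 1287))
) (.node (nat_lit 0x101fae6a1ce9e) (.leaf (nat_lit 0x101fae36e1998) (nat_lit 1027))
 (.leaf (nat_lit 0x101fae6a1ce9e) (nat_lit 1538))
))) (.node (nat_lit 0x101fb41ee113e) (.node (nat_lit 0x101fae72e198e) (.node (nat_lit 0x101fae721ceb7) (.leaf (nat_lit 0x101fae6ae19ab) (nat_lit 1283))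
 (.leaf (nat_lit 0x101fae721ceb7) (nat_lit 1286))
) (.node (nat_lit 0x101fb41e1cb31) (.leaf (nat_lit 0x101fae72e198e) (nat_lit 1027))
 (.leaf (nat_lit 0x101fb41e1cb31) (nat_lit 1794))
)) (.node (nat_lit 0x101fb424e1110) (.node (nat_lit 0x101fb4241cb02) (.leaf (nat_lit 0x101fb41ee113e) (nat_lit 1537))
 (.leaf (nat_lit 0x101fb4241cb02) (nat_lit 1543))
) (.node (nat_lit 0x101fb44c1cb14) (.leaf (nat_lit 0x101fb424e1110) (nat_lit 1287))
 (.node (nat_lit 0x101fb44ce1132) (.leaf (nat_lit 0x101fb44c1cb14) (nat_lit 1794))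
 (.leaf (nat_lit 0x101fb44ce1132) (nat_lit 1538))
)))))) (.node (nat_lit 0x101fb95ce0733) (.node (nat_lit 0x101fb5741cf2f) (.node (nat_lit 0x101fb5361cf03) (.node (nat_lit 0x101fb51e1cf31) (.node (nat_lit 0x101fb476e111c) (.leaf (nat_lit 0x101fb4761cb27) (nat_lit 1542))
 (.leaf (nat_lit 0x101fb476e111c) (nat_lit 1792))
) (.node (nat_lit 0x101fb51ee15be) (.leaf (nat_lit 0x101fb51e1cf31) (nat_lit 1539))
 (.leaf (nat_lit 0x101fb51ee15be) (nat_lit 1286))
)) (.node (nat_lit 0x101fb55c1cf1d) (.node (nat_lit 0x101fb536e1598) (.leaf (nat_lit 0x101fb5361cf03) (nat_lit 1283))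
 (.leaf (nat_lit 0x101fb536e1598) (nat_lit 1031))
) (.node (nat_lit 0x101fb55ce15b3) (.leaf (nat_lit 0x101fb55c1cf1d) (nat_lit 1539))
 (.leaf (nat_lit 0x101fb55ce15b3) (nat_lit 1282))
))) (.node (nat_lit 0x101fb93e1dba3) (.node (nat_lit 0x101fb92e1dbaa) (.node (nat_lit 0x101fb574e1595) (.leaf (nat_lit 0x101fb5741cf2f) (nat_lit 1798))
 (.leaf (nat_lit 0x101fb574e1595) (nat_lit 1538))
) (.node (nat_lit 0x101fb92ee073d) (.leaf (nat_lit 0x101fb92e1dbaa) (nat_lit 1793))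
 (.leaf (nat_lit 0x101fb92ee073d) (nat_lit 1537))
)) (.node (nat_lit 0x101fb94c1db94) (.node (nat_lit 0x101fb93ee073c) (.leaf (nat_lit 0x101fb93e1dba3) (nat_lit 1795))
 (.leaf (nat_lit 0x101fb93ee073c) (nat_lit 1542))
) (.node (nat_lit 0x101fb94ce0732) (.leaf (nat_lit 0x101fb94c1db94) (nat_lit 1537))
 (.node (nat_lit 0x101fb95c1db9d) (.leaf (nat_lit 0x101fb94ce0732) (nat_lit 1537))
 (.leaf (nat_lit 0x101fb95c1db9d) (nat_lit 1799))
))))) (.node (nat_lit 0x101fba6ae0aab) (.node (nat_lit 0x101fba3ee0abc) (.node (nat_lit 0x101fba1ee0abe) (.node (nat_lit 0x101fba1e1d7b1) (.leaf (nat_lit 0x101fb95ce0733) (nat_lit 1799))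
 (.leaf (nat_lit 0x101fba1e1d7b1) (nat_lit 1536))
) (.node (nat_lit 0x101fba3e1d7a3) (.leaf (nat_lit 0x101fba1ee0abe) (nat_lit 1286))
 (.leaf (nat_lit 0x101fba3e1d7a3) (nat_lit 1543))
)) (.node (nat_lit 0x101fba4ae0aa9) (.node (nat_lit 0x101fba4a1d78c) (.leaf (nat_lit 0x101fba3ee0abc) (nat_lit 1537))
 (.leaf (nat_lit 0x101fba4a1d78c) (nat_lit 1793))
) (.node (nat_lit 0x101fba6a1d79e) (.leaf (nat_lit 0x101fba4ae0aa9) (nat_lit 1543))
 (.leaf (nat_lit 0x101fba6a1d79e) (nat_lit 1542))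
))) (.node (nat_lit 0x101fbb2ee0e3d) (.node (nat_lit 0x101fbb1ee0e3e) (.node (nat_lit 0x101fbb1e1d3b1) (.leaf (nat_lit 0x101fba6ae0aab) (nat_lit 1538))
 (.leaf (nat_lit 0x101fbb1e1d3b1) (nat_lit 1542))
) (.node (nat_lit 0x101fbb2e1d3aa) (.leaf (nat_lit 0x101fbb1ee0e3e) (nat_lit 1286))
 (.leaf (nat_lit 0x101fbb2e1d3aa) (nat_lit 1793))
)) (.node (nat_lit 0x101fbb58e0e21) (.node (nat_lit 0x101fbb581d38d) (.leaf (nat_lit 0x101fbb2ee0e3d) (nat_lit 1542))
 (.leaf (nat_lit 0x101fbb581d38d) (nat_lit 1536))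
) (.node (nat_lit 0x101fbb681d396) (.leaf (nat_lit 0x101fbb58e0e21) (nat_lit 1287))
 (.node (nat_lit 0x101fbb68e0e22) (.leaf (nat_lit 0x101fbb681d396) (nat_lit 1794))
 (.leaf (nat_lit 0x101fbb68e0e22) (nat_lit 1543))
))))))))))))

theorem KKT_ok : genOK A7 ((cK true true).drop 6) KKT 2160 = true := by decide +kernel

noncomputable def KK_t (a b : Bool) : ST :=
  sel a b KKL
    KKS
    KKT

theorem KK_ok : ∀ a b, genOK A7 ((cK a b).drop 6) (KK_t a b) (sel a b 1008 2160 2160) = true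
  | false, false => KKL_ok
  | false, true => KKL_ok
  | true, false => KKS_ok
  | true, true => KKT_ok

noncomputable def kN (a b : Bool) : List ℕ :=
  Bool.rec (Bool.rec [(nat_lit 0x1010101010141), (nat_lit 0x1010101012101), (nat_lit 0x1010101110101), (nat_lit 0x1010109010101), (nat_lit 0x1010501010101), (nat_lit 0x1030101010101), (nat_lit 0x1010181010181), (nat_lit 0x1014101014101), (nat_lit 0x1018101018101), (nat_lit 0x1010101090909), (nat_lit 0x1010103010103)]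
    [(nat_lit 0x1010101010141), (nat_lit 0x1010101012101), (nat_lit 0x1010101110101), (nat_lit 0x1010109010101), (nat_lit 0x1010501010101), (nat_lit 0x1030101010101), (nat_lit 0x1010181110181), (nat_lit 0x1014101116101), (nat_lit 0x1018101018141), (nat_lit 0x1010101090909), (nat_lit 0x1010103110143)] b)
    (Bool.rec [(nat_lit 0x1010101010141), (nat_lit 0x1010101012101), (nat_lit 0x1010101110101), (nat_lit 0x1010109010101), (nat_lit 0x1010501010101), (nat_lit 0x1030101010101), (nat_lit 0x1010181010181), (nat_lit 0x1014101014101), (nat_lit 0x1018101018101), (nat_lit 0x1010101090909), (nat_lit 0x1010103010103)]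
    [(nat_lit 0x1010101010141), (nat_lit 0x1010101012101), (nat_lit 0x1010101110101), (nat_lit 0x1010109010101), (nat_lit 0x1010501010101), (nat_lit 0x1030101010101), (nat_lit 0x1010581110181), (nat_lit 0x1034101116101), (nat_lit 0x1018101018141), (nat_lit 0x1010101190949), (nat_lit 0x1010103110143)] b) a

theorem kN_ok : ∀ a b, beqL ((WX b a).map (evC A7 (cK a b))) (kN a b) = true := by
  intro a b; cases a <;> cases b <;> decide +kernel

noncomputable def relN (a b : Bool) : List (List ℕ) :=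
  Bool.rec (Bool.rec [[12, 13], [13, 12], [12, 12, 12], [12, 0, 13, 3], [12, 1, 13, 4], [12, 2, 13, 5], [12, 3, 13, 3, 0], [12, 4, 13, 4, 1], [12, 5, 13, 5, 2], [9, 12, 9, 12], [6, 12, 6, 13], [10, 12, 10, 13], [8, 12, 8, 13], [12, 14, 13, 15], [14, 9, 15, 9], [14, 8, 14, 8], [8, 14, 6, 15, 8, 6], [14, 6, 14, 6, 14, 6], [14, 10, 14, 10, 14, 10]]
    [[12, 13], [13, 12], [12, 12, 12], [12, 0, 13, 3], [12, 1, 13, 4], [12, 2, 13, 5], [12, 3, 13, 3, 0], [12, 4, 13, 4, 1], [12, 5, 13, 5, 2], [9, 12, 9, 12], [6, 2, 12, 6, 2, 13], [10, 2, 0, 12, 10, 2, 0, 13], [8, 0, 12, 8, 0, 13], [12, 14, 13, 15], [14, 9, 15, 9], [14, 8, 0, 14, 8, 0], [8, 0, 14, 6, 2, 15, 8, 0, 6, 2], [14, 6, 2, 14, 6, 2, 14, 6, 2], [14, 10, 2, 0, 14, 10, 2, 0, 14, 10, 2, 0]] b)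
    (Bool.rec [[12, 13], [13, 12], [12, 12, 12], [12, 0, 13, 3], [12, 1, 13, 4], [12, 2, 13, 5], [12, 3, 13, 3, 0], [12, 4, 13, 4, 1], [12, 5, 13, 5, 2], [9, 12, 9, 12], [6, 12, 6, 13], [10, 12, 10, 13], [8, 12, 8, 13], [12, 14, 13, 15], [14, 8, 14, 8], [9, 6, 15, 9, 14], [14, 10, 14, 10, 14, 10, 14, 10, 14, 10], [6, 10, 12, 15, 10, 6, 15, 10, 14, 10, 14]]
    [[12, 13], [13, 12], [12, 12, 12], [12, 0, 13, 3], [12, 1, 13, 4], [12, 2, 13, 5], [12, 3, 13, 3, 0], [12, 4, 13, 4, 1], [12, 5, 13, 5, 2], [9, 2, 0, 12, 9, 2, 0, 12], [6, 4, 2, 12, 6, 4, 2, 13], [10, 2, 0, 12, 10, 2, 0, 13], [8, 0, 12, 8, 0, 13], [12, 14, 13, 15], [9, 2, 0, 6, 4, 2, 15, 9, 2, 0, 14], [6, 4, 2, 8, 0, 14, 8, 0, 14], [10, 2, 0, 12, 14, 10, 2, 0, 14, 10, 2, 0, 14, 10, 2, 0, 14]] b) a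

noncomputable def relG (a b : Bool) : List (List ℕ) := relH ++ relN a b ++ (relN b a).map (subW flW)

end Cfsg.Agent.Rec.L52
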