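import Mathlib
import Cfsg.Agent.Rec.L52.DataK

/-! Generated by tools/rec: the group 2^6:A5 -/

set_option autoImplicit false
set_option maxRecDepth 100000
set_option linter.unusedVariables false
set_option exponentiation.threshold 100000

namespace Cfsg.Agent.Rec.L52

open Cfsg.Agent.Spor Cfsg.Agent.Rec

universe u

noncomputable def J_t : ST :=
(.node (nat_lit 0x1045041) (.node (nat_lit 0x1043041) (.node (nat_lit 0x1041241) (.node (nat_lit 0x1041141) (.node (nat_lit 0x10410c1) (.node (nat_lit 0x1041051) (.node (nat_lit 0x1041049) (.node (nat_lit 0x1041045) (.leaf (nat_lit 0x1041041) (nat_lit 0))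
 (.leaf (nat_lit 0x1041045) (nat_lit 256))
) (.node (nat_lit 0x104104d) (.leaf (nat_lit 0x1041049) (nat_lit 1026))
 (.leaf (nat_lit 0x104104d) (nat_lit 770))
)) (.node (nat_lit 0x1041059) (.node (nat_lit 0x1041055) (.leaf (nat_lit 0x1041051) (nat_lit 1027))
 (.leaf (nat_lit 0x1041055) (nat_lit 771))
) (.node (nat_lit 0x104105d) (.leaf (nat_lit 0x1041059) (nat_lit 1539))
 (.leaf (nat_lit 0x104105d) (nat_lit 1283))
))) (.node (nat_lit 0x10410d1) (.node (nat_lit 0x10410c9) (.node (nat_lit 0x10410c5) (.leaf (nat_lit 0x10410c1) (nat_lit 257))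
 (.leaf (nat_lit 0x10410c5) (nat_lit 513))
) (.node (nat_lit 0x10410cd) (.leaf (nat_lit 0x10410c9) (nat_lit 1282))
 (.leaf (nat_lit 0x10410cd) (nat_lit 1026))
)) (.node (nat_lit 0x10410d9) (.node (nat_lit 0x10410d5) (.leaf (nat_lit 0x10410d1) (nat_lit 1283))
 (.leaf (nat_lit 0x10410d5) (nat_lit 1027))
) (.node (nat_lit 0x10410dd) (.leaf (nat_lit 0x10410d9) (nat_lit 1795))
 (.leaf (nat_lit 0x10410dd) (nat_lit 1539))
)))) (.node (nat_lit 0x10411c1) (.node (nat_lit 0x1041151) (.node (nat_lit 0x1041149) (.node (nat_lit 0x1041145) (.leaf (nat_lit 0x1041141) (nat_lit 1026))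
 (.leaf (nat_lit 0x1041145) (nat_lit 1282))
) (.node (nat_lit 0x104114d) (.leaf (nat_lit 0x1041149) (nat_lit 1538))
 (.leaf (nat_lit 0x104114d) (nat_lit 1282))
)) (.node (nat_lit 0x1041159) (.node (nat_lit 0x1041155) (.leaf (nat_lit 0x1041151) (nat_lit 2051))
 (.leaf (nat_lit 0x1041155) (nat_lit 1795))
) (.node (nat_lit 0x104115d) (.leaf (nat_lit 0x1041159) (nat_lit 2051))
 (.leaf (nat_lit 0x104115d) (nat_lit 1795))
))) (.node (nat_lit 0x10411d1) (.node (nat_lit 0x10411c9) (.node (nat_lit 0x10411c5) (.leaf (nat_lit 0x10411c1) (nat_lit 770))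
 (.leaf (nat_lit 0x10411c5) (nat_lit 1026))
) (.node (nat_lit 0x10411cd) (.leaf (nat_lit 0x10411c9) (nat_lit 1282))
 (.leaf (nat_lit 0x10411cd) (nat_lit 1026))
)) (.node (nat_lit 0x10411d9) (.node (nat_lit 0x10411d5) (.leaf (nat_lit 0x10411d1) (nat_lit 1795))
 (.leaf (nat_lit 0x10411d5) (nat_lit 1539))
) (.node (nat_lit 0x10411dd) (.leaf (nat_lit 0x10411d9) (nat_lit 1795))
 (.leaf (nat_lit 0x10411dd) (nat_lit 1539))
))))) (.node (nat_lit 0x1041341) (.node (nat_lit 0x10412c1) (.node (nat_lit 0x1041251) (.node (nat_lit 0x1041249) (.node (nat_lit 0x1041245) (.leaf (nat_lit 0x1041241) (nat_lit 1027))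
 (.leaf (nat_lit 0x1041245) (nat_lit 1283))
) (.node (nat_lit 0x104124d) (.leaf (nat_lit 0x1041249) (nat_lit 2051))
 (.leaf (nat_lit 0x104124d) (nat_lit 1795))
)) (.node (nat_lit 0x1041259) (.node (nat_lit 0x1041255) (.leaf (nat_lit 0x1041251) (nat_lit 1539))
 (.leaf (nat_lit 0x1041255) (nat_lit 1283))
) (.node (nat_lit 0x104125d) (.leaf (nat_lit 0x1041259) (nat_lit 2051))
 (.leaf (nat_lit 0x104125d) (nat_lit 1795))
))) (.node (nat_lit 0x10412d1) (.node (nat_lit 0x10412c9) (.node (nat_lit 0x10412c5) (.leaf (nat_lit 0x10412c1) (nat_lit 771))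
 (.leaf (nat_lit 0x10412c5) (nat_lit 1027))
) (.node (nat_lit 0x10412cd) (.leaf (nat_lit 0x10412c9) (nat_lit 1795))
 (.leaf (nat_lit 0x10412cd) (nat_lit 1539))
)) (.node (nat_lit 0x10412d9) (.node (nat_lit 0x10412d5) (.leaf (nat_lit 0x10412d1) (nat_lit 1283))
 (.leaf (nat_lit 0x10412d5) (nat_lit 1027))
) (.node (nat_lit 0x10412dd) (.leaf (nat_lit 0x10412d9) (nat_lit 1795))
 (.leaf (nat_lit 0x10412dd) (nat_lit 1539))
)))) (.node (nat_lit 0x10413c1) (.node (nat_lit 0x1041351) (.node (nat_lit 0x1041349) (.node (nat_lit 0x1041345) (.leaf (nat_lit 0x1041341) (nat_lit 1539))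
 (.leaf (nat_lit 0x1041345) (nat_lit 1795))
) (.node (nat_lit 0x104134d) (.leaf (nat_lit 0x1041349) (nat_lit 2051))
 (.leaf (nat_lit 0x104134d) (nat_lit 1795))
)) (.node (nat_lit 0x1041359) (.node (nat_lit 0x1041355) (.leaf (nat_lit 0x1041351) (nat_lit 2051))
 (.leaf (nat_lit 0x1041355) (nat_lit 1795))
) (.node (nat_lit 0x104135d) (.leaf (nat_lit 0x1041359) (nat_lit 2051))
 (.leaf (nat_lit 0x104135d) (nat_lit 1795))
))) (.node (nat_lit 0x10413d1) (.node (nat_lit 0x10413c9) (.node (nat_lit 0x10413c5) (.leaf (nat_lit 0x10413c1) (nat_lit 1283))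
 (.leaf (nat_lit 0x10413c5) (nat_lit 1539))
) (.node (nat_lit 0x10413cd) (.leaf (nat_lit 0x10413c9) (nat_lit 1795))
 (.leaf (nat_lit 0x10413cd) (nat_lit 1539))
)) (.node (nat_lit 0x10413d9) (.node (nat_lit 0x10413d5) (.leaf (nat_lit 0x10413d1) (nat_lit 1795))
 (.leaf (nat_lit 0x10413d5) (nat_lit 1539))
) (.node (nat_lit 0x10413dd) (.leaf (nat_lit 0x10413d9) (nat_lit 1795))
 (.leaf (nat_lit 0x10413dd) (nat_lit 1539))
)))))) (.node (nat_lit 0x1043241) (.node (nat_lit 0x1043141) (.node (nat_lit 0x10430c1) (.node (nat_lit 0x1043051) (.node (nat_lit 0x1043049) (.node (nat_lit 0x1043045) (.leaf (nat_lit 0x1043041) (nat_lit 258))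
 (.leaf (nat_lit 0x1043045) (nat_lit 514))
) (.node (nat_lit 0x104304d) (.leaf (nat_lit 0x1043049) (nat_lit 768))
 (.leaf (nat_lit 0x104304d) (nat_lit 512))
)) (.node (nat_lit 0x1043059) (.node (nat_lit 0x1043055) (.leaf (nat_lit 0x1043051) (nat_lit 1283))
 (.leaf (nat_lit 0x1043055) (nat_lit 1027))
) (.node (nat_lit 0x104305d) (.leaf (nat_lit 0x1043059) (nat_lit 1283))
 (.leaf (nat_lit 0x104305d) (nat_lit 1027))
))) (.node (nat_lit 0x10430d1) (.node (nat_lit 0x10430c9) (.node (nat_lit 0x10430c5) (.leaf (nat_lit 0x10430c1) (nat_lit 514))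
 (.leaf (nat_lit 0x10430c5) (nat_lit 770))
) (.node (nat_lit 0x10430cd) (.leaf (nat_lit 0x10430c9) (nat_lit 1024))
 (.leaf (nat_lit 0x10430cd) (nat_lit 768))
)) (.node (nat_lit 0x10430d9) (.node (nat_lit 0x10430d5) (.leaf (nat_lit 0x10430d1) (nat_lit 1539))
 (.leaf (nat_lit 0x10430d5) (nat_lit 1283))
) (.node (nat_lit 0x10430dd) (.leaf (nat_lit 0x10430d9) (nat_lit 1539))
 (.leaf (nat_lit 0x10430dd) (nat_lit 1283))
)))) (.node (nat_lit 0x10431c1) (.node (nat_lit 0x1043151) (.node (nat_lit 0x1043149) (.node (nat_lit 0x1043145) (.leaf (nat_lit 0x1043141) (nat_lit 769))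
 (.leaf (nat_lit 0x1043145) (nat_lit 1025))
) (.node (nat_lit 0x104314d) (.leaf (nat_lit 0x1043149) (nat_lit 1281))
 (.leaf (nat_lit 0x104314d) (nat_lit 1025))
)) (.node (nat_lit 0x1043159) (.node (nat_lit 0x1043155) (.leaf (nat_lit 0x1043151) (nat_lit 1793))
 (.leaf (nat_lit 0x1043155) (nat_lit 1537))
) (.node (nat_lit 0x104315d) (.leaf (nat_lit 0x1043159) (nat_lit 1795))
 (.leaf (nat_lit 0x104315d) (nat_lit 1539))
))) (.node (nat_lit 0x10431d1) (.node (nat_lit 0x10431c9) (.node (nat_lit 0x10431c5) (.leaf (nat_lit 0x10431c1) (nat_lit 513))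
 (.leaf (nat_lit 0x10431c5) (nat_lit 769))
) (.node (nat_lit 0x10431cd) (.leaf (nat_lit 0x10431c9) (nat_lit 1025))
 (.leaf (nat_lit 0x10431cd) (nat_lit 769))
)) (.node (nat_lit 0x10431d9) (.node (nat_lit 0x10431d5) (.leaf (nat_lit 0x10431d1) (nat_lit 1537))
 (.leaf (nat_lit 0x10431d5) (nat_lit 1281))
) (.node (nat_lit 0x10431dd) (.leaf (nat_lit 0x10431d9) (nat_lit 1539))
 (.leaf (nat_lit 0x10431dd) (nat_lit 1283))
))))) (.node (nat_lit 0x1043341) (.node (nat_lit 0x10432c1) (.node (nat_lit 0x1043251) (.node (nat_lit 0x1043249) (.node (nat_lit 0x1043245) (.leaf (nat_lit 0x1043241) (nat_lit 1283))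
 (.leaf (nat_lit 0x1043245) (nat_lit 1539))
) (.node (nat_lit 0x104324d) (.leaf (nat_lit 0x1043249) (nat_lit 1792))
 (.leaf (nat_lit 0x104324d) (nat_lit 1536))
)) (.node (nat_lit 0x1043259) (.node (nat_lit 0x1043255) (.leaf (nat_lit 0x1043251) (nat_lit 1795))
 (.leaf (nat_lit 0x1043255) (nat_lit 1539))
) (.node (nat_lit 0x104325d) (.leaf (nat_lit 0x1043259) (nat_lit 1795))
 (.leaf (nat_lit 0x104325d) (nat_lit 1539))
))) (.node (nat_lit 0x10432d1) (.node (nat_lit 0x10432c9) (.node (nat_lit 0x10432c5) (.leaf (nat_lit 0x10432c1) (nat_lit 1027))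
 (.leaf (nat_lit 0x10432c5) (nat_lit 1283))
) (.node (nat_lit 0x10432cd) (.leaf (nat_lit 0x10432c9) (nat_lit 1536))
 (.leaf (nat_lit 0x10432cd) (nat_lit 1280))
)) (.node (nat_lit 0x10432d9) (.node (nat_lit 0x10432d5) (.leaf (nat_lit 0x10432d1) (nat_lit 1539))
 (.leaf (nat_lit 0x10432d5) (nat_lit 1283))
) (.node (nat_lit 0x10432dd) (.leaf (nat_lit 0x10432d9) (nat_lit 1539))
 (.leaf (nat_lit 0x10432dd) (nat_lit 1283))
)))) (.node (nat_lit 0x10433c1) (.node (nat_lit 0x1043351) (.node (nat_lit 0x1043349) (.node (nat_lit 0x1043345) (.leaf (nat_lit 0x1043341) (nat_lit 1283))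
 (.leaf (nat_lit 0x1043345) (nat_lit 1539))
) (.node (nat_lit 0x104334d) (.leaf (nat_lit 0x1043349) (nat_lit 1795))
 (.leaf (nat_lit 0x104334d) (nat_lit 1539))
)) (.node (nat_lit 0x1043359) (.node (nat_lit 0x1043355) (.leaf (nat_lit 0x1043351) (nat_lit 1795))
 (.leaf (nat_lit 0x1043355) (nat_lit 1539))
) (.node (nat_lit 0x104335d) (.leaf (nat_lit 0x1043359) (nat_lit 1795))
 (.leaf (nat_lit 0x104335d) (nat_lit 1539))
))) (.node (nat_lit 0x10433d1) (.node (nat_lit 0x10433c9) (.node (nat_lit 0x10433c5) (.leaf (nat_lit 0x10433c1) (nat_lit 1027))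
 (.leaf (nat_lit 0x10433c5) (nat_lit 1283))
) (.node (nat_lit 0x10433cd) (.leaf (nat_lit 0x10433c9) (nat_lit 1539))
 (.leaf (nat_lit 0x10433cd) (nat_lit 1283))
)) (.node (nat_lit 0x10433d9) (.node (nat_lit 0x10433d5) (.leaf (nat_lit 0x10433d1) (nat_lit 1539))
 (.leaf (nat_lit 0x10433d5) (nat_lit 1283))
) (.node (nat_lit 0x10433dd) (.leaf (nat_lit 0x10433d9) (nat_lit 1539))
 (.leaf (nat_lit 0x10433dd) (nat_lit 1283))
))))))) (.node (nat_lit 0x1047041) (.node (nat_lit 0x1045241) (.node (nat_lit 0x1045141) (.node (nat_lit 0x10450c1) (.node (nat_lit 0x1045051) (.node (nat_lit 0x1045049) (.node (nat_lit 0x1045045) (.leaf (nat_lit 0x1045041) (nat_lit 259))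
 (.leaf (nat_lit 0x1045045) (nat_lit 515))
) (.node (nat_lit 0x104504d) (.leaf (nat_lit 0x1045049) (nat_lit 1283))
 (.leaf (nat_lit 0x104504d) (nat_lit 1027))
)) (.node (nat_lit 0x1045059) (.node (nat_lit 0x1045055) (.leaf (nat_lit 0x1045051) (nat_lit 768))
 (.leaf (nat_lit 0x1045055) (nat_lit 512))
) (.node (nat_lit 0x104505d) (.leaf (nat_lit 0x1045059) (nat_lit 1282))
 (.leaf (nat_lit 0x104505d) (nat_lit 1026))
))) (.node (nat_lit 0x10450d1) (.node (nat_lit 0x10450c9) (.node (nat_lit 0x10450c5) (.leaf (nat_lit 0x10450c1) (nat_lit 515))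
 (.leaf (nat_lit 0x10450c5) (nat_lit 771))
) (.node (nat_lit 0x10450cd) (.leaf (nat_lit 0x10450c9) (nat_lit 1539))
 (.leaf (nat_lit 0x10450cd) (nat_lit 1283))
)) (.node (nat_lit 0x10450d9) (.node (nat_lit 0x10450d5) (.leaf (nat_lit 0x10450d1) (nat_lit 1024))
 (.leaf (nat_lit 0x10450d5) (nat_lit 768))
) (.node (nat_lit 0x10450dd) (.leaf (nat_lit 0x10450d9) (nat_lit 1538))
 (.leaf (nat_lit 0x10450dd) (nat_lit 1282))
)))) (.node (nat_lit 0x10451c1) (.node (nat_lit 0x1045151) (.node (nat_lit 0x1045149) (.node (nat_lit 0x1045145) (.leaf (nat_lit 0x1045141) (nat_lit 1283))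
 (.leaf (nat_lit 0x1045145) (nat_lit 1539))
) (.node (nat_lit 0x104514d) (.leaf (nat_lit 0x1045149) (nat_lit 1795))
 (.leaf (nat_lit 0x104514d) (nat_lit 1539))
)) (.node (nat_lit 0x1045159) (.node (nat_lit 0x1045155) (.leaf (nat_lit 0x1045151) (nat_lit 1792))
 (.leaf (nat_lit 0x1045155) (nat_lit 1536))
) (.node (nat_lit 0x104515d) (.leaf (nat_lit 0x1045159) (nat_lit 1794))
 (.leaf (nat_lit 0x104515d) (nat_lit 1538))
))) (.node (nat_lit 0x10451d1) (.node (nat_lit 0x10451c9) (.node (nat_lit 0x10451c5) (.leaf (nat_lit 0x10451c1) (nat_lit 1027))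
 (.leaf (nat_lit 0x10451c5) (nat_lit 1283))
) (.node (nat_lit 0x10451cd) (.leaf (nat_lit 0x10451c9) (nat_lit 1539))
 (.leaf (nat_lit 0x10451cd) (nat_lit 1283))
)) (.node (nat_lit 0x10451d9) (.node (nat_lit 0x10451d5) (.leaf (nat_lit 0x10451d1) (nat_lit 1536))
 (.leaf (nat_lit 0x10451d5) (nat_lit 1280))
) (.node (nat_lit 0x10451dd) (.leaf (nat_lit 0x10451d9) (nat_lit 1538))
 (.leaf (nat_lit 0x10451dd) (nat_lit 1282))
))))) (.node (nat_lit 0x1045341) (.node (nat_lit 0x10452c1) (.node (nat_lit 0x1045251) (.node (nat_lit 0x1045249) (.node (nat_lit 0x1045245) (.leaf (nat_lit 0x1045241) (nat_lit 769))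
 (.leaf (nat_lit 0x1045245) (nat_lit 1025))
) (.node (nat_lit 0x104524d) (.leaf (nat_lit 0x1045249) (nat_lit 1793))
 (.leaf (nat_lit 0x104524d) (nat_lit 1537))
)) (.node (nat_lit 0x1045259) (.node (nat_lit 0x1045255) (.leaf (nat_lit 0x1045251) (nat_lit 1281))
 (.leaf (nat_lit 0x1045255) (nat_lit 1025))
) (.node (nat_lit 0x104525d) (.leaf (nat_lit 0x1045259) (nat_lit 1793))
 (.leaf (nat_lit 0x104525d) (nat_lit 1537))
))) (.node (nat_lit 0x10452d1) (.node (nat_lit 0x10452c9) (.node (nat_lit 0x10452c5) (.leaf (nat_lit 0x10452c1) (nat_lit 513))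
 (.leaf (nat_lit 0x10452c5) (nat_lit 769))
) (.node (nat_lit 0x10452cd) (.leaf (nat_lit 0x10452c9) (nat_lit 1537))
 (.leaf (nat_lit 0x10452cd) (nat_lit 1281))
)) (.node (nat_lit 0x10452d9) (.node (nat_lit 0x10452d5) (.leaf (nat_lit 0x10452d1) (nat_lit 1025))
 (.leaf (nat_lit 0x10452d5) (nat_lit 769))
) (.node (nat_lit 0x10452dd) (.leaf (nat_lit 0x10452d9) (nat_lit 1537))
 (.leaf (nat_lit 0x10452dd) (nat_lit 1281))
)))) (.node (nat_lit 0x10453c1) (.node (nat_lit 0x1045351) (.node (nat_lit 0x1045349) (.node (nat_lit 0x1045345) (.leaf (nat_lit 0x1045341) (nat_lit 1282))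
 (.leaf (nat_lit 0x1045345) (nat_lit 1538))
) (.node (nat_lit 0x104534d) (.leaf (nat_lit 0x1045349) (nat_lit 1794))
 (.leaf (nat_lit 0x104534d) (nat_lit 1538))
)) (.node (nat_lit 0x1045359) (.node (nat_lit 0x1045355) (.leaf (nat_lit 0x1045351) (nat_lit 1792))
 (.leaf (nat_lit 0x1045355) (nat_lit 1536))
) (.node (nat_lit 0x104535d) (.leaf (nat_lit 0x1045359) (nat_lit 1794))
 (.leaf (nat_lit 0x104535d) (nat_lit 1538))
))) (.node (nat_lit 0x10453d1) (.node (nat_lit 0x10453c9) (.node (nat_lit 0x10453c5) (.leaf (nat_lit 0x10453c1) (nat_lit 1026))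
 (.leaf (nat_lit 0x10453c5) (nat_lit 1282))
) (.node (nat_lit 0x10453cd) (.leaf (nat_lit 0x10453c9) (nat_lit 1538))
 (.leaf (nat_lit 0x10453cd) (nat_lit 1282))
)) (.node (nat_lit 0x10453d9) (.node (nat_lit 0x10453d5) (.leaf (nat_lit 0x10453d1) (nat_lit 1536))
 (.leaf (nat_lit 0x10453d5) (nat_lit 1280))
) (.node (nat_lit 0x10453dd) (.leaf (nat_lit 0x10453d9) (nat_lit 1538))
 (.leaf (nat_lit 0x10453dd) (nat_lit 1282))
)))))) (.node (nat_lit 0x1047241) (.node (nat_lit 0x1047141) (.node (nat_lit 0x10470c1) (.node (nat_lit 0x1047051) (.node (nat_lit 0x1047049) (.node (nat_lit 0x1047045) (.leaf (nat_lit 0x1047041) (nat_lit 515))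
 (.leaf (nat_lit 0x1047045) (nat_lit 771))
) (.node (nat_lit 0x104704d) (.leaf (nat_lit 0x1047049) (nat_lit 1027))
 (.leaf (nat_lit 0x104704d) (nat_lit 771))
)) (.node (nat_lit 0x1047059) (.node (nat_lit 0x1047055) (.leaf (nat_lit 0x1047051) (nat_lit 1026))
 (.leaf (nat_lit 0x1047055) (nat_lit 770))
) (.node (nat_lit 0x104705d) (.leaf (nat_lit 0x1047059) (nat_lit 1024))
 (.leaf (nat_lit 0x104705d) (nat_lit 768))
))) (.node (nat_lit 0x10470d1) (.node (nat_lit 0x10470c9) (.node (nat_lit 0x10470c5) (.leaf (nat_lit 0x10470c1) (nat_lit 771))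
 (.leaf (nat_lit 0x10470c5) (nat_lit 1027))
) (.node (nat_lit 0x10470cd) (.leaf (nat_lit 0x10470c9) (nat_lit 1283))
 (.leaf (nat_lit 0x10470cd) (nat_lit 1027))
)) (.node (nat_lit 0x10470d9) (.node (nat_lit 0x10470d5) (.leaf (nat_lit 0x10470d1) (nat_lit 1282))
 (.leaf (nat_lit 0x10470d5) (nat_lit 1026))
) (.node (nat_lit 0x10470dd) (.leaf (nat_lit 0x10470d9) (nat_lit 1280))
 (.leaf (nat_lit 0x10470dd) (nat_lit 1024))
)))) (.node (nat_lit 0x10471c1) (.node (nat_lit 0x1047151) (.node (nat_lit 0x1047149) (.node (nat_lit 0x1047145) (.leaf (nat_lit 0x1047141) (nat_lit 1027))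
 (.leaf (nat_lit 0x1047145) (nat_lit 1283))
) (.node (nat_lit 0x104714d) (.leaf (nat_lit 0x1047149) (nat_lit 1539))
 (.leaf (nat_lit 0x104714d) (nat_lit 1283))
)) (.node (nat_lit 0x1047159) (.node (nat_lit 0x1047155) (.leaf (nat_lit 0x1047151) (nat_lit 1537))
 (.leaf (nat_lit 0x1047155) (nat_lit 1281))
) (.node (nat_lit 0x104715d) (.leaf (nat_lit 0x1047159) (nat_lit 1536))
 (.leaf (nat_lit 0x104715d) (nat_lit 1280))
))) (.node (nat_lit 0x10471d1) (.node (nat_lit 0x10471c9) (.node (nat_lit 0x10471c5) (.leaf (nat_lit 0x10471c1) (nat_lit 771))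
 (.leaf (nat_lit 0x10471c5) (nat_lit 1027))
) (.node (nat_lit 0x10471cd) (.leaf (nat_lit 0x10471c9) (nat_lit 1283))
 (.leaf (nat_lit 0x10471cd) (nat_lit 1027))
)) (.node (nat_lit 0x10471d9) (.node (nat_lit 0x10471d5) (.leaf (nat_lit 0x10471d1) (nat_lit 1280))
 (.leaf (nat_lit 0x10471d5) (nat_lit 1536))
) (.node (nat_lit 0x10471dd) (.leaf (nat_lit 0x10471d9) (nat_lit 1280))
 (.leaf (nat_lit 0x10471dd) (nat_lit 1024))
))))) (.node (nat_lit 0x1047341) (.node (nat_lit 0x10472c1) (.node (nat_lit 0x1047251) (.node (nat_lit 0x1047249) (.node (nat_lit 0x1047245) (.leaf (nat_lit 0x1047241) (nat_lit 1026))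
 (.leaf (nat_lit 0x1047245) (nat_lit 1282))
) (.node (nat_lit 0x104724d) (.leaf (nat_lit 0x1047249) (nat_lit 1537))
 (.leaf (nat_lit 0x104724d) (nat_lit 1281))
)) (.node (nat_lit 0x1047259) (.node (nat_lit 0x1047255) (.leaf (nat_lit 0x1047251) (nat_lit 1538))
 (.leaf (nat_lit 0x1047255) (nat_lit 1282))
) (.node (nat_lit 0x104725d) (.leaf (nat_lit 0x1047259) (nat_lit 1536))
 (.leaf (nat_lit 0x104725d) (nat_lit 1280))
))) (.node (nat_lit 0x10472d1) (.node (nat_lit 0x10472c9) (.node (nat_lit 0x10472c5) (.leaf (nat_lit 0x10472c1) (nat_lit 770))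
 (.leaf (nat_lit 0x10472c5) (nat_lit 1026))
) (.node (nat_lit 0x10472cd) (.leaf (nat_lit 0x10472c9) (nat_lit 1280))
 (.leaf (nat_lit 0x10472cd) (nat_lit 1536))
)) (.node (nat_lit 0x10472d9) (.node (nat_lit 0x10472d5) (.leaf (nat_lit 0x10472d1) (nat_lit 1282))
 (.leaf (nat_lit 0x10472d5) (nat_lit 1026))
) (.node (nat_lit 0x10472dd) (.leaf (nat_lit 0x10472d9) (nat_lit 1280))
 (.leaf (nat_lit 0x10472dd) (nat_lit 1024))
)))) (.node (nat_lit 0x10473c1) (.node (nat_lit 0x1047351) (.node (nat_lit 0x1047349) (.node (nat_lit 0x1047345) (.leaf (nat_lit 0x1047341) (nat_lit 1025))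
 (.leaf (nat_lit 0x1047345) (nat_lit 1281))
) (.node (nat_lit 0x104734d) (.leaf (nat_lit 0x1047349) (nat_lit 1537))
 (.leaf (nat_lit 0x104734d) (nat_lit 1281))
)) (.node (nat_lit 0x1047359) (.node (nat_lit 0x1047355) (.leaf (nat_lit 0x1047351) (nat_lit 1537))
 (.leaf (nat_lit 0x1047355) (nat_lit 1281))
) (.node (nat_lit 0x104735d) (.leaf (nat_lit 0x1047359) (nat_lit 1537))
 (.leaf (nat_lit 0x104735d) (nat_lit 1281))
))) (.node (nat_lit 0x10473d1) (.node (nat_lit 0x10473c9) (.node (nat_lit 0x10473c5) (.leaf (nat_lit 0x10473c1) (nat_lit 769))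
 (.leaf (nat_lit 0x10473c5) (nat_lit 1025))
) (.node (nat_lit 0x10473cd) (.leaf (nat_lit 0x10473c9) (nat_lit 1281))
 (.leaf (nat_lit 0x10473cd) (nat_lit 1025))
)) (.node (nat_lit 0x10473d9) (.node (nat_lit 0x10473d5) (.leaf (nat_lit 0x10473d1) (nat_lit 1281))
 (.leaf (nat_lit 0x10473d5) (nat_lit 1025))
) (.node (nat_lit 0x10473dd) (.leaf (nat_lit 0x10473d9) (nat_lit 1281))
 (.leaf (nat_lit 0x10473dd) (nat_lit 1025))
))))))))

theorem J_ok : genOK A [(nat_lit 0x1041045), (nat_lit 0x10410c1), (nat_lit 0x1043041), (nat_lit 0x1045041)] J_t (nat_lit 256) = true := by decide +kernel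

noncomputable def J7_t : ST :=
(.node (nat_lit 0x1030101010101) (.node (nat_lit 0x1014101014101) (.node (nat_lit 0x1010501010101) (.node (nat_lit 0x1010181010181) (.node (nat_lit 0x1010109010101) (.node (nat_lit 0x1010101110101) (.node (nat_lit 0x1010101012101) (.node (nat_lit 0x1010101010141) (.leaf (nat_lit 0x1010101010101) (nat_lit 0))
 (.leaf (nat_lit 0x1010101010141) (nat_lit 256))
) (.node (nat_lit 0x1010101012141) (.leaf (nat_lit 0x1010101012101) (nat_lit 1026))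
 (.leaf (nat_lit 0x1010101012141) (nat_lit 770))
)) (.node (nat_lit 0x1010101112101) (.node (nat_lit 0x1010101110141) (.leaf (nat_lit 0x1010101110101) (nat_lit 1027))
 (.leaf (nat_lit 0x1010101110141) (nat_lit 771))
) (.node (nat_lit 0x1010101112141) (.leaf (nat_lit 0x1010101112101) (nat_lit 1539))
 (.leaf (nat_lit 0x1010101112141) (nat_lit 1283))
))) (.node (nat_lit 0x1010109110101) (.node (nat_lit 0x1010109012101) (.node (nat_lit 0x1010109010141) (.leaf (nat_lit 0x1010109010101) (nat_lit 257))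
 (.leaf (nat_lit 0x1010109010141) (nat_lit 513))
) (.node (nat_lit 0x1010109012141) (.leaf (nat_lit 0x1010109012101) (nat_lit 1282))
 (.leaf (nat_lit 0x1010109012141) (nat_lit 1026))
)) (.node (nat_lit 0x1010109112101) (.node (nat_lit 0x1010109110141) (.leaf (nat_lit 0x1010109110101) (nat_lit 1283))
 (.leaf (nat_lit 0x1010109110141) (nat_lit 1027))
) (.node (nat_lit 0x1010109112141) (.leaf (nat_lit 0x1010109112101) (nat_lit 1795))
 (.leaf (nat_lit 0x1010109112141) (nat_lit 1539))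
)))) (.node (nat_lit 0x1010189010181) (.node (nat_lit 0x1010181110181) (.node (nat_lit 0x1010181012181) (.node (nat_lit 0x10101810101c1) (.leaf (nat_lit 0x1010181010181) (nat_lit 1793))
 (.leaf (nat_lit 0x10101810101c1) (nat_lit 1539))
) (.node (nat_lit 0x10101810121c1) (.leaf (nat_lit 0x1010181012181) (nat_lit 1795))
 (.leaf (nat_lit 0x10101810121c1) (nat_lit 1537))
)) (.node (nat_lit 0x1010181112181) (.node (nat_lit 0x10101811101c1) (.leaf (nat_lit 0x1010181110181) (nat_lit 769))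
 (.leaf (nat_lit 0x10101811101c1) (nat_lit 1025))
) (.node (nat_lit 0x10101811121c1) (.leaf (nat_lit 0x1010181112181) (nat_lit 1281))
 (.leaf (nat_lit 0x10101811121c1) (nat_lit 1025))
))) (.node (nat_lit 0x1010189110181) (.node (nat_lit 0x1010189012181) (.node (nat_lit 0x10101890101c1) (.leaf (nat_lit 0x1010189010181) (nat_lit 1539))
 (.leaf (nat_lit 0x10101890101c1) (nat_lit 1283))
) (.node (nat_lit 0x10101890121c1) (.leaf (nat_lit 0x1010189012181) (nat_lit 1539))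
 (.leaf (nat_lit 0x10101890121c1) (nat_lit 1283))
)) (.node (nat_lit 0x1010189112181) (.node (nat_lit 0x10101891101c1) (.leaf (nat_lit 0x1010189110181) (nat_lit 514))
 (.leaf (nat_lit 0x10101891101c1) (nat_lit 768))
) (.node (nat_lit 0x10101891121c1) (.leaf (nat_lit 0x1010189112181) (nat_lit 1024))
 (.leaf (nat_lit 0x10101891121c1) (nat_lit 770))
))))) (.node (nat_lit 0x1010581010181) (.node (nat_lit 0x1010509010101) (.node (nat_lit 0x1010501110101) (.node (nat_lit 0x1010501012101) (.node (nat_lit 0x1010501010141) (.leaf (nat_lit 0x1010501010101) (nat_lit 1026))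
 (.leaf (nat_lit 0x1010501010141) (nat_lit 1282))
) (.node (nat_lit 0x1010501012141) (.leaf (nat_lit 0x1010501012101) (nat_lit 1538))
 (.leaf (nat_lit 0x1010501012141) (nat_lit 1282))
)) (.node (nat_lit 0x1010501112101) (.node (nat_lit 0x1010501110141) (.leaf (nat_lit 0x1010501110101) (nat_lit 2051))
 (.leaf (nat_lit 0x1010501110141) (nat_lit 1795))
) (.node (nat_lit 0x1010501112141) (.leaf (nat_lit 0x1010501112101) (nat_lit 2051))
 (.leaf (nat_lit 0x1010501112141) (nat_lit 1795))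
))) (.node (nat_lit 0x1010509110101) (.node (nat_lit 0x1010509012101) (.node (nat_lit 0x1010509010141) (.leaf (nat_lit 0x1010509010101) (nat_lit 770))
 (.leaf (nat_lit 0x1010509010141) (nat_lit 1026))
) (.node (nat_lit 0x1010509012141) (.leaf (nat_lit 0x1010509012101) (nat_lit 1282))
 (.leaf (nat_lit 0x1010509012141) (nat_lit 1026))
)) (.node (nat_lit 0x1010509112101) (.node (nat_lit 0x1010509110141) (.leaf (nat_lit 0x1010509110101) (nat_lit 1795))
 (.leaf (nat_lit 0x1010509110141) (nat_lit 1539))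
) (.node (nat_lit 0x1010509112141) (.leaf (nat_lit 0x1010509112101) (nat_lit 1795))
 (.leaf (nat_lit 0x1010509112141) (nat_lit 1539))
)))) (.node (nat_lit 0x1010589010181) (.node (nat_lit 0x1010581110181) (.node (nat_lit 0x1010581012181) (.node (nat_lit 0x10105810101c1) (.leaf (nat_lit 0x1010581010181) (nat_lit 1283))
 (.leaf (nat_lit 0x10105810101c1) (nat_lit 1027))
) (.node (nat_lit 0x10105810121c1) (.leaf (nat_lit 0x1010581012181) (nat_lit 1283))
 (.leaf (nat_lit 0x10105810121c1) (nat_lit 1027))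
)) (.node (nat_lit 0x1010581112181) (.node (nat_lit 0x10105811101c1) (.leaf (nat_lit 0x1010581110181) (nat_lit 258))
 (.leaf (nat_lit 0x10105811101c1) (nat_lit 512))
) (.node (nat_lit 0x10105811121c1) (.leaf (nat_lit 0x1010581112181) (nat_lit 768))
 (.leaf (nat_lit 0x10105811121c1) (nat_lit 514))
))) (.node (nat_lit 0x1010589110181) (.node (nat_lit 0x1010589012181) (.node (nat_lit 0x10105890101c1) (.leaf (nat_lit 0x1010589010181) (nat_lit 1537))
 (.leaf (nat_lit 0x10105890101c1) (nat_lit 1283))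
) (.node (nat_lit 0x10105890121c1) (.leaf (nat_lit 0x1010589012181) (nat_lit 1539))
 (.leaf (nat_lit 0x10105890121c1) (nat_lit 1281))
)) (.node (nat_lit 0x1010589112181) (.node (nat_lit 0x10105891101c1) (.leaf (nat_lit 0x1010589110181) (nat_lit 513))
 (.leaf (nat_lit 0x10105891101c1) (nat_lit 769))
) (.node (nat_lit 0x10105891121c1) (.leaf (nat_lit 0x1010589112181) (nat_lit 1025))
 (.leaf (nat_lit 0x10105891121c1) (nat_lit 769))
)))))) (.node (nat_lit 0x1014501014101) (.node (nat_lit 0x1014181014181) (.node (nat_lit 0x1014109014101) (.node (nat_lit 0x1014101114101) (.node (nat_lit 0x1014101016101) (.node (nat_lit 0x1014101014141) (.leaf (nat_lit 0x1014101014101) (nat_lit 1793))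
 (.leaf (nat_lit 0x1014101014141) (nat_lit 1537))
) (.node (nat_lit 0x1014101016141) (.leaf (nat_lit 0x1014101016101) (nat_lit 1281))
 (.leaf (nat_lit 0x1014101016141) (nat_lit 1025))
)) (.node (nat_lit 0x1014101116101) (.node (nat_lit 0x1014101114141) (.leaf (nat_lit 0x1014101114101) (nat_lit 1793))
 (.leaf (nat_lit 0x1014101114141) (nat_lit 1537))
) (.node (nat_lit 0x1014101116141) (.leaf (nat_lit 0x1014101116101) (nat_lit 769))
 (.leaf (nat_lit 0x1014101116141) (nat_lit 1025))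
))) (.node (nat_lit 0x1014109114101) (.node (nat_lit 0x1014109016101) (.node (nat_lit 0x1014109014141) (.leaf (nat_lit 0x1014109014101) (nat_lit 1538))
 (.leaf (nat_lit 0x1014109014141) (nat_lit 1283))
) (.node (nat_lit 0x1014109016141) (.leaf (nat_lit 0x1014109016101) (nat_lit 1024))
 (.leaf (nat_lit 0x1014109016141) (nat_lit 771))
)) (.node (nat_lit 0x1014109116101) (.node (nat_lit 0x1014109114141) (.leaf (nat_lit 0x1014109114101) (nat_lit 1539))
 (.leaf (nat_lit 0x1014109114141) (nat_lit 1282))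
) (.node (nat_lit 0x1014109116141) (.leaf (nat_lit 0x1014109116101) (nat_lit 515))
 (.leaf (nat_lit 0x1014109116141) (nat_lit 768))
)))) (.node (nat_lit 0x1014189014181) (.node (nat_lit 0x1014181114181) (.node (nat_lit 0x1014181016181) (.node (nat_lit 0x10141810141c1) (.leaf (nat_lit 0x1014181014181) (nat_lit 1537))
 (.leaf (nat_lit 0x10141810141c1) (nat_lit 1281))
) (.node (nat_lit 0x10141810161c1) (.leaf (nat_lit 0x1014181016181) (nat_lit 1025))
 (.leaf (nat_lit 0x10141810161c1) (nat_lit 1281))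
)) (.node (nat_lit 0x1014181116181) (.node (nat_lit 0x10141811141c1) (.leaf (nat_lit 0x1014181114181) (nat_lit 1537))
 (.leaf (nat_lit 0x10141811141c1) (nat_lit 1281))
) (.node (nat_lit 0x10141811161c1) (.leaf (nat_lit 0x1014181116181) (nat_lit 1537))
 (.leaf (nat_lit 0x10141811161c1) (nat_lit 1281))
))) (.node (nat_lit 0x1014189114181) (.node (nat_lit 0x1014189016181) (.node (nat_lit 0x10141890141c1) (.leaf (nat_lit 0x1014189014181) (nat_lit 1283))
 (.leaf (nat_lit 0x10141890141c1) (nat_lit 1026))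
) (.node (nat_lit 0x10141890161c1) (.leaf (nat_lit 0x1014189016181) (nat_lit 771))
 (.leaf (nat_lit 0x10141890161c1) (nat_lit 1024))
)) (.node (nat_lit 0x1014189116181) (.node (nat_lit 0x10141891141c1) (.leaf (nat_lit 0x1014189114181) (nat_lit 1280))
 (.leaf (nat_lit 0x10141891141c1) (nat_lit 1027))
) (.node (nat_lit 0x10141891161c1) (.leaf (nat_lit 0x1014189116181) (nat_lit 1282))
 (.leaf (nat_lit 0x10141891161c1) (nat_lit 1027))
))))) (.node (nat_lit 0x1014581014181) (.node (nat_lit 0x1014509014101) (.node (nat_lit 0x1014501114101) (.node (nat_lit 0x1014501016101) (.node (nat_lit 0x1014501014141) (.leaf (nat_lit 0x1014501014101) (nat_lit 1794))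
 (.leaf (nat_lit 0x1014501014141) (nat_lit 1538))
) (.node (nat_lit 0x1014501016141) (.leaf (nat_lit 0x1014501016101) (nat_lit 1792))
 (.leaf (nat_lit 0x1014501016141) (nat_lit 1538))
)) (.node (nat_lit 0x1014501116101) (.node (nat_lit 0x1014501114141) (.leaf (nat_lit 0x1014501114101) (nat_lit 1794))
 (.leaf (nat_lit 0x1014501114141) (nat_lit 1538))
) (.node (nat_lit 0x1014501116141) (.leaf (nat_lit 0x1014501116101) (nat_lit 1282))
 (.leaf (nat_lit 0x1014501116141) (nat_lit 1536))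
))) (.node (nat_lit 0x1014509114101) (.node (nat_lit 0x1014509016101) (.node (nat_lit 0x1014509014141) (.leaf (nat_lit 0x1014509014101) (nat_lit 1538))
 (.leaf (nat_lit 0x1014509014141) (nat_lit 1283))
) (.node (nat_lit 0x1014509016141) (.leaf (nat_lit 0x1014509016101) (nat_lit 1536))
 (.leaf (nat_lit 0x1014509016141) (nat_lit 1283))
)) (.node (nat_lit 0x1014509116101) (.node (nat_lit 0x1014509114141) (.leaf (nat_lit 0x1014509114101) (nat_lit 1539))
 (.leaf (nat_lit 0x1014509114141) (nat_lit 1282))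
) (.node (nat_lit 0x1014509116141) (.leaf (nat_lit 0x1014509116101) (nat_lit 1027))
 (.leaf (nat_lit 0x1014509116141) (nat_lit 1280))
)))) (.node (nat_lit 0x1014589014181) (.node (nat_lit 0x1014581114181) (.node (nat_lit 0x1014581016181) (.node (nat_lit 0x10145810141c1) (.leaf (nat_lit 0x1014581014181) (nat_lit 1537))
 (.leaf (nat_lit 0x10145810141c1) (nat_lit 1282))
) (.node (nat_lit 0x10145810161c1) (.leaf (nat_lit 0x1014581016181) (nat_lit 1026))
 (.leaf (nat_lit 0x10145810161c1) (nat_lit 1280))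
)) (.node (nat_lit 0x1014581116181) (.node (nat_lit 0x10145811141c1) (.leaf (nat_lit 0x1014581114181) (nat_lit 1536))
 (.leaf (nat_lit 0x10145811141c1) (nat_lit 1282))
) (.node (nat_lit 0x10145811161c1) (.leaf (nat_lit 0x1014581116181) (nat_lit 1538))
 (.leaf (nat_lit 0x10145811161c1) (nat_lit 1281))
))) (.node (nat_lit 0x1014589114181) (.node (nat_lit 0x1014589016181) (.node (nat_lit 0x10145890141c1) (.leaf (nat_lit 0x1014589014181) (nat_lit 1283))
 (.leaf (nat_lit 0x10145890141c1) (nat_lit 1536))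
) (.node (nat_lit 0x10145890161c1) (.leaf (nat_lit 0x1014589016181) (nat_lit 771))
 (.leaf (nat_lit 0x10145890161c1) (nat_lit 1024))
)) (.node (nat_lit 0x1014589116181) (.node (nat_lit 0x10145891141c1) (.leaf (nat_lit 0x1014589114181) (nat_lit 1280))
 (.leaf (nat_lit 0x10145891141c1) (nat_lit 1027))
) (.node (nat_lit 0x10145891161c1) (.leaf (nat_lit 0x1014589116181) (nat_lit 1280))
 (.leaf (nat_lit 0x10145891161c1) (nat_lit 1027))
))))))) (.node (nat_lit 0x1034101014101) (.node (nat_lit 0x1030501010101) (.node (nat_lit 0x1030181010181) (.node (nat_lit 0x1030109010101) (.node (nat_lit 0x1030101110101) (.node (nat_lit 0x1030101012101) (.node (nat_lit 0x1030101010141) (.leaf (nat_lit 0x1030101010101) (nat_lit 1027))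
 (.leaf (nat_lit 0x1030101010141) (nat_lit 1283))
) (.node (nat_lit 0x1030101012141) (.leaf (nat_lit 0x1030101012101) (nat_lit 2051))
 (.leaf (nat_lit 0x1030101012141) (nat_lit 1795))
)) (.node (nat_lit 0x1030101112101) (.node (nat_lit 0x1030101110141) (.leaf (nat_lit 0x1030101110101) (nat_lit 1539))
 (.leaf (nat_lit 0x1030101110141) (nat_lit 1283))
) (.node (nat_lit 0x1030101112141) (.leaf (nat_lit 0x1030101112101) (nat_lit 2051))
 (.leaf (nat_lit 0x1030101112141) (nat_lit 1795))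
))) (.node (nat_lit 0x1030109110101) (.node (nat_lit 0x1030109012101) (.node (nat_lit 0x1030109010141) (.leaf (nat_lit 0x1030109010101) (nat_lit 771))
 (.leaf (nat_lit 0x1030109010141) (nat_lit 1027))
) (.node (nat_lit 0x1030109012141) (.leaf (nat_lit 0x1030109012101) (nat_lit 1795))
 (.leaf (nat_lit 0x1030109012141) (nat_lit 1539))
)) (.node (nat_lit 0x1030109112101) (.node (nat_lit 0x1030109110141) (.leaf (nat_lit 0x1030109110101) (nat_lit 1283))
 (.leaf (nat_lit 0x1030109110141) (nat_lit 1027))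
) (.node (nat_lit 0x1030109112141) (.leaf (nat_lit 0x1030109112101) (nat_lit 1795))
 (.leaf (nat_lit 0x1030109112141) (nat_lit 1539))
)))) (.node (nat_lit 0x1030189010181) (.node (nat_lit 0x1030181110181) (.node (nat_lit 0x1030181012181) (.node (nat_lit 0x10301810101c1) (.leaf (nat_lit 0x1030181010181) (nat_lit 1795))
 (.leaf (nat_lit 0x10301810101c1) (nat_lit 1539))
) (.node (nat_lit 0x10301810121c1) (.leaf (nat_lit 0x1030181012181) (nat_lit 1795))
 (.leaf (nat_lit 0x10301810121c1) (nat_lit 1539))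
)) (.node (nat_lit 0x1030181112181) (.node (nat_lit 0x10301811101c1) (.leaf (nat_lit 0x1030181110181) (nat_lit 1283))
 (.leaf (nat_lit 0x10301811101c1) (nat_lit 1539))
) (.node (nat_lit 0x10301811121c1) (.leaf (nat_lit 0x1030181112181) (nat_lit 1795))
 (.leaf (nat_lit 0x10301811121c1) (nat_lit 1539))
))) (.node (nat_lit 0x1030189110181) (.node (nat_lit 0x1030189012181) (.node (nat_lit 0x10301890101c1) (.leaf (nat_lit 0x1030189010181) (nat_lit 1539))
 (.leaf (nat_lit 0x10301890101c1) (nat_lit 1283))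
) (.node (nat_lit 0x10301890121c1) (.leaf (nat_lit 0x1030189012181) (nat_lit 1539))
 (.leaf (nat_lit 0x10301890121c1) (nat_lit 1283))
)) (.node (nat_lit 0x1030189112181) (.node (nat_lit 0x10301891101c1) (.leaf (nat_lit 0x1030189110181) (nat_lit 1027))
 (.leaf (nat_lit 0x10301891101c1) (nat_lit 1280))
) (.node (nat_lit 0x10301891121c1) (.leaf (nat_lit 0x1030189112181) (nat_lit 1536))
 (.leaf (nat_lit 0x10301891121c1) (nat_lit 1283))
))))) (.node (nat_lit 0x1030581010181) (.node (nat_lit 0x1030509010101) (.node (nat_lit 0x1030501110101) (.node (nat_lit 0x1030501012101) (.node (nat_lit 0x1030501010141) (.leaf (nat_lit 0x1030501010101) (nat_lit 1539))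
 (.leaf (nat_lit 0x1030501010141) (nat_lit 1795))
) (.node (nat_lit 0x1030501012141) (.leaf (nat_lit 0x1030501012101) (nat_lit 2051))
 (.leaf (nat_lit 0x1030501012141) (nat_lit 1795))
)) (.node (nat_lit 0x1030501112101) (.node (nat_lit 0x1030501110141) (.leaf (nat_lit 0x1030501110101) (nat_lit 2051))
 (.leaf (nat_lit 0x1030501110141) (nat_lit 1795))
) (.node (nat_lit 0x1030501112141) (.leaf (nat_lit 0x1030501112101) (nat_lit 2051))
 (.leaf (nat_lit 0x1030501112141) (nat_lit 1795))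
))) (.node (nat_lit 0x1030509110101) (.node (nat_lit 0x1030509012101) (.node (nat_lit 0x1030509010141) (.leaf (nat_lit 0x1030509010101) (nat_lit 1283))
 (.leaf (nat_lit 0x1030509010141) (nat_lit 1539))
) (.node (nat_lit 0x1030509012141) (.leaf (nat_lit 0x1030509012101) (nat_lit 1795))
 (.leaf (nat_lit 0x1030509012141) (nat_lit 1539))
)) (.node (nat_lit 0x1030509112101) (.node (nat_lit 0x1030509110141) (.leaf (nat_lit 0x1030509110101) (nat_lit 1795))
 (.leaf (nat_lit 0x1030509110141) (nat_lit 1539))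
) (.node (nat_lit 0x1030509112141) (.leaf (nat_lit 0x1030509112101) (nat_lit 1795))
 (.leaf (nat_lit 0x1030509112141) (nat_lit 1539))
)))) (.node (nat_lit 0x1030589010181) (.node (nat_lit 0x1030581110181) (.node (nat_lit 0x1030581012181) (.node (nat_lit 0x10305810101c1) (.leaf (nat_lit 0x1030581010181) (nat_lit 1795))
 (.leaf (nat_lit 0x10305810101c1) (nat_lit 1539))
) (.node (nat_lit 0x10305810121c1) (.leaf (nat_lit 0x1030581012181) (nat_lit 1795))
 (.leaf (nat_lit 0x10305810121c1) (nat_lit 1539))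
)) (.node (nat_lit 0x1030581112181) (.node (nat_lit 0x10305811101c1) (.leaf (nat_lit 0x1030581110181) (nat_lit 1283))
 (.leaf (nat_lit 0x10305811101c1) (nat_lit 1536))
) (.node (nat_lit 0x10305811121c1) (.leaf (nat_lit 0x1030581112181) (nat_lit 1792))
 (.leaf (nat_lit 0x10305811121c1) (nat_lit 1539))
))) (.node (nat_lit 0x1030589110181) (.node (nat_lit 0x1030589012181) (.node (nat_lit 0x10305890101c1) (.leaf (nat_lit 0x1030589010181) (nat_lit 1539))
 (.leaf (nat_lit 0x10305890101c1) (nat_lit 1283))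
) (.node (nat_lit 0x10305890121c1) (.leaf (nat_lit 0x1030589012181) (nat_lit 1539))
 (.leaf (nat_lit 0x10305890121c1) (nat_lit 1283))
)) (.node (nat_lit 0x1030589112181) (.node (nat_lit 0x10305891101c1) (.leaf (nat_lit 0x1030589110181) (nat_lit 1027))
 (.leaf (nat_lit 0x10305891101c1) (nat_lit 1283))
) (.node (nat_lit 0x10305891121c1) (.leaf (nat_lit 0x1030589112181) (nat_lit 1539))
 (.leaf (nat_lit 0x10305891121c1) (nat_lit 1283))
)))))) (.node (nat_lit 0x1034501014101) (.node (nat_lit 0x1034181014181) (.node (nat_lit 0x1034109014101) (.node (nat_lit 0x1034101114101) (.node (nat_lit 0x1034101016101) (.node (nat_lit 0x1034101014141) (.leaf (nat_lit 0x1034101014101) (nat_lit 1282))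
 (.leaf (nat_lit 0x1034101014141) (nat_lit 1027))
) (.node (nat_lit 0x1034101016141) (.leaf (nat_lit 0x1034101016101) (nat_lit 768))
 (.leaf (nat_lit 0x1034101016141) (nat_lit 515))
)) (.node (nat_lit 0x1034101116101) (.node (nat_lit 0x1034101114141) (.leaf (nat_lit 0x1034101114101) (nat_lit 1283))
 (.leaf (nat_lit 0x1034101114141) (nat_lit 1026))
) (.node (nat_lit 0x1034101116141) (.leaf (nat_lit 0x1034101116101) (nat_lit 259))
 (.leaf (nat_lit 0x1034101116141) (nat_lit 512))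
))) (.node (nat_lit 0x1034109114101) (.node (nat_lit 0x1034109016101) (.node (nat_lit 0x1034109014141) (.leaf (nat_lit 0x1034109014101) (nat_lit 1537))
 (.leaf (nat_lit 0x1034109014141) (nat_lit 1281))
) (.node (nat_lit 0x1034109016141) (.leaf (nat_lit 0x1034109016101) (nat_lit 1025))
 (.leaf (nat_lit 0x1034109016141) (nat_lit 769))
)) (.node (nat_lit 0x1034109116101) (.node (nat_lit 0x1034109114141) (.leaf (nat_lit 0x1034109114101) (nat_lit 1537))
 (.leaf (nat_lit 0x1034109114141) (nat_lit 1281))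
) (.node (nat_lit 0x1034109116141) (.leaf (nat_lit 0x1034109116101) (nat_lit 513))
 (.leaf (nat_lit 0x1034109116141) (nat_lit 769))
)))) (.node (nat_lit 0x1034189014181) (.node (nat_lit 0x1034181114181) (.node (nat_lit 0x1034181016181) (.node (nat_lit 0x10341810141c1) (.leaf (nat_lit 0x1034181014181) (nat_lit 1539))
 (.leaf (nat_lit 0x10341810141c1) (nat_lit 1281))
) (.node (nat_lit 0x10341810161c1) (.leaf (nat_lit 0x1034181016181) (nat_lit 1027))
 (.leaf (nat_lit 0x10341810161c1) (nat_lit 1280))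
)) (.node (nat_lit 0x1034181116181) (.node (nat_lit 0x10341811141c1) (.leaf (nat_lit 0x1034181114181) (nat_lit 1536))
 (.leaf (nat_lit 0x10341811141c1) (nat_lit 1283))
) (.node (nat_lit 0x10341811161c1) (.leaf (nat_lit 0x1034181116181) (nat_lit 1537))
 (.leaf (nat_lit 0x10341811161c1) (nat_lit 1283))
))) (.node (nat_lit 0x1034189114181) (.node (nat_lit 0x1034189016181) (.node (nat_lit 0x10341890141c1) (.leaf (nat_lit 0x1034189014181) (nat_lit 1280))
 (.leaf (nat_lit 0x10341890141c1) (nat_lit 1026))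
) (.node (nat_lit 0x10341890161c1) (.leaf (nat_lit 0x1034189016181) (nat_lit 770))
 (.leaf (nat_lit 0x10341890161c1) (nat_lit 1024))
)) (.node (nat_lit 0x1034189116181) (.node (nat_lit 0x10341891141c1) (.leaf (nat_lit 0x1034189114181) (nat_lit 1280))
 (.leaf (nat_lit 0x10341891141c1) (nat_lit 1026))
) (.node (nat_lit 0x10341891161c1) (.leaf (nat_lit 0x1034189116181) (nat_lit 1282))
 (.leaf (nat_lit 0x10341891161c1) (nat_lit 1536))
))))) (.node (nat_lit 0x1034581014181) (.node (nat_lit 0x1034509014101) (.node (nat_lit 0x1034501114101) (.node (nat_lit 0x1034501016101) (.node (nat_lit 0x1034501014141) (.leaf (nat_lit 0x1034501014101) (nat_lit 1794))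
 (.leaf (nat_lit 0x1034501014141) (nat_lit 1539))
) (.node (nat_lit 0x1034501016141) (.leaf (nat_lit 0x1034501016101) (nat_lit 1792))
 (.leaf (nat_lit 0x1034501016141) (nat_lit 1539))
)) (.node (nat_lit 0x1034501116101) (.node (nat_lit 0x1034501114141) (.leaf (nat_lit 0x1034501114101) (nat_lit 1795))
 (.leaf (nat_lit 0x1034501114141) (nat_lit 1538))
) (.node (nat_lit 0x1034501116141) (.leaf (nat_lit 0x1034501116101) (nat_lit 1283))
 (.leaf (nat_lit 0x1034501116141) (nat_lit 1536))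
))) (.node (nat_lit 0x1034509114101) (.node (nat_lit 0x1034509016101) (.node (nat_lit 0x1034509014141) (.leaf (nat_lit 0x1034509014101) (nat_lit 1538))
 (.leaf (nat_lit 0x1034509014141) (nat_lit 1282))
) (.node (nat_lit 0x1034509016141) (.leaf (nat_lit 0x1034509016101) (nat_lit 1536))
 (.leaf (nat_lit 0x1034509016141) (nat_lit 1282))
)) (.node (nat_lit 0x1034509116101) (.node (nat_lit 0x1034509114141) (.leaf (nat_lit 0x1034509114101) (nat_lit 1538))
 (.leaf (nat_lit 0x1034509114141) (nat_lit 1282))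
) (.node (nat_lit 0x1034509116141) (.leaf (nat_lit 0x1034509116101) (nat_lit 1026))
 (.leaf (nat_lit 0x1034509116141) (nat_lit 1280))
)))) (.node (nat_lit 0x1034589014181) (.node (nat_lit 0x1034581114181) (.node (nat_lit 0x1034581016181) (.node (nat_lit 0x10345810141c1) (.leaf (nat_lit 0x1034581014181) (nat_lit 1027))
 (.leaf (nat_lit 0x10345810141c1) (nat_lit 770))
) (.node (nat_lit 0x10345810161c1) (.leaf (nat_lit 0x1034581016181) (nat_lit 515))
 (.leaf (nat_lit 0x10345810161c1) (nat_lit 768))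
)) (.node (nat_lit 0x1034581116181) (.node (nat_lit 0x10345811141c1) (.leaf (nat_lit 0x1034581114181) (nat_lit 1024))
 (.leaf (nat_lit 0x10345811141c1) (nat_lit 771))
) (.node (nat_lit 0x10345811161c1) (.leaf (nat_lit 0x1034581116181) (nat_lit 1026))
 (.leaf (nat_lit 0x10345811161c1) (nat_lit 771))
))) (.node (nat_lit 0x1034589114181) (.node (nat_lit 0x1034589016181) (.node (nat_lit 0x10345890141c1) (.leaf (nat_lit 0x1034589014181) (nat_lit 1281))
 (.leaf (nat_lit 0x10345890141c1) (nat_lit 1025))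
) (.node (nat_lit 0x10345890161c1) (.leaf (nat_lit 0x1034589016181) (nat_lit 769))
 (.leaf (nat_lit 0x10345890161c1) (nat_lit 1025))
)) (.node (nat_lit 0x1034589116181) (.node (nat_lit 0x10345891141c1) (.leaf (nat_lit 0x1034589114181) (nat_lit 1281))
 (.leaf (nat_lit 0x10345891141c1) (nat_lit 1025))
) (.node (nat_lit 0x10345891161c1) (.leaf (nat_lit 0x1034589116181) (nat_lit 1281))
 (.leaf (nat_lit 0x10345891161c1) (nat_lit 1025))
))))))))

theorem J7_ok : genOK A7 [(nat_lit 0x1010101010141), (nat_lit 0x1010109010101), (nat_lit 0x1010581110181), (nat_lit 0x1034101116101)] J7_t (nat_lit 256) = true := by decide +kernel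

noncomputable def P7_t : ST :=
(.node (nat_lit 0x10230c02d9289) (.node (nat_lit 0x100d106444114) (.node (nat_lit 0x1003cc02fd289) (.node (nat_lit 0x100362b8d8b27) (.node (nat_lit 0x10032bccd8f32) (.node (nat_lit 0x10030dcdd9632) (.node (nat_lit 0x10030cdddb2b3) (.node (nat_lit 0x10030c5ddb2f3) (.node (nat_lit 0x10030c03db2c9) (.node (nat_lit 0x10030c02db2c9) (.node (nat_lit 0x10030c02d92c9) (.leaf (nat_lit 0x10030c02d9289) (nat_lit 2051))
 (.node (nat_lit 0x10030c02db289) (.leaf (nat_lit 0x10030c02d92c9) (nat_lit 2049))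
 (.leaf (nat_lit 0x10030c02db289) (nat_lit 2050))
)) (.node (nat_lit 0x10030c03d92c9) (.node (nat_lit 0x10030c03d9289) (.leaf (nat_lit 0x10030c02db2c9) (nat_lit 2304))
 (.leaf (nat_lit 0x10030c03d9289) (nat_lit 2308))
) (.node (nat_lit 0x10030c03db289) (.leaf (nat_lit 0x10030c03d92c9) (nat_lit 2306))
 (.leaf (nat_lit 0x10030c03db289) (nat_lit 2308))
))) (.node (nat_lit 0x10030c5cdb2f3) (.node (nat_lit 0x10030c5cd92f3) (.node (nat_lit 0x10030c5cd92b3) (.leaf (nat_lit 0x10030c03db2c9) (nat_lit 2306))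
 (.leaf (nat_lit 0x10030c5cd92b3) (nat_lit 1540))
) (.node (nat_lit 0x10030c5cdb2b3) (.leaf (nat_lit 0x10030c5cd92f3) (nat_lit 1796))
 (.leaf (nat_lit 0x10030c5cdb2b3) (nat_lit 1793))
)) (.node (nat_lit 0x10030c5dd92f3) (.node (nat_lit 0x10030c5dd92b3) (.leaf (nat_lit 0x10030c5cdb2f3) (nat_lit 1796))
 (.leaf (nat_lit 0x10030c5dd92b3) (nat_lit 1796))
) (.node (nat_lit 0x10030c5ddb2b3) (.leaf (nat_lit 0x10030c5dd92f3) (nat_lit 1796))
 (.leaf (nat_lit 0x10030c5ddb2b3) (nat_lit 1540))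
)))) (.node (nat_lit 0x10030c83db289) (.node (nat_lit 0x10030c82db289) (.node (nat_lit 0x10030c82d9289) (.leaf (nat_lit 0x10030c5ddb2f3) (nat_lit 1793))
 (.node (nat_lit 0x10030c82d92c9) (.leaf (nat_lit 0x10030c82d9289) (nat_lit 2048))
 (.leaf (nat_lit 0x10030c82d92c9) (nat_lit 1794))
)) (.node (nat_lit 0x10030c83d9289) (.node (nat_lit 0x10030c82db2c9) (.leaf (nat_lit 0x10030c82db289) (nat_lit 2050))
 (.leaf (nat_lit 0x10030c82db2c9) (nat_lit 2052))
) (.node (nat_lit 0x10030c83d92c9) (.leaf (nat_lit 0x10030c83d9289) (nat_lit 2050))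
 (.leaf (nat_lit 0x10030c83d92c9) (nat_lit 2052))
))) (.node (nat_lit 0x10030cdcdb2b3) (.node (nat_lit 0x10030cdcd92b3) (.node (nat_lit 0x10030c83db2c9) (.leaf (nat_lit 0x10030c83db289) (nat_lit 2050))
 (.leaf (nat_lit 0x10030c83db2c9) (nat_lit 2307))
) (.node (nat_lit 0x10030cdcd92f3) (.leaf (nat_lit 0x10030cdcd92b3) (nat_lit 1796))
 (.leaf (nat_lit 0x10030cdcd92f3) (nat_lit 1796))
)) (.node (nat_lit 0x10030cddd92b3) (.node (nat_lit 0x10030cdcdb2f3) (.leaf (nat_lit 0x10030cdcdb2b3) (nat_lit 1540))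
 (.leaf (nat_lit 0x10030cdcdb2f3) (nat_lit 1792))
) (.node (nat_lit 0x10030cddd92f3) (.leaf (nat_lit 0x10030cddd92b3) (nat_lit 1796))
 (.leaf (nat_lit 0x10030cddd92f3) (nat_lit 1796))
))))) (.node (nat_lit 0x10030d4dd9672) (.node (nat_lit 0x10030d03d9649) (.node (nat_lit 0x10030d02d9649) (.node (nat_lit 0x10030cdddb2f3) (.leaf (nat_lit 0x10030cdddb2b3) (nat_lit 1792))
 (.node (nat_lit 0x10030d02d9609) (.leaf (nat_lit 0x10030cdddb2f3) (nat_lit 1540))
 (.leaf (nat_lit 0x10030d02d9609) (nat_lit 1796))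
)) (.node (nat_lit 0x10030d02db649) (.node (nat_lit 0x10030d02db609) (.leaf (nat_lit 0x10030d02d9649) (nat_lit 2052))
 (.leaf (nat_lit 0x10030d02db609) (nat_lit 2052))
) (.node (nat_lit 0x10030d03d9609) (.leaf (nat_lit 0x10030d02db649) (nat_lit 2052))
 (.leaf (nat_lit 0x10030d03d9609) (nat_lit 1796))
))) (.node (nat_lit 0x10030d4cd9672) (.node (nat_lit 0x10030d03db649) (.node (nat_lit 0x10030d03db609) (.leaf (nat_lit 0x10030d03d9649) (nat_lit 2052))
 (.leaf (nat_lit 0x10030d03db609) (nat_lit 2049))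
) (.node (nat_lit 0x10030d4cd9632) (.leaf (nat_lit 0x10030d03db649) (nat_lit 1793))
 (.leaf (nat_lit 0x10030d4cd9632) (nat_lit 1796))
)) (.node (nat_lit 0x10030d4cdb672) (.node (nat_lit 0x10030d4cdb632) (.leaf (nat_lit 0x10030d4cd9672) (nat_lit 1537))
 (.leaf (nat_lit 0x10030d4cdb632) (nat_lit 1284))
) (.node (nat_lit 0x10030d4dd9632) (.leaf (nat_lit 0x10030d4cdb672) (nat_lit 1536))
 (.leaf (nat_lit 0x10030d4dd9632) (nat_lit 1537))
)))) (.node (nat_lit 0x10030d83d9609) (.node (nat_lit 0x10030d82d9609) (.node (nat_lit 0x10030d4ddb632) (.leaf (nat_lit 0x10030d4dd9672) (nat_lit 1281))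
 (.node (nat_lit 0x10030d4ddb672) (.leaf (nat_lit 0x10030d4ddb632) (nat_lit 1540))
 (.leaf (nat_lit 0x10030d4ddb672) (nat_lit 1793))
)) (.node (nat_lit 0x10030d82db609) (.node (nat_lit 0x10030d82d9649) (.leaf (nat_lit 0x10030d82d9609) (nat_lit 1796))
 (.leaf (nat_lit 0x10030d82d9649) (nat_lit 2052))
) (.node (nat_lit 0x10030d82db649) (.leaf (nat_lit 0x10030d82db609) (nat_lit 1796))
 (.leaf (nat_lit 0x10030d82db649) (nat_lit 2052))
))) (.node (nat_lit 0x10030dccd9632) (.node (nat_lit 0x10030d83db609) (.node (nat_lit 0x10030d83d9649) (.leaf (nat_lit 0x10030d83d9609) (nat_lit 2049))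
 (.leaf (nat_lit 0x10030d83d9649) (nat_lit 2052))
) (.node (nat_lit 0x10030d83db649) (.leaf (nat_lit 0x10030d83db609) (nat_lit 1792))
 (.leaf (nat_lit 0x10030d83db649) (nat_lit 1540))
)) (.node (nat_lit 0x10030dccdb632) (.node (nat_lit 0x10030dccd9672) (.leaf (nat_lit 0x10030dccd9632) (nat_lit 1540))
 (.leaf (nat_lit 0x10030dccd9672) (nat_lit 1284))
) (.node (nat_lit 0x10030dccdb672) (.leaf (nat_lit 0x10030dccdb632) (nat_lit 1283))
 (.leaf (nat_lit 0x10030dccdb672) (nat_lit 1536))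
)))))) (.node (nat_lit 0x100322dcdab33) (.node (nat_lit 0x1003225cdab73) (.node (nat_lit 0x10032238dab67) (.node (nat_lit 0x10030dcddb672) (.node (nat_lit 0x10030dcdd9672) (.leaf (nat_lit 0x10030dcdd9632) (nat_lit 1280))
 (.node (nat_lit 0x10030dcddb632) (.leaf (nat_lit 0x10030dcdd9672) (nat_lit 1028))
 (.leaf (nat_lit 0x10030dcddb632) (nat_lit 1539))
)) (.node (nat_lit 0x10032238d8b67) (.node (nat_lit 0x10032238d8b27) (.leaf (nat_lit 0x10030dcddb672) (nat_lit 1540))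
 (.leaf (nat_lit 0x10032238d8b27) (nat_lit 2050))
) (.node (nat_lit 0x10032238dab27) (.leaf (nat_lit 0x10032238d8b67) (nat_lit 1794))
 (.leaf (nat_lit 0x10032238dab27) (nat_lit 1794))
))) (.node (nat_lit 0x10032239dab67) (.node (nat_lit 0x10032239d8b67) (.node (nat_lit 0x10032239d8b27) (.leaf (nat_lit 0x10032238dab67) (nat_lit 2050))
 (.leaf (nat_lit 0x10032239d8b27) (nat_lit 1538))
) (.node (nat_lit 0x10032239dab27) (.leaf (nat_lit 0x10032239d8b67) (nat_lit 1794))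
 (.leaf (nat_lit 0x10032239dab27) (nat_lit 2050))
)) (.node (nat_lit 0x1003225cd8b73) (.node (nat_lit 0x1003225cd8b33) (.leaf (nat_lit 0x10032239dab67) (nat_lit 1794))
 (.leaf (nat_lit 0x1003225cd8b33) (nat_lit 1794))
) (.node (nat_lit 0x1003225cdab33) (.leaf (nat_lit 0x1003225cd8b73) (nat_lit 1538))
 (.leaf (nat_lit 0x1003225cdab33) (nat_lit 1794))
)))) (.node (nat_lit 0x100322b8dab27) (.node (nat_lit 0x1003225ddab33) (.node (nat_lit 0x1003225dd8b33) (.leaf (nat_lit 0x1003225cdab73) (nat_lit 2050))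
 (.node (nat_lit 0x1003225dd8b73) (.leaf (nat_lit 0x1003225dd8b33) (nat_lit 1794))
 (.leaf (nat_lit 0x1003225dd8b73) (nat_lit 2050))
)) (.node (nat_lit 0x100322b8d8b27) (.node (nat_lit 0x1003225ddab73) (.leaf (nat_lit 0x1003225ddab33) (nat_lit 2050))
 (.leaf (nat_lit 0x1003225ddab73) (nat_lit 2050))
) (.node (nat_lit 0x100322b8d8b67) (.leaf (nat_lit 0x100322b8d8b27) (nat_lit 1795))
 (.leaf (nat_lit 0x100322b8d8b67) (nat_lit 2051))
))) (.node (nat_lit 0x100322b9dab27) (.node (nat_lit 0x100322b9d8b27) (.node (nat_lit 0x100322b8dab67) (.leaf (nat_lit 0x100322b8dab27) (nat_lit 2050))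
 (.leaf (nat_lit 0x100322b8dab67) (nat_lit 2051))
) (.node (nat_lit 0x100322b9d8b67) (.leaf (nat_lit 0x100322b9d8b27) (nat_lit 1795))
 (.leaf (nat_lit 0x100322b9d8b67) (nat_lit 1539))
)) (.node (nat_lit 0x100322dcd8b33) (.node (nat_lit 0x100322b9dab67) (.leaf (nat_lit 0x100322b9dab27) (nat_lit 1795))
 (.leaf (nat_lit 0x100322b9dab67) (nat_lit 2051))
) (.node (nat_lit 0x100322dcd8b73) (.leaf (nat_lit 0x100322dcd8b33) (nat_lit 2050))
 (.leaf (nat_lit 0x100322dcd8b73) (nat_lit 1794))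
))))) (.node (nat_lit 0x10032b4cd8f72) (.node (nat_lit 0x10032b2ad8f6f) (.node (nat_lit 0x100322ddd8b73) (.node (nat_lit 0x100322dcdab73) (.leaf (nat_lit 0x100322dcdab33) (nat_lit 2050))
 (.node (nat_lit 0x100322ddd8b33) (.leaf (nat_lit 0x100322dcdab73) (nat_lit 2050))
 (.leaf (nat_lit 0x100322ddd8b33) (nat_lit 2050))
)) (.node (nat_lit 0x100322dddab73) (.node (nat_lit 0x100322dddab33) (.leaf (nat_lit 0x100322ddd8b73) (nat_lit 2050))
 (.leaf (nat_lit 0x100322dddab33) (nat_lit 1794))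
) (.node (nat_lit 0x10032b2ad8f2f) (.leaf (nat_lit 0x100322dddab73) (nat_lit 2050))
 (.leaf (nat_lit 0x10032b2ad8f2f) (nat_lit 1282))
))) (.node (nat_lit 0x10032b2bd8f6f) (.node (nat_lit 0x10032b2adaf6f) (.node (nat_lit 0x10032b2adaf2f) (.leaf (nat_lit 0x10032b2ad8f6f) (nat_lit 1536))
 (.leaf (nat_lit 0x10032b2adaf2f) (nat_lit 1538))
) (.node (nat_lit 0x10032b2bd8f2f) (.leaf (nat_lit 0x10032b2adaf6f) (nat_lit 1538))
 (.leaf (nat_lit 0x10032b2bd8f2f) (nat_lit 1538))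
)) (.node (nat_lit 0x10032b2bdaf6f) (.node (nat_lit 0x10032b2bdaf2f) (.leaf (nat_lit 0x10032b2bd8f6f) (nat_lit 1538))
 (.leaf (nat_lit 0x10032b2bdaf2f) (nat_lit 1536))
) (.node (nat_lit 0x10032b4cd8f32) (.leaf (nat_lit 0x10032b2bdaf6f) (nat_lit 1282))
 (.leaf (nat_lit 0x10032b4cd8f32) (nat_lit 1793))
)))) (.node (nat_lit 0x10032baad8f2f) (.node (nat_lit 0x10032b4dd8f32) (.node (nat_lit 0x10032b4cdaf32) (.leaf (nat_lit 0x10032b4cd8f72) (nat_lit 1794))
 (.node (nat_lit 0x10032b4cdaf72) (.leaf (nat_lit 0x10032b4cdaf32) (nat_lit 1793))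
 (.leaf (nat_lit 0x10032b4cdaf72) (nat_lit 1537))
)) (.node (nat_lit 0x10032b4ddaf32) (.node (nat_lit 0x10032b4dd8f72) (.leaf (nat_lit 0x10032b4dd8f32) (nat_lit 1794))
 (.leaf (nat_lit 0x10032b4dd8f72) (nat_lit 1794))
) (.node (nat_lit 0x10032b4ddaf72) (.leaf (nat_lit 0x10032b4ddaf32) (nat_lit 1794))
 (.leaf (nat_lit 0x10032b4ddaf72) (nat_lit 1793))
))) (.node (nat_lit 0x10032babd8f2f) (.node (nat_lit 0x10032baadaf2f) (.node (nat_lit 0x10032baad8f6f) (.leaf (nat_lit 0x10032baad8f2f) (nat_lit 1537))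
 (.leaf (nat_lit 0x10032baad8f6f) (nat_lit 1793))
) (.node (nat_lit 0x10032baadaf6f) (.leaf (nat_lit 0x10032baadaf2f) (nat_lit 1794))
 (.leaf (nat_lit 0x10032baadaf6f) (nat_lit 1794))
)) (.node (nat_lit 0x10032babdaf2f) (.node (nat_lit 0x10032babd8f6f) (.leaf (nat_lit 0x10032babd8f2f) (nat_lit 1794))
 (.leaf (nat_lit 0x10032babd8f6f) (nat_lit 1794))
) (.node (nat_lit 0x10032babdaf6f) (.leaf (nat_lit 0x10032babdaf2f) (nat_lit 1793))
 (.leaf (nat_lit 0x10032babdaf6f) (nat_lit 1537))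
))))))) (.node (nat_lit 0x10034c83d9289) (.node (nat_lit 0x10033eabdb8af) (.node (nat_lit 0x10033e2bdb8ef) (.node (nat_lit 0x10032bcddaf72) (.node (nat_lit 0x10032bccdaf72) (.node (nat_lit 0x10032bccd8f72) (.leaf (nat_lit 0x10032bccd8f32) (nat_lit 1538))
 (.node (nat_lit 0x10032bccdaf32) (.leaf (nat_lit 0x10032bccd8f72) (nat_lit 1794))
 (.leaf (nat_lit 0x10032bccdaf32) (nat_lit 1536))
)) (.node (nat_lit 0x10032bcdd8f72) (.node (nat_lit 0x10032bcdd8f32) (.leaf (nat_lit 0x10032bccdaf72) (nat_lit 1282))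
 (.leaf (nat_lit 0x10032bcdd8f32) (nat_lit 1794))
) (.node (nat_lit 0x10032bcddaf32) (.leaf (nat_lit 0x10032bcdd8f72) (nat_lit 1794))
 (.leaf (nat_lit 0x10032bcddaf32) (nat_lit 1539))
))) (.node (nat_lit 0x10033e2adb8ef) (.node (nat_lit 0x10033e2ad98ef) (.node (nat_lit 0x10033e2ad98af) (.leaf (nat_lit 0x10032bcddaf72) (nat_lit 1538))
 (.leaf (nat_lit 0x10033e2ad98af) (nat_lit 1284))
) (.node (nat_lit 0x10033e2adb8af) (.leaf (nat_lit 0x10033e2ad98ef) (nat_lit 1536))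
 (.leaf (nat_lit 0x10033e2adb8af) (nat_lit 1540))
)) (.node (nat_lit 0x10033e2bd98ef) (.node (nat_lit 0x10033e2bd98af) (.leaf (nat_lit 0x10033e2adb8ef) (nat_lit 1284))
 (.leaf (nat_lit 0x10033e2bd98af) (nat_lit 1536))
) (.node (nat_lit 0x10033e2bdb8af) (.leaf (nat_lit 0x10033e2bd98ef) (nat_lit 1284))
 (.leaf (nat_lit 0x10033e2bdb8af) (nat_lit 1284))
)))) (.node (nat_lit 0x10033e39db8a7) (.node (nat_lit 0x10033e38db8a7) (.node (nat_lit 0x10033e38d98a7) (.leaf (nat_lit 0x10033e2bdb8ef) (nat_lit 1540))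
 (.node (nat_lit 0x10033e38d98e7) (.leaf (nat_lit 0x10033e38d98a7) (nat_lit 1793))
 (.leaf (nat_lit 0x10033e38d98e7) (nat_lit 1540))
)) (.node (nat_lit 0x10033e39d98a7) (.node (nat_lit 0x10033e38db8e7) (.leaf (nat_lit 0x10033e38db8a7) (nat_lit 1796))
 (.leaf (nat_lit 0x10033e38db8e7) (nat_lit 1796))
) (.node (nat_lit 0x10033e39d98e7) (.leaf (nat_lit 0x10033e39d98a7) (nat_lit 1796))
 (.leaf (nat_lit 0x10033e39d98e7) (nat_lit 2052))
))) (.node (nat_lit 0x10033eaadb8af) (.node (nat_lit 0x10033eaad98af) (.node (nat_lit 0x10033e39db8e7) (.leaf (nat_lit 0x10033e39db8a7) (nat_lit 1796))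
 (.leaf (nat_lit 0x10033e39db8e7) (nat_lit 1540))
) (.node (nat_lit 0x10033eaad98ef) (.leaf (nat_lit 0x10033eaad98af) (nat_lit 1540))
 (.leaf (nat_lit 0x10033eaad98ef) (nat_lit 1796))
)) (.node (nat_lit 0x10033eabd98af) (.node (nat_lit 0x10033eaadb8ef) (.leaf (nat_lit 0x10033eaadb8af) (nat_lit 1792))
 (.leaf (nat_lit 0x10033eaadb8ef) (nat_lit 1540))
) (.node (nat_lit 0x10033eabd98ef) (.leaf (nat_lit 0x10033eabd98af) (nat_lit 1540))
 (.leaf (nat_lit 0x10033eabd98ef) (nat_lit 1540))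
))))) (.node (nat_lit 0x10034c03d92c9) (.node (nat_lit 0x10033eb9d98e7) (.node (nat_lit 0x10033eb8d98e7) (.node (nat_lit 0x10033eabdb8ef) (.leaf (nat_lit 0x10033eabdb8af) (nat_lit 1540))
 (.node (nat_lit 0x10033eb8d98a7) (.leaf (nat_lit 0x10033eabdb8ef) (nat_lit 1792))
 (.leaf (nat_lit 0x10033eb8d98a7) (nat_lit 1540))
)) (.node (nat_lit 0x10033eb8db8e7) (.node (nat_lit 0x10033eb8db8a7) (.leaf (nat_lit 0x10033eb8d98e7) (nat_lit 1792))
 (.leaf (nat_lit 0x10033eb8db8a7) (nat_lit 1796))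
) (.node (nat_lit 0x10033eb9d98a7) (.leaf (nat_lit 0x10033eb8db8e7) (nat_lit 1796))
 (.leaf (nat_lit 0x10033eb9d98a7) (nat_lit 1796))
))) (.node (nat_lit 0x10034c02d92c9) (.node (nat_lit 0x10033eb9db8e7) (.node (nat_lit 0x10033eb9db8a7) (.leaf (nat_lit 0x10033eb9d98e7) (nat_lit 2052))
 (.leaf (nat_lit 0x10033eb9db8a7) (nat_lit 1796))
) (.node (nat_lit 0x10034c02d9289) (.leaf (nat_lit 0x10033eb9db8e7) (nat_lit 1796))
 (.leaf (nat_lit 0x10034c02d9289) (nat_lit 2050))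
)) (.node (nat_lit 0x10034c02db2c9) (.node (nat_lit 0x10034c02db289) (.leaf (nat_lit 0x10034c02d92c9) (nat_lit 2050))
 (.leaf (nat_lit 0x10034c02db289) (nat_lit 2307))
) (.node (nat_lit 0x10034c03d9289) (.leaf (nat_lit 0x10034c02db2c9) (nat_lit 2052))
 (.leaf (nat_lit 0x10034c03d9289) (nat_lit 2052))
)))) (.node (nat_lit 0x10034c5dd92b3) (.node (nat_lit 0x10034c5cd92b3) (.node (nat_lit 0x10034c03db289) (.leaf (nat_lit 0x10034c03d92c9) (nat_lit 2307))
 (.node (nat_lit 0x10034c03db2c9) (.leaf (nat_lit 0x10034c03db289) (nat_lit 2052))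
 (.leaf (nat_lit 0x10034c03db2c9) (nat_lit 2308))
)) (.node (nat_lit 0x10034c5cdb2b3) (.node (nat_lit 0x10034c5cd92f3) (.leaf (nat_lit 0x10034c5cd92b3) (nat_lit 1540))
 (.leaf (nat_lit 0x10034c5cd92f3) (nat_lit 1796))
) (.node (nat_lit 0x10034c5cdb2f3) (.leaf (nat_lit 0x10034c5cdb2b3) (nat_lit 1796))
 (.leaf (nat_lit 0x10034c5cdb2f3) (nat_lit 1796))
))) (.node (nat_lit 0x10034c82d9289) (.node (nat_lit 0x10034c5ddb2b3) (.node (nat_lit 0x10034c5dd92f3) (.leaf (nat_lit 0x10034c5dd92b3) (nat_lit 1540))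
 (.leaf (nat_lit 0x10034c5dd92f3) (nat_lit 1792))
) (.node (nat_lit 0x10034c5ddb2f3) (.leaf (nat_lit 0x10034c5ddb2b3) (nat_lit 1536))
 (.leaf (nat_lit 0x10034c5ddb2f3) (nat_lit 1284))
)) (.node (nat_lit 0x10034c82db289) (.node (nat_lit 0x10034c82d92c9) (.leaf (nat_lit 0x10034c82d9289) (nat_lit 2050))
 (.leaf (nat_lit 0x10034c82d92c9) (nat_lit 2051))
) (.node (nat_lit 0x10034c82db2c9) (.leaf (nat_lit 0x10034c82db289) (nat_lit 2052))
 (.leaf (nat_lit 0x10034c82db2c9) (nat_lit 2306))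
)))))) (.node (nat_lit 0x10034d82db609) (.node (nat_lit 0x10034d02db649) (.node (nat_lit 0x10034cdcdb2f3) (.node (nat_lit 0x10034c83db2c9) (.node (nat_lit 0x10034c83d92c9) (.leaf (nat_lit 0x10034c83d9289) (nat_lit 2052))
 (.node (nat_lit 0x10034c83db289) (.leaf (nat_lit 0x10034c83d92c9) (nat_lit 2052))
 (.leaf (nat_lit 0x10034c83db289) (nat_lit 2051))
)) (.node (nat_lit 0x10034cdcd92f3) (.node (nat_lit 0x10034cdcd92b3) (.leaf (nat_lit 0x10034c83db2c9) (nat_lit 2052))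
 (.leaf (nat_lit 0x10034cdcd92b3) (nat_lit 1796))
) (.node (nat_lit 0x10034cdcdb2b3) (.leaf (nat_lit 0x10034cdcd92f3) (nat_lit 2052))
 (.leaf (nat_lit 0x10034cdcdb2b3) (nat_lit 2049))
))) (.node (nat_lit 0x10034cdddb2f3) (.node (nat_lit 0x10034cddd92f3) (.node (nat_lit 0x10034cddd92b3) (.leaf (nat_lit 0x10034cdcdb2f3) (nat_lit 1796))
 (.leaf (nat_lit 0x10034cddd92b3) (nat_lit 1540))
) (.node (nat_lit 0x10034cdddb2b3) (.leaf (nat_lit 0x10034cddd92f3) (nat_lit 1796))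
 (.leaf (nat_lit 0x10034cdddb2b3) (nat_lit 1796))
)) (.node (nat_lit 0x10034d02d9649) (.node (nat_lit 0x10034d02d9609) (.leaf (nat_lit 0x10034cdddb2f3) (nat_lit 1537))
 (.leaf (nat_lit 0x10034d02d9609) (nat_lit 2049))
) (.node (nat_lit 0x10034d02db609) (.leaf (nat_lit 0x10034d02d9649) (nat_lit 2052))
 (.leaf (nat_lit 0x10034d02db609) (nat_lit 2308))
)))) (.node (nat_lit 0x10034d4cdb632) (.node (nat_lit 0x10034d03db609) (.node (nat_lit 0x10034d03d9609) (.leaf (nat_lit 0x10034d02db649) (nat_lit 2052))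
 (.node (nat_lit 0x10034d03d9649) (.leaf (nat_lit 0x10034d03d9609) (nat_lit 2049))
 (.leaf (nat_lit 0x10034d03d9649) (nat_lit 2052))
)) (.node (nat_lit 0x10034d4cd9632) (.node (nat_lit 0x10034d03db649) (.leaf (nat_lit 0x10034d03db609) (nat_lit 1796))
 (.leaf (nat_lit 0x10034d03db649) (nat_lit 2048))
) (.node (nat_lit 0x10034d4cd9672) (.leaf (nat_lit 0x10034d4cd9632) (nat_lit 1540))
 (.leaf (nat_lit 0x10034d4cd9672) (nat_lit 1793))
))) (.node (nat_lit 0x10034d4ddb632) (.node (nat_lit 0x10034d4dd9632) (.node (nat_lit 0x10034d4cdb672) (.leaf (nat_lit 0x10034d4cdb632) (nat_lit 1540))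
 (.leaf (nat_lit 0x10034d4cdb672) (nat_lit 1540))
) (.node (nat_lit 0x10034d4dd9672) (.leaf (nat_lit 0x10034d4dd9632) (nat_lit 1793))
 (.leaf (nat_lit 0x10034d4dd9672) (nat_lit 1537))
)) (.node (nat_lit 0x10034d82d9609) (.node (nat_lit 0x10034d4ddb672) (.leaf (nat_lit 0x10034d4ddb632) (nat_lit 1796))
 (.leaf (nat_lit 0x10034d4ddb672) (nat_lit 1537))
) (.node (nat_lit 0x10034d82d9649) (.leaf (nat_lit 0x10034d82d9609) (nat_lit 1796))
 (.leaf (nat_lit 0x10034d82d9649) (nat_lit 2052))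
))))) (.node (nat_lit 0x10036238d8b67) (.node (nat_lit 0x10034dccd9672) (.node (nat_lit 0x10034d83d9649) (.node (nat_lit 0x10034d82db649) (.leaf (nat_lit 0x10034d82db609) (nat_lit 2052))
 (.node (nat_lit 0x10034d83d9609) (.leaf (nat_lit 0x10034d82db649) (nat_lit 2052))
 (.leaf (nat_lit 0x10034d83d9609) (nat_lit 1796))
)) (.node (nat_lit 0x10034d83db649) (.node (nat_lit 0x10034d83db609) (.leaf (nat_lit 0x10034d83d9649) (nat_lit 2052))
 (.leaf (nat_lit 0x10034d83db609) (nat_lit 1796))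
) (.node (nat_lit 0x10034dccd9632) (.leaf (nat_lit 0x10034d83db649) (nat_lit 2052))
 (.leaf (nat_lit 0x10034dccd9632) (nat_lit 1539))
))) (.node (nat_lit 0x10034dcdd9672) (.node (nat_lit 0x10034dccdb672) (.node (nat_lit 0x10034dccdb632) (.leaf (nat_lit 0x10034dccd9672) (nat_lit 1540))
 (.leaf (nat_lit 0x10034dccdb632) (nat_lit 1284))
) (.node (nat_lit 0x10034dcdd9632) (.leaf (nat_lit 0x10034dccdb672) (nat_lit 1540))
 (.leaf (nat_lit 0x10034dcdd9632) (nat_lit 1536))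
)) (.node (nat_lit 0x10034dcddb672) (.node (nat_lit 0x10034dcddb632) (.leaf (nat_lit 0x10034dcdd9672) (nat_lit 1284))
 (.leaf (nat_lit 0x10034dcddb632) (nat_lit 1536))
) (.node (nat_lit 0x10036238d8b27) (.leaf (nat_lit 0x10034dcddb672) (nat_lit 1284))
 (.leaf (nat_lit 0x10036238d8b27) (nat_lit 2050))
)))) (.node (nat_lit 0x1003625cd8b33) (.node (nat_lit 0x10036239d8b27) (.node (nat_lit 0x10036238dab27) (.leaf (nat_lit 0x10036238d8b67) (nat_lit 1794))
 (.node (nat_lit 0x10036238dab67) (.leaf (nat_lit 0x10036238dab27) (nat_lit 2051))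
 (.leaf (nat_lit 0x10036238dab67) (nat_lit 1795))
)) (.node (nat_lit 0x10036239dab27) (.node (nat_lit 0x10036239d8b67) (.leaf (nat_lit 0x10036239d8b27) (nat_lit 1795))
 (.leaf (nat_lit 0x10036239d8b67) (nat_lit 1795))
) (.node (nat_lit 0x10036239dab67) (.leaf (nat_lit 0x10036239dab27) (nat_lit 2050))
 (.leaf (nat_lit 0x10036239dab67) (nat_lit 1794))
))) (.node (nat_lit 0x1003625dd8b33) (.node (nat_lit 0x1003625cdab33) (.node (nat_lit 0x1003625cd8b73) (.leaf (nat_lit 0x1003625cd8b33) (nat_lit 2050))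
 (.leaf (nat_lit 0x1003625cd8b73) (nat_lit 2050))
) (.node (nat_lit 0x1003625cdab73) (.leaf (nat_lit 0x1003625cdab33) (nat_lit 1794))
 (.leaf (nat_lit 0x1003625cdab73) (nat_lit 2050))
)) (.node (nat_lit 0x1003625ddab33) (.node (nat_lit 0x1003625dd8b73) (.leaf (nat_lit 0x1003625dd8b33) (nat_lit 1794))
 (.leaf (nat_lit 0x1003625dd8b73) (nat_lit 2050))
) (.node (nat_lit 0x1003625ddab73) (.leaf (nat_lit 0x1003625ddab33) (nat_lit 2050))
 (.leaf (nat_lit 0x1003625ddab73) (nat_lit 2050))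
)))))))) (.node (nat_lit 0x10038d4efd63b) (.node (nat_lit 0x10037e39d98a7) (.node (nat_lit 0x10036b4ddaf32) (.node (nat_lit 0x100362dddab73) (.node (nat_lit 0x100362b9dab67) (.node (nat_lit 0x100362b8dab67) (.node (nat_lit 0x100362b8d8b67) (.leaf (nat_lit 0x100362b8d8b27) (nat_lit 1795))
 (.node (nat_lit 0x100362b8dab27) (.leaf (nat_lit 0x100362b8d8b67) (nat_lit 1794))
 (.leaf (nat_lit 0x100362b8dab27) (nat_lit 2050))
)) (.node (nat_lit 0x100362b9d8b67) (.node (nat_lit 0x100362b9d8b27) (.leaf (nat_lit 0x100362b8dab67) (nat_lit 2051))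
 (.leaf (nat_lit 0x100362b9d8b27) (nat_lit 1794))
) (.node (nat_lit 0x100362b9dab27) (.leaf (nat_lit 0x100362b9d8b67) (nat_lit 1794))
 (.leaf (nat_lit 0x100362b9dab27) (nat_lit 1795))
))) (.node (nat_lit 0x100362dcdab73) (.node (nat_lit 0x100362dcd8b73) (.node (nat_lit 0x100362dcd8b33) (.leaf (nat_lit 0x100362b9dab67) (nat_lit 2051))
 (.leaf (nat_lit 0x100362dcd8b33) (nat_lit 1794))
) (.node (nat_lit 0x100362dcdab33) (.leaf (nat_lit 0x100362dcd8b73) (nat_lit 1794))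
 (.leaf (nat_lit 0x100362dcdab33) (nat_lit 2052))
)) (.node (nat_lit 0x100362ddd8b73) (.node (nat_lit 0x100362ddd8b33) (.leaf (nat_lit 0x100362dcdab73) (nat_lit 1796))
 (.leaf (nat_lit 0x100362ddd8b33) (nat_lit 2050))
) (.node (nat_lit 0x100362dddab33) (.leaf (nat_lit 0x100362ddd8b73) (nat_lit 2050))
 (.leaf (nat_lit 0x100362dddab33) (nat_lit 2306))
)))) (.node (nat_lit 0x10036b2bdaf2f) (.node (nat_lit 0x10036b2adaf2f) (.node (nat_lit 0x10036b2ad8f2f) (.leaf (nat_lit 0x100362dddab73) (nat_lit 2306))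
 (.node (nat_lit 0x10036b2ad8f6f) (.leaf (nat_lit 0x10036b2ad8f2f) (nat_lit 1794))
 (.leaf (nat_lit 0x10036b2ad8f6f) (nat_lit 1793))
)) (.node (nat_lit 0x10036b2bd8f2f) (.node (nat_lit 0x10036b2adaf6f) (.leaf (nat_lit 0x10036b2adaf2f) (nat_lit 1538))
 (.leaf (nat_lit 0x10036b2adaf6f) (nat_lit 1538))
) (.node (nat_lit 0x10036b2bd8f6f) (.leaf (nat_lit 0x10036b2bd8f2f) (nat_lit 1538))
 (.leaf (nat_lit 0x10036b2bd8f6f) (nat_lit 1538))
))) (.node (nat_lit 0x10036b4cdaf32) (.node (nat_lit 0x10036b4cd8f32) (.node (nat_lit 0x10036b2bdaf6f) (.leaf (nat_lit 0x10036b2bdaf2f) (nat_lit 1793))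
 (.leaf (nat_lit 0x10036b2bdaf6f) (nat_lit 1794))
) (.node (nat_lit 0x10036b4cd8f72) (.leaf (nat_lit 0x10036b4cd8f32) (nat_lit 1794))
 (.leaf (nat_lit 0x10036b4cd8f72) (nat_lit 1793))
)) (.node (nat_lit 0x10036b4dd8f32) (.node (nat_lit 0x10036b4cdaf72) (.leaf (nat_lit 0x10036b4cdaf32) (nat_lit 1794))
 (.leaf (nat_lit 0x10036b4cdaf72) (nat_lit 1538))
) (.node (nat_lit 0x10036b4dd8f72) (.leaf (nat_lit 0x10036b4dd8f32) (nat_lit 2050))
 (.leaf (nat_lit 0x10036b4dd8f72) (nat_lit 1794))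
))))) (.node (nat_lit 0x10036bcdd8f72) (.node (nat_lit 0x10036babd8f6f) (.node (nat_lit 0x10036baad8f6f) (.node (nat_lit 0x10036b4ddaf72) (.leaf (nat_lit 0x10036b4ddaf32) (nat_lit 1538))
 (.node (nat_lit 0x10036baad8f2f) (.leaf (nat_lit 0x10036b4ddaf72) (nat_lit 1794))
 (.leaf (nat_lit 0x10036baad8f2f) (nat_lit 1538))
)) (.node (nat_lit 0x10036baadaf6f) (.node (nat_lit 0x10036baadaf2f) (.leaf (nat_lit 0x10036baad8f6f) (nat_lit 1538))
 (.leaf (nat_lit 0x10036baadaf2f) (nat_lit 1794))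
) (.node (nat_lit 0x10036babd8f2f) (.leaf (nat_lit 0x10036baadaf6f) (nat_lit 1794))
 (.leaf (nat_lit 0x10036babd8f2f) (nat_lit 1794))
))) (.node (nat_lit 0x10036bccd8f72) (.node (nat_lit 0x10036babdaf6f) (.node (nat_lit 0x10036babdaf2f) (.leaf (nat_lit 0x10036babd8f6f) (nat_lit 1794))
 (.leaf (nat_lit 0x10036babdaf2f) (nat_lit 1538))
) (.node (nat_lit 0x10036bccd8f32) (.leaf (nat_lit 0x10036babdaf6f) (nat_lit 1538))
 (.leaf (nat_lit 0x10036bccd8f32) (nat_lit 1794))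
)) (.node (nat_lit 0x10036bccdaf72) (.node (nat_lit 0x10036bccdaf32) (.leaf (nat_lit 0x10036bccd8f72) (nat_lit 1538))
 (.leaf (nat_lit 0x10036bccdaf32) (nat_lit 1792))
) (.node (nat_lit 0x10036bcdd8f32) (.leaf (nat_lit 0x10036bccdaf72) (nat_lit 1538))
 (.leaf (nat_lit 0x10036bcdd8f32) (nat_lit 1795))
)))) (.node (nat_lit 0x10037e2bd98af) (.node (nat_lit 0x10037e2ad98af) (.node (nat_lit 0x10036bcddaf32) (.leaf (nat_lit 0x10036bcdd8f72) (nat_lit 1794))
 (.node (nat_lit 0x10036bcddaf72) (.leaf (nat_lit 0x10036bcddaf32) (nat_lit 1538))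
 (.leaf (nat_lit 0x10036bcddaf72) (nat_lit 1794))
)) (.node (nat_lit 0x10037e2adb8af) (.node (nat_lit 0x10037e2ad98ef) (.leaf (nat_lit 0x10037e2ad98af) (nat_lit 1280))
 (.leaf (nat_lit 0x10037e2ad98ef) (nat_lit 1028))
) (.node (nat_lit 0x10037e2adb8ef) (.leaf (nat_lit 0x10037e2adb8af) (nat_lit 1537))
 (.leaf (nat_lit 0x10037e2adb8ef) (nat_lit 1284))
))) (.node (nat_lit 0x10037e38d98a7) (.node (nat_lit 0x10037e2bdb8af) (.node (nat_lit 0x10037e2bd98ef) (.leaf (nat_lit 0x10037e2bd98af) (nat_lit 1028))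
 (.leaf (nat_lit 0x10037e2bd98ef) (nat_lit 1280))
) (.node (nat_lit 0x10037e2bdb8ef) (.leaf (nat_lit 0x10037e2bdb8af) (nat_lit 1284))
 (.leaf (nat_lit 0x10037e2bdb8ef) (nat_lit 1537))
)) (.node (nat_lit 0x10037e38db8a7) (.node (nat_lit 0x10037e38d98e7) (.leaf (nat_lit 0x10037e38d98a7) (nat_lit 1284))
 (.leaf (nat_lit 0x10037e38d98e7) (nat_lit 1536))
) (.node (nat_lit 0x10037e38db8e7) (.leaf (nat_lit 0x10037e38db8a7) (nat_lit 1792))
 (.leaf (nat_lit 0x10037e38db8e7) (nat_lit 1540))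
)))))) (.node (nat_lit 0x10038c5eff2ba) (.node (nat_lit 0x10037eb8db8e7) (.node (nat_lit 0x10037eaadb8ef) (.node (nat_lit 0x10037e39db8e7) (.node (nat_lit 0x10037e39d98e7) (.leaf (nat_lit 0x10037e39d98a7) (nat_lit 1796))
 (.node (nat_lit 0x10037e39db8a7) (.leaf (nat_lit 0x10037e39d98e7) (nat_lit 1796))
 (.leaf (nat_lit 0x10037e39db8a7) (nat_lit 1540))
)) (.node (nat_lit 0x10037eaad98ef) (.node (nat_lit 0x10037eaad98af) (.leaf (nat_lit 0x10037e39db8e7) (nat_lit 1540))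
 (.leaf (nat_lit 0x10037eaad98af) (nat_lit 1540))
) (.node (nat_lit 0x10037eaadb8af) (.leaf (nat_lit 0x10037eaad98ef) (nat_lit 1281))
 (.leaf (nat_lit 0x10037eaadb8af) (nat_lit 1284))
))) (.node (nat_lit 0x10037eabdb8ef) (.node (nat_lit 0x10037eabd98ef) (.node (nat_lit 0x10037eabd98af) (.leaf (nat_lit 0x10037eaadb8ef) (nat_lit 1536))
 (.leaf (nat_lit 0x10037eabd98af) (nat_lit 1281))
) (.node (nat_lit 0x10037eabdb8af) (.leaf (nat_lit 0x10037eabd98ef) (nat_lit 1540))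
 (.leaf (nat_lit 0x10037eabdb8af) (nat_lit 1536))
)) (.node (nat_lit 0x10037eb8d98e7) (.node (nat_lit 0x10037eb8d98a7) (.leaf (nat_lit 0x10037eabdb8ef) (nat_lit 1284))
 (.leaf (nat_lit 0x10037eb8d98a7) (nat_lit 1537))
) (.node (nat_lit 0x10037eb8db8a7) (.leaf (nat_lit 0x10037eb8d98e7) (nat_lit 1796))
 (.leaf (nat_lit 0x10037eb8db8a7) (nat_lit 1792))
)))) (.node (nat_lit 0x10038c02ff289) (.node (nat_lit 0x10037eb9db8a7) (.node (nat_lit 0x10037eb9d98a7) (.leaf (nat_lit 0x10037eb8db8e7) (nat_lit 1540))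
 (.node (nat_lit 0x10037eb9d98e7) (.leaf (nat_lit 0x10037eb9d98a7) (nat_lit 1796))
 (.leaf (nat_lit 0x10037eb9d98e7) (nat_lit 1796))
)) (.node (nat_lit 0x10038c02fd289) (.node (nat_lit 0x10037eb9db8e7) (.leaf (nat_lit 0x10037eb9db8a7) (nat_lit 1796))
 (.leaf (nat_lit 0x10037eb9db8e7) (nat_lit 1540))
) (.node (nat_lit 0x10038c02fd2c9) (.leaf (nat_lit 0x10038c02fd289) (nat_lit 2049))
 (.leaf (nat_lit 0x10038c02fd2c9) (nat_lit 1796))
))) (.node (nat_lit 0x10038c03ff289) (.node (nat_lit 0x10038c03fd289) (.node (nat_lit 0x10038c02ff2c9) (.leaf (nat_lit 0x10038c02ff289) (nat_lit 2052))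
 (.leaf (nat_lit 0x10038c02ff2c9) (nat_lit 2052))
) (.node (nat_lit 0x10038c03fd2c9) (.leaf (nat_lit 0x10038c03fd289) (nat_lit 2048))
 (.leaf (nat_lit 0x10038c03fd2c9) (nat_lit 1796))
)) (.node (nat_lit 0x10038c5efd2ba) (.node (nat_lit 0x10038c03ff2c9) (.leaf (nat_lit 0x10038c03ff289) (nat_lit 2052))
 (.leaf (nat_lit 0x10038c03ff2c9) (nat_lit 1796))
) (.node (nat_lit 0x10038c5efd2fa) (.leaf (nat_lit 0x10038c5efd2ba) (nat_lit 1540))
 (.leaf (nat_lit 0x10038c5efd2fa) (nat_lit 1540))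
))))) (.node (nat_lit 0x10038cdefd2fa) (.node (nat_lit 0x10038c82fd2c9) (.node (nat_lit 0x10038c5ffd2fa) (.node (nat_lit 0x10038c5eff2fa) (.leaf (nat_lit 0x10038c5eff2ba) (nat_lit 1284))
 (.node (nat_lit 0x10038c5ffd2ba) (.leaf (nat_lit 0x10038c5eff2fa) (nat_lit 1536))
 (.leaf (nat_lit 0x10038c5ffd2ba) (nat_lit 1796))
)) (.node (nat_lit 0x10038c5fff2fa) (.node (nat_lit 0x10038c5fff2ba) (.leaf (nat_lit 0x10038c5ffd2fa) (nat_lit 1540))
 (.leaf (nat_lit 0x10038c5fff2ba) (nat_lit 1540))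
) (.node (nat_lit 0x10038c82fd289) (.leaf (nat_lit 0x10038c5fff2fa) (nat_lit 1796))
 (.leaf (nat_lit 0x10038c82fd289) (nat_lit 1796))
))) (.node (nat_lit 0x10038c83fd2c9) (.node (nat_lit 0x10038c82ff2c9) (.node (nat_lit 0x10038c82ff289) (.leaf (nat_lit 0x10038c82fd2c9) (nat_lit 2052))
 (.leaf (nat_lit 0x10038c82ff289) (nat_lit 2052))
) (.node (nat_lit 0x10038c83fd289) (.leaf (nat_lit 0x10038c82ff2c9) (nat_lit 2052))
 (.leaf (nat_lit 0x10038c83fd289) (nat_lit 2052))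
)) (.node (nat_lit 0x10038c83ff2c9) (.node (nat_lit 0x10038c83ff289) (.leaf (nat_lit 0x10038c83fd2c9) (nat_lit 2049))
 (.leaf (nat_lit 0x10038c83ff289) (nat_lit 2052))
) (.node (nat_lit 0x10038cdefd2ba) (.leaf (nat_lit 0x10038c83ff2c9) (nat_lit 2052))
 (.leaf (nat_lit 0x10038cdefd2ba) (nat_lit 1796))
)))) (.node (nat_lit 0x10038d02fd609) (.node (nat_lit 0x10038cdffd2ba) (.node (nat_lit 0x10038cdeff2ba) (.leaf (nat_lit 0x10038cdefd2fa) (nat_lit 1540))
 (.node (nat_lit 0x10038cdeff2fa) (.leaf (nat_lit 0x10038cdeff2ba) (nat_lit 1537))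
 (.leaf (nat_lit 0x10038cdeff2fa) (nat_lit 1793))
)) (.node (nat_lit 0x10038cdfff2ba) (.node (nat_lit 0x10038cdffd2fa) (.leaf (nat_lit 0x10038cdffd2ba) (nat_lit 1540))
 (.leaf (nat_lit 0x10038cdffd2fa) (nat_lit 1793))
) (.node (nat_lit 0x10038cdfff2fa) (.leaf (nat_lit 0x10038cdfff2ba) (nat_lit 1796))
 (.leaf (nat_lit 0x10038cdfff2fa) (nat_lit 1796))
))) (.node (nat_lit 0x10038d03fd609) (.node (nat_lit 0x10038d02ff609) (.node (nat_lit 0x10038d02fd649) (.leaf (nat_lit 0x10038d02fd609) (nat_lit 2052))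
 (.leaf (nat_lit 0x10038d02fd649) (nat_lit 2050))
) (.node (nat_lit 0x10038d02ff649) (.leaf (nat_lit 0x10038d02ff609) (nat_lit 2050))
 (.leaf (nat_lit 0x10038d02ff649) (nat_lit 2052))
)) (.node (nat_lit 0x10038d03ff609) (.node (nat_lit 0x10038d03fd649) (.leaf (nat_lit 0x10038d03fd609) (nat_lit 1794))
 (.leaf (nat_lit 0x10038d03fd649) (nat_lit 2052))
) (.node (nat_lit 0x10038d03ff649) (.leaf (nat_lit 0x10038d03ff609) (nat_lit 2306))
 (.leaf (nat_lit 0x10038d03ff649) (nat_lit 2050))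
))))))) (.node (nat_lit 0x1003aa3bfcbae) (.node (nat_lit 0x1003a329fefa6) (.node (nat_lit 0x10038d83ff649) (.node (nat_lit 0x10038d4fff67b) (.node (nat_lit 0x10038d4eff67b) (.node (nat_lit 0x10038d4efd67b) (.leaf (nat_lit 0x10038d4efd63b) (nat_lit 1796))
 (.node (nat_lit 0x10038d4eff63b) (.leaf (nat_lit 0x10038d4efd67b) (nat_lit 1796))
 (.leaf (nat_lit 0x10038d4eff63b) (nat_lit 2049))
)) (.node (nat_lit 0x10038d4ffd67b) (.node (nat_lit 0x10038d4ffd63b) (.leaf (nat_lit 0x10038d4eff67b) (nat_lit 1793))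
 (.leaf (nat_lit 0x10038d4ffd63b) (nat_lit 1796))
) (.node (nat_lit 0x10038d4fff63b) (.leaf (nat_lit 0x10038d4ffd67b) (nat_lit 2048))
 (.leaf (nat_lit 0x10038d4fff63b) (nat_lit 1796))
))) (.node (nat_lit 0x10038d82ff649) (.node (nat_lit 0x10038d82fd649) (.node (nat_lit 0x10038d82fd609) (.leaf (nat_lit 0x10038d4fff67b) (nat_lit 1796))
 (.leaf (nat_lit 0x10038d82fd609) (nat_lit 2051))
) (.node (nat_lit 0x10038d82ff609) (.leaf (nat_lit 0x10038d82fd649) (nat_lit 2307))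
 (.leaf (nat_lit 0x10038d82ff609) (nat_lit 2306))
)) (.node (nat_lit 0x10038d83fd649) (.node (nat_lit 0x10038d83fd609) (.leaf (nat_lit 0x10038d82ff649) (nat_lit 2308))
 (.leaf (nat_lit 0x10038d83fd609) (nat_lit 2051))
) (.node (nat_lit 0x10038d83ff609) (.leaf (nat_lit 0x10038d83fd649) (nat_lit 1795))
 (.leaf (nat_lit 0x10038d83ff609) (nat_lit 2051))
)))) (.node (nat_lit 0x10038dcfff63b) (.node (nat_lit 0x10038dceff63b) (.node (nat_lit 0x10038dcefd63b) (.leaf (nat_lit 0x10038d83ff649) (nat_lit 2308))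
 (.node (nat_lit 0x10038dcefd67b) (.leaf (nat_lit 0x10038dcefd63b) (nat_lit 1540))
 (.leaf (nat_lit 0x10038dcefd67b) (nat_lit 1792))
)) (.node (nat_lit 0x10038dcffd63b) (.node (nat_lit 0x10038dceff67b) (.leaf (nat_lit 0x10038dceff63b) (nat_lit 1792))
 (.leaf (nat_lit 0x10038dceff67b) (nat_lit 1540))
) (.node (nat_lit 0x10038dcffd67b) (.leaf (nat_lit 0x10038dcffd63b) (nat_lit 1795))
 (.leaf (nat_lit 0x10038dcffd67b) (nat_lit 2048))
))) (.node (nat_lit 0x1003a328fefa6) (.node (nat_lit 0x1003a328fcfa6) (.node (nat_lit 0x10038dcfff67b) (.leaf (nat_lit 0x10038dcfff63b) (nat_lit 1540))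
 (.leaf (nat_lit 0x10038dcfff67b) (nat_lit 1796))
) (.node (nat_lit 0x1003a328fcfe6) (.leaf (nat_lit 0x1003a328fcfa6) (nat_lit 1794))
 (.leaf (nat_lit 0x1003a328fcfe6) (nat_lit 2048))
)) (.node (nat_lit 0x1003a329fcfa6) (.node (nat_lit 0x1003a328fefe6) (.leaf (nat_lit 0x1003a328fefa6) (nat_lit 1793))
 (.leaf (nat_lit 0x1003a328fefe6) (nat_lit 1793))
) (.node (nat_lit 0x1003a329fcfe6) (.leaf (nat_lit 0x1003a329fcfa6) (nat_lit 2049))
 (.leaf (nat_lit 0x1003a329fcfe6) (nat_lit 1793))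
))))) (.node (nat_lit 0x1003a3a9fcfe6) (.node (nat_lit 0x1003a35ffcffa) (.node (nat_lit 0x1003a35efcffa) (.node (nat_lit 0x1003a329fefe6) (.leaf (nat_lit 0x1003a329fefa6) (nat_lit 1794))
 (.node (nat_lit 0x1003a35efcfba) (.leaf (nat_lit 0x1003a329fefe6) (nat_lit 2048))
 (.leaf (nat_lit 0x1003a35efcfba) (nat_lit 1538))
)) (.node (nat_lit 0x1003a35efeffa) (.node (nat_lit 0x1003a35efefba) (.leaf (nat_lit 0x1003a35efcffa) (nat_lit 1792))
 (.leaf (nat_lit 0x1003a35efefba) (nat_lit 1795))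
) (.node (nat_lit 0x1003a35ffcfba) (.leaf (nat_lit 0x1003a35efeffa) (nat_lit 1794))
 (.leaf (nat_lit 0x1003a35ffcfba) (nat_lit 1794))
))) (.node (nat_lit 0x1003a3a8fcfe6) (.node (nat_lit 0x1003a35ffeffa) (.node (nat_lit 0x1003a35ffefba) (.leaf (nat_lit 0x1003a35ffcffa) (nat_lit 1794))
 (.leaf (nat_lit 0x1003a35ffefba) (nat_lit 1792))
) (.node (nat_lit 0x1003a3a8fcfa6) (.leaf (nat_lit 0x1003a35ffeffa) (nat_lit 1538))
 (.leaf (nat_lit 0x1003a3a8fcfa6) (nat_lit 1794))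
)) (.node (nat_lit 0x1003a3a8fefe6) (.node (nat_lit 0x1003a3a8fefa6) (.leaf (nat_lit 0x1003a3a8fcfe6) (nat_lit 1794))
 (.leaf (nat_lit 0x1003a3a8fefa6) (nat_lit 1538))
) (.node (nat_lit 0x1003a3a9fcfa6) (.leaf (nat_lit 0x1003a3a8fefe6) (nat_lit 1538))
 (.leaf (nat_lit 0x1003a3a9fcfa6) (nat_lit 1794))
)))) (.node (nat_lit 0x1003a3dffcfba) (.node (nat_lit 0x1003a3defcfba) (.node (nat_lit 0x1003a3a9fefa6) (.leaf (nat_lit 0x1003a3a9fcfe6) (nat_lit 1538))
 (.node (nat_lit 0x1003a3a9fefe6) (.leaf (nat_lit 0x1003a3a9fefa6) (nat_lit 1794))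
 (.leaf (nat_lit 0x1003a3a9fefe6) (nat_lit 1794))
)) (.node (nat_lit 0x1003a3defefba) (.node (nat_lit 0x1003a3defcffa) (.leaf (nat_lit 0x1003a3defcfba) (nat_lit 1794))
 (.leaf (nat_lit 0x1003a3defcffa) (nat_lit 2048))
) (.node (nat_lit 0x1003a3defeffa) (.leaf (nat_lit 0x1003a3defefba) (nat_lit 2050))
 (.leaf (nat_lit 0x1003a3defeffa) (nat_lit 2050))
))) (.node (nat_lit 0x1003aa3afcbae) (.node (nat_lit 0x1003a3dffefba) (.node (nat_lit 0x1003a3dffcffa) (.leaf (nat_lit 0x1003a3dffcfba) (nat_lit 2050))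
 (.leaf (nat_lit 0x1003a3dffcffa) (nat_lit 2049))
) (.node (nat_lit 0x1003a3dffeffa) (.leaf (nat_lit 0x1003a3dffefba) (nat_lit 1794))
 (.leaf (nat_lit 0x1003a3dffeffa) (nat_lit 1794))
)) (.node (nat_lit 0x1003aa3afebae) (.node (nat_lit 0x1003aa3afcbee) (.leaf (nat_lit 0x1003aa3afcbae) (nat_lit 1793))
 (.leaf (nat_lit 0x1003aa3afcbee) (nat_lit 1537))
) (.node (nat_lit 0x1003aa3afebee) (.leaf (nat_lit 0x1003aa3afebae) (nat_lit 1794))
 (.leaf (nat_lit 0x1003aa3afebee) (nat_lit 1794))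
)))))) (.node (nat_lit 0x1003b728ffca6) (.node (nat_lit 0x1003aabafebee) (.node (nat_lit 0x1003aa4efebfb) (.node (nat_lit 0x1003aa3bfebee) (.node (nat_lit 0x1003aa3bfcbee) (.leaf (nat_lit 0x1003aa3bfcbae) (nat_lit 1793))
 (.node (nat_lit 0x1003aa3bfebae) (.leaf (nat_lit 0x1003aa3bfcbee) (nat_lit 1794))
 (.leaf (nat_lit 0x1003aa3bfebae) (nat_lit 2048))
)) (.node (nat_lit 0x1003aa4efcbfb) (.node (nat_lit 0x1003aa4efcbbb) (.leaf (nat_lit 0x1003aa3bfebee) (nat_lit 1794))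
 (.leaf (nat_lit 0x1003aa4efcbbb) (nat_lit 1796))
) (.node (nat_lit 0x1003aa4efebbb) (.leaf (nat_lit 0x1003aa4efcbfb) (nat_lit 2052))
 (.leaf (nat_lit 0x1003aa4efebbb) (nat_lit 1796))
))) (.node (nat_lit 0x1003aa4ffebfb) (.node (nat_lit 0x1003aa4ffcbfb) (.node (nat_lit 0x1003aa4ffcbbb) (.leaf (nat_lit 0x1003aa4efebfb) (nat_lit 2048))
 (.leaf (nat_lit 0x1003aa4ffcbbb) (nat_lit 2049))
) (.node (nat_lit 0x1003aa4ffebbb) (.leaf (nat_lit 0x1003aa4ffcbfb) (nat_lit 2049))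
 (.leaf (nat_lit 0x1003aa4ffebbb) (nat_lit 1796))
)) (.node (nat_lit 0x1003aabafcbee) (.node (nat_lit 0x1003aabafcbae) (.leaf (nat_lit 0x1003aa4ffebfb) (nat_lit 2051))
 (.leaf (nat_lit 0x1003aabafcbae) (nat_lit 1536))
) (.node (nat_lit 0x1003aabafebae) (.leaf (nat_lit 0x1003aabafcbee) (nat_lit 1282))
 (.leaf (nat_lit 0x1003aabafebae) (nat_lit 1538))
)))) (.node (nat_lit 0x1003aacefebbb) (.node (nat_lit 0x1003aabbfebae) (.node (nat_lit 0x1003aabbfcbae) (.leaf (nat_lit 0x1003aabafebee) (nat_lit 1792))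
 (.node (nat_lit 0x1003aabbfcbee) (.leaf (nat_lit 0x1003aabbfcbae) (nat_lit 1538))
 (.leaf (nat_lit 0x1003aabbfcbee) (nat_lit 1794))
)) (.node (nat_lit 0x1003aacefcbbb) (.node (nat_lit 0x1003aabbfebee) (.leaf (nat_lit 0x1003aabbfebae) (nat_lit 1794))
 (.leaf (nat_lit 0x1003aabbfebee) (nat_lit 1794))
) (.node (nat_lit 0x1003aacefcbfb) (.leaf (nat_lit 0x1003aacefcbbb) (nat_lit 2051))
 (.leaf (nat_lit 0x1003aacefcbfb) (nat_lit 2050))
))) (.node (nat_lit 0x1003aacffebbb) (.node (nat_lit 0x1003aacffcbbb) (.node (nat_lit 0x1003aacefebfb) (.leaf (nat_lit 0x1003aacefebbb) (nat_lit 1794))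
 (.leaf (nat_lit 0x1003aacefebfb) (nat_lit 2048))
) (.node (nat_lit 0x1003aacffcbfb) (.leaf (nat_lit 0x1003aacffcbbb) (nat_lit 1794))
 (.leaf (nat_lit 0x1003aacffcbfb) (nat_lit 1794))
)) (.node (nat_lit 0x1003b728fdca6) (.node (nat_lit 0x1003aacffebfb) (.leaf (nat_lit 0x1003aacffebbb) (nat_lit 2050))
 (.leaf (nat_lit 0x1003aacffebfb) (nat_lit 1796))
) (.node (nat_lit 0x1003b728fdce6) (.leaf (nat_lit 0x1003b728fdca6) (nat_lit 1540))
 (.leaf (nat_lit 0x1003b728fdce6) (nat_lit 1792))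
))))) (.node (nat_lit 0x1003b7a8fdce6) (.node (nat_lit 0x1003b73afdcee) (.node (nat_lit 0x1003b729fdce6) (.node (nat_lit 0x1003b728ffce6) (.leaf (nat_lit 0x1003b728ffca6) (nat_lit 1540))
 (.node (nat_lit 0x1003b729fdca6) (.leaf (nat_lit 0x1003b728ffce6) (nat_lit 1540))
 (.leaf (nat_lit 0x1003b729fdca6) (nat_lit 1536))
)) (.node (nat_lit 0x1003b729ffce6) (.node (nat_lit 0x1003b729ffca6) (.leaf (nat_lit 0x1003b729fdce6) (nat_lit 1284))
 (.leaf (nat_lit 0x1003b729ffca6) (nat_lit 1537))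
) (.node (nat_lit 0x1003b73afdcae) (.leaf (nat_lit 0x1003b729ffce6) (nat_lit 1796))
 (.leaf (nat_lit 0x1003b73afdcae) (nat_lit 1284))
))) (.node (nat_lit 0x1003b73bfdcee) (.node (nat_lit 0x1003b73affcee) (.node (nat_lit 0x1003b73affcae) (.leaf (nat_lit 0x1003b73afdcee) (nat_lit 1536))
 (.leaf (nat_lit 0x1003b73affcae) (nat_lit 1796))
) (.node (nat_lit 0x1003b73bfdcae) (.leaf (nat_lit 0x1003b73affcee) (nat_lit 1540))
 (.leaf (nat_lit 0x1003b73bfdcae) (nat_lit 1284))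
)) (.node (nat_lit 0x1003b73bffcee) (.node (nat_lit 0x1003b73bffcae) (.leaf (nat_lit 0x1003b73bfdcee) (nat_lit 1536))
 (.leaf (nat_lit 0x1003b73bffcae) (nat_lit 1537))
) (.node (nat_lit 0x1003b7a8fdca6) (.leaf (nat_lit 0x1003b73bffcee) (nat_lit 1281))
 (.leaf (nat_lit 0x1003b7a8fdca6) (nat_lit 1540))
)))) (.node (nat_lit 0x1003b7bafdcae) (.node (nat_lit 0x1003b7a9fdca6) (.node (nat_lit 0x1003b7a8ffca6) (.leaf (nat_lit 0x1003b7a8fdce6) (nat_lit 1540))
 (.node (nat_lit 0x1003b7a8ffce6) (.leaf (nat_lit 0x1003b7a8ffca6) (nat_lit 1536))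
 (.leaf (nat_lit 0x1003b7a8ffce6) (nat_lit 1284))
)) (.node (nat_lit 0x1003b7a9ffca6) (.node (nat_lit 0x1003b7a9fdce6) (.leaf (nat_lit 0x1003b7a9fdca6) (nat_lit 1540))
 (.leaf (nat_lit 0x1003b7a9fdce6) (nat_lit 1284))
) (.node (nat_lit 0x1003b7a9ffce6) (.leaf (nat_lit 0x1003b7a9ffca6) (nat_lit 1284))
 (.leaf (nat_lit 0x1003b7a9ffce6) (nat_lit 1536))
))) (.node (nat_lit 0x1003b7bbfdcae) (.node (nat_lit 0x1003b7baffcae) (.node (nat_lit 0x1003b7bafdcee) (.leaf (nat_lit 0x1003b7bafdcae) (nat_lit 1284))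
 (.leaf (nat_lit 0x1003b7bafdcee) (nat_lit 1540))
) (.node (nat_lit 0x1003b7baffcee) (.leaf (nat_lit 0x1003b7baffcae) (nat_lit 1540))
 (.leaf (nat_lit 0x1003b7baffcee) (nat_lit 1540))
)) (.node (nat_lit 0x1003b7bbffcae) (.node (nat_lit 0x1003b7bbfdcee) (.leaf (nat_lit 0x1003b7bbfdcae) (nat_lit 1540))
 (.leaf (nat_lit 0x1003b7bbfdcee) (nat_lit 1792))
) (.node (nat_lit 0x1003b7bbffcee) (.leaf (nat_lit 0x1003b7bbffcae) (nat_lit 1280))
 (.leaf (nat_lit 0x1003b7bbffcee) (nat_lit 1028))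
))))))))) (.node (nat_lit 0x1009abaa64f2f) (.node (nat_lit 0x1003eacefcbbb) (.node (nat_lit 0x1003cdcffd63b) (.node (nat_lit 0x1003ccdfff2ba) (.node (nat_lit 0x1003cc5fff2fa) (.node (nat_lit 0x1003cc03ff2c9) (.node (nat_lit 0x1003cc02ff2c9) (.node (nat_lit 0x1003cc02fd2c9) (.leaf (nat_lit 0x1003cc02fd289) (nat_lit 1540))
 (.node (nat_lit 0x1003cc02ff289) (.leaf (nat_lit 0x1003cc02fd2c9) (nat_lit 1792))
 (.leaf (nat_lit 0x1003cc02ff289) (nat_lit 2052))
)) (.node (nat_lit 0x1003cc03fd2c9) (.node (nat_lit 0x1003cc03fd289) (.leaf (nat_lit 0x1003cc02ff2c9) (nat_lit 1796))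
 (.leaf (nat_lit 0x1003cc03fd289) (nat_lit 2052))
) (.node (nat_lit 0x1003cc03ff289) (.leaf (nat_lit 0x1003cc03fd2c9) (nat_lit 2052))
 (.leaf (nat_lit 0x1003cc03ff289) (nat_lit 1796))
))) (.node (nat_lit 0x1003cc5eff2fa) (.node (nat_lit 0x1003cc5efd2fa) (.node (nat_lit 0x1003cc5efd2ba) (.leaf (nat_lit 0x1003cc03ff2c9) (nat_lit 1796))
 (.leaf (nat_lit 0x1003cc5efd2ba) (nat_lit 1536))
) (.node (nat_lit 0x1003cc5eff2ba) (.leaf (nat_lit 0x1003cc5efd2fa) (nat_lit 1284))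
 (.leaf (nat_lit 0x1003cc5eff2ba) (nat_lit 1792))
)) (.node (nat_lit 0x1003cc5ffd2fa) (.node (nat_lit 0x1003cc5ffd2ba) (.leaf (nat_lit 0x1003cc5eff2fa) (nat_lit 1540))
 (.leaf (nat_lit 0x1003cc5ffd2ba) (nat_lit 1284))
) (.node (nat_lit 0x1003cc5fff2ba) (.leaf (nat_lit 0x1003cc5ffd2fa) (nat_lit 1540))
 (.leaf (nat_lit 0x1003cc5fff2ba) (nat_lit 1539))
)))) (.node (nat_lit 0x1003cc83ff289) (.node (nat_lit 0x1003cc82ff289) (.node (nat_lit 0x1003cc82fd289) (.leaf (nat_lit 0x1003cc5fff2fa) (nat_lit 1793))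
 (.node (nat_lit 0x1003cc82fd2c9) (.leaf (nat_lit 0x1003cc82fd289) (nat_lit 1793))
 (.leaf (nat_lit 0x1003cc82fd2c9) (nat_lit 2052))
)) (.node (nat_lit 0x1003cc83fd289) (.node (nat_lit 0x1003cc82ff2c9) (.leaf (nat_lit 0x1003cc82ff289) (nat_lit 2048))
 (.leaf (nat_lit 0x1003cc82ff2c9) (nat_lit 1796))
) (.node (nat_lit 0x1003cc83fd2c9) (.leaf (nat_lit 0x1003cc83fd289) (nat_lit 2052))
 (.leaf (nat_lit 0x1003cc83fd2c9) (nat_lit 2052))
))) (.node (nat_lit 0x1003ccdeff2ba) (.node (nat_lit 0x1003ccdefd2ba) (.node (nat_lit 0x1003cc83ff2c9) (.leaf (nat_lit 0x1003cc83ff289) (nat_lit 2052))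
 (.leaf (nat_lit 0x1003cc83ff2c9) (nat_lit 1796))
) (.node (nat_lit 0x1003ccdefd2fa) (.leaf (nat_lit 0x1003ccdefd2ba) (nat_lit 1796))
 (.leaf (nat_lit 0x1003ccdefd2fa) (nat_lit 1537))
)) (.node (nat_lit 0x1003ccdffd2ba) (.node (nat_lit 0x1003ccdeff2fa) (.leaf (nat_lit 0x1003ccdeff2ba) (nat_lit 1540))
 (.leaf (nat_lit 0x1003ccdeff2fa) (nat_lit 1793))
) (.node (nat_lit 0x1003ccdffd2fa) (.leaf (nat_lit 0x1003ccdffd2ba) (nat_lit 1537))
 (.leaf (nat_lit 0x1003ccdffd2fa) (nat_lit 1793))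
))))) (.node (nat_lit 0x1003cd4ffd67b) (.node (nat_lit 0x1003cd03fd649) (.node (nat_lit 0x1003cd02fd649) (.node (nat_lit 0x1003ccdfff2fa) (.leaf (nat_lit 0x1003ccdfff2ba) (nat_lit 1540))
 (.node (nat_lit 0x1003cd02fd609) (.leaf (nat_lit 0x1003ccdfff2fa) (nat_lit 1540))
 (.leaf (nat_lit 0x1003cd02fd609) (nat_lit 2306))
)) (.node (nat_lit 0x1003cd02ff649) (.node (nat_lit 0x1003cd02ff609) (.leaf (nat_lit 0x1003cd02fd649) (nat_lit 2050))
 (.leaf (nat_lit 0x1003cd02ff609) (nat_lit 2308))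
) (.node (nat_lit 0x1003cd03fd609) (.leaf (nat_lit 0x1003cd02ff649) (nat_lit 2050))
 (.leaf (nat_lit 0x1003cd03fd609) (nat_lit 2051))
))) (.node (nat_lit 0x1003cd4efd67b) (.node (nat_lit 0x1003cd03ff649) (.node (nat_lit 0x1003cd03ff609) (.leaf (nat_lit 0x1003cd03fd649) (nat_lit 2052))
 (.leaf (nat_lit 0x1003cd03ff609) (nat_lit 2306))
) (.node (nat_lit 0x1003cd4efd63b) (.leaf (nat_lit 0x1003cd03ff649) (nat_lit 2050))
 (.leaf (nat_lit 0x1003cd4efd63b) (nat_lit 2052))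
)) (.node (nat_lit 0x1003cd4eff67b) (.node (nat_lit 0x1003cd4eff63b) (.leaf (nat_lit 0x1003cd4efd67b) (nat_lit 1795))
 (.leaf (nat_lit 0x1003cd4eff63b) (nat_lit 1796))
) (.node (nat_lit 0x1003cd4ffd63b) (.leaf (nat_lit 0x1003cd4eff67b) (nat_lit 1796))
 (.leaf (nat_lit 0x1003cd4ffd63b) (nat_lit 2049))
)))) (.node (nat_lit 0x1003cd83fd609) (.node (nat_lit 0x1003cd82fd609) (.node (nat_lit 0x1003cd4fff63b) (.leaf (nat_lit 0x1003cd4ffd67b) (nat_lit 2052))
 (.node (nat_lit 0x1003cd4fff67b) (.leaf (nat_lit 0x1003cd4fff63b) (nat_lit 1540))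
 (.leaf (nat_lit 0x1003cd4fff67b) (nat_lit 1792))
)) (.node (nat_lit 0x1003cd82ff609) (.node (nat_lit 0x1003cd82fd649) (.leaf (nat_lit 0x1003cd82fd609) (nat_lit 2051))
 (.leaf (nat_lit 0x1003cd82fd649) (nat_lit 2050))
) (.node (nat_lit 0x1003cd82ff649) (.leaf (nat_lit 0x1003cd82ff609) (nat_lit 2051))
 (.leaf (nat_lit 0x1003cd82ff649) (nat_lit 2307))
))) (.node (nat_lit 0x1003cdcefd63b) (.node (nat_lit 0x1003cd83ff609) (.node (nat_lit 0x1003cd83fd649) (.leaf (nat_lit 0x1003cd83fd609) (nat_lit 2050))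
 (.leaf (nat_lit 0x1003cd83fd649) (nat_lit 2050))
) (.node (nat_lit 0x1003cd83ff649) (.leaf (nat_lit 0x1003cd83ff609) (nat_lit 2051))
 (.leaf (nat_lit 0x1003cd83ff649) (nat_lit 2307))
)) (.node (nat_lit 0x1003cdceff63b) (.node (nat_lit 0x1003cdcefd67b) (.leaf (nat_lit 0x1003cdcefd63b) (nat_lit 1796))
 (.leaf (nat_lit 0x1003cdcefd67b) (nat_lit 1796))
) (.node (nat_lit 0x1003cdceff67b) (.leaf (nat_lit 0x1003cdceff63b) (nat_lit 1796))
 (.leaf (nat_lit 0x1003cdceff67b) (nat_lit 1796))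
)))))) (.node (nat_lit 0x1003e3defefba) (.node (nat_lit 0x1003e35efeffa) (.node (nat_lit 0x1003e328fefe6) (.node (nat_lit 0x1003cdcfff67b) (.node (nat_lit 0x1003cdcffd67b) (.leaf (nat_lit 0x1003cdcffd63b) (nat_lit 1796))
 (.node (nat_lit 0x1003cdcfff63b) (.leaf (nat_lit 0x1003cdcffd67b) (nat_lit 2048))
 (.leaf (nat_lit 0x1003cdcfff63b) (nat_lit 1796))
)) (.node (nat_lit 0x1003e328fcfe6) (.node (nat_lit 0x1003e328fcfa6) (.leaf (nat_lit 0x1003cdcfff67b) (nat_lit 1796))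
 (.leaf (nat_lit 0x1003e328fcfa6) (nat_lit 1794))
) (.node (nat_lit 0x1003e328fefa6) (.leaf (nat_lit 0x1003e328fcfe6) (nat_lit 2048))
 (.leaf (nat_lit 0x1003e328fefa6) (nat_lit 1792))
))) (.node (nat_lit 0x1003e329fefe6) (.node (nat_lit 0x1003e329fcfe6) (.node (nat_lit 0x1003e329fcfa6) (.leaf (nat_lit 0x1003e328fefe6) (nat_lit 1538))
 (.leaf (nat_lit 0x1003e329fcfa6) (nat_lit 1794))
) (.node (nat_lit 0x1003e329fefa6) (.leaf (nat_lit 0x1003e329fcfe6) (nat_lit 1794))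
 (.leaf (nat_lit 0x1003e329fefa6) (nat_lit 1794))
)) (.node (nat_lit 0x1003e35efcffa) (.node (nat_lit 0x1003e35efcfba) (.leaf (nat_lit 0x1003e329fefe6) (nat_lit 2048))
 (.leaf (nat_lit 0x1003e35efcfba) (nat_lit 2050))
) (.node (nat_lit 0x1003e35efefba) (.leaf (nat_lit 0x1003e35efcffa) (nat_lit 2049))
 (.leaf (nat_lit 0x1003e35efefba) (nat_lit 1794))
)))) (.node (nat_lit 0x1003e3a8fefa6) (.node (nat_lit 0x1003e35ffefba) (.node (nat_lit 0x1003e35ffcfba) (.leaf (nat_lit 0x1003e35efeffa) (nat_lit 1794))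
 (.node (nat_lit 0x1003e35ffcffa) (.leaf (nat_lit 0x1003e35ffcfba) (nat_lit 1794))
 (.leaf (nat_lit 0x1003e35ffcffa) (nat_lit 1794))
)) (.node (nat_lit 0x1003e3a8fcfa6) (.node (nat_lit 0x1003e35ffeffa) (.leaf (nat_lit 0x1003e35ffefba) (nat_lit 1538))
 (.leaf (nat_lit 0x1003e35ffeffa) (nat_lit 1792))
) (.node (nat_lit 0x1003e3a8fcfe6) (.leaf (nat_lit 0x1003e3a8fcfa6) (nat_lit 1794))
 (.leaf (nat_lit 0x1003e3a8fcfe6) (nat_lit 1794))
))) (.node (nat_lit 0x1003e3a9fefa6) (.node (nat_lit 0x1003e3a9fcfa6) (.node (nat_lit 0x1003e3a8fefe6) (.leaf (nat_lit 0x1003e3a8fefa6) (nat_lit 2051))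
 (.leaf (nat_lit 0x1003e3a8fefe6) (nat_lit 1793))
) (.node (nat_lit 0x1003e3a9fcfe6) (.leaf (nat_lit 0x1003e3a9fcfa6) (nat_lit 2049))
 (.leaf (nat_lit 0x1003e3a9fcfe6) (nat_lit 2049))
)) (.node (nat_lit 0x1003e3defcfba) (.node (nat_lit 0x1003e3a9fefe6) (.leaf (nat_lit 0x1003e3a9fefa6) (nat_lit 1794))
 (.leaf (nat_lit 0x1003e3a9fefe6) (nat_lit 1794))
) (.node (nat_lit 0x1003e3defcffa) (.leaf (nat_lit 0x1003e3defcfba) (nat_lit 1794))
 (.leaf (nat_lit 0x1003e3defcffa) (nat_lit 1794))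
))))) (.node (nat_lit 0x1003ea4efcbfb) (.node (nat_lit 0x1003ea3afcbee) (.node (nat_lit 0x1003e3dffcffa) (.node (nat_lit 0x1003e3defeffa) (.leaf (nat_lit 0x1003e3defefba) (nat_lit 1794))
 (.node (nat_lit 0x1003e3dffcfba) (.leaf (nat_lit 0x1003e3defeffa) (nat_lit 2049))
 (.leaf (nat_lit 0x1003e3dffcfba) (nat_lit 2050))
)) (.node (nat_lit 0x1003e3dffeffa) (.node (nat_lit 0x1003e3dffefba) (.leaf (nat_lit 0x1003e3dffcffa) (nat_lit 2050))
 (.leaf (nat_lit 0x1003e3dffefba) (nat_lit 1793))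
) (.node (nat_lit 0x1003ea3afcbae) (.leaf (nat_lit 0x1003e3dffeffa) (nat_lit 1794))
 (.leaf (nat_lit 0x1003ea3afcbae) (nat_lit 1538))
))) (.node (nat_lit 0x1003ea3bfcbee) (.node (nat_lit 0x1003ea3afebee) (.node (nat_lit 0x1003ea3afebae) (.leaf (nat_lit 0x1003ea3afcbee) (nat_lit 1538))
 (.leaf (nat_lit 0x1003ea3afebae) (nat_lit 1793))
) (.node (nat_lit 0x1003ea3bfcbae) (.leaf (nat_lit 0x1003ea3afebee) (nat_lit 1794))
 (.leaf (nat_lit 0x1003ea3bfcbae) (nat_lit 1538))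
)) (.node (nat_lit 0x1003ea3bfebee) (.node (nat_lit 0x1003ea3bfebae) (.leaf (nat_lit 0x1003ea3bfcbee) (nat_lit 1792))
 (.leaf (nat_lit 0x1003ea3bfebae) (nat_lit 2050))
) (.node (nat_lit 0x1003ea4efcbbb) (.leaf (nat_lit 0x1003ea3bfebee) (nat_lit 1794))
 (.leaf (nat_lit 0x1003ea4efcbbb) (nat_lit 1796))
)))) (.node (nat_lit 0x1003eabafcbae) (.node (nat_lit 0x1003ea4ffcbbb) (.node (nat_lit 0x1003ea4efebbb) (.leaf (nat_lit 0x1003ea4efcbfb) (nat_lit 2050))
 (.node (nat_lit 0x1003ea4efebfb) (.leaf (nat_lit 0x1003ea4efebbb) (nat_lit 2050))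
 (.leaf (nat_lit 0x1003ea4efebfb) (nat_lit 2052))
)) (.node (nat_lit 0x1003ea4ffebbb) (.node (nat_lit 0x1003ea4ffcbfb) (.leaf (nat_lit 0x1003ea4ffcbbb) (nat_lit 1796))
 (.leaf (nat_lit 0x1003ea4ffcbfb) (nat_lit 2050))
) (.node (nat_lit 0x1003ea4ffebfb) (.leaf (nat_lit 0x1003ea4ffebbb) (nat_lit 1792))
 (.leaf (nat_lit 0x1003ea4ffebfb) (nat_lit 1540))
))) (.node (nat_lit 0x1003eabbfcbae) (.node (nat_lit 0x1003eabafebae) (.node (nat_lit 0x1003eabafcbee) (.leaf (nat_lit 0x1003eabafcbae) (nat_lit 1793))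
 (.leaf (nat_lit 0x1003eabafcbee) (nat_lit 1794))
) (.node (nat_lit 0x1003eabafebee) (.leaf (nat_lit 0x1003eabafebae) (nat_lit 1538))
 (.leaf (nat_lit 0x1003eabafebee) (nat_lit 1792))
)) (.node (nat_lit 0x1003eabbfebae) (.node (nat_lit 0x1003eabbfcbee) (.leaf (nat_lit 0x1003eabbfcbae) (nat_lit 1538))
 (.leaf (nat_lit 0x1003eabbfcbee) (nat_lit 1792))
) (.node (nat_lit 0x1003eabbfebee) (.leaf (nat_lit 0x1003eabbfebae) (nat_lit 2050))
 (.leaf (nat_lit 0x1003eabbfebee) (nat_lit 1794))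
))))))) (.node (nat_lit 0x100998e76419d) (.node (nat_lit 0x1003f7a9ffca6) (.node (nat_lit 0x1003f729ffce6) (.node (nat_lit 0x1003eacffebfb) (.node (nat_lit 0x1003eacefebfb) (.node (nat_lit 0x1003eacefcbfb) (.leaf (nat_lit 0x1003eacefcbbb) (nat_lit 2050))
 (.node (nat_lit 0x1003eacefebbb) (.leaf (nat_lit 0x1003eacefcbfb) (nat_lit 2050))
 (.leaf (nat_lit 0x1003eacefebbb) (nat_lit 2052))
)) (.node (nat_lit 0x1003eacffcbfb) (.node (nat_lit 0x1003eacffcbbb) (.leaf (nat_lit 0x1003eacefebfb) (nat_lit 2052))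
 (.leaf (nat_lit 0x1003eacffcbbb) (nat_lit 1796))
) (.node (nat_lit 0x1003eacffebbb) (.leaf (nat_lit 0x1003eacffcbfb) (nat_lit 2050))
 (.leaf (nat_lit 0x1003eacffebbb) (nat_lit 2050))
))) (.node (nat_lit 0x1003f728ffce6) (.node (nat_lit 0x1003f728fdce6) (.node (nat_lit 0x1003f728fdca6) (.leaf (nat_lit 0x1003eacffebfb) (nat_lit 1793))
 (.leaf (nat_lit 0x1003f728fdca6) (nat_lit 1796))
) (.node (nat_lit 0x1003f728ffca6) (.leaf (nat_lit 0x1003f728fdce6) (nat_lit 1796))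
 (.leaf (nat_lit 0x1003f728ffca6) (nat_lit 1540))
)) (.node (nat_lit 0x1003f729fdce6) (.node (nat_lit 0x1003f729fdca6) (.leaf (nat_lit 0x1003f728ffce6) (nat_lit 1796))
 (.leaf (nat_lit 0x1003f729fdca6) (nat_lit 1540))
) (.node (nat_lit 0x1003f729ffca6) (.leaf (nat_lit 0x1003f729fdce6) (nat_lit 1792))
 (.leaf (nat_lit 0x1003f729ffca6) (nat_lit 2052))
)))) (.node (nat_lit 0x1003f73bffcae) (.node (nat_lit 0x1003f73affcae) (.node (nat_lit 0x1003f73afdcae) (.leaf (nat_lit 0x1003f729ffce6) (nat_lit 1796))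
 (.node (nat_lit 0x1003f73afdcee) (.leaf (nat_lit 0x1003f73afdcae) (nat_lit 1537))
 (.leaf (nat_lit 0x1003f73afdcee) (nat_lit 1540))
)) (.node (nat_lit 0x1003f73bfdcae) (.node (nat_lit 0x1003f73affcee) (.leaf (nat_lit 0x1003f73affcae) (nat_lit 1796))
 (.leaf (nat_lit 0x1003f73affcee) (nat_lit 1540))
) (.node (nat_lit 0x1003f73bfdcee) (.leaf (nat_lit 0x1003f73bfdcae) (nat_lit 1792))
 (.leaf (nat_lit 0x1003f73bfdcee) (nat_lit 1540))
))) (.node (nat_lit 0x1003f7a8ffca6) (.node (nat_lit 0x1003f7a8fdca6) (.node (nat_lit 0x1003f73bffcee) (.leaf (nat_lit 0x1003f73bffcae) (nat_lit 1537))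
 (.leaf (nat_lit 0x1003f73bffcee) (nat_lit 1540))
) (.node (nat_lit 0x1003f7a8fdce6) (.leaf (nat_lit 0x1003f7a8fdca6) (nat_lit 1796))
 (.leaf (nat_lit 0x1003f7a8fdce6) (nat_lit 1540))
)) (.node (nat_lit 0x1003f7a9fdca6) (.node (nat_lit 0x1003f7a8ffce6) (.leaf (nat_lit 0x1003f7a8ffca6) (nat_lit 1540))
 (.leaf (nat_lit 0x1003f7a8ffce6) (nat_lit 1796))
) (.node (nat_lit 0x1003f7a9fdce6) (.leaf (nat_lit 0x1003f7a9fdca6) (nat_lit 1540))
 (.leaf (nat_lit 0x1003f7a9fdce6) (nat_lit 1540))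
))))) (.node (nat_lit 0x10099867641dd) (.node (nat_lit 0x1003f7bbfdcee) (.node (nat_lit 0x1003f7bafdcee) (.node (nat_lit 0x1003f7a9ffce6) (.leaf (nat_lit 0x1003f7a9ffca6) (nat_lit 1792))
 (.node (nat_lit 0x1003f7bafdcae) (.leaf (nat_lit 0x1003f7a9ffce6) (nat_lit 1540))
 (.leaf (nat_lit 0x1003f7bafdcae) (nat_lit 1284))
)) (.node (nat_lit 0x1003f7baffcee) (.node (nat_lit 0x1003f7baffcae) (.leaf (nat_lit 0x1003f7bafdcee) (nat_lit 1540))
 (.leaf (nat_lit 0x1003f7baffcae) (nat_lit 1796))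
) (.node (nat_lit 0x1003f7bbfdcae) (.leaf (nat_lit 0x1003f7baffcee) (nat_lit 1796))
 (.leaf (nat_lit 0x1003f7bbfdcae) (nat_lit 1796))
))) (.node (nat_lit 0x10099866641dd) (.node (nat_lit 0x1003f7bbffcee) (.node (nat_lit 0x1003f7bbffcae) (.leaf (nat_lit 0x1003f7bbfdcee) (nat_lit 1796))
 (.leaf (nat_lit 0x1003f7bbffcae) (nat_lit 1284))
) (.node (nat_lit 0x100998666419d) (.leaf (nat_lit 0x1003f7bbffcee) (nat_lit 1536))
 (.leaf (nat_lit 0x100998666419d) (nat_lit 1024))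
)) (.node (nat_lit 0x10099866661dd) (.node (nat_lit 0x100998666619d) (.leaf (nat_lit 0x10099866641dd) (nat_lit 770))
 (.leaf (nat_lit 0x100998666619d) (nat_lit 1026))
) (.node (nat_lit 0x100998676419d) (.leaf (nat_lit 0x10099866661dd) (nat_lit 1280))
 (.leaf (nat_lit 0x100998676419d) (nat_lit 1025))
)))) (.node (nat_lit 0x100998776419c) (.node (nat_lit 0x100998766419c) (.node (nat_lit 0x100998676619d) (.leaf (nat_lit 0x10099867641dd) (nat_lit 1281))
 (.node (nat_lit 0x10099867661dd) (.leaf (nat_lit 0x100998676619d) (nat_lit 1539))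
 (.leaf (nat_lit 0x10099867661dd) (nat_lit 1281))
)) (.node (nat_lit 0x100998766619c) (.node (nat_lit 0x10099876641dc) (.leaf (nat_lit 0x100998766419c) (nat_lit 1282))
 (.leaf (nat_lit 0x10099876641dc) (nat_lit 1282))
) (.node (nat_lit 0x10099876661dc) (.leaf (nat_lit 0x100998766619c) (nat_lit 1538))
 (.leaf (nat_lit 0x10099876661dc) (nat_lit 1538))
))) (.node (nat_lit 0x100998e66419d) (.node (nat_lit 0x100998776619c) (.node (nat_lit 0x10099877641dc) (.leaf (nat_lit 0x100998776419c) (nat_lit 1282))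
 (.leaf (nat_lit 0x10099877641dc) (nat_lit 1282))
) (.node (nat_lit 0x10099877661dc) (.leaf (nat_lit 0x100998776619c) (nat_lit 1538))
 (.leaf (nat_lit 0x10099877661dc) (nat_lit 1538))
)) (.node (nat_lit 0x100998e66619d) (.node (nat_lit 0x100998e6641dd) (.leaf (nat_lit 0x100998e66419d) (nat_lit 1281))
 (.leaf (nat_lit 0x100998e6641dd) (nat_lit 1025))
) (.node (nat_lit 0x100998e6661dd) (.leaf (nat_lit 0x100998e66619d) (nat_lit 1281))
 (.leaf (nat_lit 0x100998e6661dd) (nat_lit 1537))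
)))))) (.node (nat_lit 0x1009a3a866fa6) (.node (nat_lit 0x1009a32866fe6) (.node (nat_lit 0x100998f6661dc) (.node (nat_lit 0x100998e7661dd) (.node (nat_lit 0x100998e7641dd) (.leaf (nat_lit 0x100998e76419d) (nat_lit 770))
 (.node (nat_lit 0x100998e76619d) (.leaf (nat_lit 0x100998e7641dd) (nat_lit 1024))
 (.leaf (nat_lit 0x100998e76619d) (nat_lit 1280))
)) (.node (nat_lit 0x100998f6641dc) (.node (nat_lit 0x100998f66419c) (.leaf (nat_lit 0x100998e7661dd) (nat_lit 1026))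
 (.leaf (nat_lit 0x100998f66419c) (nat_lit 1537))
) (.node (nat_lit 0x100998f66619c) (.leaf (nat_lit 0x100998f6641dc) (nat_lit 1537))
 (.leaf (nat_lit 0x100998f66619c) (nat_lit 1283))
))) (.node (nat_lit 0x100998f7661dc) (.node (nat_lit 0x100998f7641dc) (.node (nat_lit 0x100998f76419c) (.leaf (nat_lit 0x100998f6661dc) (nat_lit 1539))
 (.leaf (nat_lit 0x100998f76419c) (nat_lit 1282))
) (.node (nat_lit 0x100998f76619c) (.leaf (nat_lit 0x100998f7641dc) (nat_lit 1282))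
 (.leaf (nat_lit 0x100998f76619c) (nat_lit 1538))
)) (.node (nat_lit 0x1009a32864fe6) (.node (nat_lit 0x1009a32864fa6) (.leaf (nat_lit 0x100998f7661dc) (nat_lit 1538))
 (.leaf (nat_lit 0x1009a32864fa6) (nat_lit 1795))
) (.node (nat_lit 0x1009a32866fa6) (.leaf (nat_lit 0x1009a32864fe6) (nat_lit 1795))
 (.leaf (nat_lit 0x1009a32866fa6) (nat_lit 1796))
)))) (.node (nat_lit 0x1009a37666f9c) (.node (nat_lit 0x1009a32966fa6) (.node (nat_lit 0x1009a32964fa6) (.leaf (nat_lit 0x1009a32866fe6) (nat_lit 2048))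
 (.node (nat_lit 0x1009a32964fe6) (.leaf (nat_lit 0x1009a32964fa6) (nat_lit 1794))
 (.leaf (nat_lit 0x1009a32964fe6) (nat_lit 2052))
)) (.node (nat_lit 0x1009a37664f9c) (.node (nat_lit 0x1009a32966fe6) (.leaf (nat_lit 0x1009a32966fa6) (nat_lit 1795))
 (.leaf (nat_lit 0x1009a32966fe6) (nat_lit 1539))
) (.node (nat_lit 0x1009a37664fdc) (.leaf (nat_lit 0x1009a37664f9c) (nat_lit 1281))
 (.leaf (nat_lit 0x1009a37664fdc) (nat_lit 1283))
))) (.node (nat_lit 0x1009a37766f9c) (.node (nat_lit 0x1009a37764f9c) (.node (nat_lit 0x1009a37666fdc) (.leaf (nat_lit 0x1009a37666f9c) (nat_lit 1540))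
 (.leaf (nat_lit 0x1009a37666fdc) (nat_lit 1281))
) (.node (nat_lit 0x1009a37764fdc) (.leaf (nat_lit 0x1009a37764f9c) (nat_lit 1284))
 (.leaf (nat_lit 0x1009a37764fdc) (nat_lit 1540))
)) (.node (nat_lit 0x1009a3a864fa6) (.node (nat_lit 0x1009a37766fdc) (.leaf (nat_lit 0x1009a37766f9c) (nat_lit 1281))
 (.leaf (nat_lit 0x1009a37766fdc) (nat_lit 1284))
) (.node (nat_lit 0x1009a3a864fe6) (.leaf (nat_lit 0x1009a3a864fa6) (nat_lit 1538))
 (.leaf (nat_lit 0x1009a3a864fe6) (nat_lit 1795))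
))))) (.node (nat_lit 0x1009ab2a64f6f) (.node (nat_lit 0x1009a3f664fdc) (.node (nat_lit 0x1009a3a964fe6) (.node (nat_lit 0x1009a3a866fe6) (.leaf (nat_lit 0x1009a3a866fa6) (nat_lit 2051))
 (.node (nat_lit 0x1009a3a964fa6) (.leaf (nat_lit 0x1009a3a866fe6) (nat_lit 1794))
 (.leaf (nat_lit 0x1009a3a964fa6) (nat_lit 1795))
)) (.node (nat_lit 0x1009a3a966fe6) (.node (nat_lit 0x1009a3a966fa6) (.leaf (nat_lit 0x1009a3a964fe6) (nat_lit 2052))
 (.leaf (nat_lit 0x1009a3a966fa6) (nat_lit 1794))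
) (.node (nat_lit 0x1009a3f664f9c) (.leaf (nat_lit 0x1009a3a966fe6) (nat_lit 1795))
 (.leaf (nat_lit 0x1009a3f664f9c) (nat_lit 1028))
))) (.node (nat_lit 0x1009a3f764fdc) (.node (nat_lit 0x1009a3f666fdc) (.node (nat_lit 0x1009a3f666f9c) (.leaf (nat_lit 0x1009a3f664fdc) (nat_lit 1280))
 (.leaf (nat_lit 0x1009a3f666f9c) (nat_lit 1280))
) (.node (nat_lit 0x1009a3f764f9c) (.leaf (nat_lit 0x1009a3f666fdc) (nat_lit 1028))
 (.leaf (nat_lit 0x1009a3f764f9c) (nat_lit 1540))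
)) (.node (nat_lit 0x1009a3f766fdc) (.node (nat_lit 0x1009a3f766f9c) (.leaf (nat_lit 0x1009a3f764fdc) (nat_lit 1539))
 (.leaf (nat_lit 0x1009a3f766f9c) (nat_lit 1027))
) (.node (nat_lit 0x1009ab2a64f2f) (.leaf (nat_lit 0x1009a3f766fdc) (nat_lit 1280))
 (.leaf (nat_lit 0x1009ab2a64f2f) (nat_lit 1794))
)))) (.node (nat_lit 0x1009ab6664f1d) (.node (nat_lit 0x1009ab2b64f2f) (.node (nat_lit 0x1009ab2a66f2f) (.leaf (nat_lit 0x1009ab2a64f6f) (nat_lit 1795))
 (.node (nat_lit 0x1009ab2a66f6f) (.leaf (nat_lit 0x1009ab2a66f2f) (nat_lit 1795))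
 (.leaf (nat_lit 0x1009ab2a66f6f) (nat_lit 1796))
)) (.node (nat_lit 0x1009ab2b66f2f) (.node (nat_lit 0x1009ab2b64f6f) (.leaf (nat_lit 0x1009ab2b64f2f) (nat_lit 1795))
 (.leaf (nat_lit 0x1009ab2b64f6f) (nat_lit 2051))
) (.node (nat_lit 0x1009ab2b66f6f) (.leaf (nat_lit 0x1009ab2b66f2f) (nat_lit 1539))
 (.leaf (nat_lit 0x1009ab2b66f6f) (nat_lit 1795))
))) (.node (nat_lit 0x1009ab6764f1d) (.node (nat_lit 0x1009ab6666f1d) (.node (nat_lit 0x1009ab6664f5d) (.leaf (nat_lit 0x1009ab6664f1d) (nat_lit 260))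
 (.leaf (nat_lit 0x1009ab6664f5d) (nat_lit 512))
) (.node (nat_lit 0x1009ab6666f5d) (.leaf (nat_lit 0x1009ab6666f1d) (nat_lit 1283))
 (.leaf (nat_lit 0x1009ab6666f5d) (nat_lit 1026))
)) (.node (nat_lit 0x1009ab6766f1d) (.node (nat_lit 0x1009ab6764f5d) (.leaf (nat_lit 0x1009ab6764f1d) (nat_lit 1284))
 (.leaf (nat_lit 0x1009ab6764f5d) (nat_lit 1027))
) (.node (nat_lit 0x1009ab6766f5d) (.leaf (nat_lit 0x1009ab6766f1d) (nat_lit 1280))
 (.leaf (nat_lit 0x1009ab6766f5d) (nat_lit 1028))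
)))))))) (.node (nat_lit 0x1009e37664f9c) (.node (nat_lit 0x1009be2b658af) (.node (nat_lit 0x1009b72967ca6) (.node (nat_lit 0x1009abe766f5d) (.node (nat_lit 0x1009abab66f6f) (.node (nat_lit 0x1009abaa66f6f) (.node (nat_lit 0x1009abaa64f6f) (.leaf (nat_lit 0x1009abaa64f2f) (nat_lit 2050))
 (.node (nat_lit 0x1009abaa66f2f) (.leaf (nat_lit 0x1009abaa64f6f) (nat_lit 2051))
 (.leaf (nat_lit 0x1009abaa66f2f) (nat_lit 2050))
)) (.node (nat_lit 0x1009abab64f6f) (.node (nat_lit 0x1009abab64f2f) (.leaf (nat_lit 0x1009abaa66f6f) (nat_lit 1794))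
 (.leaf (nat_lit 0x1009abab64f2f) (nat_lit 2051))
) (.node (nat_lit 0x1009abab66f2f) (.leaf (nat_lit 0x1009abab64f6f) (nat_lit 1795))
 (.leaf (nat_lit 0x1009abab66f2f) (nat_lit 1795))
))) (.node (nat_lit 0x1009abe666f5d) (.node (nat_lit 0x1009abe664f5d) (.node (nat_lit 0x1009abe664f1d) (.leaf (nat_lit 0x1009abab66f6f) (nat_lit 1794))
 (.leaf (nat_lit 0x1009abe664f1d) (nat_lit 513))
) (.node (nat_lit 0x1009abe666f1d) (.leaf (nat_lit 0x1009abe664f5d) (nat_lit 769))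
 (.leaf (nat_lit 0x1009abe666f1d) (nat_lit 1537))
)) (.node (nat_lit 0x1009abe764f5d) (.node (nat_lit 0x1009abe764f1d) (.leaf (nat_lit 0x1009abe666f5d) (nat_lit 1282))
 (.leaf (nat_lit 0x1009abe764f1d) (nat_lit 1540))
) (.node (nat_lit 0x1009abe766f1d) (.leaf (nat_lit 0x1009abe764f5d) (nat_lit 1283))
 (.leaf (nat_lit 0x1009abe766f1d) (nat_lit 1280))
)))) (.node (nat_lit 0x1009b71367c88) (.node (nat_lit 0x1009b71267c88) (.node (nat_lit 0x1009b71265c88) (.leaf (nat_lit 0x1009abe766f5d) (nat_lit 1028))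
 (.node (nat_lit 0x1009b71265cc8) (.leaf (nat_lit 0x1009b71265c88) (nat_lit 1796))
 (.leaf (nat_lit 0x1009b71265cc8) (nat_lit 1796))
)) (.node (nat_lit 0x1009b71365c88) (.node (nat_lit 0x1009b71267cc8) (.leaf (nat_lit 0x1009b71267c88) (nat_lit 2052))
 (.leaf (nat_lit 0x1009b71267cc8) (nat_lit 1796))
) (.node (nat_lit 0x1009b71365cc8) (.leaf (nat_lit 0x1009b71365c88) (nat_lit 1796))
 (.leaf (nat_lit 0x1009b71365cc8) (nat_lit 2052))
))) (.node (nat_lit 0x1009b72867ca6) (.node (nat_lit 0x1009b72865ca6) (.node (nat_lit 0x1009b71367cc8) (.leaf (nat_lit 0x1009b71367c88) (nat_lit 2052))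
 (.leaf (nat_lit 0x1009b71367cc8) (nat_lit 2052))
) (.node (nat_lit 0x1009b72865ce6) (.leaf (nat_lit 0x1009b72865ca6) (nat_lit 1793))
 (.leaf (nat_lit 0x1009b72865ce6) (nat_lit 1795))
)) (.node (nat_lit 0x1009b72965ca6) (.node (nat_lit 0x1009b72867ce6) (.leaf (nat_lit 0x1009b72867ca6) (nat_lit 1539))
 (.leaf (nat_lit 0x1009b72867ce6) (nat_lit 1792))
) (.node (nat_lit 0x1009b72965ce6) (.leaf (nat_lit 0x1009b72965ca6) (nat_lit 1539))
 (.leaf (nat_lit 0x1009b72965ce6) (nat_lit 1792))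
))))) (.node (nat_lit 0x1009b7a965ce6) (.node (nat_lit 0x1009b79365cc8) (.node (nat_lit 0x1009b79265cc8) (.node (nat_lit 0x1009b72967ce6) (.leaf (nat_lit 0x1009b72967ca6) (nat_lit 2052))
 (.node (nat_lit 0x1009b79265c88) (.leaf (nat_lit 0x1009b72967ce6) (nat_lit 1796))
 (.leaf (nat_lit 0x1009b79265c88) (nat_lit 2049))
)) (.node (nat_lit 0x1009b79267cc8) (.node (nat_lit 0x1009b79267c88) (.leaf (nat_lit 0x1009b79265cc8) (nat_lit 2051))
 (.leaf (nat_lit 0x1009b79267c88) (nat_lit 1796))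
) (.node (nat_lit 0x1009b79365c88) (.leaf (nat_lit 0x1009b79267cc8) (nat_lit 2052))
 (.leaf (nat_lit 0x1009b79365c88) (nat_lit 2052))
))) (.node (nat_lit 0x1009b7a865ce6) (.node (nat_lit 0x1009b79367cc8) (.node (nat_lit 0x1009b79367c88) (.leaf (nat_lit 0x1009b79365cc8) (nat_lit 1796))
 (.leaf (nat_lit 0x1009b79367c88) (nat_lit 2052))
) (.node (nat_lit 0x1009b7a865ca6) (.leaf (nat_lit 0x1009b79367cc8) (nat_lit 2052))
 (.leaf (nat_lit 0x1009b7a865ca6) (nat_lit 1539))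
)) (.node (nat_lit 0x1009b7a867ce6) (.node (nat_lit 0x1009b7a867ca6) (.leaf (nat_lit 0x1009b7a865ce6) (nat_lit 1539))
 (.leaf (nat_lit 0x1009b7a867ca6) (nat_lit 1540))
) (.node (nat_lit 0x1009b7a965ca6) (.leaf (nat_lit 0x1009b7a867ce6) (nat_lit 1792))
 (.leaf (nat_lit 0x1009b7a965ca6) (nat_lit 1284))
)))) (.node (nat_lit 0x1009be1365888) (.node (nat_lit 0x1009be1265888) (.node (nat_lit 0x1009b7a967ca6) (.leaf (nat_lit 0x1009b7a965ce6) (nat_lit 1536))
 (.node (nat_lit 0x1009b7a967ce6) (.leaf (nat_lit 0x1009b7a967ca6) (nat_lit 1795))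
 (.leaf (nat_lit 0x1009b7a967ce6) (nat_lit 1539))
)) (.node (nat_lit 0x1009be1267888) (.node (nat_lit 0x1009be12658c8) (.leaf (nat_lit 0x1009be1265888) (nat_lit 2052))
 (.leaf (nat_lit 0x1009be12658c8) (nat_lit 2052))
) (.node (nat_lit 0x1009be12678c8) (.leaf (nat_lit 0x1009be1267888) (nat_lit 2052))
 (.leaf (nat_lit 0x1009be12678c8) (nat_lit 2308))
))) (.node (nat_lit 0x1009be2a658af) (.node (nat_lit 0x1009be1367888) (.node (nat_lit 0x1009be13658c8) (.leaf (nat_lit 0x1009be1365888) (nat_lit 2051))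
 (.leaf (nat_lit 0x1009be13658c8) (nat_lit 1794))
) (.node (nat_lit 0x1009be13678c8) (.leaf (nat_lit 0x1009be1367888) (nat_lit 2050))
 (.leaf (nat_lit 0x1009be13678c8) (nat_lit 2052))
)) (.node (nat_lit 0x1009be2a678af) (.node (nat_lit 0x1009be2a658ef) (.leaf (nat_lit 0x1009be2a658af) (nat_lit 1539))
 (.leaf (nat_lit 0x1009be2a658ef) (nat_lit 1539))
) (.node (nat_lit 0x1009be2a678ef) (.leaf (nat_lit 0x1009be2a678af) (nat_lit 1283))
 (.leaf (nat_lit 0x1009be2a678ef) (nat_lit 1536))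
)))))) (.node (nat_lit 0x1009d8766619c) (.node (nat_lit 0x1009beaa678ef) (.node (nat_lit 0x1009be92678c8) (.node (nat_lit 0x1009be2b678ef) (.node (nat_lit 0x1009be2b658ef) (.leaf (nat_lit 0x1009be2b658af) (nat_lit 1536))
 (.node (nat_lit 0x1009be2b678af) (.leaf (nat_lit 0x1009be2b658ef) (nat_lit 1283))
 (.leaf (nat_lit 0x1009be2b678af) (nat_lit 1539))
)) (.node (nat_lit 0x1009be92658c8) (.node (nat_lit 0x1009be9265888) (.leaf (nat_lit 0x1009be2b678ef) (nat_lit 1539))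
 (.leaf (nat_lit 0x1009be9265888) (nat_lit 2306))
) (.node (nat_lit 0x1009be9267888) (.leaf (nat_lit 0x1009be92658c8) (nat_lit 2308))
 (.leaf (nat_lit 0x1009be9267888) (nat_lit 2052))
))) (.node (nat_lit 0x1009be93678c8) (.node (nat_lit 0x1009be93658c8) (.node (nat_lit 0x1009be9365888) (.leaf (nat_lit 0x1009be92678c8) (nat_lit 2050))
 (.leaf (nat_lit 0x1009be9365888) (nat_lit 2307))
) (.node (nat_lit 0x1009be9367888) (.leaf (nat_lit 0x1009be93658c8) (nat_lit 2052))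
 (.leaf (nat_lit 0x1009be9367888) (nat_lit 2052))
)) (.node (nat_lit 0x1009beaa658ef) (.node (nat_lit 0x1009beaa658af) (.leaf (nat_lit 0x1009be93678c8) (nat_lit 2052))
 (.leaf (nat_lit 0x1009beaa658af) (nat_lit 1795))
) (.node (nat_lit 0x1009beaa678af) (.leaf (nat_lit 0x1009beaa658ef) (nat_lit 1540))
 (.leaf (nat_lit 0x1009beaa678af) (nat_lit 1537))
)))) (.node (nat_lit 0x1009d8666619d) (.node (nat_lit 0x1009beab678af) (.node (nat_lit 0x1009beab658af) (.leaf (nat_lit 0x1009beaa678ef) (nat_lit 1793))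
 (.node (nat_lit 0x1009beab658ef) (.leaf (nat_lit 0x1009beab658af) (nat_lit 1793))
 (.leaf (nat_lit 0x1009beab658ef) (nat_lit 1537))
)) (.node (nat_lit 0x1009d8666419d) (.node (nat_lit 0x1009beab678ef) (.leaf (nat_lit 0x1009beab678af) (nat_lit 1793))
 (.leaf (nat_lit 0x1009beab678ef) (nat_lit 1795))
) (.node (nat_lit 0x1009d866641dd) (.leaf (nat_lit 0x1009d8666419d) (nat_lit 1537))
 (.leaf (nat_lit 0x1009d866641dd) (nat_lit 1281))
))) (.node (nat_lit 0x1009d8676619d) (.node (nat_lit 0x1009d8676419d) (.node (nat_lit 0x1009d866661dd) (.leaf (nat_lit 0x1009d8666619d) (nat_lit 1537))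
 (.leaf (nat_lit 0x1009d866661dd) (nat_lit 1283))
) (.node (nat_lit 0x1009d867641dd) (.leaf (nat_lit 0x1009d8676419d) (nat_lit 514))
 (.leaf (nat_lit 0x1009d867641dd) (nat_lit 768))
)) (.node (nat_lit 0x1009d8766419c) (.node (nat_lit 0x1009d867661dd) (.leaf (nat_lit 0x1009d8676619d) (nat_lit 1024))
 (.leaf (nat_lit 0x1009d867661dd) (nat_lit 770))
) (.node (nat_lit 0x1009d876641dc) (.leaf (nat_lit 0x1009d8766419c) (nat_lit 1281))
 (.leaf (nat_lit 0x1009d876641dc) (nat_lit 1281))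
))))) (.node (nat_lit 0x1009d8f6641dc) (.node (nat_lit 0x1009d8e6641dd) (.node (nat_lit 0x1009d877641dc) (.node (nat_lit 0x1009d876661dc) (.leaf (nat_lit 0x1009d8766619c) (nat_lit 1537))
 (.node (nat_lit 0x1009d8776419c) (.leaf (nat_lit 0x1009d876661dc) (nat_lit 1537))
 (.leaf (nat_lit 0x1009d8776419c) (nat_lit 1538))
)) (.node (nat_lit 0x1009d877661dc) (.node (nat_lit 0x1009d8776619c) (.leaf (nat_lit 0x1009d877641dc) (nat_lit 1538))
 (.leaf (nat_lit 0x1009d8776619c) (nat_lit 1794))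
) (.node (nat_lit 0x1009d8e66419d) (.leaf (nat_lit 0x1009d877661dc) (nat_lit 1539))
 (.leaf (nat_lit 0x1009d8e66419d) (nat_lit 1280))
))) (.node (nat_lit 0x1009d8e7641dd) (.node (nat_lit 0x1009d8e6661dd) (.node (nat_lit 0x1009d8e66619d) (.leaf (nat_lit 0x1009d8e6641dd) (nat_lit 1026))
 (.leaf (nat_lit 0x1009d8e66619d) (nat_lit 1282))
) (.node (nat_lit 0x1009d8e76419d) (.leaf (nat_lit 0x1009d8e6661dd) (nat_lit 1536))
 (.leaf (nat_lit 0x1009d8e76419d) (nat_lit 769))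
)) (.node (nat_lit 0x1009d8e7661dd) (.node (nat_lit 0x1009d8e76619d) (.leaf (nat_lit 0x1009d8e7641dd) (nat_lit 1025))
 (.leaf (nat_lit 0x1009d8e76619d) (nat_lit 1281))
) (.node (nat_lit 0x1009d8f66419c) (.leaf (nat_lit 0x1009d8e7661dd) (nat_lit 1025))
 (.leaf (nat_lit 0x1009d8f66419c) (nat_lit 1026))
)))) (.node (nat_lit 0x1009e32864fa6) (.node (nat_lit 0x1009d8f76419c) (.node (nat_lit 0x1009d8f66619c) (.leaf (nat_lit 0x1009d8f6641dc) (nat_lit 1026))
 (.node (nat_lit 0x1009d8f6661dc) (.leaf (nat_lit 0x1009d8f66619c) (nat_lit 1282))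
 (.leaf (nat_lit 0x1009d8f6661dc) (nat_lit 1282))
)) (.node (nat_lit 0x1009d8f76619c) (.node (nat_lit 0x1009d8f7641dc) (.leaf (nat_lit 0x1009d8f76419c) (nat_lit 1283))
 (.leaf (nat_lit 0x1009d8f7641dc) (nat_lit 1538))
) (.node (nat_lit 0x1009d8f7661dc) (.leaf (nat_lit 0x1009d8f76619c) (nat_lit 1795))
 (.leaf (nat_lit 0x1009d8f7661dc) (nat_lit 1538))
))) (.node (nat_lit 0x1009e32964fa6) (.node (nat_lit 0x1009e32866fa6) (.node (nat_lit 0x1009e32864fe6) (.leaf (nat_lit 0x1009e32864fa6) (nat_lit 1795))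
 (.leaf (nat_lit 0x1009e32864fe6) (nat_lit 2050))
) (.node (nat_lit 0x1009e32866fe6) (.leaf (nat_lit 0x1009e32866fa6) (nat_lit 1796))
 (.leaf (nat_lit 0x1009e32866fe6) (nat_lit 2052))
)) (.node (nat_lit 0x1009e32966fa6) (.node (nat_lit 0x1009e32964fe6) (.leaf (nat_lit 0x1009e32964fa6) (nat_lit 1796))
 (.leaf (nat_lit 0x1009e32964fe6) (nat_lit 2052))
) (.node (nat_lit 0x1009e32966fe6) (.leaf (nat_lit 0x1009e32966fa6) (nat_lit 1795))
 (.leaf (nat_lit 0x1009e32966fe6) (nat_lit 1796))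
))))))) (.node (nat_lit 0x1009f71365c88) (.node (nat_lit 0x1009eb2b66f2f) (.node (nat_lit 0x1009e3a966fe6) (.node (nat_lit 0x1009e37766fdc) (.node (nat_lit 0x1009e37666fdc) (.node (nat_lit 0x1009e37664fdc) (.leaf (nat_lit 0x1009e37664f9c) (nat_lit 1028))
 (.node (nat_lit 0x1009e37666f9c) (.leaf (nat_lit 0x1009e37664fdc) (nat_lit 1280))
 (.leaf (nat_lit 0x1009e37666f9c) (nat_lit 1280))
)) (.node (nat_lit 0x1009e37764fdc) (.node (nat_lit 0x1009e37764f9c) (.leaf (nat_lit 0x1009e37666fdc) (nat_lit 1028))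
 (.leaf (nat_lit 0x1009e37764f9c) (nat_lit 1025))
) (.node (nat_lit 0x1009e37766f9c) (.leaf (nat_lit 0x1009e37764fdc) (nat_lit 1281))
 (.leaf (nat_lit 0x1009e37766f9c) (nat_lit 1281))
))) (.node (nat_lit 0x1009e3a866fe6) (.node (nat_lit 0x1009e3a864fe6) (.node (nat_lit 0x1009e3a864fa6) (.leaf (nat_lit 0x1009e37766fdc) (nat_lit 1025))
 (.leaf (nat_lit 0x1009e3a864fa6) (nat_lit 1794))
) (.node (nat_lit 0x1009e3a866fa6) (.leaf (nat_lit 0x1009e3a864fe6) (nat_lit 2052))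
 (.leaf (nat_lit 0x1009e3a866fa6) (nat_lit 1794))
)) (.node (nat_lit 0x1009e3a964fe6) (.node (nat_lit 0x1009e3a964fa6) (.leaf (nat_lit 0x1009e3a866fe6) (nat_lit 2052))
 (.leaf (nat_lit 0x1009e3a964fa6) (nat_lit 1796))
) (.node (nat_lit 0x1009e3a966fa6) (.leaf (nat_lit 0x1009e3a964fe6) (nat_lit 1794))
 (.leaf (nat_lit 0x1009e3a966fa6) (nat_lit 2050))
)))) (.node (nat_lit 0x1009e3f766f9c) (.node (nat_lit 0x1009e3f666f9c) (.node (nat_lit 0x1009e3f664f9c) (.leaf (nat_lit 0x1009e3a966fe6) (nat_lit 1794))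
 (.node (nat_lit 0x1009e3f664fdc) (.leaf (nat_lit 0x1009e3f664f9c) (nat_lit 1027))
 (.leaf (nat_lit 0x1009e3f664fdc) (nat_lit 1280))
)) (.node (nat_lit 0x1009e3f764f9c) (.node (nat_lit 0x1009e3f666fdc) (.leaf (nat_lit 0x1009e3f666f9c) (nat_lit 1539))
 (.leaf (nat_lit 0x1009e3f666fdc) (nat_lit 1284))
) (.node (nat_lit 0x1009e3f764fdc) (.leaf (nat_lit 0x1009e3f764f9c) (nat_lit 772))
 (.leaf (nat_lit 0x1009e3f764fdc) (nat_lit 1024))
))) (.node (nat_lit 0x1009eb2a66f2f) (.node (nat_lit 0x1009eb2a64f2f) (.node (nat_lit 0x1009e3f766fdc) (.leaf (nat_lit 0x1009e3f766f9c) (nat_lit 1024))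
 (.leaf (nat_lit 0x1009e3f766fdc) (nat_lit 772))
) (.node (nat_lit 0x1009eb2a64f6f) (.leaf (nat_lit 0x1009eb2a64f2f) (nat_lit 1794))
 (.leaf (nat_lit 0x1009eb2a64f6f) (nat_lit 1795))
)) (.node (nat_lit 0x1009eb2b64f2f) (.node (nat_lit 0x1009eb2a66f6f) (.leaf (nat_lit 0x1009eb2a66f2f) (nat_lit 1795))
 (.leaf (nat_lit 0x1009eb2a66f6f) (nat_lit 1539))
) (.node (nat_lit 0x1009eb2b64f6f) (.leaf (nat_lit 0x1009eb2b64f2f) (nat_lit 1795))
 (.leaf (nat_lit 0x1009eb2b64f6f) (nat_lit 1794))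
))))) (.node (nat_lit 0x1009ebab64f6f) (.node (nat_lit 0x1009eb6764f5d) (.node (nat_lit 0x1009eb6664f5d) (.node (nat_lit 0x1009eb2b66f6f) (.leaf (nat_lit 0x1009eb2b66f2f) (nat_lit 1539))
 (.node (nat_lit 0x1009eb6664f1d) (.leaf (nat_lit 0x1009eb2b66f6f) (nat_lit 1795))
 (.leaf (nat_lit 0x1009eb6664f1d) (nat_lit 1284))
)) (.node (nat_lit 0x1009eb6666f5d) (.node (nat_lit 0x1009eb6666f1d) (.leaf (nat_lit 0x1009eb6664f5d) (nat_lit 1536))
 (.leaf (nat_lit 0x1009eb6666f1d) (nat_lit 1283))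
) (.node (nat_lit 0x1009eb6764f1d) (.leaf (nat_lit 0x1009eb6666f5d) (nat_lit 1540))
 (.leaf (nat_lit 0x1009eb6764f1d) (nat_lit 1282))
))) (.node (nat_lit 0x1009ebaa64f6f) (.node (nat_lit 0x1009eb6766f5d) (.node (nat_lit 0x1009eb6766f1d) (.leaf (nat_lit 0x1009eb6764f5d) (nat_lit 1283))
 (.leaf (nat_lit 0x1009eb6766f1d) (nat_lit 768))
) (.node (nat_lit 0x1009ebaa64f2f) (.leaf (nat_lit 0x1009eb6766f5d) (nat_lit 516))
 (.leaf (nat_lit 0x1009ebaa64f2f) (nat_lit 1795))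
)) (.node (nat_lit 0x1009ebaa66f6f) (.node (nat_lit 0x1009ebaa66f2f) (.leaf (nat_lit 0x1009ebaa64f6f) (nat_lit 2051))
 (.leaf (nat_lit 0x1009ebaa66f2f) (nat_lit 2051))
) (.node (nat_lit 0x1009ebab64f2f) (.leaf (nat_lit 0x1009ebaa66f6f) (nat_lit 1795))
 (.leaf (nat_lit 0x1009ebab64f2f) (nat_lit 2050))
)))) (.node (nat_lit 0x1009ebe764f1d) (.node (nat_lit 0x1009ebe664f1d) (.node (nat_lit 0x1009ebab66f2f) (.leaf (nat_lit 0x1009ebab64f6f) (nat_lit 1795))
 (.node (nat_lit 0x1009ebab66f6f) (.leaf (nat_lit 0x1009ebab66f2f) (nat_lit 1795))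
 (.leaf (nat_lit 0x1009ebab66f6f) (nat_lit 2051))
)) (.node (nat_lit 0x1009ebe666f1d) (.node (nat_lit 0x1009ebe664f5d) (.leaf (nat_lit 0x1009ebe664f1d) (nat_lit 1026))
 (.leaf (nat_lit 0x1009ebe664f5d) (nat_lit 1282))
) (.node (nat_lit 0x1009ebe666f5d) (.leaf (nat_lit 0x1009ebe666f1d) (nat_lit 1539))
 (.leaf (nat_lit 0x1009ebe666f5d) (nat_lit 1282))
))) (.node (nat_lit 0x1009f71265c88) (.node (nat_lit 0x1009ebe766f1d) (.node (nat_lit 0x1009ebe764f5d) (.leaf (nat_lit 0x1009ebe764f1d) (nat_lit 1538))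
 (.leaf (nat_lit 0x1009ebe764f5d) (nat_lit 1539))
) (.node (nat_lit 0x1009ebe766f5d) (.leaf (nat_lit 0x1009ebe766f1d) (nat_lit 1025))
 (.leaf (nat_lit 0x1009ebe766f5d) (nat_lit 769))
)) (.node (nat_lit 0x1009f71267c88) (.node (nat_lit 0x1009f71265cc8) (.leaf (nat_lit 0x1009f71265c88) (nat_lit 1795))
 (.leaf (nat_lit 0x1009f71265cc8) (nat_lit 2052))
) (.node (nat_lit 0x1009f71267cc8) (.leaf (nat_lit 0x1009f71267c88) (nat_lit 1792))
 (.leaf (nat_lit 0x1009f71267cc8) (nat_lit 1540))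
)))))) (.node (nat_lit 0x1009fe1267888) (.node (nat_lit 0x1009f79267cc8) (.node (nat_lit 0x1009f72867ce6) (.node (nat_lit 0x1009f71367cc8) (.node (nat_lit 0x1009f71365cc8) (.leaf (nat_lit 0x1009f71365c88) (nat_lit 2049))
 (.node (nat_lit 0x1009f71367c88) (.leaf (nat_lit 0x1009f71365cc8) (nat_lit 2051))
 (.leaf (nat_lit 0x1009f71367c88) (nat_lit 2052))
)) (.node (nat_lit 0x1009f72865ce6) (.node (nat_lit 0x1009f72865ca6) (.leaf (nat_lit 0x1009f71367cc8) (nat_lit 1796))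
 (.leaf (nat_lit 0x1009f72865ca6) (nat_lit 1536))
) (.node (nat_lit 0x1009f72867ca6) (.leaf (nat_lit 0x1009f72865ce6) (nat_lit 1283))
 (.leaf (nat_lit 0x1009f72867ca6) (nat_lit 1539))
))) (.node (nat_lit 0x1009f72967ce6) (.node (nat_lit 0x1009f72965ce6) (.node (nat_lit 0x1009f72965ca6) (.leaf (nat_lit 0x1009f72867ce6) (nat_lit 1792))
 (.leaf (nat_lit 0x1009f72965ca6) (nat_lit 1539))
) (.node (nat_lit 0x1009f72967ca6) (.leaf (nat_lit 0x1009f72965ce6) (nat_lit 1792))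
 (.leaf (nat_lit 0x1009f72967ca6) (nat_lit 1792))
)) (.node (nat_lit 0x1009f79265cc8) (.node (nat_lit 0x1009f79265c88) (.leaf (nat_lit 0x1009f72967ce6) (nat_lit 1539))
 (.leaf (nat_lit 0x1009f79265c88) (nat_lit 2052))
) (.node (nat_lit 0x1009f79267c88) (.leaf (nat_lit 0x1009f79265cc8) (nat_lit 2052))
 (.leaf (nat_lit 0x1009f79267c88) (nat_lit 2052))
)))) (.node (nat_lit 0x1009f7a867ca6) (.node (nat_lit 0x1009f79367c88) (.node (nat_lit 0x1009f79365c88) (.leaf (nat_lit 0x1009f79267cc8) (nat_lit 1793))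
 (.node (nat_lit 0x1009f79365cc8) (.leaf (nat_lit 0x1009f79365c88) (nat_lit 1796))
 (.leaf (nat_lit 0x1009f79365cc8) (nat_lit 2048))
)) (.node (nat_lit 0x1009f7a865ca6) (.node (nat_lit 0x1009f79367cc8) (.leaf (nat_lit 0x1009f79367c88) (nat_lit 2052))
 (.leaf (nat_lit 0x1009f79367cc8) (nat_lit 2051))
) (.node (nat_lit 0x1009f7a865ce6) (.leaf (nat_lit 0x1009f7a865ca6) (nat_lit 1796))
 (.leaf (nat_lit 0x1009f7a865ce6) (nat_lit 1537))
))) (.node (nat_lit 0x1009f7a967ca6) (.node (nat_lit 0x1009f7a965ca6) (.node (nat_lit 0x1009f7a867ce6) (.leaf (nat_lit 0x1009f7a867ca6) (nat_lit 1796))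
 (.leaf (nat_lit 0x1009f7a867ce6) (nat_lit 1540))
) (.node (nat_lit 0x1009f7a965ce6) (.leaf (nat_lit 0x1009f7a965ca6) (nat_lit 1540))
 (.leaf (nat_lit 0x1009f7a965ce6) (nat_lit 1796))
)) (.node (nat_lit 0x1009fe1265888) (.node (nat_lit 0x1009f7a967ce6) (.leaf (nat_lit 0x1009f7a967ca6) (nat_lit 1540))
 (.leaf (nat_lit 0x1009f7a967ce6) (nat_lit 1793))
) (.node (nat_lit 0x1009fe12658c8) (.leaf (nat_lit 0x1009fe1265888) (nat_lit 1796))
 (.leaf (nat_lit 0x1009fe12658c8) (nat_lit 2048))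
))))) (.node (nat_lit 0x1009fe92658c8) (.node (nat_lit 0x1009fe2a658ef) (.node (nat_lit 0x1009fe13658c8) (.node (nat_lit 0x1009fe12678c8) (.leaf (nat_lit 0x1009fe1267888) (nat_lit 2308))
 (.node (nat_lit 0x1009fe1365888) (.leaf (nat_lit 0x1009fe12678c8) (nat_lit 2308))
 (.leaf (nat_lit 0x1009fe1365888) (nat_lit 2052))
)) (.node (nat_lit 0x1009fe13678c8) (.node (nat_lit 0x1009fe1367888) (.leaf (nat_lit 0x1009fe13658c8) (nat_lit 2050))
 (.leaf (nat_lit 0x1009fe1367888) (nat_lit 2308))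
) (.node (nat_lit 0x1009fe2a658af) (.leaf (nat_lit 0x1009fe13678c8) (nat_lit 2051))
 (.leaf (nat_lit 0x1009fe2a658af) (nat_lit 1539))
))) (.node (nat_lit 0x1009fe2b658ef) (.node (nat_lit 0x1009fe2a678ef) (.node (nat_lit 0x1009fe2a678af) (.leaf (nat_lit 0x1009fe2a658ef) (nat_lit 1539))
 (.leaf (nat_lit 0x1009fe2a678af) (nat_lit 1795))
) (.node (nat_lit 0x1009fe2b658af) (.leaf (nat_lit 0x1009fe2a678ef) (nat_lit 1795))
 (.leaf (nat_lit 0x1009fe2b658af) (nat_lit 1540))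
)) (.node (nat_lit 0x1009fe2b678ef) (.node (nat_lit 0x1009fe2b678af) (.leaf (nat_lit 0x1009fe2b658ef) (nat_lit 1795))
 (.leaf (nat_lit 0x1009fe2b678af) (nat_lit 1539))
) (.node (nat_lit 0x1009fe9265888) (.leaf (nat_lit 0x1009fe2b678ef) (nat_lit 1539))
 (.leaf (nat_lit 0x1009fe9265888) (nat_lit 2050))
)))) (.node (nat_lit 0x1009feaa658af) (.node (nat_lit 0x1009fe9365888) (.node (nat_lit 0x1009fe9267888) (.leaf (nat_lit 0x1009fe92658c8) (nat_lit 2307))
 (.node (nat_lit 0x1009fe92678c8) (.leaf (nat_lit 0x1009fe9267888) (nat_lit 2308))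
 (.leaf (nat_lit 0x1009fe92678c8) (nat_lit 2307))
)) (.node (nat_lit 0x1009fe9367888) (.node (nat_lit 0x1009fe93658c8) (.leaf (nat_lit 0x1009fe9365888) (nat_lit 2052))
 (.leaf (nat_lit 0x1009fe93658c8) (nat_lit 2050))
) (.node (nat_lit 0x1009fe93678c8) (.leaf (nat_lit 0x1009fe9367888) (nat_lit 2308))
 (.leaf (nat_lit 0x1009fe93678c8) (nat_lit 2052))
))) (.node (nat_lit 0x1009feab658af) (.node (nat_lit 0x1009feaa678af) (.node (nat_lit 0x1009feaa658ef) (.leaf (nat_lit 0x1009feaa658af) (nat_lit 1793))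
 (.leaf (nat_lit 0x1009feaa658ef) (nat_lit 1795))
) (.node (nat_lit 0x1009feaa678ef) (.leaf (nat_lit 0x1009feaa678af) (nat_lit 1539))
 (.leaf (nat_lit 0x1009feaa678ef) (nat_lit 1539))
)) (.node (nat_lit 0x1009feab678af) (.node (nat_lit 0x1009feab658ef) (.leaf (nat_lit 0x1009feab658af) (nat_lit 1539))
 (.leaf (nat_lit 0x1009feab658ef) (nat_lit 1539))
) (.node (nat_lit 0x1009feab678ef) (.leaf (nat_lit 0x1009feab678af) (nat_lit 1795))
 (.leaf (nat_lit 0x1009feab678ef) (nat_lit 1795))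
)))))))))) (.node (nat_lit 0x10104d4c11632) (.node (nat_lit 0x100d6aba44bae) (.node (nat_lit 0x100d37ba45cae) (.node (nat_lit 0x100d22e544b14) (.node (nat_lit 0x100d10f546115) (.node (nat_lit 0x100d107546155) (.node (nat_lit 0x100d106546154) (.node (nat_lit 0x100d106446154) (.node (nat_lit 0x100d106444154) (.leaf (nat_lit 0x100d106444114) (nat_lit 1537))
 (.node (nat_lit 0x100d106446114) (.leaf (nat_lit 0x100d106444154) (nat_lit 1794))
 (.leaf (nat_lit 0x100d106446114) (nat_lit 1537))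
)) (.node (nat_lit 0x100d106544154) (.node (nat_lit 0x100d106544114) (.leaf (nat_lit 0x100d106446154) (nat_lit 1281))
 (.leaf (nat_lit 0x100d106544114) (nat_lit 1538))
) (.node (nat_lit 0x100d106546114) (.leaf (nat_lit 0x100d106544154) (nat_lit 1538))
 (.leaf (nat_lit 0x100d106546114) (nat_lit 1538))
))) (.node (nat_lit 0x100d107446155) (.node (nat_lit 0x100d107444155) (.node (nat_lit 0x100d107444115) (.leaf (nat_lit 0x100d106546154) (nat_lit 1537))
 (.leaf (nat_lit 0x100d107444115) (nat_lit 1026))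
) (.node (nat_lit 0x100d107446115) (.leaf (nat_lit 0x100d107444155) (nat_lit 1280))
 (.leaf (nat_lit 0x100d107446115) (nat_lit 1282))
)) (.node (nat_lit 0x100d107544155) (.node (nat_lit 0x100d107544115) (.leaf (nat_lit 0x100d107446155) (nat_lit 1282))
 (.leaf (nat_lit 0x100d107544115) (nat_lit 1282))
) (.node (nat_lit 0x100d107546115) (.leaf (nat_lit 0x100d107544155) (nat_lit 1282))
 (.leaf (nat_lit 0x100d107546115) (nat_lit 1280))
)))) (.node (nat_lit 0x100d10e546114) (.node (nat_lit 0x100d10e446114) (.node (nat_lit 0x100d10e444114) (.leaf (nat_lit 0x100d107546155) (nat_lit 1026))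
 (.node (nat_lit 0x100d10e444154) (.leaf (nat_lit 0x100d10e444114) (nat_lit 1282))
 (.leaf (nat_lit 0x100d10e444154) (nat_lit 1536))
)) (.node (nat_lit 0x100d10e544114) (.node (nat_lit 0x100d10e446154) (.leaf (nat_lit 0x100d10e446114) (nat_lit 1280))
 (.leaf (nat_lit 0x100d10e446154) (nat_lit 1026))
) (.node (nat_lit 0x100d10e544154) (.leaf (nat_lit 0x100d10e544114) (nat_lit 1538))
 (.leaf (nat_lit 0x100d10e544154) (nat_lit 1538))
))) (.node (nat_lit 0x100d10f446115) (.node (nat_lit 0x100d10f444115) (.node (nat_lit 0x100d10e546154) (.leaf (nat_lit 0x100d10e546114) (nat_lit 1283))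
 (.leaf (nat_lit 0x100d10e546154) (nat_lit 1282))
) (.node (nat_lit 0x100d10f444155) (.leaf (nat_lit 0x100d10f444115) (nat_lit 1281))
 (.leaf (nat_lit 0x100d10f444155) (nat_lit 1537))
)) (.node (nat_lit 0x100d10f544115) (.node (nat_lit 0x100d10f446155) (.leaf (nat_lit 0x100d10f446115) (nat_lit 1537))
 (.leaf (nat_lit 0x100d10f446155) (nat_lit 1537))
) (.node (nat_lit 0x100d10f544155) (.leaf (nat_lit 0x100d10f544115) (nat_lit 1537))
 (.leaf (nat_lit 0x100d10f544155) (nat_lit 1537))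
))))) (.node (nat_lit 0x100d226544b54) (.node (nat_lit 0x100d223944b67) (.node (nat_lit 0x100d223844b67) (.node (nat_lit 0x100d10f546155) (.leaf (nat_lit 0x100d10f546115) (nat_lit 1537))
 (.node (nat_lit 0x100d223844b27) (.leaf (nat_lit 0x100d10f546155) (nat_lit 1281))
 (.leaf (nat_lit 0x100d223844b27) (nat_lit 1540))
)) (.node (nat_lit 0x100d223846b67) (.node (nat_lit 0x100d223846b27) (.leaf (nat_lit 0x100d223844b67) (nat_lit 1796))
 (.leaf (nat_lit 0x100d223846b27) (nat_lit 1793))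
) (.node (nat_lit 0x100d223944b27) (.leaf (nat_lit 0x100d223846b67) (nat_lit 1796))
 (.leaf (nat_lit 0x100d223944b27) (nat_lit 1540))
))) (.node (nat_lit 0x100d226444b54) (.node (nat_lit 0x100d223946b67) (.node (nat_lit 0x100d223946b27) (.leaf (nat_lit 0x100d223944b67) (nat_lit 1796))
 (.leaf (nat_lit 0x100d223946b27) (nat_lit 1793))
) (.node (nat_lit 0x100d226444b14) (.leaf (nat_lit 0x100d223946b67) (nat_lit 1537))
 (.leaf (nat_lit 0x100d226444b14) (nat_lit 1537))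
)) (.node (nat_lit 0x100d226446b54) (.node (nat_lit 0x100d226446b14) (.leaf (nat_lit 0x100d226444b54) (nat_lit 1281))
 (.leaf (nat_lit 0x100d226446b14) (nat_lit 1028))
) (.node (nat_lit 0x100d226544b14) (.leaf (nat_lit 0x100d226446b54) (nat_lit 1280))
 (.leaf (nat_lit 0x100d226544b14) (nat_lit 1281))
)))) (.node (nat_lit 0x100d22b944b27) (.node (nat_lit 0x100d22b844b27) (.node (nat_lit 0x100d226546b14) (.leaf (nat_lit 0x100d226544b54) (nat_lit 1025))
 (.node (nat_lit 0x100d226546b54) (.leaf (nat_lit 0x100d226546b14) (nat_lit 1284))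
 (.leaf (nat_lit 0x100d226546b54) (nat_lit 1536))
)) (.node (nat_lit 0x100d22b846b27) (.node (nat_lit 0x100d22b844b67) (.leaf (nat_lit 0x100d22b844b27) (nat_lit 1540))
 (.leaf (nat_lit 0x100d22b844b67) (nat_lit 1796))
) (.node (nat_lit 0x100d22b846b67) (.leaf (nat_lit 0x100d22b846b27) (nat_lit 1540))
 (.leaf (nat_lit 0x100d22b846b67) (nat_lit 1792))
))) (.node (nat_lit 0x100d22e444b14) (.node (nat_lit 0x100d22b946b27) (.node (nat_lit 0x100d22b944b67) (.leaf (nat_lit 0x100d22b944b27) (nat_lit 1796))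
 (.leaf (nat_lit 0x100d22b944b67) (nat_lit 1796))
) (.node (nat_lit 0x100d22b946b67) (.leaf (nat_lit 0x100d22b946b27) (nat_lit 1536))
 (.leaf (nat_lit 0x100d22b946b67) (nat_lit 1284))
)) (.node (nat_lit 0x100d22e446b14) (.node (nat_lit 0x100d22e444b54) (.leaf (nat_lit 0x100d22e444b14) (nat_lit 1280))
 (.leaf (nat_lit 0x100d22e444b54) (nat_lit 1028))
) (.node (nat_lit 0x100d22e446b54) (.leaf (nat_lit 0x100d22e446b14) (nat_lit 1027))
 (.leaf (nat_lit 0x100d22e446b54) (nat_lit 1280))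
)))))) (.node (nat_lit 0x100d2af446b95) (.node (nat_lit 0x100d2a7446bd5) (.node (nat_lit 0x100d2a3a46bee) (.node (nat_lit 0x100d22e546b54) (.node (nat_lit 0x100d22e544b54) (.leaf (nat_lit 0x100d22e544b14) (nat_lit 1024))
 (.node (nat_lit 0x100d22e546b14) (.leaf (nat_lit 0x100d22e544b54) (nat_lit 772))
 (.leaf (nat_lit 0x100d22e546b14) (nat_lit 1283))
)) (.node (nat_lit 0x100d2a3a44bee) (.node (nat_lit 0x100d2a3a44bae) (.leaf (nat_lit 0x100d22e546b54) (nat_lit 1283))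
 (.leaf (nat_lit 0x100d2a3a44bae) (nat_lit 1795))
) (.node (nat_lit 0x100d2a3a46bae) (.leaf (nat_lit 0x100d2a3a44bee) (nat_lit 2051))
 (.leaf (nat_lit 0x100d2a3a46bae) (nat_lit 2051))
))) (.node (nat_lit 0x100d2a3b46bee) (.node (nat_lit 0x100d2a3b44bee) (.node (nat_lit 0x100d2a3b44bae) (.leaf (nat_lit 0x100d2a3a46bee) (nat_lit 1795))
 (.leaf (nat_lit 0x100d2a3b44bae) (nat_lit 2051))
) (.node (nat_lit 0x100d2a3b46bae) (.leaf (nat_lit 0x100d2a3b44bee) (nat_lit 1795))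
 (.leaf (nat_lit 0x100d2a3b46bae) (nat_lit 2050))
)) (.node (nat_lit 0x100d2a7444bd5) (.node (nat_lit 0x100d2a7444b95) (.leaf (nat_lit 0x100d2a3b46bee) (nat_lit 2051))
 (.leaf (nat_lit 0x100d2a7444b95) (nat_lit 1536))
) (.node (nat_lit 0x100d2a7446b95) (.leaf (nat_lit 0x100d2a7444bd5) (nat_lit 1284))
 (.leaf (nat_lit 0x100d2a7446b95) (nat_lit 1280))
)))) (.node (nat_lit 0x100d2aba46bae) (.node (nat_lit 0x100d2a7546b95) (.node (nat_lit 0x100d2a7544b95) (.leaf (nat_lit 0x100d2a7446bd5) (nat_lit 1028))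
 (.node (nat_lit 0x100d2a7544bd5) (.leaf (nat_lit 0x100d2a7544b95) (nat_lit 1284))
 (.leaf (nat_lit 0x100d2a7544bd5) (nat_lit 1536))
)) (.node (nat_lit 0x100d2aba44bae) (.node (nat_lit 0x100d2a7546bd5) (.leaf (nat_lit 0x100d2a7546b95) (nat_lit 1028))
 (.leaf (nat_lit 0x100d2a7546bd5) (nat_lit 1280))
) (.node (nat_lit 0x100d2aba44bee) (.leaf (nat_lit 0x100d2aba44bae) (nat_lit 1794))
 (.leaf (nat_lit 0x100d2aba44bee) (nat_lit 2050))
))) (.node (nat_lit 0x100d2abb46bae) (.node (nat_lit 0x100d2abb44bae) (.node (nat_lit 0x100d2aba46bee) (.leaf (nat_lit 0x100d2aba46bae) (nat_lit 1795))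
 (.leaf (nat_lit 0x100d2aba46bee) (nat_lit 1539))
) (.node (nat_lit 0x100d2abb44bee) (.leaf (nat_lit 0x100d2abb44bae) (nat_lit 1795))
 (.leaf (nat_lit 0x100d2abb44bee) (nat_lit 2051))
)) (.node (nat_lit 0x100d2af444b95) (.node (nat_lit 0x100d2abb46bee) (.leaf (nat_lit 0x100d2abb46bae) (nat_lit 1795))
 (.leaf (nat_lit 0x100d2abb46bee) (nat_lit 2051))
) (.node (nat_lit 0x100d2af444bd5) (.leaf (nat_lit 0x100d2af444b95) (nat_lit 1540))
 (.leaf (nat_lit 0x100d2af444bd5) (nat_lit 1537))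
))))) (.node (nat_lit 0x100d373a45cee) (.node (nat_lit 0x100d371245cc8) (.node (nat_lit 0x100d2af544bd5) (.node (nat_lit 0x100d2af446bd5) (.leaf (nat_lit 0x100d2af446b95) (nat_lit 1537))
 (.node (nat_lit 0x100d2af544b95) (.leaf (nat_lit 0x100d2af446bd5) (nat_lit 1281))
 (.leaf (nat_lit 0x100d2af544b95) (nat_lit 1284))
)) (.node (nat_lit 0x100d2af546bd5) (.node (nat_lit 0x100d2af546b95) (.leaf (nat_lit 0x100d2af544bd5) (nat_lit 1536))
 (.leaf (nat_lit 0x100d2af546b95) (nat_lit 1281))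
) (.node (nat_lit 0x100d371245c88) (.leaf (nat_lit 0x100d2af546bd5) (nat_lit 1537))
 (.leaf (nat_lit 0x100d371245c88) (nat_lit 2052))
))) (.node (nat_lit 0x100d371345cc8) (.node (nat_lit 0x100d371247cc8) (.node (nat_lit 0x100d371247c88) (.leaf (nat_lit 0x100d371245cc8) (nat_lit 2052))
 (.leaf (nat_lit 0x100d371247c88) (nat_lit 2304))
) (.node (nat_lit 0x100d371345c88) (.leaf (nat_lit 0x100d371247cc8) (nat_lit 2052))
 (.leaf (nat_lit 0x100d371345c88) (nat_lit 2052))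
)) (.node (nat_lit 0x100d371347cc8) (.node (nat_lit 0x100d371347c88) (.leaf (nat_lit 0x100d371345cc8) (nat_lit 2308))
 (.leaf (nat_lit 0x100d371347c88) (nat_lit 2052))
) (.node (nat_lit 0x100d373a45cae) (.leaf (nat_lit 0x100d371347cc8) (nat_lit 2052))
 (.leaf (nat_lit 0x100d373a45cae) (nat_lit 1795))
)))) (.node (nat_lit 0x100d379245c88) (.node (nat_lit 0x100d373b45cae) (.node (nat_lit 0x100d373a47cae) (.leaf (nat_lit 0x100d373a45cee) (nat_lit 1795))
 (.node (nat_lit 0x100d373a47cee) (.leaf (nat_lit 0x100d373a47cae) (nat_lit 2049))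
 (.leaf (nat_lit 0x100d373a47cee) (nat_lit 2051))
)) (.node (nat_lit 0x100d373b47cae) (.node (nat_lit 0x100d373b45cee) (.leaf (nat_lit 0x100d373b45cae) (nat_lit 1793))
 (.leaf (nat_lit 0x100d373b45cee) (nat_lit 1537))
) (.node (nat_lit 0x100d373b47cee) (.leaf (nat_lit 0x100d373b47cae) (nat_lit 1795))
 (.leaf (nat_lit 0x100d373b47cee) (nat_lit 1795))
))) (.node (nat_lit 0x100d379345c88) (.node (nat_lit 0x100d379247c88) (.node (nat_lit 0x100d379245cc8) (.leaf (nat_lit 0x100d379245c88) (nat_lit 1796))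
 (.leaf (nat_lit 0x100d379245cc8) (nat_lit 2048))
) (.node (nat_lit 0x100d379247cc8) (.leaf (nat_lit 0x100d379247c88) (nat_lit 2052))
 (.leaf (nat_lit 0x100d379247cc8) (nat_lit 1796))
)) (.node (nat_lit 0x100d379347c88) (.node (nat_lit 0x100d379345cc8) (.leaf (nat_lit 0x100d379345c88) (nat_lit 2051))
 (.leaf (nat_lit 0x100d379345cc8) (nat_lit 2052))
) (.node (nat_lit 0x100d379347cc8) (.leaf (nat_lit 0x100d379347c88) (nat_lit 1796))
 (.leaf (nat_lit 0x100d379347cc8) (nat_lit 2052))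
))))))) (.node (nat_lit 0x100d50e544114) (.node (nat_lit 0x100d3e9347888) (.node (nat_lit 0x100d3e13478c8) (.node (nat_lit 0x100d37bb47cee) (.node (nat_lit 0x100d37ba47cee) (.node (nat_lit 0x100d37ba45cee) (.leaf (nat_lit 0x100d37ba45cae) (nat_lit 1539))
 (.node (nat_lit 0x100d37ba47cae) (.leaf (nat_lit 0x100d37ba45cee) (nat_lit 1795))
 (.leaf (nat_lit 0x100d37ba47cae) (nat_lit 1795))
)) (.node (nat_lit 0x100d37bb45cee) (.node (nat_lit 0x100d37bb45cae) (.leaf (nat_lit 0x100d37ba47cee) (nat_lit 1795))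
 (.leaf (nat_lit 0x100d37bb45cae) (nat_lit 1536))
) (.node (nat_lit 0x100d37bb47cae) (.leaf (nat_lit 0x100d37bb45cee) (nat_lit 1283))
 (.leaf (nat_lit 0x100d37bb47cae) (nat_lit 1539))
))) (.node (nat_lit 0x100d3e12478c8) (.node (nat_lit 0x100d3e12458c8) (.node (nat_lit 0x100d3e1245888) (.leaf (nat_lit 0x100d37bb47cee) (nat_lit 1792))
 (.leaf (nat_lit 0x100d3e1245888) (nat_lit 2052))
) (.node (nat_lit 0x100d3e1247888) (.leaf (nat_lit 0x100d3e12458c8) (nat_lit 2308))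
 (.leaf (nat_lit 0x100d3e1247888) (nat_lit 2052))
)) (.node (nat_lit 0x100d3e13458c8) (.node (nat_lit 0x100d3e1345888) (.leaf (nat_lit 0x100d3e12478c8) (nat_lit 2051))
 (.leaf (nat_lit 0x100d3e1345888) (nat_lit 1796))
) (.node (nat_lit 0x100d3e1347888) (.leaf (nat_lit 0x100d3e13458c8) (nat_lit 2048))
 (.leaf (nat_lit 0x100d3e1347888) (nat_lit 2052))
)))) (.node (nat_lit 0x100d3e39478a7) (.node (nat_lit 0x100d3e38478a7) (.node (nat_lit 0x100d3e38458a7) (.leaf (nat_lit 0x100d3e13478c8) (nat_lit 2308))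
 (.node (nat_lit 0x100d3e38458e7) (.leaf (nat_lit 0x100d3e38458a7) (nat_lit 1795))
 (.leaf (nat_lit 0x100d3e38458e7) (nat_lit 1793))
)) (.node (nat_lit 0x100d3e39458a7) (.node (nat_lit 0x100d3e38478e7) (.leaf (nat_lit 0x100d3e38478a7) (nat_lit 2050))
 (.leaf (nat_lit 0x100d3e38478e7) (nat_lit 2052))
) (.node (nat_lit 0x100d3e39458e7) (.leaf (nat_lit 0x100d3e39458a7) (nat_lit 2052))
 (.leaf (nat_lit 0x100d3e39458e7) (nat_lit 2051))
))) (.node (nat_lit 0x100d3e9247888) (.node (nat_lit 0x100d3e9245888) (.node (nat_lit 0x100d3e39478e7) (.leaf (nat_lit 0x100d3e39478a7) (nat_lit 2049))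
 (.leaf (nat_lit 0x100d3e39478e7) (nat_lit 2051))
) (.node (nat_lit 0x100d3e92458c8) (.leaf (nat_lit 0x100d3e9245888) (nat_lit 2052))
 (.leaf (nat_lit 0x100d3e92458c8) (nat_lit 2306))
)) (.node (nat_lit 0x100d3e9345888) (.node (nat_lit 0x100d3e92478c8) (.leaf (nat_lit 0x100d3e9247888) (nat_lit 2052))
 (.leaf (nat_lit 0x100d3e92478c8) (nat_lit 2052))
) (.node (nat_lit 0x100d3e93458c8) (.leaf (nat_lit 0x100d3e9345888) (nat_lit 2052))
 (.leaf (nat_lit 0x100d3e93458c8) (nat_lit 2050))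
))))) (.node (nat_lit 0x100d506544154) (.node (nat_lit 0x100d3eb9458e7) (.node (nat_lit 0x100d3eb8458e7) (.node (nat_lit 0x100d3e93478c8) (.leaf (nat_lit 0x100d3e9347888) (nat_lit 2308))
 (.node (nat_lit 0x100d3eb8458a7) (.leaf (nat_lit 0x100d3e93478c8) (nat_lit 2052))
 (.leaf (nat_lit 0x100d3eb8458a7) (nat_lit 1792))
)) (.node (nat_lit 0x100d3eb8478e7) (.node (nat_lit 0x100d3eb8478a7) (.leaf (nat_lit 0x100d3eb8458e7) (nat_lit 1538))
 (.leaf (nat_lit 0x100d3eb8478a7) (nat_lit 1794))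
) (.node (nat_lit 0x100d3eb9458a7) (.leaf (nat_lit 0x100d3eb8478e7) (nat_lit 1796))
 (.leaf (nat_lit 0x100d3eb9458a7) (nat_lit 1794))
))) (.node (nat_lit 0x100d506444154) (.node (nat_lit 0x100d3eb9478e7) (.node (nat_lit 0x100d3eb9478a7) (.leaf (nat_lit 0x100d3eb9458e7) (nat_lit 2050))
 (.leaf (nat_lit 0x100d3eb9478a7) (nat_lit 1794))
) (.node (nat_lit 0x100d506444114) (.leaf (nat_lit 0x100d3eb9478e7) (nat_lit 2048))
 (.leaf (nat_lit 0x100d506444114) (nat_lit 1538))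
)) (.node (nat_lit 0x100d506446154) (.node (nat_lit 0x100d506446114) (.leaf (nat_lit 0x100d506444154) (nat_lit 1794))
 (.leaf (nat_lit 0x100d506446114) (nat_lit 1538))
) (.node (nat_lit 0x100d506544114) (.leaf (nat_lit 0x100d506446154) (nat_lit 1282))
 (.leaf (nat_lit 0x100d506544114) (nat_lit 1794))
)))) (.node (nat_lit 0x100d507544115) (.node (nat_lit 0x100d507444115) (.node (nat_lit 0x100d506546114) (.leaf (nat_lit 0x100d506544154) (nat_lit 1538))
 (.node (nat_lit 0x100d506546154) (.leaf (nat_lit 0x100d506546114) (nat_lit 1282))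
 (.leaf (nat_lit 0x100d506546154) (nat_lit 1538))
)) (.node (nat_lit 0x100d507446115) (.node (nat_lit 0x100d507444155) (.leaf (nat_lit 0x100d507444115) (nat_lit 1538))
 (.leaf (nat_lit 0x100d507444155) (nat_lit 1538))
) (.node (nat_lit 0x100d507446155) (.leaf (nat_lit 0x100d507446115) (nat_lit 1282))
 (.leaf (nat_lit 0x100d507446155) (nat_lit 1536))
))) (.node (nat_lit 0x100d50e444114) (.node (nat_lit 0x100d507546115) (.node (nat_lit 0x100d507544155) (.leaf (nat_lit 0x100d507544115) (nat_lit 1536))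
 (.leaf (nat_lit 0x100d507544155) (nat_lit 1282))
) (.node (nat_lit 0x100d507546155) (.leaf (nat_lit 0x100d507546115) (nat_lit 1538))
 (.leaf (nat_lit 0x100d507546155) (nat_lit 1538))
)) (.node (nat_lit 0x100d50e446114) (.node (nat_lit 0x100d50e444154) (.leaf (nat_lit 0x100d50e444114) (nat_lit 1794))
 (.leaf (nat_lit 0x100d50e444154) (nat_lit 1794))
) (.node (nat_lit 0x100d50e446154) (.leaf (nat_lit 0x100d50e446114) (nat_lit 1538))
 (.leaf (nat_lit 0x100d50e446154) (nat_lit 1537))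
)))))) (.node (nat_lit 0x100d62b846b27) (.node (nat_lit 0x100d623846b67) (.node (nat_lit 0x100d50f446155) (.node (nat_lit 0x100d50e546154) (.node (nat_lit 0x100d50e544154) (.leaf (nat_lit 0x100d50e544114) (nat_lit 1794))
 (.node (nat_lit 0x100d50e546114) (.leaf (nat_lit 0x100d50e544154) (nat_lit 1538))
 (.leaf (nat_lit 0x100d50e546114) (nat_lit 1282))
)) (.node (nat_lit 0x100d50f444155) (.node (nat_lit 0x100d50f444115) (.leaf (nat_lit 0x100d50e546154) (nat_lit 1536))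
 (.leaf (nat_lit 0x100d50f444115) (nat_lit 1282))
) (.node (nat_lit 0x100d50f446115) (.leaf (nat_lit 0x100d50f444155) (nat_lit 1536))
 (.leaf (nat_lit 0x100d50f446115) (nat_lit 1538))
))) (.node (nat_lit 0x100d50f546155) (.node (nat_lit 0x100d50f544155) (.node (nat_lit 0x100d50f544115) (.leaf (nat_lit 0x100d50f446155) (nat_lit 1538))
 (.leaf (nat_lit 0x100d50f544115) (nat_lit 1538))
) (.node (nat_lit 0x100d50f546115) (.leaf (nat_lit 0x100d50f544155) (nat_lit 1538))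
 (.leaf (nat_lit 0x100d50f546115) (nat_lit 1536))
)) (.node (nat_lit 0x100d623844b67) (.node (nat_lit 0x100d623844b27) (.leaf (nat_lit 0x100d50f546155) (nat_lit 1282))
 (.leaf (nat_lit 0x100d623844b27) (nat_lit 1793))
) (.node (nat_lit 0x100d623846b27) (.leaf (nat_lit 0x100d623844b67) (nat_lit 1796))
 (.leaf (nat_lit 0x100d623846b27) (nat_lit 2052))
)))) (.node (nat_lit 0x100d626446b14) (.node (nat_lit 0x100d623946b27) (.node (nat_lit 0x100d623944b27) (.leaf (nat_lit 0x100d623846b67) (nat_lit 1796))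
 (.node (nat_lit 0x100d623944b67) (.leaf (nat_lit 0x100d623944b27) (nat_lit 2052))
 (.leaf (nat_lit 0x100d623944b67) (nat_lit 1796))
)) (.node (nat_lit 0x100d626444b14) (.node (nat_lit 0x100d623946b67) (.leaf (nat_lit 0x100d623946b27) (nat_lit 1793))
 (.leaf (nat_lit 0x100d623946b67) (nat_lit 1796))
) (.node (nat_lit 0x100d626444b54) (.leaf (nat_lit 0x100d626444b14) (nat_lit 1284))
 (.leaf (nat_lit 0x100d626444b54) (nat_lit 1540))
))) (.node (nat_lit 0x100d626546b14) (.node (nat_lit 0x100d626544b14) (.node (nat_lit 0x100d626446b54) (.leaf (nat_lit 0x100d626446b14) (nat_lit 1281))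
 (.leaf (nat_lit 0x100d626446b54) (nat_lit 1284))
) (.node (nat_lit 0x100d626544b54) (.leaf (nat_lit 0x100d626544b14) (nat_lit 1540))
 (.leaf (nat_lit 0x100d626544b54) (nat_lit 1284))
)) (.node (nat_lit 0x100d62b844b27) (.node (nat_lit 0x100d626546b54) (.leaf (nat_lit 0x100d626546b14) (nat_lit 1537))
 (.leaf (nat_lit 0x100d626546b54) (nat_lit 1540))
) (.node (nat_lit 0x100d62b844b67) (.leaf (nat_lit 0x100d62b844b27) (nat_lit 1540))
 (.leaf (nat_lit 0x100d62b844b67) (nat_lit 1796))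
))))) (.node (nat_lit 0x100d6a3a44bee) (.node (nat_lit 0x100d62e444b54) (.node (nat_lit 0x100d62b944b67) (.node (nat_lit 0x100d62b846b67) (.leaf (nat_lit 0x100d62b846b27) (nat_lit 1796))
 (.node (nat_lit 0x100d62b944b27) (.leaf (nat_lit 0x100d62b846b67) (nat_lit 1796))
 (.leaf (nat_lit 0x100d62b944b27) (nat_lit 2052))
)) (.node (nat_lit 0x100d62b946b67) (.node (nat_lit 0x100d62b946b27) (.leaf (nat_lit 0x100d62b944b67) (nat_lit 1796))
 (.leaf (nat_lit 0x100d62b946b27) (nat_lit 1540))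
) (.node (nat_lit 0x100d62e444b14) (.leaf (nat_lit 0x100d62b946b67) (nat_lit 1796))
 (.leaf (nat_lit 0x100d62e444b14) (nat_lit 1537))
))) (.node (nat_lit 0x100d62e544b54) (.node (nat_lit 0x100d62e446b54) (.node (nat_lit 0x100d62e446b14) (.leaf (nat_lit 0x100d62e444b54) (nat_lit 1283))
 (.leaf (nat_lit 0x100d62e446b14) (nat_lit 1028))
) (.node (nat_lit 0x100d62e544b14) (.leaf (nat_lit 0x100d62e446b54) (nat_lit 1280))
 (.leaf (nat_lit 0x100d62e544b14) (nat_lit 1540))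
)) (.node (nat_lit 0x100d62e546b54) (.node (nat_lit 0x100d62e546b14) (.leaf (nat_lit 0x100d62e544b54) (nat_lit 1284))
 (.leaf (nat_lit 0x100d62e546b14) (nat_lit 1284))
) (.node (nat_lit 0x100d6a3a44bae) (.leaf (nat_lit 0x100d62e546b54) (nat_lit 1536))
 (.leaf (nat_lit 0x100d6a3a44bae) (nat_lit 1796))
)))) (.node (nat_lit 0x100d6a7444b95) (.node (nat_lit 0x100d6a3b44bae) (.node (nat_lit 0x100d6a3a46bae) (.leaf (nat_lit 0x100d6a3a44bee) (nat_lit 2052))
 (.node (nat_lit 0x100d6a3a46bee) (.leaf (nat_lit 0x100d6a3a46bae) (nat_lit 2051))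
 (.leaf (nat_lit 0x100d6a3a46bee) (nat_lit 1794))
)) (.node (nat_lit 0x100d6a3b46bae) (.node (nat_lit 0x100d6a3b44bee) (.leaf (nat_lit 0x100d6a3b44bae) (nat_lit 2051))
 (.leaf (nat_lit 0x100d6a3b44bee) (nat_lit 2052))
) (.node (nat_lit 0x100d6a3b46bee) (.leaf (nat_lit 0x100d6a3b46bae) (nat_lit 2052))
 (.leaf (nat_lit 0x100d6a3b46bee) (nat_lit 2049))
))) (.node (nat_lit 0x100d6a7544b95) (.node (nat_lit 0x100d6a7446b95) (.node (nat_lit 0x100d6a7444bd5) (.leaf (nat_lit 0x100d6a7444b95) (nat_lit 1024))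
 (.leaf (nat_lit 0x100d6a7444bd5) (nat_lit 772))
) (.node (nat_lit 0x100d6a7446bd5) (.leaf (nat_lit 0x100d6a7446b95) (nat_lit 1280))
 (.leaf (nat_lit 0x100d6a7446bd5) (nat_lit 1028))
)) (.node (nat_lit 0x100d6a7546b95) (.node (nat_lit 0x100d6a7544bd5) (.leaf (nat_lit 0x100d6a7544b95) (nat_lit 772))
 (.leaf (nat_lit 0x100d6a7544bd5) (nat_lit 1024))
) (.node (nat_lit 0x100d6a7546bd5) (.leaf (nat_lit 0x100d6a7546b95) (nat_lit 1028))
 (.leaf (nat_lit 0x100d6a7546bd5) (nat_lit 1280))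
)))))))) (.node (nat_lit 0x1010107410115) (.node (nat_lit 0x100d7e39458a7) (.node (nat_lit 0x100d773b47cae) (.node (nat_lit 0x100d6af546bd5) (.node (nat_lit 0x100d6abb46bee) (.node (nat_lit 0x100d6aba46bee) (.node (nat_lit 0x100d6aba44bee) (.leaf (nat_lit 0x100d6aba44bae) (nat_lit 1796))
 (.node (nat_lit 0x100d6aba46bae) (.leaf (nat_lit 0x100d6aba44bee) (nat_lit 2051))
 (.leaf (nat_lit 0x100d6aba46bae) (nat_lit 1795))
)) (.node (nat_lit 0x100d6abb44bee) (.node (nat_lit 0x100d6abb44bae) (.leaf (nat_lit 0x100d6aba46bee) (nat_lit 1796))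
 (.leaf (nat_lit 0x100d6abb44bae) (nat_lit 1795))
) (.node (nat_lit 0x100d6abb46bae) (.leaf (nat_lit 0x100d6abb44bee) (nat_lit 2050))
 (.leaf (nat_lit 0x100d6abb46bae) (nat_lit 1796))
))) (.node (nat_lit 0x100d6af446bd5) (.node (nat_lit 0x100d6af444bd5) (.node (nat_lit 0x100d6af444b95) (.leaf (nat_lit 0x100d6abb46bee) (nat_lit 1796))
 (.leaf (nat_lit 0x100d6af444b95) (nat_lit 1281))
) (.node (nat_lit 0x100d6af446b95) (.leaf (nat_lit 0x100d6af444bd5) (nat_lit 1025))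
 (.leaf (nat_lit 0x100d6af446b95) (nat_lit 1537))
)) (.node (nat_lit 0x100d6af544bd5) (.node (nat_lit 0x100d6af544b95) (.leaf (nat_lit 0x100d6af446bd5) (nat_lit 1281))
 (.leaf (nat_lit 0x100d6af544b95) (nat_lit 1025))
) (.node (nat_lit 0x100d6af546b95) (.leaf (nat_lit 0x100d6af544bd5) (nat_lit 1281))
 (.leaf (nat_lit 0x100d6af546b95) (nat_lit 1281))
)))) (.node (nat_lit 0x100d771347c88) (.node (nat_lit 0x100d771247c88) (.node (nat_lit 0x100d771245c88) (.leaf (nat_lit 0x100d6af546bd5) (nat_lit 1537))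
 (.node (nat_lit 0x100d771245cc8) (.leaf (nat_lit 0x100d771245c88) (nat_lit 2052))
 (.leaf (nat_lit 0x100d771245cc8) (nat_lit 2051))
)) (.node (nat_lit 0x100d771345c88) (.node (nat_lit 0x100d771247cc8) (.leaf (nat_lit 0x100d771247c88) (nat_lit 2052))
 (.leaf (nat_lit 0x100d771247cc8) (nat_lit 2052))
) (.node (nat_lit 0x100d771345cc8) (.leaf (nat_lit 0x100d771345c88) (nat_lit 2308))
 (.leaf (nat_lit 0x100d771345cc8) (nat_lit 2052))
))) (.node (nat_lit 0x100d773a47cae) (.node (nat_lit 0x100d773a45cae) (.node (nat_lit 0x100d771347cc8) (.leaf (nat_lit 0x100d771347c88) (nat_lit 1796))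
 (.leaf (nat_lit 0x100d771347cc8) (nat_lit 2048))
) (.node (nat_lit 0x100d773a45cee) (.leaf (nat_lit 0x100d773a45cae) (nat_lit 1795))
 (.leaf (nat_lit 0x100d773a45cee) (nat_lit 1795))
)) (.node (nat_lit 0x100d773b45cae) (.node (nat_lit 0x100d773a47cee) (.leaf (nat_lit 0x100d773a47cae) (nat_lit 1792))
 (.leaf (nat_lit 0x100d773a47cee) (nat_lit 1539))
) (.node (nat_lit 0x100d773b45cee) (.leaf (nat_lit 0x100d773b45cae) (nat_lit 1539))
 (.leaf (nat_lit 0x100d773b45cee) (nat_lit 1539))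
))))) (.node (nat_lit 0x100d77bb45cee) (.node (nat_lit 0x100d779345cc8) (.node (nat_lit 0x100d779245cc8) (.node (nat_lit 0x100d773b47cee) (.leaf (nat_lit 0x100d773b47cae) (nat_lit 1795))
 (.node (nat_lit 0x100d779245c88) (.leaf (nat_lit 0x100d773b47cee) (nat_lit 1795))
 (.leaf (nat_lit 0x100d779245c88) (nat_lit 2052))
)) (.node (nat_lit 0x100d779247cc8) (.node (nat_lit 0x100d779247c88) (.leaf (nat_lit 0x100d779245cc8) (nat_lit 2052))
 (.leaf (nat_lit 0x100d779247c88) (nat_lit 2051))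
) (.node (nat_lit 0x100d779345c88) (.leaf (nat_lit 0x100d779247cc8) (nat_lit 2052))
 (.leaf (nat_lit 0x100d779345c88) (nat_lit 2048))
))) (.node (nat_lit 0x100d77ba45cee) (.node (nat_lit 0x100d779347cc8) (.node (nat_lit 0x100d779347c88) (.leaf (nat_lit 0x100d779345cc8) (nat_lit 1796))
 (.leaf (nat_lit 0x100d779347c88) (nat_lit 2052))
) (.node (nat_lit 0x100d77ba45cae) (.leaf (nat_lit 0x100d779347cc8) (nat_lit 2052))
 (.leaf (nat_lit 0x100d77ba45cae) (nat_lit 1539))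
)) (.node (nat_lit 0x100d77ba47cee) (.node (nat_lit 0x100d77ba47cae) (.leaf (nat_lit 0x100d77ba45cee) (nat_lit 1792))
 (.leaf (nat_lit 0x100d77ba47cae) (nat_lit 2049))
) (.node (nat_lit 0x100d77bb45cae) (.leaf (nat_lit 0x100d77ba47cee) (nat_lit 1793))
 (.leaf (nat_lit 0x100d77bb45cae) (nat_lit 1793))
)))) (.node (nat_lit 0x100d7e1345888) (.node (nat_lit 0x100d7e1245888) (.node (nat_lit 0x100d77bb47cae) (.leaf (nat_lit 0x100d77bb45cee) (nat_lit 1795))
 (.node (nat_lit 0x100d77bb47cee) (.leaf (nat_lit 0x100d77bb47cae) (nat_lit 1539))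
 (.leaf (nat_lit 0x100d77bb47cee) (nat_lit 1792))
)) (.node (nat_lit 0x100d7e1247888) (.node (nat_lit 0x100d7e12458c8) (.leaf (nat_lit 0x100d7e1245888) (nat_lit 2052))
 (.leaf (nat_lit 0x100d7e12458c8) (nat_lit 2305))
) (.node (nat_lit 0x100d7e12478c8) (.leaf (nat_lit 0x100d7e1247888) (nat_lit 2308))
 (.leaf (nat_lit 0x100d7e12478c8) (nat_lit 2052))
))) (.node (nat_lit 0x100d7e38458a7) (.node (nat_lit 0x100d7e1347888) (.node (nat_lit 0x100d7e13458c8) (.leaf (nat_lit 0x100d7e1345888) (nat_lit 2052))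
 (.leaf (nat_lit 0x100d7e13458c8) (nat_lit 2052))
) (.node (nat_lit 0x100d7e13478c8) (.leaf (nat_lit 0x100d7e1347888) (nat_lit 2052))
 (.leaf (nat_lit 0x100d7e13478c8) (nat_lit 1796))
)) (.node (nat_lit 0x100d7e38478a7) (.node (nat_lit 0x100d7e38458e7) (.leaf (nat_lit 0x100d7e38458a7) (nat_lit 1794))
 (.leaf (nat_lit 0x100d7e38458e7) (nat_lit 1794))
) (.node (nat_lit 0x100d7e38478e7) (.leaf (nat_lit 0x100d7e38478a7) (nat_lit 2048))
 (.leaf (nat_lit 0x100d7e38478e7) (nat_lit 1796))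
)))))) (.node (nat_lit 0x10100d4e1363b) (.node (nat_lit 0x100d7eb8478e7) (.node (nat_lit 0x100d7e92478c8) (.node (nat_lit 0x100d7e39478e7) (.node (nat_lit 0x100d7e39458e7) (.leaf (nat_lit 0x100d7e39458a7) (nat_lit 1794))
 (.node (nat_lit 0x100d7e39478a7) (.leaf (nat_lit 0x100d7e39458e7) (nat_lit 2052))
 (.leaf (nat_lit 0x100d7e39478a7) (nat_lit 1796))
)) (.node (nat_lit 0x100d7e92458c8) (.node (nat_lit 0x100d7e9245888) (.leaf (nat_lit 0x100d7e39478e7) (nat_lit 2050))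
 (.leaf (nat_lit 0x100d7e9245888) (nat_lit 2308))
) (.node (nat_lit 0x100d7e9247888) (.leaf (nat_lit 0x100d7e92458c8) (nat_lit 2052))
 (.leaf (nat_lit 0x100d7e9247888) (nat_lit 2052))
))) (.node (nat_lit 0x100d7e93478c8) (.node (nat_lit 0x100d7e93458c8) (.node (nat_lit 0x100d7e9345888) (.leaf (nat_lit 0x100d7e92478c8) (nat_lit 2050))
 (.leaf (nat_lit 0x100d7e9345888) (nat_lit 2052))
) (.node (nat_lit 0x100d7e9347888) (.leaf (nat_lit 0x100d7e93458c8) (nat_lit 2308))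
 (.leaf (nat_lit 0x100d7e9347888) (nat_lit 2052))
)) (.node (nat_lit 0x100d7eb8458e7) (.node (nat_lit 0x100d7eb8458a7) (.leaf (nat_lit 0x100d7e93478c8) (nat_lit 2049))
 (.leaf (nat_lit 0x100d7eb8458a7) (nat_lit 2051))
) (.node (nat_lit 0x100d7eb8478a7) (.leaf (nat_lit 0x100d7eb8458e7) (nat_lit 1795))
 (.leaf (nat_lit 0x100d7eb8478a7) (nat_lit 1794))
)))) (.node (nat_lit 0x10100d4c13632) (.node (nat_lit 0x100d7eb9478a7) (.node (nat_lit 0x100d7eb9458a7) (.leaf (nat_lit 0x100d7eb8478e7) (nat_lit 2050))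
 (.node (nat_lit 0x100d7eb9458e7) (.leaf (nat_lit 0x100d7eb9458a7) (nat_lit 1794))
 (.leaf (nat_lit 0x100d7eb9458e7) (nat_lit 1796))
)) (.node (nat_lit 0x10100d4c11632) (.node (nat_lit 0x100d7eb9478e7) (.leaf (nat_lit 0x100d7eb9478a7) (nat_lit 1795))
 (.leaf (nat_lit 0x100d7eb9478e7) (nat_lit 2050))
) (.node (nat_lit 0x10100d4c11672) (.leaf (nat_lit 0x10100d4c11632) (nat_lit 1540))
 (.leaf (nat_lit 0x10100d4c11672) (nat_lit 1796))
))) (.node (nat_lit 0x10100d4d13632) (.node (nat_lit 0x10100d4d11632) (.node (nat_lit 0x10100d4c13672) (.leaf (nat_lit 0x10100d4c13632) (nat_lit 1540))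
 (.leaf (nat_lit 0x10100d4c13672) (nat_lit 1792))
) (.node (nat_lit 0x10100d4d11672) (.leaf (nat_lit 0x10100d4d11632) (nat_lit 1281))
 (.leaf (nat_lit 0x10100d4d11672) (nat_lit 1540))
)) (.node (nat_lit 0x10100d4e1163b) (.node (nat_lit 0x10100d4d13672) (.leaf (nat_lit 0x10100d4d13632) (nat_lit 1793))
 (.leaf (nat_lit 0x10100d4d13672) (nat_lit 1540))
) (.node (nat_lit 0x10100d4e1167b) (.leaf (nat_lit 0x10100d4e1163b) (nat_lit 1540))
 (.leaf (nat_lit 0x10100d4e1167b) (nat_lit 1540))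
))))) (.node (nat_lit 0x10100dce1167b) (.node (nat_lit 0x10100dcc11672) (.node (nat_lit 0x10100d4f1167b) (.node (nat_lit 0x10100d4e1367b) (.leaf (nat_lit 0x10100d4e1363b) (nat_lit 1793))
 (.node (nat_lit 0x10100d4f1163b) (.leaf (nat_lit 0x10100d4e1367b) (nat_lit 1540))
 (.leaf (nat_lit 0x10100d4f1163b) (nat_lit 1540))
)) (.node (nat_lit 0x10100d4f1367b) (.node (nat_lit 0x10100d4f1363b) (.leaf (nat_lit 0x10100d4f1167b) (nat_lit 1796))
 (.leaf (nat_lit 0x10100d4f1363b) (nat_lit 2052))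
) (.node (nat_lit 0x10100dcc11632) (.leaf (nat_lit 0x10100d4f1367b) (nat_lit 1796))
 (.leaf (nat_lit 0x10100dcc11632) (nat_lit 1284))
))) (.node (nat_lit 0x10100dcd11672) (.node (nat_lit 0x10100dcc13672) (.node (nat_lit 0x10100dcc13632) (.leaf (nat_lit 0x10100dcc11672) (nat_lit 1540))
 (.leaf (nat_lit 0x10100dcc13632) (nat_lit 1539))
) (.node (nat_lit 0x10100dcd11632) (.leaf (nat_lit 0x10100dcc13672) (nat_lit 1540))
 (.leaf (nat_lit 0x10100dcd11632) (nat_lit 1028))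
)) (.node (nat_lit 0x10100dcd13672) (.node (nat_lit 0x10100dcd13632) (.leaf (nat_lit 0x10100dcd11672) (nat_lit 1280))
 (.leaf (nat_lit 0x10100dcd13632) (nat_lit 1540))
) (.node (nat_lit 0x10100dce1163b) (.leaf (nat_lit 0x10100dcd13672) (nat_lit 1283))
 (.leaf (nat_lit 0x10100dce1163b) (nat_lit 1793))
)))) (.node (nat_lit 0x1010101010101) (.node (nat_lit 0x10100dcf1163b) (.node (nat_lit 0x10100dce1363b) (.leaf (nat_lit 0x10100dce1167b) (nat_lit 1795))
 (.node (nat_lit 0x10100dce1367b) (.leaf (nat_lit 0x10100dce1363b) (nat_lit 1540))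
 (.leaf (nat_lit 0x10100dce1367b) (nat_lit 1792))
)) (.node (nat_lit 0x10100dcf1363b) (.node (nat_lit 0x10100dcf1167b) (.leaf (nat_lit 0x10100dcf1163b) (nat_lit 1792))
 (.leaf (nat_lit 0x10100dcf1167b) (nat_lit 1540))
) (.node (nat_lit 0x10100dcf1367b) (.leaf (nat_lit 0x10100dcf1363b) (nat_lit 1796))
 (.leaf (nat_lit 0x10100dcf1367b) (nat_lit 2052))
))) (.node (nat_lit 0x1010101110101) (.node (nat_lit 0x1010101012101) (.node (nat_lit 0x1010101010141) (.leaf (nat_lit 0x1010101010101) (nat_lit 0))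
 (.leaf (nat_lit 0x1010101010141) (nat_lit 256))
) (.node (nat_lit 0x1010101012141) (.leaf (nat_lit 0x1010101012101) (nat_lit 1026))
 (.leaf (nat_lit 0x1010101012141) (nat_lit 770))
)) (.node (nat_lit 0x1010101112101) (.node (nat_lit 0x1010101110141) (.leaf (nat_lit 0x1010101110101) (nat_lit 1027))
 (.leaf (nat_lit 0x1010101110141) (nat_lit 771))
) (.node (nat_lit 0x1010101112141) (.leaf (nat_lit 0x1010101112101) (nat_lit 1284))
 (.leaf (nat_lit 0x1010101112141) (nat_lit 1028))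
))))))) (.node (nat_lit 0x10102a4f10bbb) (.node (nat_lit 0x1010181112181) (.node (nat_lit 0x1010109112141) (.node (nat_lit 0x1010107512155) (.node (nat_lit 0x1010107412155) (.node (nat_lit 0x1010107410155) (.leaf (nat_lit 0x1010107410115) (nat_lit 1538))
 (.node (nat_lit 0x1010107412115) (.leaf (nat_lit 0x1010107410155) (nat_lit 1539))
 (.leaf (nat_lit 0x1010107412115) (nat_lit 1795))
)) (.node (nat_lit 0x1010107510155) (.node (nat_lit 0x1010107510115) (.leaf (nat_lit 0x1010107412155) (nat_lit 1539))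
 (.leaf (nat_lit 0x1010107510115) (nat_lit 1794))
) (.node (nat_lit 0x1010107512115) (.leaf (nat_lit 0x1010107510155) (nat_lit 1795))
 (.leaf (nat_lit 0x1010107512115) (nat_lit 1283))
))) (.node (nat_lit 0x1010109012141) (.node (nat_lit 0x1010109010141) (.node (nat_lit 0x1010109010101) (.leaf (nat_lit 0x1010107512155) (nat_lit 1539))
 (.leaf (nat_lit 0x1010109010101) (nat_lit 257))
) (.node (nat_lit 0x1010109012101) (.leaf (nat_lit 0x1010109010141) (nat_lit 513))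
 (.leaf (nat_lit 0x1010109012101) (nat_lit 1282))
)) (.node (nat_lit 0x1010109110141) (.node (nat_lit 0x1010109110101) (.leaf (nat_lit 0x1010109012141) (nat_lit 1026))
 (.leaf (nat_lit 0x1010109110101) (nat_lit 1283))
) (.node (nat_lit 0x1010109112101) (.leaf (nat_lit 0x1010109110141) (nat_lit 1027))
 (.leaf (nat_lit 0x1010109112101) (nat_lit 1540))
)))) (.node (nat_lit 0x101010f512115) (.node (nat_lit 0x101010f412115) (.node (nat_lit 0x101010f410115) (.leaf (nat_lit 0x1010109112141) (nat_lit 1284))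
 (.node (nat_lit 0x101010f410155) (.leaf (nat_lit 0x101010f410115) (nat_lit 1794))
 (.leaf (nat_lit 0x101010f410155) (nat_lit 1795))
)) (.node (nat_lit 0x101010f510115) (.node (nat_lit 0x101010f412155) (.leaf (nat_lit 0x101010f412115) (nat_lit 1795))
 (.leaf (nat_lit 0x101010f412155) (nat_lit 1795))
) (.node (nat_lit 0x101010f510155) (.leaf (nat_lit 0x101010f510115) (nat_lit 1795))
 (.leaf (nat_lit 0x101010f510155) (nat_lit 1539))
))) (.node (nat_lit 0x1010181012181) (.node (nat_lit 0x1010181010181) (.node (nat_lit 0x101010f512155) (.leaf (nat_lit 0x101010f512115) (nat_lit 1539))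
 (.leaf (nat_lit 0x101010f512155) (nat_lit 1538))
) (.node (nat_lit 0x10101810101c1) (.leaf (nat_lit 0x1010181010181) (nat_lit 1540))
 (.leaf (nat_lit 0x10101810101c1) (nat_lit 1282))
)) (.node (nat_lit 0x1010181110181) (.node (nat_lit 0x10101810121c1) (.leaf (nat_lit 0x1010181012181) (nat_lit 1538))
 (.leaf (nat_lit 0x10101810121c1) (nat_lit 1284))
) (.node (nat_lit 0x10101811101c1) (.leaf (nat_lit 0x1010181110181) (nat_lit 769))
 (.leaf (nat_lit 0x10101811101c1) (nat_lit 1025))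
))))) (.node (nat_lit 0x10101891101c1) (.node (nat_lit 0x10101867101dd) (.node (nat_lit 0x10101866101dd) (.node (nat_lit 0x10101811121c1) (.leaf (nat_lit 0x1010181112181) (nat_lit 1281))
 (.node (nat_lit 0x101018661019d) (.leaf (nat_lit 0x10101811121c1) (nat_lit 1025))
 (.leaf (nat_lit 0x101018661019d) (nat_lit 1539))
)) (.node (nat_lit 0x10101866121dd) (.node (nat_lit 0x101018661219d) (.leaf (nat_lit 0x10101866101dd) (nat_lit 1283))
 (.leaf (nat_lit 0x101018661219d) (nat_lit 1281))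
) (.node (nat_lit 0x101018671019d) (.leaf (nat_lit 0x10101866121dd) (nat_lit 1538))
 (.leaf (nat_lit 0x101018671019d) (nat_lit 1539))
))) (.node (nat_lit 0x10101890101c1) (.node (nat_lit 0x10101867121dd) (.node (nat_lit 0x101018671219d) (.leaf (nat_lit 0x10101867101dd) (nat_lit 1537))
 (.leaf (nat_lit 0x101018671219d) (nat_lit 1539))
) (.node (nat_lit 0x1010189010181) (.leaf (nat_lit 0x10101867121dd) (nat_lit 1537))
 (.leaf (nat_lit 0x1010189010181) (nat_lit 1539))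
)) (.node (nat_lit 0x10101890121c1) (.node (nat_lit 0x1010189012181) (.leaf (nat_lit 0x10101890101c1) (nat_lit 1283))
 (.leaf (nat_lit 0x1010189012181) (nat_lit 1284))
) (.node (nat_lit 0x1010189110181) (.leaf (nat_lit 0x10101890121c1) (nat_lit 1283))
 (.leaf (nat_lit 0x1010189110181) (nat_lit 514))
)))) (.node (nat_lit 0x101018e71019d) (.node (nat_lit 0x101018e61019d) (.node (nat_lit 0x1010189112181) (.leaf (nat_lit 0x10101891101c1) (nat_lit 768))
 (.node (nat_lit 0x10101891121c1) (.leaf (nat_lit 0x1010189112181) (nat_lit 1024))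
 (.leaf (nat_lit 0x10101891121c1) (nat_lit 770))
)) (.node (nat_lit 0x101018e61219d) (.node (nat_lit 0x101018e6101dd) (.leaf (nat_lit 0x101018e61019d) (nat_lit 1539))
 (.leaf (nat_lit 0x101018e6101dd) (nat_lit 1282))
) (.node (nat_lit 0x101018e6121dd) (.leaf (nat_lit 0x101018e61219d) (nat_lit 1027))
 (.leaf (nat_lit 0x101018e6121dd) (nat_lit 1283))
))) (.node (nat_lit 0x10102a4e10bbb) (.node (nat_lit 0x101018e71219d) (.node (nat_lit 0x101018e7101dd) (.leaf (nat_lit 0x101018e71019d) (nat_lit 1539))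
 (.leaf (nat_lit 0x101018e7101dd) (nat_lit 1283))
) (.node (nat_lit 0x101018e7121dd) (.leaf (nat_lit 0x101018e71219d) (nat_lit 1539))
 (.leaf (nat_lit 0x101018e7121dd) (nat_lit 1283))
)) (.node (nat_lit 0x10102a4e12bbb) (.node (nat_lit 0x10102a4e10bfb) (.leaf (nat_lit 0x10102a4e10bbb) (nat_lit 2050))
 (.leaf (nat_lit 0x10102a4e10bfb) (nat_lit 1794))
) (.node (nat_lit 0x10102a4e12bfb) (.leaf (nat_lit 0x10102a4e12bbb) (nat_lit 2050))
 (.leaf (nat_lit 0x10102a4e12bfb) (nat_lit 2049))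
)))))) (.node (nat_lit 0x10102b4c12f32) (.node (nat_lit 0x10102ace12bfb) (.node (nat_lit 0x10102a7412bd5) (.node (nat_lit 0x10102a4f12bfb) (.node (nat_lit 0x10102a4f10bfb) (.leaf (nat_lit 0x10102a4f10bbb) (nat_lit 1795))
 (.node (nat_lit 0x10102a4f12bbb) (.leaf (nat_lit 0x10102a4f10bfb) (nat_lit 1538))
 (.leaf (nat_lit 0x10102a4f12bbb) (nat_lit 1794))
)) (.node (nat_lit 0x10102a7410bd5) (.node (nat_lit 0x10102a7410b95) (.leaf (nat_lit 0x10102a4f12bfb) (nat_lit 2050))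
 (.leaf (nat_lit 0x10102a7410b95) (nat_lit 1536))
) (.node (nat_lit 0x10102a7412b95) (.leaf (nat_lit 0x10102a7410bd5) (nat_lit 1283))
 (.leaf (nat_lit 0x10102a7412b95) (nat_lit 1027))
))) (.node (nat_lit 0x10102a7512bd5) (.node (nat_lit 0x10102a7510bd5) (.node (nat_lit 0x10102a7510b95) (.leaf (nat_lit 0x10102a7412bd5) (nat_lit 1280))
 (.leaf (nat_lit 0x10102a7510b95) (nat_lit 1539))
) (.node (nat_lit 0x10102a7512b95) (.leaf (nat_lit 0x10102a7510bd5) (nat_lit 1540))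
 (.leaf (nat_lit 0x10102a7512b95) (nat_lit 1536))
)) (.node (nat_lit 0x10102ace10bfb) (.node (nat_lit 0x10102ace10bbb) (.leaf (nat_lit 0x10102a7512bd5) (nat_lit 1283))
 (.leaf (nat_lit 0x10102ace10bbb) (nat_lit 2050))
) (.node (nat_lit 0x10102ace12bbb) (.leaf (nat_lit 0x10102ace10bfb) (nat_lit 2049))
 (.leaf (nat_lit 0x10102ace12bbb) (nat_lit 2050))
)))) (.node (nat_lit 0x10102af412b95) (.node (nat_lit 0x10102acf12bbb) (.node (nat_lit 0x10102acf10bbb) (.leaf (nat_lit 0x10102ace12bfb) (nat_lit 1794))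
 (.node (nat_lit 0x10102acf10bfb) (.leaf (nat_lit 0x10102acf10bbb) (nat_lit 2050))
 (.leaf (nat_lit 0x10102acf10bfb) (nat_lit 1793))
)) (.node (nat_lit 0x10102af410b95) (.node (nat_lit 0x10102acf12bfb) (.leaf (nat_lit 0x10102acf12bbb) (nat_lit 1794))
 (.leaf (nat_lit 0x10102acf12bfb) (nat_lit 2051))
) (.node (nat_lit 0x10102af410bd5) (.leaf (nat_lit 0x10102af410b95) (nat_lit 1539))
 (.leaf (nat_lit 0x10102af410bd5) (nat_lit 1284))
))) (.node (nat_lit 0x10102af512b95) (.node (nat_lit 0x10102af510b95) (.node (nat_lit 0x10102af412bd5) (.leaf (nat_lit 0x10102af412b95) (nat_lit 1281))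
 (.leaf (nat_lit 0x10102af412bd5) (nat_lit 1537))
) (.node (nat_lit 0x10102af510bd5) (.leaf (nat_lit 0x10102af510b95) (nat_lit 1540))
 (.leaf (nat_lit 0x10102af510bd5) (nat_lit 1540))
)) (.node (nat_lit 0x10102b4c10f32) (.node (nat_lit 0x10102af512bd5) (.leaf (nat_lit 0x10102af512b95) (nat_lit 1796))
 (.leaf (nat_lit 0x10102af512bd5) (nat_lit 1537))
) (.node (nat_lit 0x10102b4c10f72) (.leaf (nat_lit 0x10102b4c10f32) (nat_lit 1537))
 (.leaf (nat_lit 0x10102b4c10f72) (nat_lit 1793))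
))))) (.node (nat_lit 0x10102bcc10f72) (.node (nat_lit 0x10102b6610f5d) (.node (nat_lit 0x10102b4d10f72) (.node (nat_lit 0x10102b4c12f72) (.leaf (nat_lit 0x10102b4c12f32) (nat_lit 1794))
 (.node (nat_lit 0x10102b4d10f32) (.leaf (nat_lit 0x10102b4c12f72) (nat_lit 1793))
 (.leaf (nat_lit 0x10102b4d10f32) (nat_lit 1793))
)) (.node (nat_lit 0x10102b4d12f72) (.node (nat_lit 0x10102b4d12f32) (.leaf (nat_lit 0x10102b4d10f72) (nat_lit 1794))
 (.leaf (nat_lit 0x10102b4d12f32) (nat_lit 1538))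
) (.node (nat_lit 0x10102b6610f1d) (.leaf (nat_lit 0x10102b4d12f72) (nat_lit 1794))
 (.leaf (nat_lit 0x10102b6610f1d) (nat_lit 1540))
))) (.node (nat_lit 0x10102b6710f5d) (.node (nat_lit 0x10102b6612f5d) (.node (nat_lit 0x10102b6612f1d) (.leaf (nat_lit 0x10102b6610f5d) (nat_lit 1284))
 (.leaf (nat_lit 0x10102b6612f1d) (nat_lit 1537))
) (.node (nat_lit 0x10102b6710f1d) (.leaf (nat_lit 0x10102b6612f5d) (nat_lit 1281))
 (.leaf (nat_lit 0x10102b6710f1d) (nat_lit 1283))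
)) (.node (nat_lit 0x10102b6712f5d) (.node (nat_lit 0x10102b6712f1d) (.leaf (nat_lit 0x10102b6710f5d) (nat_lit 1536))
 (.leaf (nat_lit 0x10102b6712f1d) (nat_lit 1025))
) (.node (nat_lit 0x10102bcc10f32) (.leaf (nat_lit 0x10102b6712f5d) (nat_lit 1281))
 (.leaf (nat_lit 0x10102bcc10f32) (nat_lit 1282))
)))) (.node (nat_lit 0x10102be610f1d) (.node (nat_lit 0x10102bcd10f32) (.node (nat_lit 0x10102bcc12f32) (.leaf (nat_lit 0x10102bcc10f72) (nat_lit 1539))
 (.node (nat_lit 0x10102bcc12f72) (.leaf (nat_lit 0x10102bcc12f32) (nat_lit 1794))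
 (.leaf (nat_lit 0x10102bcc12f72) (nat_lit 1538))
)) (.node (nat_lit 0x10102bcd12f32) (.node (nat_lit 0x10102bcd10f72) (.leaf (nat_lit 0x10102bcd10f32) (nat_lit 1538))
 (.leaf (nat_lit 0x10102bcd10f72) (nat_lit 1794))
) (.node (nat_lit 0x10102bcd12f72) (.leaf (nat_lit 0x10102bcd12f32) (nat_lit 1793))
 (.leaf (nat_lit 0x10102bcd12f72) (nat_lit 1794))
))) (.node (nat_lit 0x10102be710f1d) (.node (nat_lit 0x10102be612f1d) (.node (nat_lit 0x10102be610f5d) (.leaf (nat_lit 0x10102be610f1d) (nat_lit 1539))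
 (.leaf (nat_lit 0x10102be610f5d) (nat_lit 1284))
) (.node (nat_lit 0x10102be612f5d) (.leaf (nat_lit 0x10102be612f1d) (nat_lit 1280))
 (.leaf (nat_lit 0x10102be612f5d) (nat_lit 1027))
)) (.node (nat_lit 0x10102be712f1d) (.node (nat_lit 0x10102be710f5d) (.leaf (nat_lit 0x10102be710f1d) (nat_lit 1537))
 (.leaf (nat_lit 0x10102be710f5d) (nat_lit 1283))
) (.node (nat_lit 0x10102be712f5d) (.leaf (nat_lit 0x10102be712f1d) (nat_lit 771))
 (.leaf (nat_lit 0x10102be712f5d) (nat_lit 1024))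
))))))))) (.node (nat_lit 0x1014189014181) (.node (nat_lit 0x10106af410b95) (.node (nat_lit 0x101050f510115) (.node (nat_lit 0x10104dcf1363b) (.node (nat_lit 0x10104d4f1367b) (.node (nat_lit 0x10104d4d13672) (.node (nat_lit 0x10104d4c13672) (.node (nat_lit 0x10104d4c11672) (.leaf (nat_lit 0x10104d4c11632) (nat_lit 1796))
 (.node (nat_lit 0x10104d4c13632) (.leaf (nat_lit 0x10104d4c11672) (nat_lit 1540))
 (.leaf (nat_lit 0x10104d4c13632) (nat_lit 1284))
)) (.node (nat_lit 0x10104d4d11672) (.node (nat_lit 0x10104d4d11632) (.leaf (nat_lit 0x10104d4c13672) (nat_lit 1536))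
 (.leaf (nat_lit 0x10104d4d11632) (nat_lit 1537))
) (.node (nat_lit 0x10104d4d13632) (.leaf (nat_lit 0x10104d4d11672) (nat_lit 1796))
 (.leaf (nat_lit 0x10104d4d13632) (nat_lit 1537))
))) (.node (nat_lit 0x10104d4e1367b) (.node (nat_lit 0x10104d4e1167b) (.node (nat_lit 0x10104d4e1163b) (.leaf (nat_lit 0x10104d4d13672) (nat_lit 1539))
 (.leaf (nat_lit 0x10104d4e1163b) (nat_lit 1539))
) (.node (nat_lit 0x10104d4e1363b) (.leaf (nat_lit 0x10104d4e1167b) (nat_lit 1796))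
 (.leaf (nat_lit 0x10104d4e1363b) (nat_lit 1536))
)) (.node (nat_lit 0x10104d4f1167b) (.node (nat_lit 0x10104d4f1163b) (.leaf (nat_lit 0x10104d4e1367b) (nat_lit 1284))
 (.leaf (nat_lit 0x10104d4f1163b) (nat_lit 1796))
) (.node (nat_lit 0x10104d4f1363b) (.leaf (nat_lit 0x10104d4f1167b) (nat_lit 1795))
 (.leaf (nat_lit 0x10104d4f1363b) (nat_lit 1796))
)))) (.node (nat_lit 0x10104dcd13632) (.node (nat_lit 0x10104dcc13632) (.node (nat_lit 0x10104dcc11632) (.leaf (nat_lit 0x10104d4f1367b) (nat_lit 1540))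
 (.node (nat_lit 0x10104dcc11672) (.leaf (nat_lit 0x10104dcc11632) (nat_lit 1540))
 (.leaf (nat_lit 0x10104dcc11672) (nat_lit 1796))
)) (.node (nat_lit 0x10104dcd11632) (.node (nat_lit 0x10104dcc13672) (.leaf (nat_lit 0x10104dcc13632) (nat_lit 1540))
 (.leaf (nat_lit 0x10104dcc13672) (nat_lit 1284))
) (.node (nat_lit 0x10104dcd11672) (.leaf (nat_lit 0x10104dcd11632) (nat_lit 1284))
 (.leaf (nat_lit 0x10104dcd11672) (nat_lit 1536))
))) (.node (nat_lit 0x10104dce1363b) (.node (nat_lit 0x10104dce1163b) (.node (nat_lit 0x10104dcd13672) (.leaf (nat_lit 0x10104dcd13632) (nat_lit 1284))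
 (.leaf (nat_lit 0x10104dcd13672) (nat_lit 1539))
) (.node (nat_lit 0x10104dce1167b) (.leaf (nat_lit 0x10104dce1163b) (nat_lit 1796))
 (.leaf (nat_lit 0x10104dce1167b) (nat_lit 1796))
)) (.node (nat_lit 0x10104dcf1163b) (.node (nat_lit 0x10104dce1367b) (.leaf (nat_lit 0x10104dce1363b) (nat_lit 1796))
 (.leaf (nat_lit 0x10104dce1367b) (nat_lit 1537))
) (.node (nat_lit 0x10104dcf1167b) (.leaf (nat_lit 0x10104dcf1163b) (nat_lit 2052))
 (.leaf (nat_lit 0x10104dcf1167b) (nat_lit 1796))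
))))) (.node (nat_lit 0x1010507510155) (.node (nat_lit 0x1010501110141) (.node (nat_lit 0x1010501010141) (.node (nat_lit 0x10104dcf1367b) (.leaf (nat_lit 0x10104dcf1363b) (nat_lit 1796))
 (.node (nat_lit 0x1010501010101) (.leaf (nat_lit 0x10104dcf1367b) (nat_lit 1796))
 (.leaf (nat_lit 0x1010501010101) (nat_lit 1026))
)) (.node (nat_lit 0x1010501012141) (.node (nat_lit 0x1010501012101) (.leaf (nat_lit 0x1010501010141) (nat_lit 1282))
 (.leaf (nat_lit 0x1010501012101) (nat_lit 1538))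
) (.node (nat_lit 0x1010501110101) (.leaf (nat_lit 0x1010501012141) (nat_lit 1282))
 (.leaf (nat_lit 0x1010501110101) (nat_lit 1795))
))) (.node (nat_lit 0x1010507410155) (.node (nat_lit 0x1010501112141) (.node (nat_lit 0x1010501112101) (.leaf (nat_lit 0x1010501110141) (nat_lit 1539))
 (.leaf (nat_lit 0x1010501112101) (nat_lit 1284))
) (.node (nat_lit 0x1010507410115) (.leaf (nat_lit 0x1010501112141) (nat_lit 1028))
 (.leaf (nat_lit 0x1010507410115) (nat_lit 1795))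
)) (.node (nat_lit 0x1010507412155) (.node (nat_lit 0x1010507412115) (.leaf (nat_lit 0x1010507410155) (nat_lit 1539))
 (.leaf (nat_lit 0x1010507412115) (nat_lit 1795))
) (.node (nat_lit 0x1010507510115) (.leaf (nat_lit 0x1010507412155) (nat_lit 1539))
 (.leaf (nat_lit 0x1010507510115) (nat_lit 1794))
)))) (.node (nat_lit 0x1010509110101) (.node (nat_lit 0x1010509010101) (.node (nat_lit 0x1010507512115) (.leaf (nat_lit 0x1010507510155) (nat_lit 1538))
 (.node (nat_lit 0x1010507512155) (.leaf (nat_lit 0x1010507512115) (nat_lit 1283))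
 (.leaf (nat_lit 0x1010507512155) (nat_lit 1539))
)) (.node (nat_lit 0x1010509012101) (.node (nat_lit 0x1010509010141) (.leaf (nat_lit 0x1010509010101) (nat_lit 770))
 (.leaf (nat_lit 0x1010509010141) (nat_lit 1026))
) (.node (nat_lit 0x1010509012141) (.leaf (nat_lit 0x1010509012101) (nat_lit 1282))
 (.leaf (nat_lit 0x1010509012141) (nat_lit 1026))
))) (.node (nat_lit 0x101050f410115) (.node (nat_lit 0x1010509112101) (.node (nat_lit 0x1010509110141) (.leaf (nat_lit 0x1010509110101) (nat_lit 1539))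
 (.leaf (nat_lit 0x1010509110141) (nat_lit 1283))
) (.node (nat_lit 0x1010509112141) (.leaf (nat_lit 0x1010509112101) (nat_lit 1028))
 (.leaf (nat_lit 0x1010509112141) (nat_lit 1284))
)) (.node (nat_lit 0x101050f412115) (.node (nat_lit 0x101050f410155) (.leaf (nat_lit 0x101050f410115) (nat_lit 1795))
 (.leaf (nat_lit 0x101050f410155) (nat_lit 1795))
) (.node (nat_lit 0x101050f412155) (.leaf (nat_lit 0x101050f412115) (nat_lit 1795))
 (.leaf (nat_lit 0x101050f412155) (nat_lit 1795))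
)))))) (.node (nat_lit 0x101058e61219d) (.node (nat_lit 0x10105866121dd) (.node (nat_lit 0x10105810121c1) (.node (nat_lit 0x101050f512155) (.node (nat_lit 0x101050f510155) (.leaf (nat_lit 0x101050f510115) (nat_lit 1795))
 (.node (nat_lit 0x101050f512115) (.leaf (nat_lit 0x101050f510155) (nat_lit 1539))
 (.leaf (nat_lit 0x101050f512115) (nat_lit 1539))
)) (.node (nat_lit 0x10105810101c1) (.node (nat_lit 0x1010581010181) (.leaf (nat_lit 0x101050f512155) (nat_lit 1795))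
 (.leaf (nat_lit 0x1010581010181) (nat_lit 1283))
) (.node (nat_lit 0x1010581012181) (.leaf (nat_lit 0x10105810101c1) (nat_lit 1027))
 (.leaf (nat_lit 0x1010581012181) (nat_lit 1283))
))) (.node (nat_lit 0x10105811121c1) (.node (nat_lit 0x10105811101c1) (.node (nat_lit 0x1010581110181) (.leaf (nat_lit 0x10105810121c1) (nat_lit 1027))
 (.leaf (nat_lit 0x1010581110181) (nat_lit 258))
) (.node (nat_lit 0x1010581112181) (.leaf (nat_lit 0x10105811101c1) (nat_lit 512))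
 (.leaf (nat_lit 0x1010581112181) (nat_lit 768))
)) (.node (nat_lit 0x10105866101dd) (.node (nat_lit 0x101058661019d) (.leaf (nat_lit 0x10105811121c1) (nat_lit 514))
 (.leaf (nat_lit 0x101058661019d) (nat_lit 1539))
) (.node (nat_lit 0x101058661219d) (.leaf (nat_lit 0x10105866101dd) (nat_lit 1283))
 (.leaf (nat_lit 0x101058661219d) (nat_lit 1282))
)))) (.node (nat_lit 0x1010589012181) (.node (nat_lit 0x101058671219d) (.node (nat_lit 0x101058671019d) (.leaf (nat_lit 0x10105866121dd) (nat_lit 1537))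
 (.node (nat_lit 0x10105867101dd) (.leaf (nat_lit 0x101058671019d) (nat_lit 1539))
 (.leaf (nat_lit 0x10105867101dd) (nat_lit 1538))
)) (.node (nat_lit 0x1010589010181) (.node (nat_lit 0x10105867121dd) (.leaf (nat_lit 0x101058671219d) (nat_lit 1539))
 (.leaf (nat_lit 0x10105867121dd) (nat_lit 1538))
) (.node (nat_lit 0x10105890101c1) (.leaf (nat_lit 0x1010589010181) (nat_lit 1537))
 (.leaf (nat_lit 0x10105890101c1) (nat_lit 1283))
))) (.node (nat_lit 0x1010589112181) (.node (nat_lit 0x1010589110181) (.node (nat_lit 0x10105890121c1) (.leaf (nat_lit 0x1010589012181) (nat_lit 1282))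
 (.leaf (nat_lit 0x10105890121c1) (nat_lit 1281))
) (.node (nat_lit 0x10105891101c1) (.leaf (nat_lit 0x1010589110181) (nat_lit 513))
 (.leaf (nat_lit 0x10105891101c1) (nat_lit 769))
)) (.node (nat_lit 0x101058e61019d) (.node (nat_lit 0x10105891121c1) (.leaf (nat_lit 0x1010589112181) (nat_lit 1025))
 (.leaf (nat_lit 0x10105891121c1) (nat_lit 769))
) (.node (nat_lit 0x101058e6101dd) (.leaf (nat_lit 0x101058e61019d) (nat_lit 1538))
 (.leaf (nat_lit 0x101058e6101dd) (nat_lit 1538))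
))))) (.node (nat_lit 0x10106a7410bd5) (.node (nat_lit 0x10106a4e10bfb) (.node (nat_lit 0x101058e7101dd) (.node (nat_lit 0x101058e6121dd) (.leaf (nat_lit 0x101058e61219d) (nat_lit 1027))
 (.node (nat_lit 0x101058e71019d) (.leaf (nat_lit 0x101058e6121dd) (nat_lit 1283))
 (.leaf (nat_lit 0x101058e71019d) (nat_lit 1282))
)) (.node (nat_lit 0x101058e7121dd) (.node (nat_lit 0x101058e71219d) (.leaf (nat_lit 0x101058e7101dd) (nat_lit 1283))
 (.leaf (nat_lit 0x101058e71219d) (nat_lit 1539))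
) (.node (nat_lit 0x10106a4e10bbb) (.leaf (nat_lit 0x101058e7121dd) (nat_lit 1283))
 (.leaf (nat_lit 0x10106a4e10bbb) (nat_lit 1794))
))) (.node (nat_lit 0x10106a4f10bfb) (.node (nat_lit 0x10106a4e12bfb) (.node (nat_lit 0x10106a4e12bbb) (.leaf (nat_lit 0x10106a4e10bfb) (nat_lit 2050))
 (.leaf (nat_lit 0x10106a4e12bbb) (nat_lit 2052))
) (.node (nat_lit 0x10106a4f10bbb) (.leaf (nat_lit 0x10106a4e12bfb) (nat_lit 2050))
 (.leaf (nat_lit 0x10106a4f10bbb) (nat_lit 1794))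
)) (.node (nat_lit 0x10106a4f12bfb) (.node (nat_lit 0x10106a4f12bbb) (.leaf (nat_lit 0x10106a4f10bfb) (nat_lit 1794))
 (.leaf (nat_lit 0x10106a4f12bbb) (nat_lit 2050))
) (.node (nat_lit 0x10106a7410b95) (.leaf (nat_lit 0x10106a4f12bfb) (nat_lit 1794))
 (.leaf (nat_lit 0x10106a7410b95) (nat_lit 1536))
)))) (.node (nat_lit 0x10106ace10bbb) (.node (nat_lit 0x10106a7510b95) (.node (nat_lit 0x10106a7412b95) (.leaf (nat_lit 0x10106a7410bd5) (nat_lit 1283))
 (.node (nat_lit 0x10106a7412bd5) (.leaf (nat_lit 0x10106a7412b95) (nat_lit 1539))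
 (.leaf (nat_lit 0x10106a7412bd5) (nat_lit 1537))
)) (.node (nat_lit 0x10106a7512b95) (.node (nat_lit 0x10106a7510bd5) (.leaf (nat_lit 0x10106a7510b95) (nat_lit 1284))
 (.leaf (nat_lit 0x10106a7510bd5) (nat_lit 1540))
) (.node (nat_lit 0x10106a7512bd5) (.leaf (nat_lit 0x10106a7512b95) (nat_lit 1796))
 (.leaf (nat_lit 0x10106a7512bd5) (nat_lit 1540))
))) (.node (nat_lit 0x10106acf10bbb) (.node (nat_lit 0x10106ace12bbb) (.node (nat_lit 0x10106ace10bfb) (.leaf (nat_lit 0x10106ace10bbb) (nat_lit 2049))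
 (.leaf (nat_lit 0x10106ace10bfb) (nat_lit 2050))
) (.node (nat_lit 0x10106ace12bfb) (.leaf (nat_lit 0x10106ace12bbb) (nat_lit 2050))
 (.leaf (nat_lit 0x10106ace12bfb) (nat_lit 2050))
)) (.node (nat_lit 0x10106acf12bbb) (.node (nat_lit 0x10106acf10bfb) (.leaf (nat_lit 0x10106acf10bbb) (nat_lit 2050))
 (.leaf (nat_lit 0x10106acf10bfb) (nat_lit 1794))
) (.node (nat_lit 0x10106acf12bfb) (.leaf (nat_lit 0x10106acf12bbb) (nat_lit 2050))
 (.leaf (nat_lit 0x10106acf12bfb) (nat_lit 2050))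
))))))) (.node (nat_lit 0x10140cdd152b3) (.node (nat_lit 0x10106bcd12f32) (.node (nat_lit 0x10106b4d12f72) (.node (nat_lit 0x10106af512bd5) (.node (nat_lit 0x10106af412bd5) (.node (nat_lit 0x10106af410bd5) (.leaf (nat_lit 0x10106af410b95) (nat_lit 1539))
 (.node (nat_lit 0x10106af412b95) (.leaf (nat_lit 0x10106af410bd5) (nat_lit 1539))
 (.leaf (nat_lit 0x10106af412b95) (nat_lit 1283))
)) (.node (nat_lit 0x10106af510bd5) (.node (nat_lit 0x10106af510b95) (.leaf (nat_lit 0x10106af412bd5) (nat_lit 1283))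
 (.leaf (nat_lit 0x10106af510b95) (nat_lit 1540))
) (.node (nat_lit 0x10106af512b95) (.leaf (nat_lit 0x10106af510bd5) (nat_lit 1795))
 (.leaf (nat_lit 0x10106af512b95) (nat_lit 1539))
))) (.node (nat_lit 0x10106b4c12f72) (.node (nat_lit 0x10106b4c10f72) (.node (nat_lit 0x10106b4c10f32) (.leaf (nat_lit 0x10106af512bd5) (nat_lit 1539))
 (.leaf (nat_lit 0x10106b4c10f32) (nat_lit 1538))
) (.node (nat_lit 0x10106b4c12f32) (.leaf (nat_lit 0x10106b4c10f72) (nat_lit 1794))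
 (.leaf (nat_lit 0x10106b4c12f32) (nat_lit 1793))
)) (.node (nat_lit 0x10106b4d10f72) (.node (nat_lit 0x10106b4d10f32) (.leaf (nat_lit 0x10106b4c12f72) (nat_lit 1794))
 (.leaf (nat_lit 0x10106b4d10f32) (nat_lit 1794))
) (.node (nat_lit 0x10106b4d12f32) (.leaf (nat_lit 0x10106b4d10f72) (nat_lit 1793))
 (.leaf (nat_lit 0x10106b4d12f32) (nat_lit 1794))
)))) (.node (nat_lit 0x10106b6712f1d) (.node (nat_lit 0x10106b6612f1d) (.node (nat_lit 0x10106b6610f1d) (.leaf (nat_lit 0x10106b4d12f72) (nat_lit 2050))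
 (.node (nat_lit 0x10106b6610f5d) (.leaf (nat_lit 0x10106b6610f1d) (nat_lit 1284))
 (.leaf (nat_lit 0x10106b6610f5d) (nat_lit 1536))
)) (.node (nat_lit 0x10106b6710f1d) (.node (nat_lit 0x10106b6612f5d) (.leaf (nat_lit 0x10106b6612f1d) (nat_lit 1283))
 (.leaf (nat_lit 0x10106b6612f5d) (nat_lit 1536))
) (.node (nat_lit 0x10106b6710f5d) (.leaf (nat_lit 0x10106b6710f1d) (nat_lit 1539))
 (.leaf (nat_lit 0x10106b6710f5d) (nat_lit 1281))
))) (.node (nat_lit 0x10106bcc12f32) (.node (nat_lit 0x10106bcc10f32) (.node (nat_lit 0x10106b6712f5d) (.leaf (nat_lit 0x10106b6712f1d) (nat_lit 1280))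
 (.leaf (nat_lit 0x10106b6712f5d) (nat_lit 1027))
) (.node (nat_lit 0x10106bcc10f72) (.leaf (nat_lit 0x10106bcc10f32) (nat_lit 1538))
 (.leaf (nat_lit 0x10106bcc10f72) (nat_lit 1795))
)) (.node (nat_lit 0x10106bcd10f32) (.node (nat_lit 0x10106bcc12f72) (.leaf (nat_lit 0x10106bcc12f32) (nat_lit 1538))
 (.leaf (nat_lit 0x10106bcc12f72) (nat_lit 1794))
) (.node (nat_lit 0x10106bcd10f72) (.leaf (nat_lit 0x10106bcd10f32) (nat_lit 1794))
 (.leaf (nat_lit 0x10106bcd10f72) (nat_lit 1538))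
))))) (.node (nat_lit 0x10140c5d152f3) (.node (nat_lit 0x10106be710f5d) (.node (nat_lit 0x10106be610f5d) (.node (nat_lit 0x10106bcd12f72) (.leaf (nat_lit 0x10106bcd12f32) (nat_lit 1794))
 (.node (nat_lit 0x10106be610f1d) (.leaf (nat_lit 0x10106bcd12f72) (nat_lit 2050))
 (.leaf (nat_lit 0x10106be610f1d) (nat_lit 1028))
)) (.node (nat_lit 0x10106be612f5d) (.node (nat_lit 0x10106be612f1d) (.leaf (nat_lit 0x10106be610f5d) (nat_lit 1284))
 (.leaf (nat_lit 0x10106be612f1d) (nat_lit 1537))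
) (.node (nat_lit 0x10106be710f1d) (.leaf (nat_lit 0x10106be612f5d) (nat_lit 1540))
 (.leaf (nat_lit 0x10106be710f1d) (nat_lit 1280))
))) (.node (nat_lit 0x10140c5c152f3) (.node (nat_lit 0x10106be712f5d) (.node (nat_lit 0x10106be712f1d) (.leaf (nat_lit 0x10106be710f5d) (nat_lit 1027))
 (.leaf (nat_lit 0x10106be712f1d) (nat_lit 1283))
) (.node (nat_lit 0x10140c5c152b3) (.leaf (nat_lit 0x10106be712f5d) (nat_lit 1281))
 (.leaf (nat_lit 0x10140c5c152b3) (nat_lit 2052))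
)) (.node (nat_lit 0x10140c5c172f3) (.node (nat_lit 0x10140c5c172b3) (.leaf (nat_lit 0x10140c5c152f3) (nat_lit 2052))
 (.leaf (nat_lit 0x10140c5c172b3) (nat_lit 2051))
) (.node (nat_lit 0x10140c5d152b3) (.leaf (nat_lit 0x10140c5c172f3) (nat_lit 2052))
 (.leaf (nat_lit 0x10140c5d152b3) (nat_lit 1796))
)))) (.node (nat_lit 0x10140c5f152ba) (.node (nat_lit 0x10140c5e152ba) (.node (nat_lit 0x10140c5d172b3) (.leaf (nat_lit 0x10140c5d152f3) (nat_lit 2052))
 (.node (nat_lit 0x10140c5d172f3) (.leaf (nat_lit 0x10140c5d172b3) (nat_lit 2052))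
 (.leaf (nat_lit 0x10140c5d172f3) (nat_lit 2052))
)) (.node (nat_lit 0x10140c5e172ba) (.node (nat_lit 0x10140c5e152fa) (.leaf (nat_lit 0x10140c5e152ba) (nat_lit 1795))
 (.leaf (nat_lit 0x10140c5e152fa) (nat_lit 1793))
) (.node (nat_lit 0x10140c5e172fa) (.leaf (nat_lit 0x10140c5e172ba) (nat_lit 1539))
 (.leaf (nat_lit 0x10140c5e172fa) (nat_lit 1796))
))) (.node (nat_lit 0x10140cdc152b3) (.node (nat_lit 0x10140c5f172ba) (.node (nat_lit 0x10140c5f152fa) (.leaf (nat_lit 0x10140c5f152ba) (nat_lit 1792))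
 (.leaf (nat_lit 0x10140c5f152fa) (nat_lit 1539))
) (.node (nat_lit 0x10140c5f172fa) (.leaf (nat_lit 0x10140c5f172ba) (nat_lit 1795))
 (.leaf (nat_lit 0x10140c5f172fa) (nat_lit 1796))
)) (.node (nat_lit 0x10140cdc172b3) (.node (nat_lit 0x10140cdc152f3) (.leaf (nat_lit 0x10140cdc152b3) (nat_lit 2052))
 (.leaf (nat_lit 0x10140cdc152f3) (nat_lit 2052))
) (.node (nat_lit 0x10140cdc172f3) (.leaf (nat_lit 0x10140cdc172b3) (nat_lit 2051))
 (.leaf (nat_lit 0x10140cdc172f3) (nat_lit 2051))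
)))))) (.node (nat_lit 0x1014109016101) (.node (nat_lit 0x1014101016141) (.node (nat_lit 0x10140cde172fa) (.node (nat_lit 0x10140cdd172f3) (.node (nat_lit 0x10140cdd152f3) (.leaf (nat_lit 0x10140cdd152b3) (nat_lit 1795))
 (.node (nat_lit 0x10140cdd172b3) (.leaf (nat_lit 0x10140cdd152f3) (nat_lit 1795))
 (.leaf (nat_lit 0x10140cdd172b3) (nat_lit 2051))
)) (.node (nat_lit 0x10140cde152fa) (.node (nat_lit 0x10140cde152ba) (.leaf (nat_lit 0x10140cdd172f3) (nat_lit 1796))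
 (.leaf (nat_lit 0x10140cde152ba) (nat_lit 1792))
) (.node (nat_lit 0x10140cde172ba) (.leaf (nat_lit 0x10140cde152fa) (nat_lit 1540))
 (.leaf (nat_lit 0x10140cde172ba) (nat_lit 1795))
))) (.node (nat_lit 0x10140cdf172fa) (.node (nat_lit 0x10140cdf152fa) (.node (nat_lit 0x10140cdf152ba) (.leaf (nat_lit 0x10140cde172fa) (nat_lit 1795))
 (.leaf (nat_lit 0x10140cdf152ba) (nat_lit 1795))
) (.node (nat_lit 0x10140cdf172ba) (.leaf (nat_lit 0x10140cdf152fa) (nat_lit 1540))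
 (.leaf (nat_lit 0x10140cdf172ba) (nat_lit 1796))
)) (.node (nat_lit 0x1014101014141) (.node (nat_lit 0x1014101014101) (.leaf (nat_lit 0x10140cdf172fa) (nat_lit 2049))
 (.leaf (nat_lit 0x1014101014101) (nat_lit 1537))
) (.node (nat_lit 0x1014101016101) (.leaf (nat_lit 0x1014101014141) (nat_lit 1281))
 (.leaf (nat_lit 0x1014101016101) (nat_lit 1281))
)))) (.node (nat_lit 0x1014106416114) (.node (nat_lit 0x1014101116101) (.node (nat_lit 0x1014101114101) (.leaf (nat_lit 0x1014101016141) (nat_lit 1025))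
 (.node (nat_lit 0x1014101114141) (.leaf (nat_lit 0x1014101114101) (nat_lit 1537))
 (.leaf (nat_lit 0x1014101114141) (nat_lit 1537))
)) (.node (nat_lit 0x1014106414114) (.node (nat_lit 0x1014101116141) (.leaf (nat_lit 0x1014101116101) (nat_lit 769))
 (.leaf (nat_lit 0x1014101116141) (nat_lit 1025))
) (.node (nat_lit 0x1014106414154) (.leaf (nat_lit 0x1014106414114) (nat_lit 1281))
 (.leaf (nat_lit 0x1014106414154) (nat_lit 1537))
))) (.node (nat_lit 0x1014106516114) (.node (nat_lit 0x1014106514114) (.node (nat_lit 0x1014106416154) (.leaf (nat_lit 0x1014106416114) (nat_lit 1538))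
 (.leaf (nat_lit 0x1014106416154) (nat_lit 1537))
) (.node (nat_lit 0x1014106514154) (.leaf (nat_lit 0x1014106514114) (nat_lit 1537))
 (.leaf (nat_lit 0x1014106514154) (nat_lit 1538))
)) (.node (nat_lit 0x1014109014101) (.node (nat_lit 0x1014106516154) (.leaf (nat_lit 0x1014106516114) (nat_lit 1282))
 (.leaf (nat_lit 0x1014106516154) (nat_lit 1538))
) (.node (nat_lit 0x1014109014141) (.leaf (nat_lit 0x1014109014101) (nat_lit 1280))
 (.leaf (nat_lit 0x1014109014141) (nat_lit 1028))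
))))) (.node (nat_lit 0x10141810141c1) (.node (nat_lit 0x101410e414154) (.node (nat_lit 0x1014109114141) (.node (nat_lit 0x1014109016141) (.leaf (nat_lit 0x1014109016101) (nat_lit 1024))
 (.node (nat_lit 0x1014109114101) (.leaf (nat_lit 0x1014109016141) (nat_lit 771))
 (.leaf (nat_lit 0x1014109114101) (nat_lit 1284))
)) (.node (nat_lit 0x1014109116141) (.node (nat_lit 0x1014109116101) (.leaf (nat_lit 0x1014109114141) (nat_lit 1282))
 (.leaf (nat_lit 0x1014109116101) (nat_lit 515))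
) (.node (nat_lit 0x101410e414114) (.leaf (nat_lit 0x1014109116141) (nat_lit 768))
 (.leaf (nat_lit 0x101410e414114) (nat_lit 1026))
))) (.node (nat_lit 0x101410e514154) (.node (nat_lit 0x101410e416154) (.node (nat_lit 0x101410e416114) (.leaf (nat_lit 0x101410e414154) (nat_lit 1283))
 (.leaf (nat_lit 0x101410e416114) (nat_lit 1538))
) (.node (nat_lit 0x101410e514114) (.leaf (nat_lit 0x101410e416154) (nat_lit 1282))
 (.leaf (nat_lit 0x101410e514114) (nat_lit 1282))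
)) (.node (nat_lit 0x101410e516154) (.node (nat_lit 0x101410e516114) (.leaf (nat_lit 0x101410e514154) (nat_lit 1539))
 (.leaf (nat_lit 0x101410e516114) (nat_lit 1537))
) (.node (nat_lit 0x1014181014181) (.leaf (nat_lit 0x101410e516154) (nat_lit 1538))
 (.leaf (nat_lit 0x1014181014181) (nat_lit 1537))
)))) (.node (nat_lit 0x101418761419c) (.node (nat_lit 0x1014181114181) (.node (nat_lit 0x1014181016181) (.leaf (nat_lit 0x10141810141c1) (nat_lit 1281))
 (.node (nat_lit 0x10141810161c1) (.leaf (nat_lit 0x1014181016181) (nat_lit 1025))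
 (.leaf (nat_lit 0x10141810161c1) (nat_lit 1281))
)) (.node (nat_lit 0x1014181116181) (.node (nat_lit 0x10141811141c1) (.leaf (nat_lit 0x1014181114181) (nat_lit 1537))
 (.leaf (nat_lit 0x10141811141c1) (nat_lit 1281))
) (.node (nat_lit 0x10141811161c1) (.leaf (nat_lit 0x1014181116181) (nat_lit 1537))
 (.leaf (nat_lit 0x10141811161c1) (nat_lit 1281))
))) (.node (nat_lit 0x101418771419c) (.node (nat_lit 0x101418761619c) (.node (nat_lit 0x10141876141dc) (.leaf (nat_lit 0x101418761419c) (nat_lit 1280))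
 (.leaf (nat_lit 0x10141876141dc) (nat_lit 1026))
) (.node (nat_lit 0x10141876161dc) (.leaf (nat_lit 0x101418761619c) (nat_lit 1282))
 (.leaf (nat_lit 0x10141876161dc) (nat_lit 1538))
)) (.node (nat_lit 0x101418771619c) (.node (nat_lit 0x10141877141dc) (.leaf (nat_lit 0x101418771419c) (nat_lit 1283))
 (.leaf (nat_lit 0x10141877141dc) (nat_lit 1538))
) (.node (nat_lit 0x10141877161dc) (.leaf (nat_lit 0x101418771619c) (nat_lit 1538))
 (.leaf (nat_lit 0x10141877161dc) (nat_lit 1537))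
)))))))) (.node (nat_lit 0x1014506414114) (.node (nat_lit 0x1014237714f9c) (.node (nat_lit 0x1014226516b14) (.node (nat_lit 0x101418f7161dc) (.node (nat_lit 0x10141891161c1) (.node (nat_lit 0x10141890161c1) (.node (nat_lit 0x10141890141c1) (.leaf (nat_lit 0x1014189014181) (nat_lit 1283))
 (.node (nat_lit 0x1014189016181) (.leaf (nat_lit 0x10141890141c1) (nat_lit 1026))
 (.leaf (nat_lit 0x1014189016181) (nat_lit 771))
)) (.node (nat_lit 0x10141891141c1) (.node (nat_lit 0x1014189114181) (.leaf (nat_lit 0x10141890161c1) (nat_lit 1024))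
 (.leaf (nat_lit 0x1014189114181) (nat_lit 1280))
) (.node (nat_lit 0x1014189116181) (.leaf (nat_lit 0x10141891141c1) (nat_lit 1027))
 (.leaf (nat_lit 0x1014189116181) (nat_lit 1282))
))) (.node (nat_lit 0x101418f6161dc) (.node (nat_lit 0x101418f6141dc) (.node (nat_lit 0x101418f61419c) (.leaf (nat_lit 0x10141891161c1) (nat_lit 1027))
 (.leaf (nat_lit 0x101418f61419c) (nat_lit 1537))
) (.node (nat_lit 0x101418f61619c) (.leaf (nat_lit 0x101418f6141dc) (nat_lit 1281))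
 (.leaf (nat_lit 0x101418f61619c) (nat_lit 1539))
)) (.node (nat_lit 0x101418f7141dc) (.node (nat_lit 0x101418f71419c) (.leaf (nat_lit 0x101418f6161dc) (nat_lit 1794))
 (.leaf (nat_lit 0x101418f71419c) (nat_lit 1026))
) (.node (nat_lit 0x101418f71619c) (.leaf (nat_lit 0x101418f7141dc) (nat_lit 1282))
 (.leaf (nat_lit 0x101418f71619c) (nat_lit 1536))
)))) (.node (nat_lit 0x1014225d16b33) (.node (nat_lit 0x1014225c16b33) (.node (nat_lit 0x1014225c14b33) (.leaf (nat_lit 0x101418f7161dc) (nat_lit 1282))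
 (.node (nat_lit 0x1014225c14b73) (.leaf (nat_lit 0x1014225c14b33) (nat_lit 2052))
 (.leaf (nat_lit 0x1014225c14b73) (nat_lit 2050))
)) (.node (nat_lit 0x1014225d14b33) (.node (nat_lit 0x1014225c16b73) (.leaf (nat_lit 0x1014225c16b33) (nat_lit 2050))
 (.leaf (nat_lit 0x1014225c16b73) (nat_lit 2052))
) (.node (nat_lit 0x1014225d14b73) (.leaf (nat_lit 0x1014225d14b33) (nat_lit 2052))
 (.leaf (nat_lit 0x1014225d14b73) (nat_lit 2308))
))) (.node (nat_lit 0x1014226416b14) (.node (nat_lit 0x1014226414b14) (.node (nat_lit 0x1014225d16b73) (.leaf (nat_lit 0x1014225d16b33) (nat_lit 2050))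
 (.leaf (nat_lit 0x1014225d16b73) (nat_lit 2306))
) (.node (nat_lit 0x1014226414b54) (.leaf (nat_lit 0x1014226414b14) (nat_lit 1281))
 (.leaf (nat_lit 0x1014226414b54) (nat_lit 1540))
)) (.node (nat_lit 0x1014226514b14) (.node (nat_lit 0x1014226416b54) (.leaf (nat_lit 0x1014226416b14) (nat_lit 1539))
 (.leaf (nat_lit 0x1014226416b54) (nat_lit 1540))
) (.node (nat_lit 0x1014226514b54) (.leaf (nat_lit 0x1014226514b14) (nat_lit 1025))
 (.leaf (nat_lit 0x1014226514b54) (nat_lit 1284))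
))))) (.node (nat_lit 0x101422e514b54) (.node (nat_lit 0x101422dd14b73) (.node (nat_lit 0x101422dc14b73) (.node (nat_lit 0x1014226516b54) (.leaf (nat_lit 0x1014226516b14) (nat_lit 1536))
 (.node (nat_lit 0x101422dc14b33) (.leaf (nat_lit 0x1014226516b54) (nat_lit 1284))
 (.leaf (nat_lit 0x101422dc14b33) (nat_lit 2051))
)) (.node (nat_lit 0x101422dc16b73) (.node (nat_lit 0x101422dc16b33) (.leaf (nat_lit 0x101422dc14b73) (nat_lit 2050))
 (.leaf (nat_lit 0x101422dc16b33) (nat_lit 2052))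
) (.node (nat_lit 0x101422dd14b33) (.leaf (nat_lit 0x101422dc16b73) (nat_lit 2051))
 (.leaf (nat_lit 0x101422dd14b33) (nat_lit 2306))
))) (.node (nat_lit 0x101422e414b54) (.node (nat_lit 0x101422dd16b73) (.node (nat_lit 0x101422dd16b33) (.leaf (nat_lit 0x101422dd14b73) (nat_lit 2052))
 (.leaf (nat_lit 0x101422dd16b33) (nat_lit 2307))
) (.node (nat_lit 0x101422e414b14) (.leaf (nat_lit 0x101422dd16b73) (nat_lit 2308))
 (.leaf (nat_lit 0x101422e414b14) (nat_lit 1028))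
)) (.node (nat_lit 0x101422e416b54) (.node (nat_lit 0x101422e416b14) (.leaf (nat_lit 0x101422e414b54) (nat_lit 1280))
 (.leaf (nat_lit 0x101422e416b14) (nat_lit 1283))
) (.node (nat_lit 0x101422e514b14) (.leaf (nat_lit 0x101422e416b54) (nat_lit 1283))
 (.leaf (nat_lit 0x101422e514b14) (nat_lit 772))
)))) (.node (nat_lit 0x1014235f14fba) (.node (nat_lit 0x1014235e14fba) (.node (nat_lit 0x101422e516b14) (.leaf (nat_lit 0x101422e514b54) (nat_lit 1024))
 (.node (nat_lit 0x101422e516b54) (.leaf (nat_lit 0x101422e516b14) (nat_lit 1280))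
 (.leaf (nat_lit 0x101422e516b54) (nat_lit 1027))
)) (.node (nat_lit 0x1014235e16fba) (.node (nat_lit 0x1014235e14ffa) (.leaf (nat_lit 0x1014235e14fba) (nat_lit 2051))
 (.leaf (nat_lit 0x1014235e14ffa) (nat_lit 2050))
) (.node (nat_lit 0x1014235e16ffa) (.leaf (nat_lit 0x1014235e16fba) (nat_lit 2051))
 (.leaf (nat_lit 0x1014235e16ffa) (nat_lit 2050))
))) (.node (nat_lit 0x1014237614f9c) (.node (nat_lit 0x1014235f16fba) (.node (nat_lit 0x1014235f14ffa) (.leaf (nat_lit 0x1014235f14fba) (nat_lit 1794))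
 (.leaf (nat_lit 0x1014235f14ffa) (nat_lit 1795))
) (.node (nat_lit 0x1014235f16ffa) (.leaf (nat_lit 0x1014235f16fba) (nat_lit 1795))
 (.leaf (nat_lit 0x1014235f16ffa) (nat_lit 2049))
)) (.node (nat_lit 0x1014237616f9c) (.node (nat_lit 0x1014237614fdc) (.leaf (nat_lit 0x1014237614f9c) (nat_lit 516))
 (.leaf (nat_lit 0x1014237614fdc) (nat_lit 768))
) (.node (nat_lit 0x1014237616fdc) (.leaf (nat_lit 0x1014237616f9c) (nat_lit 1024))
 (.leaf (nat_lit 0x1014237616fdc) (nat_lit 771))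
)))))) (.node (nat_lit 0x10144c5e172ba) (.node (nat_lit 0x101423f616fdc) (.node (nat_lit 0x101423de16ffa) (.node (nat_lit 0x1014237716fdc) (.node (nat_lit 0x1014237714fdc) (.leaf (nat_lit 0x1014237714f9c) (nat_lit 1283))
 (.node (nat_lit 0x1014237716f9c) (.leaf (nat_lit 0x1014237714fdc) (nat_lit 1283))
 (.leaf (nat_lit 0x1014237716f9c) (nat_lit 1027))
)) (.node (nat_lit 0x101423de14ffa) (.node (nat_lit 0x101423de14fba) (.leaf (nat_lit 0x1014237716fdc) (nat_lit 1280))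
 (.leaf (nat_lit 0x101423de14fba) (nat_lit 2051))
) (.node (nat_lit 0x101423de16fba) (.leaf (nat_lit 0x101423de14ffa) (nat_lit 2306))
 (.leaf (nat_lit 0x101423de16fba) (nat_lit 2050))
))) (.node (nat_lit 0x101423df16ffa) (.node (nat_lit 0x101423df14ffa) (.node (nat_lit 0x101423df14fba) (.leaf (nat_lit 0x101423de16ffa) (nat_lit 1794))
 (.leaf (nat_lit 0x101423df14fba) (nat_lit 2050))
) (.node (nat_lit 0x101423df16fba) (.leaf (nat_lit 0x101423df14ffa) (nat_lit 2051))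
 (.leaf (nat_lit 0x101423df16fba) (nat_lit 2051))
)) (.node (nat_lit 0x101423f614fdc) (.node (nat_lit 0x101423f614f9c) (.leaf (nat_lit 0x101423df16ffa) (nat_lit 1794))
 (.leaf (nat_lit 0x101423f614f9c) (nat_lit 769))
) (.node (nat_lit 0x101423f616f9c) (.leaf (nat_lit 0x101423f614fdc) (nat_lit 1028))
 (.leaf (nat_lit 0x101423f616f9c) (nat_lit 1281))
)))) (.node (nat_lit 0x10144c5c172b3) (.node (nat_lit 0x101423f716f9c) (.node (nat_lit 0x101423f714f9c) (.leaf (nat_lit 0x101423f616fdc) (nat_lit 1025))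
 (.node (nat_lit 0x101423f714fdc) (.leaf (nat_lit 0x101423f714f9c) (nat_lit 1537))
 (.leaf (nat_lit 0x101423f714fdc) (nat_lit 1540))
)) (.node (nat_lit 0x10144c5c152b3) (.node (nat_lit 0x101423f716fdc) (.leaf (nat_lit 0x101423f716f9c) (nat_lit 1283))
 (.leaf (nat_lit 0x101423f716fdc) (nat_lit 1284))
) (.node (nat_lit 0x10144c5c152f3) (.leaf (nat_lit 0x10144c5c152b3) (nat_lit 2052))
 (.leaf (nat_lit 0x10144c5c152f3) (nat_lit 2052))
))) (.node (nat_lit 0x10144c5d172b3) (.node (nat_lit 0x10144c5d152b3) (.node (nat_lit 0x10144c5c172f3) (.leaf (nat_lit 0x10144c5c172b3) (nat_lit 1796))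
 (.leaf (nat_lit 0x10144c5c172f3) (nat_lit 2052))
) (.node (nat_lit 0x10144c5d152f3) (.leaf (nat_lit 0x10144c5d152b3) (nat_lit 2051))
 (.leaf (nat_lit 0x10144c5d152f3) (nat_lit 2052))
)) (.node (nat_lit 0x10144c5e152ba) (.node (nat_lit 0x10144c5d172f3) (.leaf (nat_lit 0x10144c5d172b3) (nat_lit 1796))
 (.leaf (nat_lit 0x10144c5d172f3) (nat_lit 1796))
) (.node (nat_lit 0x10144c5e152fa) (.leaf (nat_lit 0x10144c5e152ba) (nat_lit 1540))
 (.leaf (nat_lit 0x10144c5e152fa) (nat_lit 1792))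
))))) (.node (nat_lit 0x10144cde152fa) (.node (nat_lit 0x10144cdc152f3) (.node (nat_lit 0x10144c5f152fa) (.node (nat_lit 0x10144c5e172fa) (.leaf (nat_lit 0x10144c5e172ba) (nat_lit 1792))
 (.node (nat_lit 0x10144c5f152ba) (.leaf (nat_lit 0x10144c5e172fa) (nat_lit 1539))
 (.leaf (nat_lit 0x10144c5f152ba) (nat_lit 1796))
)) (.node (nat_lit 0x10144c5f172fa) (.node (nat_lit 0x10144c5f172ba) (.leaf (nat_lit 0x10144c5f152fa) (nat_lit 1796))
 (.leaf (nat_lit 0x10144c5f172ba) (nat_lit 1795))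
) (.node (nat_lit 0x10144cdc152b3) (.leaf (nat_lit 0x10144c5f172fa) (nat_lit 1796))
 (.leaf (nat_lit 0x10144cdc152b3) (nat_lit 2051))
))) (.node (nat_lit 0x10144cdd152f3) (.node (nat_lit 0x10144cdc172f3) (.node (nat_lit 0x10144cdc172b3) (.leaf (nat_lit 0x10144cdc152f3) (nat_lit 2052))
 (.leaf (nat_lit 0x10144cdc172b3) (nat_lit 1795))
) (.node (nat_lit 0x10144cdd152b3) (.leaf (nat_lit 0x10144cdc172f3) (nat_lit 2048))
 (.leaf (nat_lit 0x10144cdd152b3) (nat_lit 2052))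
)) (.node (nat_lit 0x10144cdd172f3) (.node (nat_lit 0x10144cdd172b3) (.leaf (nat_lit 0x10144cdd152f3) (nat_lit 1795))
 (.leaf (nat_lit 0x10144cdd172b3) (nat_lit 2051))
) (.node (nat_lit 0x10144cde152ba) (.leaf (nat_lit 0x10144cdd172f3) (nat_lit 2049))
 (.leaf (nat_lit 0x10144cde152ba) (nat_lit 1793))
)))) (.node (nat_lit 0x1014501014101) (.node (nat_lit 0x10144cdf152ba) (.node (nat_lit 0x10144cde172ba) (.leaf (nat_lit 0x10144cde152fa) (nat_lit 1796))
 (.node (nat_lit 0x10144cde172fa) (.leaf (nat_lit 0x10144cde172ba) (nat_lit 1792))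
 (.leaf (nat_lit 0x10144cde172fa) (nat_lit 1540))
)) (.node (nat_lit 0x10144cdf172ba) (.node (nat_lit 0x10144cdf152fa) (.leaf (nat_lit 0x10144cdf152ba) (nat_lit 1795))
 (.leaf (nat_lit 0x10144cdf152fa) (nat_lit 1795))
) (.node (nat_lit 0x10144cdf172fa) (.leaf (nat_lit 0x10144cdf172ba) (nat_lit 1796))
 (.leaf (nat_lit 0x10144cdf172fa) (nat_lit 1796))
))) (.node (nat_lit 0x1014501114101) (.node (nat_lit 0x1014501016101) (.node (nat_lit 0x1014501014141) (.leaf (nat_lit 0x1014501014101) (nat_lit 1284))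
 (.leaf (nat_lit 0x1014501014141) (nat_lit 1537))
) (.node (nat_lit 0x1014501016141) (.leaf (nat_lit 0x1014501016101) (nat_lit 1537))
 (.leaf (nat_lit 0x1014501016141) (nat_lit 1284))
)) (.node (nat_lit 0x1014501116101) (.node (nat_lit 0x1014501114141) (.leaf (nat_lit 0x1014501114101) (nat_lit 1281))
 (.leaf (nat_lit 0x1014501114141) (nat_lit 1540))
) (.node (nat_lit 0x1014501116141) (.leaf (nat_lit 0x1014501116101) (nat_lit 1282))
 (.leaf (nat_lit 0x1014501116141) (nat_lit 1281))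
))))))) (.node (nat_lit 0x1014625d14b33) (.node (nat_lit 0x1014581116181) (.node (nat_lit 0x1014509116141) (.node (nat_lit 0x1014506516154) (.node (nat_lit 0x1014506416154) (.node (nat_lit 0x1014506414154) (.leaf (nat_lit 0x1014506414114) (nat_lit 1282))
 (.node (nat_lit 0x1014506416114) (.leaf (nat_lit 0x1014506414154) (nat_lit 1538))
 (.leaf (nat_lit 0x1014506416114) (nat_lit 1794))
)) (.node (nat_lit 0x1014506514154) (.node (nat_lit 0x1014506514114) (.leaf (nat_lit 0x1014506416154) (nat_lit 1538))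
 (.leaf (nat_lit 0x1014506514114) (nat_lit 1538))
) (.node (nat_lit 0x1014506516114) (.leaf (nat_lit 0x1014506514154) (nat_lit 1537))
 (.leaf (nat_lit 0x1014506516114) (nat_lit 1795))
))) (.node (nat_lit 0x1014509016141) (.node (nat_lit 0x1014509014141) (.node (nat_lit 0x1014509014101) (.leaf (nat_lit 0x1014506516154) (nat_lit 1794))
 (.leaf (nat_lit 0x1014509014101) (nat_lit 1283))
) (.node (nat_lit 0x1014509016101) (.leaf (nat_lit 0x1014509014141) (nat_lit 1284))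
 (.leaf (nat_lit 0x1014509016101) (nat_lit 1284))
)) (.node (nat_lit 0x1014509114141) (.node (nat_lit 0x1014509114101) (.leaf (nat_lit 0x1014509016141) (nat_lit 1283))
 (.leaf (nat_lit 0x1014509114101) (nat_lit 1028))
) (.node (nat_lit 0x1014509116101) (.leaf (nat_lit 0x1014509114141) (nat_lit 1282))
 (.leaf (nat_lit 0x1014509116101) (nat_lit 1027))
)))) (.node (nat_lit 0x101450e516114) (.node (nat_lit 0x101450e416114) (.node (nat_lit 0x101450e414114) (.leaf (nat_lit 0x1014509116141) (nat_lit 1028))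
 (.node (nat_lit 0x101450e414154) (.leaf (nat_lit 0x101450e414114) (nat_lit 1539))
 (.leaf (nat_lit 0x101450e414154) (nat_lit 1538))
)) (.node (nat_lit 0x101450e514114) (.node (nat_lit 0x101450e416154) (.leaf (nat_lit 0x101450e416114) (nat_lit 1794))
 (.leaf (nat_lit 0x101450e416154) (nat_lit 1793))
) (.node (nat_lit 0x101450e514154) (.leaf (nat_lit 0x101450e514114) (nat_lit 1536))
 (.leaf (nat_lit 0x101450e514154) (nat_lit 1282))
))) (.node (nat_lit 0x1014581016181) (.node (nat_lit 0x1014581014181) (.node (nat_lit 0x101450e516154) (.leaf (nat_lit 0x101450e516114) (nat_lit 1538))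
 (.leaf (nat_lit 0x101450e516154) (nat_lit 1794))
) (.node (nat_lit 0x10145810141c1) (.leaf (nat_lit 0x1014581014181) (nat_lit 1537))
 (.leaf (nat_lit 0x10145810141c1) (nat_lit 1282))
)) (.node (nat_lit 0x1014581114181) (.node (nat_lit 0x10145810161c1) (.leaf (nat_lit 0x1014581016181) (nat_lit 1026))
 (.leaf (nat_lit 0x10145810161c1) (nat_lit 1280))
) (.node (nat_lit 0x10145811141c1) (.leaf (nat_lit 0x1014581114181) (nat_lit 1536))
 (.leaf (nat_lit 0x10145811141c1) (nat_lit 1282))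
))))) (.node (nat_lit 0x10145891141c1) (.node (nat_lit 0x10145877141dc) (.node (nat_lit 0x10145876141dc) (.node (nat_lit 0x10145811161c1) (.leaf (nat_lit 0x1014581116181) (nat_lit 1538))
 (.node (nat_lit 0x101458761419c) (.leaf (nat_lit 0x10145811161c1) (nat_lit 1281))
 (.leaf (nat_lit 0x101458761419c) (nat_lit 1283))
)) (.node (nat_lit 0x10145876161dc) (.node (nat_lit 0x101458761619c) (.leaf (nat_lit 0x10145876141dc) (nat_lit 1537))
 (.leaf (nat_lit 0x101458761619c) (nat_lit 1281))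
) (.node (nat_lit 0x101458771419c) (.leaf (nat_lit 0x10145876161dc) (nat_lit 1537))
 (.leaf (nat_lit 0x101458771419c) (nat_lit 770))
))) (.node (nat_lit 0x10145890141c1) (.node (nat_lit 0x10145877161dc) (.node (nat_lit 0x101458771619c) (.leaf (nat_lit 0x10145877141dc) (nat_lit 1027))
 (.leaf (nat_lit 0x101458771619c) (nat_lit 1282))
) (.node (nat_lit 0x1014589014181) (.leaf (nat_lit 0x10145877161dc) (nat_lit 1026))
 (.leaf (nat_lit 0x1014589014181) (nat_lit 1283))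
)) (.node (nat_lit 0x10145890161c1) (.node (nat_lit 0x1014589016181) (.leaf (nat_lit 0x10145890141c1) (nat_lit 1282))
 (.leaf (nat_lit 0x1014589016181) (nat_lit 771))
) (.node (nat_lit 0x1014589114181) (.leaf (nat_lit 0x10145890161c1) (nat_lit 1024))
 (.leaf (nat_lit 0x1014589114181) (nat_lit 1280))
)))) (.node (nat_lit 0x101458f71419c) (.node (nat_lit 0x101458f61419c) (.node (nat_lit 0x1014589116181) (.leaf (nat_lit 0x10145891141c1) (nat_lit 1027))
 (.node (nat_lit 0x10145891161c1) (.leaf (nat_lit 0x1014589116181) (nat_lit 1280))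
 (.leaf (nat_lit 0x10145891161c1) (nat_lit 1027))
)) (.node (nat_lit 0x101458f61619c) (.node (nat_lit 0x101458f6141dc) (.leaf (nat_lit 0x101458f61419c) (nat_lit 1538))
 (.leaf (nat_lit 0x101458f6141dc) (nat_lit 1282))
) (.node (nat_lit 0x101458f6161dc) (.leaf (nat_lit 0x101458f61619c) (nat_lit 1026))
 (.leaf (nat_lit 0x101458f6161dc) (nat_lit 1283))
))) (.node (nat_lit 0x1014625c14b33) (.node (nat_lit 0x101458f71619c) (.node (nat_lit 0x101458f7141dc) (.leaf (nat_lit 0x101458f71419c) (nat_lit 1025))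
 (.leaf (nat_lit 0x101458f7141dc) (nat_lit 1281))
) (.node (nat_lit 0x101458f7161dc) (.leaf (nat_lit 0x101458f71619c) (nat_lit 1283))
 (.leaf (nat_lit 0x101458f7161dc) (nat_lit 1281))
)) (.node (nat_lit 0x1014625c16b33) (.node (nat_lit 0x1014625c14b73) (.leaf (nat_lit 0x1014625c14b33) (nat_lit 2050))
 (.leaf (nat_lit 0x1014625c14b73) (nat_lit 2306))
) (.node (nat_lit 0x1014625c16b73) (.leaf (nat_lit 0x1014625c16b33) (nat_lit 2048))
 (.leaf (nat_lit 0x1014625c16b73) (nat_lit 1796))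
)))))) (.node (nat_lit 0x1014635e16fba) (.node (nat_lit 0x101462dc16b73) (.node (nat_lit 0x1014626416b54) (.node (nat_lit 0x1014625d16b73) (.node (nat_lit 0x1014625d14b73) (.leaf (nat_lit 0x1014625d14b33) (nat_lit 2306))
 (.node (nat_lit 0x1014625d16b33) (.leaf (nat_lit 0x1014625d14b73) (nat_lit 2306))
 (.leaf (nat_lit 0x1014625d16b33) (nat_lit 2052))
)) (.node (nat_lit 0x1014626414b54) (.node (nat_lit 0x1014626414b14) (.leaf (nat_lit 0x1014625d16b73) (nat_lit 2052))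
 (.leaf (nat_lit 0x1014626414b14) (nat_lit 1540))
) (.node (nat_lit 0x1014626416b14) (.leaf (nat_lit 0x1014626414b54) (nat_lit 1284))
 (.leaf (nat_lit 0x1014626416b14) (nat_lit 1028))
))) (.node (nat_lit 0x1014626516b54) (.node (nat_lit 0x1014626514b54) (.node (nat_lit 0x1014626514b14) (.leaf (nat_lit 0x1014626416b54) (nat_lit 1280))
 (.leaf (nat_lit 0x1014626514b14) (nat_lit 1539))
) (.node (nat_lit 0x1014626516b14) (.leaf (nat_lit 0x1014626514b54) (nat_lit 1540))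
 (.leaf (nat_lit 0x1014626516b14) (nat_lit 1284))
)) (.node (nat_lit 0x101462dc14b73) (.node (nat_lit 0x101462dc14b33) (.leaf (nat_lit 0x1014626516b54) (nat_lit 1283))
 (.leaf (nat_lit 0x101462dc14b33) (nat_lit 2306))
) (.node (nat_lit 0x101462dc16b33) (.leaf (nat_lit 0x101462dc14b73) (nat_lit 2051))
 (.leaf (nat_lit 0x101462dc16b33) (nat_lit 2307))
)))) (.node (nat_lit 0x101462e416b14) (.node (nat_lit 0x101462dd16b33) (.node (nat_lit 0x101462dd14b33) (.leaf (nat_lit 0x101462dc16b73) (nat_lit 2051))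
 (.node (nat_lit 0x101462dd14b73) (.leaf (nat_lit 0x101462dd14b33) (nat_lit 2052))
 (.leaf (nat_lit 0x101462dd14b73) (nat_lit 2306))
)) (.node (nat_lit 0x101462e414b14) (.node (nat_lit 0x101462dd16b73) (.leaf (nat_lit 0x101462dd16b33) (nat_lit 2051))
 (.leaf (nat_lit 0x101462dd16b73) (nat_lit 2306))
) (.node (nat_lit 0x101462e414b54) (.leaf (nat_lit 0x101462e414b14) (nat_lit 1539))
 (.leaf (nat_lit 0x101462e414b54) (nat_lit 1540))
))) (.node (nat_lit 0x101462e516b14) (.node (nat_lit 0x101462e514b14) (.node (nat_lit 0x101462e416b54) (.leaf (nat_lit 0x101462e416b14) (nat_lit 1281))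
 (.leaf (nat_lit 0x101462e416b54) (nat_lit 1028))
) (.node (nat_lit 0x101462e514b54) (.leaf (nat_lit 0x101462e514b14) (nat_lit 1283))
 (.leaf (nat_lit 0x101462e514b54) (nat_lit 1536))
)) (.node (nat_lit 0x1014635e14fba) (.node (nat_lit 0x101462e516b54) (.leaf (nat_lit 0x101462e516b14) (nat_lit 1537))
 (.leaf (nat_lit 0x101462e516b54) (nat_lit 1284))
) (.node (nat_lit 0x1014635e14ffa) (.leaf (nat_lit 0x1014635e14fba) (nat_lit 2050))
 (.leaf (nat_lit 0x1014635e14ffa) (nat_lit 2050))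
))))) (.node (nat_lit 0x101463de14ffa) (.node (nat_lit 0x1014637614fdc) (.node (nat_lit 0x1014635f14ffa) (.node (nat_lit 0x1014635e16ffa) (.leaf (nat_lit 0x1014635e16fba) (nat_lit 2051))
 (.node (nat_lit 0x1014635f14fba) (.leaf (nat_lit 0x1014635e16ffa) (nat_lit 1795))
 (.leaf (nat_lit 0x1014635f14fba) (nat_lit 2051))
)) (.node (nat_lit 0x1014635f16ffa) (.node (nat_lit 0x1014635f16fba) (.leaf (nat_lit 0x1014635f14ffa) (nat_lit 2050))
 (.leaf (nat_lit 0x1014635f16fba) (nat_lit 1795))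
) (.node (nat_lit 0x1014637614f9c) (.leaf (nat_lit 0x1014635f16ffa) (nat_lit 2050))
 (.leaf (nat_lit 0x1014637614f9c) (nat_lit 1027))
))) (.node (nat_lit 0x1014637714fdc) (.node (nat_lit 0x1014637616fdc) (.node (nat_lit 0x1014637616f9c) (.leaf (nat_lit 0x1014637614fdc) (nat_lit 1280))
 (.leaf (nat_lit 0x1014637616f9c) (nat_lit 1281))
) (.node (nat_lit 0x1014637714f9c) (.leaf (nat_lit 0x1014637616fdc) (nat_lit 1284))
 (.leaf (nat_lit 0x1014637714f9c) (nat_lit 1537))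
)) (.node (nat_lit 0x1014637716fdc) (.node (nat_lit 0x1014637716f9c) (.leaf (nat_lit 0x1014637714fdc) (nat_lit 1281))
 (.leaf (nat_lit 0x1014637716f9c) (nat_lit 1025))
) (.node (nat_lit 0x101463de14fba) (.leaf (nat_lit 0x1014637716fdc) (nat_lit 772))
 (.leaf (nat_lit 0x101463de14fba) (nat_lit 2051))
)))) (.node (nat_lit 0x101463f614f9c) (.node (nat_lit 0x101463df14fba) (.node (nat_lit 0x101463de16fba) (.leaf (nat_lit 0x101463de14ffa) (nat_lit 2050))
 (.node (nat_lit 0x101463de16ffa) (.leaf (nat_lit 0x101463de16fba) (nat_lit 2050))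
 (.leaf (nat_lit 0x101463de16ffa) (nat_lit 2051))
)) (.node (nat_lit 0x101463df16fba) (.node (nat_lit 0x101463df14ffa) (.leaf (nat_lit 0x101463df14fba) (nat_lit 2050))
 (.leaf (nat_lit 0x101463df14ffa) (nat_lit 1794))
) (.node (nat_lit 0x101463df16ffa) (.leaf (nat_lit 0x101463df16fba) (nat_lit 2052))
 (.leaf (nat_lit 0x101463df16ffa) (nat_lit 2050))
))) (.node (nat_lit 0x101463f714f9c) (.node (nat_lit 0x101463f616f9c) (.node (nat_lit 0x101463f614fdc) (.leaf (nat_lit 0x101463f614f9c) (nat_lit 1283))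
 (.leaf (nat_lit 0x101463f614fdc) (nat_lit 1284))
) (.node (nat_lit 0x101463f616fdc) (.leaf (nat_lit 0x101463f616f9c) (nat_lit 1027))
 (.leaf (nat_lit 0x101463f616fdc) (nat_lit 1280))
)) (.node (nat_lit 0x101463f716f9c) (.node (nat_lit 0x101463f714fdc) (.leaf (nat_lit 0x101463f714f9c) (nat_lit 1280))
 (.leaf (nat_lit 0x101463f714fdc) (nat_lit 1027))
) (.node (nat_lit 0x101463f716fdc) (.leaf (nat_lit 0x101463f716f9c) (nat_lit 772))
 (.leaf (nat_lit 0x101463f716fdc) (nat_lit 1024))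
))))))))))) (.node (nat_lit 0x102d106444114) (.node (nat_lit 0x1023cc02fd289) (.node (nat_lit 0x102362b8d8b27) (.node (nat_lit 0x10232bccd8f32) (.node (nat_lit 0x10230dcdd9632) (.node (nat_lit 0x10230cdddb2b3) (.node (nat_lit 0x10230c5ddb2f3) (.node (nat_lit 0x10230c03db2c9) (.node (nat_lit 0x10230c02db2c9) (.node (nat_lit 0x10230c02d92c9) (.leaf (nat_lit 0x10230c02d9289) (nat_lit 2052))
 (.node (nat_lit 0x10230c02db289) (.leaf (nat_lit 0x10230c02d92c9) (nat_lit 2052))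
 (.leaf (nat_lit 0x10230c02db289) (nat_lit 1796))
)) (.node (nat_lit 0x10230c03d92c9) (.node (nat_lit 0x10230c03d9289) (.leaf (nat_lit 0x10230c02db2c9) (nat_lit 2048))
 (.leaf (nat_lit 0x10230c03d9289) (nat_lit 2052))
) (.node (nat_lit 0x10230c03db289) (.leaf (nat_lit 0x10230c03d92c9) (nat_lit 2052))
 (.leaf (nat_lit 0x10230c03db289) (nat_lit 2050))
))) (.node (nat_lit 0x10230c5cdb2f3) (.node (nat_lit 0x10230c5cd92f3) (.node (nat_lit 0x10230c5cd92b3) (.leaf (nat_lit 0x10230c03db2c9) (nat_lit 2051))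
 (.leaf (nat_lit 0x10230c5cd92b3) (nat_lit 2048))
) (.node (nat_lit 0x10230c5cdb2b3) (.leaf (nat_lit 0x10230c5cd92f3) (nat_lit 1796))
 (.leaf (nat_lit 0x10230c5cdb2b3) (nat_lit 1793))
)) (.node (nat_lit 0x10230c5dd92f3) (.node (nat_lit 0x10230c5dd92b3) (.leaf (nat_lit 0x10230c5cdb2f3) (nat_lit 2052))
 (.leaf (nat_lit 0x10230c5dd92b3) (nat_lit 1796))
) (.node (nat_lit 0x10230c5ddb2b3) (.leaf (nat_lit 0x10230c5dd92f3) (nat_lit 1796))
 (.leaf (nat_lit 0x10230c5ddb2b3) (nat_lit 2052))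
)))) (.node (nat_lit 0x10230c83db289) (.node (nat_lit 0x10230c82db289) (.node (nat_lit 0x10230c82d9289) (.leaf (nat_lit 0x10230c5ddb2f3) (nat_lit 1793))
 (.node (nat_lit 0x10230c82d92c9) (.leaf (nat_lit 0x10230c82d9289) (nat_lit 2051))
 (.leaf (nat_lit 0x10230c82d92c9) (nat_lit 2052))
)) (.node (nat_lit 0x10230c83d9289) (.node (nat_lit 0x10230c82db2c9) (.leaf (nat_lit 0x10230c82db289) (nat_lit 2049))
 (.leaf (nat_lit 0x10230c82db2c9) (nat_lit 1796))
) (.node (nat_lit 0x10230c83d92c9) (.leaf (nat_lit 0x10230c83d9289) (nat_lit 2052))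
 (.leaf (nat_lit 0x10230c83d92c9) (nat_lit 2052))
))) (.node (nat_lit 0x10230cdcdb2b3) (.node (nat_lit 0x10230cdcd92b3) (.node (nat_lit 0x10230c83db2c9) (.leaf (nat_lit 0x10230c83db289) (nat_lit 2051))
 (.leaf (nat_lit 0x10230c83db2c9) (nat_lit 2051))
) (.node (nat_lit 0x10230cdcd92f3) (.leaf (nat_lit 0x10230cdcd92b3) (nat_lit 1796))
 (.leaf (nat_lit 0x10230cdcd92f3) (nat_lit 1796))
)) (.node (nat_lit 0x10230cddd92b3) (.node (nat_lit 0x10230cdcdb2f3) (.leaf (nat_lit 0x10230cdcdb2b3) (nat_lit 1540))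
 (.leaf (nat_lit 0x10230cdcdb2f3) (nat_lit 1792))
) (.node (nat_lit 0x10230cddd92f3) (.leaf (nat_lit 0x10230cddd92b3) (nat_lit 1796))
 (.leaf (nat_lit 0x10230cddd92f3) (nat_lit 1795))
))))) (.node (nat_lit 0x10230d4dd9672) (.node (nat_lit 0x10230d03d9649) (.node (nat_lit 0x10230d02d9649) (.node (nat_lit 0x10230cdddb2f3) (.leaf (nat_lit 0x10230cdddb2b3) (nat_lit 1796))
 (.node (nat_lit 0x10230d02d9609) (.leaf (nat_lit 0x10230cdddb2f3) (nat_lit 1540))
 (.leaf (nat_lit 0x10230d02d9609) (nat_lit 2052))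
)) (.node (nat_lit 0x10230d02db649) (.node (nat_lit 0x10230d02db609) (.leaf (nat_lit 0x10230d02d9649) (nat_lit 2052))
 (.leaf (nat_lit 0x10230d02db609) (nat_lit 2052))
) (.node (nat_lit 0x10230d03d9609) (.leaf (nat_lit 0x10230d02db649) (nat_lit 2052))
 (.leaf (nat_lit 0x10230d03d9609) (nat_lit 2052))
))) (.node (nat_lit 0x10230d4cd9672) (.node (nat_lit 0x10230d03db649) (.node (nat_lit 0x10230d03db609) (.leaf (nat_lit 0x10230d03d9649) (nat_lit 2052))
 (.leaf (nat_lit 0x10230d03db609) (nat_lit 2048))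
) (.node (nat_lit 0x10230d4cd9632) (.leaf (nat_lit 0x10230d03db649) (nat_lit 1796))
 (.leaf (nat_lit 0x10230d4cd9632) (nat_lit 1540))
)) (.node (nat_lit 0x10230d4cdb672) (.node (nat_lit 0x10230d4cdb632) (.leaf (nat_lit 0x10230d4cd9672) (nat_lit 1540))
 (.leaf (nat_lit 0x10230d4cdb632) (nat_lit 1540))
) (.node (nat_lit 0x10230d4dd9632) (.leaf (nat_lit 0x10230d4cdb672) (nat_lit 1540))
 (.leaf (nat_lit 0x10230d4dd9632) (nat_lit 1540))
)))) (.node (nat_lit 0x10230d83d9609) (.node (nat_lit 0x10230d82d9609) (.node (nat_lit 0x10230d4ddb632) (.leaf (nat_lit 0x10230d4dd9672) (nat_lit 1540))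
 (.node (nat_lit 0x10230d4ddb672) (.leaf (nat_lit 0x10230d4ddb632) (nat_lit 1796))
 (.leaf (nat_lit 0x10230d4ddb672) (nat_lit 1540))
)) (.node (nat_lit 0x10230d82db609) (.node (nat_lit 0x10230d82d9649) (.leaf (nat_lit 0x10230d82d9609) (nat_lit 2052))
 (.leaf (nat_lit 0x10230d82d9649) (nat_lit 2308))
) (.node (nat_lit 0x10230d82db649) (.leaf (nat_lit 0x10230d82db609) (nat_lit 2304))
 (.leaf (nat_lit 0x10230d82db649) (nat_lit 2052))
))) (.node (nat_lit 0x10230dccd9632) (.node (nat_lit 0x10230d83db609) (.node (nat_lit 0x10230d83d9649) (.leaf (nat_lit 0x10230d83d9609) (nat_lit 2052))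
 (.leaf (nat_lit 0x10230d83d9649) (nat_lit 2050))
) (.node (nat_lit 0x10230d83db649) (.leaf (nat_lit 0x10230d83db609) (nat_lit 2052))
 (.leaf (nat_lit 0x10230d83db649) (nat_lit 2049))
)) (.node (nat_lit 0x10230dccdb632) (.node (nat_lit 0x10230dccd9672) (.leaf (nat_lit 0x10230dccd9632) (nat_lit 1793))
 (.leaf (nat_lit 0x10230dccd9672) (nat_lit 1540))
) (.node (nat_lit 0x10230dccdb672) (.leaf (nat_lit 0x10230dccdb632) (nat_lit 1539))
 (.leaf (nat_lit 0x10230dccdb672) (nat_lit 1796))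
)))))) (.node (nat_lit 0x102322dcdab33) (.node (nat_lit 0x1023225cdab73) (.node (nat_lit 0x10232238dab67) (.node (nat_lit 0x10230dcddb672) (.node (nat_lit 0x10230dcdd9672) (.leaf (nat_lit 0x10230dcdd9632) (nat_lit 1536))
 (.node (nat_lit 0x10230dcddb632) (.leaf (nat_lit 0x10230dcdd9672) (nat_lit 1284))
 (.leaf (nat_lit 0x10230dcddb632) (nat_lit 1796))
)) (.node (nat_lit 0x10232238d8b67) (.node (nat_lit 0x10232238d8b27) (.leaf (nat_lit 0x10230dcddb672) (nat_lit 1796))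
 (.leaf (nat_lit 0x10232238d8b27) (nat_lit 2051))
) (.node (nat_lit 0x10232238dab27) (.leaf (nat_lit 0x10232238d8b67) (nat_lit 2050))
 (.leaf (nat_lit 0x10232238dab27) (nat_lit 1795))
))) (.node (nat_lit 0x10232239dab67) (.node (nat_lit 0x10232239d8b67) (.node (nat_lit 0x10232239d8b27) (.leaf (nat_lit 0x10232238dab67) (nat_lit 2051))
 (.leaf (nat_lit 0x10232239d8b27) (nat_lit 2051))
) (.node (nat_lit 0x10232239dab27) (.leaf (nat_lit 0x10232239d8b67) (nat_lit 1795))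
 (.leaf (nat_lit 0x10232239dab27) (nat_lit 1795))
)) (.node (nat_lit 0x1023225cd8b73) (.node (nat_lit 0x1023225cd8b33) (.leaf (nat_lit 0x10232239dab67) (nat_lit 2051))
 (.leaf (nat_lit 0x1023225cd8b33) (nat_lit 2306))
) (.node (nat_lit 0x1023225cdab33) (.leaf (nat_lit 0x1023225cd8b73) (nat_lit 2050))
 (.leaf (nat_lit 0x1023225cdab33) (nat_lit 2308))
)))) (.node (nat_lit 0x102322b8dab27) (.node (nat_lit 0x1023225ddab33) (.node (nat_lit 0x1023225dd8b33) (.leaf (nat_lit 0x1023225cdab73) (nat_lit 2052))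
 (.node (nat_lit 0x1023225dd8b73) (.leaf (nat_lit 0x1023225dd8b33) (nat_lit 2052))
 (.leaf (nat_lit 0x1023225dd8b73) (nat_lit 2308))
)) (.node (nat_lit 0x102322b8d8b27) (.node (nat_lit 0x1023225ddab73) (.leaf (nat_lit 0x1023225ddab33) (nat_lit 2050))
 (.leaf (nat_lit 0x1023225ddab73) (nat_lit 2050))
) (.node (nat_lit 0x102322b8d8b67) (.leaf (nat_lit 0x102322b8d8b27) (nat_lit 2050))
 (.leaf (nat_lit 0x102322b8d8b67) (nat_lit 2050))
))) (.node (nat_lit 0x102322b9dab27) (.node (nat_lit 0x102322b9d8b27) (.node (nat_lit 0x102322b8dab67) (.leaf (nat_lit 0x102322b8dab27) (nat_lit 1794))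
 (.leaf (nat_lit 0x102322b8dab67) (nat_lit 1794))
) (.node (nat_lit 0x102322b9d8b67) (.leaf (nat_lit 0x102322b9d8b27) (nat_lit 1794))
 (.leaf (nat_lit 0x102322b9d8b67) (nat_lit 2050))
)) (.node (nat_lit 0x102322dcd8b33) (.node (nat_lit 0x102322b9dab67) (.leaf (nat_lit 0x102322b9dab27) (nat_lit 2051))
 (.leaf (nat_lit 0x102322b9dab67) (nat_lit 2050))
) (.node (nat_lit 0x102322dcd8b73) (.leaf (nat_lit 0x102322dcd8b33) (nat_lit 2050))
 (.leaf (nat_lit 0x102322dcd8b73) (nat_lit 1794))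
))))) (.node (nat_lit 0x10232b4cd8f72) (.node (nat_lit 0x10232b2ad8f6f) (.node (nat_lit 0x102322ddd8b73) (.node (nat_lit 0x102322dcdab73) (.leaf (nat_lit 0x102322dcdab33) (nat_lit 2050))
 (.node (nat_lit 0x102322ddd8b33) (.leaf (nat_lit 0x102322dcdab73) (nat_lit 2051))
 (.leaf (nat_lit 0x102322ddd8b33) (nat_lit 2050))
)) (.node (nat_lit 0x102322dddab73) (.node (nat_lit 0x102322dddab33) (.leaf (nat_lit 0x102322ddd8b73) (nat_lit 2050))
 (.leaf (nat_lit 0x102322dddab33) (nat_lit 1794))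
) (.node (nat_lit 0x10232b2ad8f2f) (.leaf (nat_lit 0x102322dddab73) (nat_lit 2050))
 (.leaf (nat_lit 0x10232b2ad8f2f) (nat_lit 1281))
))) (.node (nat_lit 0x10232b2bd8f6f) (.node (nat_lit 0x10232b2adaf6f) (.node (nat_lit 0x10232b2adaf2f) (.leaf (nat_lit 0x10232b2ad8f6f) (nat_lit 1537))
 (.leaf (nat_lit 0x10232b2adaf2f) (nat_lit 1538))
) (.node (nat_lit 0x10232b2bd8f2f) (.leaf (nat_lit 0x10232b2adaf6f) (nat_lit 1538))
 (.leaf (nat_lit 0x10232b2bd8f2f) (nat_lit 1538))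
)) (.node (nat_lit 0x10232b2bdaf6f) (.node (nat_lit 0x10232b2bdaf2f) (.leaf (nat_lit 0x10232b2bd8f6f) (nat_lit 1537))
 (.leaf (nat_lit 0x10232b2bdaf2f) (nat_lit 1794))
) (.node (nat_lit 0x10232b4cd8f32) (.leaf (nat_lit 0x10232b2bdaf6f) (nat_lit 1794))
 (.leaf (nat_lit 0x10232b4cd8f32) (nat_lit 1794))
)))) (.node (nat_lit 0x10232baad8f2f) (.node (nat_lit 0x10232b4dd8f32) (.node (nat_lit 0x10232b4cdaf32) (.leaf (nat_lit 0x10232b4cd8f72) (nat_lit 1794))
 (.node (nat_lit 0x10232b4cdaf72) (.leaf (nat_lit 0x10232b4cdaf32) (nat_lit 1792))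
 (.leaf (nat_lit 0x10232b4cdaf72) (nat_lit 1538))
)) (.node (nat_lit 0x10232b4ddaf32) (.node (nat_lit 0x10232b4dd8f72) (.leaf (nat_lit 0x10232b4dd8f32) (nat_lit 1538))
 (.leaf (nat_lit 0x10232b4dd8f72) (nat_lit 1538))
) (.node (nat_lit 0x10232b4ddaf72) (.leaf (nat_lit 0x10232b4ddaf32) (nat_lit 1794))
 (.leaf (nat_lit 0x10232b4ddaf72) (nat_lit 1794))
))) (.node (nat_lit 0x10232babd8f2f) (.node (nat_lit 0x10232baadaf2f) (.node (nat_lit 0x10232baad8f6f) (.leaf (nat_lit 0x10232baad8f2f) (nat_lit 1026))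
 (.leaf (nat_lit 0x10232baad8f6f) (nat_lit 1280))
) (.node (nat_lit 0x10232baadaf6f) (.leaf (nat_lit 0x10232baadaf2f) (nat_lit 1536))
 (.leaf (nat_lit 0x10232baadaf6f) (nat_lit 1282))
)) (.node (nat_lit 0x10232babdaf2f) (.node (nat_lit 0x10232babd8f6f) (.leaf (nat_lit 0x10232babd8f2f) (nat_lit 1536))
 (.leaf (nat_lit 0x10232babd8f6f) (nat_lit 1282))
) (.node (nat_lit 0x10232babdaf6f) (.leaf (nat_lit 0x10232babdaf2f) (nat_lit 1538))
 (.leaf (nat_lit 0x10232babdaf6f) (nat_lit 1538))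
))))))) (.node (nat_lit 0x10234c83d9289) (.node (nat_lit 0x10233eabdb8af) (.node (nat_lit 0x10233e2bdb8ef) (.node (nat_lit 0x10232bcddaf72) (.node (nat_lit 0x10232bccdaf72) (.node (nat_lit 0x10232bccd8f72) (.leaf (nat_lit 0x10232bccd8f32) (nat_lit 1794))
 (.node (nat_lit 0x10232bccdaf32) (.leaf (nat_lit 0x10232bccd8f72) (nat_lit 2050))
 (.leaf (nat_lit 0x10232bccdaf32) (nat_lit 1792))
)) (.node (nat_lit 0x10232bcdd8f72) (.node (nat_lit 0x10232bcdd8f32) (.leaf (nat_lit 0x10232bccdaf72) (nat_lit 1538))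
 (.leaf (nat_lit 0x10232bcdd8f32) (nat_lit 1793))
) (.node (nat_lit 0x10232bcddaf32) (.leaf (nat_lit 0x10232bcdd8f72) (nat_lit 1793))
 (.leaf (nat_lit 0x10232bcddaf32) (nat_lit 1795))
))) (.node (nat_lit 0x10233e2adb8ef) (.node (nat_lit 0x10233e2ad98ef) (.node (nat_lit 0x10233e2ad98af) (.leaf (nat_lit 0x10232bcddaf72) (nat_lit 1794))
 (.leaf (nat_lit 0x10233e2ad98af) (nat_lit 1284))
) (.node (nat_lit 0x10233e2adb8af) (.leaf (nat_lit 0x10233e2ad98ef) (nat_lit 1540))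
 (.leaf (nat_lit 0x10233e2adb8af) (nat_lit 1540))
)) (.node (nat_lit 0x10233e2bd98ef) (.node (nat_lit 0x10233e2bd98af) (.leaf (nat_lit 0x10233e2adb8ef) (nat_lit 1281))
 (.leaf (nat_lit 0x10233e2bd98af) (nat_lit 1025))
) (.node (nat_lit 0x10233e2bdb8af) (.leaf (nat_lit 0x10233e2bd98ef) (nat_lit 1281))
 (.leaf (nat_lit 0x10233e2bdb8af) (nat_lit 1280))
)))) (.node (nat_lit 0x10233e39db8a7) (.node (nat_lit 0x10233e38db8a7) (.node (nat_lit 0x10233e38d98a7) (.leaf (nat_lit 0x10233e2bdb8ef) (nat_lit 1028))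
 (.node (nat_lit 0x10233e38d98e7) (.leaf (nat_lit 0x10233e38d98a7) (nat_lit 1796))
 (.leaf (nat_lit 0x10233e38d98e7) (nat_lit 1796))
)) (.node (nat_lit 0x10233e39d98a7) (.node (nat_lit 0x10233e38db8e7) (.leaf (nat_lit 0x10233e38db8a7) (nat_lit 1796))
 (.leaf (nat_lit 0x10233e38db8e7) (nat_lit 1796))
) (.node (nat_lit 0x10233e39d98e7) (.leaf (nat_lit 0x10233e39d98a7) (nat_lit 2048))
 (.leaf (nat_lit 0x10233e39d98e7) (nat_lit 1796))
))) (.node (nat_lit 0x10233eaadb8af) (.node (nat_lit 0x10233eaad98af) (.node (nat_lit 0x10233e39db8e7) (.leaf (nat_lit 0x10233e39db8a7) (nat_lit 1540))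
 (.leaf (nat_lit 0x10233e39db8e7) (nat_lit 1792))
) (.node (nat_lit 0x10233eaad98ef) (.leaf (nat_lit 0x10233eaad98af) (nat_lit 1537))
 (.leaf (nat_lit 0x10233eaad98ef) (nat_lit 1284))
)) (.node (nat_lit 0x10233eabd98af) (.node (nat_lit 0x10233eaadb8ef) (.leaf (nat_lit 0x10233eaadb8af) (nat_lit 1284))
 (.leaf (nat_lit 0x10233eaadb8ef) (nat_lit 1028))
) (.node (nat_lit 0x10233eabd98ef) (.leaf (nat_lit 0x10233eabd98af) (nat_lit 772))
 (.leaf (nat_lit 0x10233eabd98ef) (nat_lit 1024))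
))))) (.node (nat_lit 0x10234c03d92c9) (.node (nat_lit 0x10233eb9d98e7) (.node (nat_lit 0x10233eb8d98e7) (.node (nat_lit 0x10233eabdb8ef) (.leaf (nat_lit 0x10233eabdb8af) (nat_lit 1537))
 (.node (nat_lit 0x10233eb8d98a7) (.leaf (nat_lit 0x10233eabdb8ef) (nat_lit 1281))
 (.leaf (nat_lit 0x10233eb8d98a7) (nat_lit 1540))
)) (.node (nat_lit 0x10233eb8db8e7) (.node (nat_lit 0x10233eb8db8a7) (.leaf (nat_lit 0x10233eb8d98e7) (nat_lit 1792))
 (.leaf (nat_lit 0x10233eb8db8a7) (nat_lit 1796))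
) (.node (nat_lit 0x10233eb9d98a7) (.leaf (nat_lit 0x10233eb8db8e7) (nat_lit 1796))
 (.leaf (nat_lit 0x10233eb9d98a7) (nat_lit 1792))
))) (.node (nat_lit 0x10234c02d92c9) (.node (nat_lit 0x10233eb9db8e7) (.node (nat_lit 0x10233eb9db8a7) (.leaf (nat_lit 0x10233eb9d98e7) (nat_lit 1540))
 (.leaf (nat_lit 0x10233eb9db8a7) (nat_lit 1540))
) (.node (nat_lit 0x10234c02d9289) (.leaf (nat_lit 0x10233eb9db8e7) (nat_lit 1796))
 (.leaf (nat_lit 0x10234c02d9289) (nat_lit 2051))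
)) (.node (nat_lit 0x10234c02db2c9) (.node (nat_lit 0x10234c02db289) (.leaf (nat_lit 0x10234c02d92c9) (nat_lit 2051))
 (.leaf (nat_lit 0x10234c02db289) (nat_lit 2308))
) (.node (nat_lit 0x10234c03d9289) (.leaf (nat_lit 0x10234c02db2c9) (nat_lit 2052))
 (.leaf (nat_lit 0x10234c03d9289) (nat_lit 2308))
)))) (.node (nat_lit 0x10234c5dd92b3) (.node (nat_lit 0x10234c5cd92b3) (.node (nat_lit 0x10234c03db289) (.leaf (nat_lit 0x10234c03d92c9) (nat_lit 2052))
 (.node (nat_lit 0x10234c03db2c9) (.leaf (nat_lit 0x10234c03db289) (nat_lit 1795))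
 (.leaf (nat_lit 0x10234c03db2c9) (nat_lit 2052))
)) (.node (nat_lit 0x10234c5cdb2b3) (.node (nat_lit 0x10234c5cd92f3) (.leaf (nat_lit 0x10234c5cd92b3) (nat_lit 2052))
 (.leaf (nat_lit 0x10234c5cd92f3) (nat_lit 1793))
) (.node (nat_lit 0x10234c5cdb2f3) (.leaf (nat_lit 0x10234c5cdb2b3) (nat_lit 1796))
 (.leaf (nat_lit 0x10234c5cdb2f3) (nat_lit 2048))
))) (.node (nat_lit 0x10234c82d9289) (.node (nat_lit 0x10234c5ddb2b3) (.node (nat_lit 0x10234c5dd92f3) (.leaf (nat_lit 0x10234c5dd92b3) (nat_lit 2052))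
 (.leaf (nat_lit 0x10234c5dd92f3) (nat_lit 2051))
) (.node (nat_lit 0x10234c5ddb2f3) (.leaf (nat_lit 0x10234c5ddb2b3) (nat_lit 2052))
 (.leaf (nat_lit 0x10234c5ddb2f3) (nat_lit 1796))
)) (.node (nat_lit 0x10234c82db289) (.node (nat_lit 0x10234c82d92c9) (.leaf (nat_lit 0x10234c82d9289) (nat_lit 2308))
 (.leaf (nat_lit 0x10234c82d92c9) (nat_lit 2052))
) (.node (nat_lit 0x10234c82db2c9) (.leaf (nat_lit 0x10234c82db289) (nat_lit 2052))
 (.leaf (nat_lit 0x10234c82db2c9) (nat_lit 2052))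
)))))) (.node (nat_lit 0x10234d82db609) (.node (nat_lit 0x10234d02db649) (.node (nat_lit 0x10234cdcdb2f3) (.node (nat_lit 0x10234c83db2c9) (.node (nat_lit 0x10234c83d92c9) (.leaf (nat_lit 0x10234c83d9289) (nat_lit 2052))
 (.node (nat_lit 0x10234c83db289) (.leaf (nat_lit 0x10234c83d92c9) (nat_lit 2051))
 (.leaf (nat_lit 0x10234c83db289) (nat_lit 2049))
)) (.node (nat_lit 0x10234cdcd92f3) (.node (nat_lit 0x10234cdcd92b3) (.leaf (nat_lit 0x10234c83db2c9) (nat_lit 2307))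
 (.leaf (nat_lit 0x10234cdcd92b3) (nat_lit 1792))
) (.node (nat_lit 0x10234cdcdb2b3) (.leaf (nat_lit 0x10234cdcd92f3) (nat_lit 1540))
 (.leaf (nat_lit 0x10234cdcdb2b3) (nat_lit 1796))
))) (.node (nat_lit 0x10234cdddb2f3) (.node (nat_lit 0x10234cddd92f3) (.node (nat_lit 0x10234cddd92b3) (.leaf (nat_lit 0x10234cdcdb2f3) (nat_lit 1796))
 (.leaf (nat_lit 0x10234cddd92b3) (nat_lit 2052))
) (.node (nat_lit 0x10234cdddb2b3) (.leaf (nat_lit 0x10234cddd92f3) (nat_lit 1796))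
 (.leaf (nat_lit 0x10234cdddb2b3) (nat_lit 1796))
)) (.node (nat_lit 0x10234d02d9649) (.node (nat_lit 0x10234d02d9609) (.leaf (nat_lit 0x10234cdddb2f3) (nat_lit 2049))
 (.leaf (nat_lit 0x10234d02d9609) (nat_lit 2052))
) (.node (nat_lit 0x10234d02db609) (.leaf (nat_lit 0x10234d02d9649) (nat_lit 1796))
 (.leaf (nat_lit 0x10234d02db609) (nat_lit 1796))
)))) (.node (nat_lit 0x10234d4cdb632) (.node (nat_lit 0x10234d03db609) (.node (nat_lit 0x10234d03d9609) (.leaf (nat_lit 0x10234d02db649) (nat_lit 2048))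
 (.node (nat_lit 0x10234d03d9649) (.leaf (nat_lit 0x10234d03d9609) (nat_lit 2052))
 (.leaf (nat_lit 0x10234d03d9649) (nat_lit 2052))
)) (.node (nat_lit 0x10234d4cd9632) (.node (nat_lit 0x10234d03db649) (.leaf (nat_lit 0x10234d03db609) (nat_lit 2050))
 (.leaf (nat_lit 0x10234d03db649) (nat_lit 1796))
) (.node (nat_lit 0x10234d4cd9672) (.leaf (nat_lit 0x10234d4cd9632) (nat_lit 1284))
 (.leaf (nat_lit 0x10234d4cd9672) (nat_lit 1536))
))) (.node (nat_lit 0x10234d4ddb632) (.node (nat_lit 0x10234d4dd9632) (.node (nat_lit 0x10234d4cdb672) (.leaf (nat_lit 0x10234d4cdb632) (nat_lit 1536))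
 (.leaf (nat_lit 0x10234d4cdb672) (nat_lit 1284))
) (.node (nat_lit 0x10234d4dd9672) (.leaf (nat_lit 0x10234d4dd9632) (nat_lit 1540))
 (.leaf (nat_lit 0x10234d4dd9672) (nat_lit 1284))
)) (.node (nat_lit 0x10234d82d9609) (.node (nat_lit 0x10234d4ddb672) (.leaf (nat_lit 0x10234d4ddb632) (nat_lit 1796))
 (.leaf (nat_lit 0x10234d4ddb672) (nat_lit 1540))
) (.node (nat_lit 0x10234d82d9649) (.leaf (nat_lit 0x10234d82d9609) (nat_lit 2052))
 (.leaf (nat_lit 0x10234d82d9649) (nat_lit 2052))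
))))) (.node (nat_lit 0x10236238d8b67) (.node (nat_lit 0x10234dccd9672) (.node (nat_lit 0x10234d83d9649) (.node (nat_lit 0x10234d82db649) (.leaf (nat_lit 0x10234d82db609) (nat_lit 2052))
 (.node (nat_lit 0x10234d83d9609) (.leaf (nat_lit 0x10234d82db649) (nat_lit 2308))
 (.leaf (nat_lit 0x10234d83d9609) (nat_lit 2052))
)) (.node (nat_lit 0x10234d83db649) (.node (nat_lit 0x10234d83db609) (.leaf (nat_lit 0x10234d83d9649) (nat_lit 2052))
 (.leaf (nat_lit 0x10234d83db609) (nat_lit 2052))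
) (.node (nat_lit 0x10234dccd9632) (.leaf (nat_lit 0x10234d83db649) (nat_lit 2051))
 (.leaf (nat_lit 0x10234dccd9632) (nat_lit 1537))
))) (.node (nat_lit 0x10234dcdd9672) (.node (nat_lit 0x10234dccdb672) (.node (nat_lit 0x10234dccdb632) (.leaf (nat_lit 0x10234dccd9672) (nat_lit 1796))
 (.leaf (nat_lit 0x10234dccdb632) (nat_lit 1540))
) (.node (nat_lit 0x10234dcdd9632) (.leaf (nat_lit 0x10234dccdb672) (nat_lit 1540))
 (.leaf (nat_lit 0x10234dcdd9632) (nat_lit 1540))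
)) (.node (nat_lit 0x10234dcddb672) (.node (nat_lit 0x10234dcddb632) (.leaf (nat_lit 0x10234dcdd9672) (nat_lit 1540))
 (.leaf (nat_lit 0x10234dcddb632) (nat_lit 1792))
) (.node (nat_lit 0x10236238d8b27) (.leaf (nat_lit 0x10234dcddb672) (nat_lit 1540))
 (.leaf (nat_lit 0x10236238d8b27) (nat_lit 2051))
)))) (.node (nat_lit 0x1023625cd8b33) (.node (nat_lit 0x10236239d8b27) (.node (nat_lit 0x10236238dab27) (.leaf (nat_lit 0x10236238d8b67) (nat_lit 2050))
 (.node (nat_lit 0x10236238dab67) (.leaf (nat_lit 0x10236238dab27) (nat_lit 1794))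
 (.leaf (nat_lit 0x10236238dab67) (nat_lit 2050))
)) (.node (nat_lit 0x10236239dab27) (.node (nat_lit 0x10236239d8b67) (.leaf (nat_lit 0x10236239d8b27) (nat_lit 2050))
 (.leaf (nat_lit 0x10236239d8b67) (nat_lit 2050))
) (.node (nat_lit 0x10236239dab67) (.leaf (nat_lit 0x10236239dab27) (nat_lit 2050))
 (.leaf (nat_lit 0x10236239dab67) (nat_lit 2050))
))) (.node (nat_lit 0x1023625dd8b33) (.node (nat_lit 0x1023625cdab33) (.node (nat_lit 0x1023625cd8b73) (.leaf (nat_lit 0x1023625cd8b33) (nat_lit 2050))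
 (.leaf (nat_lit 0x1023625cd8b73) (nat_lit 2050))
) (.node (nat_lit 0x1023625cdab73) (.leaf (nat_lit 0x1023625cdab33) (nat_lit 2052))
 (.leaf (nat_lit 0x1023625cdab73) (nat_lit 2050))
)) (.node (nat_lit 0x1023625ddab33) (.node (nat_lit 0x1023625dd8b73) (.leaf (nat_lit 0x1023625dd8b33) (nat_lit 2052))
 (.leaf (nat_lit 0x1023625dd8b73) (nat_lit 2052))
) (.node (nat_lit 0x1023625ddab73) (.leaf (nat_lit 0x1023625ddab33) (nat_lit 1796))
 (.leaf (nat_lit 0x1023625ddab73) (nat_lit 2052))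
)))))))) (.node (nat_lit 0x10238d4efd63b) (.node (nat_lit 0x10237e39d98a7) (.node (nat_lit 0x10236b4ddaf32) (.node (nat_lit 0x102362dddab73) (.node (nat_lit 0x102362b9dab67) (.node (nat_lit 0x102362b8dab67) (.node (nat_lit 0x102362b8d8b67) (.leaf (nat_lit 0x102362b8d8b27) (nat_lit 2050))
 (.node (nat_lit 0x102362b8dab27) (.leaf (nat_lit 0x102362b8d8b67) (nat_lit 2050))
 (.leaf (nat_lit 0x102362b8dab27) (nat_lit 2050))
)) (.node (nat_lit 0x102362b9d8b67) (.node (nat_lit 0x102362b9d8b27) (.leaf (nat_lit 0x102362b8dab67) (nat_lit 2051))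
 (.leaf (nat_lit 0x102362b9d8b27) (nat_lit 2051))
) (.node (nat_lit 0x102362b9dab27) (.leaf (nat_lit 0x102362b9d8b67) (nat_lit 2051))
 (.leaf (nat_lit 0x102362b9dab27) (nat_lit 2050))
))) (.node (nat_lit 0x102362dcdab73) (.node (nat_lit 0x102362dcd8b73) (.node (nat_lit 0x102362dcd8b33) (.leaf (nat_lit 0x102362b9dab67) (nat_lit 2050))
 (.leaf (nat_lit 0x102362dcd8b33) (nat_lit 2308))
) (.node (nat_lit 0x102362dcdab33) (.leaf (nat_lit 0x102362dcd8b73) (nat_lit 2052))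
 (.leaf (nat_lit 0x102362dcdab33) (nat_lit 2050))
)) (.node (nat_lit 0x102362ddd8b73) (.node (nat_lit 0x102362ddd8b33) (.leaf (nat_lit 0x102362dcdab73) (nat_lit 2050))
 (.leaf (nat_lit 0x102362ddd8b33) (nat_lit 2050))
) (.node (nat_lit 0x102362dddab33) (.leaf (nat_lit 0x102362ddd8b73) (nat_lit 2050))
 (.leaf (nat_lit 0x102362dddab33) (nat_lit 2050))
)))) (.node (nat_lit 0x10236b2bdaf2f) (.node (nat_lit 0x10236b2adaf2f) (.node (nat_lit 0x10236b2ad8f2f) (.leaf (nat_lit 0x102362dddab73) (nat_lit 1794))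
 (.node (nat_lit 0x10236b2ad8f6f) (.leaf (nat_lit 0x10236b2ad8f2f) (nat_lit 1282))
 (.leaf (nat_lit 0x10236b2ad8f6f) (nat_lit 1282))
)) (.node (nat_lit 0x10236b2bd8f2f) (.node (nat_lit 0x10236b2adaf6f) (.leaf (nat_lit 0x10236b2adaf2f) (nat_lit 1538))
 (.leaf (nat_lit 0x10236b2adaf6f) (nat_lit 1537))
) (.node (nat_lit 0x10236b2bd8f6f) (.leaf (nat_lit 0x10236b2bd8f2f) (nat_lit 1538))
 (.leaf (nat_lit 0x10236b2bd8f6f) (nat_lit 1538))
))) (.node (nat_lit 0x10236b4cdaf32) (.node (nat_lit 0x10236b4cd8f32) (.node (nat_lit 0x10236b2bdaf6f) (.leaf (nat_lit 0x10236b2bdaf2f) (nat_lit 1794))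
 (.leaf (nat_lit 0x10236b2bdaf6f) (nat_lit 1794))
) (.node (nat_lit 0x10236b4cd8f72) (.leaf (nat_lit 0x10236b4cd8f32) (nat_lit 1794))
 (.leaf (nat_lit 0x10236b4cd8f72) (nat_lit 1794))
)) (.node (nat_lit 0x10236b4dd8f32) (.node (nat_lit 0x10236b4cdaf72) (.leaf (nat_lit 0x10236b4cdaf32) (nat_lit 2048))
 (.leaf (nat_lit 0x10236b4cdaf72) (nat_lit 1794))
) (.node (nat_lit 0x10236b4dd8f72) (.leaf (nat_lit 0x10236b4dd8f32) (nat_lit 1794))
 (.leaf (nat_lit 0x10236b4dd8f72) (nat_lit 1794))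
))))) (.node (nat_lit 0x10236bcdd8f72) (.node (nat_lit 0x10236babd8f6f) (.node (nat_lit 0x10236baad8f6f) (.node (nat_lit 0x10236b4ddaf72) (.leaf (nat_lit 0x10236b4ddaf32) (nat_lit 1794))
 (.node (nat_lit 0x10236baad8f2f) (.leaf (nat_lit 0x10236b4ddaf72) (nat_lit 1794))
 (.leaf (nat_lit 0x10236baad8f2f) (nat_lit 1538))
)) (.node (nat_lit 0x10236baadaf6f) (.node (nat_lit 0x10236baadaf2f) (.leaf (nat_lit 0x10236baad8f6f) (nat_lit 1537))
 (.leaf (nat_lit 0x10236baadaf2f) (nat_lit 1536))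
) (.node (nat_lit 0x10236babd8f2f) (.leaf (nat_lit 0x10236baadaf6f) (nat_lit 1282))
 (.leaf (nat_lit 0x10236babd8f2f) (nat_lit 1536))
))) (.node (nat_lit 0x10236bccd8f72) (.node (nat_lit 0x10236babdaf6f) (.node (nat_lit 0x10236babdaf2f) (.leaf (nat_lit 0x10236babd8f6f) (nat_lit 1282))
 (.leaf (nat_lit 0x10236babdaf2f) (nat_lit 1538))
) (.node (nat_lit 0x10236bccd8f32) (.leaf (nat_lit 0x10236babdaf6f) (nat_lit 1792))
 (.leaf (nat_lit 0x10236bccd8f32) (nat_lit 1794))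
)) (.node (nat_lit 0x10236bccdaf72) (.node (nat_lit 0x10236bccdaf32) (.leaf (nat_lit 0x10236bccd8f72) (nat_lit 1794))
 (.leaf (nat_lit 0x10236bccdaf32) (nat_lit 2048))
) (.node (nat_lit 0x10236bcdd8f32) (.leaf (nat_lit 0x10236bccdaf72) (nat_lit 1794))
 (.leaf (nat_lit 0x10236bcdd8f32) (nat_lit 1794))
)))) (.node (nat_lit 0x10237e2bd98af) (.node (nat_lit 0x10237e2ad98af) (.node (nat_lit 0x10236bcddaf32) (.leaf (nat_lit 0x10236bcdd8f72) (nat_lit 1794))
 (.node (nat_lit 0x10236bcddaf72) (.leaf (nat_lit 0x10236bcddaf32) (nat_lit 1796))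
 (.leaf (nat_lit 0x10236bcddaf72) (nat_lit 2050))
)) (.node (nat_lit 0x10237e2adb8af) (.node (nat_lit 0x10237e2ad98ef) (.leaf (nat_lit 0x10237e2ad98af) (nat_lit 1284))
 (.leaf (nat_lit 0x10237e2ad98ef) (nat_lit 1540))
) (.node (nat_lit 0x10237e2adb8ef) (.leaf (nat_lit 0x10237e2adb8af) (nat_lit 1537))
 (.leaf (nat_lit 0x10237e2adb8ef) (nat_lit 1281))
))) (.node (nat_lit 0x10237e38d98a7) (.node (nat_lit 0x10237e2bdb8af) (.node (nat_lit 0x10237e2bd98ef) (.leaf (nat_lit 0x10237e2bd98af) (nat_lit 1537))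
 (.leaf (nat_lit 0x10237e2bd98ef) (nat_lit 1281))
) (.node (nat_lit 0x10237e2bdb8ef) (.leaf (nat_lit 0x10237e2bdb8af) (nat_lit 1284))
 (.leaf (nat_lit 0x10237e2bdb8ef) (nat_lit 1536))
)) (.node (nat_lit 0x10237e38db8a7) (.node (nat_lit 0x10237e38d98e7) (.leaf (nat_lit 0x10237e38d98a7) (nat_lit 1796))
 (.leaf (nat_lit 0x10237e38d98e7) (nat_lit 1796))
) (.node (nat_lit 0x10237e38db8e7) (.leaf (nat_lit 0x10237e38db8a7) (nat_lit 2052))
 (.leaf (nat_lit 0x10237e38db8e7) (nat_lit 2052))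
)))))) (.node (nat_lit 0x10238c5eff2ba) (.node (nat_lit 0x10237eb8db8e7) (.node (nat_lit 0x10237eaadb8ef) (.node (nat_lit 0x10237e39db8e7) (.node (nat_lit 0x10237e39d98e7) (.leaf (nat_lit 0x10237e39d98a7) (nat_lit 2052))
 (.node (nat_lit 0x10237e39db8a7) (.leaf (nat_lit 0x10237e39d98e7) (nat_lit 1796))
 (.leaf (nat_lit 0x10237e39db8a7) (nat_lit 1796))
)) (.node (nat_lit 0x10237eaad98ef) (.node (nat_lit 0x10237eaad98af) (.leaf (nat_lit 0x10237e39db8e7) (nat_lit 1796))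
 (.leaf (nat_lit 0x10237eaad98af) (nat_lit 1537))
) (.node (nat_lit 0x10237eaadb8af) (.leaf (nat_lit 0x10237eaad98ef) (nat_lit 1793))
 (.leaf (nat_lit 0x10237eaadb8af) (nat_lit 1284))
))) (.node (nat_lit 0x10237eabdb8ef) (.node (nat_lit 0x10237eabd98ef) (.node (nat_lit 0x10237eabd98af) (.leaf (nat_lit 0x10237eaadb8ef) (nat_lit 1028))
 (.leaf (nat_lit 0x10237eabd98af) (nat_lit 1280))
) (.node (nat_lit 0x10237eabdb8af) (.leaf (nat_lit 0x10237eabd98ef) (nat_lit 1028))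
 (.leaf (nat_lit 0x10237eabdb8af) (nat_lit 1537))
)) (.node (nat_lit 0x10237eb8d98e7) (.node (nat_lit 0x10237eb8d98a7) (.leaf (nat_lit 0x10237eabdb8ef) (nat_lit 1793))
 (.leaf (nat_lit 0x10237eb8d98a7) (nat_lit 2052))
) (.node (nat_lit 0x10237eb8db8a7) (.leaf (nat_lit 0x10237eb8d98e7) (nat_lit 1796))
 (.leaf (nat_lit 0x10237eb8db8a7) (nat_lit 1796))
)))) (.node (nat_lit 0x10238c02ff289) (.node (nat_lit 0x10237eb9db8a7) (.node (nat_lit 0x10237eb9d98a7) (.leaf (nat_lit 0x10237eb8db8e7) (nat_lit 2052))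
 (.node (nat_lit 0x10237eb9d98e7) (.leaf (nat_lit 0x10237eb9d98a7) (nat_lit 1796))
 (.leaf (nat_lit 0x10237eb9d98e7) (nat_lit 2052))
)) (.node (nat_lit 0x10238c02fd289) (.node (nat_lit 0x10237eb9db8e7) (.leaf (nat_lit 0x10237eb9db8a7) (nat_lit 1796))
 (.leaf (nat_lit 0x10237eb9db8e7) (nat_lit 1796))
) (.node (nat_lit 0x10238c02fd2c9) (.leaf (nat_lit 0x10238c02fd289) (nat_lit 2052))
 (.leaf (nat_lit 0x10238c02fd2c9) (nat_lit 2052))
))) (.node (nat_lit 0x10238c03ff289) (.node (nat_lit 0x10238c03fd289) (.node (nat_lit 0x10238c02ff2c9) (.leaf (nat_lit 0x10238c02ff289) (nat_lit 2052))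
 (.leaf (nat_lit 0x10238c02ff2c9) (nat_lit 2052))
) (.node (nat_lit 0x10238c03fd2c9) (.leaf (nat_lit 0x10238c03fd289) (nat_lit 2308))
 (.leaf (nat_lit 0x10238c03fd2c9) (nat_lit 2052))
)) (.node (nat_lit 0x10238c5efd2ba) (.node (nat_lit 0x10238c03ff2c9) (.leaf (nat_lit 0x10238c03ff289) (nat_lit 1796))
 (.leaf (nat_lit 0x10238c03ff2c9) (nat_lit 2052))
) (.node (nat_lit 0x10238c5efd2fa) (.leaf (nat_lit 0x10238c5efd2ba) (nat_lit 1540))
 (.leaf (nat_lit 0x10238c5efd2fa) (nat_lit 1792))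
))))) (.node (nat_lit 0x10238cdefd2fa) (.node (nat_lit 0x10238c82fd2c9) (.node (nat_lit 0x10238c5ffd2fa) (.node (nat_lit 0x10238c5eff2fa) (.leaf (nat_lit 0x10238c5eff2ba) (nat_lit 1796))
 (.node (nat_lit 0x10238c5ffd2ba) (.leaf (nat_lit 0x10238c5eff2fa) (nat_lit 1537))
 (.leaf (nat_lit 0x10238c5ffd2ba) (nat_lit 1281))
)) (.node (nat_lit 0x10238c5fff2fa) (.node (nat_lit 0x10238c5fff2ba) (.leaf (nat_lit 0x10238c5ffd2fa) (nat_lit 1537))
 (.leaf (nat_lit 0x10238c5fff2ba) (nat_lit 1540))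
) (.node (nat_lit 0x10238c82fd289) (.leaf (nat_lit 0x10238c5fff2fa) (nat_lit 1284))
 (.leaf (nat_lit 0x10238c82fd289) (nat_lit 1796))
))) (.node (nat_lit 0x10238c83fd2c9) (.node (nat_lit 0x10238c82ff2c9) (.node (nat_lit 0x10238c82ff289) (.leaf (nat_lit 0x10238c82fd2c9) (nat_lit 2048))
 (.leaf (nat_lit 0x10238c82ff289) (nat_lit 2052))
) (.node (nat_lit 0x10238c83fd289) (.leaf (nat_lit 0x10238c82ff2c9) (nat_lit 2052))
 (.leaf (nat_lit 0x10238c83fd289) (nat_lit 2048))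
)) (.node (nat_lit 0x10238c83ff2c9) (.node (nat_lit 0x10238c83ff289) (.leaf (nat_lit 0x10238c83fd2c9) (nat_lit 1796))
 (.leaf (nat_lit 0x10238c83ff289) (nat_lit 1796))
) (.node (nat_lit 0x10238cdefd2ba) (.leaf (nat_lit 0x10238c83ff2c9) (nat_lit 2052))
 (.leaf (nat_lit 0x10238cdefd2ba) (nat_lit 1796))
)))) (.node (nat_lit 0x10238d02fd609) (.node (nat_lit 0x10238cdffd2ba) (.node (nat_lit 0x10238cdeff2ba) (.leaf (nat_lit 0x10238cdefd2fa) (nat_lit 1540))
 (.node (nat_lit 0x10238cdeff2fa) (.leaf (nat_lit 0x10238cdeff2ba) (nat_lit 1540))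
 (.leaf (nat_lit 0x10238cdeff2fa) (nat_lit 1284))
)) (.node (nat_lit 0x10238cdfff2ba) (.node (nat_lit 0x10238cdffd2fa) (.leaf (nat_lit 0x10238cdffd2ba) (nat_lit 1028))
 (.leaf (nat_lit 0x10238cdffd2fa) (nat_lit 1280))
) (.node (nat_lit 0x10238cdfff2fa) (.leaf (nat_lit 0x10238cdfff2ba) (nat_lit 1796))
 (.leaf (nat_lit 0x10238cdfff2fa) (nat_lit 1540))
))) (.node (nat_lit 0x10238d03fd609) (.node (nat_lit 0x10238d02ff609) (.node (nat_lit 0x10238d02fd649) (.leaf (nat_lit 0x10238d02fd609) (nat_lit 2306))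
 (.leaf (nat_lit 0x10238d02fd649) (nat_lit 2306))
) (.node (nat_lit 0x10238d02ff649) (.leaf (nat_lit 0x10238d02ff609) (nat_lit 2051))
 (.leaf (nat_lit 0x10238d02ff649) (nat_lit 2307))
)) (.node (nat_lit 0x10238d03ff609) (.node (nat_lit 0x10238d03fd649) (.leaf (nat_lit 0x10238d03fd609) (nat_lit 2052))
 (.leaf (nat_lit 0x10238d03fd649) (nat_lit 2051))
) (.node (nat_lit 0x10238d03ff649) (.leaf (nat_lit 0x10238d03ff609) (nat_lit 2051))
 (.leaf (nat_lit 0x10238d03ff649) (nat_lit 2307))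
))))))) (.node (nat_lit 0x1023aa3bfcbae) (.node (nat_lit 0x1023a329fefa6) (.node (nat_lit 0x10238d83ff649) (.node (nat_lit 0x10238d4fff67b) (.node (nat_lit 0x10238d4eff67b) (.node (nat_lit 0x10238d4efd67b) (.leaf (nat_lit 0x10238d4efd63b) (nat_lit 1792))
 (.node (nat_lit 0x10238d4eff63b) (.leaf (nat_lit 0x10238d4efd67b) (nat_lit 1540))
 (.leaf (nat_lit 0x10238d4eff63b) (nat_lit 1796))
)) (.node (nat_lit 0x10238d4ffd67b) (.node (nat_lit 0x10238d4ffd63b) (.leaf (nat_lit 0x10238d4eff67b) (nat_lit 1795))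
 (.leaf (nat_lit 0x10238d4ffd63b) (nat_lit 1540))
) (.node (nat_lit 0x10238d4fff63b) (.leaf (nat_lit 0x10238d4ffd67b) (nat_lit 1796))
 (.leaf (nat_lit 0x10238d4fff63b) (nat_lit 1540))
))) (.node (nat_lit 0x10238d82ff649) (.node (nat_lit 0x10238d82fd649) (.node (nat_lit 0x10238d82fd609) (.leaf (nat_lit 0x10238d4fff67b) (nat_lit 1792))
 (.leaf (nat_lit 0x10238d82fd609) (nat_lit 2308))
) (.node (nat_lit 0x10238d82ff609) (.leaf (nat_lit 0x10238d82fd649) (nat_lit 2307))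
 (.leaf (nat_lit 0x10238d82ff609) (nat_lit 2052))
)) (.node (nat_lit 0x10238d83fd649) (.node (nat_lit 0x10238d83fd609) (.leaf (nat_lit 0x10238d82ff649) (nat_lit 2050))
 (.leaf (nat_lit 0x10238d83fd609) (nat_lit 2052))
) (.node (nat_lit 0x10238d83ff609) (.leaf (nat_lit 0x10238d83fd649) (nat_lit 2308))
 (.leaf (nat_lit 0x10238d83ff609) (nat_lit 2052))
)))) (.node (nat_lit 0x10238dcfff63b) (.node (nat_lit 0x10238dceff63b) (.node (nat_lit 0x10238dcefd63b) (.leaf (nat_lit 0x10238d83ff649) (nat_lit 2308))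
 (.node (nat_lit 0x10238dcefd67b) (.leaf (nat_lit 0x10238dcefd63b) (nat_lit 1796))
 (.leaf (nat_lit 0x10238dcefd67b) (nat_lit 1793))
)) (.node (nat_lit 0x10238dcffd63b) (.node (nat_lit 0x10238dceff67b) (.leaf (nat_lit 0x10238dceff63b) (nat_lit 2048))
 (.leaf (nat_lit 0x10238dceff67b) (nat_lit 1796))
) (.node (nat_lit 0x10238dcffd67b) (.leaf (nat_lit 0x10238dcffd63b) (nat_lit 1793))
 (.leaf (nat_lit 0x10238dcffd67b) (nat_lit 2049))
))) (.node (nat_lit 0x1023a328fefa6) (.node (nat_lit 0x1023a328fcfa6) (.node (nat_lit 0x10238dcfff67b) (.leaf (nat_lit 0x10238dcfff63b) (nat_lit 1796))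
 (.leaf (nat_lit 0x10238dcfff67b) (nat_lit 2052))
) (.node (nat_lit 0x1023a328fcfe6) (.leaf (nat_lit 0x1023a328fcfa6) (nat_lit 1538))
 (.leaf (nat_lit 0x1023a328fcfe6) (nat_lit 1792))
)) (.node (nat_lit 0x1023a329fcfa6) (.node (nat_lit 0x1023a328fefe6) (.leaf (nat_lit 0x1023a328fefa6) (nat_lit 1792))
 (.leaf (nat_lit 0x1023a328fefe6) (nat_lit 1538))
) (.node (nat_lit 0x1023a329fcfe6) (.leaf (nat_lit 0x1023a329fcfa6) (nat_lit 1536))
 (.leaf (nat_lit 0x1023a329fcfe6) (nat_lit 1282))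
))))) (.node (nat_lit 0x1023a3a9fcfe6) (.node (nat_lit 0x1023a35ffcffa) (.node (nat_lit 0x1023a35efcffa) (.node (nat_lit 0x1023a329fefe6) (.leaf (nat_lit 0x1023a329fefa6) (nat_lit 1538))
 (.node (nat_lit 0x1023a35efcfba) (.leaf (nat_lit 0x1023a329fefe6) (nat_lit 1792))
 (.leaf (nat_lit 0x1023a35efcfba) (nat_lit 1537))
)) (.node (nat_lit 0x1023a35efeffa) (.node (nat_lit 0x1023a35efefba) (.leaf (nat_lit 0x1023a35efcffa) (nat_lit 1793))
 (.leaf (nat_lit 0x1023a35efefba) (nat_lit 1794))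
) (.node (nat_lit 0x1023a35ffcfba) (.leaf (nat_lit 0x1023a35efeffa) (nat_lit 1794))
 (.leaf (nat_lit 0x1023a35ffcfba) (nat_lit 1794))
))) (.node (nat_lit 0x1023a3a8fcfe6) (.node (nat_lit 0x1023a35ffeffa) (.node (nat_lit 0x1023a35ffefba) (.leaf (nat_lit 0x1023a35ffcffa) (nat_lit 1793))
 (.leaf (nat_lit 0x1023a35ffefba) (nat_lit 1792))
) (.node (nat_lit 0x1023a3a8fcfa6) (.leaf (nat_lit 0x1023a35ffeffa) (nat_lit 1538))
 (.leaf (nat_lit 0x1023a3a8fcfa6) (nat_lit 1793))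
)) (.node (nat_lit 0x1023a3a8fefe6) (.node (nat_lit 0x1023a3a8fefa6) (.leaf (nat_lit 0x1023a3a8fcfe6) (nat_lit 1794))
 (.leaf (nat_lit 0x1023a3a8fefa6) (nat_lit 2051))
) (.node (nat_lit 0x1023a3a9fcfa6) (.leaf (nat_lit 0x1023a3a8fefe6) (nat_lit 1793))
 (.leaf (nat_lit 0x1023a3a9fcfa6) (nat_lit 1795))
)))) (.node (nat_lit 0x1023a3dffcfba) (.node (nat_lit 0x1023a3defcfba) (.node (nat_lit 0x1023a3a9fefa6) (.leaf (nat_lit 0x1023a3a9fcfe6) (nat_lit 1537))
 (.node (nat_lit 0x1023a3a9fefe6) (.leaf (nat_lit 0x1023a3a9fefa6) (nat_lit 1794))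
 (.leaf (nat_lit 0x1023a3a9fefe6) (nat_lit 1794))
)) (.node (nat_lit 0x1023a3defefba) (.node (nat_lit 0x1023a3defcffa) (.leaf (nat_lit 0x1023a3defcfba) (nat_lit 1282))
 (.leaf (nat_lit 0x1023a3defcffa) (nat_lit 1536))
) (.node (nat_lit 0x1023a3defeffa) (.leaf (nat_lit 0x1023a3defefba) (nat_lit 1792))
 (.leaf (nat_lit 0x1023a3defeffa) (nat_lit 1538))
))) (.node (nat_lit 0x1023aa3afcbae) (.node (nat_lit 0x1023a3dffefba) (.node (nat_lit 0x1023a3dffcffa) (.leaf (nat_lit 0x1023a3dffcfba) (nat_lit 1792))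
 (.leaf (nat_lit 0x1023a3dffcffa) (nat_lit 1538))
) (.node (nat_lit 0x1023a3dffeffa) (.leaf (nat_lit 0x1023a3dffefba) (nat_lit 1794))
 (.leaf (nat_lit 0x1023a3dffeffa) (nat_lit 1793))
)) (.node (nat_lit 0x1023aa3afebae) (.node (nat_lit 0x1023aa3afcbee) (.leaf (nat_lit 0x1023aa3afcbae) (nat_lit 1792))
 (.leaf (nat_lit 0x1023aa3afcbee) (nat_lit 1538))
) (.node (nat_lit 0x1023aa3afebee) (.leaf (nat_lit 0x1023aa3afebae) (nat_lit 1794))
 (.leaf (nat_lit 0x1023aa3afebee) (nat_lit 1794))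
)))))) (.node (nat_lit 0x1023b728ffca6) (.node (nat_lit 0x1023aabafebee) (.node (nat_lit 0x1023aa4efebfb) (.node (nat_lit 0x1023aa3bfebee) (.node (nat_lit 0x1023aa3bfcbee) (.leaf (nat_lit 0x1023aa3bfcbae) (nat_lit 1794))
 (.node (nat_lit 0x1023aa3bfebae) (.leaf (nat_lit 0x1023aa3bfcbee) (nat_lit 1794))
 (.leaf (nat_lit 0x1023aa3bfebae) (nat_lit 1538))
)) (.node (nat_lit 0x1023aa4efcbfb) (.node (nat_lit 0x1023aa4efcbbb) (.leaf (nat_lit 0x1023aa3bfebee) (nat_lit 1538))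
 (.leaf (nat_lit 0x1023aa4efcbbb) (nat_lit 2052))
) (.node (nat_lit 0x1023aa4efebbb) (.leaf (nat_lit 0x1023aa4efcbfb) (nat_lit 1794))
 (.leaf (nat_lit 0x1023aa4efebbb) (nat_lit 1538))
))) (.node (nat_lit 0x1023aa4ffebfb) (.node (nat_lit 0x1023aa4ffcbfb) (.node (nat_lit 0x1023aa4ffcbbb) (.leaf (nat_lit 0x1023aa4efebfb) (nat_lit 1792))
 (.leaf (nat_lit 0x1023aa4ffcbbb) (nat_lit 2050))
) (.node (nat_lit 0x1023aa4ffebbb) (.leaf (nat_lit 0x1023aa4ffcbfb) (nat_lit 2050))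
 (.leaf (nat_lit 0x1023aa4ffebbb) (nat_lit 1794))
)) (.node (nat_lit 0x1023aabafcbee) (.node (nat_lit 0x1023aabafcbae) (.leaf (nat_lit 0x1023aa4ffebfb) (nat_lit 1795))
 (.leaf (nat_lit 0x1023aabafcbae) (nat_lit 2050))
) (.node (nat_lit 0x1023aabafebae) (.leaf (nat_lit 0x1023aabafcbee) (nat_lit 1793))
 (.leaf (nat_lit 0x1023aabafebae) (nat_lit 2049))
)))) (.node (nat_lit 0x1023aacefebbb) (.node (nat_lit 0x1023aabbfebae) (.node (nat_lit 0x1023aabbfcbae) (.leaf (nat_lit 0x1023aabafebee) (nat_lit 2050))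
 (.node (nat_lit 0x1023aabbfcbee) (.leaf (nat_lit 0x1023aabbfcbae) (nat_lit 2050))
 (.leaf (nat_lit 0x1023aabbfcbee) (nat_lit 2050))
)) (.node (nat_lit 0x1023aacefcbbb) (.node (nat_lit 0x1023aabbfebee) (.leaf (nat_lit 0x1023aabbfebae) (nat_lit 1793))
 (.leaf (nat_lit 0x1023aabbfebee) (nat_lit 1793))
) (.node (nat_lit 0x1023aacefcbfb) (.leaf (nat_lit 0x1023aacefcbbb) (nat_lit 2050))
 (.leaf (nat_lit 0x1023aacefcbfb) (nat_lit 2052))
))) (.node (nat_lit 0x1023aacffebbb) (.node (nat_lit 0x1023aacffcbbb) (.node (nat_lit 0x1023aacefebfb) (.leaf (nat_lit 0x1023aacefebbb) (nat_lit 1793))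
 (.leaf (nat_lit 0x1023aacefebfb) (nat_lit 2049))
) (.node (nat_lit 0x1023aacffcbfb) (.leaf (nat_lit 0x1023aacffcbbb) (nat_lit 2052))
 (.leaf (nat_lit 0x1023aacffcbfb) (nat_lit 2052))
)) (.node (nat_lit 0x1023b728fdca6) (.node (nat_lit 0x1023aacffebfb) (.leaf (nat_lit 0x1023aacffebbb) (nat_lit 2049))
 (.leaf (nat_lit 0x1023aacffebfb) (nat_lit 1796))
) (.node (nat_lit 0x1023b728fdce6) (.leaf (nat_lit 0x1023b728fdca6) (nat_lit 1796))
 (.leaf (nat_lit 0x1023b728fdce6) (nat_lit 1793))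
))))) (.node (nat_lit 0x1023b7a8fdce6) (.node (nat_lit 0x1023b73afdcee) (.node (nat_lit 0x1023b729fdce6) (.node (nat_lit 0x1023b728ffce6) (.leaf (nat_lit 0x1023b728ffca6) (nat_lit 1284))
 (.node (nat_lit 0x1023b729fdca6) (.leaf (nat_lit 0x1023b728ffce6) (nat_lit 1536))
 (.leaf (nat_lit 0x1023b729fdca6) (nat_lit 1284))
)) (.node (nat_lit 0x1023b729ffce6) (.node (nat_lit 0x1023b729ffca6) (.leaf (nat_lit 0x1023b729fdce6) (nat_lit 1540))
 (.leaf (nat_lit 0x1023b729ffca6) (nat_lit 2052))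
) (.node (nat_lit 0x1023b73afdcae) (.leaf (nat_lit 0x1023b729ffce6) (nat_lit 1793))
 (.leaf (nat_lit 0x1023b73afdcae) (nat_lit 1540))
))) (.node (nat_lit 0x1023b73bfdcee) (.node (nat_lit 0x1023b73affcee) (.node (nat_lit 0x1023b73affcae) (.leaf (nat_lit 0x1023b73afdcee) (nat_lit 1792))
 (.leaf (nat_lit 0x1023b73affcae) (nat_lit 1792))
) (.node (nat_lit 0x1023b73bfdcae) (.leaf (nat_lit 0x1023b73affcee) (nat_lit 1540))
 (.leaf (nat_lit 0x1023b73bfdcae) (nat_lit 1796))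
)) (.node (nat_lit 0x1023b73bffcee) (.node (nat_lit 0x1023b73bffcae) (.leaf (nat_lit 0x1023b73bfdcee) (nat_lit 1540))
 (.leaf (nat_lit 0x1023b73bffcae) (nat_lit 1540))
) (.node (nat_lit 0x1023b7a8fdca6) (.leaf (nat_lit 0x1023b73bffcee) (nat_lit 1796))
 (.leaf (nat_lit 0x1023b7a8fdca6) (nat_lit 1792))
)))) (.node (nat_lit 0x1023b7bafdcae) (.node (nat_lit 0x1023b7a9fdca6) (.node (nat_lit 0x1023b7a8ffca6) (.leaf (nat_lit 0x1023b7a8fdce6) (nat_lit 1540))
 (.node (nat_lit 0x1023b7a8ffce6) (.leaf (nat_lit 0x1023b7a8ffca6) (nat_lit 1537))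
 (.leaf (nat_lit 0x1023b7a8ffce6) (nat_lit 1796))
)) (.node (nat_lit 0x1023b7a9ffca6) (.node (nat_lit 0x1023b7a9fdce6) (.leaf (nat_lit 0x1023b7a9fdca6) (nat_lit 1537))
 (.leaf (nat_lit 0x1023b7a9fdce6) (nat_lit 1540))
) (.node (nat_lit 0x1023b7a9ffce6) (.leaf (nat_lit 0x1023b7a9ffca6) (nat_lit 1796))
 (.leaf (nat_lit 0x1023b7a9ffce6) (nat_lit 1540))
))) (.node (nat_lit 0x1023b7bbfdcae) (.node (nat_lit 0x1023b7baffcae) (.node (nat_lit 0x1023b7bafdcee) (.leaf (nat_lit 0x1023b7bafdcae) (nat_lit 1793))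
 (.leaf (nat_lit 0x1023b7bafdcee) (nat_lit 1796))
) (.node (nat_lit 0x1023b7baffcee) (.leaf (nat_lit 0x1023b7baffcae) (nat_lit 1796))
 (.leaf (nat_lit 0x1023b7baffcee) (nat_lit 1796))
)) (.node (nat_lit 0x1023b7bbffcae) (.node (nat_lit 0x1023b7bbfdcee) (.leaf (nat_lit 0x1023b7bbfdcae) (nat_lit 1796))
 (.leaf (nat_lit 0x1023b7bbfdcee) (nat_lit 1796))
) (.node (nat_lit 0x1023b7bbffcee) (.leaf (nat_lit 0x1023b7bbffcae) (nat_lit 1793))
 (.leaf (nat_lit 0x1023b7bbffcee) (nat_lit 1796))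
))))))))) (.node (nat_lit 0x1029abaa64f2f) (.node (nat_lit 0x1023eacefcbbb) (.node (nat_lit 0x1023cdcffd63b) (.node (nat_lit 0x1023ccdfff2ba) (.node (nat_lit 0x1023cc5fff2fa) (.node (nat_lit 0x1023cc03ff2c9) (.node (nat_lit 0x1023cc02ff2c9) (.node (nat_lit 0x1023cc02fd2c9) (.leaf (nat_lit 0x1023cc02fd289) (nat_lit 2052))
 (.node (nat_lit 0x1023cc02ff289) (.leaf (nat_lit 0x1023cc02fd2c9) (nat_lit 2052))
 (.leaf (nat_lit 0x1023cc02ff289) (nat_lit 2308))
)) (.node (nat_lit 0x1023cc03fd2c9) (.node (nat_lit 0x1023cc03fd289) (.leaf (nat_lit 0x1023cc02ff2c9) (nat_lit 2052))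
 (.leaf (nat_lit 0x1023cc03fd289) (nat_lit 2052))
) (.node (nat_lit 0x1023cc03ff289) (.leaf (nat_lit 0x1023cc03fd2c9) (nat_lit 2052))
 (.leaf (nat_lit 0x1023cc03ff289) (nat_lit 2052))
))) (.node (nat_lit 0x1023cc5eff2fa) (.node (nat_lit 0x1023cc5efd2fa) (.node (nat_lit 0x1023cc5efd2ba) (.leaf (nat_lit 0x1023cc03ff2c9) (nat_lit 2049))
 (.leaf (nat_lit 0x1023cc5efd2ba) (nat_lit 1536))
) (.node (nat_lit 0x1023cc5eff2ba) (.leaf (nat_lit 0x1023cc5efd2fa) (nat_lit 1284))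
 (.leaf (nat_lit 0x1023cc5eff2ba) (nat_lit 1793))
)) (.node (nat_lit 0x1023cc5ffd2fa) (.node (nat_lit 0x1023cc5ffd2ba) (.leaf (nat_lit 0x1023cc5eff2fa) (nat_lit 1537))
 (.leaf (nat_lit 0x1023cc5ffd2ba) (nat_lit 1796))
) (.node (nat_lit 0x1023cc5fff2ba) (.leaf (nat_lit 0x1023cc5ffd2fa) (nat_lit 1537))
 (.leaf (nat_lit 0x1023cc5fff2ba) (nat_lit 1540))
)))) (.node (nat_lit 0x1023cc83ff289) (.node (nat_lit 0x1023cc82ff289) (.node (nat_lit 0x1023cc82fd289) (.leaf (nat_lit 0x1023cc5fff2fa) (nat_lit 1793))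
 (.node (nat_lit 0x1023cc82fd2c9) (.leaf (nat_lit 0x1023cc82fd289) (nat_lit 2052))
 (.leaf (nat_lit 0x1023cc82fd2c9) (nat_lit 2052))
)) (.node (nat_lit 0x1023cc83fd289) (.node (nat_lit 0x1023cc82ff2c9) (.leaf (nat_lit 0x1023cc82ff289) (nat_lit 2052))
 (.leaf (nat_lit 0x1023cc82ff2c9) (nat_lit 2052))
) (.node (nat_lit 0x1023cc83fd2c9) (.leaf (nat_lit 0x1023cc83fd289) (nat_lit 2052))
 (.leaf (nat_lit 0x1023cc83fd2c9) (nat_lit 2052))
))) (.node (nat_lit 0x1023ccdeff2ba) (.node (nat_lit 0x1023ccdefd2ba) (.node (nat_lit 0x1023cc83ff2c9) (.leaf (nat_lit 0x1023cc83ff289) (nat_lit 2048))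
 (.leaf (nat_lit 0x1023cc83ff2c9) (nat_lit 1796))
) (.node (nat_lit 0x1023ccdefd2fa) (.leaf (nat_lit 0x1023ccdefd2ba) (nat_lit 1795))
 (.leaf (nat_lit 0x1023ccdefd2fa) (nat_lit 1537))
)) (.node (nat_lit 0x1023ccdffd2ba) (.node (nat_lit 0x1023ccdeff2fa) (.leaf (nat_lit 0x1023ccdeff2ba) (nat_lit 1540))
 (.leaf (nat_lit 0x1023ccdeff2fa) (nat_lit 1284))
) (.node (nat_lit 0x1023ccdffd2fa) (.leaf (nat_lit 0x1023ccdffd2ba) (nat_lit 1536))
 (.leaf (nat_lit 0x1023ccdffd2fa) (nat_lit 1284))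
))))) (.node (nat_lit 0x1023cd4ffd67b) (.node (nat_lit 0x1023cd03fd649) (.node (nat_lit 0x1023cd02fd649) (.node (nat_lit 0x1023ccdfff2fa) (.leaf (nat_lit 0x1023ccdfff2ba) (nat_lit 1792))
 (.node (nat_lit 0x1023cd02fd609) (.leaf (nat_lit 0x1023ccdfff2fa) (nat_lit 1540))
 (.leaf (nat_lit 0x1023cd02fd609) (nat_lit 2051))
)) (.node (nat_lit 0x1023cd02ff649) (.node (nat_lit 0x1023cd02ff609) (.leaf (nat_lit 0x1023cd02fd649) (nat_lit 2307))
 (.leaf (nat_lit 0x1023cd02ff609) (nat_lit 2052))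
) (.node (nat_lit 0x1023cd03fd609) (.leaf (nat_lit 0x1023cd02ff649) (nat_lit 2307))
 (.leaf (nat_lit 0x1023cd03fd609) (nat_lit 2305))
))) (.node (nat_lit 0x1023cd4efd67b) (.node (nat_lit 0x1023cd03ff649) (.node (nat_lit 0x1023cd03ff609) (.leaf (nat_lit 0x1023cd03fd649) (nat_lit 2049))
 (.leaf (nat_lit 0x1023cd03ff609) (nat_lit 2052))
) (.node (nat_lit 0x1023cd4efd63b) (.leaf (nat_lit 0x1023cd03ff649) (nat_lit 2308))
 (.leaf (nat_lit 0x1023cd4efd63b) (nat_lit 1792))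
)) (.node (nat_lit 0x1023cd4eff67b) (.node (nat_lit 0x1023cd4eff63b) (.leaf (nat_lit 0x1023cd4efd67b) (nat_lit 1539))
 (.leaf (nat_lit 0x1023cd4eff63b) (nat_lit 1540))
) (.node (nat_lit 0x1023cd4ffd63b) (.leaf (nat_lit 0x1023cd4eff67b) (nat_lit 1796))
 (.leaf (nat_lit 0x1023cd4ffd63b) (nat_lit 1796))
)))) (.node (nat_lit 0x1023cd83fd609) (.node (nat_lit 0x1023cd82fd609) (.node (nat_lit 0x1023cd4fff63b) (.leaf (nat_lit 0x1023cd4ffd67b) (nat_lit 1796))
 (.node (nat_lit 0x1023cd4fff67b) (.leaf (nat_lit 0x1023cd4fff63b) (nat_lit 1284))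
 (.leaf (nat_lit 0x1023cd4fff67b) (nat_lit 1536))
)) (.node (nat_lit 0x1023cd82ff609) (.node (nat_lit 0x1023cd82fd649) (.leaf (nat_lit 0x1023cd82fd609) (nat_lit 2052))
 (.leaf (nat_lit 0x1023cd82fd649) (nat_lit 2050))
) (.node (nat_lit 0x1023cd82ff649) (.leaf (nat_lit 0x1023cd82ff609) (nat_lit 2052))
 (.leaf (nat_lit 0x1023cd82ff649) (nat_lit 2308))
))) (.node (nat_lit 0x1023cdcefd63b) (.node (nat_lit 0x1023cd83ff609) (.node (nat_lit 0x1023cd83fd649) (.leaf (nat_lit 0x1023cd83fd609) (nat_lit 2048))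
 (.leaf (nat_lit 0x1023cd83fd649) (nat_lit 1796))
) (.node (nat_lit 0x1023cd83ff649) (.leaf (nat_lit 0x1023cd83ff609) (nat_lit 2308))
 (.leaf (nat_lit 0x1023cd83ff649) (nat_lit 2052))
)) (.node (nat_lit 0x1023cdceff63b) (.node (nat_lit 0x1023cdcefd67b) (.leaf (nat_lit 0x1023cdcefd63b) (nat_lit 1792))
 (.leaf (nat_lit 0x1023cdcefd67b) (nat_lit 1540))
) (.node (nat_lit 0x1023cdceff67b) (.leaf (nat_lit 0x1023cdceff63b) (nat_lit 1793))
 (.leaf (nat_lit 0x1023cdceff67b) (nat_lit 2052))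
)))))) (.node (nat_lit 0x1023e3defefba) (.node (nat_lit 0x1023e35efeffa) (.node (nat_lit 0x1023e328fefe6) (.node (nat_lit 0x1023cdcfff67b) (.node (nat_lit 0x1023cdcffd67b) (.leaf (nat_lit 0x1023cdcffd63b) (nat_lit 2052))
 (.node (nat_lit 0x1023cdcfff63b) (.leaf (nat_lit 0x1023cdcffd67b) (nat_lit 1796))
 (.leaf (nat_lit 0x1023cdcfff63b) (nat_lit 1537))
)) (.node (nat_lit 0x1023e328fcfe6) (.node (nat_lit 0x1023e328fcfa6) (.leaf (nat_lit 0x1023cdcfff67b) (nat_lit 1793))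
 (.leaf (nat_lit 0x1023e328fcfa6) (nat_lit 1538))
) (.node (nat_lit 0x1023e328fefa6) (.leaf (nat_lit 0x1023e328fcfe6) (nat_lit 1792))
 (.leaf (nat_lit 0x1023e328fefa6) (nat_lit 2049))
))) (.node (nat_lit 0x1023e329fefe6) (.node (nat_lit 0x1023e329fcfe6) (.node (nat_lit 0x1023e329fcfa6) (.leaf (nat_lit 0x1023e328fefe6) (nat_lit 1794))
 (.leaf (nat_lit 0x1023e329fcfa6) (nat_lit 1793))
) (.node (nat_lit 0x1023e329fefa6) (.leaf (nat_lit 0x1023e329fcfe6) (nat_lit 1794))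
 (.leaf (nat_lit 0x1023e329fefa6) (nat_lit 1538))
)) (.node (nat_lit 0x1023e35efcffa) (.node (nat_lit 0x1023e35efcfba) (.leaf (nat_lit 0x1023e329fefe6) (nat_lit 1792))
 (.leaf (nat_lit 0x1023e35efcfba) (nat_lit 1538))
) (.node (nat_lit 0x1023e35efefba) (.leaf (nat_lit 0x1023e35efcffa) (nat_lit 1538))
 (.leaf (nat_lit 0x1023e35efefba) (nat_lit 1794))
)))) (.node (nat_lit 0x1023e3a8fefa6) (.node (nat_lit 0x1023e35ffefba) (.node (nat_lit 0x1023e35ffcfba) (.leaf (nat_lit 0x1023e35efeffa) (nat_lit 1793))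
 (.node (nat_lit 0x1023e35ffcffa) (.leaf (nat_lit 0x1023e35ffcfba) (nat_lit 1794))
 (.leaf (nat_lit 0x1023e35ffcffa) (nat_lit 1794))
)) (.node (nat_lit 0x1023e3a8fcfa6) (.node (nat_lit 0x1023e35ffeffa) (.leaf (nat_lit 0x1023e35ffefba) (nat_lit 2050))
 (.leaf (nat_lit 0x1023e35ffeffa) (nat_lit 2050))
) (.node (nat_lit 0x1023e3a8fcfe6) (.leaf (nat_lit 0x1023e3a8fcfa6) (nat_lit 1794))
 (.leaf (nat_lit 0x1023e3a8fcfe6) (nat_lit 1794))
))) (.node (nat_lit 0x1023e3a9fefa6) (.node (nat_lit 0x1023e3a9fcfa6) (.node (nat_lit 0x1023e3a8fefe6) (.leaf (nat_lit 0x1023e3a8fefa6) (nat_lit 1794))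
 (.leaf (nat_lit 0x1023e3a8fefe6) (nat_lit 1794))
) (.node (nat_lit 0x1023e3a9fcfe6) (.leaf (nat_lit 0x1023e3a9fcfa6) (nat_lit 1538))
 (.leaf (nat_lit 0x1023e3a9fcfe6) (nat_lit 1538))
)) (.node (nat_lit 0x1023e3defcfba) (.node (nat_lit 0x1023e3a9fefe6) (.leaf (nat_lit 0x1023e3a9fefa6) (nat_lit 1793))
 (.leaf (nat_lit 0x1023e3a9fefe6) (nat_lit 1794))
) (.node (nat_lit 0x1023e3defcffa) (.leaf (nat_lit 0x1023e3defcfba) (nat_lit 1794))
 (.leaf (nat_lit 0x1023e3defcffa) (nat_lit 1794))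
))))) (.node (nat_lit 0x1023ea4efcbfb) (.node (nat_lit 0x1023ea3afcbee) (.node (nat_lit 0x1023e3dffcffa) (.node (nat_lit 0x1023e3defeffa) (.leaf (nat_lit 0x1023e3defefba) (nat_lit 1792))
 (.node (nat_lit 0x1023e3dffcfba) (.leaf (nat_lit 0x1023e3defeffa) (nat_lit 1538))
 (.leaf (nat_lit 0x1023e3dffcfba) (nat_lit 1792))
)) (.node (nat_lit 0x1023e3dffeffa) (.node (nat_lit 0x1023e3dffefba) (.leaf (nat_lit 0x1023e3dffcffa) (nat_lit 1538))
 (.leaf (nat_lit 0x1023e3dffefba) (nat_lit 1794))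
) (.node (nat_lit 0x1023ea3afcbae) (.leaf (nat_lit 0x1023e3dffeffa) (nat_lit 1794))
 (.leaf (nat_lit 0x1023ea3afcbae) (nat_lit 2049))
))) (.node (nat_lit 0x1023ea3bfcbee) (.node (nat_lit 0x1023ea3afebee) (.node (nat_lit 0x1023ea3afebae) (.leaf (nat_lit 0x1023ea3afcbee) (nat_lit 2050))
 (.leaf (nat_lit 0x1023ea3afebae) (nat_lit 1794))
) (.node (nat_lit 0x1023ea3bfcbae) (.leaf (nat_lit 0x1023ea3afebee) (nat_lit 1794))
 (.leaf (nat_lit 0x1023ea3bfcbae) (nat_lit 1794))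
)) (.node (nat_lit 0x1023ea3bfebee) (.node (nat_lit 0x1023ea3bfebae) (.leaf (nat_lit 0x1023ea3bfcbee) (nat_lit 1794))
 (.leaf (nat_lit 0x1023ea3bfebae) (nat_lit 2049))
) (.node (nat_lit 0x1023ea4efcbbb) (.leaf (nat_lit 0x1023ea3bfebee) (nat_lit 2050))
 (.leaf (nat_lit 0x1023ea4efcbbb) (nat_lit 1794))
)))) (.node (nat_lit 0x1023eabafcbae) (.node (nat_lit 0x1023ea4ffcbbb) (.node (nat_lit 0x1023ea4efebbb) (.leaf (nat_lit 0x1023ea4efcbfb) (nat_lit 2050))
 (.node (nat_lit 0x1023ea4efebfb) (.leaf (nat_lit 0x1023ea4efebbb) (nat_lit 1794))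
 (.leaf (nat_lit 0x1023ea4efebfb) (nat_lit 2052))
)) (.node (nat_lit 0x1023ea4ffebbb) (.node (nat_lit 0x1023ea4ffcbfb) (.leaf (nat_lit 0x1023ea4ffcbbb) (nat_lit 2050))
 (.leaf (nat_lit 0x1023ea4ffcbfb) (nat_lit 2051))
) (.node (nat_lit 0x1023ea4ffebfb) (.leaf (nat_lit 0x1023ea4ffebbb) (nat_lit 2048))
 (.leaf (nat_lit 0x1023ea4ffebfb) (nat_lit 1794))
))) (.node (nat_lit 0x1023eabbfcbae) (.node (nat_lit 0x1023eabafebae) (.node (nat_lit 0x1023eabafcbee) (.leaf (nat_lit 0x1023eabafcbae) (nat_lit 1794))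
 (.leaf (nat_lit 0x1023eabafcbee) (nat_lit 1794))
) (.node (nat_lit 0x1023eabafebee) (.leaf (nat_lit 0x1023eabafebae) (nat_lit 1794))
 (.leaf (nat_lit 0x1023eabafebee) (nat_lit 1794))
)) (.node (nat_lit 0x1023eabbfebae) (.node (nat_lit 0x1023eabbfcbee) (.leaf (nat_lit 0x1023eabbfcbae) (nat_lit 1794))
 (.leaf (nat_lit 0x1023eabbfcbee) (nat_lit 2050))
) (.node (nat_lit 0x1023eabbfebee) (.leaf (nat_lit 0x1023eabbfebae) (nat_lit 1794))
 (.leaf (nat_lit 0x1023eabbfebee) (nat_lit 1794))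
))))))) (.node (nat_lit 0x102998e76419d) (.node (nat_lit 0x1023f7a9ffca6) (.node (nat_lit 0x1023f729ffce6) (.node (nat_lit 0x1023eacffebfb) (.node (nat_lit 0x1023eacefebfb) (.node (nat_lit 0x1023eacefcbfb) (.leaf (nat_lit 0x1023eacefcbbb) (nat_lit 1796))
 (.node (nat_lit 0x1023eacefebbb) (.leaf (nat_lit 0x1023eacefcbfb) (nat_lit 1796))
 (.leaf (nat_lit 0x1023eacefebbb) (nat_lit 1794))
)) (.node (nat_lit 0x1023eacffcbfb) (.node (nat_lit 0x1023eacffcbbb) (.leaf (nat_lit 0x1023eacefebfb) (nat_lit 2052))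
 (.leaf (nat_lit 0x1023eacffcbbb) (nat_lit 2050))
) (.node (nat_lit 0x1023eacffebbb) (.leaf (nat_lit 0x1023eacffcbfb) (nat_lit 2052))
 (.leaf (nat_lit 0x1023eacffebbb) (nat_lit 2050))
))) (.node (nat_lit 0x1023f728ffce6) (.node (nat_lit 0x1023f728fdce6) (.node (nat_lit 0x1023f728fdca6) (.leaf (nat_lit 0x1023eacffebfb) (nat_lit 1794))
 (.leaf (nat_lit 0x1023f728fdca6) (nat_lit 1537))
) (.node (nat_lit 0x1023f728ffca6) (.leaf (nat_lit 0x1023f728fdce6) (nat_lit 1793))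
 (.leaf (nat_lit 0x1023f728ffca6) (nat_lit 1280))
)) (.node (nat_lit 0x1023f729fdce6) (.node (nat_lit 0x1023f729fdca6) (.leaf (nat_lit 0x1023f728ffce6) (nat_lit 1028))
 (.leaf (nat_lit 0x1023f729fdca6) (nat_lit 1284))
) (.node (nat_lit 0x1023f729ffca6) (.leaf (nat_lit 0x1023f729fdce6) (nat_lit 1284))
 (.leaf (nat_lit 0x1023f729ffca6) (nat_lit 1540))
)))) (.node (nat_lit 0x1023f73bffcae) (.node (nat_lit 0x1023f73affcae) (.node (nat_lit 0x1023f73afdcae) (.leaf (nat_lit 0x1023f729ffce6) (nat_lit 1793))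
 (.node (nat_lit 0x1023f73afdcee) (.leaf (nat_lit 0x1023f73afdcae) (nat_lit 1536))
 (.leaf (nat_lit 0x1023f73afdcee) (nat_lit 1284))
)) (.node (nat_lit 0x1023f73bfdcae) (.node (nat_lit 0x1023f73affcee) (.leaf (nat_lit 0x1023f73affcae) (nat_lit 1284))
 (.leaf (nat_lit 0x1023f73affcee) (nat_lit 1536))
) (.node (nat_lit 0x1023f73bfdcee) (.leaf (nat_lit 0x1023f73bfdcae) (nat_lit 1796))
 (.leaf (nat_lit 0x1023f73bfdcee) (nat_lit 1540))
))) (.node (nat_lit 0x1023f7a8ffca6) (.node (nat_lit 0x1023f7a8fdca6) (.node (nat_lit 0x1023f73bffcee) (.leaf (nat_lit 0x1023f73bffcae) (nat_lit 1540))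
 (.leaf (nat_lit 0x1023f73bffcee) (nat_lit 1284))
) (.node (nat_lit 0x1023f7a8fdce6) (.leaf (nat_lit 0x1023f7a8fdca6) (nat_lit 1284))
 (.leaf (nat_lit 0x1023f7a8fdce6) (nat_lit 1536))
)) (.node (nat_lit 0x1023f7a9fdca6) (.node (nat_lit 0x1023f7a8ffce6) (.leaf (nat_lit 0x1023f7a8ffca6) (nat_lit 1537))
 (.leaf (nat_lit 0x1023f7a8ffce6) (nat_lit 1281))
) (.node (nat_lit 0x1023f7a9fdce6) (.leaf (nat_lit 0x1023f7a9fdca6) (nat_lit 1537))
 (.leaf (nat_lit 0x1023f7a9fdce6) (nat_lit 1540))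
))))) (.node (nat_lit 0x10299867641dd) (.node (nat_lit 0x1023f7bbfdcee) (.node (nat_lit 0x1023f7bafdcee) (.node (nat_lit 0x1023f7a9ffce6) (.leaf (nat_lit 0x1023f7a9ffca6) (nat_lit 1540))
 (.node (nat_lit 0x1023f7bafdcae) (.leaf (nat_lit 0x1023f7a9ffce6) (nat_lit 1540))
 (.leaf (nat_lit 0x1023f7bafdcae) (nat_lit 1540))
)) (.node (nat_lit 0x1023f7baffcee) (.node (nat_lit 0x1023f7baffcae) (.leaf (nat_lit 0x1023f7bafdcee) (nat_lit 1537))
 (.leaf (nat_lit 0x1023f7baffcae) (nat_lit 1540))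
) (.node (nat_lit 0x1023f7bbfdcae) (.leaf (nat_lit 0x1023f7baffcee) (nat_lit 1792))
 (.leaf (nat_lit 0x1023f7bbfdcae) (nat_lit 1540))
))) (.node (nat_lit 0x10299866641dd) (.node (nat_lit 0x1023f7bbffcee) (.node (nat_lit 0x1023f7bbffcae) (.leaf (nat_lit 0x1023f7bbfdcee) (nat_lit 1540))
 (.leaf (nat_lit 0x1023f7bbffcae) (nat_lit 1540))
) (.node (nat_lit 0x102998666419d) (.leaf (nat_lit 0x1023f7bbffcee) (nat_lit 1537))
 (.leaf (nat_lit 0x102998666419d) (nat_lit 1282))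
)) (.node (nat_lit 0x10299866661dd) (.node (nat_lit 0x102998666619d) (.leaf (nat_lit 0x10299866641dd) (nat_lit 1536))
 (.leaf (nat_lit 0x102998666619d) (nat_lit 1280))
) (.node (nat_lit 0x102998676419d) (.leaf (nat_lit 0x10299866661dd) (nat_lit 1026))
 (.leaf (nat_lit 0x102998676419d) (nat_lit 1538))
)))) (.node (nat_lit 0x102998776419c) (.node (nat_lit 0x102998766419c) (.node (nat_lit 0x102998676619d) (.leaf (nat_lit 0x10299867641dd) (nat_lit 1537))
 (.node (nat_lit 0x10299867661dd) (.leaf (nat_lit 0x102998676619d) (nat_lit 1281))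
 (.leaf (nat_lit 0x10299867661dd) (nat_lit 1537))
)) (.node (nat_lit 0x102998766619c) (.node (nat_lit 0x10299876641dc) (.leaf (nat_lit 0x102998766419c) (nat_lit 1536))
 (.leaf (nat_lit 0x10299876641dc) (nat_lit 1282))
) (.node (nat_lit 0x10299876661dc) (.leaf (nat_lit 0x102998766619c) (nat_lit 1026))
 (.leaf (nat_lit 0x10299876661dc) (nat_lit 1280))
))) (.node (nat_lit 0x102998e66419d) (.node (nat_lit 0x102998776619c) (.node (nat_lit 0x10299877641dc) (.leaf (nat_lit 0x102998776419c) (nat_lit 1539))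
 (.leaf (nat_lit 0x10299877641dc) (nat_lit 1795))
) (.node (nat_lit 0x10299877661dc) (.leaf (nat_lit 0x102998776619c) (nat_lit 1537))
 (.leaf (nat_lit 0x10299877661dc) (nat_lit 1281))
)) (.node (nat_lit 0x102998e66619d) (.node (nat_lit 0x102998e6641dd) (.leaf (nat_lit 0x102998e66419d) (nat_lit 1537))
 (.leaf (nat_lit 0x102998e6641dd) (nat_lit 1538))
) (.node (nat_lit 0x102998e6661dd) (.leaf (nat_lit 0x102998e66619d) (nat_lit 1537))
 (.leaf (nat_lit 0x102998e6661dd) (nat_lit 1281))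
)))))) (.node (nat_lit 0x1029a3a866fa6) (.node (nat_lit 0x1029a32866fe6) (.node (nat_lit 0x102998f6661dc) (.node (nat_lit 0x102998e7661dd) (.node (nat_lit 0x102998e7641dd) (.leaf (nat_lit 0x102998e76419d) (nat_lit 1283))
 (.node (nat_lit 0x102998e76619d) (.leaf (nat_lit 0x102998e7641dd) (nat_lit 1282))
 (.leaf (nat_lit 0x102998e76619d) (nat_lit 1026))
)) (.node (nat_lit 0x102998f6641dc) (.node (nat_lit 0x102998f66419c) (.leaf (nat_lit 0x102998e7661dd) (nat_lit 1280))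
 (.leaf (nat_lit 0x102998f66419c) (nat_lit 1536))
) (.node (nat_lit 0x102998f66619c) (.leaf (nat_lit 0x102998f6641dc) (nat_lit 1282))
 (.leaf (nat_lit 0x102998f66619c) (nat_lit 1026))
))) (.node (nat_lit 0x102998f7661dc) (.node (nat_lit 0x102998f7641dc) (.node (nat_lit 0x102998f76419c) (.leaf (nat_lit 0x102998f6661dc) (nat_lit 1280))
 (.leaf (nat_lit 0x102998f76419c) (nat_lit 1282))
) (.node (nat_lit 0x102998f76619c) (.leaf (nat_lit 0x102998f7641dc) (nat_lit 1536))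
 (.leaf (nat_lit 0x102998f76619c) (nat_lit 1280))
)) (.node (nat_lit 0x1029a32864fe6) (.node (nat_lit 0x1029a32864fa6) (.leaf (nat_lit 0x102998f7661dc) (nat_lit 1026))
 (.leaf (nat_lit 0x1029a32864fa6) (nat_lit 2051))
) (.node (nat_lit 0x1029a32866fa6) (.leaf (nat_lit 0x1029a32864fe6) (nat_lit 1796))
 (.leaf (nat_lit 0x1029a32866fa6) (nat_lit 1793))
)))) (.node (nat_lit 0x1029a37666f9c) (.node (nat_lit 0x1029a32966fa6) (.node (nat_lit 0x1029a32964fa6) (.leaf (nat_lit 0x1029a32866fe6) (nat_lit 2052))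
 (.node (nat_lit 0x1029a32964fe6) (.leaf (nat_lit 0x1029a32964fa6) (nat_lit 2052))
 (.leaf (nat_lit 0x1029a32964fe6) (nat_lit 1796))
)) (.node (nat_lit 0x1029a37664f9c) (.node (nat_lit 0x1029a32966fe6) (.leaf (nat_lit 0x1029a32966fa6) (nat_lit 2051))
 (.leaf (nat_lit 0x1029a32966fe6) (nat_lit 1794))
) (.node (nat_lit 0x1029a37664fdc) (.leaf (nat_lit 0x1029a37664f9c) (nat_lit 768))
 (.leaf (nat_lit 0x1029a37664fdc) (nat_lit 516))
))) (.node (nat_lit 0x1029a37766f9c) (.node (nat_lit 0x1029a37764f9c) (.node (nat_lit 0x1029a37666fdc) (.leaf (nat_lit 0x1029a37666f9c) (nat_lit 1028))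
 (.leaf (nat_lit 0x1029a37666fdc) (nat_lit 1027))
) (.node (nat_lit 0x1029a37764fdc) (.leaf (nat_lit 0x1029a37764f9c) (nat_lit 1283))
 (.leaf (nat_lit 0x1029a37764fdc) (nat_lit 1028))
)) (.node (nat_lit 0x1029a3a864fa6) (.node (nat_lit 0x1029a37766fdc) (.leaf (nat_lit 0x1029a37766f9c) (nat_lit 771))
 (.leaf (nat_lit 0x1029a37766fdc) (nat_lit 1024))
) (.node (nat_lit 0x1029a3a864fe6) (.leaf (nat_lit 0x1029a3a864fa6) (nat_lit 1794))
 (.leaf (nat_lit 0x1029a3a864fe6) (nat_lit 2050))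
))))) (.node (nat_lit 0x1029ab2a64f6f) (.node (nat_lit 0x1029a3f664fdc) (.node (nat_lit 0x1029a3a964fe6) (.node (nat_lit 0x1029a3a866fe6) (.leaf (nat_lit 0x1029a3a866fa6) (nat_lit 1540))
 (.node (nat_lit 0x1029a3a964fa6) (.leaf (nat_lit 0x1029a3a866fe6) (nat_lit 1792))
 (.leaf (nat_lit 0x1029a3a964fa6) (nat_lit 1796))
)) (.node (nat_lit 0x1029a3a966fe6) (.node (nat_lit 0x1029a3a966fa6) (.leaf (nat_lit 0x1029a3a964fe6) (nat_lit 1796))
 (.leaf (nat_lit 0x1029a3a966fa6) (nat_lit 2050))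
) (.node (nat_lit 0x1029a3f664f9c) (.leaf (nat_lit 0x1029a3a966fe6) (nat_lit 1796))
 (.leaf (nat_lit 0x1029a3f664f9c) (nat_lit 1025))
))) (.node (nat_lit 0x1029a3f764fdc) (.node (nat_lit 0x1029a3f666fdc) (.node (nat_lit 0x1029a3f666f9c) (.leaf (nat_lit 0x1029a3f664fdc) (nat_lit 769))
 (.leaf (nat_lit 0x1029a3f666f9c) (nat_lit 1281))
) (.node (nat_lit 0x1029a3f764f9c) (.leaf (nat_lit 0x1029a3f666fdc) (nat_lit 1281))
 (.leaf (nat_lit 0x1029a3f764f9c) (nat_lit 1283))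
)) (.node (nat_lit 0x1029a3f766fdc) (.node (nat_lit 0x1029a3f766f9c) (.leaf (nat_lit 0x1029a3f764fdc) (nat_lit 1284))
 (.leaf (nat_lit 0x1029a3f766f9c) (nat_lit 772))
) (.node (nat_lit 0x1029ab2a64f2f) (.leaf (nat_lit 0x1029a3f766fdc) (nat_lit 1024))
 (.leaf (nat_lit 0x1029ab2a64f2f) (nat_lit 1795))
)))) (.node (nat_lit 0x1029ab6664f1d) (.node (nat_lit 0x1029ab2b64f2f) (.node (nat_lit 0x1029ab2a66f2f) (.leaf (nat_lit 0x1029ab2a64f6f) (nat_lit 1794))
 (.node (nat_lit 0x1029ab2a66f6f) (.leaf (nat_lit 0x1029ab2a66f2f) (nat_lit 1795))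
 (.leaf (nat_lit 0x1029ab2a66f6f) (nat_lit 1795))
)) (.node (nat_lit 0x1029ab2b66f2f) (.node (nat_lit 0x1029ab2b64f6f) (.leaf (nat_lit 0x1029ab2b64f2f) (nat_lit 1795))
 (.leaf (nat_lit 0x1029ab2b64f6f) (nat_lit 1539))
) (.node (nat_lit 0x1029ab2b66f6f) (.leaf (nat_lit 0x1029ab2b66f2f) (nat_lit 1539))
 (.leaf (nat_lit 0x1029ab2b66f6f) (nat_lit 1795))
))) (.node (nat_lit 0x1029ab6764f1d) (.node (nat_lit 0x1029ab6666f1d) (.node (nat_lit 0x1029ab6664f5d) (.leaf (nat_lit 0x1029ab6664f1d) (nat_lit 1283))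
 (.leaf (nat_lit 0x1029ab6664f5d) (nat_lit 1537))
) (.node (nat_lit 0x1029ab6666f5d) (.leaf (nat_lit 0x1029ab6666f1d) (nat_lit 1025))
 (.leaf (nat_lit 0x1029ab6666f5d) (nat_lit 1281))
)) (.node (nat_lit 0x1029ab6766f1d) (.node (nat_lit 0x1029ab6764f5d) (.leaf (nat_lit 0x1029ab6764f1d) (nat_lit 1538))
 (.leaf (nat_lit 0x1029ab6764f5d) (nat_lit 1282))
) (.node (nat_lit 0x1029ab6766f5d) (.leaf (nat_lit 0x1029ab6766f1d) (nat_lit 1538))
 (.leaf (nat_lit 0x1029ab6766f5d) (nat_lit 1537))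
)))))))) (.node (nat_lit 0x1029e37664f9c) (.node (nat_lit 0x1029be2b658af) (.node (nat_lit 0x1029b72967ca6) (.node (nat_lit 0x1029abe766f5d) (.node (nat_lit 0x1029abab66f6f) (.node (nat_lit 0x1029abaa66f6f) (.node (nat_lit 0x1029abaa64f6f) (.leaf (nat_lit 0x1029abaa64f2f) (nat_lit 1795))
 (.node (nat_lit 0x1029abaa66f2f) (.leaf (nat_lit 0x1029abaa64f6f) (nat_lit 1539))
 (.leaf (nat_lit 0x1029abaa66f2f) (nat_lit 1795))
)) (.node (nat_lit 0x1029abab64f6f) (.node (nat_lit 0x1029abab64f2f) (.leaf (nat_lit 0x1029abaa66f6f) (nat_lit 1539))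
 (.leaf (nat_lit 0x1029abab64f2f) (nat_lit 1794))
) (.node (nat_lit 0x1029abab66f2f) (.leaf (nat_lit 0x1029abab64f6f) (nat_lit 1538))
 (.leaf (nat_lit 0x1029abab66f2f) (nat_lit 1283))
))) (.node (nat_lit 0x1029abe666f5d) (.node (nat_lit 0x1029abe664f5d) (.node (nat_lit 0x1029abe664f1d) (.leaf (nat_lit 0x1029abab66f6f) (nat_lit 1539))
 (.leaf (nat_lit 0x1029abe664f1d) (nat_lit 1027))
) (.node (nat_lit 0x1029abe666f1d) (.leaf (nat_lit 0x1029abe664f5d) (nat_lit 1284))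
 (.leaf (nat_lit 0x1029abe666f1d) (nat_lit 772))
)) (.node (nat_lit 0x1029abe764f5d) (.node (nat_lit 0x1029abe764f1d) (.leaf (nat_lit 0x1029abe666f5d) (nat_lit 1024))
 (.leaf (nat_lit 0x1029abe764f1d) (nat_lit 1539))
) (.node (nat_lit 0x1029abe766f1d) (.leaf (nat_lit 0x1029abe764f5d) (nat_lit 1283))
 (.leaf (nat_lit 0x1029abe766f1d) (nat_lit 1536))
)))) (.node (nat_lit 0x1029b71367c88) (.node (nat_lit 0x1029b71267c88) (.node (nat_lit 0x1029b71265c88) (.leaf (nat_lit 0x1029abe766f5d) (nat_lit 1284))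
 (.node (nat_lit 0x1029b71265cc8) (.leaf (nat_lit 0x1029b71265c88) (nat_lit 2052))
 (.leaf (nat_lit 0x1029b71265cc8) (nat_lit 2052))
)) (.node (nat_lit 0x1029b71365c88) (.node (nat_lit 0x1029b71267cc8) (.leaf (nat_lit 0x1029b71267c88) (nat_lit 2052))
 (.leaf (nat_lit 0x1029b71267cc8) (nat_lit 2052))
) (.node (nat_lit 0x1029b71365cc8) (.leaf (nat_lit 0x1029b71365c88) (nat_lit 2052))
 (.leaf (nat_lit 0x1029b71365cc8) (nat_lit 2049))
))) (.node (nat_lit 0x1029b72867ca6) (.node (nat_lit 0x1029b72865ca6) (.node (nat_lit 0x1029b71367cc8) (.leaf (nat_lit 0x1029b71367c88) (nat_lit 2052))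
 (.leaf (nat_lit 0x1029b71367cc8) (nat_lit 2308))
) (.node (nat_lit 0x1029b72865ce6) (.leaf (nat_lit 0x1029b72865ca6) (nat_lit 1795))
 (.leaf (nat_lit 0x1029b72865ce6) (nat_lit 1795))
)) (.node (nat_lit 0x1029b72965ca6) (.node (nat_lit 0x1029b72867ce6) (.leaf (nat_lit 0x1029b72867ca6) (nat_lit 1795))
 (.leaf (nat_lit 0x1029b72867ce6) (nat_lit 1796))
) (.node (nat_lit 0x1029b72965ce6) (.leaf (nat_lit 0x1029b72965ca6) (nat_lit 1795))
 (.leaf (nat_lit 0x1029b72965ce6) (nat_lit 2048))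
))))) (.node (nat_lit 0x1029b7a965ce6) (.node (nat_lit 0x1029b79365cc8) (.node (nat_lit 0x1029b79265cc8) (.node (nat_lit 0x1029b72967ce6) (.leaf (nat_lit 0x1029b72967ca6) (nat_lit 1792))
 (.node (nat_lit 0x1029b79265c88) (.leaf (nat_lit 0x1029b72967ce6) (nat_lit 1539))
 (.leaf (nat_lit 0x1029b79265c88) (nat_lit 2052))
)) (.node (nat_lit 0x1029b79267cc8) (.node (nat_lit 0x1029b79267c88) (.leaf (nat_lit 0x1029b79265cc8) (nat_lit 2052))
 (.leaf (nat_lit 0x1029b79267c88) (nat_lit 2052))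
) (.node (nat_lit 0x1029b79365c88) (.leaf (nat_lit 0x1029b79267cc8) (nat_lit 2052))
 (.leaf (nat_lit 0x1029b79365c88) (nat_lit 2048))
))) (.node (nat_lit 0x1029b7a865ce6) (.node (nat_lit 0x1029b79367cc8) (.node (nat_lit 0x1029b79367c88) (.leaf (nat_lit 0x1029b79365cc8) (nat_lit 1796))
 (.leaf (nat_lit 0x1029b79367c88) (nat_lit 1796))
) (.node (nat_lit 0x1029b7a865ca6) (.leaf (nat_lit 0x1029b79367cc8) (nat_lit 2052))
 (.leaf (nat_lit 0x1029b7a865ca6) (nat_lit 1796))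
)) (.node (nat_lit 0x1029b7a867ce6) (.node (nat_lit 0x1029b7a867ca6) (.leaf (nat_lit 0x1029b7a865ce6) (nat_lit 2049))
 (.leaf (nat_lit 0x1029b7a867ca6) (nat_lit 1796))
) (.node (nat_lit 0x1029b7a965ca6) (.leaf (nat_lit 0x1029b7a867ce6) (nat_lit 1795))
 (.leaf (nat_lit 0x1029b7a965ca6) (nat_lit 1540))
)))) (.node (nat_lit 0x1029be1365888) (.node (nat_lit 0x1029be1265888) (.node (nat_lit 0x1029b7a967ca6) (.leaf (nat_lit 0x1029b7a965ce6) (nat_lit 1796))
 (.node (nat_lit 0x1029b7a967ce6) (.leaf (nat_lit 0x1029b7a967ca6) (nat_lit 1794))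
 (.leaf (nat_lit 0x1029b7a967ce6) (nat_lit 1793))
)) (.node (nat_lit 0x1029be1267888) (.node (nat_lit 0x1029be12658c8) (.leaf (nat_lit 0x1029be1265888) (nat_lit 2048))
 (.leaf (nat_lit 0x1029be12658c8) (nat_lit 1796))
) (.node (nat_lit 0x1029be12678c8) (.leaf (nat_lit 0x1029be1267888) (nat_lit 2051))
 (.leaf (nat_lit 0x1029be12678c8) (nat_lit 2308))
))) (.node (nat_lit 0x1029be2a658af) (.node (nat_lit 0x1029be1367888) (.node (nat_lit 0x1029be13658c8) (.leaf (nat_lit 0x1029be1365888) (nat_lit 2308))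
 (.leaf (nat_lit 0x1029be13658c8) (nat_lit 2052))
) (.node (nat_lit 0x1029be13678c8) (.leaf (nat_lit 0x1029be1367888) (nat_lit 2308))
 (.leaf (nat_lit 0x1029be13678c8) (nat_lit 2308))
)) (.node (nat_lit 0x1029be2a678af) (.node (nat_lit 0x1029be2a658ef) (.leaf (nat_lit 0x1029be2a658af) (nat_lit 1539))
 (.leaf (nat_lit 0x1029be2a658ef) (nat_lit 1537))
) (.node (nat_lit 0x1029be2a678ef) (.leaf (nat_lit 0x1029be2a678af) (nat_lit 1281))
 (.leaf (nat_lit 0x1029be2a678ef) (nat_lit 1537))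
)))))) (.node (nat_lit 0x1029d8766619c) (.node (nat_lit 0x1029beaa678ef) (.node (nat_lit 0x1029be92678c8) (.node (nat_lit 0x1029be2b678ef) (.node (nat_lit 0x1029be2b658ef) (.leaf (nat_lit 0x1029be2b658af) (nat_lit 1795))
 (.node (nat_lit 0x1029be2b678af) (.leaf (nat_lit 0x1029be2b658ef) (nat_lit 1793))
 (.leaf (nat_lit 0x1029be2b678af) (nat_lit 1539))
)) (.node (nat_lit 0x1029be92658c8) (.node (nat_lit 0x1029be9265888) (.leaf (nat_lit 0x1029be2b678ef) (nat_lit 1539))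
 (.leaf (nat_lit 0x1029be9265888) (nat_lit 2052))
) (.node (nat_lit 0x1029be9267888) (.leaf (nat_lit 0x1029be92658c8) (nat_lit 2049))
 (.leaf (nat_lit 0x1029be9267888) (nat_lit 2050))
))) (.node (nat_lit 0x1029be93678c8) (.node (nat_lit 0x1029be93658c8) (.node (nat_lit 0x1029be9365888) (.leaf (nat_lit 0x1029be92678c8) (nat_lit 2050))
 (.leaf (nat_lit 0x1029be9365888) (nat_lit 2308))
) (.node (nat_lit 0x1029be9367888) (.leaf (nat_lit 0x1029be93658c8) (nat_lit 2052))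
 (.leaf (nat_lit 0x1029be9367888) (nat_lit 2052))
)) (.node (nat_lit 0x1029beaa658ef) (.node (nat_lit 0x1029beaa658af) (.leaf (nat_lit 0x1029be93678c8) (nat_lit 2052))
 (.leaf (nat_lit 0x1029beaa658af) (nat_lit 1536))
) (.node (nat_lit 0x1029beaa678af) (.leaf (nat_lit 0x1029beaa658ef) (nat_lit 1283))
 (.leaf (nat_lit 0x1029beaa678af) (nat_lit 1027))
)))) (.node (nat_lit 0x1029d8666619d) (.node (nat_lit 0x1029beab678af) (.node (nat_lit 0x1029beab658af) (.leaf (nat_lit 0x1029beaa678ef) (nat_lit 1280))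
 (.node (nat_lit 0x1029beab658ef) (.leaf (nat_lit 0x1029beab658af) (nat_lit 1539))
 (.leaf (nat_lit 0x1029beab658ef) (nat_lit 1539))
)) (.node (nat_lit 0x1029d8666419d) (.node (nat_lit 0x1029beab678ef) (.leaf (nat_lit 0x1029beab678af) (nat_lit 1536))
 (.leaf (nat_lit 0x1029beab678ef) (nat_lit 1283))
) (.node (nat_lit 0x1029d866641dd) (.leaf (nat_lit 0x1029d8666419d) (nat_lit 1281))
 (.leaf (nat_lit 0x1029d866641dd) (nat_lit 1537))
))) (.node (nat_lit 0x1029d8676619d) (.node (nat_lit 0x1029d8676419d) (.node (nat_lit 0x1029d866661dd) (.leaf (nat_lit 0x1029d8666619d) (nat_lit 1281))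
 (.leaf (nat_lit 0x1029d866661dd) (nat_lit 1025))
) (.node (nat_lit 0x1029d867641dd) (.leaf (nat_lit 0x1029d8676419d) (nat_lit 1537))
 (.leaf (nat_lit 0x1029d867641dd) (nat_lit 1538))
)) (.node (nat_lit 0x1029d8766419c) (.node (nat_lit 0x1029d867661dd) (.leaf (nat_lit 0x1029d8676619d) (nat_lit 1282))
 (.leaf (nat_lit 0x1029d867661dd) (nat_lit 1536))
) (.node (nat_lit 0x1029d876641dc) (.leaf (nat_lit 0x1029d8766419c) (nat_lit 1539))
 (.leaf (nat_lit 0x1029d876641dc) (nat_lit 1282))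
))))) (.node (nat_lit 0x1029d8f6641dc) (.node (nat_lit 0x1029d8e6641dd) (.node (nat_lit 0x1029d877641dc) (.node (nat_lit 0x1029d876661dc) (.leaf (nat_lit 0x1029d8766619c) (nat_lit 1027))
 (.node (nat_lit 0x1029d8776419c) (.leaf (nat_lit 0x1029d876661dc) (nat_lit 1282))
 (.leaf (nat_lit 0x1029d8776419c) (nat_lit 1026))
)) (.node (nat_lit 0x1029d877661dc) (.node (nat_lit 0x1029d8776619c) (.leaf (nat_lit 0x1029d877641dc) (nat_lit 1280))
 (.leaf (nat_lit 0x1029d8776619c) (nat_lit 1024))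
) (.node (nat_lit 0x1029d8e66419d) (.leaf (nat_lit 0x1029d877661dc) (nat_lit 770))
 (.leaf (nat_lit 0x1029d8e66419d) (nat_lit 1026))
))) (.node (nat_lit 0x1029d8e7641dd) (.node (nat_lit 0x1029d8e6661dd) (.node (nat_lit 0x1029d8e66619d) (.leaf (nat_lit 0x1029d8e6641dd) (nat_lit 1280))
 (.leaf (nat_lit 0x1029d8e66619d) (nat_lit 1024))
) (.node (nat_lit 0x1029d8e76419d) (.leaf (nat_lit 0x1029d8e6661dd) (nat_lit 770))
 (.leaf (nat_lit 0x1029d8e76419d) (nat_lit 1282))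
)) (.node (nat_lit 0x1029d8e7661dd) (.node (nat_lit 0x1029d8e76619d) (.leaf (nat_lit 0x1029d8e7641dd) (nat_lit 1536))
 (.leaf (nat_lit 0x1029d8e76619d) (nat_lit 1537))
) (.node (nat_lit 0x1029d8f66419c) (.leaf (nat_lit 0x1029d8e7661dd) (nat_lit 1538))
 (.leaf (nat_lit 0x1029d8f66419c) (nat_lit 1538))
)))) (.node (nat_lit 0x1029e32864fa6) (.node (nat_lit 0x1029d8f76419c) (.node (nat_lit 0x1029d8f66619c) (.leaf (nat_lit 0x1029d8f6641dc) (nat_lit 1283))
 (.node (nat_lit 0x1029d8f6661dc) (.leaf (nat_lit 0x1029d8f66619c) (nat_lit 1282))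
 (.leaf (nat_lit 0x1029d8f6661dc) (nat_lit 1536))
)) (.node (nat_lit 0x1029d8f76619c) (.node (nat_lit 0x1029d8f7641dc) (.leaf (nat_lit 0x1029d8f76419c) (nat_lit 1281))
 (.leaf (nat_lit 0x1029d8f7641dc) (nat_lit 1537))
) (.node (nat_lit 0x1029d8f7661dc) (.leaf (nat_lit 0x1029d8f76619c) (nat_lit 1281))
 (.leaf (nat_lit 0x1029d8f7661dc) (nat_lit 1025))
))) (.node (nat_lit 0x1029e32964fa6) (.node (nat_lit 0x1029e32866fa6) (.node (nat_lit 0x1029e32864fe6) (.leaf (nat_lit 0x1029e32864fa6) (nat_lit 2051))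
 (.leaf (nat_lit 0x1029e32864fe6) (nat_lit 1795))
) (.node (nat_lit 0x1029e32866fe6) (.leaf (nat_lit 0x1029e32866fa6) (nat_lit 2050))
 (.leaf (nat_lit 0x1029e32866fe6) (nat_lit 2049))
)) (.node (nat_lit 0x1029e32966fa6) (.node (nat_lit 0x1029e32964fe6) (.leaf (nat_lit 0x1029e32964fa6) (nat_lit 2052))
 (.leaf (nat_lit 0x1029e32964fe6) (nat_lit 2049))
) (.node (nat_lit 0x1029e32966fe6) (.leaf (nat_lit 0x1029e32966fa6) (nat_lit 2051))
 (.leaf (nat_lit 0x1029e32966fe6) (nat_lit 2051))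
))))))) (.node (nat_lit 0x1029f71365c88) (.node (nat_lit 0x1029eb2b66f2f) (.node (nat_lit 0x1029e3a966fe6) (.node (nat_lit 0x1029e37766fdc) (.node (nat_lit 0x1029e37666fdc) (.node (nat_lit 0x1029e37664fdc) (.leaf (nat_lit 0x1029e37664f9c) (nat_lit 1283))
 (.node (nat_lit 0x1029e37666f9c) (.leaf (nat_lit 0x1029e37664fdc) (nat_lit 1281))
 (.leaf (nat_lit 0x1029e37666f9c) (nat_lit 1284))
)) (.node (nat_lit 0x1029e37764fdc) (.node (nat_lit 0x1029e37764f9c) (.leaf (nat_lit 0x1029e37666fdc) (nat_lit 1540))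
 (.leaf (nat_lit 0x1029e37764f9c) (nat_lit 1280))
) (.node (nat_lit 0x1029e37766f9c) (.leaf (nat_lit 0x1029e37764fdc) (nat_lit 1027))
 (.leaf (nat_lit 0x1029e37766f9c) (nat_lit 772))
))) (.node (nat_lit 0x1029e3a866fe6) (.node (nat_lit 0x1029e3a864fe6) (.node (nat_lit 0x1029e3a864fa6) (.leaf (nat_lit 0x1029e37766fdc) (nat_lit 1024))
 (.leaf (nat_lit 0x1029e3a864fa6) (nat_lit 2050))
) (.node (nat_lit 0x1029e3a866fa6) (.leaf (nat_lit 0x1029e3a864fe6) (nat_lit 2051))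
 (.leaf (nat_lit 0x1029e3a866fa6) (nat_lit 1795))
)) (.node (nat_lit 0x1029e3a964fe6) (.node (nat_lit 0x1029e3a964fa6) (.leaf (nat_lit 0x1029e3a866fe6) (nat_lit 1796))
 (.leaf (nat_lit 0x1029e3a964fa6) (nat_lit 2051))
) (.node (nat_lit 0x1029e3a966fa6) (.leaf (nat_lit 0x1029e3a964fe6) (nat_lit 1796))
 (.leaf (nat_lit 0x1029e3a966fa6) (nat_lit 1794))
)))) (.node (nat_lit 0x1029e3f766f9c) (.node (nat_lit 0x1029e3f666f9c) (.node (nat_lit 0x1029e3f664f9c) (.leaf (nat_lit 0x1029e3a966fe6) (nat_lit 1795))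
 (.node (nat_lit 0x1029e3f664fdc) (.leaf (nat_lit 0x1029e3f664f9c) (nat_lit 1280))
 (.leaf (nat_lit 0x1029e3f664fdc) (nat_lit 1028))
)) (.node (nat_lit 0x1029e3f764f9c) (.node (nat_lit 0x1029e3f666fdc) (.leaf (nat_lit 0x1029e3f666f9c) (nat_lit 1283))
 (.leaf (nat_lit 0x1029e3f666fdc) (nat_lit 1284))
) (.node (nat_lit 0x1029e3f764fdc) (.leaf (nat_lit 0x1029e3f764f9c) (nat_lit 1284))
 (.leaf (nat_lit 0x1029e3f764fdc) (nat_lit 1281))
))) (.node (nat_lit 0x1029eb2a66f2f) (.node (nat_lit 0x1029eb2a64f2f) (.node (nat_lit 0x1029e3f766fdc) (.leaf (nat_lit 0x1029e3f766f9c) (nat_lit 1025))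
 (.leaf (nat_lit 0x1029e3f766fdc) (nat_lit 1027))
) (.node (nat_lit 0x1029eb2a64f6f) (.leaf (nat_lit 0x1029eb2a64f2f) (nat_lit 2051))
 (.leaf (nat_lit 0x1029eb2a64f6f) (nat_lit 1795))
)) (.node (nat_lit 0x1029eb2b64f2f) (.node (nat_lit 0x1029eb2a66f6f) (.leaf (nat_lit 0x1029eb2a66f2f) (nat_lit 1795))
 (.leaf (nat_lit 0x1029eb2a66f6f) (nat_lit 2051))
) (.node (nat_lit 0x1029eb2b64f6f) (.leaf (nat_lit 0x1029eb2b64f2f) (nat_lit 1795))
 (.leaf (nat_lit 0x1029eb2b64f6f) (nat_lit 1794))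
))))) (.node (nat_lit 0x1029ebab64f6f) (.node (nat_lit 0x1029eb6764f5d) (.node (nat_lit 0x1029eb6664f5d) (.node (nat_lit 0x1029eb2b66f6f) (.leaf (nat_lit 0x1029eb2b66f2f) (nat_lit 1538))
 (.node (nat_lit 0x1029eb6664f1d) (.leaf (nat_lit 0x1029eb2b66f6f) (nat_lit 1794))
 (.leaf (nat_lit 0x1029eb6664f1d) (nat_lit 1281))
)) (.node (nat_lit 0x1029eb6666f5d) (.node (nat_lit 0x1029eb6666f1d) (.leaf (nat_lit 0x1029eb6664f5d) (nat_lit 1284))
 (.leaf (nat_lit 0x1029eb6666f1d) (nat_lit 1284))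
) (.node (nat_lit 0x1029eb6764f1d) (.leaf (nat_lit 0x1029eb6666f5d) (nat_lit 1536))
 (.leaf (nat_lit 0x1029eb6764f1d) (nat_lit 1025))
))) (.node (nat_lit 0x1029ebaa64f6f) (.node (nat_lit 0x1029eb6766f5d) (.node (nat_lit 0x1029eb6766f1d) (.leaf (nat_lit 0x1029eb6764f5d) (nat_lit 769))
 (.leaf (nat_lit 0x1029eb6766f1d) (nat_lit 1281))
) (.node (nat_lit 0x1029ebaa64f2f) (.leaf (nat_lit 0x1029eb6766f5d) (nat_lit 1539))
 (.leaf (nat_lit 0x1029ebaa64f2f) (nat_lit 1795))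
)) (.node (nat_lit 0x1029ebaa66f6f) (.node (nat_lit 0x1029ebaa66f2f) (.leaf (nat_lit 0x1029ebaa64f6f) (nat_lit 1539))
 (.leaf (nat_lit 0x1029ebaa66f2f) (nat_lit 1794))
) (.node (nat_lit 0x1029ebab64f2f) (.leaf (nat_lit 0x1029ebaa66f6f) (nat_lit 1795))
 (.leaf (nat_lit 0x1029ebab64f2f) (nat_lit 1795))
)))) (.node (nat_lit 0x1029ebe764f1d) (.node (nat_lit 0x1029ebe664f1d) (.node (nat_lit 0x1029ebab66f2f) (.leaf (nat_lit 0x1029ebab64f6f) (nat_lit 1794))
 (.node (nat_lit 0x1029ebab66f6f) (.leaf (nat_lit 0x1029ebab66f2f) (nat_lit 1795))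
 (.leaf (nat_lit 0x1029ebab66f6f) (nat_lit 1539))
)) (.node (nat_lit 0x1029ebe666f1d) (.node (nat_lit 0x1029ebe664f5d) (.leaf (nat_lit 0x1029ebe664f1d) (nat_lit 1028))
 (.leaf (nat_lit 0x1029ebe664f5d) (nat_lit 1280))
) (.node (nat_lit 0x1029ebe666f5d) (.leaf (nat_lit 0x1029ebe666f1d) (nat_lit 1284))
 (.leaf (nat_lit 0x1029ebe666f5d) (nat_lit 1536))
))) (.node (nat_lit 0x1029f71265c88) (.node (nat_lit 0x1029ebe766f1d) (.node (nat_lit 0x1029ebe764f5d) (.leaf (nat_lit 0x1029ebe764f1d) (nat_lit 768))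
 (.leaf (nat_lit 0x1029ebe764f5d) (nat_lit 516))
) (.node (nat_lit 0x1029ebe766f5d) (.leaf (nat_lit 0x1029ebe766f1d) (nat_lit 1028))
 (.leaf (nat_lit 0x1029ebe766f5d) (nat_lit 1283))
)) (.node (nat_lit 0x1029f71267c88) (.node (nat_lit 0x1029f71265cc8) (.leaf (nat_lit 0x1029f71265c88) (nat_lit 2051))
 (.leaf (nat_lit 0x1029f71265cc8) (nat_lit 2052))
) (.node (nat_lit 0x1029f71267cc8) (.leaf (nat_lit 0x1029f71267c88) (nat_lit 2048))
 (.leaf (nat_lit 0x1029f71267cc8) (nat_lit 1796))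
)))))) (.node (nat_lit 0x1029fe1267888) (.node (nat_lit 0x1029f79267cc8) (.node (nat_lit 0x1029f72867ce6) (.node (nat_lit 0x1029f71367cc8) (.node (nat_lit 0x1029f71365cc8) (.leaf (nat_lit 0x1029f71365c88) (nat_lit 2052))
 (.node (nat_lit 0x1029f71367c88) (.leaf (nat_lit 0x1029f71365cc8) (nat_lit 2308))
 (.leaf (nat_lit 0x1029f71367c88) (nat_lit 2305))
)) (.node (nat_lit 0x1029f72865ce6) (.node (nat_lit 0x1029f72865ca6) (.leaf (nat_lit 0x1029f71367cc8) (nat_lit 2052))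
 (.leaf (nat_lit 0x1029f72865ca6) (nat_lit 1796))
) (.node (nat_lit 0x1029f72867ca6) (.leaf (nat_lit 0x1029f72865ce6) (nat_lit 1540))
 (.leaf (nat_lit 0x1029f72867ca6) (nat_lit 1795))
))) (.node (nat_lit 0x1029f72967ce6) (.node (nat_lit 0x1029f72965ce6) (.node (nat_lit 0x1029f72965ca6) (.leaf (nat_lit 0x1029f72867ce6) (nat_lit 2048))
 (.leaf (nat_lit 0x1029f72965ca6) (nat_lit 1795))
) (.node (nat_lit 0x1029f72967ca6) (.leaf (nat_lit 0x1029f72965ce6) (nat_lit 1796))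
 (.leaf (nat_lit 0x1029f72967ca6) (nat_lit 1793))
)) (.node (nat_lit 0x1029f79265cc8) (.node (nat_lit 0x1029f79265c88) (.leaf (nat_lit 0x1029f72967ce6) (nat_lit 1796))
 (.leaf (nat_lit 0x1029f79265c88) (nat_lit 1796))
) (.node (nat_lit 0x1029f79267c88) (.leaf (nat_lit 0x1029f79265cc8) (nat_lit 2048))
 (.leaf (nat_lit 0x1029f79267c88) (nat_lit 2052))
)))) (.node (nat_lit 0x1029f7a867ca6) (.node (nat_lit 0x1029f79367c88) (.node (nat_lit 0x1029f79365c88) (.leaf (nat_lit 0x1029f79267cc8) (nat_lit 2049))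
 (.node (nat_lit 0x1029f79365cc8) (.leaf (nat_lit 0x1029f79365c88) (nat_lit 2052))
 (.leaf (nat_lit 0x1029f79365cc8) (nat_lit 2052))
)) (.node (nat_lit 0x1029f7a865ca6) (.node (nat_lit 0x1029f79367cc8) (.leaf (nat_lit 0x1029f79367c88) (nat_lit 2052))
 (.leaf (nat_lit 0x1029f79367cc8) (nat_lit 2052))
) (.node (nat_lit 0x1029f7a865ce6) (.leaf (nat_lit 0x1029f7a865ca6) (nat_lit 1795))
 (.leaf (nat_lit 0x1029f7a865ce6) (nat_lit 1539))
))) (.node (nat_lit 0x1029f7a967ca6) (.node (nat_lit 0x1029f7a965ca6) (.node (nat_lit 0x1029f7a867ce6) (.leaf (nat_lit 0x1029f7a867ca6) (nat_lit 1540))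
 (.leaf (nat_lit 0x1029f7a867ce6) (nat_lit 1792))
) (.node (nat_lit 0x1029f7a965ce6) (.leaf (nat_lit 0x1029f7a965ca6) (nat_lit 1796))
 (.leaf (nat_lit 0x1029f7a965ce6) (nat_lit 1795))
)) (.node (nat_lit 0x1029fe1265888) (.node (nat_lit 0x1029f7a967ce6) (.leaf (nat_lit 0x1029f7a967ca6) (nat_lit 1539))
 (.leaf (nat_lit 0x1029f7a967ce6) (nat_lit 1795))
) (.node (nat_lit 0x1029fe12658c8) (.leaf (nat_lit 0x1029fe1265888) (nat_lit 2052))
 (.leaf (nat_lit 0x1029fe12658c8) (nat_lit 2052))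
))))) (.node (nat_lit 0x1029fe92658c8) (.node (nat_lit 0x1029fe2a658ef) (.node (nat_lit 0x1029fe13658c8) (.node (nat_lit 0x1029fe12678c8) (.leaf (nat_lit 0x1029fe1267888) (nat_lit 2052))
 (.node (nat_lit 0x1029fe1365888) (.leaf (nat_lit 0x1029fe12678c8) (nat_lit 2052))
 (.leaf (nat_lit 0x1029fe1365888) (nat_lit 2305))
)) (.node (nat_lit 0x1029fe13678c8) (.node (nat_lit 0x1029fe1367888) (.leaf (nat_lit 0x1029fe13658c8) (nat_lit 2051))
 (.leaf (nat_lit 0x1029fe1367888) (nat_lit 2052))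
) (.node (nat_lit 0x1029fe2a658af) (.leaf (nat_lit 0x1029fe13678c8) (nat_lit 2306))
 (.leaf (nat_lit 0x1029fe2a658af) (nat_lit 1539))
))) (.node (nat_lit 0x1029fe2b658ef) (.node (nat_lit 0x1029fe2a678ef) (.node (nat_lit 0x1029fe2a678af) (.leaf (nat_lit 0x1029fe2a658ef) (nat_lit 1539))
 (.leaf (nat_lit 0x1029fe2a678af) (nat_lit 1283))
) (.node (nat_lit 0x1029fe2b658af) (.leaf (nat_lit 0x1029fe2a678ef) (nat_lit 1283))
 (.leaf (nat_lit 0x1029fe2b658af) (nat_lit 1795))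
)) (.node (nat_lit 0x1029fe2b678ef) (.node (nat_lit 0x1029fe2b678af) (.leaf (nat_lit 0x1029fe2b658ef) (nat_lit 1795))
 (.leaf (nat_lit 0x1029fe2b678af) (nat_lit 1539))
) (.node (nat_lit 0x1029fe9265888) (.leaf (nat_lit 0x1029fe2b678ef) (nat_lit 1537))
 (.leaf (nat_lit 0x1029fe9265888) (nat_lit 2052))
)))) (.node (nat_lit 0x1029feaa658af) (.node (nat_lit 0x1029fe9365888) (.node (nat_lit 0x1029fe9267888) (.leaf (nat_lit 0x1029fe92658c8) (nat_lit 2307))
 (.node (nat_lit 0x1029fe92678c8) (.leaf (nat_lit 0x1029fe9267888) (nat_lit 2308))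
 (.leaf (nat_lit 0x1029fe92678c8) (nat_lit 2052))
)) (.node (nat_lit 0x1029fe9367888) (.node (nat_lit 0x1029fe93658c8) (.leaf (nat_lit 0x1029fe9365888) (nat_lit 2052))
 (.leaf (nat_lit 0x1029fe93658c8) (nat_lit 2304))
) (.node (nat_lit 0x1029fe93678c8) (.leaf (nat_lit 0x1029fe9367888) (nat_lit 2052))
 (.leaf (nat_lit 0x1029fe93678c8) (nat_lit 2052))
))) (.node (nat_lit 0x1029feab658af) (.node (nat_lit 0x1029feaa678af) (.node (nat_lit 0x1029feaa658ef) (.leaf (nat_lit 0x1029feaa658af) (nat_lit 1536))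
 (.leaf (nat_lit 0x1029feaa658ef) (nat_lit 1283))
) (.node (nat_lit 0x1029feaa678ef) (.leaf (nat_lit 0x1029feaa678af) (nat_lit 1539))
 (.leaf (nat_lit 0x1029feaa678ef) (nat_lit 1537))
)) (.node (nat_lit 0x1029feab678af) (.node (nat_lit 0x1029feab658ef) (.leaf (nat_lit 0x1029feab658af) (nat_lit 1539))
 (.leaf (nat_lit 0x1029feab658ef) (nat_lit 1792))
) (.node (nat_lit 0x1029feab678ef) (.leaf (nat_lit 0x1029feab678af) (nat_lit 1536))
 (.leaf (nat_lit 0x1029feab678ef) (nat_lit 1283))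
)))))))))) (.node (nat_lit 0x10304d4c11632) (.node (nat_lit 0x102d6aba44bae) (.node (nat_lit 0x102d37ba45cae) (.node (nat_lit 0x102d22e544b14) (.node (nat_lit 0x102d10f546115) (.node (nat_lit 0x102d107546155) (.node (nat_lit 0x102d106546154) (.node (nat_lit 0x102d106446154) (.node (nat_lit 0x102d106444154) (.leaf (nat_lit 0x102d106444114) (nat_lit 1538))
 (.node (nat_lit 0x102d106446114) (.leaf (nat_lit 0x102d106444154) (nat_lit 1538))
 (.leaf (nat_lit 0x102d106446114) (nat_lit 1536))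
)) (.node (nat_lit 0x102d106544154) (.node (nat_lit 0x102d106544114) (.leaf (nat_lit 0x102d106446154) (nat_lit 1282))
 (.leaf (nat_lit 0x102d106544114) (nat_lit 1282))
) (.node (nat_lit 0x102d106546114) (.leaf (nat_lit 0x102d106544154) (nat_lit 1282))
 (.leaf (nat_lit 0x102d106546114) (nat_lit 1538))
))) (.node (nat_lit 0x102d107446155) (.node (nat_lit 0x102d107444155) (.node (nat_lit 0x102d107444115) (.leaf (nat_lit 0x102d106546154) (nat_lit 1538))
 (.leaf (nat_lit 0x102d107444115) (nat_lit 1025))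
) (.node (nat_lit 0x102d107446115) (.leaf (nat_lit 0x102d107444155) (nat_lit 1281))
 (.leaf (nat_lit 0x102d107446115) (nat_lit 1537))
)) (.node (nat_lit 0x102d107544155) (.node (nat_lit 0x102d107544115) (.leaf (nat_lit 0x102d107446155) (nat_lit 1281))
 (.leaf (nat_lit 0x102d107544115) (nat_lit 1537))
) (.node (nat_lit 0x102d107546115) (.leaf (nat_lit 0x102d107544155) (nat_lit 1281))
 (.leaf (nat_lit 0x102d107546115) (nat_lit 1537))
)))) (.node (nat_lit 0x102d10e546114) (.node (nat_lit 0x102d10e446114) (.node (nat_lit 0x102d10e444114) (.leaf (nat_lit 0x102d107546155) (nat_lit 1537))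
 (.node (nat_lit 0x102d10e444154) (.leaf (nat_lit 0x102d10e444114) (nat_lit 1538))
 (.leaf (nat_lit 0x102d10e444154) (nat_lit 1793))
)) (.node (nat_lit 0x102d10e544114) (.node (nat_lit 0x102d10e446154) (.leaf (nat_lit 0x102d10e446114) (nat_lit 1536))
 (.leaf (nat_lit 0x102d10e446154) (nat_lit 1282))
) (.node (nat_lit 0x102d10e544154) (.leaf (nat_lit 0x102d10e544114) (nat_lit 1537))
 (.leaf (nat_lit 0x102d10e544154) (nat_lit 1537))
))) (.node (nat_lit 0x102d10f446115) (.node (nat_lit 0x102d10f444115) (.node (nat_lit 0x102d10e546154) (.leaf (nat_lit 0x102d10e546114) (nat_lit 1539))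
 (.leaf (nat_lit 0x102d10e546154) (nat_lit 1538))
) (.node (nat_lit 0x102d10f444155) (.leaf (nat_lit 0x102d10f444115) (nat_lit 770))
 (.leaf (nat_lit 0x102d10f444155) (nat_lit 1024))
)) (.node (nat_lit 0x102d10f544115) (.node (nat_lit 0x102d10f446155) (.leaf (nat_lit 0x102d10f446115) (nat_lit 1280))
 (.leaf (nat_lit 0x102d10f446155) (nat_lit 1026))
) (.node (nat_lit 0x102d10f544155) (.leaf (nat_lit 0x102d10f544115) (nat_lit 1280))
 (.leaf (nat_lit 0x102d10f544155) (nat_lit 1026))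
))))) (.node (nat_lit 0x102d226544b54) (.node (nat_lit 0x102d223944b67) (.node (nat_lit 0x102d223844b67) (.node (nat_lit 0x102d10f546155) (.leaf (nat_lit 0x102d10f546115) (nat_lit 1282))
 (.node (nat_lit 0x102d223844b27) (.leaf (nat_lit 0x102d10f546155) (nat_lit 1282))
 (.leaf (nat_lit 0x102d223844b27) (nat_lit 1796))
)) (.node (nat_lit 0x102d223846b67) (.node (nat_lit 0x102d223846b27) (.leaf (nat_lit 0x102d223844b67) (nat_lit 2052))
 (.leaf (nat_lit 0x102d223846b27) (nat_lit 1796))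
) (.node (nat_lit 0x102d223944b27) (.leaf (nat_lit 0x102d223846b67) (nat_lit 1796))
 (.leaf (nat_lit 0x102d223944b27) (nat_lit 2052))
))) (.node (nat_lit 0x102d226444b54) (.node (nat_lit 0x102d223946b67) (.node (nat_lit 0x102d223946b27) (.leaf (nat_lit 0x102d223944b67) (nat_lit 1796))
 (.leaf (nat_lit 0x102d223946b27) (nat_lit 1792))
) (.node (nat_lit 0x102d226444b14) (.leaf (nat_lit 0x102d223946b67) (nat_lit 1540))
 (.leaf (nat_lit 0x102d226444b14) (nat_lit 1540))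
)) (.node (nat_lit 0x102d226446b54) (.node (nat_lit 0x102d226446b14) (.leaf (nat_lit 0x102d226444b54) (nat_lit 1537))
 (.leaf (nat_lit 0x102d226446b14) (nat_lit 1284))
) (.node (nat_lit 0x102d226544b14) (.leaf (nat_lit 0x102d226446b54) (nat_lit 1540))
 (.leaf (nat_lit 0x102d226544b14) (nat_lit 1284))
)))) (.node (nat_lit 0x102d22b944b27) (.node (nat_lit 0x102d22b844b27) (.node (nat_lit 0x102d226546b14) (.leaf (nat_lit 0x102d226544b54) (nat_lit 1281))
 (.node (nat_lit 0x102d226546b54) (.leaf (nat_lit 0x102d226546b14) (nat_lit 1540))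
 (.leaf (nat_lit 0x102d226546b54) (nat_lit 1284))
)) (.node (nat_lit 0x102d22b846b27) (.node (nat_lit 0x102d22b844b67) (.leaf (nat_lit 0x102d22b844b27) (nat_lit 1796))
 (.leaf (nat_lit 0x102d22b844b67) (nat_lit 2052))
) (.node (nat_lit 0x102d22b846b67) (.leaf (nat_lit 0x102d22b846b27) (nat_lit 2049))
 (.leaf (nat_lit 0x102d22b846b67) (nat_lit 2052))
))) (.node (nat_lit 0x102d22e444b14) (.node (nat_lit 0x102d22b946b27) (.node (nat_lit 0x102d22b944b67) (.leaf (nat_lit 0x102d22b944b27) (nat_lit 1796))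
 (.leaf (nat_lit 0x102d22b944b67) (nat_lit 1794))
) (.node (nat_lit 0x102d22b946b67) (.leaf (nat_lit 0x102d22b946b27) (nat_lit 2049))
 (.leaf (nat_lit 0x102d22b946b67) (nat_lit 1793))
)) (.node (nat_lit 0x102d22e446b14) (.node (nat_lit 0x102d22e444b54) (.leaf (nat_lit 0x102d22e444b14) (nat_lit 1536))
 (.leaf (nat_lit 0x102d22e444b54) (nat_lit 1284))
) (.node (nat_lit 0x102d22e446b54) (.leaf (nat_lit 0x102d22e446b14) (nat_lit 1283))
 (.leaf (nat_lit 0x102d22e446b54) (nat_lit 1536))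
)))))) (.node (nat_lit 0x102d2af446b95) (.node (nat_lit 0x102d2a7446bd5) (.node (nat_lit 0x102d2a3a46bee) (.node (nat_lit 0x102d22e546b54) (.node (nat_lit 0x102d22e544b54) (.leaf (nat_lit 0x102d22e544b14) (nat_lit 1280))
 (.node (nat_lit 0x102d22e546b14) (.leaf (nat_lit 0x102d22e544b54) (nat_lit 1028))
 (.leaf (nat_lit 0x102d22e546b14) (nat_lit 1539))
)) (.node (nat_lit 0x102d2a3a44bee) (.node (nat_lit 0x102d2a3a44bae) (.leaf (nat_lit 0x102d22e546b54) (nat_lit 1539))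
 (.leaf (nat_lit 0x102d2a3a44bae) (nat_lit 2049))
) (.node (nat_lit 0x102d2a3a46bae) (.leaf (nat_lit 0x102d2a3a44bee) (nat_lit 1796))
 (.leaf (nat_lit 0x102d2a3a46bae) (nat_lit 2052))
))) (.node (nat_lit 0x102d2a3b46bee) (.node (nat_lit 0x102d2a3b44bee) (.node (nat_lit 0x102d2a3b44bae) (.leaf (nat_lit 0x102d2a3a46bee) (nat_lit 1795))
 (.leaf (nat_lit 0x102d2a3b44bae) (nat_lit 2051))
) (.node (nat_lit 0x102d2a3b46bae) (.leaf (nat_lit 0x102d2a3b44bee) (nat_lit 2051))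
 (.leaf (nat_lit 0x102d2a3b46bae) (nat_lit 1540))
)) (.node (nat_lit 0x102d2a7444bd5) (.node (nat_lit 0x102d2a7444b95) (.leaf (nat_lit 0x102d2a3b46bee) (nat_lit 1792))
 (.leaf (nat_lit 0x102d2a7444b95) (nat_lit 1537))
) (.node (nat_lit 0x102d2a7446b95) (.leaf (nat_lit 0x102d2a7444bd5) (nat_lit 1281))
 (.leaf (nat_lit 0x102d2a7446b95) (nat_lit 1281))
)))) (.node (nat_lit 0x102d2aba46bae) (.node (nat_lit 0x102d2a7546b95) (.node (nat_lit 0x102d2a7544b95) (.leaf (nat_lit 0x102d2a7446bd5) (nat_lit 1025))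
 (.node (nat_lit 0x102d2a7544bd5) (.leaf (nat_lit 0x102d2a7544b95) (nat_lit 769))
 (.leaf (nat_lit 0x102d2a7544bd5) (nat_lit 1025))
)) (.node (nat_lit 0x102d2aba44bae) (.node (nat_lit 0x102d2a7546bd5) (.leaf (nat_lit 0x102d2a7546b95) (nat_lit 1537))
 (.leaf (nat_lit 0x102d2a7546bd5) (nat_lit 1538))
) (.node (nat_lit 0x102d2aba44bee) (.leaf (nat_lit 0x102d2aba44bae) (nat_lit 1796))
 (.leaf (nat_lit 0x102d2aba44bee) (nat_lit 1796))
))) (.node (nat_lit 0x102d2abb46bae) (.node (nat_lit 0x102d2abb44bae) (.node (nat_lit 0x102d2aba46bee) (.leaf (nat_lit 0x102d2aba46bae) (nat_lit 2050))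
 (.leaf (nat_lit 0x102d2aba46bee) (nat_lit 2051))
) (.node (nat_lit 0x102d2abb44bee) (.leaf (nat_lit 0x102d2abb44bae) (nat_lit 2052))
 (.leaf (nat_lit 0x102d2abb44bee) (nat_lit 1796))
)) (.node (nat_lit 0x102d2af444b95) (.node (nat_lit 0x102d2abb46bee) (.leaf (nat_lit 0x102d2abb46bae) (nat_lit 1793))
 (.leaf (nat_lit 0x102d2abb46bee) (nat_lit 2052))
) (.node (nat_lit 0x102d2af444bd5) (.leaf (nat_lit 0x102d2af444b95) (nat_lit 1280))
 (.leaf (nat_lit 0x102d2af444bd5) (nat_lit 1028))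
))))) (.node (nat_lit 0x102d373a45cee) (.node (nat_lit 0x102d371245cc8) (.node (nat_lit 0x102d2af544bd5) (.node (nat_lit 0x102d2af446bd5) (.leaf (nat_lit 0x102d2af446b95) (nat_lit 1024))
 (.node (nat_lit 0x102d2af544b95) (.leaf (nat_lit 0x102d2af446bd5) (nat_lit 772))
 (.leaf (nat_lit 0x102d2af544b95) (nat_lit 516))
)) (.node (nat_lit 0x102d2af546bd5) (.node (nat_lit 0x102d2af546b95) (.leaf (nat_lit 0x102d2af544bd5) (nat_lit 768))
 (.leaf (nat_lit 0x102d2af546b95) (nat_lit 1284))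
) (.node (nat_lit 0x102d371245c88) (.leaf (nat_lit 0x102d2af546bd5) (nat_lit 1282))
 (.leaf (nat_lit 0x102d371245c88) (nat_lit 2049))
))) (.node (nat_lit 0x102d371345cc8) (.node (nat_lit 0x102d371247cc8) (.node (nat_lit 0x102d371247c88) (.leaf (nat_lit 0x102d371245cc8) (nat_lit 1796))
 (.leaf (nat_lit 0x102d371247c88) (nat_lit 2052))
) (.node (nat_lit 0x102d371345c88) (.leaf (nat_lit 0x102d371247cc8) (nat_lit 2052))
 (.leaf (nat_lit 0x102d371345c88) (nat_lit 1796))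
)) (.node (nat_lit 0x102d371347cc8) (.node (nat_lit 0x102d371347c88) (.leaf (nat_lit 0x102d371345cc8) (nat_lit 2052))
 (.leaf (nat_lit 0x102d371347c88) (nat_lit 1796))
) (.node (nat_lit 0x102d373a45cae) (.leaf (nat_lit 0x102d371347cc8) (nat_lit 2052))
 (.leaf (nat_lit 0x102d373a45cae) (nat_lit 1795))
)))) (.node (nat_lit 0x102d379245c88) (.node (nat_lit 0x102d373b45cae) (.node (nat_lit 0x102d373a47cae) (.leaf (nat_lit 0x102d373a45cee) (nat_lit 1795))
 (.node (nat_lit 0x102d373a47cee) (.leaf (nat_lit 0x102d373a47cae) (nat_lit 1539))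
 (.leaf (nat_lit 0x102d373a47cee) (nat_lit 1795))
)) (.node (nat_lit 0x102d373b47cae) (.node (nat_lit 0x102d373b45cee) (.leaf (nat_lit 0x102d373b45cae) (nat_lit 1792))
 (.leaf (nat_lit 0x102d373b45cee) (nat_lit 1539))
) (.node (nat_lit 0x102d373b47cee) (.leaf (nat_lit 0x102d373b47cae) (nat_lit 1539))
 (.leaf (nat_lit 0x102d373b47cee) (nat_lit 1792))
))) (.node (nat_lit 0x102d379345c88) (.node (nat_lit 0x102d379247c88) (.node (nat_lit 0x102d379245cc8) (.leaf (nat_lit 0x102d379245c88) (nat_lit 1796))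
 (.leaf (nat_lit 0x102d379245cc8) (nat_lit 2048))
) (.node (nat_lit 0x102d379247cc8) (.leaf (nat_lit 0x102d379247c88) (nat_lit 2308))
 (.leaf (nat_lit 0x102d379247cc8) (nat_lit 2052))
)) (.node (nat_lit 0x102d379347c88) (.node (nat_lit 0x102d379345cc8) (.leaf (nat_lit 0x102d379345c88) (nat_lit 2052))
 (.leaf (nat_lit 0x102d379345cc8) (nat_lit 2308))
) (.node (nat_lit 0x102d379347cc8) (.leaf (nat_lit 0x102d379347c88) (nat_lit 2052))
 (.leaf (nat_lit 0x102d379347cc8) (nat_lit 2051))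
))))))) (.node (nat_lit 0x102d50e544114) (.node (nat_lit 0x102d3e9347888) (.node (nat_lit 0x102d3e13478c8) (.node (nat_lit 0x102d37bb47cee) (.node (nat_lit 0x102d37ba47cee) (.node (nat_lit 0x102d37ba45cee) (.leaf (nat_lit 0x102d37ba45cae) (nat_lit 2051))
 (.node (nat_lit 0x102d37ba47cae) (.leaf (nat_lit 0x102d37ba45cee) (nat_lit 2051))
 (.leaf (nat_lit 0x102d37ba47cae) (nat_lit 1793))
)) (.node (nat_lit 0x102d37bb45cee) (.node (nat_lit 0x102d37bb45cae) (.leaf (nat_lit 0x102d37ba47cee) (nat_lit 2051))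
 (.leaf (nat_lit 0x102d37bb45cae) (nat_lit 2050))
) (.node (nat_lit 0x102d37bb47cae) (.leaf (nat_lit 0x102d37bb45cee) (nat_lit 1793))
 (.leaf (nat_lit 0x102d37bb47cae) (nat_lit 1793))
))) (.node (nat_lit 0x102d3e12478c8) (.node (nat_lit 0x102d3e12458c8) (.node (nat_lit 0x102d3e1245888) (.leaf (nat_lit 0x102d37bb47cee) (nat_lit 2051))
 (.leaf (nat_lit 0x102d3e1245888) (nat_lit 2308))
) (.node (nat_lit 0x102d3e1247888) (.leaf (nat_lit 0x102d3e12458c8) (nat_lit 2050))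
 (.leaf (nat_lit 0x102d3e1247888) (nat_lit 1794))
)) (.node (nat_lit 0x102d3e13458c8) (.node (nat_lit 0x102d3e1345888) (.leaf (nat_lit 0x102d3e12478c8) (nat_lit 2048))
 (.leaf (nat_lit 0x102d3e1345888) (nat_lit 2052))
) (.node (nat_lit 0x102d3e1347888) (.leaf (nat_lit 0x102d3e13458c8) (nat_lit 2052))
 (.leaf (nat_lit 0x102d3e1347888) (nat_lit 2052))
)))) (.node (nat_lit 0x102d3e39478a7) (.node (nat_lit 0x102d3e38478a7) (.node (nat_lit 0x102d3e38458a7) (.leaf (nat_lit 0x102d3e13478c8) (nat_lit 2052))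
 (.node (nat_lit 0x102d3e38458e7) (.leaf (nat_lit 0x102d3e38458a7) (nat_lit 2050))
 (.leaf (nat_lit 0x102d3e38458e7) (nat_lit 1794))
)) (.node (nat_lit 0x102d3e39458a7) (.node (nat_lit 0x102d3e38478e7) (.leaf (nat_lit 0x102d3e38478a7) (nat_lit 2051))
 (.leaf (nat_lit 0x102d3e38478e7) (nat_lit 1795))
) (.node (nat_lit 0x102d3e39458e7) (.leaf (nat_lit 0x102d3e39458a7) (nat_lit 2051))
 (.leaf (nat_lit 0x102d3e39458e7) (nat_lit 1795))
))) (.node (nat_lit 0x102d3e9247888) (.node (nat_lit 0x102d3e9245888) (.node (nat_lit 0x102d3e39478e7) (.leaf (nat_lit 0x102d3e39478a7) (nat_lit 1794))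
 (.leaf (nat_lit 0x102d3e39478e7) (nat_lit 1794))
) (.node (nat_lit 0x102d3e92458c8) (.leaf (nat_lit 0x102d3e9245888) (nat_lit 2308))
 (.leaf (nat_lit 0x102d3e92458c8) (nat_lit 2308))
)) (.node (nat_lit 0x102d3e9345888) (.node (nat_lit 0x102d3e92478c8) (.leaf (nat_lit 0x102d3e9247888) (nat_lit 2049))
 (.leaf (nat_lit 0x102d3e92478c8) (nat_lit 2052))
) (.node (nat_lit 0x102d3e93458c8) (.leaf (nat_lit 0x102d3e9345888) (nat_lit 2050))
 (.leaf (nat_lit 0x102d3e93458c8) (nat_lit 2304))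
))))) (.node (nat_lit 0x102d506544154) (.node (nat_lit 0x102d3eb9458e7) (.node (nat_lit 0x102d3eb8458e7) (.node (nat_lit 0x102d3e93478c8) (.leaf (nat_lit 0x102d3e9347888) (nat_lit 2052))
 (.node (nat_lit 0x102d3eb8458a7) (.leaf (nat_lit 0x102d3e93478c8) (nat_lit 2052))
 (.leaf (nat_lit 0x102d3eb8458a7) (nat_lit 1795))
)) (.node (nat_lit 0x102d3eb8478e7) (.node (nat_lit 0x102d3eb8478a7) (.leaf (nat_lit 0x102d3eb8458e7) (nat_lit 2051))
 (.leaf (nat_lit 0x102d3eb8478a7) (nat_lit 1792))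
) (.node (nat_lit 0x102d3eb9458a7) (.leaf (nat_lit 0x102d3eb8478e7) (nat_lit 1540))
 (.leaf (nat_lit 0x102d3eb9458a7) (nat_lit 1796))
))) (.node (nat_lit 0x102d506444154) (.node (nat_lit 0x102d3eb9478e7) (.node (nat_lit 0x102d3eb9478a7) (.leaf (nat_lit 0x102d3eb9458e7) (nat_lit 1796))
 (.leaf (nat_lit 0x102d3eb9478a7) (nat_lit 1795))
) (.node (nat_lit 0x102d506444114) (.leaf (nat_lit 0x102d3eb9478e7) (nat_lit 1795))
 (.leaf (nat_lit 0x102d506444114) (nat_lit 1538))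
)) (.node (nat_lit 0x102d506446154) (.node (nat_lit 0x102d506446114) (.leaf (nat_lit 0x102d506444154) (nat_lit 1538))
 (.leaf (nat_lit 0x102d506446114) (nat_lit 1794))
) (.node (nat_lit 0x102d506544114) (.leaf (nat_lit 0x102d506446154) (nat_lit 1538))
 (.leaf (nat_lit 0x102d506544114) (nat_lit 1794))
)))) (.node (nat_lit 0x102d507544115) (.node (nat_lit 0x102d507444115) (.node (nat_lit 0x102d506546114) (.leaf (nat_lit 0x102d506544154) (nat_lit 1794))
 (.node (nat_lit 0x102d506546154) (.leaf (nat_lit 0x102d506546114) (nat_lit 1538))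
 (.leaf (nat_lit 0x102d506546154) (nat_lit 1794))
)) (.node (nat_lit 0x102d507446115) (.node (nat_lit 0x102d507444155) (.leaf (nat_lit 0x102d507444115) (nat_lit 1026))
 (.leaf (nat_lit 0x102d507444155) (nat_lit 1280))
) (.node (nat_lit 0x102d507446155) (.leaf (nat_lit 0x102d507446115) (nat_lit 1536))
 (.leaf (nat_lit 0x102d507446155) (nat_lit 1282))
))) (.node (nat_lit 0x102d50e444114) (.node (nat_lit 0x102d507546115) (.node (nat_lit 0x102d507544155) (.leaf (nat_lit 0x102d507544115) (nat_lit 1536))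
 (.leaf (nat_lit 0x102d507544155) (nat_lit 1282))
) (.node (nat_lit 0x102d507546155) (.leaf (nat_lit 0x102d507546115) (nat_lit 1538))
 (.leaf (nat_lit 0x102d507546155) (nat_lit 1538))
)) (.node (nat_lit 0x102d50e446114) (.node (nat_lit 0x102d50e444154) (.leaf (nat_lit 0x102d50e444114) (nat_lit 1538))
 (.leaf (nat_lit 0x102d50e444154) (nat_lit 1538))
) (.node (nat_lit 0x102d50e446154) (.leaf (nat_lit 0x102d50e446114) (nat_lit 1794))
 (.leaf (nat_lit 0x102d50e446154) (nat_lit 1538))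
)))))) (.node (nat_lit 0x102d62b846b27) (.node (nat_lit 0x102d623846b67) (.node (nat_lit 0x102d50f446155) (.node (nat_lit 0x102d50e546154) (.node (nat_lit 0x102d50e544154) (.leaf (nat_lit 0x102d50e544114) (nat_lit 1538))
 (.node (nat_lit 0x102d50e546114) (.leaf (nat_lit 0x102d50e544154) (nat_lit 1538))
 (.leaf (nat_lit 0x102d50e546114) (nat_lit 1538))
)) (.node (nat_lit 0x102d50f444155) (.node (nat_lit 0x102d50f444115) (.leaf (nat_lit 0x102d50e546154) (nat_lit 1794))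
 (.leaf (nat_lit 0x102d50f444115) (nat_lit 1282))
) (.node (nat_lit 0x102d50f446115) (.leaf (nat_lit 0x102d50f444155) (nat_lit 1536))
 (.leaf (nat_lit 0x102d50f446115) (nat_lit 1538))
))) (.node (nat_lit 0x102d50f546155) (.node (nat_lit 0x102d50f544155) (.node (nat_lit 0x102d50f544115) (.leaf (nat_lit 0x102d50f446155) (nat_lit 1538))
 (.leaf (nat_lit 0x102d50f544115) (nat_lit 1280))
) (.node (nat_lit 0x102d50f546115) (.leaf (nat_lit 0x102d50f544155) (nat_lit 1026))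
 (.leaf (nat_lit 0x102d50f546115) (nat_lit 1282))
)) (.node (nat_lit 0x102d623844b67) (.node (nat_lit 0x102d623844b27) (.leaf (nat_lit 0x102d50f546155) (nat_lit 1536))
 (.leaf (nat_lit 0x102d623844b27) (nat_lit 1796))
) (.node (nat_lit 0x102d623846b27) (.leaf (nat_lit 0x102d623844b67) (nat_lit 1540))
 (.leaf (nat_lit 0x102d623846b27) (nat_lit 1540))
)))) (.node (nat_lit 0x102d626446b14) (.node (nat_lit 0x102d623946b27) (.node (nat_lit 0x102d623944b27) (.leaf (nat_lit 0x102d623846b67) (nat_lit 1792))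
 (.node (nat_lit 0x102d623944b67) (.leaf (nat_lit 0x102d623944b27) (nat_lit 1796))
 (.leaf (nat_lit 0x102d623944b67) (nat_lit 1796))
)) (.node (nat_lit 0x102d626444b14) (.node (nat_lit 0x102d623946b67) (.leaf (nat_lit 0x102d623946b27) (nat_lit 1796))
 (.leaf (nat_lit 0x102d623946b67) (nat_lit 1540))
) (.node (nat_lit 0x102d626444b54) (.leaf (nat_lit 0x102d626444b14) (nat_lit 1028))
 (.leaf (nat_lit 0x102d626444b54) (nat_lit 1284))
))) (.node (nat_lit 0x102d626546b14) (.node (nat_lit 0x102d626544b14) (.node (nat_lit 0x102d626446b54) (.leaf (nat_lit 0x102d626446b14) (nat_lit 1280))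
 (.leaf (nat_lit 0x102d626446b54) (nat_lit 1028))
) (.node (nat_lit 0x102d626544b54) (.leaf (nat_lit 0x102d626544b14) (nat_lit 1284))
 (.leaf (nat_lit 0x102d626544b54) (nat_lit 1028))
)) (.node (nat_lit 0x102d62b844b27) (.node (nat_lit 0x102d626546b54) (.leaf (nat_lit 0x102d626546b14) (nat_lit 1536))
 (.leaf (nat_lit 0x102d626546b54) (nat_lit 1284))
) (.node (nat_lit 0x102d62b844b67) (.leaf (nat_lit 0x102d62b844b27) (nat_lit 1796))
 (.leaf (nat_lit 0x102d62b844b67) (nat_lit 1793))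
))))) (.node (nat_lit 0x102d6a3a44bee) (.node (nat_lit 0x102d62e444b54) (.node (nat_lit 0x102d62b944b67) (.node (nat_lit 0x102d62b846b67) (.leaf (nat_lit 0x102d62b846b27) (nat_lit 1796))
 (.node (nat_lit 0x102d62b944b27) (.leaf (nat_lit 0x102d62b846b67) (nat_lit 2052))
 (.leaf (nat_lit 0x102d62b944b27) (nat_lit 1796))
)) (.node (nat_lit 0x102d62b946b67) (.node (nat_lit 0x102d62b946b27) (.leaf (nat_lit 0x102d62b944b67) (nat_lit 1796))
 (.leaf (nat_lit 0x102d62b946b27) (nat_lit 1796))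
) (.node (nat_lit 0x102d62e444b14) (.leaf (nat_lit 0x102d62b946b67) (nat_lit 1793))
 (.leaf (nat_lit 0x102d62e444b14) (nat_lit 1281))
))) (.node (nat_lit 0x102d62e544b54) (.node (nat_lit 0x102d62e446b54) (.node (nat_lit 0x102d62e446b14) (.leaf (nat_lit 0x102d62e444b54) (nat_lit 1537))
 (.leaf (nat_lit 0x102d62e446b14) (nat_lit 1284))
) (.node (nat_lit 0x102d62e544b14) (.leaf (nat_lit 0x102d62e446b54) (nat_lit 1281))
 (.leaf (nat_lit 0x102d62e544b14) (nat_lit 1284))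
)) (.node (nat_lit 0x102d62e546b54) (.node (nat_lit 0x102d62e546b14) (.leaf (nat_lit 0x102d62e544b54) (nat_lit 1281))
 (.leaf (nat_lit 0x102d62e546b14) (nat_lit 1540))
) (.node (nat_lit 0x102d6a3a44bae) (.leaf (nat_lit 0x102d62e546b54) (nat_lit 1284))
 (.leaf (nat_lit 0x102d6a3a44bae) (nat_lit 2050))
)))) (.node (nat_lit 0x102d6a7444b95) (.node (nat_lit 0x102d6a3b44bae) (.node (nat_lit 0x102d6a3a46bae) (.leaf (nat_lit 0x102d6a3a44bee) (nat_lit 1796))
 (.node (nat_lit 0x102d6a3a46bee) (.leaf (nat_lit 0x102d6a3a46bae) (nat_lit 1795))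
 (.leaf (nat_lit 0x102d6a3a46bee) (nat_lit 1795))
)) (.node (nat_lit 0x102d6a3b46bae) (.node (nat_lit 0x102d6a3b44bee) (.leaf (nat_lit 0x102d6a3b44bae) (nat_lit 2051))
 (.leaf (nat_lit 0x102d6a3b44bee) (nat_lit 2051))
) (.node (nat_lit 0x102d6a3b46bee) (.leaf (nat_lit 0x102d6a3b46bae) (nat_lit 1795))
 (.leaf (nat_lit 0x102d6a3b46bee) (nat_lit 1796))
))) (.node (nat_lit 0x102d6a7544b95) (.node (nat_lit 0x102d6a7446b95) (.node (nat_lit 0x102d6a7444bd5) (.leaf (nat_lit 0x102d6a7444b95) (nat_lit 1794))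
 (.leaf (nat_lit 0x102d6a7444bd5) (nat_lit 1540))
) (.node (nat_lit 0x102d6a7446bd5) (.leaf (nat_lit 0x102d6a7446b95) (nat_lit 1281))
 (.leaf (nat_lit 0x102d6a7446bd5) (nat_lit 1025))
)) (.node (nat_lit 0x102d6a7546b95) (.node (nat_lit 0x102d6a7544bd5) (.leaf (nat_lit 0x102d6a7544b95) (nat_lit 1281))
 (.leaf (nat_lit 0x102d6a7544bd5) (nat_lit 1537))
) (.node (nat_lit 0x102d6a7546bd5) (.leaf (nat_lit 0x102d6a7546b95) (nat_lit 1537))
 (.leaf (nat_lit 0x102d6a7546bd5) (nat_lit 1538))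
)))))))) (.node (nat_lit 0x1030107410115) (.node (nat_lit 0x102d7e39458a7) (.node (nat_lit 0x102d773b47cae) (.node (nat_lit 0x102d6af546bd5) (.node (nat_lit 0x102d6abb46bee) (.node (nat_lit 0x102d6aba46bee) (.node (nat_lit 0x102d6aba44bee) (.leaf (nat_lit 0x102d6aba44bae) (nat_lit 2051))
 (.node (nat_lit 0x102d6aba46bae) (.leaf (nat_lit 0x102d6aba44bee) (nat_lit 2052))
 (.leaf (nat_lit 0x102d6aba46bae) (nat_lit 2051))
)) (.node (nat_lit 0x102d6abb44bee) (.node (nat_lit 0x102d6abb44bae) (.leaf (nat_lit 0x102d6aba46bee) (nat_lit 2051))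
 (.leaf (nat_lit 0x102d6abb44bae) (nat_lit 2051))
) (.node (nat_lit 0x102d6abb46bae) (.leaf (nat_lit 0x102d6abb44bee) (nat_lit 2051))
 (.leaf (nat_lit 0x102d6abb46bae) (nat_lit 2051))
))) (.node (nat_lit 0x102d6af446bd5) (.node (nat_lit 0x102d6af444bd5) (.node (nat_lit 0x102d6af444b95) (.leaf (nat_lit 0x102d6abb46bee) (nat_lit 2052))
 (.leaf (nat_lit 0x102d6af444b95) (nat_lit 1538))
) (.node (nat_lit 0x102d6af446b95) (.leaf (nat_lit 0x102d6af444bd5) (nat_lit 1540))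
 (.leaf (nat_lit 0x102d6af446b95) (nat_lit 1024))
)) (.node (nat_lit 0x102d6af544bd5) (.node (nat_lit 0x102d6af544b95) (.leaf (nat_lit 0x102d6af446bd5) (nat_lit 772))
 (.leaf (nat_lit 0x102d6af544b95) (nat_lit 1028))
) (.node (nat_lit 0x102d6af546b95) (.leaf (nat_lit 0x102d6af544bd5) (nat_lit 1280))
 (.leaf (nat_lit 0x102d6af546b95) (nat_lit 1284))
)))) (.node (nat_lit 0x102d771347c88) (.node (nat_lit 0x102d771247c88) (.node (nat_lit 0x102d771245c88) (.leaf (nat_lit 0x102d6af546bd5) (nat_lit 1536))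
 (.node (nat_lit 0x102d771245cc8) (.leaf (nat_lit 0x102d771245c88) (nat_lit 2048))
 (.leaf (nat_lit 0x102d771245cc8) (nat_lit 1795))
)) (.node (nat_lit 0x102d771345c88) (.node (nat_lit 0x102d771247cc8) (.leaf (nat_lit 0x102d771247c88) (nat_lit 1796))
 (.leaf (nat_lit 0x102d771247cc8) (nat_lit 2052))
) (.node (nat_lit 0x102d771345cc8) (.leaf (nat_lit 0x102d771345c88) (nat_lit 2052))
 (.leaf (nat_lit 0x102d771345cc8) (nat_lit 2052))
))) (.node (nat_lit 0x102d773a47cae) (.node (nat_lit 0x102d773a45cae) (.node (nat_lit 0x102d771347cc8) (.leaf (nat_lit 0x102d771347c88) (nat_lit 1540))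
 (.leaf (nat_lit 0x102d771347cc8) (nat_lit 1792))
) (.node (nat_lit 0x102d773a45cee) (.leaf (nat_lit 0x102d773a45cae) (nat_lit 1795))
 (.leaf (nat_lit 0x102d773a45cee) (nat_lit 1795))
)) (.node (nat_lit 0x102d773b45cae) (.node (nat_lit 0x102d773a47cee) (.leaf (nat_lit 0x102d773a47cae) (nat_lit 1794))
 (.leaf (nat_lit 0x102d773a47cee) (nat_lit 1795))
) (.node (nat_lit 0x102d773b45cee) (.leaf (nat_lit 0x102d773b45cae) (nat_lit 2049))
 (.leaf (nat_lit 0x102d773b45cee) (nat_lit 1795))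
))))) (.node (nat_lit 0x102d77bb45cee) (.node (nat_lit 0x102d779345cc8) (.node (nat_lit 0x102d779245cc8) (.node (nat_lit 0x102d773b47cee) (.leaf (nat_lit 0x102d773b47cae) (nat_lit 1795))
 (.node (nat_lit 0x102d779245c88) (.leaf (nat_lit 0x102d773b47cee) (nat_lit 1795))
 (.leaf (nat_lit 0x102d779245c88) (nat_lit 2052))
)) (.node (nat_lit 0x102d779247cc8) (.node (nat_lit 0x102d779247c88) (.leaf (nat_lit 0x102d779245cc8) (nat_lit 1796))
 (.leaf (nat_lit 0x102d779247c88) (nat_lit 2052))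
) (.node (nat_lit 0x102d779345c88) (.leaf (nat_lit 0x102d779247cc8) (nat_lit 2308))
 (.leaf (nat_lit 0x102d779345c88) (nat_lit 2308))
))) (.node (nat_lit 0x102d77ba45cee) (.node (nat_lit 0x102d779347cc8) (.node (nat_lit 0x102d779347c88) (.leaf (nat_lit 0x102d779345cc8) (nat_lit 2052))
 (.leaf (nat_lit 0x102d779347c88) (nat_lit 1793))
) (.node (nat_lit 0x102d77ba45cae) (.leaf (nat_lit 0x102d779347cc8) (nat_lit 2052))
 (.leaf (nat_lit 0x102d77ba45cae) (nat_lit 1795))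
)) (.node (nat_lit 0x102d77ba47cee) (.node (nat_lit 0x102d77ba47cae) (.leaf (nat_lit 0x102d77ba45cee) (nat_lit 2048))
 (.leaf (nat_lit 0x102d77ba47cae) (nat_lit 1795))
) (.node (nat_lit 0x102d77bb45cae) (.leaf (nat_lit 0x102d77ba47cee) (nat_lit 1795))
 (.leaf (nat_lit 0x102d77bb45cae) (nat_lit 1795))
)))) (.node (nat_lit 0x102d7e1345888) (.node (nat_lit 0x102d7e1245888) (.node (nat_lit 0x102d77bb47cae) (.leaf (nat_lit 0x102d77bb45cee) (nat_lit 1795))
 (.node (nat_lit 0x102d77bb47cee) (.leaf (nat_lit 0x102d77bb47cae) (nat_lit 1795))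
 (.leaf (nat_lit 0x102d77bb47cee) (nat_lit 1795))
)) (.node (nat_lit 0x102d7e1247888) (.node (nat_lit 0x102d7e12458c8) (.leaf (nat_lit 0x102d7e1245888) (nat_lit 2050))
 (.leaf (nat_lit 0x102d7e12458c8) (nat_lit 2052))
) (.node (nat_lit 0x102d7e12478c8) (.leaf (nat_lit 0x102d7e1247888) (nat_lit 2050))
 (.leaf (nat_lit 0x102d7e12478c8) (nat_lit 2308))
))) (.node (nat_lit 0x102d7e38458a7) (.node (nat_lit 0x102d7e1347888) (.node (nat_lit 0x102d7e13458c8) (.leaf (nat_lit 0x102d7e1345888) (nat_lit 2048))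
 (.leaf (nat_lit 0x102d7e13458c8) (nat_lit 1796))
) (.node (nat_lit 0x102d7e13478c8) (.leaf (nat_lit 0x102d7e1347888) (nat_lit 2051))
 (.leaf (nat_lit 0x102d7e13478c8) (nat_lit 2050))
)) (.node (nat_lit 0x102d7e38478a7) (.node (nat_lit 0x102d7e38458e7) (.leaf (nat_lit 0x102d7e38458a7) (nat_lit 1795))
 (.leaf (nat_lit 0x102d7e38458e7) (nat_lit 1795))
) (.node (nat_lit 0x102d7e38478e7) (.leaf (nat_lit 0x102d7e38478a7) (nat_lit 2051))
 (.leaf (nat_lit 0x102d7e38478e7) (nat_lit 1795))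
)))))) (.node (nat_lit 0x10300d4e1363b) (.node (nat_lit 0x102d7eb8478e7) (.node (nat_lit 0x102d7e92478c8) (.node (nat_lit 0x102d7e39478e7) (.node (nat_lit 0x102d7e39458e7) (.leaf (nat_lit 0x102d7e39458a7) (nat_lit 2051))
 (.node (nat_lit 0x102d7e39478a7) (.leaf (nat_lit 0x102d7e39458e7) (nat_lit 1795))
 (.leaf (nat_lit 0x102d7e39478a7) (nat_lit 1539))
)) (.node (nat_lit 0x102d7e92458c8) (.node (nat_lit 0x102d7e9245888) (.leaf (nat_lit 0x102d7e39478e7) (nat_lit 1792))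
 (.leaf (nat_lit 0x102d7e9245888) (nat_lit 2052))
) (.node (nat_lit 0x102d7e9247888) (.leaf (nat_lit 0x102d7e92458c8) (nat_lit 2052))
 (.leaf (nat_lit 0x102d7e9247888) (nat_lit 2052))
))) (.node (nat_lit 0x102d7e93478c8) (.node (nat_lit 0x102d7e93458c8) (.node (nat_lit 0x102d7e9345888) (.leaf (nat_lit 0x102d7e92478c8) (nat_lit 2052))
 (.leaf (nat_lit 0x102d7e9345888) (nat_lit 2052))
) (.node (nat_lit 0x102d7e9347888) (.leaf (nat_lit 0x102d7e93458c8) (nat_lit 2052))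
 (.leaf (nat_lit 0x102d7e9347888) (nat_lit 2306))
)) (.node (nat_lit 0x102d7eb8458e7) (.node (nat_lit 0x102d7eb8458a7) (.leaf (nat_lit 0x102d7e93478c8) (nat_lit 2050))
 (.leaf (nat_lit 0x102d7eb8458a7) (nat_lit 2051))
) (.node (nat_lit 0x102d7eb8478a7) (.leaf (nat_lit 0x102d7eb8458e7) (nat_lit 1796))
 (.leaf (nat_lit 0x102d7eb8478a7) (nat_lit 2052))
)))) (.node (nat_lit 0x10300d4c13632) (.node (nat_lit 0x102d7eb9478a7) (.node (nat_lit 0x102d7eb9458a7) (.leaf (nat_lit 0x102d7eb8478e7) (nat_lit 1796))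
 (.node (nat_lit 0x102d7eb9458e7) (.leaf (nat_lit 0x102d7eb9458a7) (nat_lit 1796))
 (.leaf (nat_lit 0x102d7eb9458e7) (nat_lit 2052))
)) (.node (nat_lit 0x10300d4c11632) (.node (nat_lit 0x102d7eb9478e7) (.leaf (nat_lit 0x102d7eb9478a7) (nat_lit 1793))
 (.leaf (nat_lit 0x102d7eb9478e7) (nat_lit 2052))
) (.node (nat_lit 0x10300d4c11672) (.leaf (nat_lit 0x10300d4c11632) (nat_lit 1796))
 (.leaf (nat_lit 0x10300d4c11672) (nat_lit 1540))
))) (.node (nat_lit 0x10300d4d13632) (.node (nat_lit 0x10300d4d11632) (.node (nat_lit 0x10300d4c13672) (.leaf (nat_lit 0x10300d4c13632) (nat_lit 1796))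
 (.leaf (nat_lit 0x10300d4c13672) (nat_lit 1540))
) (.node (nat_lit 0x10300d4d11672) (.leaf (nat_lit 0x10300d4d11632) (nat_lit 1537))
 (.leaf (nat_lit 0x10300d4d11672) (nat_lit 1796))
)) (.node (nat_lit 0x10300d4e1163b) (.node (nat_lit 0x10300d4d13672) (.leaf (nat_lit 0x10300d4d13632) (nat_lit 1536))
 (.leaf (nat_lit 0x10300d4d13672) (nat_lit 1284))
) (.node (nat_lit 0x10300d4e1167b) (.leaf (nat_lit 0x10300d4e1163b) (nat_lit 1796))
 (.leaf (nat_lit 0x10300d4e1167b) (nat_lit 1796))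
))))) (.node (nat_lit 0x10300dce1167b) (.node (nat_lit 0x10300dcc11672) (.node (nat_lit 0x10300d4f1167b) (.node (nat_lit 0x10300d4e1367b) (.leaf (nat_lit 0x10300d4e1363b) (nat_lit 2049))
 (.node (nat_lit 0x10300d4f1163b) (.leaf (nat_lit 0x10300d4e1367b) (nat_lit 1796))
 (.leaf (nat_lit 0x10300d4f1163b) (nat_lit 1796))
)) (.node (nat_lit 0x10300d4f1367b) (.node (nat_lit 0x10300d4f1363b) (.leaf (nat_lit 0x10300d4f1167b) (nat_lit 2052))
 (.leaf (nat_lit 0x10300d4f1363b) (nat_lit 1796))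
) (.node (nat_lit 0x10300dcc11632) (.leaf (nat_lit 0x10300d4f1367b) (nat_lit 2052))
 (.leaf (nat_lit 0x10300dcc11632) (nat_lit 1540))
))) (.node (nat_lit 0x10300dcd11672) (.node (nat_lit 0x10300dcc13672) (.node (nat_lit 0x10300dcc13632) (.leaf (nat_lit 0x10300dcc11672) (nat_lit 1796))
 (.leaf (nat_lit 0x10300dcc13632) (nat_lit 1795))
) (.node (nat_lit 0x10300dcd11632) (.leaf (nat_lit 0x10300dcc13672) (nat_lit 1796))
 (.leaf (nat_lit 0x10300dcd11632) (nat_lit 1284))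
)) (.node (nat_lit 0x10300dcd13672) (.node (nat_lit 0x10300dcd13632) (.leaf (nat_lit 0x10300dcd11672) (nat_lit 1536))
 (.leaf (nat_lit 0x10300dcd13632) (nat_lit 1796))
) (.node (nat_lit 0x10300dce1163b) (.leaf (nat_lit 0x10300dcd13672) (nat_lit 1539))
 (.leaf (nat_lit 0x10300dce1163b) (nat_lit 1796))
)))) (.node (nat_lit 0x1030101010101) (.node (nat_lit 0x10300dcf1163b) (.node (nat_lit 0x10300dce1363b) (.leaf (nat_lit 0x10300dce1167b) (nat_lit 2051))
 (.node (nat_lit 0x10300dce1367b) (.leaf (nat_lit 0x10300dce1363b) (nat_lit 1796))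
 (.leaf (nat_lit 0x10300dce1367b) (nat_lit 1796))
)) (.node (nat_lit 0x10300dcf1363b) (.node (nat_lit 0x10300dcf1167b) (.leaf (nat_lit 0x10300dcf1163b) (nat_lit 2052))
 (.leaf (nat_lit 0x10300dcf1167b) (nat_lit 1796))
) (.node (nat_lit 0x10300dcf1367b) (.leaf (nat_lit 0x10300dcf1363b) (nat_lit 1540))
 (.leaf (nat_lit 0x10300dcf1367b) (nat_lit 1796))
))) (.node (nat_lit 0x1030101110101) (.node (nat_lit 0x1030101012101) (.node (nat_lit 0x1030101010141) (.leaf (nat_lit 0x1030101010101) (nat_lit 1027))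
 (.leaf (nat_lit 0x1030101010141) (nat_lit 1283))
) (.node (nat_lit 0x1030101012141) (.leaf (nat_lit 0x1030101012101) (nat_lit 1540))
 (.leaf (nat_lit 0x1030101012141) (nat_lit 1284))
)) (.node (nat_lit 0x1030101112101) (.node (nat_lit 0x1030101110141) (.leaf (nat_lit 0x1030101110101) (nat_lit 1539))
 (.leaf (nat_lit 0x1030101110141) (nat_lit 1283))
) (.node (nat_lit 0x1030101112141) (.leaf (nat_lit 0x1030101112101) (nat_lit 1796))
 (.leaf (nat_lit 0x1030101112141) (nat_lit 1540))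
))))))) (.node (nat_lit 0x10302a4f10bbb) (.node (nat_lit 0x1030181112181) (.node (nat_lit 0x1030109112141) (.node (nat_lit 0x1030107512155) (.node (nat_lit 0x1030107412155) (.node (nat_lit 0x1030107410155) (.leaf (nat_lit 0x1030107410115) (nat_lit 1539))
 (.node (nat_lit 0x1030107412115) (.leaf (nat_lit 0x1030107410155) (nat_lit 1539))
 (.leaf (nat_lit 0x1030107412115) (nat_lit 1539))
)) (.node (nat_lit 0x1030107510155) (.node (nat_lit 0x1030107510115) (.leaf (nat_lit 0x1030107412155) (nat_lit 1539))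
 (.leaf (nat_lit 0x1030107510115) (nat_lit 1539))
) (.node (nat_lit 0x1030107512115) (.leaf (nat_lit 0x1030107510155) (nat_lit 1283))
 (.leaf (nat_lit 0x1030107512115) (nat_lit 1283))
))) (.node (nat_lit 0x1030109012141) (.node (nat_lit 0x1030109010141) (.node (nat_lit 0x1030109010101) (.leaf (nat_lit 0x1030107512155) (nat_lit 1539))
 (.leaf (nat_lit 0x1030109010101) (nat_lit 771))
) (.node (nat_lit 0x1030109012101) (.leaf (nat_lit 0x1030109010141) (nat_lit 1027))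
 (.leaf (nat_lit 0x1030109012101) (nat_lit 1284))
)) (.node (nat_lit 0x1030109110141) (.node (nat_lit 0x1030109110101) (.leaf (nat_lit 0x1030109012141) (nat_lit 1028))
 (.leaf (nat_lit 0x1030109110101) (nat_lit 1283))
) (.node (nat_lit 0x1030109112101) (.leaf (nat_lit 0x1030109110141) (nat_lit 1027))
 (.leaf (nat_lit 0x1030109112101) (nat_lit 1540))
)))) (.node (nat_lit 0x103010f512115) (.node (nat_lit 0x103010f412115) (.node (nat_lit 0x103010f410115) (.leaf (nat_lit 0x1030109112141) (nat_lit 1284))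
 (.node (nat_lit 0x103010f410155) (.leaf (nat_lit 0x103010f410115) (nat_lit 1539))
 (.leaf (nat_lit 0x103010f410155) (nat_lit 1283))
)) (.node (nat_lit 0x103010f510115) (.node (nat_lit 0x103010f412155) (.leaf (nat_lit 0x103010f412115) (nat_lit 1539))
 (.leaf (nat_lit 0x103010f412155) (nat_lit 1283))
) (.node (nat_lit 0x103010f510155) (.leaf (nat_lit 0x103010f510115) (nat_lit 1538))
 (.leaf (nat_lit 0x103010f510155) (nat_lit 1282))
))) (.node (nat_lit 0x1030181012181) (.node (nat_lit 0x1030181010181) (.node (nat_lit 0x103010f512155) (.leaf (nat_lit 0x103010f512115) (nat_lit 1027))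
 (.leaf (nat_lit 0x103010f512155) (nat_lit 1283))
) (.node (nat_lit 0x10301810101c1) (.leaf (nat_lit 0x1030181010181) (nat_lit 1795))
 (.leaf (nat_lit 0x10301810101c1) (nat_lit 1539))
)) (.node (nat_lit 0x1030181110181) (.node (nat_lit 0x10301810121c1) (.leaf (nat_lit 0x1030181012181) (nat_lit 1795))
 (.leaf (nat_lit 0x10301810121c1) (nat_lit 1539))
) (.node (nat_lit 0x10301811101c1) (.leaf (nat_lit 0x1030181110181) (nat_lit 1283))
 (.leaf (nat_lit 0x10301811101c1) (nat_lit 1539))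
))))) (.node (nat_lit 0x10301891101c1) (.node (nat_lit 0x10301867101dd) (.node (nat_lit 0x10301866101dd) (.node (nat_lit 0x10301811121c1) (.leaf (nat_lit 0x1030181112181) (nat_lit 1795))
 (.node (nat_lit 0x103018661019d) (.leaf (nat_lit 0x10301811121c1) (nat_lit 1539))
 (.leaf (nat_lit 0x103018661019d) (nat_lit 1282))
)) (.node (nat_lit 0x10301866121dd) (.node (nat_lit 0x103018661219d) (.leaf (nat_lit 0x10301866101dd) (nat_lit 1282))
 (.leaf (nat_lit 0x103018661219d) (nat_lit 1282))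
) (.node (nat_lit 0x103018671019d) (.leaf (nat_lit 0x10301866121dd) (nat_lit 1027))
 (.leaf (nat_lit 0x103018671019d) (nat_lit 1283))
))) (.node (nat_lit 0x10301890101c1) (.node (nat_lit 0x10301867121dd) (.node (nat_lit 0x103018671219d) (.leaf (nat_lit 0x10301867101dd) (nat_lit 1536))
 (.leaf (nat_lit 0x103018671219d) (nat_lit 1283))
) (.node (nat_lit 0x1030189010181) (.leaf (nat_lit 0x10301867121dd) (nat_lit 1538))
 (.leaf (nat_lit 0x1030189010181) (nat_lit 1539))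
)) (.node (nat_lit 0x10301890121c1) (.node (nat_lit 0x1030189012181) (.leaf (nat_lit 0x10301890101c1) (nat_lit 1284))
 (.leaf (nat_lit 0x1030189012181) (nat_lit 1540))
) (.node (nat_lit 0x1030189110181) (.leaf (nat_lit 0x10301890121c1) (nat_lit 1283))
 (.leaf (nat_lit 0x1030189110181) (nat_lit 1027))
)))) (.node (nat_lit 0x103018e71019d) (.node (nat_lit 0x103018e61019d) (.node (nat_lit 0x1030189112181) (.leaf (nat_lit 0x10301891101c1) (nat_lit 1280))
 (.node (nat_lit 0x10301891121c1) (.leaf (nat_lit 0x1030189112181) (nat_lit 1536))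
 (.leaf (nat_lit 0x10301891121c1) (nat_lit 1283))
)) (.node (nat_lit 0x103018e61219d) (.node (nat_lit 0x103018e6101dd) (.leaf (nat_lit 0x103018e61019d) (nat_lit 1283))
 (.leaf (nat_lit 0x103018e6101dd) (nat_lit 1282))
) (.node (nat_lit 0x103018e6121dd) (.leaf (nat_lit 0x103018e61219d) (nat_lit 1026))
 (.leaf (nat_lit 0x103018e6121dd) (nat_lit 1281))
))) (.node (nat_lit 0x10302a4e10bbb) (.node (nat_lit 0x103018e71219d) (.node (nat_lit 0x103018e7101dd) (.leaf (nat_lit 0x103018e71019d) (nat_lit 1538))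
 (.leaf (nat_lit 0x103018e7101dd) (nat_lit 1282))
) (.node (nat_lit 0x103018e7121dd) (.leaf (nat_lit 0x103018e71219d) (nat_lit 1537))
 (.leaf (nat_lit 0x103018e7121dd) (nat_lit 1539))
)) (.node (nat_lit 0x10302a4e12bbb) (.node (nat_lit 0x10302a4e10bfb) (.leaf (nat_lit 0x10302a4e10bbb) (nat_lit 2051))
 (.leaf (nat_lit 0x10302a4e10bfb) (nat_lit 2050))
) (.node (nat_lit 0x10302a4e12bfb) (.leaf (nat_lit 0x10302a4e12bbb) (nat_lit 2049))
 (.leaf (nat_lit 0x10302a4e12bfb) (nat_lit 2308))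
)))))) (.node (nat_lit 0x10302b4c12f32) (.node (nat_lit 0x10302ace12bfb) (.node (nat_lit 0x10302a7412bd5) (.node (nat_lit 0x10302a4f12bfb) (.node (nat_lit 0x10302a4f10bfb) (.leaf (nat_lit 0x10302a4f10bbb) (nat_lit 2052))
 (.node (nat_lit 0x10302a4f12bbb) (.leaf (nat_lit 0x10302a4f10bfb) (nat_lit 1794))
 (.leaf (nat_lit 0x10302a4f12bbb) (nat_lit 2050))
)) (.node (nat_lit 0x10302a7410bd5) (.node (nat_lit 0x10302a7410b95) (.leaf (nat_lit 0x10302a4f12bfb) (nat_lit 2049))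
 (.leaf (nat_lit 0x10302a7410b95) (nat_lit 1283))
) (.node (nat_lit 0x10302a7412b95) (.leaf (nat_lit 0x10302a7410bd5) (nat_lit 1281))
 (.leaf (nat_lit 0x10302a7412b95) (nat_lit 1025))
))) (.node (nat_lit 0x10302a7512bd5) (.node (nat_lit 0x10302a7510bd5) (.node (nat_lit 0x10302a7510b95) (.leaf (nat_lit 0x10302a7412bd5) (nat_lit 1281))
 (.leaf (nat_lit 0x10302a7510b95) (nat_lit 1537))
) (.node (nat_lit 0x10302a7512b95) (.leaf (nat_lit 0x10302a7510bd5) (nat_lit 1539))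
 (.leaf (nat_lit 0x10302a7512b95) (nat_lit 1540))
)) (.node (nat_lit 0x10302ace10bfb) (.node (nat_lit 0x10302ace10bbb) (.leaf (nat_lit 0x10302a7512bd5) (nat_lit 1281))
 (.leaf (nat_lit 0x10302ace10bbb) (nat_lit 2052))
) (.node (nat_lit 0x10302ace12bbb) (.leaf (nat_lit 0x10302ace10bfb) (nat_lit 2050))
 (.leaf (nat_lit 0x10302ace12bbb) (nat_lit 1794))
)))) (.node (nat_lit 0x10302af412b95) (.node (nat_lit 0x10302acf12bbb) (.node (nat_lit 0x10302acf10bbb) (.leaf (nat_lit 0x10302ace12bfb) (nat_lit 2050))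
 (.node (nat_lit 0x10302acf10bfb) (.leaf (nat_lit 0x10302acf10bbb) (nat_lit 2050))
 (.leaf (nat_lit 0x10302acf10bfb) (nat_lit 2050))
)) (.node (nat_lit 0x10302af410b95) (.node (nat_lit 0x10302acf12bfb) (.leaf (nat_lit 0x10302acf12bbb) (nat_lit 2050))
 (.leaf (nat_lit 0x10302acf12bfb) (nat_lit 1796))
) (.node (nat_lit 0x10302af410bd5) (.leaf (nat_lit 0x10302af410b95) (nat_lit 1280))
 (.leaf (nat_lit 0x10302af410bd5) (nat_lit 1027))
))) (.node (nat_lit 0x10302af512b95) (.node (nat_lit 0x10302af510b95) (.node (nat_lit 0x10302af412bd5) (.leaf (nat_lit 0x10302af412b95) (nat_lit 771))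
 (.leaf (nat_lit 0x10302af412bd5) (nat_lit 1024))
) (.node (nat_lit 0x10302af510bd5) (.leaf (nat_lit 0x10302af510b95) (nat_lit 1283))
 (.leaf (nat_lit 0x10302af510bd5) (nat_lit 1284))
)) (.node (nat_lit 0x10302b4c10f32) (.node (nat_lit 0x10302af512bd5) (.leaf (nat_lit 0x10302af512b95) (nat_lit 1280))
 (.leaf (nat_lit 0x10302af512bd5) (nat_lit 1027))
) (.node (nat_lit 0x10302b4c10f72) (.leaf (nat_lit 0x10302b4c10f32) (nat_lit 1793))
 (.leaf (nat_lit 0x10302b4c10f72) (nat_lit 1794))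
))))) (.node (nat_lit 0x10302bcc10f72) (.node (nat_lit 0x10302b6610f5d) (.node (nat_lit 0x10302b4d10f72) (.node (nat_lit 0x10302b4c12f72) (.leaf (nat_lit 0x10302b4c12f32) (nat_lit 2050))
 (.node (nat_lit 0x10302b4d10f32) (.leaf (nat_lit 0x10302b4c12f72) (nat_lit 1794))
 (.leaf (nat_lit 0x10302b4d10f32) (nat_lit 1794))
)) (.node (nat_lit 0x10302b4d12f72) (.node (nat_lit 0x10302b4d12f32) (.leaf (nat_lit 0x10302b4d10f72) (nat_lit 2050))
 (.leaf (nat_lit 0x10302b4d12f32) (nat_lit 1794))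
) (.node (nat_lit 0x10302b6610f1d) (.leaf (nat_lit 0x10302b4d12f72) (nat_lit 1538))
 (.leaf (nat_lit 0x10302b6610f1d) (nat_lit 1280))
))) (.node (nat_lit 0x10302b6710f5d) (.node (nat_lit 0x10302b6612f5d) (.node (nat_lit 0x10302b6612f1d) (.leaf (nat_lit 0x10302b6610f5d) (nat_lit 1028))
 (.leaf (nat_lit 0x10302b6612f1d) (nat_lit 1024))
) (.node (nat_lit 0x10302b6710f1d) (.leaf (nat_lit 0x10302b6612f5d) (nat_lit 771))
 (.leaf (nat_lit 0x10302b6710f1d) (nat_lit 1024))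
)) (.node (nat_lit 0x10302b6712f5d) (.node (nat_lit 0x10302b6712f1d) (.leaf (nat_lit 0x10302b6710f5d) (nat_lit 772))
 (.leaf (nat_lit 0x10302b6712f1d) (nat_lit 515))
) (.node (nat_lit 0x10302bcc10f32) (.leaf (nat_lit 0x10302b6712f5d) (nat_lit 768))
 (.leaf (nat_lit 0x10302bcc10f32) (nat_lit 1538))
)))) (.node (nat_lit 0x10302be610f1d) (.node (nat_lit 0x10302bcd10f32) (.node (nat_lit 0x10302bcc12f32) (.leaf (nat_lit 0x10302bcc10f72) (nat_lit 1795))
 (.node (nat_lit 0x10302bcc12f72) (.leaf (nat_lit 0x10302bcc12f32) (nat_lit 2050))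
 (.leaf (nat_lit 0x10302bcc12f72) (nat_lit 1794))
)) (.node (nat_lit 0x10302bcd12f32) (.node (nat_lit 0x10302bcd10f72) (.leaf (nat_lit 0x10302bcd10f32) (nat_lit 1794))
 (.leaf (nat_lit 0x10302bcd10f72) (nat_lit 2050))
) (.node (nat_lit 0x10302bcd12f72) (.leaf (nat_lit 0x10302bcd12f32) (nat_lit 2049))
 (.leaf (nat_lit 0x10302bcd12f72) (nat_lit 1793))
))) (.node (nat_lit 0x10302be710f1d) (.node (nat_lit 0x10302be612f1d) (.node (nat_lit 0x10302be610f5d) (.leaf (nat_lit 0x10302be610f1d) (nat_lit 1284))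
 (.leaf (nat_lit 0x10302be610f5d) (nat_lit 1283))
) (.node (nat_lit 0x10302be612f5d) (.leaf (nat_lit 0x10302be612f1d) (nat_lit 1281))
 (.leaf (nat_lit 0x10302be612f5d) (nat_lit 1025))
)) (.node (nat_lit 0x10302be712f1d) (.node (nat_lit 0x10302be710f5d) (.leaf (nat_lit 0x10302be710f1d) (nat_lit 1027))
 (.leaf (nat_lit 0x10302be710f5d) (nat_lit 1025))
) (.node (nat_lit 0x10302be712f5d) (.leaf (nat_lit 0x10302be712f1d) (nat_lit 769))
 (.leaf (nat_lit 0x10302be712f5d) (nat_lit 1025))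
))))))))) (.node (nat_lit 0x1034189014181) (.node (nat_lit 0x10306af410b95) (.node (nat_lit 0x103050f510115) (.node (nat_lit 0x10304dcf1363b) (.node (nat_lit 0x10304d4f1367b) (.node (nat_lit 0x10304d4d13672) (.node (nat_lit 0x10304d4c13672) (.node (nat_lit 0x10304d4c11672) (.leaf (nat_lit 0x10304d4c11632) (nat_lit 1540))
 (.node (nat_lit 0x10304d4c13632) (.leaf (nat_lit 0x10304d4c11672) (nat_lit 1284))
 (.leaf (nat_lit 0x10304d4c13632) (nat_lit 1540))
)) (.node (nat_lit 0x10304d4d11672) (.node (nat_lit 0x10304d4d11632) (.leaf (nat_lit 0x10304d4c13672) (nat_lit 1796))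
 (.leaf (nat_lit 0x10304d4d11632) (nat_lit 1793))
) (.node (nat_lit 0x10304d4d13632) (.leaf (nat_lit 0x10304d4d11672) (nat_lit 1540))
 (.leaf (nat_lit 0x10304d4d13632) (nat_lit 1792))
))) (.node (nat_lit 0x10304d4e1367b) (.node (nat_lit 0x10304d4e1167b) (.node (nat_lit 0x10304d4e1163b) (.leaf (nat_lit 0x10304d4d13672) (nat_lit 1540))
 (.leaf (nat_lit 0x10304d4e1163b) (nat_lit 1795))
) (.node (nat_lit 0x10304d4e1363b) (.leaf (nat_lit 0x10304d4e1167b) (nat_lit 2052))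
 (.leaf (nat_lit 0x10304d4e1363b) (nat_lit 1792))
)) (.node (nat_lit 0x10304d4f1167b) (.node (nat_lit 0x10304d4f1163b) (.leaf (nat_lit 0x10304d4e1367b) (nat_lit 1540))
 (.leaf (nat_lit 0x10304d4f1163b) (nat_lit 2052))
) (.node (nat_lit 0x10304d4f1363b) (.leaf (nat_lit 0x10304d4f1167b) (nat_lit 2052))
 (.leaf (nat_lit 0x10304d4f1363b) (nat_lit 2052))
)))) (.node (nat_lit 0x10304dcd13632) (.node (nat_lit 0x10304dcc13632) (.node (nat_lit 0x10304dcc11632) (.leaf (nat_lit 0x10304d4f1367b) (nat_lit 1796))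
 (.node (nat_lit 0x10304dcc11672) (.leaf (nat_lit 0x10304dcc11632) (nat_lit 1796))
 (.leaf (nat_lit 0x10304dcc11672) (nat_lit 1540))
)) (.node (nat_lit 0x10304dcd11632) (.node (nat_lit 0x10304dcc13672) (.leaf (nat_lit 0x10304dcc13632) (nat_lit 1796))
 (.leaf (nat_lit 0x10304dcc13672) (nat_lit 1540))
) (.node (nat_lit 0x10304dcd11672) (.leaf (nat_lit 0x10304dcd11632) (nat_lit 1540))
 (.leaf (nat_lit 0x10304dcd11672) (nat_lit 1792))
))) (.node (nat_lit 0x10304dce1363b) (.node (nat_lit 0x10304dce1163b) (.node (nat_lit 0x10304dcd13672) (.leaf (nat_lit 0x10304dcd13632) (nat_lit 1540))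
 (.leaf (nat_lit 0x10304dcd13672) (nat_lit 1795))
) (.node (nat_lit 0x10304dce1167b) (.leaf (nat_lit 0x10304dce1163b) (nat_lit 1540))
 (.leaf (nat_lit 0x10304dce1167b) (nat_lit 1792))
)) (.node (nat_lit 0x10304dcf1163b) (.node (nat_lit 0x10304dce1367b) (.leaf (nat_lit 0x10304dce1363b) (nat_lit 2052))
 (.leaf (nat_lit 0x10304dce1367b) (nat_lit 1793))
) (.node (nat_lit 0x10304dcf1167b) (.leaf (nat_lit 0x10304dcf1163b) (nat_lit 1796))
 (.leaf (nat_lit 0x10304dcf1167b) (nat_lit 1796))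
))))) (.node (nat_lit 0x1030507510155) (.node (nat_lit 0x1030501110141) (.node (nat_lit 0x1030501010141) (.node (nat_lit 0x10304dcf1367b) (.leaf (nat_lit 0x10304dcf1363b) (nat_lit 1796))
 (.node (nat_lit 0x1030501010101) (.leaf (nat_lit 0x10304dcf1367b) (nat_lit 2052))
 (.leaf (nat_lit 0x1030501010101) (nat_lit 1539))
)) (.node (nat_lit 0x1030501012141) (.node (nat_lit 0x1030501012101) (.leaf (nat_lit 0x1030501010141) (nat_lit 1540))
 (.leaf (nat_lit 0x1030501012101) (nat_lit 1540))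
) (.node (nat_lit 0x1030501110101) (.leaf (nat_lit 0x1030501012141) (nat_lit 1796))
 (.leaf (nat_lit 0x1030501110101) (nat_lit 1540))
))) (.node (nat_lit 0x1030507410155) (.node (nat_lit 0x1030501112141) (.node (nat_lit 0x1030501112101) (.leaf (nat_lit 0x1030501110141) (nat_lit 1284))
 (.leaf (nat_lit 0x1030501112101) (nat_lit 1540))
) (.node (nat_lit 0x1030507410115) (.leaf (nat_lit 0x1030501112141) (nat_lit 1796))
 (.leaf (nat_lit 0x1030507410115) (nat_lit 1794))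
)) (.node (nat_lit 0x1030507412155) (.node (nat_lit 0x1030507412115) (.leaf (nat_lit 0x1030507410155) (nat_lit 1538))
 (.leaf (nat_lit 0x1030507412115) (nat_lit 1795))
) (.node (nat_lit 0x1030507510115) (.leaf (nat_lit 0x1030507412155) (nat_lit 1795))
 (.leaf (nat_lit 0x1030507510115) (nat_lit 1539))
)))) (.node (nat_lit 0x1030509110101) (.node (nat_lit 0x1030509010101) (.node (nat_lit 0x1030507512115) (.leaf (nat_lit 0x1030507510155) (nat_lit 1538))
 (.node (nat_lit 0x1030507512155) (.leaf (nat_lit 0x1030507512115) (nat_lit 1282))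
 (.leaf (nat_lit 0x1030507512155) (nat_lit 1538))
)) (.node (nat_lit 0x1030509012101) (.node (nat_lit 0x1030509010141) (.leaf (nat_lit 0x1030509010101) (nat_lit 1283))
 (.leaf (nat_lit 0x1030509010141) (nat_lit 1284))
) (.node (nat_lit 0x1030509012141) (.leaf (nat_lit 0x1030509012101) (nat_lit 1284))
 (.leaf (nat_lit 0x1030509012141) (nat_lit 1540))
))) (.node (nat_lit 0x103050f410115) (.node (nat_lit 0x1030509112101) (.node (nat_lit 0x1030509110141) (.leaf (nat_lit 0x1030509110101) (nat_lit 1284))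
 (.leaf (nat_lit 0x1030509110141) (nat_lit 1028))
) (.node (nat_lit 0x1030509112141) (.leaf (nat_lit 0x1030509112101) (nat_lit 1539))
 (.leaf (nat_lit 0x1030509112141) (nat_lit 1539))
)) (.node (nat_lit 0x103050f412115) (.node (nat_lit 0x103050f410155) (.leaf (nat_lit 0x103050f410115) (nat_lit 1539))
 (.leaf (nat_lit 0x103050f410155) (nat_lit 1795))
) (.node (nat_lit 0x103050f412155) (.leaf (nat_lit 0x103050f412115) (nat_lit 1539))
 (.leaf (nat_lit 0x103050f412155) (nat_lit 1795))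
)))))) (.node (nat_lit 0x103058e61219d) (.node (nat_lit 0x10305866121dd) (.node (nat_lit 0x10305810121c1) (.node (nat_lit 0x103050f512155) (.node (nat_lit 0x103050f510155) (.leaf (nat_lit 0x103050f510115) (nat_lit 1538))
 (.node (nat_lit 0x103050f512115) (.leaf (nat_lit 0x103050f510155) (nat_lit 1538))
 (.leaf (nat_lit 0x103050f512115) (nat_lit 1539))
)) (.node (nat_lit 0x10305810101c1) (.node (nat_lit 0x1030581010181) (.leaf (nat_lit 0x103050f512155) (nat_lit 1283))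
 (.leaf (nat_lit 0x1030581010181) (nat_lit 1795))
) (.node (nat_lit 0x1030581012181) (.leaf (nat_lit 0x10305810101c1) (nat_lit 1540))
 (.leaf (nat_lit 0x1030581012181) (nat_lit 1796))
))) (.node (nat_lit 0x10305811121c1) (.node (nat_lit 0x10305811101c1) (.node (nat_lit 0x1030581110181) (.leaf (nat_lit 0x10305810121c1) (nat_lit 1539))
 (.leaf (nat_lit 0x1030581110181) (nat_lit 1283))
) (.node (nat_lit 0x1030581112181) (.leaf (nat_lit 0x10305811101c1) (nat_lit 1536))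
 (.leaf (nat_lit 0x1030581112181) (nat_lit 1792))
)) (.node (nat_lit 0x10305866101dd) (.node (nat_lit 0x103058661019d) (.leaf (nat_lit 0x10305811121c1) (nat_lit 1539))
 (.leaf (nat_lit 0x103058661019d) (nat_lit 1282))
) (.node (nat_lit 0x103058661219d) (.leaf (nat_lit 0x10305866101dd) (nat_lit 1026))
 (.leaf (nat_lit 0x103058661219d) (nat_lit 771))
)))) (.node (nat_lit 0x1030589012181) (.node (nat_lit 0x103058671219d) (.node (nat_lit 0x103058671019d) (.leaf (nat_lit 0x10305866121dd) (nat_lit 1026))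
 (.node (nat_lit 0x10305867101dd) (.leaf (nat_lit 0x103058671019d) (nat_lit 1280))
 (.leaf (nat_lit 0x10305867101dd) (nat_lit 1027))
)) (.node (nat_lit 0x1030589010181) (.node (nat_lit 0x10305867121dd) (.leaf (nat_lit 0x103058671219d) (nat_lit 1282))
 (.leaf (nat_lit 0x10305867121dd) (nat_lit 1027))
) (.node (nat_lit 0x10305890101c1) (.leaf (nat_lit 0x1030589010181) (nat_lit 1539))
 (.leaf (nat_lit 0x10305890101c1) (nat_lit 1283))
))) (.node (nat_lit 0x1030589112181) (.node (nat_lit 0x1030589110181) (.node (nat_lit 0x10305890121c1) (.leaf (nat_lit 0x1030589012181) (nat_lit 1539))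
 (.leaf (nat_lit 0x10305890121c1) (nat_lit 1283))
) (.node (nat_lit 0x10305891101c1) (.leaf (nat_lit 0x1030589110181) (nat_lit 1027))
 (.leaf (nat_lit 0x10305891101c1) (nat_lit 1283))
)) (.node (nat_lit 0x103058e61019d) (.node (nat_lit 0x10305891121c1) (.leaf (nat_lit 0x1030589112181) (nat_lit 1539))
 (.leaf (nat_lit 0x10305891121c1) (nat_lit 1283))
) (.node (nat_lit 0x103058e6101dd) (.leaf (nat_lit 0x103058e61019d) (nat_lit 1282))
 (.leaf (nat_lit 0x103058e6101dd) (nat_lit 1027))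
))))) (.node (nat_lit 0x10306a7410bd5) (.node (nat_lit 0x10306a4e10bfb) (.node (nat_lit 0x103058e7101dd) (.node (nat_lit 0x103058e6121dd) (.leaf (nat_lit 0x103058e61219d) (nat_lit 1025))
 (.node (nat_lit 0x103058e71019d) (.leaf (nat_lit 0x103058e6121dd) (nat_lit 1282))
 (.leaf (nat_lit 0x103058e71019d) (nat_lit 1283))
)) (.node (nat_lit 0x103058e7121dd) (.node (nat_lit 0x103058e71219d) (.leaf (nat_lit 0x103058e7101dd) (nat_lit 1282))
 (.leaf (nat_lit 0x103058e71219d) (nat_lit 1283))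
) (.node (nat_lit 0x10306a4e10bbb) (.leaf (nat_lit 0x103058e7121dd) (nat_lit 1281))
 (.leaf (nat_lit 0x10306a4e10bbb) (nat_lit 2050))
))) (.node (nat_lit 0x10306a4f10bfb) (.node (nat_lit 0x10306a4e12bfb) (.node (nat_lit 0x10306a4e12bbb) (.leaf (nat_lit 0x10306a4e10bfb) (nat_lit 2052))
 (.leaf (nat_lit 0x10306a4e12bbb) (nat_lit 2050))
) (.node (nat_lit 0x10306a4f10bbb) (.leaf (nat_lit 0x10306a4e12bfb) (nat_lit 2306))
 (.leaf (nat_lit 0x10306a4f10bbb) (nat_lit 2050))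
)) (.node (nat_lit 0x10306a4f12bfb) (.node (nat_lit 0x10306a4f12bbb) (.leaf (nat_lit 0x10306a4f10bfb) (nat_lit 1795))
 (.leaf (nat_lit 0x10306a4f12bbb) (nat_lit 2051))
) (.node (nat_lit 0x10306a7410b95) (.leaf (nat_lit 0x10306a4f12bfb) (nat_lit 2050))
 (.leaf (nat_lit 0x10306a7410b95) (nat_lit 1283))
)))) (.node (nat_lit 0x10306ace10bbb) (.node (nat_lit 0x10306a7510b95) (.node (nat_lit 0x10306a7412b95) (.leaf (nat_lit 0x10306a7410bd5) (nat_lit 1283))
 (.node (nat_lit 0x10306a7412bd5) (.leaf (nat_lit 0x10306a7412b95) (nat_lit 1027))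
 (.leaf (nat_lit 0x10306a7412bd5) (nat_lit 1027))
)) (.node (nat_lit 0x10306a7512b95) (.node (nat_lit 0x10306a7510bd5) (.leaf (nat_lit 0x10306a7510b95) (nat_lit 1539))
 (.leaf (nat_lit 0x10306a7510bd5) (nat_lit 1539))
) (.node (nat_lit 0x10306a7512bd5) (.leaf (nat_lit 0x10306a7512b95) (nat_lit 1283))
 (.leaf (nat_lit 0x10306a7512bd5) (nat_lit 1283))
))) (.node (nat_lit 0x10306acf10bbb) (.node (nat_lit 0x10306ace12bbb) (.node (nat_lit 0x10306ace10bfb) (.leaf (nat_lit 0x10306ace10bbb) (nat_lit 2050))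
 (.leaf (nat_lit 0x10306ace10bfb) (nat_lit 2306))
) (.node (nat_lit 0x10306ace12bfb) (.leaf (nat_lit 0x10306ace12bbb) (nat_lit 2050))
 (.leaf (nat_lit 0x10306ace12bfb) (nat_lit 2050))
)) (.node (nat_lit 0x10306acf12bbb) (.node (nat_lit 0x10306acf10bfb) (.leaf (nat_lit 0x10306acf10bbb) (nat_lit 1794))
 (.leaf (nat_lit 0x10306acf10bfb) (nat_lit 2050))
) (.node (nat_lit 0x10306acf12bfb) (.leaf (nat_lit 0x10306acf12bbb) (nat_lit 2051))
 (.leaf (nat_lit 0x10306acf12bfb) (nat_lit 2050))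
))))))) (.node (nat_lit 0x10340cdd152b3) (.node (nat_lit 0x10306bcd12f32) (.node (nat_lit 0x10306b4d12f72) (.node (nat_lit 0x10306af512bd5) (.node (nat_lit 0x10306af412bd5) (.node (nat_lit 0x10306af410bd5) (.leaf (nat_lit 0x10306af410b95) (nat_lit 1280))
 (.node (nat_lit 0x10306af412b95) (.leaf (nat_lit 0x10306af410bd5) (nat_lit 1027))
 (.leaf (nat_lit 0x10306af412b95) (nat_lit 1283))
)) (.node (nat_lit 0x10306af510bd5) (.node (nat_lit 0x10306af510b95) (.leaf (nat_lit 0x10306af412bd5) (nat_lit 1281))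
 (.leaf (nat_lit 0x10306af510b95) (nat_lit 1283))
) (.node (nat_lit 0x10306af512b95) (.leaf (nat_lit 0x10306af510bd5) (nat_lit 1540))
 (.leaf (nat_lit 0x10306af512b95) (nat_lit 1284))
))) (.node (nat_lit 0x10306b4c12f72) (.node (nat_lit 0x10306b4c10f72) (.node (nat_lit 0x10306b4c10f32) (.leaf (nat_lit 0x10306af512bd5) (nat_lit 1539))
 (.leaf (nat_lit 0x10306b4c10f32) (nat_lit 1794))
) (.node (nat_lit 0x10306b4c12f32) (.leaf (nat_lit 0x10306b4c10f72) (nat_lit 1538))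
 (.leaf (nat_lit 0x10306b4c12f32) (nat_lit 1794))
)) (.node (nat_lit 0x10306b4d10f72) (.node (nat_lit 0x10306b4d10f32) (.leaf (nat_lit 0x10306b4c12f72) (nat_lit 2050))
 (.leaf (nat_lit 0x10306b4d10f32) (nat_lit 2050))
) (.node (nat_lit 0x10306b4d12f32) (.leaf (nat_lit 0x10306b4d10f72) (nat_lit 1794))
 (.leaf (nat_lit 0x10306b4d12f32) (nat_lit 2050))
)))) (.node (nat_lit 0x10306b6712f1d) (.node (nat_lit 0x10306b6612f1d) (.node (nat_lit 0x10306b6610f1d) (.leaf (nat_lit 0x10306b4d12f72) (nat_lit 1794))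
 (.node (nat_lit 0x10306b6610f5d) (.leaf (nat_lit 0x10306b6610f1d) (nat_lit 1027))
 (.leaf (nat_lit 0x10306b6610f5d) (nat_lit 1280))
)) (.node (nat_lit 0x10306b6710f1d) (.node (nat_lit 0x10306b6612f5d) (.leaf (nat_lit 0x10306b6612f1d) (nat_lit 1028))
 (.leaf (nat_lit 0x10306b6612f5d) (nat_lit 1281))
) (.node (nat_lit 0x10306b6710f5d) (.leaf (nat_lit 0x10306b6710f1d) (nat_lit 1024))
 (.leaf (nat_lit 0x10306b6710f5d) (nat_lit 771))
))) (.node (nat_lit 0x10306bcc12f32) (.node (nat_lit 0x10306bcc10f32) (.node (nat_lit 0x10306b6712f5d) (.leaf (nat_lit 0x10306b6712f1d) (nat_lit 1028))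
 (.leaf (nat_lit 0x10306b6712f5d) (nat_lit 1025))
) (.node (nat_lit 0x10306bcc10f72) (.leaf (nat_lit 0x10306bcc10f32) (nat_lit 1794))
 (.leaf (nat_lit 0x10306bcc10f72) (nat_lit 1793))
)) (.node (nat_lit 0x10306bcd10f32) (.node (nat_lit 0x10306bcc12f72) (.leaf (nat_lit 0x10306bcc12f32) (nat_lit 1794))
 (.leaf (nat_lit 0x10306bcc12f72) (nat_lit 2050))
) (.node (nat_lit 0x10306bcd10f72) (.leaf (nat_lit 0x10306bcd10f32) (nat_lit 2050))
 (.leaf (nat_lit 0x10306bcd10f72) (nat_lit 1794))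
))))) (.node (nat_lit 0x10340c5d152f3) (.node (nat_lit 0x10306be710f5d) (.node (nat_lit 0x10306be610f5d) (.node (nat_lit 0x10306bcd12f72) (.leaf (nat_lit 0x10306bcd12f32) (nat_lit 2050))
 (.node (nat_lit 0x10306be610f1d) (.leaf (nat_lit 0x10306bcd12f72) (nat_lit 1794))
 (.leaf (nat_lit 0x10306be610f1d) (nat_lit 1284))
)) (.node (nat_lit 0x10306be612f5d) (.node (nat_lit 0x10306be612f1d) (.leaf (nat_lit 0x10306be610f5d) (nat_lit 1536))
 (.leaf (nat_lit 0x10306be612f1d) (nat_lit 1027))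
) (.node (nat_lit 0x10306be710f1d) (.leaf (nat_lit 0x10306be612f5d) (nat_lit 1028))
 (.leaf (nat_lit 0x10306be710f1d) (nat_lit 1028))
))) (.node (nat_lit 0x10340c5c152f3) (.node (nat_lit 0x10306be712f5d) (.node (nat_lit 0x10306be712f1d) (.leaf (nat_lit 0x10306be710f5d) (nat_lit 1025))
 (.leaf (nat_lit 0x10306be712f1d) (nat_lit 1024))
) (.node (nat_lit 0x10340c5c152b3) (.leaf (nat_lit 0x10306be712f5d) (nat_lit 771))
 (.leaf (nat_lit 0x10340c5c152b3) (nat_lit 1795))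
)) (.node (nat_lit 0x10340c5c172f3) (.node (nat_lit 0x10340c5c172b3) (.leaf (nat_lit 0x10340c5c152f3) (nat_lit 1796))
 (.leaf (nat_lit 0x10340c5c172b3) (nat_lit 2051))
) (.node (nat_lit 0x10340c5d152b3) (.leaf (nat_lit 0x10340c5c172f3) (nat_lit 2051))
 (.leaf (nat_lit 0x10340c5d152b3) (nat_lit 2051))
)))) (.node (nat_lit 0x10340c5f152ba) (.node (nat_lit 0x10340c5e152ba) (.node (nat_lit 0x10340c5d172b3) (.leaf (nat_lit 0x10340c5d152f3) (nat_lit 2051))
 (.node (nat_lit 0x10340c5d172f3) (.leaf (nat_lit 0x10340c5d172b3) (nat_lit 1795))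
 (.leaf (nat_lit 0x10340c5d172f3) (nat_lit 1793))
)) (.node (nat_lit 0x10340c5e172ba) (.node (nat_lit 0x10340c5e152fa) (.leaf (nat_lit 0x10340c5e152ba) (nat_lit 1540))
 (.leaf (nat_lit 0x10340c5e152fa) (nat_lit 1795))
) (.node (nat_lit 0x10340c5e172fa) (.leaf (nat_lit 0x10340c5e172ba) (nat_lit 1540))
 (.leaf (nat_lit 0x10340c5e172fa) (nat_lit 1795))
))) (.node (nat_lit 0x10340cdc152b3) (.node (nat_lit 0x10340c5f172ba) (.node (nat_lit 0x10340c5f152fa) (.leaf (nat_lit 0x10340c5f152ba) (nat_lit 1539))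
 (.leaf (nat_lit 0x10340c5f152fa) (nat_lit 1792))
) (.node (nat_lit 0x10340c5f172fa) (.leaf (nat_lit 0x10340c5f172ba) (nat_lit 1796))
 (.leaf (nat_lit 0x10340c5f172fa) (nat_lit 1540))
)) (.node (nat_lit 0x10340cdc172b3) (.node (nat_lit 0x10340cdc152f3) (.leaf (nat_lit 0x10340cdc152b3) (nat_lit 1796))
 (.leaf (nat_lit 0x10340cdc152f3) (nat_lit 2048))
) (.node (nat_lit 0x10340cdc172f3) (.leaf (nat_lit 0x10340cdc172b3) (nat_lit 2051))
 (.leaf (nat_lit 0x10340cdc172f3) (nat_lit 1796))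
)))))) (.node (nat_lit 0x1034109016101) (.node (nat_lit 0x1034101016141) (.node (nat_lit 0x10340cde172fa) (.node (nat_lit 0x10340cdd172f3) (.node (nat_lit 0x10340cdd152f3) (.leaf (nat_lit 0x10340cdd152b3) (nat_lit 1795))
 (.node (nat_lit 0x10340cdd172b3) (.leaf (nat_lit 0x10340cdd152f3) (nat_lit 1795))
 (.leaf (nat_lit 0x10340cdd172b3) (nat_lit 1792))
)) (.node (nat_lit 0x10340cde152fa) (.node (nat_lit 0x10340cde152ba) (.leaf (nat_lit 0x10340cdd172f3) (nat_lit 1540))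
 (.leaf (nat_lit 0x10340cde152ba) (nat_lit 1793))
) (.node (nat_lit 0x10340cde172ba) (.leaf (nat_lit 0x10340cde152fa) (nat_lit 1539))
 (.leaf (nat_lit 0x10340cde172ba) (nat_lit 1283))
))) (.node (nat_lit 0x10340cdf172fa) (.node (nat_lit 0x10340cdf152fa) (.node (nat_lit 0x10340cdf152ba) (.leaf (nat_lit 0x10340cde172fa) (nat_lit 1536))
 (.leaf (nat_lit 0x10340cdf152ba) (nat_lit 1796))
) (.node (nat_lit 0x10340cdf172ba) (.leaf (nat_lit 0x10340cdf152fa) (nat_lit 1796))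
 (.leaf (nat_lit 0x10340cdf172ba) (nat_lit 1540))
)) (.node (nat_lit 0x1034101014141) (.node (nat_lit 0x1034101014101) (.leaf (nat_lit 0x10340cdf172fa) (nat_lit 1539))
 (.leaf (nat_lit 0x1034101014101) (nat_lit 1024))
) (.node (nat_lit 0x1034101016101) (.leaf (nat_lit 0x1034101014141) (nat_lit 772))
 (.leaf (nat_lit 0x1034101016101) (nat_lit 768))
)))) (.node (nat_lit 0x1034106416114) (.node (nat_lit 0x1034101116101) (.node (nat_lit 0x1034101114101) (.leaf (nat_lit 0x1034101016141) (nat_lit 515))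
 (.node (nat_lit 0x1034101114141) (.leaf (nat_lit 0x1034101114101) (nat_lit 1028))
 (.leaf (nat_lit 0x1034101114141) (nat_lit 1026))
)) (.node (nat_lit 0x1034106414114) (.node (nat_lit 0x1034101116141) (.leaf (nat_lit 0x1034101116101) (nat_lit 259))
 (.leaf (nat_lit 0x1034101116141) (nat_lit 512))
) (.node (nat_lit 0x1034106414154) (.leaf (nat_lit 0x1034106414114) (nat_lit 1537))
 (.leaf (nat_lit 0x1034106414154) (nat_lit 1539))
))) (.node (nat_lit 0x1034106516114) (.node (nat_lit 0x1034106514114) (.node (nat_lit 0x1034106416154) (.leaf (nat_lit 0x1034106416114) (nat_lit 1794))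
 (.leaf (nat_lit 0x1034106416154) (nat_lit 1538))
) (.node (nat_lit 0x1034106514154) (.leaf (nat_lit 0x1034106514114) (nat_lit 1538))
 (.leaf (nat_lit 0x1034106514154) (nat_lit 1795))
)) (.node (nat_lit 0x1034109014101) (.node (nat_lit 0x1034106516154) (.leaf (nat_lit 0x1034106516114) (nat_lit 1538))
 (.leaf (nat_lit 0x1034106516154) (nat_lit 1282))
) (.node (nat_lit 0x1034109014141) (.leaf (nat_lit 0x1034109014101) (nat_lit 1281))
 (.leaf (nat_lit 0x1034109014141) (nat_lit 1025))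
))))) (.node (nat_lit 0x10341810141c1) (.node (nat_lit 0x103410e414154) (.node (nat_lit 0x1034109114141) (.node (nat_lit 0x1034109016141) (.leaf (nat_lit 0x1034109016101) (nat_lit 1025))
 (.node (nat_lit 0x1034109114101) (.leaf (nat_lit 0x1034109016141) (nat_lit 769))
 (.leaf (nat_lit 0x1034109114101) (nat_lit 1281))
)) (.node (nat_lit 0x1034109116141) (.node (nat_lit 0x1034109116101) (.leaf (nat_lit 0x1034109114141) (nat_lit 1281))
 (.leaf (nat_lit 0x1034109116101) (nat_lit 513))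
) (.node (nat_lit 0x103410e414114) (.leaf (nat_lit 0x1034109116141) (nat_lit 769))
 (.leaf (nat_lit 0x103410e414114) (nat_lit 1282))
))) (.node (nat_lit 0x103410e514154) (.node (nat_lit 0x103410e416154) (.node (nat_lit 0x103410e416114) (.leaf (nat_lit 0x103410e414154) (nat_lit 1539))
 (.leaf (nat_lit 0x103410e416114) (nat_lit 1794))
) (.node (nat_lit 0x103410e514114) (.leaf (nat_lit 0x103410e416154) (nat_lit 1538))
 (.leaf (nat_lit 0x103410e514114) (nat_lit 1538))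
)) (.node (nat_lit 0x103410e516154) (.node (nat_lit 0x103410e516114) (.leaf (nat_lit 0x103410e514154) (nat_lit 1795))
 (.leaf (nat_lit 0x103410e516114) (nat_lit 1793))
) (.node (nat_lit 0x1034181014181) (.leaf (nat_lit 0x103410e516154) (nat_lit 1537))
 (.leaf (nat_lit 0x1034181014181) (nat_lit 1539))
)))) (.node (nat_lit 0x103418761419c) (.node (nat_lit 0x1034181114181) (.node (nat_lit 0x1034181016181) (.leaf (nat_lit 0x10341810141c1) (nat_lit 1281))
 (.node (nat_lit 0x10341810161c1) (.leaf (nat_lit 0x1034181016181) (nat_lit 1027))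
 (.leaf (nat_lit 0x10341810161c1) (nat_lit 1280))
)) (.node (nat_lit 0x1034181116181) (.node (nat_lit 0x10341811141c1) (.leaf (nat_lit 0x1034181114181) (nat_lit 1536))
 (.leaf (nat_lit 0x10341811141c1) (nat_lit 1283))
) (.node (nat_lit 0x10341811161c1) (.leaf (nat_lit 0x1034181116181) (nat_lit 1537))
 (.leaf (nat_lit 0x10341811161c1) (nat_lit 1283))
))) (.node (nat_lit 0x103418771419c) (.node (nat_lit 0x103418761619c) (.node (nat_lit 0x10341876141dc) (.leaf (nat_lit 0x103418761419c) (nat_lit 1538))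
 (.leaf (nat_lit 0x10341876141dc) (nat_lit 1794))
) (.node (nat_lit 0x10341876161dc) (.leaf (nat_lit 0x103418761619c) (nat_lit 1539))
 (.leaf (nat_lit 0x10341876161dc) (nat_lit 1282))
)) (.node (nat_lit 0x103418771619c) (.node (nat_lit 0x10341877141dc) (.leaf (nat_lit 0x103418771419c) (nat_lit 1537))
 (.leaf (nat_lit 0x10341877141dc) (nat_lit 1281))
) (.node (nat_lit 0x10341877161dc) (.leaf (nat_lit 0x103418771619c) (nat_lit 1537))
 (.leaf (nat_lit 0x10341877161dc) (nat_lit 1539))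
)))))))) (.node (nat_lit 0x1034506414114) (.node (nat_lit 0x1034237714f9c) (.node (nat_lit 0x1034226516b14) (.node (nat_lit 0x103418f7161dc) (.node (nat_lit 0x10341891161c1) (.node (nat_lit 0x10341890161c1) (.node (nat_lit 0x10341890141c1) (.leaf (nat_lit 0x1034189014181) (nat_lit 1280))
 (.node (nat_lit 0x1034189016181) (.leaf (nat_lit 0x10341890141c1) (nat_lit 1026))
 (.leaf (nat_lit 0x1034189016181) (nat_lit 770))
)) (.node (nat_lit 0x10341891141c1) (.node (nat_lit 0x1034189114181) (.leaf (nat_lit 0x10341890161c1) (nat_lit 1024))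
 (.leaf (nat_lit 0x1034189114181) (nat_lit 1280))
) (.node (nat_lit 0x1034189116181) (.leaf (nat_lit 0x10341891141c1) (nat_lit 1026))
 (.leaf (nat_lit 0x1034189116181) (nat_lit 1282))
))) (.node (nat_lit 0x103418f6161dc) (.node (nat_lit 0x103418f6141dc) (.node (nat_lit 0x103418f61419c) (.leaf (nat_lit 0x10341891161c1) (nat_lit 1282))
 (.leaf (nat_lit 0x103418f61419c) (nat_lit 1539))
) (.node (nat_lit 0x103418f61619c) (.leaf (nat_lit 0x103418f6141dc) (nat_lit 1539))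
 (.leaf (nat_lit 0x103418f61619c) (nat_lit 1539))
)) (.node (nat_lit 0x103418f7141dc) (.node (nat_lit 0x103418f71419c) (.leaf (nat_lit 0x103418f6161dc) (nat_lit 1537))
 (.leaf (nat_lit 0x103418f71419c) (nat_lit 1283))
) (.node (nat_lit 0x103418f71619c) (.leaf (nat_lit 0x103418f7141dc) (nat_lit 1026))
 (.leaf (nat_lit 0x103418f71619c) (nat_lit 1282))
)))) (.node (nat_lit 0x1034225d16b33) (.node (nat_lit 0x1034225c16b33) (.node (nat_lit 0x1034225c14b33) (.leaf (nat_lit 0x103418f7161dc) (nat_lit 1538))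
 (.node (nat_lit 0x1034225c14b73) (.leaf (nat_lit 0x1034225c14b33) (nat_lit 2050))
 (.leaf (nat_lit 0x1034225c14b73) (nat_lit 2049))
)) (.node (nat_lit 0x1034225d14b33) (.node (nat_lit 0x1034225c16b73) (.leaf (nat_lit 0x1034225c16b33) (nat_lit 2051))
 (.leaf (nat_lit 0x1034225c16b73) (nat_lit 1795))
) (.node (nat_lit 0x1034225d14b73) (.leaf (nat_lit 0x1034225d14b33) (nat_lit 2051))
 (.leaf (nat_lit 0x1034225d14b73) (nat_lit 2306))
))) (.node (nat_lit 0x1034226416b14) (.node (nat_lit 0x1034226414b14) (.node (nat_lit 0x1034225d16b73) (.leaf (nat_lit 0x1034225d16b33) (nat_lit 2051))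
 (.leaf (nat_lit 0x1034225d16b73) (nat_lit 2050))
) (.node (nat_lit 0x1034226414b54) (.leaf (nat_lit 0x1034226414b14) (nat_lit 1537))
 (.leaf (nat_lit 0x1034226414b54) (nat_lit 1539))
)) (.node (nat_lit 0x1034226514b14) (.node (nat_lit 0x1034226416b54) (.leaf (nat_lit 0x1034226416b14) (nat_lit 1536))
 (.leaf (nat_lit 0x1034226416b54) (nat_lit 1284))
) (.node (nat_lit 0x1034226514b54) (.leaf (nat_lit 0x1034226514b14) (nat_lit 1281))
 (.leaf (nat_lit 0x1034226514b54) (nat_lit 1540))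
))))) (.node (nat_lit 0x103422e514b54) (.node (nat_lit 0x103422dd14b73) (.node (nat_lit 0x103422dc14b73) (.node (nat_lit 0x1034226516b54) (.leaf (nat_lit 0x1034226516b14) (nat_lit 1280))
 (.node (nat_lit 0x103422dc14b33) (.leaf (nat_lit 0x1034226516b54) (nat_lit 1028))
 (.leaf (nat_lit 0x103422dc14b33) (nat_lit 2051))
)) (.node (nat_lit 0x103422dc16b73) (.node (nat_lit 0x103422dc16b33) (.leaf (nat_lit 0x103422dc14b73) (nat_lit 1794))
 (.leaf (nat_lit 0x103422dc16b33) (nat_lit 2050))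
) (.node (nat_lit 0x103422dd14b33) (.leaf (nat_lit 0x103422dc16b73) (nat_lit 2051))
 (.leaf (nat_lit 0x103422dd14b33) (nat_lit 2050))
))) (.node (nat_lit 0x103422e414b54) (.node (nat_lit 0x103422dd16b73) (.node (nat_lit 0x103422dd16b33) (.leaf (nat_lit 0x103422dd14b73) (nat_lit 2050))
 (.leaf (nat_lit 0x103422dd16b33) (nat_lit 2052))
) (.node (nat_lit 0x103422e414b14) (.leaf (nat_lit 0x103422dd16b73) (nat_lit 2306))
 (.leaf (nat_lit 0x103422e414b14) (nat_lit 1284))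
)) (.node (nat_lit 0x103422e416b54) (.node (nat_lit 0x103422e416b14) (.leaf (nat_lit 0x103422e414b54) (nat_lit 1536))
 (.leaf (nat_lit 0x103422e416b14) (nat_lit 1539))
) (.node (nat_lit 0x103422e514b14) (.leaf (nat_lit 0x103422e416b54) (nat_lit 1539))
 (.leaf (nat_lit 0x103422e514b14) (nat_lit 1028))
)))) (.node (nat_lit 0x1034235f14fba) (.node (nat_lit 0x1034235e14fba) (.node (nat_lit 0x103422e516b14) (.leaf (nat_lit 0x103422e514b54) (nat_lit 1280))
 (.node (nat_lit 0x103422e516b54) (.leaf (nat_lit 0x103422e516b14) (nat_lit 1536))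
 (.leaf (nat_lit 0x103422e516b54) (nat_lit 1283))
)) (.node (nat_lit 0x1034235e16fba) (.node (nat_lit 0x1034235e14ffa) (.leaf (nat_lit 0x1034235e14fba) (nat_lit 1794))
 (.leaf (nat_lit 0x1034235e14ffa) (nat_lit 2051))
) (.node (nat_lit 0x1034235e16ffa) (.leaf (nat_lit 0x1034235e16fba) (nat_lit 2050))
 (.leaf (nat_lit 0x1034235e16ffa) (nat_lit 2050))
))) (.node (nat_lit 0x1034237614f9c) (.node (nat_lit 0x1034235f16fba) (.node (nat_lit 0x1034235f14ffa) (.leaf (nat_lit 0x1034235f14fba) (nat_lit 1538))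
 (.leaf (nat_lit 0x1034235f14ffa) (nat_lit 1795))
) (.node (nat_lit 0x1034235f16ffa) (.leaf (nat_lit 0x1034235f16fba) (nat_lit 1795))
 (.leaf (nat_lit 0x1034235f16ffa) (nat_lit 1794))
)) (.node (nat_lit 0x1034237616f9c) (.node (nat_lit 0x1034237614fdc) (.leaf (nat_lit 0x1034237614f9c) (nat_lit 1281))
 (.leaf (nat_lit 0x1034237614fdc) (nat_lit 1537))
) (.node (nat_lit 0x1034237616fdc) (.leaf (nat_lit 0x1034237616f9c) (nat_lit 1284))
 (.leaf (nat_lit 0x1034237616fdc) (nat_lit 1028))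
)))))) (.node (nat_lit 0x10344c5e172ba) (.node (nat_lit 0x103423f616fdc) (.node (nat_lit 0x103423de16ffa) (.node (nat_lit 0x1034237716fdc) (.node (nat_lit 0x1034237714fdc) (.leaf (nat_lit 0x1034237714f9c) (nat_lit 1540))
 (.node (nat_lit 0x1034237716f9c) (.leaf (nat_lit 0x1034237714fdc) (nat_lit 1539))
 (.leaf (nat_lit 0x1034237716f9c) (nat_lit 1539))
)) (.node (nat_lit 0x103423de14ffa) (.node (nat_lit 0x103423de14fba) (.leaf (nat_lit 0x1034237716fdc) (nat_lit 1793))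
 (.leaf (nat_lit 0x103423de14fba) (nat_lit 2050))
) (.node (nat_lit 0x103423de16fba) (.leaf (nat_lit 0x103423de14ffa) (nat_lit 1795))
 (.leaf (nat_lit 0x103423de16fba) (nat_lit 1794))
))) (.node (nat_lit 0x103423df16ffa) (.node (nat_lit 0x103423df14ffa) (.node (nat_lit 0x103423df14fba) (.leaf (nat_lit 0x103423de16ffa) (nat_lit 1795))
 (.leaf (nat_lit 0x103423df14fba) (nat_lit 1793))
) (.node (nat_lit 0x103423df16fba) (.leaf (nat_lit 0x103423df14ffa) (nat_lit 1794))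
 (.leaf (nat_lit 0x103423df16fba) (nat_lit 1539))
)) (.node (nat_lit 0x103423f614fdc) (.node (nat_lit 0x103423f614f9c) (.leaf (nat_lit 0x103423df16ffa) (nat_lit 1795))
 (.leaf (nat_lit 0x103423f614f9c) (nat_lit 1027))
) (.node (nat_lit 0x103423f616f9c) (.leaf (nat_lit 0x103423f614fdc) (nat_lit 1280))
 (.leaf (nat_lit 0x103423f616f9c) (nat_lit 1024))
)))) (.node (nat_lit 0x10344c5c172b3) (.node (nat_lit 0x103423f716f9c) (.node (nat_lit 0x103423f714f9c) (.leaf (nat_lit 0x103423f616fdc) (nat_lit 772))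
 (.node (nat_lit 0x103423f714fdc) (.leaf (nat_lit 0x103423f714f9c) (nat_lit 1539))
 (.leaf (nat_lit 0x103423f714fdc) (nat_lit 1283))
)) (.node (nat_lit 0x10344c5c152b3) (.node (nat_lit 0x103423f716fdc) (.leaf (nat_lit 0x103423f716f9c) (nat_lit 1283))
 (.leaf (nat_lit 0x103423f716fdc) (nat_lit 1539))
) (.node (nat_lit 0x10344c5c152f3) (.leaf (nat_lit 0x10344c5c152b3) (nat_lit 1795))
 (.leaf (nat_lit 0x10344c5c152f3) (nat_lit 1796))
))) (.node (nat_lit 0x10344c5d172b3) (.node (nat_lit 0x10344c5d152b3) (.node (nat_lit 0x10344c5c172f3) (.leaf (nat_lit 0x10344c5c172b3) (nat_lit 1795))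
 (.leaf (nat_lit 0x10344c5c172f3) (nat_lit 2048))
) (.node (nat_lit 0x10344c5d152f3) (.leaf (nat_lit 0x10344c5d152b3) (nat_lit 1792))
 (.leaf (nat_lit 0x10344c5d152f3) (nat_lit 1539))
)) (.node (nat_lit 0x10344c5e152ba) (.node (nat_lit 0x10344c5d172f3) (.leaf (nat_lit 0x10344c5d172b3) (nat_lit 1795))
 (.leaf (nat_lit 0x10344c5d172f3) (nat_lit 2051))
) (.node (nat_lit 0x10344c5e152fa) (.leaf (nat_lit 0x10344c5e152ba) (nat_lit 1284))
 (.leaf (nat_lit 0x10344c5e152fa) (nat_lit 1536))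
))))) (.node (nat_lit 0x10344cde152fa) (.node (nat_lit 0x10344cdc152f3) (.node (nat_lit 0x10344c5f152fa) (.node (nat_lit 0x10344c5e172fa) (.leaf (nat_lit 0x10344c5e172ba) (nat_lit 1539))
 (.node (nat_lit 0x10344c5f152ba) (.leaf (nat_lit 0x10344c5e172fa) (nat_lit 1539))
 (.leaf (nat_lit 0x10344c5f152ba) (nat_lit 1540))
)) (.node (nat_lit 0x10344c5f172fa) (.node (nat_lit 0x10344c5f172ba) (.leaf (nat_lit 0x10344c5f152fa) (nat_lit 1796))
 (.leaf (nat_lit 0x10344c5f172ba) (nat_lit 1793))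
) (.node (nat_lit 0x10344cdc152b3) (.leaf (nat_lit 0x10344c5f172fa) (nat_lit 1795))
 (.leaf (nat_lit 0x10344cdc152b3) (nat_lit 1796))
))) (.node (nat_lit 0x10344cdd152f3) (.node (nat_lit 0x10344cdc172f3) (.node (nat_lit 0x10344cdc172b3) (.leaf (nat_lit 0x10344cdc152f3) (nat_lit 2052))
 (.leaf (nat_lit 0x10344cdc172b3) (nat_lit 2052))
) (.node (nat_lit 0x10344cdd152b3) (.leaf (nat_lit 0x10344cdc172f3) (nat_lit 1795))
 (.leaf (nat_lit 0x10344cdd152b3) (nat_lit 1796))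
)) (.node (nat_lit 0x10344cdd172f3) (.node (nat_lit 0x10344cdd172b3) (.leaf (nat_lit 0x10344cdd152f3) (nat_lit 1796))
 (.leaf (nat_lit 0x10344cdd172b3) (nat_lit 2051))
) (.node (nat_lit 0x10344cde152ba) (.leaf (nat_lit 0x10344cdd172f3) (nat_lit 1796))
 (.leaf (nat_lit 0x10344cde152ba) (nat_lit 1537))
)))) (.node (nat_lit 0x1034501014101) (.node (nat_lit 0x10344cdf152ba) (.node (nat_lit 0x10344cde172ba) (.leaf (nat_lit 0x10344cde152fa) (nat_lit 1539))
 (.node (nat_lit 0x10344cde172fa) (.leaf (nat_lit 0x10344cde172ba) (nat_lit 1796))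
 (.leaf (nat_lit 0x10344cde172fa) (nat_lit 1795))
)) (.node (nat_lit 0x10344cdf172ba) (.node (nat_lit 0x10344cdf152fa) (.leaf (nat_lit 0x10344cdf152ba) (nat_lit 1795))
 (.leaf (nat_lit 0x10344cdf152fa) (nat_lit 1795))
) (.node (nat_lit 0x10344cdf172fa) (.leaf (nat_lit 0x10344cdf172ba) (nat_lit 1540))
 (.leaf (nat_lit 0x10344cdf172fa) (nat_lit 1539))
))) (.node (nat_lit 0x1034501114101) (.node (nat_lit 0x1034501016101) (.node (nat_lit 0x1034501014141) (.leaf (nat_lit 0x1034501014101) (nat_lit 1539))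
 (.leaf (nat_lit 0x1034501014141) (nat_lit 1284))
) (.node (nat_lit 0x1034501016141) (.leaf (nat_lit 0x1034501016101) (nat_lit 1540))
 (.leaf (nat_lit 0x1034501016141) (nat_lit 1284))
)) (.node (nat_lit 0x1034501116101) (.node (nat_lit 0x1034501114141) (.leaf (nat_lit 0x1034501114101) (nat_lit 1284))
 (.leaf (nat_lit 0x1034501114141) (nat_lit 1283))
) (.node (nat_lit 0x1034501116141) (.leaf (nat_lit 0x1034501116101) (nat_lit 1028))
 (.leaf (nat_lit 0x1034501116141) (nat_lit 1284))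
))))))) (.node (nat_lit 0x1034625d14b33) (.node (nat_lit 0x1034581116181) (.node (nat_lit 0x1034509116141) (.node (nat_lit 0x1034506516154) (.node (nat_lit 0x1034506416154) (.node (nat_lit 0x1034506414154) (.leaf (nat_lit 0x1034506414114) (nat_lit 1538))
 (.node (nat_lit 0x1034506416114) (.leaf (nat_lit 0x1034506414154) (nat_lit 1282))
 (.leaf (nat_lit 0x1034506416114) (nat_lit 1538))
)) (.node (nat_lit 0x1034506514154) (.node (nat_lit 0x1034506514114) (.leaf (nat_lit 0x1034506416154) (nat_lit 1794))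
 (.leaf (nat_lit 0x1034506514114) (nat_lit 1794))
) (.node (nat_lit 0x1034506516114) (.leaf (nat_lit 0x1034506514154) (nat_lit 1538))
 (.leaf (nat_lit 0x1034506516114) (nat_lit 1794))
))) (.node (nat_lit 0x1034509016141) (.node (nat_lit 0x1034509014141) (.node (nat_lit 0x1034509014101) (.leaf (nat_lit 0x1034506516154) (nat_lit 1793))
 (.leaf (nat_lit 0x1034509014101) (nat_lit 1284))
) (.node (nat_lit 0x1034509016101) (.leaf (nat_lit 0x1034509014141) (nat_lit 1282))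
 (.leaf (nat_lit 0x1034509016101) (nat_lit 1536))
)) (.node (nat_lit 0x1034509114141) (.node (nat_lit 0x1034509114101) (.leaf (nat_lit 0x1034509016141) (nat_lit 1282))
 (.leaf (nat_lit 0x1034509114101) (nat_lit 1538))
) (.node (nat_lit 0x1034509116101) (.leaf (nat_lit 0x1034509114141) (nat_lit 1282))
 (.leaf (nat_lit 0x1034509116101) (nat_lit 1026))
)))) (.node (nat_lit 0x103450e516114) (.node (nat_lit 0x103450e416114) (.node (nat_lit 0x103450e414114) (.leaf (nat_lit 0x1034509116141) (nat_lit 1280))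
 (.node (nat_lit 0x103450e414154) (.leaf (nat_lit 0x103450e414114) (nat_lit 1795))
 (.leaf (nat_lit 0x103450e414154) (nat_lit 1537))
)) (.node (nat_lit 0x103450e514114) (.node (nat_lit 0x103450e416154) (.leaf (nat_lit 0x103450e416114) (nat_lit 1793))
 (.leaf (nat_lit 0x103450e416154) (nat_lit 1794))
) (.node (nat_lit 0x103450e514154) (.leaf (nat_lit 0x103450e514114) (nat_lit 1792))
 (.leaf (nat_lit 0x103450e514154) (nat_lit 1538))
))) (.node (nat_lit 0x1034581016181) (.node (nat_lit 0x1034581014181) (.node (nat_lit 0x103450e516154) (.leaf (nat_lit 0x103450e516114) (nat_lit 1794))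
 (.leaf (nat_lit 0x103450e516154) (nat_lit 1538))
) (.node (nat_lit 0x10345810141c1) (.leaf (nat_lit 0x1034581014181) (nat_lit 1027))
 (.leaf (nat_lit 0x10345810141c1) (nat_lit 770))
)) (.node (nat_lit 0x1034581114181) (.node (nat_lit 0x10345810161c1) (.leaf (nat_lit 0x1034581016181) (nat_lit 515))
 (.leaf (nat_lit 0x10345810161c1) (nat_lit 768))
) (.node (nat_lit 0x10345811141c1) (.leaf (nat_lit 0x1034581114181) (nat_lit 1024))
 (.leaf (nat_lit 0x10345811141c1) (nat_lit 771))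
))))) (.node (nat_lit 0x10345891141c1) (.node (nat_lit 0x10345877141dc) (.node (nat_lit 0x10345876141dc) (.node (nat_lit 0x10345811161c1) (.leaf (nat_lit 0x1034581116181) (nat_lit 1026))
 (.node (nat_lit 0x103458761419c) (.leaf (nat_lit 0x10345811161c1) (nat_lit 771))
 (.leaf (nat_lit 0x103458761419c) (nat_lit 1537))
)) (.node (nat_lit 0x10345876161dc) (.node (nat_lit 0x103458761619c) (.leaf (nat_lit 0x10345876141dc) (nat_lit 1793))
 (.leaf (nat_lit 0x103458761619c) (nat_lit 1537))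
) (.node (nat_lit 0x103458771419c) (.leaf (nat_lit 0x10345876161dc) (nat_lit 1281))
 (.leaf (nat_lit 0x103458771419c) (nat_lit 1536))
))) (.node (nat_lit 0x10345890141c1) (.node (nat_lit 0x10345877161dc) (.node (nat_lit 0x103458771619c) (.leaf (nat_lit 0x10345877141dc) (nat_lit 1282))
 (.leaf (nat_lit 0x103458771619c) (nat_lit 1538))
) (.node (nat_lit 0x1034589014181) (.leaf (nat_lit 0x10345877161dc) (nat_lit 1792))
 (.leaf (nat_lit 0x1034589014181) (nat_lit 1281))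
)) (.node (nat_lit 0x10345890161c1) (.node (nat_lit 0x1034589016181) (.leaf (nat_lit 0x10345890141c1) (nat_lit 1025))
 (.leaf (nat_lit 0x1034589016181) (nat_lit 769))
) (.node (nat_lit 0x1034589114181) (.leaf (nat_lit 0x10345890161c1) (nat_lit 1025))
 (.leaf (nat_lit 0x1034589114181) (nat_lit 1281))
)))) (.node (nat_lit 0x103458f71419c) (.node (nat_lit 0x103458f61419c) (.node (nat_lit 0x1034589116181) (.leaf (nat_lit 0x10345891141c1) (nat_lit 1025))
 (.node (nat_lit 0x10345891161c1) (.leaf (nat_lit 0x1034589116181) (nat_lit 1281))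
 (.leaf (nat_lit 0x10345891161c1) (nat_lit 1025))
)) (.node (nat_lit 0x103458f61619c) (.node (nat_lit 0x103458f6141dc) (.leaf (nat_lit 0x103458f61419c) (nat_lit 1282))
 (.leaf (nat_lit 0x103458f6141dc) (nat_lit 1536))
) (.node (nat_lit 0x103458f6161dc) (.leaf (nat_lit 0x103458f61619c) (nat_lit 1280))
 (.leaf (nat_lit 0x103458f6161dc) (nat_lit 1026))
))) (.node (nat_lit 0x1034625c14b33) (.node (nat_lit 0x103458f71619c) (.node (nat_lit 0x103458f7141dc) (.leaf (nat_lit 0x103458f71419c) (nat_lit 1539))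
 (.leaf (nat_lit 0x103458f7141dc) (nat_lit 1283))
) (.node (nat_lit 0x103458f7161dc) (.leaf (nat_lit 0x103458f71619c) (nat_lit 1793))
 (.leaf (nat_lit 0x103458f7161dc) (nat_lit 1794))
)) (.node (nat_lit 0x1034625c16b33) (.node (nat_lit 0x1034625c14b73) (.leaf (nat_lit 0x1034625c14b33) (nat_lit 2307))
 (.leaf (nat_lit 0x1034625c14b73) (nat_lit 2050))
) (.node (nat_lit 0x1034625c16b73) (.leaf (nat_lit 0x1034625c16b33) (nat_lit 2051))
 (.leaf (nat_lit 0x1034625c16b73) (nat_lit 2052))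
)))))) (.node (nat_lit 0x1034635e16fba) (.node (nat_lit 0x103462dc16b73) (.node (nat_lit 0x1034626416b54) (.node (nat_lit 0x1034625d16b73) (.node (nat_lit 0x1034625d14b73) (.leaf (nat_lit 0x1034625d14b33) (nat_lit 2051))
 (.node (nat_lit 0x1034625d16b33) (.leaf (nat_lit 0x1034625d14b73) (nat_lit 2307))
 (.leaf (nat_lit 0x1034625d16b33) (nat_lit 2308))
)) (.node (nat_lit 0x1034626414b54) (.node (nat_lit 0x1034626414b14) (.leaf (nat_lit 0x1034625d16b73) (nat_lit 2050))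
 (.leaf (nat_lit 0x1034626414b14) (nat_lit 1284))
) (.node (nat_lit 0x1034626416b14) (.leaf (nat_lit 0x1034626414b54) (nat_lit 1028))
 (.leaf (nat_lit 0x1034626416b14) (nat_lit 1284))
))) (.node (nat_lit 0x1034626516b54) (.node (nat_lit 0x1034626514b54) (.node (nat_lit 0x1034626514b14) (.leaf (nat_lit 0x1034626416b54) (nat_lit 1536))
 (.leaf (nat_lit 0x1034626514b14) (nat_lit 1540))
) (.node (nat_lit 0x1034626516b14) (.leaf (nat_lit 0x1034626514b54) (nat_lit 1284))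
 (.leaf (nat_lit 0x1034626516b14) (nat_lit 1540))
)) (.node (nat_lit 0x103462dc14b73) (.node (nat_lit 0x103462dc14b33) (.leaf (nat_lit 0x1034626516b54) (nat_lit 1539))
 (.leaf (nat_lit 0x103462dc14b33) (nat_lit 2050))
) (.node (nat_lit 0x103462dc16b33) (.leaf (nat_lit 0x103462dc14b73) (nat_lit 2050))
 (.leaf (nat_lit 0x103462dc16b33) (nat_lit 2304))
)))) (.node (nat_lit 0x103462e416b14) (.node (nat_lit 0x103462dd16b33) (.node (nat_lit 0x103462dd14b33) (.leaf (nat_lit 0x103462dc16b73) (nat_lit 2052))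
 (.node (nat_lit 0x103462dd14b73) (.leaf (nat_lit 0x103462dd14b33) (nat_lit 2050))
 (.leaf (nat_lit 0x103462dd14b73) (nat_lit 2051))
)) (.node (nat_lit 0x103462e414b14) (.node (nat_lit 0x103462dd16b73) (.leaf (nat_lit 0x103462dd16b33) (nat_lit 2308))
 (.leaf (nat_lit 0x103462dd16b73) (nat_lit 2308))
) (.node (nat_lit 0x103462e414b54) (.leaf (nat_lit 0x103462e414b14) (nat_lit 1536))
 (.leaf (nat_lit 0x103462e414b54) (nat_lit 1284))
))) (.node (nat_lit 0x103462e516b14) (.node (nat_lit 0x103462e514b14) (.node (nat_lit 0x103462e416b54) (.leaf (nat_lit 0x103462e416b14) (nat_lit 1537))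
 (.leaf (nat_lit 0x103462e416b54) (nat_lit 1284))
) (.node (nat_lit 0x103462e514b54) (.leaf (nat_lit 0x103462e514b14) (nat_lit 1539))
 (.leaf (nat_lit 0x103462e514b54) (nat_lit 1540))
)) (.node (nat_lit 0x1034635e14fba) (.node (nat_lit 0x103462e516b54) (.leaf (nat_lit 0x103462e516b14) (nat_lit 1539))
 (.leaf (nat_lit 0x103462e516b54) (nat_lit 1540))
) (.node (nat_lit 0x1034635e14ffa) (.leaf (nat_lit 0x1034635e14fba) (nat_lit 1795))
 (.leaf (nat_lit 0x1034635e14ffa) (nat_lit 1794))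
))))) (.node (nat_lit 0x103463de14ffa) (.node (nat_lit 0x1034637614fdc) (.node (nat_lit 0x1034635f14ffa) (.node (nat_lit 0x1034635e16ffa) (.leaf (nat_lit 0x1034635e16fba) (nat_lit 2049))
 (.node (nat_lit 0x1034635f14fba) (.leaf (nat_lit 0x1034635e16ffa) (nat_lit 2050))
 (.leaf (nat_lit 0x1034635f14fba) (nat_lit 1794))
)) (.node (nat_lit 0x1034635f16ffa) (.node (nat_lit 0x1034635f16fba) (.leaf (nat_lit 0x1034635f14ffa) (nat_lit 2051))
 (.leaf (nat_lit 0x1034635f16fba) (nat_lit 1794))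
) (.node (nat_lit 0x1034637614f9c) (.leaf (nat_lit 0x1034635f16ffa) (nat_lit 2051))
 (.leaf (nat_lit 0x1034637614f9c) (nat_lit 1539))
))) (.node (nat_lit 0x1034637714fdc) (.node (nat_lit 0x1034637616fdc) (.node (nat_lit 0x1034637616f9c) (.leaf (nat_lit 0x1034637614fdc) (nat_lit 1283))
 (.leaf (nat_lit 0x1034637616f9c) (nat_lit 1283))
) (.node (nat_lit 0x1034637714f9c) (.leaf (nat_lit 0x1034637616fdc) (nat_lit 1539))
 (.leaf (nat_lit 0x1034637714f9c) (nat_lit 1280))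
)) (.node (nat_lit 0x1034637716fdc) (.node (nat_lit 0x1034637716f9c) (.leaf (nat_lit 0x1034637714fdc) (nat_lit 1028))
 (.leaf (nat_lit 0x1034637716f9c) (nat_lit 1283))
) (.node (nat_lit 0x103463de14fba) (.leaf (nat_lit 0x1034637716fdc) (nat_lit 1536))
 (.leaf (nat_lit 0x103463de14fba) (nat_lit 2051))
)))) (.node (nat_lit 0x103463f614f9c) (.node (nat_lit 0x103463df14fba) (.node (nat_lit 0x103463de16fba) (.leaf (nat_lit 0x103463de14ffa) (nat_lit 1795))
 (.node (nat_lit 0x103463de16ffa) (.leaf (nat_lit 0x103463de16fba) (nat_lit 1794))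
 (.leaf (nat_lit 0x103463de16ffa) (nat_lit 2051))
)) (.node (nat_lit 0x103463df16fba) (.node (nat_lit 0x103463df14ffa) (.leaf (nat_lit 0x103463df14fba) (nat_lit 1794))
 (.leaf (nat_lit 0x103463df14ffa) (nat_lit 2051))
) (.node (nat_lit 0x103463df16ffa) (.leaf (nat_lit 0x103463df16fba) (nat_lit 2050))
 (.leaf (nat_lit 0x103463df16ffa) (nat_lit 1795))
))) (.node (nat_lit 0x103463f714f9c) (.node (nat_lit 0x103463f616f9c) (.node (nat_lit 0x103463f614fdc) (.leaf (nat_lit 0x103463f614f9c) (nat_lit 1283))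
 (.leaf (nat_lit 0x103463f614fdc) (nat_lit 1537))
) (.node (nat_lit 0x103463f616fdc) (.leaf (nat_lit 0x103463f616f9c) (nat_lit 1536))
 (.leaf (nat_lit 0x103463f616fdc) (nat_lit 1283))
)) (.node (nat_lit 0x103463f716f9c) (.node (nat_lit 0x103463f714fdc) (.leaf (nat_lit 0x103463f714f9c) (nat_lit 1028))
 (.leaf (nat_lit 0x103463f714fdc) (nat_lit 772))
) (.node (nat_lit 0x103463f716fdc) (.leaf (nat_lit 0x103463f716f9c) (nat_lit 1284))
 (.leaf (nat_lit 0x103463f716fdc) (nat_lit 1539))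
))))))))))))

theorem P7_ok : genOK A7 [(nat_lit 0x1010101010141), (nat_lit 0x1010109010101), (nat_lit 0x1010581110181), (nat_lit 0x1034101116101), (nat_lit 0x1009ab6664f1d)] P7_t (nat_lit 3840) = true := by decide +kernel

noncomputable def J07_t : ST :=
(.node (nat_lit 0x1034101116101) (.node (nat_lit 0x1010581110181) (.leaf (nat_lit 0x1010101010101) (nat_lit 0))
 (.leaf (nat_lit 0x1010581110181) (nat_lit 256))
) (.node (nat_lit 0x1034581016181) (.leaf (nat_lit 0x1034101116101) (nat_lit 257))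
 (.leaf (nat_lit 0x1034581016181) (nat_lit 513))
))

theorem J07_ok : genOK A7 [(nat_lit 0x1010581110181), (nat_lit 0x1034101116101)] J07_t (nat_lit 4) = true := by decide +kernel

noncomputable def V7_t : ST :=
(.node (nat_lit 0x1030101012101) (.node (nat_lit 0x1010501112101) (.leaf (nat_lit 0x1010101010101) (nat_lit 0))
 (.leaf (nat_lit 0x1010501112101) (nat_lit 257))
) (.node (nat_lit 0x1030501110101) (.leaf (nat_lit 0x1030101012101) (nat_lit 256))
 (.leaf (nat_lit 0x1030501110101) (nat_lit 513))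
))

theorem V7_ok : genOK A7 [(nat_lit 0x1030101012101), (nat_lit 0x1010501112101)] V7_t (nat_lit 4) = true := by decide +kernel

noncomputable def U7_t : ST :=
(.node (nat_lit 0x1010109010101) (.node (nat_lit 0x1010101110101) (.node (nat_lit 0x1010101012101) (.node (nat_lit 0x1010101010141) (.leaf (nat_lit 0x1010101010101) (nat_lit 0))
 (.leaf (nat_lit 0x1010101010141) (nat_lit 256))
) (.node (nat_lit 0x1010101012141) (.leaf (nat_lit 0x1010101012101) (nat_lit 257))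
 (.leaf (nat_lit 0x1010101012141) (nat_lit 513))
)) (.node (nat_lit 0x1010101112101) (.node (nat_lit 0x1010101110141) (.leaf (nat_lit 0x1010101110101) (nat_lit 258))
 (.leaf (nat_lit 0x1010101110141) (nat_lit 514))
) (.node (nat_lit 0x1010101112141) (.leaf (nat_lit 0x1010101112101) (nat_lit 514))
 (.leaf (nat_lit 0x1010101112141) (nat_lit 770))
))) (.node (nat_lit 0x1010109110101) (.node (nat_lit 0x1010109012101) (.node (nat_lit 0x1010109010141) (.leaf (nat_lit 0x1010109010101) (nat_lit 259))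
 (.leaf (nat_lit 0x1010109010141) (nat_lit 515))
) (.node (nat_lit 0x1010109012141) (.leaf (nat_lit 0x1010109012101) (nat_lit 515))
 (.leaf (nat_lit 0x1010109012141) (nat_lit 771))
)) (.node (nat_lit 0x1010109112101) (.node (nat_lit 0x1010109110141) (.leaf (nat_lit 0x1010109110101) (nat_lit 515))
 (.leaf (nat_lit 0x1010109110141) (nat_lit 771))
) (.node (nat_lit 0x1010109112141) (.leaf (nat_lit 0x1010109112101) (nat_lit 771))
 (.leaf (nat_lit 0x1010109112141) (nat_lit 1027))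
))))

theorem U7_ok : genOK A7 [(nat_lit 0x1010101010141), (nat_lit 0x1010101012101), (nat_lit 0x1010101110101), (nat_lit 0x1010109010101)] U7_t (nat_lit 16) = true := by decide +kernel

noncomputable def Z7_t : ST :=
(.node (nat_lit 0x1010501010101) (.node (nat_lit 0x1010101110141) (.node (nat_lit 0x1010101012141) (.leaf (nat_lit 0x1010101010141) (nat_lit 514))
 (.node (nat_lit 0x1010101110101) (.leaf (nat_lit 0x1010101012141) (nat_lit 260))
 (.leaf (nat_lit 0x1010101110101) (nat_lit 0))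
)) (.node (nat_lit 0x1010109012141) (.node (nat_lit 0x1010101112141) (.leaf (nat_lit 0x1010101110141) (nat_lit 771))
 (.leaf (nat_lit 0x1010101112141) (nat_lit 515))
) (.node (nat_lit 0x1010109112101) (.leaf (nat_lit 0x1010109012141) (nat_lit 1283))
 (.leaf (nat_lit 0x1010109112101) (nat_lit 1282))
))) (.node (nat_lit 0x1030109112141) (.node (nat_lit 0x1010509112101) (.node (nat_lit 0x1010509010141) (.leaf (nat_lit 0x1010501010101) (nat_lit 1540))
 (.leaf (nat_lit 0x1010509010141) (nat_lit 1027))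
) (.node (nat_lit 0x1030109112101) (.leaf (nat_lit 0x1010509112101) (nat_lit 1028))
 (.leaf (nat_lit 0x1030109112101) (nat_lit 1282))
)) (.node (nat_lit 0x1030509110141) (.node (nat_lit 0x1030501112101) (.leaf (nat_lit 0x1030109112141) (nat_lit 1026))
 (.leaf (nat_lit 0x1030501112101) (nat_lit 1540))
) (.node (nat_lit 0x1030509112101) (.leaf (nat_lit 0x1030509110141) (nat_lit 772))
 (.leaf (nat_lit 0x1030509112101) (nat_lit 1028))
))))

theorem Z7_ok : orbOK A7 [(nat_lit 0x1010101010141), (nat_lit 0x1010109010101), (nat_lit 0x1010581110181), (nat_lit 0x1034101116101), (nat_lit 0x1009ab6664f1d)] (nat_lit 0x1010101110101) Z7_t (nat_lit 15) = true := by decide +kernel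

noncomputable def Y7_t : ST :=
(.node (nat_lit 0x1029be2a678af) (.node (nat_lit 0x100d6abb44bae) (.node (nat_lit 0x1003f7a8ffce6) (.node (nat_lit 0x100362dddab73) (.node (nat_lit 0x100322dcd8b33) (.leaf (nat_lit 0x100322b8d8b67) (nat_lit 1284))
 (.node (nat_lit 0x10036239dab67) (.leaf (nat_lit 0x100322dcd8b33) (nat_lit 772))
 (.leaf (nat_lit 0x10036239dab67) (nat_lit 1028))
)) (.node (nat_lit 0x1003ccdefd2ba) (.node (nat_lit 0x10038cdffd2fa) (.leaf (nat_lit 0x100362dddab73) (nat_lit 1028))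
 (.leaf (nat_lit 0x10038cdffd2fa) (nat_lit 1282))
) (.node (nat_lit 0x1003f729fdce6) (.leaf (nat_lit 0x1003ccdefd2ba) (nat_lit 1282))
 (.leaf (nat_lit 0x1003f729fdce6) (nat_lit 1538))
))) (.node (nat_lit 0x1009fe2a658ef) (.node (nat_lit 0x1009e3f666f9c) (.node (nat_lit 0x1009beab658af) (.leaf (nat_lit 0x1003f7a8ffce6) (nat_lit 1538))
 (.leaf (nat_lit 0x1009beab658af) (nat_lit 1282))
) (.node (nat_lit 0x1009e3f764fdc) (.leaf (nat_lit 0x1009e3f666f9c) (nat_lit 771))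
 (.leaf (nat_lit 0x1009e3f764fdc) (nat_lit 772))
)) (.node (nat_lit 0x100d10e546154) (.node (nat_lit 0x100d10e446114) (.leaf (nat_lit 0x1009fe2a658ef) (nat_lit 1538))
 (.leaf (nat_lit 0x100d10e446114) (nat_lit 771))
) (.node (nat_lit 0x100d6a3a46bee) (.leaf (nat_lit 0x100d10e546154) (nat_lit 770))
 (.leaf (nat_lit 0x100d6a3a46bee) (nat_lit 1028))
)))) (.node (nat_lit 0x1023625dd8b73) (.node (nat_lit 0x1014581016181) (.node (nat_lit 0x1014101016101) (.leaf (nat_lit 0x100d6abb44bae) (nat_lit 1284))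
 (.node (nat_lit 0x1014101116101) (.leaf (nat_lit 0x1014101016101) (nat_lit 513))
 (.leaf (nat_lit 0x1014101116101) (nat_lit 257))
)) (.node (nat_lit 0x10232238dab27) (.node (nat_lit 0x1014581114181) (.leaf (nat_lit 0x1014581016181) (nat_lit 1796))
 (.leaf (nat_lit 0x1014581114181) (nat_lit 1540))
) (.node (nat_lit 0x1023225cdab33) (.leaf (nat_lit 0x10232238dab27) (nat_lit 1284))
 (.leaf (nat_lit 0x1023225cdab33) (nat_lit 1028))
))) (.node (nat_lit 0x1023b7a9fdca6) (.node (nat_lit 0x10238c5eff2ba) (.node (nat_lit 0x102362b9d8b27) (.leaf (nat_lit 0x1023625dd8b73) (nat_lit 1028))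
 (.leaf (nat_lit 0x102362b9d8b27) (nat_lit 1284))
) (.node (nat_lit 0x1023b728ffca6) (.leaf (nat_lit 0x10238c5eff2ba) (nat_lit 1282))
 (.leaf (nat_lit 0x1023b728ffca6) (nat_lit 1282))
)) (.node (nat_lit 0x1029a37666f9c) (.node (nat_lit 0x1023cc5fff2fa) (.leaf (nat_lit 0x1023b7a9fdca6) (nat_lit 1538))
 (.leaf (nat_lit 0x1023cc5fff2fa) (nat_lit 1026))
) (.node (nat_lit 0x1029a37764fdc) (.leaf (nat_lit 0x1029a37666f9c) (nat_lit 515))
 (.leaf (nat_lit 0x1029a37764fdc) (nat_lit 516))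
))))) (.node (nat_lit 0x10302ace10bbb) (.node (nat_lit 0x10300dcc11672) (.node (nat_lit 0x102d106546154) (.node (nat_lit 0x1029feab678ef) (.leaf (nat_lit 0x1029be2a678af) (nat_lit 1282))
 (.node (nat_lit 0x102d106446114) (.leaf (nat_lit 0x1029feab678ef) (nat_lit 1538))
 (.leaf (nat_lit 0x102d106446114) (nat_lit 1027))
)) (.node (nat_lit 0x102d2abb44bee) (.node (nat_lit 0x102d2a3a46bae) (.leaf (nat_lit 0x102d106546154) (nat_lit 1026))
 (.leaf (nat_lit 0x102d2a3a46bae) (nat_lit 1284))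
) (.node (nat_lit 0x10300d4c13632) (.leaf (nat_lit 0x102d2abb44bee) (nat_lit 1028))
 (.leaf (nat_lit 0x10300d4c13632) (nat_lit 1539))
))) (.node (nat_lit 0x103010f412155) (.node (nat_lit 0x1030107412155) (.node (nat_lit 0x1030107412115) (.leaf (nat_lit 0x10300dcc11672) (nat_lit 1283))
 (.leaf (nat_lit 0x1030107412115) (nat_lit 770))
) (.node (nat_lit 0x103010f412115) (.leaf (nat_lit 0x1030107412155) (nat_lit 770))
 (.leaf (nat_lit 0x103010f412115) (nat_lit 770))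
)) (.node (nat_lit 0x1030181012181) (.node (nat_lit 0x1030181010181) (.leaf (nat_lit 0x103010f412155) (nat_lit 514))
 (.leaf (nat_lit 0x1030181010181) (nat_lit 1796))
) (.node (nat_lit 0x10302a4e12bbb) (.leaf (nat_lit 0x1030181012181) (nat_lit 1796))
 (.leaf (nat_lit 0x10302a4e12bbb) (nat_lit 1027))
)))) (.node (nat_lit 0x10306a4e10bfb) (.node (nat_lit 0x10304d4c13672) (.node (nat_lit 0x10302b6610f5d) (.leaf (nat_lit 0x10302ace10bbb) (nat_lit 1283))
 (.node (nat_lit 0x10302b6612f1d) (.leaf (nat_lit 0x10302b6610f5d) (nat_lit 260))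
 (.leaf (nat_lit 0x10302b6612f1d) (nat_lit 516))
)) (.node (nat_lit 0x1030581010181) (.node (nat_lit 0x10304dcc11632) (.leaf (nat_lit 0x10304d4c13672) (nat_lit 1284))
 (.leaf (nat_lit 0x10304dcc11632) (nat_lit 1540))
) (.node (nat_lit 0x1030581012181) (.leaf (nat_lit 0x1030581010181) (nat_lit 1540))
 (.leaf (nat_lit 0x1030581012181) (nat_lit 1540))
))) (.node (nat_lit 0x1034101016101) (.node (nat_lit 0x10306be610f5d) (.node (nat_lit 0x10306ace12bfb) (.leaf (nat_lit 0x10306a4e10bfb) (nat_lit 1283))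
 (.leaf (nat_lit 0x10306ace12bfb) (nat_lit 1283))
) (.node (nat_lit 0x10306be612f1d) (.leaf (nat_lit 0x10306be610f5d) (nat_lit 516))
 (.leaf (nat_lit 0x10306be612f1d) (nat_lit 513))
)) (.node (nat_lit 0x1034181016181) (.node (nat_lit 0x1034101116101) (.leaf (nat_lit 0x1034101016101) (nat_lit 256))
 (.leaf (nat_lit 0x1034101116101) (nat_lit 0))
) (.node (nat_lit 0x1034181114181) (.leaf (nat_lit 0x1034181016181) (nat_lit 1540))
 (.leaf (nat_lit 0x1034181114181) (nat_lit 1796))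
))))))

theorem Y7_ok : orbOK A7 [(nat_lit 0x1010101010141), (nat_lit 0x1010109010101), (nat_lit 0x1010581110181), (nat_lit 0x1034101116101), (nat_lit 0x1009ab6664f1d)] (nat_lit 0x1034101116101) Y7_t (nat_lit 60) = true := by decide +kernel

end Cfsg.Agent.Rec.L52
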